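import Cfsg.Agent.FS.N.Sw.Seg
import Cfsg.Agent.FS.N.G.S9
import Cfsg.Agent.FS.N.G.L.L00
import Cfsg.Agent.FS.N.G.L.L01

/-! The filter on the pairs for the order 512, part 1 (generated; helper52, project FS) -/

set_option autoImplicit false
set_option maxRecDepth 100000
set_option Elab.async false

namespace Cfsg.Agent.FS.N.Sw

open G

noncomputable def j9_8_0 : List Job := [
  ⟨63, 0x43e1d0d8642e15098441e0d058240e0501, 0, 62, 0x6a01006c01006e01007001007201007401007601007801007a01007c01, []⟩]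

theorem t9_8_0 : jobs 8 S9 b8_8 j9_8_0 = true := by decide +kernel

noncomputable def j9_8_1 : List Job := [
  ⟨62, 0x621128a45a311a8e47e01028241a110a8643c3e1d0d8642e15098441e0d058240e0501, 0, 62, 0x6a01006c01007201007401007a01, []⟩]

theorem t9_8_1 : jobs 8 S9 b8_8 j9_8_1 = true := by decide +kernel

noncomputable def j9_8_2 : List Job := [
  ⟨61, 0x621128a45a311a8e47e01028241a110a8643d44a4542b964b45c2fd40a6552b160b65d2f504864523924964d27d00844423120944c2743e1d0d8642e15098441e0d058240e0501, 0, 68, 0x7201007a01008201, []⟩]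

theorem t9_8_2 : jobs 8 S9 b8_8 j9_8_2 = true := by decide +kernel

noncomputable def j9_8_3 : List Job := [
  ⟨60, 0x4904a26138b05a2e17c804222118a0522a15c3e1d0d8642e15098441e0d058240e0501, 0, 62, 0x6a01006c01006e01007001007201007401007a01007c01, []⟩]

theorem t9_8_3 : jobs 8 S9 b8_8 j9_8_3 = true := by decide +kernel

noncomputable def j9_8_4 : List Job := [
  ⟨59, 0x621128a45a311a8e47e01028241a110a8643c904a26138b05a2e17c804222118a0522a15c3e1d0d8642e15098441e0d058240e0501, 0, 62, 0x6a01006c01007201007a01, []⟩]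

theorem t9_8_4 : jobs 8 S9 b8_8 j9_8_4 = true := by decide +kernel

noncomputable def j9_8_5 : List Job := [
  ⟨58, 0x544a4542b964b45c2fd40a6552b160b65d2f504864523924964d27d00844423120944c274904a26138b05a2e17c804222118a0522a15c3e1d0d8642e15098441e0d058240e0501, 0, 62, 0x6a01006e01007201007a01, []⟩]

theorem t9_8_5 : jobs 8 S9 b8_8 j9_8_5 = true := by decide +kernel

noncomputable def j9_8_6 : List Job := [
  ⟨57, 0x4b05a2e17ca0522a15c904a2613c80422211c3e1d0d8642e15098441e0d058240e0501, 0, 62, 0x6a01006c01006e01007001007208007409007a01007c01, []⟩]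

theorem t9_8_6 : jobs 8 S9 b8_8 j9_8_6 = true := by decide +kernel

noncomputable def j9_8_7 : List Job := [
  ⟨56, 0x621128a45a311a8e47e01028241a110a8643cb05a2e17ca0522a15c904a2613c80422211c3e1d0d8642e15098441e0d058240e0501, 0, 72, 0x6a01006c01007218007619007a01007e00008001008801008a01008c01008e01009001, [(62, ⟨2162, 0x4380145000460004800820010200202004200000001, 0x18e2509828010401004⟩)]⟩]

theorem t9_8_7 : jobs 8 S9 b8_8 j9_8_7 = true := by decide +kernel

noncomputable def j9_8_8 : List Job := [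
  ⟨55, 0x564b45c2fd60b65d2f544a4542bd40a6552b43e1d0d8642e15098441e0d058240e0501, 0, 62, 0x6a10006e10007210007610007a01, []⟩]

theorem t9_8_8 : jobs 8 S9 b8_8 j9_8_8 = true := by decide +kernel

noncomputable def j9_8_9 : List Job := [
  ⟨54, 0x621128a45a311a8e47e01028241a110a8643d64b45c2fd60b65d2f544a4542bd40a6552b43e1d0d8642e15098441e0d058240e0501, 0, 104, 0x6a10006e10007210007610007a10007e10008201009201009601009801009e0100a20100a401, []⟩]

theorem t9_8_9 : jobs 8 S9 b8_8 j9_8_9 = true := by decide +kernel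

noncomputable def j9_8_10 : List Job := [
  ⟨53, 0x50c8e4926d088c48265048a4b27d00884a2743e1d0d8642e15098441e0d058240e0501, 0, 62, 0x6a01006c01006e01007001007201007401007601007801007a01007c01, []⟩]

theorem t9_8_10 : jobs 8 S9 b8_8 j9_8_10 = true := by decide +kernel

noncomputable def j9_8_11 : List Job := [
  ⟨52, 0x54cac582ed48ae592e544a85a2fd40aa5b2f43e1d0d8642e15098441e0d058240e0501, 0, 62, 0x6a10006e10007210007610007a01, []⟩]

theorem t9_8_11 : jobs 8 S9 b8_8 j9_8_11 = true := by decide +kernel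

noncomputable def j9_8_12 : List Job := [
  ⟨51, 0x621128a45a311a8e47e01028241a110a8643d4cac582ed48ae592e544a85a2fd40aa5b2f43e1d0d8642e15098441e0d058240e0501, 0, 64, 0x6a10006e10007210007610007a01, []⟩]

theorem t9_8_12 : jobs 8 S9 b8_8 j9_8_12 = true := by decide +kernel

noncomputable def j9_8_13 : List Job := [
  ⟨50, 0x621128a45a311a8e47e01028241a110a8643d24964d27d20944c27504864523d0084442343e1d0d8642e15098441e0d058240e0501, 0, 62, 0x6a01006c01007201007401007a01, []⟩]

theorem t9_8_13 : jobs 8 S9 b8_8 j9_8_13 = true := by decide +kernel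

noncomputable def j9_8_14 : List Job := [
  ⟨49, 0x564b45c2fd60b65d2f544a4542bd40a6552b4904a26138b05a2e17c804222118a0522a15c3e1d0d8642e15098441e0d058240e0501, 0, 75, 0x6a10006e10007210007610007a01007e01008001008801008c01009201, []⟩]

theorem t9_8_14 : jobs 8 S9 b8_8 j9_8_14 = true := by decide +kernel

noncomputable def j9_8_15 : List Job := [
  ⟨48, 0x621128a45a311a8e47e01028241a110a8643d0c8e4926d088c48265048a4b27d00884a274904a26138b05a2e17c804222118a0522a15c3e1d0d8642e15098441e0d058240e0501, 0, 75, 0x2401005401007801007a01008201008601008e01, []⟩]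

theorem t9_8_15 : jobs 8 S9 b8_8 j9_8_15 = true := by decide +kernel

noncomputable def j9_8_16 : List Job := [
  ⟨47, 0x524964d27d20944c27504864523d008444234944e2c174904c2d17c84462815480442915c3e1d0d8642e15098441e0d058240e0501, 0, 75, 0x6a01006c01006e01007001007218007419007a01007c01007e01008000008201008800008a01008c01008e00009001009401009601, [(70, ⟨2160, 0x478014b0004c0046c00020010200212004200000001, 0x18e230b02c010401006⟩), (67, ⟨2159, 0x4000042000480004800820010200212000200000001, 0x180220a028010401006⟩), (63, ⟨2158, 0x47000420005a0045800020000200012000200000001, 0x18d220a838010401006⟩)]⟩]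

theorem t9_8_16 : jobs 8 S9 b8_8 j9_8_16 = true := by decide +kernel

noncomputable def j9_8_17 : List Job := [
  ⟨46, 0x54cac582ed48ae592e544a85a2fd40aa5b2f43e1d0d8642e15098441e0d058240e0501, 0, 62, 0x6a10006e10007210007610007a01, []⟩]

theorem t9_8_17 : jobs 8 S9 b8_8 j9_8_17 = true := by decide +kernel

noncomputable def j9_8_18 : List Job := [
  ⟨45, 0x621128a45a311a8e47e01028241a110a8643d4cac582ed48ae592e544a85a2fd40aa5b2f43e1d0d8642e15098441e0d058240e0501, 0, 64, 0x6a10006e10007210007610007a01, []⟩]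

theorem t9_8_18 : jobs 8 S9 b8_8 j9_8_18 = true := by decide +kernel

noncomputable def j9_8_19 : List Job := [
  ⟨44, 0x54cac582ed48ae592e544a85a2fd40aa5b2f4904a26138b05a2e17c804222118a0522a15c3e1d0d8642e15098441e0d058240e0501, 0, 62, 0x6a10006e10007210007610007a01, []⟩]

theorem t9_8_19 : jobs 8 S9 b8_8 j9_8_19 = true := by decide +kernel

noncomputable def j9_8_20 : List Job := [
  ⟨43, 0x621128a45a311a8e47e01028241a110a8643d4cac582ed48ae592e544a85a2fd40aa5b2f4904a26138b05a2e17c804222118a0522a15c3e1d0d8642e15098441e0d058240e0501, 0, 110, 0x6a10006e10007210007610007a10007e10008201008a01009601009a0100a20100a40100ca0100ce0100d001, []⟩]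

theorem t9_8_20 : jobs 8 S9 b8_8 j9_8_20 = true := by decide +kernel

noncomputable def j9_8_21 : List Job := [
  ⟨42, 0x43e1d0d8642e15098441e0d058240e0501, 0, 36, 0x0, []⟩]

theorem t9_8_21 : jobs 8 S9 b8_8 j9_8_21 = true := by decide +kernel

noncomputable def j9_8_22 : List Job := [
  ⟨41, 0x544a6552b960b45c2f540a4542b164b65d2fd20924a259309a4e27d008242219108a4623c3e1d0d8642e15098441e0d058240e0501, 0, 64, 0x6c01007c01, []⟩]

theorem t9_8_22 : jobs 8 S9 b8_8 j9_8_22 = true := by decide +kernel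

noncomputable def j9_8_23 : List Job := [
  ⟨40, 0x43e1d0d8642e15098441e0d058240e0501, 0, 36, 0x0, []⟩]

theorem t9_8_23 : jobs 8 S9 b8_8 j9_8_23 = true := by decide +kernel

noncomputable def j9_8_24 : List Job := [
  ⟨39, 0x544a6552b960b45c2f540a4542b164b65d2fd20924a259309a4e27d008242219108a4623c3e1d0d8642e15098441e0d058240e0501, 0, 36, 0x0, []⟩]

theorem t9_8_24 : jobs 8 S9 b8_8 j9_8_24 = true := by decide +kernel

noncomputable def j9_8_25 : List Job := [
  ⟨38, 0x4884626138a8562e17c804224128a0522c16c3e1d0d8642e15098441e0d058240e0501, 0, 36, 0x0, []⟩]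

theorem t9_8_25 : jobs 8 S9 b8_8 j9_8_25 = true := by decide +kernel

noncomputable def j9_8_26 : List Job := [
  ⟨37, 0x544a6552b960b45c2f540a4542b164b65d2fd20924a259309a4e27d008242219108a4623c884626138a8562e17c804224128a0522c16c3e1d0d8642e15098441e0d058240e0501, 0, 68, 0x6c01007401008401, []⟩]

theorem t9_8_26 : jobs 8 S9 b8_8 j9_8_26 = true := by decide +kernel

noncomputable def j9_8_27 : List Job := [
  ⟨36, 0x4984e2e17c904a2c16c88462a15c80422814c3e1d0d8642e15098441e0d058240e0501, 0, 42, 0x4a01004c01004e01005401, []⟩]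

theorem t9_8_27 : jobs 8 S9 b8_8 j9_8_27 = true := by decide +kernel

noncomputable def j9_8_28 : List Job := [
  ⟨35, 0x524964c27520944d27d04864423500844523c3e1d0d8642e15098441e0d058240e0501, 0, 42, 0x4a01004c01004e01005001005201005401, []⟩]

theorem t9_8_28 : jobs 8 S9 b8_8 j9_8_28 = true := by decide +kernel

noncomputable def j9_8_29 : List Job := [
  ⟨34, 0x524964c27520944d27d04864423500844523c3e1d0d8642e15098441e0d058240e0501, 0, 62, 0x2201002401002601002801002a01002c01, []⟩]

theorem t9_8_29 : jobs 8 S9 b8_8 j9_8_29 = true := by decide +kernel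

noncomputable def j9_8_30 : List Job := [
  ⟨33, 0x5309a4e27d20924a25d108a4623d00824221c3e1d0d8642e15098441e0d058240e0501, 0, 36, 0x0, []⟩]

theorem t9_8_30 : jobs 8 S9 b8_8 j9_8_30 = true := by decide +kernel

noncomputable def j9_8_31 : List Job := [
  ⟨32, 0x5309a4e27d20924a25d108a4623d00824221c3e1d0d8642e15098441e0d058240e0501, 0, 36, 0x0, []⟩]

theorem t9_8_31 : jobs 8 S9 b8_8 j9_8_31 = true := by decide +kernel

noncomputable def j9_8_32 : List Job := [
  ⟨31, 0x524964c27520944d27d04864423500844523c884626138a8562e17c804224128a0522c16c3e1d0d8642e15098441e0d058240e0501, 0, 42, 0x4a01004e01005001005401, []⟩]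

theorem t9_8_32 : jobs 8 S9 b8_8 j9_8_32 = true := by decide +kernel

noncomputable def j9_8_33 : List Job := [
  ⟨30, 0x5309a4e27d20924a25d108a4623d00824221c984e2a15c904a2814c88462e17c80422c16c3e1d0d8642e15098441e0d058240e0501, 0, 80, 0x4201004401004601004801006a14006c14006e14007014008201008401008600008e01009400009801009a01009c0100a001, [(73, ⟨2156, 0x47801410004e0004800010000100218004100080001, 0x18e220b430030082008⟩), (66, ⟨2155, 0x4000141000400044c00010000100018000100000001, 0x1802208038030082008⟩)]⟩]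

theorem t9_8_33 : jobs 8 S9 b8_8 j9_8_33 = true := by decide +kernel

noncomputable def j9_8_34 : List Job := [
  ⟨29, 0x524964c27520944d27d04864423500844523c3e1d0d8642e15098441e0d058240e0501, 0, 36, 0x0, []⟩]

theorem t9_8_34 : jobs 8 S9 b8_8 j9_8_34 = true := by decide +kernel

noncomputable def j9_8_35 : List Job := [
  ⟨28, 0x524964c27520944d27d04864423500844523c3e1d0d8642e15098441e0d058240e0501, 0, 36, 0x0, []⟩]

theorem t9_8_35 : jobs 8 S9 b8_8 j9_8_35 = true := by decide +kernel

noncomputable def j9_8_36 : List Job := [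
  ⟨27, 0x524964c27520944d27d04864423500844523c884626138a8562e17c804224128a0522c16c3e1d0d8642e15098441e0d058240e0501, 0, 44, 0x2601005601, []⟩]

theorem t9_8_36 : jobs 8 S9 b8_8 j9_8_36 = true := by decide +kernel

noncomputable def j9_8_37 : List Job := [
  ⟨26, 0x524964c27520944d27d04864423500844523c884626138a8562e17c804224128a0522c16c3e1d0d8642e15098441e0d058240e0501, 0, 62, 0x6a01006c01006e01007001007a01007c01, []⟩]

theorem t9_8_37 : jobs 8 S9 b8_8 j9_8_37 = true := by decide +kernel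

noncomputable def j9_8_38 : List Job := [
  ⟨25, 0x43e1d0d8642e15098441e0d058240e0501, 0, 36, 0x0, []⟩]

theorem t9_8_38 : jobs 8 S9 b8_8 j9_8_38 = true := by decide +kernel

noncomputable def j9_8_39 : List Job := [
  ⟨24, 0x6110a8643a21128a45e01028241a311a8e47c3e1d0d8642e15098441e0d058240e0501, 0, 66, 0x4a01004e01005001005201005401005e01006001, []⟩]

theorem t9_8_39 : jobs 8 S9 b8_8 j9_8_39 = true := by decide +kernel

noncomputable def j9_8_40 : List Job := [
  ⟨23, 0x520924a259309a4e27d008242219108a4623c3e1d0d8642e15098441e0d058240e0501, 0, 44, 0x4a01004e01005201005601, []⟩]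

theorem t9_8_40 : jobs 8 S9 b8_8 j9_8_40 = true := by decide +kernel

noncomputable def j9_8_41 : List Job := [
  ⟨22, 0x6110a8643a21128a45e01028241a311a8e47d108a46239309a4e27d00824221920924a25c3e1d0d8642e15098441e0d058240e0501, 0, 80, 0x4201004401006a01006c01006e01007001008201008a01008c01008e01009201009401009801009a01009c0100a001, []⟩]

theorem t9_8_41 : jobs 8 S9 b8_8 j9_8_41 = true := by decide +kernel

noncomputable def j9_8_42 : List Job := [
  ⟨21, 0x504864523920944c27500844423124964d27c3e1d0d8642e15098441e0d058240e0501, 0, 36, 0x0, []⟩]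

theorem t9_8_42 : jobs 8 S9 b8_8 j9_8_42 = true := by decide +kernel

noncomputable def j9_8_43 : List Job := [
  ⟨20, 0x520924a259309a4e27d008242219108a4623c3e1d0d8642e15098441e0d058240e0501, 0, 62, 0x7201007401007a01, []⟩]

theorem t9_8_43 : jobs 8 S9 b8_8 j9_8_43 = true := by decide +kernel

noncomputable def j9_8_44 : List Job := [
  ⟨19, 0x504864523920944c27500844423124964d27c3e1d0d8642e15098441e0d058240e0501, 0, 36, 0x0, []⟩]

theorem t9_8_44 : jobs 8 S9 b8_8 j9_8_44 = true := by decide +kernel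

noncomputable def j9_8_45 : List Job := [
  ⟨18, 0x504864523920944c27500844423124964d27c4c2e1b0fc482c1a0f4442a190ec4028180e43e1d0d8642e15098441e0d058240e0501, 0, 78, 0x4a04004e04005e01006201006401006601006801008a01008c01008e01009001009201009401009601009801009a01009c01, []⟩]

theorem t9_8_45 : jobs 8 S9 b8_8 j9_8_45 = true := by decide +kernel

noncomputable def j9_8_46 : List Job := [
  ⟨17, 0x520924a259309a4e27d008242219108a4623c4c2e1b0fc482c1a0f4442a190ec4028180e43e1d0d8642e15098441e0d058240e0501, 0, 62, 0x6a01006c01007201007401007a01, []⟩]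

theorem t9_8_46 : jobs 8 S9 b8_8 j9_8_46 = true := by decide +kernel

noncomputable def j9_8_47 : List Job := [
  ⟨16, 0x504864523920944c27500844423124964d27c4c2e1b0fc482c1a0f4442a190ec4028180e43e1d0d8642e15098441e0d058240e0501, 0, 41, 0x4a01004c01005000005201, [(39, ⟨2154, 0x234014d000b4011000408010d0041001080040001, 0x184220902001010200e⟩)]⟩]

theorem t9_8_47 : jobs 8 S9 b8_8 j9_8_47 = true := by decide +kernel

noncomputable def j9_8_48 : List Job := [
  ⟨15, 0x520924a259309a4e27d008242219108a4623c3e1d0d8642e15098441e0d058240e0501, 0, 36, 0x0, []⟩]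

theorem t9_8_48 : jobs 8 S9 b8_8 j9_8_48 = true := by decide +kernel

noncomputable def j9_8_49 : List Job := [
  ⟨14, 0x520924a259309a4e27d008242219108a4623cd06a361b8f07a3e1fcc06232198e0723a1dc904a26138b05a2e17c804222118a0522a15c3e1d0d8642e15098441e0d058240e0501, 0, 66, 0x6a01006c01007401008201, []⟩]

theorem t9_8_49 : jobs 8 S9 b8_8 j9_8_49 = true := by decide +kernel

noncomputable def j9_8_50 : List Job := [
  ⟨13, 0x4b05a2e17ca0522a15c904a2613c80422211c3e1d0d8642e15098441e0d058240e0501, 0, 36, 0x0, []⟩]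

theorem t9_8_50 : jobs 8 S9 b8_8 j9_8_50 = true := by decide +kernel

noncomputable def j9_8_51 : List Job := [
  ⟨12, 0x605068543a21148c47601048443225168d47cb05a2e17ca0522a15c904a2613c80422211c3e1d0d8642e15098441e0d058240e0501, 0, 62, 0x6a01007601007801, []⟩]

theorem t9_8_51 : jobs 8 S9 b8_8 j9_8_51 = true := by decide +kernel

noncomputable def j9_8_52 : List Job := [
  ⟨11, 0x520924a259309a4e27d008242219108a4623cb05a2e17ca0522a15c904a2613c80422211c3e1d0d8642e15098441e0d058240e0501, 0, 44, 0x4a01004e01, []⟩]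

theorem t9_8_52 : jobs 8 S9 b8_8 j9_8_52 = true := by decide +kernel

noncomputable def j9_8_53 : List Job := [
  ⟨10, 0x508864623920924c26d00824422928964e27cb05a2e17ca0522a15c904a2613c80422211c3e1d0d8642e15098441e0d058240e0501, 0, 40, 0x2201002401005001, []⟩]

theorem t9_8_53 : jobs 8 S9 b8_8 j9_8_53 = true := by decide +kernel

noncomputable def j9_8_54 : List Job := [
  ⟨9, 0x4904a26138b05a2e17c804222118a0522a15c542c1d0f4502e1c0fc4424190d44026180dc3e1d0d8642e15098441e0d058240e0501, 0, 43, 0x4a01004e01005001005400, [(41, ⟨2152, 0x20400470008401140041000010040c01080040001, 0x1842509030010401808⟩)]⟩]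

theorem t9_8_54 : jobs 8 S9 b8_8 j9_8_54 = true := by decide +kernel

noncomputable def j9_8_55 : List Job := [
  ⟨8, 0x605068543a21148c47601048443225168d47c904a26138b05a2e17c804222118a0522a15c542c1d0f4502e1c0fc4424190d44026180dc3e1d0d8642e15098441e0d058240e0501, 0, 83, 0x4201004401004601004801004a01004e00005201005a00005e00008a01008c01009201009401009601009c0100a401, [(46, ⟨2150, 0x4200140000460004400820000100206004200000001, 0x1882008828010401808⟩), (44, ⟨2149, 0x4200140000460004400820000100206004200000001, 0x1882008828010401808⟩), (38, ⟨2151, 0x4780140002420045c00020010100206004200000001, 0x18b2009034010401808⟩)]⟩]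

theorem t9_8_55 : jobs 8 S9 b8_8 j9_8_55 = true := by decide +kernel

noncomputable def j9_8_56 : List Job := [
  ⟨7, 0x520924a259309a4e27d008242219108a4623c904a26138b05a2e17c804222118a0522a15c542c1d0f4502e1c0fc4424190d44026180dc3e1d0d8642e15098441e0d058240e0501, 0, 78, 0x2201002601005001005801005a01005e01008001008201008800008c00009001009201009a01, [(69, ⟨2148, 0x43800450004c0044c00820000100206000200080001, 0x18a260b824010401808⟩), (67, ⟨2147, 0x43800450004c0044c00820000100206000200080001, 0x18a260b824010401808⟩)]⟩]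

theorem t9_8_56 : jobs 8 S9 b8_8 j9_8_56 = true := by decide +kernel

noncomputable def j9_8_57 : List Job := [
  ⟨6, 0x609068643a29168e47e01028442a21128c46d04864523924964d27d00844423120944c274a0522a158b05a2e17c804222118904a2613c68361c0ec60321e0fc4826140ac4022160bc3e1d0d8642e15098441e0d058240e0501, 0, 152, 0x4201004401004a00004c01005001005401006000006401006c00007000007401007c01008c0100900100c00100c80100cc0100d40000d80000dc0100e40100ea0100f20100f601011e0101221c01261c012a1c012e1c, [(107, ⟨2142, 0x8100142000260011c0000800102001060000700000001, 0x183220883c080301006⟩), (105, ⟨2141, 0x8100142000260011c0000800102001060000700000001, 0x183220883c080301006⟩), (55, ⟨2145, 0x8100142001260011c0010800102000060000700100001, 0x183220883c080301006⟩), (53, ⟨2144, 0x8100142001260011c0010800102000060000700100001, 0x183220883c080301006⟩), (47, ⟨2143, 0x850004800020001140000800002000060010700000001, 0x185240802c080301006⟩), (36, ⟨2146, 0x8c0004e001240011e0010800102001060000700000001, 0x18e2509834080301006⟩)]⟩]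

theorem t9_8_57 : jobs 8 S9 b8_8 j9_8_57 = true := by decide +kernel

noncomputable def j9_8_58 : List Job := [
  ⟨5, 0x508864623920924c26d00824422928964e27c904a26138b05a2e17c804222118a0522a15c542c1d0f4502e1c0fc4424190d44026180dc3e1d0d8642e15098441e0d058240e0501, 0, 65, 0x4a01004c01005001005200005600005a01005e00006201006601006801006c01007400007800007c01, [(59, ⟨2139, 0x4100141000560047800820000100216004200080001, 0x187220883c010401c08⟩), (57, ⟨2138, 0x4100141000560047800820000100216004200080001, 0x187220883c010401c08⟩), (46, ⟨2140, 0x448004b002420044400820010100016000200000001, 0x1852109028010401c08⟩), (42, ⟨2137, 0x40000410025c0046c00020000100216004200000001, 0x180220b824010401c08⟩), (40, ⟨2136, 0x40000410025c0046c00020000100216004200000001, 0x180220b824010401c08⟩)]⟩]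

theorem t9_8_58 : jobs 8 S9 b8_8 j9_8_58 = true := by decide +kernel

noncomputable def j9_8_59 : List Job := [
  ⟨4, 0x520924a259309a4e27d008242219108a4623c904a26138b05a2e17c804222118a0522a15c542c1d0f4502e1c0fc4424190d44026180dc3e1d0d8642e15098441e0d058240e0501, 0, 76, 0x4a01004e01005001005400005c01006200008601008801009601, [(48, ⟨2135, 0x4500145000460045000020010100006000200000001, 0x1872608830010401808⟩), (41, ⟨2134, 0x4100145000460045000820000100006000200000001, 0x1862608830010401808⟩)]⟩]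

theorem t9_8_59 : jobs 8 S9 b8_8 j9_8_59 = true := by decide +kernel

noncomputable def j9_8_60 : List Job := [
  ⟨3, 0x43e1d0d8642e15098441e0d058240e0501, 0, 36, 0x0, []⟩]

theorem t9_8_60 : jobs 8 S9 b8_8 j9_8_60 = true := by decide +kernel

noncomputable def j9_8_61 : List Job := [
  ⟨2, 0x43e1d0d8642e15098441e0d058240e0501, 0, 36, 0x0, []⟩]

theorem t9_8_61 : jobs 8 S9 b8_8 j9_8_61 = true := by decide +kernel

noncomputable def j9_8_62 : List Job := [
  ⟨1, 0x6110a8643a311a8e47e01028241a21128a45c3e1d0d8642e15098441e0d058240e0501, 0, 36, 0x0, []⟩]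

theorem t9_8_62 : jobs 8 S9 b8_8 j9_8_62 = true := by decide +kernel

noncomputable def j9_8_63 : List Job := [
  ⟨0, 0x43e1d0d8642e15098441e0d058240e0501, 0, 36, 0x0, []⟩]

theorem t9_8_63 : jobs 8 S9 b8_8 j9_8_63 = true := by decide +kernel

theorem d9_8 : Dn 8 S9 b8_8 := dn_of (Js := j9_8_0 ++ (j9_8_1 ++ (j9_8_2 ++ (j9_8_3 ++ (j9_8_4 ++ (j9_8_5 ++ (j9_8_6 ++ (j9_8_7 ++ (j9_8_8 ++ (j9_8_9 ++ (j9_8_10 ++ (j9_8_11 ++ (j9_8_12 ++ (j9_8_13 ++ (j9_8_14 ++ (j9_8_15 ++ (j9_8_16 ++ (j9_8_17 ++ (j9_8_18 ++ (j9_8_19 ++ (j9_8_20 ++ (j9_8_21 ++ (j9_8_22 ++ (j9_8_23 ++ (j9_8_24 ++ (j9_8_25 ++ (j9_8_26 ++ (j9_8_27 ++ (j9_8_28 ++ (j9_8_29 ++ (j9_8_30 ++ (j9_8_31 ++ (j9_8_32 ++ (j9_8_33 ++ (j9_8_34 ++ (j9_8_35 ++ (j9_8_36 ++ (j9_8_37 ++ (j9_8_38 ++ (j9_8_39 ++ (j9_8_40 ++ (j9_8_41 ++ (j9_8_42 ++ (j9_8_43 ++ (j9_8_44 ++ (j9_8_45 ++ (j9_8_46 ++ (j9_8_47 ++ (j9_8_48 ++ (j9_8_49 ++ (j9_8_50 ++ (j9_8_51 ++ (j9_8_52 ++ (j9_8_53 ++ (j9_8_54 ++ (j9_8_55 ++ (j9_8_56 ++ (j9_8_57 ++ (j9_8_58 ++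 (j9_8_59 ++ (j9_8_60 ++ (j9_8_61 ++ (j9_8_62 ++ (j9_8_63 ++ []))))))))))))))))))))))))))))))))))))))))))))))))))))))))))))))))
  (jobs_append t9_8_0 <| jobs_append t9_8_1 <| jobs_append t9_8_2 <| jobs_append t9_8_3 <| jobs_append t9_8_4 <| jobs_append t9_8_5 <| jobs_append t9_8_6 <| jobs_append t9_8_7 <| jobs_append t9_8_8 <| jobs_append t9_8_9 <| jobs_append t9_8_10 <| jobs_append t9_8_11 <| jobs_append t9_8_12 <| jobs_append t9_8_13 <| jobs_append t9_8_14 <| jobs_append t9_8_15 <| jobs_append t9_8_16 <| jobs_append t9_8_17 <| jobs_append t9_8_18 <| jobs_append t9_8_19 <| jobs_append t9_8_20 <| jobs_append t9_8_21 <| jobs_append t9_8_22 <| jobs_append t9_8_23 <| jobs_append t9_8_24 <| jobs_append t9_8_25 <| jobs_append t9_8_26 <| jobs_append t9_8_27 <| jobs_append t9_8_28 <| jobs_append t9_8_29 <| jobs_append t9_8_30 <| jobs_append t9_8_31 <| jobs_append t9_8_32 <| jobs_append t9_8_33 <| jobs_append t9_8_34 <| jobs_append t9_8_35 <| jobs_append t9_8_36 <| jobs_append t9_8_37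 <| jobs_append t9_8_38 <| jobs_append t9_8_39 <| jobs_append t9_8_40 <| jobs_append t9_8_41 <| jobs_append t9_8_42 <| jobs_append t9_8_43 <| jobs_append t9_8_44 <| jobs_append t9_8_45 <| jobs_append t9_8_46 <| jobs_append t9_8_47 <| jobs_append t9_8_48 <| jobs_append t9_8_49 <| jobs_append t9_8_50 <| jobs_append t9_8_51 <| jobs_append t9_8_52 <| jobs_append t9_8_53 <| jobs_append t9_8_54 <| jobs_append t9_8_55 <| jobs_append t9_8_56 <| jobs_append t9_8_57 <| jobs_append t9_8_58 <| jobs_append t9_8_59 <| jobs_append t9_8_60 <| jobs_append t9_8_61 <| jobs_append t9_8_62 <| jobs_append t9_8_63 <| List.forall_mem_nil _) (by decide +kernel)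

noncomputable def j9_9_0 : List Job := [
  ⟨63, 0x504864423124964c27500844523920944d27c884626138a8562e17c804224128a0522c16c3e1d0d8642e15098441e0d058240e0501, 0, 36, 0x0, []⟩]

theorem t9_9_0 : jobs 8 S9 b8_9 j9_9_0 = true := by decide +kernel

noncomputable def j9_9_1 : List Job := [
  ⟨62, 0x504844523120964c27d00864423924944d2743e1d0d8642e15098441e0d058240e0501, 0, 62, 0x6a01006c01007a01, []⟩]

theorem t9_9_1 : jobs 8 S9 b8_9 j9_9_1 = true := by decide +kernel

noncomputable def j9_9_2 : List Job := [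
  ⟨61, 0x621128a45a311a8e47e01028241a110a8643c904a26138b05a2e17c804222118a0522a15c3e1d0d8642e15098441e0d058240e0501, 0, 62, 0x6a01006c01007a01, []⟩]

theorem t9_9_2 : jobs 8 S9 b8_9 j9_9_2 = true := by decide +kernel

noncomputable def j9_9_3 : List Job := [
  ⟨60, 0x43e1d0d8642e15098441e0d058240e0501, 0, 36, 0x0, []⟩]

theorem t9_9_3 : jobs 8 S9 b8_9 j9_9_3 = true := by decide +kernel

noncomputable def j9_9_4 : List Job := [
  ⟨59, 0x6110a8643a311a8e47e01028241a21128a45c3e1d0d8642e15098441e0d058240e0501, 0, 36, 0x0, []⟩]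

theorem t9_9_4 : jobs 8 S9 b8_9 j9_9_4 = true := by decide +kernel

noncomputable def j9_9_5 : List Job := [
  ⟨58, 0x43e1d0d8642e15098441e0d058240e0501, 0, 36, 0x0, []⟩]

theorem t9_9_5 : jobs 8 S9 b8_9 j9_9_5 = true := by decide +kernel

noncomputable def j9_9_6 : List Job := [
  ⟨57, 0x6110a8643a21128a45e01028241a311a8e47c3e1d0d8642e15098441e0d058240e0501, 0, 40, 0x0, []⟩]

theorem t9_9_6 : jobs 8 S9 b8_9 j9_9_6 = true := by decide +kernel

noncomputable def j9_9_7 : List Job := [
  ⟨56, 0x43e1d0d8642e15098441e0d058240e0501, 0, 36, 0x0, []⟩]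

theorem t9_9_7 : jobs 8 S9 b8_9 j9_9_7 = true := by decide +kernel

noncomputable def j9_9_8 : List Job := [
  ⟨55, 0x6110a8643a311a8e47e01028241a21128a45c3e1d0d8642e15098441e0d058240e0501, 0, 36, 0x0, []⟩]

theorem t9_9_8 : jobs 8 S9 b8_9 j9_9_8 = true := by decide +kernel

noncomputable def j9_9_9 : List Job := [
  ⟨54, 0x43e1d0d8642e15098441e0d058240e0501, 0, 36, 0x0, []⟩]

theorem t9_9_9 : jobs 8 S9 b8_9 j9_9_9 = true := by decide +kernel

noncomputable def j9_9_10 : List Job := [
  ⟨53, 0x4884626138a8562e17c804224128a0522c16c3e1d0d8642e15098441e0d058240e0501, 0, 66, 0x6a01006c01006e01007001007201007401007601007801008201008401, []⟩]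

theorem t9_9_10 : jobs 8 S9 b8_9 j9_9_10 = true := by decide +kernel

noncomputable def j9_9_11 : List Job := [
  ⟨52, 0x6110a8643a311a8e47e01028241a21128a45c884626138a8562e17c804224128a0522c16c3e1d0d8642e15098441e0d058240e0501, 0, 66, 0x4201004401004601004801006a01006c01006e01007001008201008401, []⟩]

theorem t9_9_11 : jobs 8 S9 b8_9 j9_9_11 = true := by decide +kernel

noncomputable def j9_9_12 : List Job := [
  ⟨51, 0x4884626138a8562e17c804224128a0522c16c3e1d0d8642e15098441e0d058240e0501, 0, 36, 0x0, []⟩]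

theorem t9_9_12 : jobs 8 S9 b8_9 j9_9_12 = true := by decide +kernel

noncomputable def j9_9_13 : List Job := [
  ⟨50, 0x6110a8643a21128a45e01028241a311a8e47c884626138a8562e17c804224128a0522c16c3e1d0d8642e15098441e0d058240e0501, 0, 40, 0x0, []⟩]

theorem t9_9_13 : jobs 8 S9 b8_9 j9_9_13 = true := by decide +kernel

noncomputable def j9_9_14 : List Job := [
  ⟨49, 0x4984e2a15c904a2814c88462e17c80422c16c3e1d0d8642e15098441e0d058240e0501, 0, 66, 0x6a01006c01006e0100700100721c00741c00761c00781c008201008401, []⟩]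

theorem t9_9_14 : jobs 8 S9 b8_9 j9_9_14 = true := by decide +kernel

noncomputable def j9_9_15 : List Job := [
  ⟨48, 0x4a8562e17ca0522c16c88462613c80422412c3e1d0d8642e15098441e0d058240e0501, 0, 36, 0x0, []⟩]

theorem t9_9_15 : jobs 8 S9 b8_9 j9_9_15 = true := by decide +kernel

noncomputable def j9_9_16 : List Job := [
  ⟨47, 0x43e1d0d8642e15098441e0d058240e0501, 0, 36, 0x0, []⟩]

theorem t9_9_16 : jobs 8 S9 b8_9 j9_9_16 = true := by decide +kernel

noncomputable def j9_9_17 : List Job := [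
  ⟨46, 0x6110a8643a21128a45e01028241a311a8e47c3e1d0d8642e15098441e0d058240e0501, 0, 40, 0x0, []⟩]

theorem t9_9_17 : jobs 8 S9 b8_9 j9_9_17 = true := by decide +kernel

noncomputable def j9_9_18 : List Job := [
  ⟨45, 0x43e1d0d8642e15098441e0d058240e0501, 0, 62, 0x7201007401007601007801007a01007c01, []⟩]

theorem t9_9_18 : jobs 8 S9 b8_9 j9_9_18 = true := by decide +kernel

noncomputable def j9_9_19 : List Job := [
  ⟨44, 0x6110a8643a311a8e47e01028241a21128a45c3e1d0d8642e15098441e0d058240e0501, 0, 62, 0x6a01006c01006e01007001007a01007c01, []⟩]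

theorem t9_9_19 : jobs 8 S9 b8_9 j9_9_19 = true := by decide +kernel

noncomputable def j9_9_20 : List Job := [
  ⟨43, 0x43e1d0d8642e15098441e0d058240e0501, 0, 36, 0x0, []⟩]

theorem t9_9_20 : jobs 8 S9 b8_9 j9_9_20 = true := by decide +kernel

noncomputable def j9_9_21 : List Job := [
  ⟨42, 0x6110a8643a21128a45e01028241a311a8e47c3e1d0d8642e15098441e0d058240e0501, 0, 40, 0x0, []⟩]

theorem t9_9_21 : jobs 8 S9 b8_9 j9_9_21 = true := by decide +kernel

noncomputable def j9_9_22 : List Job := [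
  ⟨41, 0x43e1d0d8642e15098441e0d058240e0501, 0, 36, 0x0, []⟩]

theorem t9_9_22 : jobs 8 S9 b8_9 j9_9_22 = true := by decide +kernel

noncomputable def j9_9_23 : List Job := [
  ⟨40, 0x6110a8643a311a8e47e01028241a21128a45c3e1d0d8642e15098441e0d058240e0501, 0, 36, 0x0, []⟩]

theorem t9_9_23 : jobs 8 S9 b8_9 j9_9_23 = true := by decide +kernel

noncomputable def j9_9_24 : List Job := [
  ⟨39, 0x4884626138a8562e17c804224128a0522c16c3e1d0d8642e15098441e0d058240e0501, 0, 36, 0x0, []⟩]

theorem t9_9_24 : jobs 8 S9 b8_9 j9_9_24 = true := by decide +kernel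

noncomputable def j9_9_25 : List Job := [
  ⟨38, 0x4884626138a8562e17c804224128a0522c16c3e1d0d8642e15098441e0d058240e0501, 0, 36, 0x0, []⟩]

theorem t9_9_25 : jobs 8 S9 b8_9 j9_9_25 = true := by decide +kernel

noncomputable def j9_9_26 : List Job := [
  ⟨37, 0x6110a8643a311a8e47e01028241a21128a45c884626138a8562e17c804224128a0522c16c3e1d0d8642e15098441e0d058240e0501, 0, 36, 0x0, []⟩]

theorem t9_9_26 : jobs 8 S9 b8_9 j9_9_26 = true := by decide +kernel

noncomputable def j9_9_27 : List Job := [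
  ⟨36, 0x4984e2a15c904a2814c88462e17c80422c16c3e1d0d8642e15098441e0d058240e0501, 0, 36, 0x0, []⟩]

theorem t9_9_27 : jobs 8 S9 b8_9 j9_9_27 = true := by decide +kernel

noncomputable def j9_9_28 : List Job := [
  ⟨35, 0x6110a8643a21128a45e01028241a311a8e47c984e2a15c904a2814c88462e17c80422c16c3e1d0d8642e15098441e0d058240e0501, 0, 136, 0x6201006401006601006801010201010401010601010801, []⟩]

theorem t9_9_28 : jobs 8 S9 b8_9 j9_9_28 = true := by decide +kernel

noncomputable def j9_9_29 : List Job := [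
  ⟨34, 0x43e1d0d8642e15098441e0d058240e0501, 0, 36, 0x0, []⟩]

theorem t9_9_29 : jobs 8 S9 b8_9 j9_9_29 = true := by decide +kernel

noncomputable def j9_9_30 : List Job := [
  ⟨33, 0x6110a8643a311a8e47e01028241a21128a45c3e1d0d8642e15098441e0d058240e0501, 0, 62, 0x4a01004e01005001, []⟩]

theorem t9_9_30 : jobs 8 S9 b8_9 j9_9_30 = true := by decide +kernel

noncomputable def j9_9_31 : List Job := [
  ⟨32, 0x43e1d0d8642e15098441e0d058240e0501, 0, 36, 0x0, []⟩]

theorem t9_9_31 : jobs 8 S9 b8_9 j9_9_31 = true := by decide +kernel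

noncomputable def j9_9_32 : List Job := [
  ⟨31, 0x6110a8643a21128a45e01028241a311a8e47c3e1d0d8642e15098441e0d058240e0501, 0, 62, 0x2201002401002a01, []⟩]

theorem t9_9_32 : jobs 8 S9 b8_9 j9_9_32 = true := by decide +kernel

noncomputable def j9_9_33 : List Job := [
  ⟨30, 0x43e1d0d8642e15098441e0d058240e0501, 0, 36, 0x0, []⟩]

theorem t9_9_33 : jobs 8 S9 b8_9 j9_9_33 = true := by decide +kernel

noncomputable def j9_9_34 : List Job := [
  ⟨29, 0x6110a8643a311a8e47e01028241a21128a45c3e1d0d8642e15098441e0d058240e0501, 0, 36, 0x0, []⟩]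

theorem t9_9_34 : jobs 8 S9 b8_9 j9_9_34 = true := by decide +kernel

noncomputable def j9_9_35 : List Job := [
  ⟨28, 0x43e1d0d8642e15098441e0d058240e0501, 0, 36, 0x0, []⟩]

theorem t9_9_35 : jobs 8 S9 b8_9 j9_9_35 = true := by decide +kernel

noncomputable def j9_9_36 : List Job := [
  ⟨27, 0x6110a8643a21128a45e01028241a311a8e47c3e1d0d8642e15098441e0d058240e0501, 0, 36, 0x0, []⟩]

theorem t9_9_36 : jobs 8 S9 b8_9 j9_9_36 = true := by decide +kernel

noncomputable def j9_9_37 : List Job := [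
  ⟨26, 0x6110a8643a311a8e47e01028241a21128a45c884626138a8562e17c804224128a0522c16c3e1d0d8642e15098441e0d058240e0501, 0, 43, 0x2401005401, []⟩]

theorem t9_9_37 : jobs 8 S9 b8_9 j9_9_37 = true := by decide +kernel

noncomputable def j9_9_38 : List Job := [
  ⟨25, 0x4884626138a8562e17c804224128a0522c16c3e1d0d8642e15098441e0d058240e0501, 0, 43, 0x4a01004c01005001005201005401, []⟩]

theorem t9_9_38 : jobs 8 S9 b8_9 j9_9_38 = true := by decide +kernel

noncomputable def j9_9_39 : List Job := [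
  ⟨24, 0x4984e2a15c904a2814c88462e17c80422c16c3e1d0d8642e15098441e0d058240e0501, 0, 43, 0x4a01004c00004e01005001005201005400005601, [(41, ⟨2169, 0x2340148004b000110000800010043000080000001, 0x1862088828010182008⟩), (37, ⟨2168, 0x2240148004bc01130000801010043000080000001, 0x185208b838010182008⟩)]⟩]

theorem t9_9_39 : jobs 8 S9 b8_9 j9_9_39 = true := by decide +kernel

noncomputable def j9_9_40 : List Job := [
  ⟨23, 0x43e1d0d8642e15098441e0d058240e0501, 0, 36, 0x0, []⟩]

theorem t9_9_40 : jobs 8 S9 b8_9 j9_9_40 = true := by decide +kernel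

noncomputable def j9_9_41 : List Job := [
  ⟨22, 0x6110a8643a21128a45e01028241a311a8e47c3e1d0d8642e15098441e0d058240e0501, 0, 36, 0x0, []⟩]

theorem t9_9_41 : jobs 8 S9 b8_9 j9_9_41 = true := by decide +kernel

noncomputable def j9_9_42 : List Job := [
  ⟨21, 0x43e1d0d8642e15098441e0d058240e0501, 0, 36, 0x0, []⟩]

theorem t9_9_42 : jobs 8 S9 b8_9 j9_9_42 = true := by decide +kernel

noncomputable def j9_9_43 : List Job := [
  ⟨20, 0x6110a8643a311a8e47e01028241a21128a45c3e1d0d8642e15098441e0d058240e0501, 0, 36, 0x0, []⟩]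

theorem t9_9_43 : jobs 8 S9 b8_9 j9_9_43 = true := by decide +kernel

noncomputable def j9_9_44 : List Job := [
  ⟨19, 0x4884626138a8562e17c804224128a0522c16c3e1d0d8642e15098441e0d058240e0501, 0, 36, 0x0, []⟩]

theorem t9_9_44 : jobs 8 S9 b8_9 j9_9_44 = true := by decide +kernel

noncomputable def j9_9_45 : List Job := [
  ⟨18, 0x6110a8643a21128a45e01028241a311a8e47c884626138a8562e17c804224128a0522c16c3e1d0d8642e15098441e0d058240e0501, 0, 66, 0x2201002401003201007e01008001, []⟩]

theorem t9_9_45 : jobs 8 S9 b8_9 j9_9_45 = true := by decide +kernel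

noncomputable def j9_9_46 : List Job := [
  ⟨17, 0x4884626138a8562e17c804224128a0522c16c3e1d0d8642e15098441e0d058240e0501, 0, 36, 0x0, []⟩]

theorem t9_9_46 : jobs 8 S9 b8_9 j9_9_46 = true := by decide +kernel

noncomputable def j9_9_47 : List Job := [
  ⟨16, 0x6110a8643a311a8e47e01028241a21128a45c884626138a8562e17c804224128a0522c16c3e1d0d8642e15098441e0d058240e0501, 0, 66, 0x4a01004c01007201007601007801, []⟩]

theorem t9_9_47 : jobs 8 S9 b8_9 j9_9_47 = true := by decide +kernel

noncomputable def j9_9_48 : List Job := [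
  ⟨15, 0x43e1d0d8642e15098441e0d058240e0501, 0, 62, 0x6a01006c01006e01007001007201007401007601007801007a01007c01, []⟩]

theorem t9_9_48 : jobs 8 S9 b8_9 j9_9_48 = true := by decide +kernel

noncomputable def j9_9_49 : List Job := [
  ⟨14, 0x621128a45a311a8e47e01028241a110a8643c3e1d0d8642e15098441e0d058240e0501, 0, 62, 0x6a01006c01007201007401007a01, []⟩]

theorem t9_9_49 : jobs 8 S9 b8_9 j9_9_49 = true := by decide +kernel

noncomputable def j9_9_50 : List Job := [
  ⟨13, 0x544a4542b964b45c2fd40a6552b160b65d2f504864523924964d27d00844423120944c2743e1d0d8642e15098441e0d058240e0501, 0, 62, 0x6a01006e01007201007601007a01, []⟩]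

theorem t9_9_50 : jobs 8 S9 b8_9 j9_9_50 = true := by decide +kernel

noncomputable def j9_9_51 : List Job := [
  ⟨12, 0x621128a45a311a8e47e01028241a110a8643d44a4542b964b45c2fd40a6552b160b65d2f504864523924964d27d00844423120944c2743e1d0d8642e15098441e0d058240e0501, 0, 68, 0x7201007a01008201, []⟩]

theorem t9_9_51 : jobs 8 S9 b8_9 j9_9_51 = true := by decide +kernel

noncomputable def j9_9_52 : List Job := [
  ⟨11, 0x43e1d0d8642e15098441e0d058240e0501, 0, 62, 0x6a01006c01006e01007001007201007401007601007801007a01007c01, []⟩]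

theorem t9_9_52 : jobs 8 S9 b8_9 j9_9_52 = true := by decide +kernel

noncomputable def j9_9_53 : List Job := [
  ⟨10, 0x621128a45a311a8e47e01028241a110a8643c3e1d0d8642e15098441e0d058240e0501, 0, 62, 0x6a01006c01007201007401007a01, []⟩]

theorem t9_9_53 : jobs 8 S9 b8_9 j9_9_53 = true := by decide +kernel

noncomputable def j9_9_54 : List Job := [
  ⟨9, 0x4904a26138b05a2e17c804222118a0522a15c3e1d0d8642e15098441e0d058240e0501, 0, 62, 0x6a01006c01006e01007001007201007401007a01007c01, []⟩]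

theorem t9_9_54 : jobs 8 S9 b8_9 j9_9_54 = true := by decide +kernel

noncomputable def j9_9_55 : List Job := [
  ⟨8, 0x621128a45a311a8e47e01028241a110a8643c904a26138b05a2e17c804222118a0522a15c3e1d0d8642e15098441e0d058240e0501, 0, 62, 0x6a01006c01007201007a01, []⟩]

theorem t9_9_55 : jobs 8 S9 b8_9 j9_9_55 = true := by decide +kernel

noncomputable def j9_9_56 : List Job := [
  ⟨7, 0x544a4542b964b45c2fd40a6552b160b65d2f504864523924964d27d00844423120944c274904a26138b05a2e17c804222118a0522a15c3e1d0d8642e15098441e0d058240e0501, 0, 110, 0x6a01006e01007201007a0100a00100a40100b00100c00100c80100d00100dc01, []⟩]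

theorem t9_9_56 : jobs 8 S9 b8_9 j9_9_56 = true := by decide +kernel

noncomputable def j9_9_57 : List Job := [
  ⟨6, 0x621128a45a311a8e47e01028241a110a8643d44a4542b964b45c2fd40a6552b160b65d2f504864523924964d27d00844423120944c274904a26138b05a2e17c804222118a0522a15c3e1d0d8642e15098441e0d058240e0501, 0, 120, 0x440100480100740100940100bc0100c20100ce0100e00100e601, []⟩]

theorem t9_9_57 : jobs 8 S9 b8_9 j9_9_57 = true := by decide +kernel

noncomputable def j9_9_58 : List Job := [
  ⟨5, 0x4944e2c174904c2d17c84462815480442915c3e1d0d8642e15098441e0d058240e0501, 0, 62, 0x6a01006c01006e01007001007208007408007a01007c01, []⟩]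

theorem t9_9_58 : jobs 8 S9 b8_9 j9_9_58 = true := by decide +kernel

noncomputable def j9_9_59 : List Job := [
  ⟨4, 0x621128a45a311a8e47e01028241a110a8643c944e2c174904c2d17c84462815480442915c3e1d0d8642e15098441e0d058240e0501, 0, 72, 0x6a01006c01007218007618007a01007e00008001008200008601008801008a01008c01, [(64, ⟨2164, 0x4180144002560006400820010200012004200080001, 0x1872409824010401006⟩), (62, ⟨2163, 0x430004d002400004800820010200212000200000001, 0x18c2508028010401006⟩)]⟩]

theorem t9_9_59 : jobs 8 S9 b8_9 j9_9_59 = true := by decide +kernel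

noncomputable def j9_9_60 : List Job := [
  ⟨3, 0x43e1d0d8642e15098441e0d058240e0501, 0, 62, 0x6a01006c01006e01007001007201007401007601007801007a01007c01, []⟩]

theorem t9_9_60 : jobs 8 S9 b8_9 j9_9_60 = true := by decide +kernel

noncomputable def j9_9_61 : List Job := [
  ⟨2, 0x621128a45a311a8e47e01028241a110a8643c3e1d0d8642e15098441e0d058240e0501, 0, 62, 0x6a01006c01007201007401007a01, []⟩]

theorem t9_9_61 : jobs 8 S9 b8_9 j9_9_61 = true := by decide +kernel

noncomputable def j9_9_62 : List Job := [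
  ⟨1, 0x544a4542b964b45c2fd40a6552b160b65d2f504864523924964d27d00844423120944c2743e1d0d8642e15098441e0d058240e0501, 0, 104, 0x740100780100840100aa0100ae0100bc0100be0100c20100c60100cc0100d001, []⟩]

theorem t9_9_62 : jobs 8 S9 b8_9 j9_9_62 = true := by decide +kernel

noncomputable def j9_9_63 : List Job := [
  ⟨0, 0x621128a45a311a8e47e01028241a110a8643d44a4542b964b45c2fd40a6552b160b65d2f504864523924964d27d00844423120944c2743e1d0d8642e15098441e0d058240e0501, 0, 114, 0x6c01007001008c0100b40100b80100ba0100be0100cc0100ce0100d80100da0100e401, []⟩]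

theorem t9_9_63 : jobs 8 S9 b8_9 j9_9_63 = true := by decide +kernel

theorem d9_9 : Dn 8 S9 b8_9 := dn_of (Js := j9_9_0 ++ (j9_9_1 ++ (j9_9_2 ++ (j9_9_3 ++ (j9_9_4 ++ (j9_9_5 ++ (j9_9_6 ++ (j9_9_7 ++ (j9_9_8 ++ (j9_9_9 ++ (j9_9_10 ++ (j9_9_11 ++ (j9_9_12 ++ (j9_9_13 ++ (j9_9_14 ++ (j9_9_15 ++ (j9_9_16 ++ (j9_9_17 ++ (j9_9_18 ++ (j9_9_19 ++ (j9_9_20 ++ (j9_9_21 ++ (j9_9_22 ++ (j9_9_23 ++ (j9_9_24 ++ (j9_9_25 ++ (j9_9_26 ++ (j9_9_27 ++ (j9_9_28 ++ (j9_9_29 ++ (j9_9_30 ++ (j9_9_31 ++ (j9_9_32 ++ (j9_9_33 ++ (j9_9_34 ++ (j9_9_35 ++ (j9_9_36 ++ (j9_9_37 ++ (j9_9_38 ++ (j9_9_39 ++ (j9_9_40 ++ (j9_9_41 ++ (j9_9_42 ++ (j9_9_43 ++ (j9_9_44 ++ (j9_9_45 ++ (j9_9_46 ++ (j9_9_47 ++ (j9_9_48 ++ (j9_9_49 ++ (j9_9_50 ++ (j9_9_51 ++ (j9_9_52 ++ (j9_9_53 ++ (j9_9_54 ++ (j9_9_55 ++ (j9_9_56 ++ (j9_9_57 ++ (j9_9_58 ++ (j9_9_59 ++ (j9_9_60 ++ (j9_9_61 ++ (j9_9_62 ++ (j9_9_63 ++ []))))))))))))))))))))))))))))))))))))))))))))))))))))))))))))))))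
  (jobs_append t9_9_0 <| jobs_append t9_9_1 <| jobs_append t9_9_2 <| jobs_append t9_9_3 <| jobs_append t9_9_4 <| jobs_append t9_9_5 <| jobs_append t9_9_6 <| jobs_append t9_9_7 <| jobs_append t9_9_8 <| jobs_append t9_9_9 <| jobs_append t9_9_10 <| jobs_append t9_9_11 <| jobs_append t9_9_12 <| jobs_append t9_9_13 <| jobs_append t9_9_14 <| jobs_append t9_9_15 <| jobs_append t9_9_16 <| jobs_append t9_9_17 <| jobs_append t9_9_18 <| jobs_append t9_9_19 <| jobs_append t9_9_20 <| jobs_append t9_9_21 <| jobs_append t9_9_22 <| jobs_append t9_9_23 <| jobs_append t9_9_24 <| jobs_append t9_9_25 <| jobs_append t9_9_26 <| jobs_append t9_9_27 <| jobs_append t9_9_28 <| jobs_append t9_9_29 <| jobs_append t9_9_30 <| jobs_append t9_9_31 <| jobs_append t9_9_32 <| jobs_append t9_9_33 <| jobs_append t9_9_34 <| jobs_append t9_9_35 <| jobs_append t9_9_36 <| jobs_append t9_9_37 <| jobs_append t9_9_38 <| jobs_append t9_9_39 <| jobs_append t9_9_40 <| jobs_append t9_9_41 <| jobs_append t9_9_42 <| jobs_append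 t9_9_43 <| jobs_append t9_9_44 <| jobs_append t9_9_45 <| jobs_append t9_9_46 <| jobs_append t9_9_47 <| jobs_append t9_9_48 <| jobs_append t9_9_49 <| jobs_append t9_9_50 <| jobs_append t9_9_51 <| jobs_append t9_9_52 <| jobs_append t9_9_53 <| jobs_append t9_9_54 <| jobs_append t9_9_55 <| jobs_append t9_9_56 <| jobs_append t9_9_57 <| jobs_append t9_9_58 <| jobs_append t9_9_59 <| jobs_append t9_9_60 <| jobs_append t9_9_61 <| jobs_append t9_9_62 <| jobs_append t9_9_63 <| List.forall_mem_nil _) (by decide +kernel)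

noncomputable def j9_10_0 : List Job := [
  ⟨63, 0x43e1d0d8642e15098441e0d058240e0501, 0, 20, 0x2201002401002601002801, []⟩]

theorem t9_10_0 : jobs 8 S9 b8_10 j9_10_0 = true := by decide +kernel

noncomputable def j9_10_1 : List Job := [
  ⟨62, 0x43e1d0d8642e15098441e0d058240e0501, 0, 36, 0x4201004401004601004801, []⟩]

theorem t9_10_1 : jobs 8 S9 b8_10 j9_10_1 = true := by decide +kernel

noncomputable def j9_10_2 : List Job := [
  ⟨61, 0x504864423120944d27d00844523924964c2743e1d0d8642e15098441e0d058240e0501, 0, 36, 0x4201004401, []⟩]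

theorem t9_10_2 : jobs 8 S9 b8_10 j9_10_2 = true := by decide +kernel

noncomputable def j9_10_3 : List Job := [
  ⟨60, 0x504864523920944c27500844423124964d27c3e1d0d8642e15098441e0d058240e0501, 0, 20, 0x2201002601, []⟩]

theorem t9_10_3 : jobs 8 S9 b8_10 j9_10_3 = true := by decide +kernel

noncomputable def j9_10_4 : List Job := [
  ⟨59, 0x43e1d0d8642e15098441e0d058240e0501, 0, 16, 0x0, []⟩]

theorem t9_10_4 : jobs 8 S9 b8_10 j9_10_4 = true := by decide +kernel

noncomputable def j9_10_5 : List Job := [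
  ⟨58, 0x43e1d0d8642e15098441e0d058240e0501, 0, 16, 0x0, []⟩]

theorem t9_10_5 : jobs 8 S9 b8_10 j9_10_5 = true := by decide +kernel

noncomputable def j9_10_6 : List Job := [
  ⟨57, 0x524964c27520944d27d04864423500844523c3e1d0d8642e15098441e0d058240e0501, 0, 44, 0x2601002801002a01002c01002e01003001005208005408, []⟩]

theorem t9_10_6 : jobs 8 S9 b8_10 j9_10_6 = true := by decide +kernel

noncomputable def j9_10_7 : List Job := [
  ⟨56, 0x5148e4c275108c4d27d04864825500844925c3e1d0d8642e15098441e0d058240e0501, 0, 44, 0x4201004401004601004801004a01004c01004e11005201005401005601, []⟩]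

theorem t9_10_7 : jobs 8 S9 b8_10 j9_10_7 = true := by decide +kernel

noncomputable def j9_10_8 : List Job := [
  ⟨55, 0x43e1d0d8642e15098441e0d058240e0501, 0, 16, 0x0, []⟩]

theorem t9_10_8 : jobs 8 S9 b8_10 j9_10_8 = true := by decide +kernel

noncomputable def j9_10_9 : List Job := [
  ⟨54, 0x504864523920944c27500844423124964d27c3e1d0d8642e15098441e0d058240e0501, 0, 20, 0x2201002401002601002801, []⟩]

theorem t9_10_9 : jobs 8 S9 b8_10 j9_10_9 = true := by decide +kernel

noncomputable def j9_10_10 : List Job := [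
  ⟨53, 0x43e1d0d8642e15098441e0d058240e0501, 0, 16, 0x0, []⟩]

theorem t9_10_10 : jobs 8 S9 b8_10 j9_10_10 = true := by decide +kernel

noncomputable def j9_10_11 : List Job := [
  ⟨52, 0x44c2e1a0f4482c1b0fc442a180e44028190ec3e1d0d8642e15098441e0d058240e0501, 0, 18, 0x2201002401, []⟩]

theorem t9_10_11 : jobs 8 S9 b8_10 j9_10_11 = true := by decide +kernel

noncomputable def j9_10_12 : List Job := [
  ⟨51, 0x504864423120944d27d00844523924964c2744c2c1a0fc482e1b0f44428180ec402a190e43e1d0d8642e15098441e0d058240e0501, 0, 40, 0x2201002401004a01004c01, []⟩]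

theorem t9_10_12 : jobs 8 S9 b8_10 j9_10_12 = true := by decide +kernel

noncomputable def j9_10_13 : List Job := [
  ⟨50, 0x44c2e1a0f4482c1b0fc442a180e44028190ec3e1d0d8642e15098441e0d058240e0501, 0, 20, 0x2201002601002801, []⟩]

theorem t9_10_13 : jobs 8 S9 b8_10 j9_10_13 = true := by decide +kernel

noncomputable def j9_10_14 : List Job := [
  ⟨49, 0x44c2e1a0f4482c1b0fc442a180e44028190ec3e1d0d8642e15098441e0d058240e0501, 0, 36, 0x4201004401004601004801, []⟩]

theorem t9_10_14 : jobs 8 S9 b8_10 j9_10_14 = true := by decide +kernel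

noncomputable def j9_10_15 : List Job := [
  ⟨48, 0x44c2e1a0f4482c1b0fc442a180e44028190ec3e1d0d8642e15098441e0d058240e0501, 0, 20, 0x2211002601002801, []⟩]

theorem t9_10_15 : jobs 8 S9 b8_10 j9_10_15 = true := by decide +kernel

noncomputable def j9_10_16 : List Job := [
  ⟨47, 0x44c2e1a0f4482c1b0fc442a180e44028190ec3e1d0d8642e15098441e0d058240e0501, 0, 41, 0x2201002401002601002801002a01002c01004e01005001005201, []⟩]

theorem t9_10_16 : jobs 8 S9 b8_10 j9_10_16 = true := by decide +kernel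

noncomputable def j9_10_17 : List Job := [
  ⟨46, 0x504864423120944d27d00844523924964c2744c2c1a0fc482e1b0f44428180ec402a190e43e1d0d8642e15098441e0d058240e0501, 0, 66, 0x4201004401004a10004e10005210005611007a01007e01008001, []⟩]

theorem t9_10_17 : jobs 8 S9 b8_10 j9_10_17 = true := by decide +kernel

noncomputable def j9_10_18 : List Job := [
  ⟨45, 0x508864623920924c26d00824422928964e27c582e1c0ec502a1e0fc4826180cc40221a0dc3e1d0d8642e15098441e0d058240e0501, 0, 41, 0x2201002401002601004801004a01005001005201, []⟩]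

theorem t9_10_18 : jobs 8 S9 b8_10 j9_10_18 = true := by decide +kernel

noncomputable def j9_10_19 : List Job := [
  ⟨44, 0x44c2e1a0f4482c1b0fc442a180e44028190ec3e1d0d8642e15098441e0d058240e0501, 0, 44, 0x4201004401004601004801004a10004e01005601005801, []⟩]

theorem t9_10_19 : jobs 8 S9 b8_10 j9_10_19 = true := by decide +kernel

noncomputable def j9_10_20 : List Job := [
  ⟨43, 0x44c2e1a0f4482c1b0fc442a180e44028190ec3e1d0d8642e15098441e0d058240e0501, 0, 18, 0x2201002401, []⟩]

theorem t9_10_20 : jobs 8 S9 b8_10 j9_10_20 = true := by decide +kernel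

noncomputable def j9_10_21 : List Job := [
  ⟨42, 0x524964c27520944d27d04864423500844523c4c2c1a0fc482e1b0f44428180ec402a190e43e1d0d8642e15098441e0d058240e0501, 0, 59, 0x2201002601002801002a00002c00002e10003200005601005801005a01005c01005e01006201006600006a01006c01006e01007000007401, [(55, ⟨2193, 0x430004400042000400081000040020a004300080001, 0x18c220982005020200c⟩), (50, ⟨2192, 0x420004c0024c004540081000040020a000300080001, 0x184208b02405020200c⟩), (24, ⟨2196, 0x450004100246004540001000040020a000300080001, 0x18d230b82405020200c⟩), (21, ⟨2195, 0x420004000254004540001000040020a004300000001, 0x184200b42405020200c⟩), (20, ⟨2194, 0x420004000254004540001000040020a004300000001, 0x184200b42405020200c⟩)]⟩]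

theorem t9_10_21 : jobs 8 S9 b8_10 j9_10_21 = true := by decide +kernel

noncomputable def j9_10_22 : List Job := [
  ⟨41, 0x43e1d0d8642e15098441e0d058240e0501, 0, 36, 0x4201004401004601004801, []⟩]

theorem t9_10_22 : jobs 8 S9 b8_10 j9_10_22 = true := by decide +kernel

noncomputable def j9_10_23 : List Job := [
  ⟨40, 0x43e1d0d8642e15098441e0d058240e0501, 0, 20, 0x2201002401002601002801, []⟩]

theorem t9_10_23 : jobs 8 S9 b8_10 j9_10_23 = true := by decide +kernel

noncomputable def j9_10_24 : List Job := [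
  ⟨39, 0x43e1d0d8642e15098441e0d058240e0501, 0, 18, 0x2201002401, []⟩]

theorem t9_10_24 : jobs 8 S9 b8_10 j9_10_24 = true := by decide +kernel

noncomputable def j9_10_25 : List Job := [
  ⟨38, 0x43e1d0d8642e15098441e0d058240e0501, 0, 44, 0x4201004401004601004801004a01004c01004e01005001005201005401005601005801, []⟩]

theorem t9_10_25 : jobs 8 S9 b8_10 j9_10_25 = true := by decide +kernel

noncomputable def j9_10_26 : List Job := [
  ⟨37, 0x43e1d0d8642e15098441e0d058240e0501, 0, 16, 0x0, []⟩]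

theorem t9_10_26 : jobs 8 S9 b8_10 j9_10_26 = true := by decide +kernel

noncomputable def j9_10_27 : List Job := [
  ⟨36, 0x43e1d0d8642e15098441e0d058240e0501, 0, 36, 0x2201002401002601002801, []⟩]

theorem t9_10_27 : jobs 8 S9 b8_10 j9_10_27 = true := by decide +kernel

noncomputable def j9_10_28 : List Job := [
  ⟨35, 0x43e1d0d8642e15098441e0d058240e0501, 0, 16, 0x0, []⟩]

theorem t9_10_28 : jobs 8 S9 b8_10 j9_10_28 = true := by decide +kernel

noncomputable def j9_10_29 : List Job := [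
  ⟨34, 0x44c2e1a0f4482c1b0fc442a180e44028190ec3e1d0d8642e15098441e0d058240e0501, 0, 44, 0x2202002601002801002a01002e01003001005201005401005601005801, []⟩]

theorem t9_10_29 : jobs 8 S9 b8_10 j9_10_29 = true := by decide +kernel

noncomputable def j9_10_30 : List Job := [
  ⟨33, 0x44c2e1a0f4482c1b0fc442a180e44028190ec3e1d0d8642e15098441e0d058240e0501, 0, 36, 0x2201002401002601002801, []⟩]

theorem t9_10_30 : jobs 8 S9 b8_10 j9_10_30 = true := by decide +kernel

noncomputable def j9_10_31 : List Job := [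
  ⟨32, 0x44c2e190ec482c180e4442a1b0fc40281a0f43e1d0d8642e15098441e0d058240e0501, 0, 36, 0x4201004401004601004801, []⟩]

theorem t9_10_31 : jobs 8 S9 b8_10 j9_10_31 = true := by decide +kernel

noncomputable def j9_10_32 : List Job := [
  ⟨31, 0x44c2e1a0f4482c1b0fc442a180e44028190ec3e1d0d8642e15098441e0d058240e0501, 0, 43, 0x4201004401004601004801004a01004e01005001005601, []⟩]

theorem t9_10_32 : jobs 8 S9 b8_10 j9_10_32 = true := by decide +kernel

noncomputable def j9_10_33 : List Job := [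
  ⟨30, 0x44c2e190ec482c180e4442a1b0fc40281a0f43e1d0d8642e15098441e0d058240e0501, 0, 36, 0x4201004401004601004801, []⟩]

theorem t9_10_33 : jobs 8 S9 b8_10 j9_10_33 = true := by decide +kernel

noncomputable def j9_10_34 : List Job := [
  ⟨29, 0x468361e0fc60321c0ec4826160bc4022140ac3e1d0d8642e15098441e0d058240e0501, 0, 40, 0x4201004401004601004801004a01004c01004e00005001, [(38, ⟨2191, 0x2000046000a000140040801080001001010040001, 0x1802509024040102002⟩)]⟩]

theorem t9_10_34 : jobs 8 S9 b8_10 j9_10_34 = true := by decide +kernel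

noncomputable def j9_10_35 : List Job := [
  ⟨28, 0x44c2e1a0f4482c1b0fc442a180e44028190ec3e1d0d8642e15098441e0d058240e0501, 0, 18, 0x2201002401, []⟩]

theorem t9_10_35 : jobs 8 S9 b8_10 j9_10_35 = true := by decide +kernel

noncomputable def j9_10_36 : List Job := [
  ⟨27, 0x43e1d0d8642e15098441e0d058240e0501, 0, 16, 0x0, []⟩]

theorem t9_10_36 : jobs 8 S9 b8_10 j9_10_36 = true := by decide +kernel

noncomputable def j9_10_37 : List Job := [
  ⟨26, 0x560b25a2d970ba5e2fd40a25229950aa562bd20924a259309a4e27d008242219108a4623c3e1d0d8642e15098441e0d058240e0501, 0, 36, 0x4401, []⟩]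

theorem t9_10_37 : jobs 8 S9 b8_10 j9_10_37 = true := by decide +kernel

noncomputable def j9_10_38 : List Job := [
  ⟨25, 0x5309a4e27d20924a25d108a4623d00824221c3e1d0d8642e15098441e0d058240e0501, 0, 36, 0x4201004401004601004801, []⟩]

theorem t9_10_38 : jobs 8 S9 b8_10 j9_10_38 = true := by decide +kernel

noncomputable def j9_10_39 : List Job := [
  ⟨24, 0x5309a4e27d20924a25d108a4623d00824221c3e1d0d8642e15098441e0d058240e0501, 0, 20, 0x2601002801, []⟩]

theorem t9_10_39 : jobs 8 S9 b8_10 j9_10_39 = true := by decide +kernel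

noncomputable def j9_10_40 : List Job := [
  ⟨23, 0x5309a4e27d20924a25d108a4623d00824221c3e1d0d8642e15098441e0d058240e0501, 0, 18, 0x2201002401, []⟩]

theorem t9_10_40 : jobs 8 S9 b8_10 j9_10_40 = true := by decide +kernel

noncomputable def j9_10_41 : List Job := [
  ⟨22, 0x5309a4e27d20924a25d108a4623d00824221c3e1d0d8642e15098441e0d058240e0501, 0, 44, 0x4201004401004601004801004a00004e01005001005200005601005801, [(40, ⟨2190, 0x228014e004a401110040801080000400040040001, 0x18c2689824040082004⟩), (36, ⟨2189, 0x228004e000a401110040801080000400040040001, 0x18c2689824040082004⟩)]⟩]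

theorem t9_10_41 : jobs 8 S9 b8_10 j9_10_41 = true := by decide +kernel

noncomputable def j9_10_42 : List Job := [
  ⟨21, 0x5309a4e27d20924a25d108a4623d00824221c3e1d0d8642e15098441e0d058240e0501, 0, 18, 0x2201002401, []⟩]

theorem t9_10_42 : jobs 8 S9 b8_10 j9_10_42 = true := by decide +kernel

noncomputable def j9_10_43 : List Job := [
  ⟨20, 0x5108a4623920924a25d008242219309a4e27c582e1a0dc502a180cc48261e0fc40221c0ec3e1d0d8642e15098441e0d058240e0501, 0, 28, 0x2201002601002e01003000003400003801, [(25, ⟨2187, 0x21800430049c011300408000400004010c0000001, 0x18c250b834050202004⟩), (23, ⟨2188, 0x21801430049c001300408000400004010c0000001, 0x18c250b834050202004⟩)]⟩]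

theorem t9_10_43 : jobs 8 S9 b8_10 j9_10_43 = true := by decide +kernel

noncomputable def j9_10_44 : List Job := [
  ⟨19, 0x508864623920924c26d00824422928964e27c582e1c0ec502a1e0fc4826180cc40221a0dc3e1d0d8642e15098441e0d058240e0501, 0, 66, 0x2201002401006a01006c01006e01007001007a01007e12008212, []⟩]

theorem t9_10_44 : jobs 8 S9 b8_10 j9_10_44 = true := by decide +kernel

noncomputable def j9_10_45 : List Job := [
  ⟨18, 0x5108a4623920924a25d008242219309a4e27c582e1a0dc502a180cc48261e0fc40221c0ec3e1d0d8642e15098441e0d058240e0501, 0, 44, 0x4201004401004a01004e01005201, []⟩]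

theorem t9_10_45 : jobs 8 S9 b8_10 j9_10_45 = true := by decide +kernel

noncomputable def j9_10_46 : List Job := [
  ⟨17, 0x520924a259309a4e27d008242219108a4623c703a1e0fc60321a0dc502a160bc40221209c3e1d0d8642e15098441e0d058240e0501, 0, 54, 0x4201004401004a01004c01004e00005000005201005401005601005801005a01005c01005e01006001006201006401006601006801006a01006c01, [(39, ⟨2186, 0x47001400025e0045000820000800204004040080001, 0x18e200bc30040400802⟩), (38, ⟨2185, 0x4300140000560046800020000800204004040080001, 0x18a2009c2c040400802⟩)]⟩]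

theorem t9_10_46 : jobs 8 S9 b8_10 j9_10_46 = true := by decide +kernel

noncomputable def j9_10_47 : List Job := [
  ⟨16, 0x468361e0fc60321c0ec4826160bc4022140ac3e1d0d8642e15098441e0d058240e0501, 0, 19, 0x2201002401, []⟩]

theorem t9_10_47 : jobs 8 S9 b8_10 j9_10_47 = true := by decide +kernel

noncomputable def j9_10_48 : List Job := [
  ⟨15, 0x508864623920924c26d00824422928964e27c582e1c0ec502a1e0fc4826180cc40221a0dc3e1d0d8642e15098441e0d058240e0501, 0, 25, 0x2201002600002801002a01002c01003001, [(18, ⟨2182, 0x2300140004ac00170001000080042c010a0000001, 0x18c200883c040401406⟩)]⟩]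

theorem t9_10_48 : jobs 8 S9 b8_10 j9_10_48 = true := by decide +kernel

noncomputable def j9_10_49 : List Job := [
  ⟨14, 0x504864423124964c27500844523920944d27c3e1d0d8642e15098441e0d058240e0501, 0, 36, 0x0, []⟩]

theorem t9_10_49 : jobs 8 S9 b8_10 j9_10_49 = true := by decide +kernel

noncomputable def j9_10_50 : List Job := [
  ⟨13, 0x5108a46239309a4e27d00824221920924a25c3e1d0d8642e15098441e0d058240e0501, 0, 36, 0x0, []⟩]

theorem t9_10_50 : jobs 8 S9 b8_10 j9_10_50 = true := by decide +kernel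

noncomputable def j9_10_51 : List Job := [
  ⟨12, 0x504864423124964c27500844523920944d27c884626138a8562e17c804224128a0522c16c3e1d0d8642e15098441e0d058240e0501, 0, 42, 0x2201002401005201, []⟩]

theorem t9_10_51 : jobs 8 S9 b8_10 j9_10_51 = true := by decide +kernel

noncomputable def j9_10_52 : List Job := [
  ⟨11, 0x43e1d0d8642e15098441e0d058240e0501, 0, 36, 0x0, []⟩]

theorem t9_10_52 : jobs 8 S9 b8_10 j9_10_52 = true := by decide +kernel

noncomputable def j9_10_53 : List Job := [
  ⟨10, 0x504864423120944d27d00844523924964c2743e1d0d8642e15098441e0d058240e0501, 0, 36, 0x0, []⟩]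

theorem t9_10_53 : jobs 8 S9 b8_10 j9_10_53 = true := by decide +kernel

noncomputable def j9_10_54 : List Job := [
  ⟨9, 0x43e1d0d8642e15098441e0d058240e0501, 0, 36, 0x0, []⟩]

theorem t9_10_54 : jobs 8 S9 b8_10 j9_10_54 = true := by decide +kernel

noncomputable def j9_10_55 : List Job := [
  ⟨8, 0x64524944ba61369d4f64126954b265349c4fc3e1d0d8642e15098441e0d058240e0501, 0, 36, 0x0, []⟩]

theorem t9_10_55 : jobs 8 S9 b8_10 j9_10_55 = true := by decide +kernel

noncomputable def j9_10_56 : List Job := [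
  ⟨7, 0x5108a4623920924a25d008242219309a4e27c3e1d0d8642e15098441e0d058240e0501, 0, 36, 0x0, []⟩]

theorem t9_10_56 : jobs 8 S9 b8_10 j9_10_56 = true := by decide +kernel

noncomputable def j9_10_57 : List Job := [
  ⟨6, 0x64524944ba61369d4f64126954b265349c4fd108a46239309a4e27d00824221920924a25c3e1d0d8642e15098441e0d058240e0501, 0, 36, 0x0, []⟩]

theorem t9_10_57 : jobs 8 S9 b8_10 j9_10_57 = true := by decide +kernel

noncomputable def j9_10_58 : List Job := [
  ⟨5, 0x4884626138a8562e17c804224128a0522c16c3e1d0d8642e15098441e0d058240e0501, 0, 36, 0x0, []⟩]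

theorem t9_10_58 : jobs 8 S9 b8_10 j9_10_58 = true := by decide +kernel

noncomputable def j9_10_59 : List Job := [
  ⟨4, 0x64524944ba61369d4f64126954b265349c4fc884626138a8562e17c804224128a0522c16c3e1d0d8642e15098441e0d058240e0501, 0, 36, 0x0, []⟩]

theorem t9_10_59 : jobs 8 S9 b8_10 j9_10_59 = true := by decide +kernel

noncomputable def j9_10_60 : List Job := [
  ⟨3, 0x504864423120944d27d00844523924964c274884626138a8562e17c804224128a0522c16c3e1d0d8642e15098441e0d058240e0501, 0, 66, 0x4201004401006a01006c01008201, []⟩]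

theorem t9_10_60 : jobs 8 S9 b8_10 j9_10_60 = true := by decide +kernel

noncomputable def j9_10_61 : List Job := [
  ⟨2, 0x4984e2a15c904a2814c88462e17c80422c16c3e1d0d8642e15098441e0d058240e0501, 0, 36, 0x0, []⟩]

theorem t9_10_61 : jobs 8 S9 b8_10 j9_10_61 = true := by decide +kernel

noncomputable def j9_10_62 : List Job := [
  ⟨1, 0x5108a4623920924a25d008242219309a4e27c984e2a15c904a2814c88462e17c80422c16c3e1d0d8642e15098441e0d058240e0501, 0, 66, 0x4201004401006a14006c14007214007414008201, []⟩]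

theorem t9_10_62 : jobs 8 S9 b8_10 j9_10_62 = true := by decide +kernel

noncomputable def j9_10_63 : List Job := [
  ⟨0, 0x504864423124964c27500844523920944d27c3e1d0d8642e15098441e0d058240e0501, 0, 36, 0x0, []⟩]

theorem t9_10_63 : jobs 8 S9 b8_10 j9_10_63 = true := by decide +kernel

theorem d9_10 : Dn 8 S9 b8_10 := dn_of (Js := j9_10_0 ++ (j9_10_1 ++ (j9_10_2 ++ (j9_10_3 ++ (j9_10_4 ++ (j9_10_5 ++ (j9_10_6 ++ (j9_10_7 ++ (j9_10_8 ++ (j9_10_9 ++ (j9_10_10 ++ (j9_10_11 ++ (j9_10_12 ++ (j9_10_13 ++ (j9_10_14 ++ (j9_10_15 ++ (j9_10_16 ++ (j9_10_17 ++ (j9_10_18 ++ (j9_10_19 ++ (j9_10_20 ++ (j9_10_21 ++ (j9_10_22 ++ (j9_10_23 ++ (j9_10_24 ++ (j9_10_25 ++ (j9_10_26 ++ (j9_10_27 ++ (j9_10_28 ++ (j9_10_29 ++ (j9_10_30 ++ (j9_10_31 ++ (j9_10_32 ++ (j9_10_33 ++ (j9_10_34 ++ (j9_10_35 ++ (j9_10_36 ++ (j9_10_37 ++ (j9_10_38 ++ (j9_10_39 ++ (j9_10_40 ++ (j9_10_41 ++ (j9_10_42 ++ (j9_10_43 ++ (j9_10_44 ++ (j9_10_45 ++ (j9_10_46 ++ (j9_10_47 ++ (j9_10_48 ++ (j9_10_49 ++ (j9_10_50 ++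 (j9_10_51 ++ (j9_10_52 ++ (j9_10_53 ++ (j9_10_54 ++ (j9_10_55 ++ (j9_10_56 ++ (j9_10_57 ++ (j9_10_58 ++ (j9_10_59 ++ (j9_10_60 ++ (j9_10_61 ++ (j9_10_62 ++ (j9_10_63 ++ []))))))))))))))))))))))))))))))))))))))))))))))))))))))))))))))))
  (jobs_append t9_10_0 <| jobs_append t9_10_1 <| jobs_append t9_10_2 <| jobs_append t9_10_3 <| jobs_append t9_10_4 <| jobs_append t9_10_5 <| jobs_append t9_10_6 <| jobs_append t9_10_7 <| jobs_append t9_10_8 <| jobs_append t9_10_9 <| jobs_append t9_10_10 <| jobs_append t9_10_11 <| jobs_append t9_10_12 <| jobs_append t9_10_13 <| jobs_append t9_10_14 <| jobs_append t9_10_15 <| jobs_append t9_10_16 <| jobs_append t9_10_17 <| jobs_append t9_10_18 <| jobs_append t9_10_19 <| jobs_append t9_10_20 <| jobs_append t9_10_21 <| jobs_append t9_10_22 <| jobs_append t9_10_23 <| jobs_append t9_10_24 <| jobs_append t9_10_25 <| jobs_append t9_10_26 <| jobs_append t9_10_27 <| jobs_append t9_10_28 <| jobs_append t9_10_29 <| jobs_append t9_10_30 <| jobs_append t9_10_31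 <| jobs_append t9_10_32 <| jobs_append t9_10_33 <| jobs_append t9_10_34 <| jobs_append t9_10_35 <| jobs_append t9_10_36 <| jobs_append t9_10_37 <| jobs_append t9_10_38 <| jobs_append t9_10_39 <| jobs_append t9_10_40 <| jobs_append t9_10_41 <| jobs_append t9_10_42 <| jobs_append t9_10_43 <| jobs_append t9_10_44 <| jobs_append t9_10_45 <| jobs_append t9_10_46 <| jobs_append t9_10_47 <| jobs_append t9_10_48 <| jobs_append t9_10_49 <| jobs_append t9_10_50 <| jobs_append t9_10_51 <| jobs_append t9_10_52 <| jobs_append t9_10_53 <| jobs_append t9_10_54 <| jobs_append t9_10_55 <| jobs_append t9_10_56 <| jobs_append t9_10_57 <| jobs_append t9_10_58 <| jobs_append t9_10_59 <| jobs_append t9_10_60 <| jobs_append t9_10_61 <| jobs_append t9_10_62 <| jobs_append t9_10_63 <| List.forall_mem_nil _) (by decide +kernel)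

noncomputable def j9_11_0 : List Job := [
  ⟨63, 0x43e1d0d8642e15098441e0d058240e0501, 0, 19, 0x2201002401002601, []⟩]

theorem t9_11_0 : jobs 8 S9 b8_11 j9_11_0 = true := by decide +kernel

noncomputable def j9_11_1 : List Job := [
  ⟨62, 0x43e1d0d8642e15098441e0d058240e0501, 0, 16, 0x0, []⟩]

theorem t9_11_1 : jobs 8 S9 b8_11 j9_11_1 = true := by decide +kernel

noncomputable def j9_11_2 : List Job := [
  ⟨61, 0x43e1d0d8642e15098441e0d058240e0501, 0, 19, 0x2201002401002601, []⟩]

theorem t9_11_2 : jobs 8 S9 b8_11 j9_11_2 = true := by decide +kernel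

noncomputable def j9_11_3 : List Job := [
  ⟨60, 0x43e1d0d8642e15098441e0d058240e0501, 0, 16, 0x0, []⟩]

theorem t9_11_3 : jobs 8 S9 b8_11 j9_11_3 = true := by decide +kernel

noncomputable def j9_11_4 : List Job := [
  ⟨59, 0x43e1d0d8642e15098441e0d058240e0501, 0, 16, 0x0, []⟩]

theorem t9_11_4 : jobs 8 S9 b8_11 j9_11_4 = true := by decide +kernel

noncomputable def j9_11_5 : List Job := [
  ⟨58, 0x43e1d0d8642e15098441e0d058240e0501, 0, 36, 0x2201002401002601002801, []⟩]

theorem t9_11_5 : jobs 8 S9 b8_11 j9_11_5 = true := by decide +kernel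

noncomputable def j9_11_6 : List Job := [
  ⟨57, 0x43e1d0d8642e15098441e0d058240e0501, 0, 16, 0x0, []⟩]

theorem t9_11_6 : jobs 8 S9 b8_11 j9_11_6 = true := by decide +kernel

noncomputable def j9_11_7 : List Job := [
  ⟨56, 0x43e1d0d8642e15098441e0d058240e0501, 0, 18, 0x2201002401, []⟩]

theorem t9_11_7 : jobs 8 S9 b8_11 j9_11_7 = true := by decide +kernel

noncomputable def j9_11_8 : List Job := [
  ⟨55, 0x43e1d0d8642e15098441e0d058240e0501, 0, 16, 0x0, []⟩]

theorem t9_11_8 : jobs 8 S9 b8_11 j9_11_8 = true := by decide +kernel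

noncomputable def j9_11_9 : List Job := [
  ⟨54, 0x43e1d0d8642e15098441e0d058240e0501, 0, 36, 0x2201002401002601002801, []⟩]

theorem t9_11_9 : jobs 8 S9 b8_11 j9_11_9 = true := by decide +kernel

noncomputable def j9_11_10 : List Job := [
  ⟨53, 0x43e1d0d8642e15098441e0d058240e0501, 0, 19, 0x2201002401002601, []⟩]

theorem t9_11_10 : jobs 8 S9 b8_11 j9_11_10 = true := by decide +kernel

noncomputable def j9_11_11 : List Job := [
  ⟨52, 0x43e1d0d8642e15098441e0d058240e0501, 0, 36, 0x4201004401004601004801, []⟩]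

theorem t9_11_11 : jobs 8 S9 b8_11 j9_11_11 = true := by decide +kernel

noncomputable def j9_11_12 : List Job := [
  ⟨51, 0x43e1d0d8642e15098441e0d058240e0501, 0, 16, 0x0, []⟩]

theorem t9_11_12 : jobs 8 S9 b8_11 j9_11_12 = true := by decide +kernel

noncomputable def j9_11_13 : List Job := [
  ⟨50, 0x43e1d0d8642e15098441e0d058240e0501, 0, 16, 0x0, []⟩]

theorem t9_11_13 : jobs 8 S9 b8_11 j9_11_13 = true := by decide +kernel

noncomputable def j9_11_14 : List Job := [
  ⟨49, 0x43e1d0d8642e15098441e0d058240e0501, 0, 19, 0x2201002401002601, []⟩]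

theorem t9_11_14 : jobs 8 S9 b8_11 j9_11_14 = true := by decide +kernel

noncomputable def j9_11_15 : List Job := [
  ⟨48, 0x43e1d0d8642e15098441e0d058240e0501, 0, 16, 0x0, []⟩]

theorem t9_11_15 : jobs 8 S9 b8_11 j9_11_15 = true := by decide +kernel

noncomputable def j9_11_16 : List Job := [
  ⟨47, 0x43e1d0d8642e15098441e0d058240e0501, 0, 36, 0x4201004401004601004801, []⟩]

theorem t9_11_16 : jobs 8 S9 b8_11 j9_11_16 = true := by decide +kernel

noncomputable def j9_11_17 : List Job := [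
  ⟨46, 0x43e1d0d8642e15098441e0d058240e0501, 0, 16, 0x0, []⟩]

theorem t9_11_17 : jobs 8 S9 b8_11 j9_11_17 = true := by decide +kernel

noncomputable def j9_11_18 : List Job := [
  ⟨45, 0x43e1d0d8642e15098441e0d058240e0501, 0, 16, 0x0, []⟩]

theorem t9_11_18 : jobs 8 S9 b8_11 j9_11_18 = true := by decide +kernel

noncomputable def j9_11_19 : List Job := [
  ⟨44, 0x43e1d0d8642e15098441e0d058240e0501, 0, 19, 0x2201002401002601, []⟩]

theorem t9_11_19 : jobs 8 S9 b8_11 j9_11_19 = true := by decide +kernel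

noncomputable def j9_11_20 : List Job := [
  ⟨43, 0x43e1d0d8642e15098441e0d058240e0501, 0, 16, 0x0, []⟩]

theorem t9_11_20 : jobs 8 S9 b8_11 j9_11_20 = true := by decide +kernel

noncomputable def j9_11_21 : List Job := [
  ⟨42, 0x43e1d0d8642e15098441e0d058240e0501, 0, 36, 0x4201004401004601004801, []⟩]

theorem t9_11_21 : jobs 8 S9 b8_11 j9_11_21 = true := by decide +kernel

noncomputable def j9_11_22 : List Job := [
  ⟨41, 0x43e1d0d8642e15098441e0d058240e0501, 0, 36, 0x4201004401004601004801, []⟩]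

theorem t9_11_22 : jobs 8 S9 b8_11 j9_11_22 = true := by decide +kernel

noncomputable def j9_11_23 : List Job := [
  ⟨40, 0x43e1d0d8642e15098441e0d058240e0501, 0, 36, 0x4201004401004601004801, []⟩]

theorem t9_11_23 : jobs 8 S9 b8_11 j9_11_23 = true := by decide +kernel

noncomputable def j9_11_24 : List Job := [
  ⟨39, 0x43e1d0d8642e15098441e0d058240e0501, 0, 36, 0x4201004401004601004801, []⟩]

theorem t9_11_24 : jobs 8 S9 b8_11 j9_11_24 = true := by decide +kernel

noncomputable def j9_11_25 : List Job := [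
  ⟨38, 0x43e1d0d8642e15098441e0d058240e0501, 0, 36, 0x4201004401004601004801, []⟩]

theorem t9_11_25 : jobs 8 S9 b8_11 j9_11_25 = true := by decide +kernel

noncomputable def j9_11_26 : List Job := [
  ⟨37, 0x43e1d0d8642e15098441e0d058240e0501, 0, 36, 0x4201004401004601004801, []⟩]

theorem t9_11_26 : jobs 8 S9 b8_11 j9_11_26 = true := by decide +kernel

noncomputable def j9_11_27 : List Job := [
  ⟨36, 0x43e1d0d8642e15098441e0d058240e0501, 0, 36, 0x4201004401004601004801, []⟩]

theorem t9_11_27 : jobs 8 S9 b8_11 j9_11_27 = true := by decide +kernel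

noncomputable def j9_11_28 : List Job := [
  ⟨35, 0x564b45c2fd60b65d2f544a4542bd40a6552b43e1d0d8642e15098441e0d058240e0501, 0, 36, 0x4208004808, []⟩]

theorem t9_11_28 : jobs 8 S9 b8_11 j9_11_28 = true := by decide +kernel

noncomputable def j9_11_29 : List Job := [
  ⟨34, 0x564b65c2f560b45d2fd44a6542b540a4552bc3e1d0d8642e15098441e0d058240e0501, 0, 36, 0x4208004808, []⟩]

theorem t9_11_29 : jobs 8 S9 b8_11 j9_11_29 = true := by decide +kernel

noncomputable def j9_11_30 : List Job := [
  ⟨33, 0x564b65c2f560b45d2fd44a6542b540a4552bc3e1d0d8642e15098441e0d058240e0501, 0, 36, 0x4208004808, []⟩]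

theorem t9_11_30 : jobs 8 S9 b8_11 j9_11_30 = true := by decide +kernel

noncomputable def j9_11_31 : List Job := [
  ⟨32, 0x43e1d0d8642e15098441e0d058240e0501, 0, 36, 0x4201004401004601004801, []⟩]

theorem t9_11_31 : jobs 8 S9 b8_11 j9_11_31 = true := by decide +kernel

noncomputable def j9_11_32 : List Job := [
  ⟨31, 0x43e1d0d8642e15098441e0d058240e0501, 0, 16, 0x0, []⟩]

theorem t9_11_32 : jobs 8 S9 b8_11 j9_11_32 = true := by decide +kernel

noncomputable def j9_11_33 : List Job := [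
  ⟨30, 0x504864423120944d27d00844523924964c2743e1d0d8642e15098441e0d058240e0501, 0, 16, 0x0, []⟩]

theorem t9_11_33 : jobs 8 S9 b8_11 j9_11_33 = true := by decide +kernel

noncomputable def j9_11_34 : List Job := [
  ⟨29, 0x43e1d0d8642e15098441e0d058240e0501, 0, 16, 0x0, []⟩]

theorem t9_11_34 : jobs 8 S9 b8_11 j9_11_34 = true := by decide +kernel

noncomputable def j9_11_35 : List Job := [
  ⟨28, 0x43e1d0d8642e15098441e0d058240e0501, 0, 36, 0x4201004401004601004801, []⟩]

theorem t9_11_35 : jobs 8 S9 b8_11 j9_11_35 = true := by decide +kernel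

noncomputable def j9_11_36 : List Job := [
  ⟨27, 0x504864423120944d27d00844523924964c2743e1d0d8642e15098441e0d058240e0501, 0, 16, 0x0, []⟩]

theorem t9_11_36 : jobs 8 S9 b8_11 j9_11_36 = true := by decide +kernel

noncomputable def j9_11_37 : List Job := [
  ⟨26, 0x504864523920944c27500844423124964d27c3e1d0d8642e15098441e0d058240e0501, 0, 36, 0x4201004401, []⟩]

theorem t9_11_37 : jobs 8 S9 b8_11 j9_11_37 = true := by decide +kernel

noncomputable def j9_11_38 : List Job := [
  ⟨25, 0x43e1d0d8642e15098441e0d058240e0501, 0, 16, 0x0, []⟩]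

theorem t9_11_38 : jobs 8 S9 b8_11 j9_11_38 = true := by decide +kernel

noncomputable def j9_11_39 : List Job := [
  ⟨24, 0x43e1d0d8642e15098441e0d058240e0501, 0, 16, 0x0, []⟩]

theorem t9_11_39 : jobs 8 S9 b8_11 j9_11_39 = true := by decide +kernel

noncomputable def j9_11_40 : List Job := [
  ⟨23, 0x5148e48255108c4925d04864c27500844d27c3e1d0d8642e15098441e0d058240e0501, 0, 36, 0x4210004410, []⟩]

theorem t9_11_40 : jobs 8 S9 b8_11 j9_11_40 = true := by decide +kernel

noncomputable def j9_11_41 : List Job := [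
  ⟨22, 0x43e1d0d8642e15098441e0d058240e0501, 0, 16, 0x0, []⟩]

theorem t9_11_41 : jobs 8 S9 b8_11 j9_11_41 = true := by decide +kernel

noncomputable def j9_11_42 : List Job := [
  ⟨21, 0x43e1d0d8642e15098441e0d058240e0501, 0, 16, 0x0, []⟩]

theorem t9_11_42 : jobs 8 S9 b8_11 j9_11_42 = true := by decide +kernel

noncomputable def j9_11_43 : List Job := [
  ⟨20, 0x524964c27520944d27d04864423500844523c3e1d0d8642e15098441e0d058240e0501, 0, 19, 0x2201002401002601, []⟩]

theorem t9_11_43 : jobs 8 S9 b8_11 j9_11_43 = true := by decide +kernel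

noncomputable def j9_11_44 : List Job := [
  ⟨19, 0x43e1d0d8642e15098441e0d058240e0501, 0, 16, 0x0, []⟩]

theorem t9_11_44 : jobs 8 S9 b8_11 j9_11_44 = true := by decide +kernel

noncomputable def j9_11_45 : List Job := [
  ⟨18, 0x504864523920944c27500844423124964d27c3e1d0d8642e15098441e0d058240e0501, 0, 18, 0x2201002401, []⟩]

theorem t9_11_45 : jobs 8 S9 b8_11 j9_11_45 = true := by decide +kernel

noncomputable def j9_11_46 : List Job := [
  ⟨17, 0x43e1d0d8642e15098441e0d058240e0501, 0, 16, 0x0, []⟩]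

theorem t9_11_46 : jobs 8 S9 b8_11 j9_11_46 = true := by decide +kernel

noncomputable def j9_11_47 : List Job := [
  ⟨16, 0x504864523920944c27500844423124964d27c3e1d0d8642e15098441e0d058240e0501, 0, 16, 0x0, []⟩]

theorem t9_11_47 : jobs 8 S9 b8_11 j9_11_47 = true := by decide +kernel

noncomputable def j9_11_48 : List Job := [
  ⟨15, 0x44c2e1a0f4482c1b0fc442a180e44028190ec3e1d0d8642e15098441e0d058240e0501, 0, 24, 0x2200002601002801002a01002c01002e01003001, [(16, ⟨2211, 0x2080147000a4001b00408010c0042401040040001, 0x188270883405008200e⟩)]⟩]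

theorem t9_11_48 : jobs 8 S9 b8_11 j9_11_48 = true := by decide +kernel

noncomputable def j9_11_49 : List Job := [
  ⟨14, 0x504864423120944d27d00844523924964c2744c2c1a0fc482e1b0f44428180ec402a190e43e1d0d8642e15098441e0d058240e0501, 0, 74, 0x4201004401004a14004e14005214005614007a01007e01008001008601008801008a01008c01008e01009001009201009400, [(73, ⟨2210, 0x4300149000500004000010000400212000300080001, 0x18c210942005020200e⟩)]⟩]

theorem t9_11_49 : jobs 8 S9 b8_11 j9_11_49 = true := by decide +kernel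

noncomputable def j9_11_50 : List Job := [
  ⟨13, 0x508864623920924c26d00824422928964e27c582e1c0ec502a1e0fc4826180cc40221a0dc3e1d0d8642e15098441e0d058240e0501, 0, 41, 0x2201002401002601004801004a01005001005201, []⟩]

theorem t9_11_50 : jobs 8 S9 b8_11 j9_11_50 = true := by decide +kernel

noncomputable def j9_11_51 : List Job := [
  ⟨12, 0x44c2e1a0f4482c1b0fc442a180e44028190ec3e1d0d8642e15098441e0d058240e0501, 0, 36, 0x4201004401004601004801, []⟩]

theorem t9_11_51 : jobs 8 S9 b8_11 j9_11_51 = true := by decide +kernel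

noncomputable def j9_11_52 : List Job := [
  ⟨11, 0x44c2e1a0f4482c1b0fc442a180e44028190ec3e1d0d8642e15098441e0d058240e0501, 0, 20, 0x2201002401002600, [(18, ⟨2209, 0x100004a00948006402040108000480410000001, 0x180260882404008200c⟩)]⟩]

theorem t9_11_52 : jobs 8 S9 b8_11 j9_11_52 = true := by decide +kernel

noncomputable def j9_11_53 : List Job := [
  ⟨10, 0x504864423120944d27d00844523924964c2744c2c1a0fc482e1b0f44428180ec402a190e43e1d0d8642e15098441e0d058240e0501, 0, 48, 0x2200002600002a01004e01005001005601, [(18, ⟨2208, 0x210004300090001600008010400014000c0000001, 0x184270903805020200c⟩), (16, ⟨2207, 0x210004300090001600008010400014000c0000001, 0x184270903805020200c⟩)]⟩]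

theorem t9_11_53 : jobs 8 S9 b8_11 j9_11_53 = true := by decide +kernel

noncomputable def j9_11_54 : List Job := [
  ⟨9, 0x44c2e1a0f4482c1b0fc442a180e44028190ec3e1d0d8642e15098441e0d058240e0501, 0, 44, 0x2201002401002600002a00002e01003001003201003401003601003801, [(20, ⟨2205, 0x22c014e004b4011500408010c0042401040040001, 0x18a2608c2c05008200e⟩), (18, ⟨2206, 0x238004200488011b00008000c0002401040000001, 0x18c240a03405008200e⟩)]⟩]

theorem t9_11_54 : jobs 8 S9 b8_11 j9_11_54 = true := by decide +kernel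

noncomputable def j9_11_55 : List Job := [
  ⟨8, 0x44c2e1a0f4482c1b0fc442a180e44028190ec3e1d0d8642e15098441e0d058240e0501, 0, 18, 0x2201002401, []⟩]

theorem t9_11_55 : jobs 8 S9 b8_11 j9_11_55 = true := by decide +kernel

noncomputable def j9_11_56 : List Job := [
  ⟨7, 0x44c2e1a0f4482c1b0fc442a180e44028190ec3e1d0d8642e15098441e0d058240e0501, 0, 20, 0x2201002401002600, [(18, ⟨2198, 0x11e01410097004400204000c008680410000001, 0x18a230b02005008200c⟩)]⟩]

theorem t9_11_56 : jobs 8 S9 b8_11 j9_11_56 = true := by decide +kernel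

noncomputable def j9_11_57 : List Job := [
  ⟨6, 0x44c2e1a0f4482c1b0fc442a180e44028190ec3e1d0d8642e15098441e0d058240e0501, 0, 36, 0x4201004401004601004801, []⟩]

theorem t9_11_57 : jobs 8 S9 b8_11 j9_11_57 = true := by decide +kernel

noncomputable def j9_11_58 : List Job := [
  ⟨5, 0x43e1d0d8642e15098441e0d058240e0501, 0, 18, 0x2201002401, []⟩]

theorem t9_11_58 : jobs 8 S9 b8_11 j9_11_58 = true := by decide +kernel

noncomputable def j9_11_59 : List Job := [
  ⟨4, 0x43e1d0d8642e15098441e0d058240e0501, 0, 36, 0x2201002401002601002801, []⟩]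

theorem t9_11_59 : jobs 8 S9 b8_11 j9_11_59 = true := by decide +kernel

noncomputable def j9_11_60 : List Job := [
  ⟨3, 0x504864423120944d27d00844523924964c2743e1d0d8642e15098441e0d058240e0501, 0, 18, 0x2201002401, []⟩]

theorem t9_11_60 : jobs 8 S9 b8_11 j9_11_60 = true := by decide +kernel

noncomputable def j9_11_61 : List Job := [
  ⟨2, 0x43e1d0d8642e15098441e0d058240e0501, 0, 16, 0x0, []⟩]

theorem t9_11_61 : jobs 8 S9 b8_11 j9_11_61 = true := by decide +kernel

noncomputable def j9_11_62 : List Job := [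
  ⟨1, 0x43e1d0d8642e15098441e0d058240e0501, 0, 16, 0x0, []⟩]

theorem t9_11_62 : jobs 8 S9 b8_11 j9_11_62 = true := by decide +kernel

noncomputable def j9_11_63 : List Job := [
  ⟨0, 0x524964c27520944d27d04864423500844523c3e1d0d8642e15098441e0d058240e0501, 0, 24, 0x2201002401002601002801002a01002c01002e01003001, []⟩]

theorem t9_11_63 : jobs 8 S9 b8_11 j9_11_63 = true := by decide +kernel

theorem d9_11 : Dn 8 S9 b8_11 := dn_of (Js := j9_11_0 ++ (j9_11_1 ++ (j9_11_2 ++ (j9_11_3 ++ (j9_11_4 ++ (j9_11_5 ++ (j9_11_6 ++ (j9_11_7 ++ (j9_11_8 ++ (j9_11_9 ++ (j9_11_10 ++ (j9_11_11 ++ (j9_11_12 ++ (j9_11_13 ++ (j9_11_14 ++ (j9_11_15 ++ (j9_11_16 ++ (j9_11_17 ++ (j9_11_18 ++ (j9_11_19 ++ (j9_11_20 ++ (j9_11_21 ++ (j9_11_22 ++ (j9_11_23 ++ (j9_11_24 ++ (j9_11_25 ++ (j9_11_26 ++ (j9_11_27 ++ (j9_11_28 ++ (j9_11_29 ++ (j9_11_30 ++ (j9_11_31 ++ (j9_11_32 ++ (j9_11_33 ++ (j9_11_34 ++ (j9_11_35 ++ (j9_11_36 ++ (j9_11_37 ++ (j9_11_38 ++ (j9_11_39 ++ (j9_11_40 ++ (j9_11_41 ++ (j9_11_42 ++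 (j9_11_43 ++ (j9_11_44 ++ (j9_11_45 ++ (j9_11_46 ++ (j9_11_47 ++ (j9_11_48 ++ (j9_11_49 ++ (j9_11_50 ++ (j9_11_51 ++ (j9_11_52 ++ (j9_11_53 ++ (j9_11_54 ++ (j9_11_55 ++ (j9_11_56 ++ (j9_11_57 ++ (j9_11_58 ++ (j9_11_59 ++ (j9_11_60 ++ (j9_11_61 ++ (j9_11_62 ++ (j9_11_63 ++ []))))))))))))))))))))))))))))))))))))))))))))))))))))))))))))))))
  (jobs_append t9_11_0 <| jobs_append t9_11_1 <| jobs_append t9_11_2 <| jobs_append t9_11_3 <| jobs_append t9_11_4 <| jobs_append t9_11_5 <| jobs_append t9_11_6 <| jobs_append t9_11_7 <| jobs_append t9_11_8 <| jobs_append t9_11_9 <| jobs_append t9_11_10 <| jobs_append t9_11_11 <| jobs_append t9_11_12 <| jobs_append t9_11_13 <| jobs_append t9_11_14 <| jobs_append t9_11_15 <| jobs_append t9_11_16 <| jobs_append t9_11_17 <| jobs_append t9_11_18 <| jobs_append t9_11_19 <| jobs_append t9_11_20 <| jobs_append t9_11_21 <| jobs_append t9_11_22 <| jobs_append t9_11_23 <| jobs_append t9_11_24 <| jobs_append t9_11_25 <| jobs_append t9_11_26 <| jobs_append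 t9_11_27 <| jobs_append t9_11_28 <| jobs_append t9_11_29 <| jobs_append t9_11_30 <| jobs_append t9_11_31 <| jobs_append t9_11_32 <| jobs_append t9_11_33 <| jobs_append t9_11_34 <| jobs_append t9_11_35 <| jobs_append t9_11_36 <| jobs_append t9_11_37 <| jobs_append t9_11_38 <| jobs_append t9_11_39 <| jobs_append t9_11_40 <| jobs_append t9_11_41 <| jobs_append t9_11_42 <| jobs_append t9_11_43 <| jobs_append t9_11_44 <| jobs_append t9_11_45 <| jobs_append t9_11_46 <| jobs_append t9_11_47 <| jobs_append t9_11_48 <| jobs_append t9_11_49 <| jobs_append t9_11_50 <| jobs_append t9_11_51 <| jobs_append t9_11_52 <| jobs_append t9_11_53 <| jobs_append t9_11_54 <| jobs_append t9_11_55 <| jobs_append t9_11_56 <| jobs_append t9_11_57 <| jobs_append t9_11_58 <| jobs_append t9_11_59 <| jobs_append t9_11_60 <| jobs_append t9_11_61 <| jobs_append t9_11_62 <| jobs_append t9_11_63 <| List.forall_mem_nil _) (by decide +kernel)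

noncomputable def j9_12_0 : List Job := [
  ⟨63, 0x43e1d0d8642e15098441e0d058240e0501, 0, 16, 0x0, []⟩]

theorem t9_12_0 : jobs 8 S9 b8_12 j9_12_0 = true := by decide +kernel

noncomputable def j9_12_1 : List Job := [
  ⟨62, 0x43e1d0d8642e15098441e0d058240e0501, 0, 16, 0x0, []⟩]

theorem t9_12_1 : jobs 8 S9 b8_12 j9_12_1 = true := by decide +kernel

noncomputable def j9_12_2 : List Job := [
  ⟨61, 0x5108a4623920924a25d008242219309a4e27c3e1d0d8642e15098441e0d058240e0501, 0, 36, 0x4201004401, []⟩]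

theorem t9_12_2 : jobs 8 S9 b8_12 j9_12_2 = true := by decide +kernel

noncomputable def j9_12_3 : List Job := [
  ⟨60, 0x5108a4623920924a25d008242219309a4e27c3e1d0d8642e15098441e0d058240e0501, 0, 16, 0x0, []⟩]

theorem t9_12_3 : jobs 8 S9 b8_12 j9_12_3 = true := by decide +kernel

noncomputable def j9_12_4 : List Job := [
  ⟨59, 0x43e1d0d8642e15098441e0d058240e0501, 0, 16, 0x0, []⟩]

theorem t9_12_4 : jobs 8 S9 b8_12 j9_12_4 = true := by decide +kernel

noncomputable def j9_12_5 : List Job := [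
  ⟨58, 0x43e1d0d8642e15098441e0d058240e0501, 0, 16, 0x0, []⟩]

theorem t9_12_5 : jobs 8 S9 b8_12 j9_12_5 = true := by decide +kernel

noncomputable def j9_12_6 : List Job := [
  ⟨57, 0x5108a4623920924a25d008242219309a4e27c3e1d0d8642e15098441e0d058240e0501, 0, 36, 0x2201002401, []⟩]

theorem t9_12_6 : jobs 8 S9 b8_12 j9_12_6 = true := by decide +kernel

noncomputable def j9_12_7 : List Job := [
  ⟨56, 0x5108a4623920924a25d008242219309a4e27c3e1d0d8642e15098441e0d058240e0501, 0, 16, 0x0, []⟩]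

theorem t9_12_7 : jobs 8 S9 b8_12 j9_12_7 = true := by decide +kernel

noncomputable def j9_12_8 : List Job := [
  ⟨55, 0x43e1d0d8642e15098441e0d058240e0501, 0, 16, 0x0, []⟩]

theorem t9_12_8 : jobs 8 S9 b8_12 j9_12_8 = true := by decide +kernel

noncomputable def j9_12_9 : List Job := [
  ⟨54, 0x43e1d0d8642e15098441e0d058240e0501, 0, 16, 0x0, []⟩]

theorem t9_12_9 : jobs 8 S9 b8_12 j9_12_9 = true := by decide +kernel

noncomputable def j9_12_10 : List Job := [
  ⟨53, 0x5188e4a25d108a4824d08864e27d00824c26c3e1d0d8642e15098441e0d058240e0501, 0, 19, 0x2201002401002601, []⟩]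

theorem t9_12_10 : jobs 8 S9 b8_12 j9_12_10 = true := by decide +kernel

noncomputable def j9_12_11 : List Job := [
  ⟨52, 0x43e1d0d8642e15098441e0d058240e0501, 0, 16, 0x0, []⟩]

theorem t9_12_11 : jobs 8 S9 b8_12 j9_12_11 = true := by decide +kernel

noncomputable def j9_12_12 : List Job := [
  ⟨51, 0x43e1d0d8642e15098441e0d058240e0501, 0, 16, 0x0, []⟩]

theorem t9_12_12 : jobs 8 S9 b8_12 j9_12_12 = true := by decide +kernel

noncomputable def j9_12_13 : List Job := [
  ⟨50, 0x5108a4623920924a25d008242219309a4e27c3e1d0d8642e15098441e0d058240e0501, 0, 16, 0x0, []⟩]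

theorem t9_12_13 : jobs 8 S9 b8_12 j9_12_13 = true := by decide +kernel

noncomputable def j9_12_14 : List Job := [
  ⟨49, 0x5108a4623920924a25d008242219309a4e27c3e1d0d8642e15098441e0d058240e0501, 0, 36, 0x4201004401, []⟩]

theorem t9_12_14 : jobs 8 S9 b8_12 j9_12_14 = true := by decide +kernel

noncomputable def j9_12_15 : List Job := [
  ⟨48, 0x43e1d0d8642e15098441e0d058240e0501, 0, 16, 0x0, []⟩]

theorem t9_12_15 : jobs 8 S9 b8_12 j9_12_15 = true := by decide +kernel

noncomputable def j9_12_16 : List Job := [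
  ⟨47, 0x43e1d0d8642e15098441e0d058240e0501, 0, 16, 0x0, []⟩]

theorem t9_12_16 : jobs 8 S9 b8_12 j9_12_16 = true := by decide +kernel

noncomputable def j9_12_17 : List Job := [
  ⟨46, 0x5108a4623920924a25d008242219309a4e27c3e1d0d8642e15098441e0d058240e0501, 0, 36, 0x4201004401, []⟩]

theorem t9_12_17 : jobs 8 S9 b8_12 j9_12_17 = true := by decide +kernel

noncomputable def j9_12_18 : List Job := [
  ⟨45, 0x5108a4623920924a25d008242219309a4e27c3e1d0d8642e15098441e0d058240e0501, 0, 16, 0x0, []⟩]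

theorem t9_12_18 : jobs 8 S9 b8_12 j9_12_18 = true := by decide +kernel

noncomputable def j9_12_19 : List Job := [
  ⟨44, 0x43e1d0d8642e15098441e0d058240e0501, 0, 36, 0x4201004401004601004801, []⟩]

theorem t9_12_19 : jobs 8 S9 b8_12 j9_12_19 = true := by decide +kernel

noncomputable def j9_12_20 : List Job := [
  ⟨43, 0x5108a4623920924a25d008242219309a4e27c3e1d0d8642e15098441e0d058240e0501, 0, 36, 0x4201004401, []⟩]

theorem t9_12_20 : jobs 8 S9 b8_12 j9_12_20 = true := by decide +kernel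

noncomputable def j9_12_21 : List Job := [
  ⟨42, 0x520924a259309a4e27d008242219108a4623c3e1d0d8642e15098441e0d058240e0501, 0, 36, 0x4201004401, []⟩]

theorem t9_12_21 : jobs 8 S9 b8_12 j9_12_21 = true := by decide +kernel

noncomputable def j9_12_22 : List Job := [
  ⟨41, 0x43e1d0d8642e15098441e0d058240e0501, 0, 36, 0x4201004401004601004801, []⟩]

theorem t9_12_22 : jobs 8 S9 b8_12 j9_12_22 = true := by decide +kernel

noncomputable def j9_12_23 : List Job := [
  ⟨40, 0x520924a259309a4e27d008242219108a4623c3e1d0d8642e15098441e0d058240e0501, 0, 40, 0x4201004401004a01004c01004e01005001, []⟩]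

theorem t9_12_23 : jobs 8 S9 b8_12 j9_12_23 = true := by decide +kernel

noncomputable def j9_12_24 : List Job := [
  ⟨39, 0x43e1d0d8642e15098441e0d058240e0501, 0, 36, 0x4201004401004601004801, []⟩]

theorem t9_12_24 : jobs 8 S9 b8_12 j9_12_24 = true := by decide +kernel

noncomputable def j9_12_25 : List Job := [
  ⟨38, 0x5309a4e27d20924a25d108a4623d00824221c3e1d0d8642e15098441e0d058240e0501, 0, 42, 0x4208004408004a01004c01004e01005001005201005401, []⟩]

theorem t9_12_25 : jobs 8 S9 b8_12 j9_12_25 = true := by decide +kernel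

noncomputable def j9_12_26 : List Job := [
  ⟨37, 0x43e1d0d8642e15098441e0d058240e0501, 0, 36, 0x4201004401004601004801, []⟩]

theorem t9_12_26 : jobs 8 S9 b8_12 j9_12_26 = true := by decide +kernel

noncomputable def j9_12_27 : List Job := [
  ⟨36, 0x5309a4e27d20924a25d108a4623d00824221c3e1d0d8642e15098441e0d058240e0501, 0, 40, 0x4208004409004a01004c01004e01, []⟩]

theorem t9_12_27 : jobs 8 S9 b8_12 j9_12_27 = true := by decide +kernel

noncomputable def j9_12_28 : List Job := [
  ⟨35, 0x43e1d0d8642e15098441e0d058240e0501, 0, 36, 0x4201004401004601004801, []⟩]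

theorem t9_12_28 : jobs 8 S9 b8_12 j9_12_28 = true := by decide +kernel

noncomputable def j9_12_29 : List Job := [
  ⟨34, 0x5108a4623920924a25d008242219309a4e27c3e1d0d8642e15098441e0d058240e0501, 0, 41, 0x4201004401004a01004c01004e01005001005201, []⟩]

theorem t9_12_29 : jobs 8 S9 b8_12 j9_12_29 = true := by decide +kernel

noncomputable def j9_12_30 : List Job := [
  ⟨33, 0x520924a259309a4e27d008242219108a4623c3e1d0d8642e15098441e0d058240e0501, 0, 41, 0x4201004401004a01004c01005201, []⟩]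

theorem t9_12_30 : jobs 8 S9 b8_12 j9_12_30 = true := by decide +kernel

noncomputable def j9_12_31 : List Job := [
  ⟨32, 0x43e1d0d8642e15098441e0d058240e0501, 0, 36, 0x4201004401004601004801, []⟩]

theorem t9_12_31 : jobs 8 S9 b8_12 j9_12_31 = true := by decide +kernel

noncomputable def j9_12_32 : List Job := [
  ⟨31, 0x5309a4e27d20924a25d108a4623d00824221c3e1d0d8642e15098441e0d058240e0501, 0, 41, 0x4210004411004a01004c01004e01005001005201, []⟩]

theorem t9_12_32 : jobs 8 S9 b8_12 j9_12_32 = true := by decide +kernel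

noncomputable def j9_12_33 : List Job := [
  ⟨30, 0x43e1d0d8642e15098441e0d058240e0501, 0, 36, 0x4201004401004601004801, []⟩]

theorem t9_12_33 : jobs 8 S9 b8_12 j9_12_33 = true := by decide +kernel

noncomputable def j9_12_34 : List Job := [
  ⟨29, 0x43e1d0d8642e15098441e0d058240e0501, 0, 36, 0x4201004401004601004801, []⟩]

theorem t9_12_34 : jobs 8 S9 b8_12 j9_12_34 = true := by decide +kernel

noncomputable def j9_12_35 : List Job := [
  ⟨28, 0x5108a4623920924a25d008242219309a4e27c3e1d0d8642e15098441e0d058240e0501, 0, 36, 0x4201004401, []⟩]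

theorem t9_12_35 : jobs 8 S9 b8_12 j9_12_35 = true := by decide +kernel

noncomputable def j9_12_36 : List Job := [
  ⟨27, 0x520924a259309a4e27d008242219108a4623c3e1d0d8642e15098441e0d058240e0501, 0, 62, 0x4201004401004a01004c01007601007801, []⟩]

theorem t9_12_36 : jobs 8 S9 b8_12 j9_12_36 = true := by decide +kernel

noncomputable def j9_12_37 : List Job := [
  ⟨26, 0x43e1d0d8642e15098441e0d058240e0501, 0, 36, 0x4201004401004601004801, []⟩]

theorem t9_12_37 : jobs 8 S9 b8_12 j9_12_37 = true := by decide +kernel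

noncomputable def j9_12_38 : List Job := [
  ⟨25, 0x43e1d0d8642e15098441e0d058240e0501, 0, 36, 0x4201004401004601004801, []⟩]

theorem t9_12_38 : jobs 8 S9 b8_12 j9_12_38 = true := by decide +kernel

noncomputable def j9_12_39 : List Job := [
  ⟨24, 0x5108a4623920924a25d008242219309a4e27c3e1d0d8642e15098441e0d058240e0501, 0, 36, 0x4201004401, []⟩]

theorem t9_12_39 : jobs 8 S9 b8_12 j9_12_39 = true := by decide +kernel

noncomputable def j9_12_40 : List Job := [
  ⟨23, 0x520924a259309a4e27d008242219108a4623c3e1d0d8642e15098441e0d058240e0501, 0, 66, 0x4201004401004601004801005201005601005801005e01006001, []⟩]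

theorem t9_12_40 : jobs 8 S9 b8_12 j9_12_40 = true := by decide +kernel

noncomputable def j9_12_41 : List Job := [
  ⟨22, 0x5309a4e27d20924a25d108a4623d00824221c3e1d0d8642e15098441e0d058240e0501, 0, 41, 0x4208004408004a01004c01004e01005001005201, []⟩]

theorem t9_12_41 : jobs 8 S9 b8_12 j9_12_41 = true := by decide +kernel

noncomputable def j9_12_42 : List Job := [
  ⟨21, 0x43e1d0d8642e15098441e0d058240e0501, 0, 36, 0x4201004401004601004801, []⟩]

theorem t9_12_42 : jobs 8 S9 b8_12 j9_12_42 = true := by decide +kernel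

noncomputable def j9_12_43 : List Job := [
  ⟨20, 0x520924a259309a4e27d008242219108a4623c3e1d0d8642e15098441e0d058240e0501, 0, 36, 0x4201004401, []⟩]

theorem t9_12_43 : jobs 8 S9 b8_12 j9_12_43 = true := by decide +kernel

noncomputable def j9_12_44 : List Job := [
  ⟨19, 0x43e1d0d8642e15098441e0d058240e0501, 0, 36, 0x4201004401004601004801, []⟩]

theorem t9_12_44 : jobs 8 S9 b8_12 j9_12_44 = true := by decide +kernel

noncomputable def j9_12_45 : List Job := [
  ⟨18, 0x43e1d0d8642e15098441e0d058240e0501, 0, 16, 0x0, []⟩]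

theorem t9_12_45 : jobs 8 S9 b8_12 j9_12_45 = true := by decide +kernel

noncomputable def j9_12_46 : List Job := [
  ⟨17, 0x43e1d0d8642e15098441e0d058240e0501, 0, 36, 0x4201004401004601004801, []⟩]

theorem t9_12_46 : jobs 8 S9 b8_12 j9_12_46 = true := by decide +kernel

noncomputable def j9_12_47 : List Job := [
  ⟨16, 0x43e1d0d8642e15098441e0d058240e0501, 0, 16, 0x0, []⟩]

theorem t9_12_47 : jobs 8 S9 b8_12 j9_12_47 = true := by decide +kernel

noncomputable def j9_12_48 : List Job := [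
  ⟨15, 0x43e1d0d8642e15098441e0d058240e0501, 0, 16, 0x0, []⟩]

theorem t9_12_48 : jobs 8 S9 b8_12 j9_12_48 = true := by decide +kernel

noncomputable def j9_12_49 : List Job := [
  ⟨14, 0x43e1d0d8642e15098441e0d058240e0501, 0, 16, 0x0, []⟩]

theorem t9_12_49 : jobs 8 S9 b8_12 j9_12_49 = true := by decide +kernel

noncomputable def j9_12_50 : List Job := [
  ⟨13, 0x43e1d0d8642e15098441e0d058240e0501, 0, 18, 0x2201002401, []⟩]

theorem t9_12_50 : jobs 8 S9 b8_12 j9_12_50 = true := by decide +kernel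

noncomputable def j9_12_51 : List Job := [
  ⟨12, 0x43e1d0d8642e15098441e0d058240e0501, 0, 16, 0x0, []⟩]

theorem t9_12_51 : jobs 8 S9 b8_12 j9_12_51 = true := by decide +kernel

noncomputable def j9_12_52 : List Job := [
  ⟨11, 0x43e1d0d8642e15098441e0d058240e0501, 0, 16, 0x0, []⟩]

theorem t9_12_52 : jobs 8 S9 b8_12 j9_12_52 = true := by decide +kernel

noncomputable def j9_12_53 : List Job := [
  ⟨10, 0x43e1d0d8642e15098441e0d058240e0501, 0, 16, 0x0, []⟩]

theorem t9_12_53 : jobs 8 S9 b8_12 j9_12_53 = true := by decide +kernel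

noncomputable def j9_12_54 : List Job := [
  ⟨9, 0x43e1d0d8642e15098441e0d058240e0501, 0, 16, 0x0, []⟩]

theorem t9_12_54 : jobs 8 S9 b8_12 j9_12_54 = true := by decide +kernel

noncomputable def j9_12_55 : List Job := [
  ⟨8, 0x43e1d0d8642e15098441e0d058240e0501, 0, 36, 0x4201004401004601004801, []⟩]

theorem t9_12_55 : jobs 8 S9 b8_12 j9_12_55 = true := by decide +kernel

noncomputable def j9_12_56 : List Job := [
  ⟨7, 0x43e1d0d8642e15098441e0d058240e0501, 0, 18, 0x2201, []⟩]

theorem t9_12_56 : jobs 8 S9 b8_12 j9_12_56 = true := by decide +kernel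

noncomputable def j9_12_57 : List Job := [
  ⟨6, 0x43e1d0d8642e15098441e0d058240e0501, 0, 36, 0x4201004401004601004801, []⟩]

theorem t9_12_57 : jobs 8 S9 b8_12 j9_12_57 = true := by decide +kernel

noncomputable def j9_12_58 : List Job := [
  ⟨5, 0x43e1d0d8642e15098441e0d058240e0501, 0, 16, 0x0, []⟩]

theorem t9_12_58 : jobs 8 S9 b8_12 j9_12_58 = true := by decide +kernel

noncomputable def j9_12_59 : List Job := [
  ⟨4, 0x43e1d0d8642e15098441e0d058240e0501, 0, 19, 0x201000401002601, []⟩]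

theorem t9_12_59 : jobs 8 S9 b8_12 j9_12_59 = true := by decide +kernel

noncomputable def j9_12_60 : List Job := [
  ⟨3, 0x43e1d0d8642e15098441e0d058240e0501, 0, 19, 0x2201002401, []⟩]

theorem t9_12_60 : jobs 8 S9 b8_12 j9_12_60 = true := by decide +kernel

noncomputable def j9_12_61 : List Job := [
  ⟨2, 0x43e1d0d8642e15098441e0d058240e0501, 0, 36, 0x4201004401004601004801, []⟩]

theorem t9_12_61 : jobs 8 S9 b8_12 j9_12_61 = true := by decide +kernel

noncomputable def j9_12_62 : List Job := [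
  ⟨1, 0x43e1d0d8642e15098441e0d058240e0501, 0, 16, 0x0, []⟩]

theorem t9_12_62 : jobs 8 S9 b8_12 j9_12_62 = true := by decide +kernel

noncomputable def j9_12_63 : List Job := [
  ⟨0, 0x43e1d0d8642e15098441e0d058240e0501, 0, 19, 0x2201002401002601, []⟩]

theorem t9_12_63 : jobs 8 S9 b8_12 j9_12_63 = true := by decide +kernel

theorem d9_12 : Dn 8 S9 b8_12 := dn_of (Js := j9_12_0 ++ (j9_12_1 ++ (j9_12_2 ++ (j9_12_3 ++ (j9_12_4 ++ (j9_12_5 ++ (j9_12_6 ++ (j9_12_7 ++ (j9_12_8 ++ (j9_12_9 ++ (j9_12_10 ++ (j9_12_11 ++ (j9_12_12 ++ (j9_12_13 ++ (j9_12_14 ++ (j9_12_15 ++ (j9_12_16 ++ (j9_12_17 ++ (j9_12_18 ++ (j9_12_19 ++ (j9_12_20 ++ (j9_12_21 ++ (j9_12_22 ++ (j9_12_23 ++ (j9_12_24 ++ (j9_12_25 ++ (j9_12_26 ++ (j9_12_27 ++ (j9_12_28 ++ (j9_12_29 ++ (j9_12_30 ++ (j9_12_31 ++ (j9_12_32 ++ (j9_12_33 ++ (j9_12_34 ++ (j9_12_35 ++ (j9_12_36 ++ (j9_12_37 ++ (j9_12_38 ++ (j9_12_39 ++ (j9_12_40 ++ (j9_12_41 ++ (j9_12_42 ++ (j9_12_43 ++ (j9_12_44 ++ (j9_12_45 ++ (j9_12_46 ++ (j9_12_47 ++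 (j9_12_48 ++ (j9_12_49 ++ (j9_12_50 ++ (j9_12_51 ++ (j9_12_52 ++ (j9_12_53 ++ (j9_12_54 ++ (j9_12_55 ++ (j9_12_56 ++ (j9_12_57 ++ (j9_12_58 ++ (j9_12_59 ++ (j9_12_60 ++ (j9_12_61 ++ (j9_12_62 ++ (j9_12_63 ++ []))))))))))))))))))))))))))))))))))))))))))))))))))))))))))))))))
  (jobs_append t9_12_0 <| jobs_append t9_12_1 <| jobs_append t9_12_2 <| jobs_append t9_12_3 <| jobs_append t9_12_4 <| jobs_append t9_12_5 <| jobs_append t9_12_6 <| jobs_append t9_12_7 <| jobs_append t9_12_8 <| jobs_append t9_12_9 <| jobs_append t9_12_10 <| jobs_append t9_12_11 <| jobs_append t9_12_12 <| jobs_append t9_12_13 <| jobs_append t9_12_14 <| jobs_append t9_12_15 <| jobs_append t9_12_16 <| jobs_append t9_12_17 <| jobs_append t9_12_18 <| jobs_append t9_12_19 <| jobs_append t9_12_20 <| jobs_append t9_12_21 <| jobs_append t9_12_22 <| jobs_append t9_12_23 <| jobs_append t9_12_24 <| jobs_append t9_12_25 <| jobs_append t9_12_26 <| jobs_append t9_12_27 <| jobs_append t9_12_28 <| jobs_append t9_12_29 <|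 jobs_append t9_12_30 <| jobs_append t9_12_31 <| jobs_append t9_12_32 <| jobs_append t9_12_33 <| jobs_append t9_12_34 <| jobs_append t9_12_35 <| jobs_append t9_12_36 <| jobs_append t9_12_37 <| jobs_append t9_12_38 <| jobs_append t9_12_39 <| jobs_append t9_12_40 <| jobs_append t9_12_41 <| jobs_append t9_12_42 <| jobs_append t9_12_43 <| jobs_append t9_12_44 <| jobs_append t9_12_45 <| jobs_append t9_12_46 <| jobs_append t9_12_47 <| jobs_append t9_12_48 <| jobs_append t9_12_49 <| jobs_append t9_12_50 <| jobs_append t9_12_51 <| jobs_append t9_12_52 <| jobs_append t9_12_53 <| jobs_append t9_12_54 <| jobs_append t9_12_55 <| jobs_append t9_12_56 <| jobs_append t9_12_57 <| jobs_append t9_12_58 <| jobs_append t9_12_59 <| jobs_append t9_12_60 <| jobs_append t9_12_61 <| jobs_append t9_12_62 <| jobs_append t9_12_63 <| List.forall_mem_nil _) (by decide +kernel)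

noncomputable def j9_13_0 : List Job := [
  ⟨63, 0x54caa5a2e548a85b2ed44ae582f540ac592fc3e1d0d8642e15098441e0d058240e0501, 0, 36, 0x4208004808, []⟩]

theorem t9_13_0 : jobs 8 S9 b8_13 j9_13_0 = true := by decide +kernel

noncomputable def j9_13_1 : List Job := [
  ⟨62, 0x588c664329a8d66c36d80c266339a0d26e37d54ae5c2f550ac5d2fd44a6582d540a4592dc3e1d0d8642e15098441e0d058240e0501, 0, 41, 0x4208004608004a01004c01004e01005001005201, []⟩]

theorem t9_13_1 : jobs 8 S9 b8_13 j9_13_1 = true := by decide +kernel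

noncomputable def j9_13_2 : List Job := [
  ⟨61, 0x554ae5c2f550ac5d2fd44a6582d540a4592dc3e1d0d8642e15098441e0d058240e0501, 0, 41, 0x4208004808004a01004c01004e01005201, []⟩]

theorem t9_13_2 : jobs 8 S9 b8_13 j9_13_2 = true := by decide +kernel

noncomputable def j9_13_3 : List Job := [
  ⟨60, 0x5108a46239309a4e27d00824221920924a25c3e1d0d8642e15098441e0d058240e0501, 0, 16, 0x0, []⟩]

theorem t9_13_3 : jobs 8 S9 b8_13 j9_13_3 = true := by decide +kernel

noncomputable def j9_13_4 : List Job := [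
  ⟨59, 0x5108a4623920924a25d008242219309a4e27c3e1d0d8642e15098441e0d058240e0501, 0, 36, 0x2201002401, []⟩]

theorem t9_13_4 : jobs 8 S9 b8_13 j9_13_4 = true := by decide +kernel

noncomputable def j9_13_5 : List Job := [
  ⟨58, 0x504864423124964c27500844523920944d27c3e1d0d8642e15098441e0d058240e0501, 0, 16, 0x0, []⟩]

theorem t9_13_5 : jobs 8 S9 b8_13 j9_13_5 = true := by decide +kernel

noncomputable def j9_13_6 : List Job := [
  ⟨57, 0x504864423120944d27d00844523924964c2743e1d0d8642e15098441e0d058240e0501, 0, 36, 0x4201004401, []⟩]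

theorem t9_13_6 : jobs 8 S9 b8_13 j9_13_6 = true := by decide +kernel

noncomputable def j9_13_7 : List Job := [
  ⟨56, 0x43e1d0d8642e15098441e0d058240e0501, 0, 16, 0x0, []⟩]

theorem t9_13_7 : jobs 8 S9 b8_13 j9_13_7 = true := by decide +kernel

noncomputable def j9_13_8 : List Job := [
  ⟨55, 0x590ca66339b0da6e37d80c262319a0d26a35d04864423124964c27500844523920944d27c3e1d0d8642e15098441e0d058240e0501, 0, 36, 0x4201004401, []⟩]

theorem t9_13_8 : jobs 8 S9 b8_13 j9_13_8 = true := by decide +kernel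

noncomputable def j9_13_9 : List Job := [
  ⟨54, 0x5108a4623920924a25d008242219309a4e27c3e1d0d8642e15098441e0d058240e0501, 0, 16, 0x0, []⟩]

theorem t9_13_9 : jobs 8 S9 b8_13 j9_13_9 = true := by decide +kernel

noncomputable def j9_13_10 : List Job := [
  ⟨53, 0x504864423120944d27d00844523924964c2743e1d0d8642e15098441e0d058240e0501, 0, 18, 0x2201002401, []⟩]

theorem t9_13_10 : jobs 8 S9 b8_13 j9_13_10 = true := by decide +kernel

noncomputable def j9_13_11 : List Job := [
  ⟨52, 0x5108a46239309a4e27d00824221920924a25c4c2c1a0fc482e1b0f44428180ec402a190e43e1d0d8642e15098441e0d058240e0501, 0, 58, 0x4201004401004601004801004a00004e00005200005601005e01006001006201006401006601006801006a01006c01006e00007001007201007401, [(54, ⟨2251, 0x4280140000400005800810010400012004300000001, 0x183200803805020200e⟩), (40, ⟨2250, 0x4480140000400005800010010400012000300080001, 0x182200803805020200e⟩), (38, ⟨2249, 0x41001400004c0044800010000400212000300080001, 0x188200b03005020200e⟩), (36, ⟨2248,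 0x41001400004c0044800010000400212000300080001, 0x188200b03005020200e⟩)]⟩]

theorem t9_13_11 : jobs 8 S9 b8_13 j9_13_11 = true := by decide +kernel

noncomputable def j9_13_12 : List Job := [
  ⟨51, 0x520924a259309a4e27d008242219108a4623c542c1c0fc502e1d0f44424180dc4026190d43e1d0d8642e15098441e0d058240e0501, 0, 44, 0x2201002601004a01004c01005201005601, []⟩]

theorem t9_13_12 : jobs 8 S9 b8_13 j9_13_12 = true := by decide +kernel

noncomputable def j9_13_13 : List Job := [
  ⟨50, 0x504864423124964c27500844523920944d27c4c2c1a0fc482e1b0f44428180ec402a190e43e1d0d8642e15098441e0d058240e0501, 0, 45, 0x4201004401004601004801004a00004e00005201005601005a01, [(38, ⟨2247, 0x224004000080001600008010400014010c0000001, 0x183200803805020200c⟩), (36, ⟨2246, 0x224004000080001600008010400014010c0000001, 0x183200803805020200c⟩)]⟩]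

theorem t9_13_13 : jobs 8 S9 b8_13 j9_13_13 = true := by decide +kernel

noncomputable def j9_13_14 : List Job := [
  ⟨49, 0x508864623920924c26d00824422928964e27c542c1c0fc502e1d0f44424180dc4026190d43e1d0d8642e15098441e0d058240e0501, 0, 43, 0x4201004401004a01004c01004e00005201005400, [(41, ⟨2245, 0x200004a00098001a0041000080002800090040001, 0x180210b82404040180a⟩), (38, ⟨2244, 0x20c014000080001c0041001080002801090040001, 0x183200803804040180a⟩)]⟩]

theorem t9_13_14 : jobs 8 S9 b8_13 j9_13_14 = true := by decide +kernel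

noncomputable def j9_13_15 : List Job := [
  ⟨48, 0x44c2e1a0f4482c1b0fc442a180e44028190ec3e1d0d8642e15098441e0d058240e0501, 0, 19, 0x2201002401, []⟩]

theorem t9_13_15 : jobs 8 S9 b8_13 j9_13_15 = true := by decide +kernel

noncomputable def j9_13_16 : List Job := [
  ⟨47, 0x584c464339a4d46c37d80c665331a0d66d37504864523924964d27d00844423120944c274582e1c0ec502a1e0fc4826180cc40221a0dc3e1d0d8642e15098441e0d058240e0501, 0, 81, 0x4201004401004a00004e01005001005200005600008001008618008a1800920000960100980100a001, [(72, ⟨2236, 0x4380040000400005000020000800014004040080001, 0x18f2008030040401802⟩), (42, ⟨2238, 0x4480142000480005800020000800214000040000001, 0x185230a03c040401802⟩), (40, ⟨2237, 0x4480142000480005800020000800214000040000001, 0x185230a03c040401802⟩), (36, ⟨2235, 0x4580140000400007400820000800014004040080001, 0x183200803a040401802⟩)]⟩]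

theorem t9_13_16 : jobs 8 S9 b8_13 j9_13_16 = true := by decide +kernel

noncomputable def j9_13_17 : List Job := [
  ⟨46, 0x504864423124964c27500844523920944d27c3e1d0d8642e15098441e0d058240e0501, 0, 20, 0x2201002601, []⟩]

theorem t9_13_17 : jobs 8 S9 b8_13 j9_13_17 = true := by decide +kernel

noncomputable def j9_13_18 : List Job := [
  ⟨45, 0x504864423124964c27500844523920944d27c3e1d0d8642e15098441e0d058240e0501, 0, 36, 0x4201004401, []⟩]

theorem t9_13_18 : jobs 8 S9 b8_13 j9_13_18 = true := by decide +kernel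

noncomputable def j9_13_19 : List Job := [
  ⟨44, 0x504864423120944d27d00844523924964c2743e1d0d8642e15098441e0d058240e0501, 0, 20, 0x2201002601, []⟩]

theorem t9_13_19 : jobs 8 S9 b8_13 j9_13_19 = true := by decide +kernel

noncomputable def j9_13_20 : List Job := [
  ⟨43, 0x43e1d0d8642e15098441e0d058240e0501, 0, 16, 0x0, []⟩]

theorem t9_13_20 : jobs 8 S9 b8_13 j9_13_20 = true := by decide +kernel

noncomputable def j9_13_21 : List Job := [
  ⟨42, 0x584c464339a4d46c37d80c665331a0d66d375108a46239309a4e27d00824221920924a25c3e1d0d8642e15098441e0d058240e0501, 0, 44, 0x4201004401004a01004c01004e01005201005401, []⟩]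

theorem t9_13_21 : jobs 8 S9 b8_13 j9_13_21 = true := by decide +kernel

noncomputable def j9_13_22 : List Job := [
  ⟨41, 0x504864423120944d27d00844523924964c2743e1d0d8642e15098441e0d058240e0501, 0, 20, 0x2201002401002601002801, []⟩]

theorem t9_13_22 : jobs 8 S9 b8_13 j9_13_22 = true := by decide +kernel

noncomputable def j9_13_23 : List Job := [
  ⟨40, 0x508864623920924c26d00824422928964e27c542c1c0fc502e1d0f44424180dc4026190d43e1d0d8642e15098441e0d058240e0501, 0, 43, 0x2201002401004a01004c01005001005401005601, []⟩]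

theorem t9_13_23 : jobs 8 S9 b8_13 j9_13_23 = true := by decide +kernel

noncomputable def j9_13_24 : List Job := [
  ⟨39, 0x44c2e1a0f4482c1b0fc442a180e44028190ec3e1d0d8642e15098441e0d058240e0501, 0, 18, 0x2201002401, []⟩]

theorem t9_13_24 : jobs 8 S9 b8_13 j9_13_24 = true := by decide +kernel

noncomputable def j9_13_25 : List Job := [
  ⟨38, 0x504864423124964c27500844523920944d27c4c2c1a0fc482e1b0f44428180ec402a190e43e1d0d8642e15098441e0d058240e0501, 0, 46, 0x2201002601002801002a10002e10003201005601005801005a01005c01, []⟩]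

theorem t9_13_25 : jobs 8 S9 b8_13 j9_13_25 = true := by decide +kernel

noncomputable def j9_13_26 : List Job := [
  ⟨37, 0x508864623920924c26d00824422928964e27c542c1c0fc502e1d0f44424180dc4026190d43e1d0d8642e15098441e0d058240e0501, 0, 44, 0x4201004401004a01004e01005201005601, []⟩]

theorem t9_13_26 : jobs 8 S9 b8_13 j9_13_26 = true := by decide +kernel

noncomputable def j9_13_27 : List Job := [
  ⟨36, 0x43e1d0d8642e15098441e0d058240e0501, 0, 16, 0x0, []⟩]

theorem t9_13_27 : jobs 8 S9 b8_13 j9_13_27 = true := by decide +kernel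

noncomputable def j9_13_28 : List Job := [
  ⟨35, 0x548a6562b960b25c2ed40a2542a968b65e2fd20924a259309a4e27d008242219108a4623c3e1d0d8642e15098441e0d058240e0501, 0, 36, 0x4401, []⟩]

theorem t9_13_28 : jobs 8 S9 b8_13 j9_13_28 = true := by decide +kernel

noncomputable def j9_13_29 : List Job := [
  ⟨34, 0x5309a4e27d20924a25d108a4623d00824221c3e1d0d8642e15098441e0d058240e0501, 0, 20, 0x2201002401002601002801, []⟩]

theorem t9_13_29 : jobs 8 S9 b8_13 j9_13_29 = true := by decide +kernel

noncomputable def j9_13_30 : List Job := [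
  ⟨33, 0x5309a4e27d20924a25d108a4623d00824221c3e1d0d8642e15098441e0d058240e0501, 0, 20, 0x2201002601, []⟩]

theorem t9_13_30 : jobs 8 S9 b8_13 j9_13_30 = true := by decide +kernel

noncomputable def j9_13_31 : List Job := [
  ⟨32, 0x5309a4e27d20924a25d108a4623d00824221c3e1d0d8642e15098441e0d058240e0501, 0, 18, 0x2201002401, []⟩]

theorem t9_13_31 : jobs 8 S9 b8_13 j9_13_31 = true := by decide +kernel

noncomputable def j9_13_32 : List Job := [
  ⟨31, 0x5108a4623920924a25d008242219309a4e27c4c2c1a0fc482e1b0f44428180ec402a190e43e1d0d8642e15098441e0d058240e0501, 0, 42, 0x4201004401004a01004c01005001005201, []⟩]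

theorem t9_13_32 : jobs 8 S9 b8_13 j9_13_32 = true := by decide +kernel

noncomputable def j9_13_33 : List Job := [
  ⟨30, 0x508864623920924c26d00824422928964e27c542c1c0fc502e1d0f44424180dc4026190d43e1d0d8642e15098441e0d058240e0501, 0, 48, 0x2201002401004a01005201005601005a01, []⟩]

theorem t9_13_33 : jobs 8 S9 b8_13 j9_13_33 = true := by decide +kernel

noncomputable def j9_13_34 : List Job := [
  ⟨29, 0x5108a4623920924a25d008242219309a4e27c4c2c1a0fc482e1b0f44428180ec402a190e43e1d0d8642e15098441e0d058240e0501, 0, 41, 0x2201002401002601002801004e01005001005201, []⟩]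

theorem t9_13_34 : jobs 8 S9 b8_13 j9_13_34 = true := by decide +kernel

noncomputable def j9_13_35 : List Job := [
  ⟨28, 0x520924a259309a4e27d008242219108a4623c582e1c0ec502a1e0fc4826180cc40221a0dc3e1d0d8642e15098441e0d058240e0501, 0, 54, 0x4201004401004a01004c00004e01005001005201005401005600005a01005c01005e0100600100620100640100660100680f006a01006c01, [(42, ⟨2233, 0x45001400005c0045800020000800214004040000001, 0x182200a83c040401802⟩), (37, ⟨2234, 0x45001400005c0005800020010800014004040000001, 0x182200a83c040401802⟩)]⟩]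

theorem t9_13_35 : jobs 8 S9 b8_13 j9_13_35 = true := by decide +kernel

noncomputable def j9_13_36 : List Job := [
  ⟨27, 0x44c2e1a0f4482c1b0fc442a180e44028190ec3e1d0d8642e15098441e0d058240e0501, 0, 19, 0x2201002401, []⟩]

theorem t9_13_36 : jobs 8 S9 b8_13 j9_13_36 = true := by decide +kernel

noncomputable def j9_13_37 : List Job := [
  ⟨26, 0x508864623920924c26d00824422928964e27c542c1c0fc502e1d0f44424180dc4026190d43e1d0d8642e15098441e0d058240e0501, 0, 25, 0x2201002401002800002a01002c01003001, [(19, ⟨2230, 0x23800440008c01180041000080040c010a0040001, 0x189240882804040140e⟩)]⟩]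

theorem t9_13_37 : jobs 8 S9 b8_13 j9_13_37 = true := by decide +kernel

noncomputable def j9_13_38 : List Job := [
  ⟨25, 0x605068443221148d47e01048543a25168c475309a4e27d20924a25d108a4623d00824221c3e1d0d8642e15098441e0d058240e0501, 0, 104, 0xc20100c60100ca0100ce01, []⟩]

theorem t9_13_38 : jobs 8 S9 b8_13 j9_13_38 = true := by decide +kernel

noncomputable def j9_13_39 : List Job := [
  ⟨24, 0x605068443221148d47e01048543a25168c475309a4e27d20924a25d108a4623d00824221c3e1d0d8642e15098441e0d058240e0501, 0, 102, 0x4601004801004c01, []⟩]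

theorem t9_13_39 : jobs 8 S9 b8_13 j9_13_39 = true := by decide +kernel

noncomputable def j9_13_40 : List Job := [
  ⟨23, 0x43e1d0d8642e15098441e0d058240e0501, 0, 36, 0x2201002401002601002801, []⟩]

theorem t9_13_40 : jobs 8 S9 b8_13 j9_13_40 = true := by decide +kernel

noncomputable def j9_13_41 : List Job := [
  ⟨22, 0x43e1d0d8642e15098441e0d058240e0501, 0, 16, 0x0, []⟩]

theorem t9_13_41 : jobs 8 S9 b8_13 j9_13_41 = true := by decide +kernel

noncomputable def j9_13_42 : List Job := [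
  ⟨21, 0x5108a4623920924a25d008242219309a4e27c3e1d0d8642e15098441e0d058240e0501, 0, 16, 0x0, []⟩]

theorem t9_13_42 : jobs 8 S9 b8_13 j9_13_42 = true := by decide +kernel

noncomputable def j9_13_43 : List Job := [
  ⟨20, 0x5108a4623920924a25d008242219309a4e27c3e1d0d8642e15098441e0d058240e0501, 0, 16, 0x0, []⟩]

theorem t9_13_43 : jobs 8 S9 b8_13 j9_13_43 = true := by decide +kernel

noncomputable def j9_13_44 : List Job := [
  ⟨19, 0x43e1d0d8642e15098441e0d058240e0501, 0, 36, 0x2201002401002601002801, []⟩]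

theorem t9_13_44 : jobs 8 S9 b8_13 j9_13_44 = true := by decide +kernel

noncomputable def j9_13_45 : List Job := [
  ⟨18, 0x43e1d0d8642e15098441e0d058240e0501, 0, 16, 0x0, []⟩]

theorem t9_13_45 : jobs 8 S9 b8_13 j9_13_45 = true := by decide +kernel

noncomputable def j9_13_46 : List Job := [
  ⟨17, 0x5108a4623920924a25d008242219309a4e27c3e1d0d8642e15098441e0d058240e0501, 0, 96, 0x0, []⟩]

theorem t9_13_46 : jobs 8 S9 b8_13 j9_13_46 = true := by decide +kernel

noncomputable def j9_13_47 : List Job := [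
  ⟨16, 0x5108a4623920924a25d008242219309a4e27c3e1d0d8642e15098441e0d058240e0501, 0, 18, 0x2201, []⟩]

theorem t9_13_47 : jobs 8 S9 b8_13 j9_13_47 = true := by decide +kernel

noncomputable def j9_13_48 : List Job := [
  ⟨15, 0x43e1d0d8642e15098441e0d058240e0501, 0, 16, 0x0, []⟩]

theorem t9_13_48 : jobs 8 S9 b8_13 j9_13_48 = true := by decide +kernel

noncomputable def j9_13_49 : List Job := [
  ⟨14, 0x43e1d0d8642e15098441e0d058240e0501, 0, 16, 0x0, []⟩]

theorem t9_13_49 : jobs 8 S9 b8_13 j9_13_49 = true := by decide +kernel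

noncomputable def j9_13_50 : List Job := [
  ⟨13, 0x5188e4a25d108a4824d08864e27d00824c26c3e1d0d8642e15098441e0d058240e0501, 0, 36, 0x4201004401004601004801, []⟩]

theorem t9_13_50 : jobs 8 S9 b8_13 j9_13_50 = true := by decide +kernel

noncomputable def j9_13_51 : List Job := [
  ⟨12, 0x5188e4824d108a4a25d08864c26d00824e27c3e1d0d8642e15098441e0d058240e0501, 0, 18, 0x2201002401, []⟩]

theorem t9_13_51 : jobs 8 S9 b8_13 j9_13_51 = true := by decide +kernel

noncomputable def j9_13_52 : List Job := [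
  ⟨11, 0x43e1d0d8642e15098441e0d058240e0501, 0, 16, 0x0, []⟩]

theorem t9_13_52 : jobs 8 S9 b8_13 j9_13_52 = true := by decide +kernel

noncomputable def j9_13_53 : List Job := [
  ⟨10, 0x43e1d0d8642e15098441e0d058240e0501, 0, 16, 0x0, []⟩]

theorem t9_13_53 : jobs 8 S9 b8_13 j9_13_53 = true := by decide +kernel

noncomputable def j9_13_54 : List Job := [
  ⟨9, 0x5188e4a25d108a4824d08864e27d00824c26c3e1d0d8642e15098441e0d058240e0501, 0, 40, 0x4201004401004601004801004a01004c01004e01005001, []⟩]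

theorem t9_13_54 : jobs 8 S9 b8_13 j9_13_54 = true := by decide +kernel

noncomputable def j9_13_55 : List Job := [
  ⟨8, 0x5188e4824d108a4a25d08864c26d00824e27c3e1d0d8642e15098441e0d058240e0501, 0, 96, 0x0, []⟩]

theorem t9_13_55 : jobs 8 S9 b8_13 j9_13_55 = true := by decide +kernel

noncomputable def j9_13_56 : List Job := [
  ⟨7, 0x43e1d0d8642e15098441e0d058240e0501, 0, 36, 0x4201004401004601004801, []⟩]

theorem t9_13_56 : jobs 8 S9 b8_13 j9_13_56 = true := by decide +kernel

noncomputable def j9_13_57 : List Job := [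
  ⟨6, 0x43e1d0d8642e15098441e0d058240e0501, 0, 16, 0x0, []⟩]

theorem t9_13_57 : jobs 8 S9 b8_13 j9_13_57 = true := by decide +kernel

noncomputable def j9_13_58 : List Job := [
  ⟨5, 0x5108a4623920924a25d008242219309a4e27c3e1d0d8642e15098441e0d058240e0501, 0, 19, 0x2201002401002601, []⟩]

theorem t9_13_58 : jobs 8 S9 b8_13 j9_13_58 = true := by decide +kernel

noncomputable def j9_13_59 : List Job := [
  ⟨4, 0x5108a4623920924a25d008242219309a4e27c3e1d0d8642e15098441e0d058240e0501, 0, 19, 0x2201002401002601, []⟩]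

theorem t9_13_59 : jobs 8 S9 b8_13 j9_13_59 = true := by decide +kernel

noncomputable def j9_13_60 : List Job := [
  ⟨3, 0x43e1d0d8642e15098441e0d058240e0501, 0, 16, 0x0, []⟩]

theorem t9_13_60 : jobs 8 S9 b8_13 j9_13_60 = true := by decide +kernel

noncomputable def j9_13_61 : List Job := [
  ⟨2, 0x43e1d0d8642e15098441e0d058240e0501, 0, 16, 0x0, []⟩]

theorem t9_13_61 : jobs 8 S9 b8_13 j9_13_61 = true := by decide +kernel

noncomputable def j9_13_62 : List Job := [
  ⟨1, 0x5188e4a25d108a4824d08864e27d00824c26c3e1d0d8642e15098441e0d058240e0501, 0, 19, 0x2201002401002601, []⟩]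

theorem t9_13_62 : jobs 8 S9 b8_13 j9_13_62 = true := by decide +kernel

noncomputable def j9_13_63 : List Job := [
  ⟨0, 0x43e1d0d8642e15098441e0d058240e0501, 0, 16, 0x0, []⟩]

theorem t9_13_63 : jobs 8 S9 b8_13 j9_13_63 = true := by decide +kernel

theorem d9_13 : Dn 8 S9 b8_13 := dn_of (Js := j9_13_0 ++ (j9_13_1 ++ (j9_13_2 ++ (j9_13_3 ++ (j9_13_4 ++ (j9_13_5 ++ (j9_13_6 ++ (j9_13_7 ++ (j9_13_8 ++ (j9_13_9 ++ (j9_13_10 ++ (j9_13_11 ++ (j9_13_12 ++ (j9_13_13 ++ (j9_13_14 ++ (j9_13_15 ++ (j9_13_16 ++ (j9_13_17 ++ (j9_13_18 ++ (j9_13_19 ++ (j9_13_20 ++ (j9_13_21 ++ (j9_13_22 ++ (j9_13_23 ++ (j9_13_24 ++ (j9_13_25 ++ (j9_13_26 ++ (j9_13_27 ++ (j9_13_28 ++ (j9_13_29 ++ (j9_13_30 ++ (j9_13_31 ++ (j9_13_32 ++ (j9_13_33 ++ (j9_13_34 ++ (j9_13_35 ++ (j9_13_36 ++ (j9_13_37 ++ (j9_13_38 ++ (j9_13_39 ++ (j9_13_40 ++ (j9_13_41 ++ (j9_13_42 ++ (j9_13_43 ++ (j9_13_44 ++ (j9_13_45 ++ (j9_13_46 ++ (j9_13_47 ++ (j9_13_48 ++ (j9_13_49 ++ (j9_13_50 ++ (j9_13_51 ++ (j9_13_52 ++ (j9_13_53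 ++ (j9_13_54 ++ (j9_13_55 ++ (j9_13_56 ++ (j9_13_57 ++ (j9_13_58 ++ (j9_13_59 ++ (j9_13_60 ++ (j9_13_61 ++ (j9_13_62 ++ (j9_13_63 ++ []))))))))))))))))))))))))))))))))))))))))))))))))))))))))))))))))
  (jobs_append t9_13_0 <| jobs_append t9_13_1 <| jobs_append t9_13_2 <| jobs_append t9_13_3 <| jobs_append t9_13_4 <| jobs_append t9_13_5 <| jobs_append t9_13_6 <| jobs_append t9_13_7 <| jobs_append t9_13_8 <| jobs_append t9_13_9 <| jobs_append t9_13_10 <| jobs_append t9_13_11 <| jobs_append t9_13_12 <| jobs_append t9_13_13 <| jobs_append t9_13_14 <| jobs_append t9_13_15 <| jobs_append t9_13_16 <| jobs_append t9_13_17 <| jobs_append t9_13_18 <| jobs_append t9_13_19 <| jobs_append t9_13_20 <| jobs_append t9_13_21 <| jobs_append t9_13_22 <| jobs_append t9_13_23 <| jobs_append t9_13_24 <| jobs_append t9_13_25 <| jobs_append t9_13_26 <| jobs_append t9_13_27 <| jobs_append t9_13_28 <| jobs_append t9_13_29 <| jobs_append t9_13_30 <| jobs_append t9_13_31 <| jobs_append t9_13_32 <| jobs_append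 t9_13_33 <| jobs_append t9_13_34 <| jobs_append t9_13_35 <| jobs_append t9_13_36 <| jobs_append t9_13_37 <| jobs_append t9_13_38 <| jobs_append t9_13_39 <| jobs_append t9_13_40 <| jobs_append t9_13_41 <| jobs_append t9_13_42 <| jobs_append t9_13_43 <| jobs_append t9_13_44 <| jobs_append t9_13_45 <| jobs_append t9_13_46 <| jobs_append t9_13_47 <| jobs_append t9_13_48 <| jobs_append t9_13_49 <| jobs_append t9_13_50 <| jobs_append t9_13_51 <| jobs_append t9_13_52 <| jobs_append t9_13_53 <| jobs_append t9_13_54 <| jobs_append t9_13_55 <| jobs_append t9_13_56 <| jobs_append t9_13_57 <| jobs_append t9_13_58 <| jobs_append t9_13_59 <| jobs_append t9_13_60 <| jobs_append t9_13_61 <| jobs_append t9_13_62 <| jobs_append t9_13_63 <| List.forall_mem_nil _) (by decide +kernel)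

noncomputable def j9_14_0 : List Job := [
  ⟨63, 0x43e1d0d8642e15098441e0d058240e0501, 0, 16, 0x0, []⟩]

theorem t9_14_0 : jobs 8 S9 b8_14 j9_14_0 = true := by decide +kernel

noncomputable def j9_14_1 : List Job := [
  ⟨62, 0x43e1d0d8642e15098441e0d058240e0501, 0, 16, 0x0, []⟩]

theorem t9_14_1 : jobs 8 S9 b8_14 j9_14_1 = true := by decide +kernel

noncomputable def j9_14_2 : List Job := [
  ⟨61, 0x43e1d0d8642e15098441e0d058240e0501, 0, 16, 0x0, []⟩]

theorem t9_14_2 : jobs 8 S9 b8_14 j9_14_2 = true := by decide +kernel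

noncomputable def j9_14_3 : List Job := [
  ⟨60, 0x43e1d0d8642e15098441e0d058240e0501, 0, 16, 0x0, []⟩]

theorem t9_14_3 : jobs 8 S9 b8_14 j9_14_3 = true := by decide +kernel

noncomputable def j9_14_4 : List Job := [
  ⟨59, 0x43e1d0d8642e15098441e0d058240e0501, 0, 16, 0x0, []⟩]

theorem t9_14_4 : jobs 8 S9 b8_14 j9_14_4 = true := by decide +kernel

noncomputable def j9_14_5 : List Job := [
  ⟨58, 0x43e1d0d8642e15098441e0d058240e0501, 0, 19, 0x2201002401002601, []⟩]

theorem t9_14_5 : jobs 8 S9 b8_14 j9_14_5 = true := by decide +kernel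

noncomputable def j9_14_6 : List Job := [
  ⟨57, 0x43e1d0d8642e15098441e0d058240e0501, 0, 16, 0x0, []⟩]

theorem t9_14_6 : jobs 8 S9 b8_14 j9_14_6 = true := by decide +kernel

noncomputable def j9_14_7 : List Job := [
  ⟨56, 0x43e1d0d8642e15098441e0d058240e0501, 0, 16, 0x0, []⟩]

theorem t9_14_7 : jobs 8 S9 b8_14 j9_14_7 = true := by decide +kernel

noncomputable def j9_14_8 : List Job := [
  ⟨55, 0x43e1d0d8642e15098441e0d058240e0501, 0, 16, 0x0, []⟩]

theorem t9_14_8 : jobs 8 S9 b8_14 j9_14_8 = true := by decide +kernel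

noncomputable def j9_14_9 : List Job := [
  ⟨54, 0x43e1d0d8642e15098441e0d058240e0501, 0, 36, 0x4201004401004601004801, []⟩]

theorem t9_14_9 : jobs 8 S9 b8_14 j9_14_9 = true := by decide +kernel

noncomputable def j9_14_10 : List Job := [
  ⟨53, 0x43e1d0d8642e15098441e0d058240e0501, 0, 16, 0x0, []⟩]

theorem t9_14_10 : jobs 8 S9 b8_14 j9_14_10 = true := by decide +kernel

noncomputable def j9_14_11 : List Job := [
  ⟨52, 0x43e1d0d8642e15098441e0d058240e0501, 0, 36, 0x4201004401004601004801, []⟩]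

theorem t9_14_11 : jobs 8 S9 b8_14 j9_14_11 = true := by decide +kernel

noncomputable def j9_14_12 : List Job := [
  ⟨51, 0x43e1d0d8642e15098441e0d058240e0501, 0, 20, 0x2201002401002601002801, []⟩]

theorem t9_14_12 : jobs 8 S9 b8_14 j9_14_12 = true := by decide +kernel

noncomputable def j9_14_13 : List Job := [
  ⟨50, 0x43e1d0d8642e15098441e0d058240e0501, 0, 16, 0x0, []⟩]

theorem t9_14_13 : jobs 8 S9 b8_14 j9_14_13 = true := by decide +kernel

noncomputable def j9_14_14 : List Job := [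
  ⟨49, 0x43e1d0d8642e15098441e0d058240e0501, 0, 16, 0x0, []⟩]

theorem t9_14_14 : jobs 8 S9 b8_14 j9_14_14 = true := by decide +kernel

noncomputable def j9_14_15 : List Job := [
  ⟨48, 0x44c2c1a0fc482e1b0f44428180ec402a190e43e1d0d8642e15098441e0d058240e0501, 0, 20, 0x2201002601002801, []⟩]

theorem t9_14_15 : jobs 8 S9 b8_14 j9_14_15 = true := by decide +kernel

noncomputable def j9_14_16 : List Job := [
  ⟨47, 0x5e0f27a3d9f0fa7e3fdc0e272399d0ea763bc3e1d0d8642e15098441e0d058240e0501, 0, 16, 0x0, []⟩]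

theorem t9_14_16 : jobs 8 S9 b8_14 j9_14_16 = true := by decide +kernel

noncomputable def j9_14_17 : List Job := [
  ⟨46, 0x43e1d0d8642e15098441e0d058240e0501, 0, 16, 0x0, []⟩]

theorem t9_14_17 : jobs 8 S9 b8_14 j9_14_17 = true := by decide +kernel

noncomputable def j9_14_18 : List Job := [
  ⟨45, 0x43e1d0d8642e15098441e0d058240e0501, 0, 16, 0x0, []⟩]

theorem t9_14_18 : jobs 8 S9 b8_14 j9_14_18 = true := by decide +kernel

noncomputable def j9_14_19 : List Job := [
  ⟨44, 0x5c4e6753b9e0f47c3f5c0e4743b1e4f67d3fc3e1d0d8642e15098441e0d058240e0501, 0, 16, 0x0, []⟩]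

theorem t9_14_19 : jobs 8 S9 b8_14 j9_14_19 = true := by decide +kernel

noncomputable def j9_14_20 : List Job := [
  ⟨43, 0x5c4e4753b1e4f47d3f5c0e6743b9e0f67c3fc3e1d0d8642e15098441e0d058240e0501, 0, 36, 0x2201002401002601002801, []⟩]

theorem t9_14_20 : jobs 8 S9 b8_14 j9_14_20 = true := by decide +kernel

noncomputable def j9_14_21 : List Job := [
  ⟨42, 0x43e1d0d8642e15098441e0d058240e0501, 0, 16, 0x0, []⟩]

theorem t9_14_21 : jobs 8 S9 b8_14 j9_14_21 = true := by decide +kernel

noncomputable def j9_14_22 : List Job := [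
  ⟨41, 0x43e1d0d8642e15098441e0d058240e0501, 0, 16, 0x0, []⟩]

theorem t9_14_22 : jobs 8 S9 b8_14 j9_14_22 = true := by decide +kernel

noncomputable def j9_14_23 : List Job := [
  ⟨40, 0x43e1d0d8642e15098441e0d058240e0501, 0, 16, 0x0, []⟩]

theorem t9_14_23 : jobs 8 S9 b8_14 j9_14_23 = true := by decide +kernel

noncomputable def j9_14_24 : List Job := [
  ⟨39, 0x43e1d0d8642e15098441e0d058240e0501, 0, 36, 0x2201002401002601002801, []⟩]

theorem t9_14_24 : jobs 8 S9 b8_14 j9_14_24 = true := by decide +kernel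

noncomputable def j9_14_25 : List Job := [
  ⟨38, 0x5c4e4743b9e4f47c3fdc0e6753b1e0f67d3f43e1d0d8642e15098441e0d058240e0501, 0, 16, 0x0, []⟩]

theorem t9_14_25 : jobs 8 S9 b8_14 j9_14_25 = true := by decide +kernel

noncomputable def j9_14_26 : List Job := [
  ⟨37, 0x5c4e4743b9e0f67d3f5c0e6753b1e4f47c3fc3e1d0d8642e15098441e0d058240e0501, 0, 16, 0x0, []⟩]

theorem t9_14_26 : jobs 8 S9 b8_14 j9_14_26 = true := by decide +kernel

noncomputable def j9_14_27 : List Job := [
  ⟨36, 0x5c4e6753b9e0f47c3f5c0e4743b1e4f67d3fc3e1d0d8642e15098441e0d058240e0501, 0, 36, 0x4201004401004601004801, []⟩]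

theorem t9_14_27 : jobs 8 S9 b8_14 j9_14_27 = true := by decide +kernel

noncomputable def j9_14_28 : List Job := [
  ⟨35, 0x5c4e4753b1e4f47d3f5c0e6743b9e0f67c3fc3e1d0d8642e15098441e0d058240e0501, 0, 16, 0x0, []⟩]

theorem t9_14_28 : jobs 8 S9 b8_14 j9_14_28 = true := by decide +kernel

noncomputable def j9_14_29 : List Job := [
  ⟨34, 0x43e1d0d8642e15098441e0d058240e0501, 0, 16, 0x0, []⟩]

theorem t9_14_29 : jobs 8 S9 b8_14 j9_14_29 = true := by decide +kernel

noncomputable def j9_14_30 : List Job := [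
  ⟨33, 0x43e1d0d8642e15098441e0d058240e0501, 0, 16, 0x0, []⟩]

theorem t9_14_30 : jobs 8 S9 b8_14 j9_14_30 = true := by decide +kernel

noncomputable def j9_14_31 : List Job := [
  ⟨32, 0x5e0f27a3d9f0fa7e3fdc0e272399d0ea763bc3e1d0d8642e15098441e0d058240e0501, 0, 16, 0x0, []⟩]

theorem t9_14_31 : jobs 8 S9 b8_14 j9_14_31 = true := by decide +kernel

noncomputable def j9_14_32 : List Job := [
  ⟨31, 0x43e1d0d8642e15098441e0d058240e0501, 0, 16, 0x0, []⟩]

theorem t9_14_32 : jobs 8 S9 b8_14 j9_14_32 = true := by decide +kernel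

noncomputable def j9_14_33 : List Job := [
  ⟨30, 0x43e1d0d8642e15098441e0d058240e0501, 0, 16, 0x0, []⟩]

theorem t9_14_33 : jobs 8 S9 b8_14 j9_14_33 = true := by decide +kernel

noncomputable def j9_14_34 : List Job := [
  ⟨29, 0x43e1d0d8642e15098441e0d058240e0501, 0, 16, 0x0, []⟩]

theorem t9_14_34 : jobs 8 S9 b8_14 j9_14_34 = true := by decide +kernel

noncomputable def j9_14_35 : List Job := [
  ⟨28, 0x43e1d0d8642e15098441e0d058240e0501, 0, 16, 0x0, []⟩]

theorem t9_14_35 : jobs 8 S9 b8_14 j9_14_35 = true := by decide +kernel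

noncomputable def j9_14_36 : List Job := [
  ⟨27, 0x5c4e4753b1e4f47d3f5c0e6743b9e0f67c3fc3e1d0d8642e15098441e0d058240e0501, 0, 19, 0x2201002401002601, []⟩]

theorem t9_14_36 : jobs 8 S9 b8_14 j9_14_36 = true := by decide +kernel

noncomputable def j9_14_37 : List Job := [
  ⟨26, 0x5c4e4753b1e0f67c3fdc0e6743b9e4f47d3f43e1d0d8642e15098441e0d058240e0501, 0, 36, 0x2401002601, []⟩]

theorem t9_14_37 : jobs 8 S9 b8_14 j9_14_37 = true := by decide +kernel

noncomputable def j9_14_38 : List Job := [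
  ⟨25, 0x5d0ea763b9e0f27a3ddc0e272399f0fa7e3fc3e1d0d8642e15098441e0d058240e0501, 0, 19, 0x2201002401002601, []⟩]

theorem t9_14_38 : jobs 8 S9 b8_14 j9_14_38 = true := by decide +kernel

noncomputable def j9_14_39 : List Job := [
  ⟨24, 0x5c8e6743a9e8f67c3edc0e2763b9e0f27e3fc3e1d0d8642e15098441e0d058240e0501, 0, 36, 0x4401004601, []⟩]

theorem t9_14_39 : jobs 8 S9 b8_14 j9_14_39 = true := by decide +kernel

noncomputable def j9_14_40 : List Job := [
  ⟨23, 0x43e1d0d8642e15098441e0d058240e0501, 0, 16, 0x0, []⟩]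

theorem t9_14_40 : jobs 8 S9 b8_14 j9_14_40 = true := by decide +kernel

noncomputable def j9_14_41 : List Job := [
  ⟨22, 0x43e1d0d8642e15098441e0d058240e0501, 0, 16, 0x0, []⟩]

theorem t9_14_41 : jobs 8 S9 b8_14 j9_14_41 = true := by decide +kernel

noncomputable def j9_14_42 : List Job := [
  ⟨21, 0x43e1d0d8642e15098441e0d058240e0501, 0, 19, 0x2201002401002601, []⟩]

theorem t9_14_42 : jobs 8 S9 b8_14 j9_14_42 = true := by decide +kernel

noncomputable def j9_14_43 : List Job := [
  ⟨20, 0x43e1d0d8642e15098441e0d058240e0501, 0, 19, 0x2201002401002601, []⟩]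

theorem t9_14_43 : jobs 8 S9 b8_14 j9_14_43 = true := by decide +kernel

noncomputable def j9_14_44 : List Job := [
  ⟨19, 0x5c4e4753b1e4f47d3f5c0e6743b9e0f67c3fc3e1d0d8642e15098441e0d058240e0501, 0, 19, 0x2201002401002601, []⟩]

theorem t9_14_44 : jobs 8 S9 b8_14 j9_14_44 = true := by decide +kernel

noncomputable def j9_14_45 : List Job := [
  ⟨18, 0x5c4e6743b1e0f47d3fdc0e4753b9e4f67c3f43e1d0d8642e15098441e0d058240e0501, 0, 42, 0x4401004601004a01004c01004e01005001005201005401, []⟩]

theorem t9_14_45 : jobs 8 S9 b8_14 j9_14_45 = true := by decide +kernel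

noncomputable def j9_14_46 : List Job := [
  ⟨17, 0x5c4e4743b9e4f47c3fdc0e6753b1e0f67d3f43e1d0d8642e15098441e0d058240e0501, 0, 19, 0x2201002401002601, []⟩]

theorem t9_14_46 : jobs 8 S9 b8_14 j9_14_46 = true := by decide +kernel

noncomputable def j9_14_47 : List Job := [
  ⟨16, 0x43e1d0d8642e15098441e0d058240e0501, 0, 19, 0x2201002401002601, []⟩]

theorem t9_14_47 : jobs 8 S9 b8_14 j9_14_47 = true := by decide +kernel

noncomputable def j9_14_48 : List Job := [
  ⟨15, 0x43e1d0d8642e15098441e0d058240e0501, 0, 19, 0x2201002401002601, []⟩]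

theorem t9_14_48 : jobs 8 S9 b8_14 j9_14_48 = true := by decide +kernel

noncomputable def j9_14_49 : List Job := [
  ⟨14, 0x584c664331a4d66c37580c465339a0d46d37c3e1d0d8642e15098441e0d058240e0501, 0, 42, 0x4201004401004a01004c01004e01005001005201005401, []⟩]

theorem t9_14_49 : jobs 8 S9 b8_14 j9_14_49 = true := by decide +kernel

noncomputable def j9_14_50 : List Job := [
  ⟨13, 0x584c464339a4d46c37d80c665331a0d66d3743e1d0d8642e15098441e0d058240e0501, 0, 36, 0x4201004401, []⟩]

theorem t9_14_50 : jobs 8 S9 b8_14 j9_14_50 = true := by decide +kernel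

noncomputable def j9_14_51 : List Job := [
  ⟨12, 0x584c464339a0d66d37580c665331a4d46c37c3e1d0d8642e15098441e0d058240e0501, 0, 40, 0x4201004401004a01004c00004e01005001, [(37, ⟨2253, 0x2280142000ac00100000800080040401040000001, 0x18c240b820040082004⟩)]⟩]

theorem t9_14_51 : jobs 8 S9 b8_14 j9_14_51 = true := by decide +kernel

noncomputable def j9_14_52 : List Job := [
  ⟨11, 0x544a6542b160b45d2fd40a4552b964b65c2f504864523924964d27d00844423120944c2743e1d0d8642e15098441e0d058240e0501, 0, 36, 0x4201004801, []⟩]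

theorem t9_14_52 : jobs 8 S9 b8_14 j9_14_52 = true := by decide +kernel

noncomputable def j9_14_53 : List Job := [
  ⟨10, 0x544a6552b960b45c2f540a4542b164b65d2fd04864523924964d27d00844423120944c2743e1d0d8642e15098441e0d058240e0501, 0, 66, 0x4201004801004c01005001005201005801005a01, []⟩]

theorem t9_14_53 : jobs 8 S9 b8_14 j9_14_53 = true := by decide +kernel

noncomputable def j9_14_54 : List Job := [
  ⟨9, 0x43e1d0d8642e15098441e0d058240e0501, 0, 36, 0x4201004401004601004801, []⟩]

theorem t9_14_54 : jobs 8 S9 b8_14 j9_14_54 = true := by decide +kernel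

noncomputable def j9_14_55 : List Job := [
  ⟨8, 0x43e1d0d8642e15098441e0d058240e0501, 0, 36, 0x4201004401004601004801, []⟩]

theorem t9_14_55 : jobs 8 S9 b8_14 j9_14_55 = true := by decide +kernel

noncomputable def j9_14_56 : List Job := [
  ⟨7, 0x584c465331a0d66c37d80c664339a4d46d37544a6542b160b45d2fd40a4552b964b65c2f504864523924964d27d00844423120944c2743e1d0d8642e15098441e0d058240e0501, 0, 48, 0x4201004a01004e01005201005a01, []⟩]

theorem t9_14_56 : jobs 8 S9 b8_14 j9_14_56 = true := by decide +kernel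

noncomputable def j9_14_57 : List Job := [
  ⟨6, 0x584c464339a4d46c37d80c665331a0d66d37544a6552b960b45c2f540a4542b164b65d2fd04864523924964d27d00844423120944c2743e1d0d8642e15098441e0d058240e0501, 0, 66, 0x4201004c01005001005201005801005a01, []⟩]

theorem t9_14_57 : jobs 8 S9 b8_14 j9_14_57 = true := by decide +kernel

noncomputable def j9_14_58 : List Job := [
  ⟨5, 0x584c664331a0d46d37d80c465339a4d66c3743e1d0d8642e15098441e0d058240e0501, 0, 36, 0x4201004401, []⟩]

theorem t9_14_58 : jobs 8 S9 b8_14 j9_14_58 = true := by decide +kernel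

noncomputable def j9_14_59 : List Job := [
  ⟨4, 0x544a6552b960b45c2f540a4542b164b65d2fd04864523924964d27d00844423120944c2743e1d0d8642e15098441e0d058240e0501, 0, 36, 0x4201004801, []⟩]

theorem t9_14_59 : jobs 8 S9 b8_14 j9_14_59 = true := by decide +kernel

noncomputable def j9_14_60 : List Job := [
  ⟨3, 0x584c464339a4d46c37d80c665331a0d66d3743e1d0d8642e15098441e0d058240e0501, 0, 36, 0x4201004401, []⟩]

theorem t9_14_60 : jobs 8 S9 b8_14 j9_14_60 = true := by decide +kernel

noncomputable def j9_14_61 : List Job := [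
  ⟨2, 0x544a6542b160b45d2fd40a4552b964b65c2f504864523924964d27d00844423120944c2743e1d0d8642e15098441e0d058240e0501, 0, 36, 0x4201004801, []⟩]

theorem t9_14_61 : jobs 8 S9 b8_14 j9_14_61 = true := by decide +kernel

noncomputable def j9_14_62 : List Job := [
  ⟨1, 0x590ca66339b0da6e37d80c262319a0d26a35d4caa5a2e548a85b2ed44ae582f540ac592fc3e1d0d8642e15098441e0d058240e0501, 0, 41, 0x4208004608004a01004c01004e01005001005201, []⟩]

theorem t9_14_62 : jobs 8 S9 b8_14 j9_14_62 = true := by decide +kernel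

noncomputable def j9_14_63 : List Job := [
  ⟨0, 0x54caa582f548a8592fd44ae5a2e540ac5b2ec3e1d0d8642e15098441e0d058240e0501, 0, 36, 0x4208004808, []⟩]

theorem t9_14_63 : jobs 8 S9 b8_14 j9_14_63 = true := by decide +kernel

theorem d9_14 : Dn 8 S9 b8_14 := dn_of (Js := j9_14_0 ++ (j9_14_1 ++ (j9_14_2 ++ (j9_14_3 ++ (j9_14_4 ++ (j9_14_5 ++ (j9_14_6 ++ (j9_14_7 ++ (j9_14_8 ++ (j9_14_9 ++ (j9_14_10 ++ (j9_14_11 ++ (j9_14_12 ++ (j9_14_13 ++ (j9_14_14 ++ (j9_14_15 ++ (j9_14_16 ++ (j9_14_17 ++ (j9_14_18 ++ (j9_14_19 ++ (j9_14_20 ++ (j9_14_21 ++ (j9_14_22 ++ (j9_14_23 ++ (j9_14_24 ++ (j9_14_25 ++ (j9_14_26 ++ (j9_14_27 ++ (j9_14_28 ++ (j9_14_29 ++ (j9_14_30 ++ (j9_14_31 ++ (j9_14_32 ++ (j9_14_33 ++ (j9_14_34 ++ (j9_14_35 ++ (j9_14_36 ++ (j9_14_37 ++ (j9_14_38 ++ (j9_14_39 ++ (j9_14_40 ++ (j9_14_41 ++ (j9_14_42 ++ (j9_14_43 ++ (j9_14_44 ++ (j9_14_45 ++ (j9_14_46 ++ (j9_14_47 ++ (j9_14_48 ++ (j9_14_49 ++ (j9_14_50 ++ (j9_14_51 ++ (j9_14_52 ++ (j9_14_53 ++ (j9_14_54 ++ (j9_14_55 ++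 (j9_14_56 ++ (j9_14_57 ++ (j9_14_58 ++ (j9_14_59 ++ (j9_14_60 ++ (j9_14_61 ++ (j9_14_62 ++ (j9_14_63 ++ []))))))))))))))))))))))))))))))))))))))))))))))))))))))))))))))))
  (jobs_append t9_14_0 <| jobs_append t9_14_1 <| jobs_append t9_14_2 <| jobs_append t9_14_3 <| jobs_append t9_14_4 <| jobs_append t9_14_5 <| jobs_append t9_14_6 <| jobs_append t9_14_7 <| jobs_append t9_14_8 <| jobs_append t9_14_9 <| jobs_append t9_14_10 <| jobs_append t9_14_11 <| jobs_append t9_14_12 <| jobs_append t9_14_13 <| jobs_append t9_14_14 <| jobs_append t9_14_15 <| jobs_append t9_14_16 <| jobs_append t9_14_17 <| jobs_append t9_14_18 <| jobs_append t9_14_19 <| jobs_append t9_14_20 <| jobs_append t9_14_21 <| jobs_append t9_14_22 <| jobs_append t9_14_23 <| jobs_append t9_14_24 <| jobs_append t9_14_25 <| jobs_append t9_14_26 <| jobs_append t9_14_27 <| jobs_append t9_14_28 <| jobs_append t9_14_29 <| jobs_append t9_14_30 <| jobs_append t9_14_31 <| jobs_append t9_14_32 <| jobs_append t9_14_33 <| jobs_append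 t9_14_34 <| jobs_append t9_14_35 <| jobs_append t9_14_36 <| jobs_append t9_14_37 <| jobs_append t9_14_38 <| jobs_append t9_14_39 <| jobs_append t9_14_40 <| jobs_append t9_14_41 <| jobs_append t9_14_42 <| jobs_append t9_14_43 <| jobs_append t9_14_44 <| jobs_append t9_14_45 <| jobs_append t9_14_46 <| jobs_append t9_14_47 <| jobs_append t9_14_48 <| jobs_append t9_14_49 <| jobs_append t9_14_50 <| jobs_append t9_14_51 <| jobs_append t9_14_52 <| jobs_append t9_14_53 <| jobs_append t9_14_54 <| jobs_append t9_14_55 <| jobs_append t9_14_56 <| jobs_append t9_14_57 <| jobs_append t9_14_58 <| jobs_append t9_14_59 <| jobs_append t9_14_60 <| jobs_append t9_14_61 <| jobs_append t9_14_62 <| jobs_append t9_14_63 <| List.forall_mem_nil _) (by decide +kernel)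

noncomputable def j9_15_0 : List Job := [
  ⟨63, 0x44826160b868361e0fc4022140a860321c0ec3e1d0d8642e15098441e0d058240e0501, 0, 16, 0x0, []⟩]

theorem t9_15_0 : jobs 8 S9 b8_15 j9_15_0 = true := by decide +kernel

noncomputable def j9_15_1 : List Job := [
  ⟨62, 0x68544a5532a156ac57e8146a453aa554ad57621128a45a311a8e47e01028241a110a8643c4826160b868361e0fc4022140a860321c0ec3e1d0d8642e15098441e0d058240e0501, 0, 48, 0x2401004a01005201005601005a01, []⟩]

theorem t9_15_1 : jobs 8 S9 b8_15 j9_15_1 = true := by decide +kernel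

noncomputable def j9_15_2 : List Job := [
  ⟨61, 0x520924a259309a4e27d008242219108a4623c4826160b868361e0fc4022140a860321c0ec3e1d0d8642e15098441e0d058240e0501, 0, 19, 0x2201002401, []⟩]

theorem t9_15_2 : jobs 8 S9 b8_15 j9_15_2 = true := by decide +kernel

noncomputable def j9_15_3 : List Job := [
  ⟨60, 0x43e1d0d8642e15098441e0d058240e0501, 0, 16, 0x0, []⟩]

theorem t9_15_3 : jobs 8 S9 b8_15 j9_15_3 = true := by decide +kernel

noncomputable def j9_15_4 : List Job := [
  ⟨59, 0x6110a8643a311a8e47e01028241a21128a45c3e1d0d8642e15098441e0d058240e0501, 0, 16, 0x0, []⟩]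

theorem t9_15_4 : jobs 8 S9 b8_15 j9_15_4 = true := by decide +kernel

noncomputable def j9_15_5 : List Job := [
  ⟨58, 0x621128a45a311a8e47e01028241a110a8643d108a4623920924a25d008242219309a4e27c3e1d0d8642e15098441e0d058240e0501, 0, 36, 0x2201, []⟩]

theorem t9_15_5 : jobs 8 S9 b8_15 j9_15_5 = true := by decide +kernel

noncomputable def j9_15_6 : List Job := [
  ⟨57, 0x43e1d0d8642e15098441e0d058240e0501, 0, 16, 0x0, []⟩]

theorem t9_15_6 : jobs 8 S9 b8_15 j9_15_6 = true := by decide +kernel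

noncomputable def j9_15_7 : List Job := [
  ⟨56, 0x6150e8c476110c8d47e05068845601048945c3e1d0d8642e15098441e0d058240e0501, 0, 19, 0x2201002401002601, []⟩]

theorem t9_15_7 : jobs 8 S9 b8_15 j9_15_7 = true := by decide +kernel

noncomputable def j9_15_8 : List Job := [
  ⟨55, 0x5108a4623920924a25d008242219309a4e27c3e1d0d8642e15098441e0d058240e0501, 0, 16, 0x0, []⟩]

theorem t9_15_8 : jobs 8 S9 b8_15 j9_15_8 = true := by decide +kernel

noncomputable def j9_15_9 : List Job := [
  ⟨54, 0x43e1d0d8642e15098441e0d058240e0501, 0, 16, 0x0, []⟩]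

theorem t9_15_9 : jobs 8 S9 b8_15 j9_15_9 = true := by decide +kernel

noncomputable def j9_15_10 : List Job := [
  ⟨53, 0x6110a8643a311a8e47e01028241a21128a45c3e1d0d8642e15098441e0d058240e0501, 0, 16, 0x0, []⟩]

theorem t9_15_10 : jobs 8 S9 b8_15 j9_15_10 = true := by decide +kernel

noncomputable def j9_15_11 : List Job := [
  ⟨52, 0x621128a45a311a8e47e01028241a110a8643d108a4623920924a25d008242219309a4e27c3e1d0d8642e15098441e0d058240e0501, 0, 36, 0x4201, []⟩]

theorem t9_15_11 : jobs 8 S9 b8_15 j9_15_11 = true := by decide +kernel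

noncomputable def j9_15_12 : List Job := [
  ⟨51, 0x43e1d0d8642e15098441e0d058240e0501, 0, 16, 0x0, []⟩]

theorem t9_15_12 : jobs 8 S9 b8_15 j9_15_12 = true := by decide +kernel

noncomputable def j9_15_13 : List Job := [
  ⟨50, 0x6311a8e47e21128a45e110a8643e01028241c3e1d0d8642e15098441e0d058240e0501, 0, 19, 0x2201002401002601, []⟩]

theorem t9_15_13 : jobs 8 S9 b8_15 j9_15_13 = true := by decide +kernel

noncomputable def j9_15_14 : List Job := [
  ⟨49, 0x5108a4623920924a25d008242219309a4e27c3e1d0d8642e15098441e0d058240e0501, 0, 16, 0x0, []⟩]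

theorem t9_15_14 : jobs 8 S9 b8_15 j9_15_14 = true := by decide +kernel

noncomputable def j9_15_15 : List Job := [
  ⟨48, 0x6110a8643a311a8e47e01028241a21128a45c3e1d0d8642e15098441e0d058240e0501, 0, 20, 0x2201002601, []⟩]

theorem t9_15_15 : jobs 8 S9 b8_15 j9_15_15 = true := by decide +kernel

noncomputable def j9_15_16 : List Job := [
  ⟨47, 0x520924a259309a4e27d008242219108a4623c3e1d0d8642e15098441e0d058240e0501, 0, 27, 0x2201002401002601002801002a01002c01002e01003001003401, []⟩]

theorem t9_15_16 : jobs 8 S9 b8_15 j9_15_16 = true := by decide +kernel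

noncomputable def j9_15_17 : List Job := [
  ⟨46, 0x43e1d0d8642e15098441e0d058240e0501, 0, 16, 0x0, []⟩]

theorem t9_15_17 : jobs 8 S9 b8_15 j9_15_17 = true := by decide +kernel

noncomputable def j9_15_18 : List Job := [
  ⟨45, 0x520924a259309a4e27d008242219108a4623c3e1d0d8642e15098441e0d058240e0501, 0, 18, 0x2201002401, []⟩]

theorem t9_15_18 : jobs 8 S9 b8_15 j9_15_18 = true := by decide +kernel

noncomputable def j9_15_19 : List Job := [
  ⟨44, 0x625168c47621148d47e05068443601048543d108a46239309a4e27d00824221920924a25c3e1d0d8642e15098441e0d058240e0501, 0, 57, 0x2201002601002e01003001005210005410005a01005c01005e01006001006201006401006801006c01007001, []⟩]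

theorem t9_15_19 : jobs 8 S9 b8_15 j9_15_19 = true := by decide +kernel

noncomputable def j9_15_20 : List Job := [
  ⟨43, 0x43e1d0d8642e15098441e0d058240e0501, 0, 20, 0x2201002401002601002801, []⟩]

theorem t9_15_20 : jobs 8 S9 b8_15 j9_15_20 = true := by decide +kernel

noncomputable def j9_15_21 : List Job := [
  ⟨42, 0x6110a8643a311a8e47e01028241a21128a45c3e1d0d8642e15098441e0d058240e0501, 0, 36, 0x2201002401, []⟩]

theorem t9_15_21 : jobs 8 S9 b8_15 j9_15_21 = true := by decide +kernel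

noncomputable def j9_15_22 : List Job := [
  ⟨41, 0x621128a45a311a8e47e01028241a110a8643d108a46239309a4e27d00824221920924a25c3e1d0d8642e15098441e0d058240e0501, 0, 27, 0x2201002401002601002801002c01003001003401, []⟩]

theorem t9_15_22 : jobs 8 S9 b8_15 j9_15_22 = true := by decide +kernel

noncomputable def j9_15_23 : List Job := [
  ⟨40, 0x43e1d0d8642e15098441e0d058240e0501, 0, 16, 0x0, []⟩]

theorem t9_15_23 : jobs 8 S9 b8_15 j9_15_23 = true := by decide +kernel

noncomputable def j9_15_24 : List Job := [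
  ⟨39, 0x520924a259309a4e27d008242219108a4623c3e1d0d8642e15098441e0d058240e0501, 0, 18, 0x2201002401, []⟩]

theorem t9_15_24 : jobs 8 S9 b8_15 j9_15_24 = true := by decide +kernel

noncomputable def j9_15_25 : List Job := [
  ⟨38, 0x43e1d0d8642e15098441e0d058240e0501, 0, 16, 0x0, []⟩]

theorem t9_15_25 : jobs 8 S9 b8_15 j9_15_25 = true := by decide +kernel

noncomputable def j9_15_26 : List Job := [
  ⟨37, 0x6110a8643a311a8e47e01028241a21128a45c3e1d0d8642e15098441e0d058240e0501, 0, 16, 0x0, []⟩]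

theorem t9_15_26 : jobs 8 S9 b8_15 j9_15_26 = true := by decide +kernel

noncomputable def j9_15_27 : List Job := [
  ⟨36, 0x5108a4623920924a25d008242219309a4e27c3e1d0d8642e15098441e0d058240e0501, 0, 18, 0x2201002401, []⟩]

theorem t9_15_27 : jobs 8 S9 b8_15 j9_15_27 = true := by decide +kernel

noncomputable def j9_15_28 : List Job := [
  ⟨35, 0x621128a45a311a8e47e01028241a110a8643d108a4623920924a25d008242219309a4e27c3e1d0d8642e15098441e0d058240e0501, 0, 18, 0x2401, []⟩]

theorem t9_15_28 : jobs 8 S9 b8_15 j9_15_28 = true := by decide +kernel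

noncomputable def j9_15_29 : List Job := [
  ⟨34, 0x43e1d0d8642e15098441e0d058240e0501, 0, 16, 0x0, []⟩]

theorem t9_15_29 : jobs 8 S9 b8_15 j9_15_29 = true := by decide +kernel

noncomputable def j9_15_30 : List Job := [
  ⟨33, 0x6110a8643a311a8e47e01028241a21128a45c3e1d0d8642e15098441e0d058240e0501, 0, 18, 0x2201002401, []⟩]

theorem t9_15_30 : jobs 8 S9 b8_15 j9_15_30 = true := by decide +kernel

noncomputable def j9_15_31 : List Job := [
  ⟨32, 0x520924a259309a4e27d008242219108a4623c3e1d0d8642e15098441e0d058240e0501, 0, 16, 0x0, []⟩]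

theorem t9_15_31 : jobs 8 S9 b8_15 j9_15_31 = true := by decide +kernel

noncomputable def j9_15_32 : List Job := [
  ⟨31, 0x621128a45a311a8e47e01028241a110a8643d108a46239309a4e27d00824221920924a25c3e1d0d8642e15098441e0d058240e0501, 0, 18, 0x2401, []⟩]

theorem t9_15_32 : jobs 8 S9 b8_15 j9_15_32 = true := by decide +kernel

noncomputable def j9_15_33 : List Job := [
  ⟨30, 0x44826160b868361e0fc4022140a860321c0ec3e1d0d8642e15098441e0d058240e0501, 0, 16, 0x0, []⟩]

theorem t9_15_33 : jobs 8 S9 b8_15 j9_15_33 = true := by decide +kernel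

noncomputable def j9_15_34 : List Job := [
  ⟨29, 0x5108a4623920924a25d008242219309a4e27c4826160b868361e0fc4022140a860321c0ec3e1d0d8642e15098441e0d058240e0501, 0, 43, 0x2201002401002601002a01002c01005001005201, []⟩]

theorem t9_15_34 : jobs 8 S9 b8_15 j9_15_34 = true := by decide +kernel

noncomputable def j9_15_35 : List Job := [
  ⟨28, 0x44826160b868361e0fc4022140a860321c0ec3e1d0d8642e15098441e0d058240e0501, 0, 16, 0x0, []⟩]

theorem t9_15_35 : jobs 8 S9 b8_15 j9_15_35 = true := by decide +kernel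

noncomputable def j9_15_36 : List Job := [
  ⟨27, 0x5108a4623920924a25d008242219309a4e27c4826160b868361e0fc4022140a860321c0ec3e1d0d8642e15098441e0d058240e0501, 0, 46, 0x4201004401004601004801004a01004c01004e01005201005601, []⟩]

theorem t9_15_36 : jobs 8 S9 b8_15 j9_15_36 = true := by decide +kernel

noncomputable def j9_15_37 : List Job := [
  ⟨26, 0x44826160b868361e0fc4022140a860321c0ec3e1d0d8642e15098441e0d058240e0501, 0, 36, 0x4201004401004601004801, []⟩]

theorem t9_15_37 : jobs 8 S9 b8_15 j9_15_37 = true := by decide +kernel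

noncomputable def j9_15_38 : List Job := [
  ⟨25, 0x6110a8643a311a8e47e01028241a21128a45c4826160b868361e0fc4022140a860321c0ec3e1d0d8642e15098441e0d058240e0501, 0, 22, 0x2201002601, []⟩]

theorem t9_15_38 : jobs 8 S9 b8_15 j9_15_38 = true := by decide +kernel

noncomputable def j9_15_39 : List Job := [
  ⟨24, 0x5108a4623920924a25d008242219309a4e27c4826160b868361e0fc4022140a860321c0ec3e1d0d8642e15098441e0d058240e0501, 0, 20, 0x2201002601002801, []⟩]

theorem t9_15_39 : jobs 8 S9 b8_15 j9_15_39 = true := by decide +kernel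

noncomputable def j9_15_40 : List Job := [
  ⟨23, 0x44826160b868361e0fc4022140a860321c0ec3e1d0d8642e15098441e0d058240e0501, 0, 16, 0x0, []⟩]

theorem t9_15_40 : jobs 8 S9 b8_15 j9_15_40 = true := by decide +kernel

noncomputable def j9_15_41 : List Job := [
  ⟨22, 0x6311a8e47e21128a45e110a8643e01028241c4826160b868361e0fc4022140a860321c0ec3e1d0d8642e15098441e0d058240e0501, 0, 42, 0x2201002601002801002a01002e08003009, []⟩]

theorem t9_15_41 : jobs 8 S9 b8_15 j9_15_41 = true := by decide +kernel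

noncomputable def j9_15_42 : List Job := [
  ⟨21, 0x5108a4623920924a25d008242219309a4e27c4826160b868361e0fc4022140a860321c0ec3e1d0d8642e15098441e0d058240e0501, 0, 44, 0x2601002801002a01005201005401, []⟩]

theorem t9_15_42 : jobs 8 S9 b8_15 j9_15_42 = true := by decide +kernel

noncomputable def j9_15_43 : List Job := [
  ⟨20, 0x44826160b868361e0fc4022140a860321c0ec3e1d0d8642e15098441e0d058240e0501, 0, 16, 0x0, []⟩]

theorem t9_15_43 : jobs 8 S9 b8_15 j9_15_43 = true := by decide +kernel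

noncomputable def j9_15_44 : List Job := [
  ⟨19, 0x6110a8643a311a8e47e01028241a21128a45c4826160b868361e0fc4022140a860321c0ec3e1d0d8642e15098441e0d058240e0501, 0, 48, 0x2201002e01003001005601005a01, []⟩]

theorem t9_15_44 : jobs 8 S9 b8_15 j9_15_44 = true := by decide +kernel

noncomputable def j9_15_45 : List Job := [
  ⟨18, 0x520924a259309a4e27d008242219108a4623c4826160b868361e0fc4022140a860321c0ec3e1d0d8642e15098441e0d058240e0501, 0, 36, 0x4201004401004601004801, []⟩]

theorem t9_15_45 : jobs 8 S9 b8_15 j9_15_45 = true := by decide +kernel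

noncomputable def j9_15_46 : List Job := [
  ⟨17, 0x44826160b868361e0fc4022140a860321c0ec3e1d0d8642e15098441e0d058240e0501, 0, 36, 0x4201004401004601004801, []⟩]

theorem t9_15_46 : jobs 8 S9 b8_15 j9_15_46 = true := by decide +kernel

noncomputable def j9_15_47 : List Job := [
  ⟨16, 0x6150e8c476110c8d47e05068845601048945c4826160b868361e0fc4022140a860321c0ec3e1d0d8642e15098441e0d058240e0501, 0, 26, 0x2201002a01002c01003001003201, []⟩]

theorem t9_15_47 : jobs 8 S9 b8_15 j9_15_47 = true := by decide +kernel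

noncomputable def j9_15_48 : List Job := [
  ⟨15, 0x520924a259309a4e27d008242219108a4623c4826160b868361e0fc4022140a860321c0ec3e1d0d8642e15098441e0d058240e0501, 0, 22, 0x2201002601, []⟩]

theorem t9_15_48 : jobs 8 S9 b8_15 j9_15_48 = true := by decide +kernel

noncomputable def j9_15_49 : List Job := [
  ⟨14, 0x44826160b868361e0fc4022140a860321c0ec3e1d0d8642e15098441e0d058240e0501, 0, 19, 0x2201002401, []⟩]

theorem t9_15_49 : jobs 8 S9 b8_15 j9_15_49 = true := by decide +kernel

noncomputable def j9_15_50 : List Job := [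
  ⟨13, 0x520924a259309a4e27d008242219108a4623c4826160b868361e0fc4022140a860321c0ec3e1d0d8642e15098441e0d058240e0501, 0, 36, 0x4201004401, []⟩]

theorem t9_15_50 : jobs 8 S9 b8_15 j9_15_50 = true := by decide +kernel

noncomputable def j9_15_51 : List Job := [
  ⟨12, 0x44826160b868361e0fc4022140a860321c0ec3e1d0d8642e15098441e0d058240e0501, 0, 20, 0x2201002601002801, []⟩]

theorem t9_15_51 : jobs 8 S9 b8_15 j9_15_51 = true := by decide +kernel

noncomputable def j9_15_52 : List Job := [
  ⟨11, 0x520924a259309a4e27d008242219108a4623c4826160b868361e0fc4022140a860321c0ec3e1d0d8642e15098441e0d058240e0501, 0, 36, 0x4201004401, []⟩]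

theorem t9_15_52 : jobs 8 S9 b8_15 j9_15_52 = true := by decide +kernel

noncomputable def j9_15_53 : List Job := [
  ⟨10, 0x508864623920924c26d00824422928964e27c3e1d0d8642e15098441e0d058240e0501, 0, 18, 0x2201002400, [(17, ⟨2259, 0x114014e0012800500208010b000500420000001, 0x182250b830010400c0c⟩)]⟩]

theorem t9_15_53 : jobs 8 S9 b8_15 j9_15_53 = true := by decide +kernel

noncomputable def j9_15_54 : List Job := [
  ⟨9, 0x520924a259309a4e27d008242219108a4623c904a26138b05a2e17c804222118a0522a15c502a160b8703a1e0fc40221209860321a0dc3e1d0d8642e15098441e0d058240e0501, 0, 33, 0x2201002a01002c01003001003401003c01, []⟩]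

theorem t9_15_54 : jobs 8 S9 b8_15 j9_15_54 = true := by decide +kernel

noncomputable def j9_15_55 : List Job := [
  ⟨8, 0x4904a26138b05a2e17c804222118a0522a15c502a160b8703a1e0fc40221209860321a0dc3e1d0d8642e15098441e0d058240e0501, 0, 20, 0x2201002601, []⟩]

theorem t9_15_55 : jobs 8 S9 b8_15 j9_15_55 = true := by decide +kernel

noncomputable def j9_15_56 : List Job := [
  ⟨7, 0x605068543a21148c47601048443225168d47c904a26138b05a2e17c804222118a0522a15c502a160b8703a1e0fc40221209860321a0dc3e1d0d8642e15098441e0d058240e0501, 0, 48, 0x4201004401004601004801004a01004e01005201005a01, []⟩]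

theorem t9_15_56 : jobs 8 S9 b8_15 j9_15_56 = true := by decide +kernel

noncomputable def j9_15_57 : List Job := [
  ⟨6, 0x508864623920924c26d00824422928964e27c904a26138b05a2e17c804222118a0522a15c502a160b8703a1e0fc40221209860321a0dc3e1d0d8642e15098441e0d058240e0501, 0, 46, 0x2201002401002c01002e01005601005801, []⟩]

theorem t9_15_57 : jobs 8 S9 b8_15 j9_15_57 = true := by decide +kernel

noncomputable def j9_15_58 : List Job := [
  ⟨5, 0x609068643a29168e47e01028442a21128c46d108a46239309a4e27d00824221920924a25ca0522a158b05a2e17c804222118904a2613c60321a0d8703a1e0fc402212098502a160bc3e1d0d8642e15098441e0d058240e0501, 0, 90, 0x4201004401006a01007201008201008a01008e0100960100a20100a60100ae01, []⟩]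

theorem t9_15_58 : jobs 8 S9 b8_15 j9_15_58 = true := by decide +kernel

noncomputable def j9_15_59 : List Job := [
  ⟨4, 0x520924a259309a4e27d008242219108a4623c904a26138b05a2e17c804222118a0522a15c502a160b8703a1e0fc40221209860321a0dc3e1d0d8642e15098441e0d058240e0501, 0, 44, 0x2601002a01002e01005201005401, []⟩]

theorem t9_15_59 : jobs 8 S9 b8_15 j9_15_59 = true := by decide +kernel

noncomputable def j9_15_60 : List Job := [
  ⟨3, 0x43e1d0d8642e15098441e0d058240e0501, 0, 16, 0x0, []⟩]

theorem t9_15_60 : jobs 8 S9 b8_15 j9_15_60 = true := by decide +kernel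

noncomputable def j9_15_61 : List Job := [
  ⟨2, 0x43e1d0d8642e15098441e0d058240e0501, 0, 16, 0x0, []⟩]

theorem t9_15_61 : jobs 8 S9 b8_15 j9_15_61 = true := by decide +kernel

noncomputable def j9_15_62 : List Job := [
  ⟨1, 0x43e1d0d8642e15098441e0d058240e0501, 0, 16, 0x0, []⟩]

theorem t9_15_62 : jobs 8 S9 b8_15 j9_15_62 = true := by decide +kernel

noncomputable def j9_15_63 : List Job := [
  ⟨0, 0x43e1d0d8642e15098441e0d058240e0501, 0, 18, 0x2201002401, []⟩]

theorem t9_15_63 : jobs 8 S9 b8_15 j9_15_63 = true := by decide +kernel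

theorem d9_15 : Dn 8 S9 b8_15 := dn_of (Js := j9_15_0 ++ (j9_15_1 ++ (j9_15_2 ++ (j9_15_3 ++ (j9_15_4 ++ (j9_15_5 ++ (j9_15_6 ++ (j9_15_7 ++ (j9_15_8 ++ (j9_15_9 ++ (j9_15_10 ++ (j9_15_11 ++ (j9_15_12 ++ (j9_15_13 ++ (j9_15_14 ++ (j9_15_15 ++ (j9_15_16 ++ (j9_15_17 ++ (j9_15_18 ++ (j9_15_19 ++ (j9_15_20 ++ (j9_15_21 ++ (j9_15_22 ++ (j9_15_23 ++ (j9_15_24 ++ (j9_15_25 ++ (j9_15_26 ++ (j9_15_27 ++ (j9_15_28 ++ (j9_15_29 ++ (j9_15_30 ++ (j9_15_31 ++ (j9_15_32 ++ (j9_15_33 ++ (j9_15_34 ++ (j9_15_35 ++ (j9_15_36 ++ (j9_15_37 ++ (j9_15_38 ++ (j9_15_39 ++ (j9_15_40 ++ (j9_15_41 ++ (j9_15_42 ++ (j9_15_43 ++ (j9_15_44 ++ (j9_15_45 ++ (j9_15_46 ++ (j9_15_47 ++ (j9_15_48 ++ (j9_15_49 ++ (j9_15_50 ++ (j9_15_51 ++ (j9_15_52 ++ (j9_15_53 ++ (j9_15_54 ++ (j9_15_55 ++ (j9_15_56 ++ (j9_15_57 ++ (j9_15_58 ++ (j9_15_59 ++ (j9_15_60 ++ (j9_15_61 ++ (j9_15_62 ++ (j9_15_63 ++ []))))))))))))))))))))))))))))))))))))))))))))))))))))))))))))))))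
  (jobs_append t9_15_0 <| jobs_append t9_15_1 <| jobs_append t9_15_2 <| jobs_append t9_15_3 <| jobs_append t9_15_4 <| jobs_append t9_15_5 <| jobs_append t9_15_6 <| jobs_append t9_15_7 <| jobs_append t9_15_8 <| jobs_append t9_15_9 <| jobs_append t9_15_10 <| jobs_append t9_15_11 <| jobs_append t9_15_12 <| jobs_append t9_15_13 <| jobs_append t9_15_14 <| jobs_append t9_15_15 <| jobs_append t9_15_16 <| jobs_append t9_15_17 <| jobs_append t9_15_18 <| jobs_append t9_15_19 <| jobs_append t9_15_20 <| jobs_append t9_15_21 <| jobs_append t9_15_22 <| jobs_append t9_15_23 <| jobs_append t9_15_24 <| jobs_append t9_15_25 <| jobs_append t9_15_26 <| jobs_append t9_15_27 <| jobs_append t9_15_28 <| jobs_append t9_15_29 <| jobs_append t9_15_30 <| jobs_append t9_15_31 <| jobs_append t9_15_32 <| jobs_append t9_15_33 <| jobs_append t9_15_34 <| jobs_append t9_15_35 <| jobs_append t9_15_36 <| jobs_append t9_15_37 <| jobs_append t9_15_38 <| jobs_append t9_15_39 <| jobs_append t9_15_40 <| jobs_append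 t9_15_41 <| jobs_append t9_15_42 <| jobs_append t9_15_43 <| jobs_append t9_15_44 <| jobs_append t9_15_45 <| jobs_append t9_15_46 <| jobs_append t9_15_47 <| jobs_append t9_15_48 <| jobs_append t9_15_49 <| jobs_append t9_15_50 <| jobs_append t9_15_51 <| jobs_append t9_15_52 <| jobs_append t9_15_53 <| jobs_append t9_15_54 <| jobs_append t9_15_55 <| jobs_append t9_15_56 <| jobs_append t9_15_57 <| jobs_append t9_15_58 <| jobs_append t9_15_59 <| jobs_append t9_15_60 <| jobs_append t9_15_61 <| jobs_append t9_15_62 <| jobs_append t9_15_63 <| List.forall_mem_nil _) (by decide +kernel)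

noncomputable def j9_16_0 : List Job := [
  ⟨63, 0x605068443225168c47601048543a21148d47c3e1d0d8642e15098441e0d058240e0501, 0, 36, 0x2201002401, []⟩]

theorem t9_16_0 : jobs 8 S9 b8_16 j9_16_0 = true := by decide +kernel

noncomputable def j9_16_1 : List Job := [
  ⟨62, 0x605068543a21148c47601048443225168d47d108a46239309a4e27d00824221920924a25c3e1d0d8642e15098441e0d058240e0501, 0, 20, 0x2201002601, []⟩]

theorem t9_16_1 : jobs 8 S9 b8_16 j9_16_1 = true := by decide +kernel

noncomputable def j9_16_2 : List Job := [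
  ⟨61, 0x43e1d0d8642e15098441e0d058240e0501, 0, 16, 0x0, []⟩]

theorem t9_16_2 : jobs 8 S9 b8_16 j9_16_2 = true := by decide +kernel

noncomputable def j9_16_3 : List Job := [
  ⟨60, 0x520924a259309a4e27d008242219108a4623c3e1d0d8642e15098441e0d058240e0501, 0, 16, 0x0, []⟩]

theorem t9_16_3 : jobs 8 S9 b8_16 j9_16_3 = true := by decide +kernel

noncomputable def j9_16_4 : List Job := [
  ⟨59, 0x43e1d0d8642e15098441e0d058240e0501, 0, 16, 0x0, []⟩]

theorem t9_16_4 : jobs 8 S9 b8_16 j9_16_4 = true := by decide +kernel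

noncomputable def j9_16_5 : List Job := [
  ⟨58, 0x605068443225168c47601048543a21148d47c3e1d0d8642e15098441e0d058240e0501, 0, 16, 0x0, []⟩]

theorem t9_16_5 : jobs 8 S9 b8_16 j9_16_5 = true := by decide +kernel

noncomputable def j9_16_6 : List Job := [
  ⟨57, 0x5108a4623920924a25d008242219309a4e27c3e1d0d8642e15098441e0d058240e0501, 0, 16, 0x0, []⟩]

theorem t9_16_6 : jobs 8 S9 b8_16 j9_16_6 = true := by decide +kernel

noncomputable def j9_16_7 : List Job := [
  ⟨56, 0x605068543a21148c47601048443225168d47d108a4623920924a25d008242219309a4e27c3e1d0d8642e15098441e0d058240e0501, 0, 20, 0x2201002601, []⟩]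

theorem t9_16_7 : jobs 8 S9 b8_16 j9_16_7 = true := by decide +kernel

noncomputable def j9_16_8 : List Job := [
  ⟨55, 0x605068443225168c47601048543a21148d47c4826160b868361e0fc4022140a860321c0ec3e1d0d8642e15098441e0d058240e0501, 0, 22, 0x2201002a01, []⟩]

theorem t9_16_8 : jobs 8 S9 b8_16 j9_16_8 = true := by decide +kernel

noncomputable def j9_16_9 : List Job := [
  ⟨54, 0x5108a4623920924a25d008242219309a4e27c4826160b868361e0fc4022140a860321c0ec3e1d0d8642e15098441e0d058240e0501, 0, 20, 0x2201002401002601, []⟩]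

theorem t9_16_9 : jobs 8 S9 b8_16 j9_16_9 = true := by decide +kernel

noncomputable def j9_16_10 : List Job := [
  ⟨53, 0x44826160b868361e0fc4022140a860321c0ec3e1d0d8642e15098441e0d058240e0501, 0, 16, 0x0, []⟩]

theorem t9_16_10 : jobs 8 S9 b8_16 j9_16_10 = true := by decide +kernel

noncomputable def j9_16_11 : List Job := [
  ⟨52, 0x625168c47621148d47e05068443601048543c4826160b868361e0fc4022140a860321c0ec3e1d0d8642e15098441e0d058240e0501, 0, 42, 0x2401002801002e08003008, []⟩]

theorem t9_16_11 : jobs 8 S9 b8_16 j9_16_11 = true := by decide +kernel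

noncomputable def j9_16_12 : List Job := [
  ⟨51, 0x44826160b868361e0fc4022140a860321c0ec3e1d0d8642e15098441e0d058240e0501, 0, 16, 0x0, []⟩]

theorem t9_16_12 : jobs 8 S9 b8_16 j9_16_12 = true := by decide +kernel

noncomputable def j9_16_13 : List Job := [
  ⟨50, 0x5108a4623920924a25d008242219309a4e27c4826160b868361e0fc4022140a860321c0ec3e1d0d8642e15098441e0d058240e0501, 0, 43, 0x2201002601002801002a01002e01005001005201, []⟩]

theorem t9_16_13 : jobs 8 S9 b8_16 j9_16_13 = true := by decide +kernel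

noncomputable def j9_16_14 : List Job := [
  ⟨49, 0x44826160b868361e0fc4022140a860321c0ec3e1d0d8642e15098441e0d058240e0501, 0, 16, 0x0, []⟩]

theorem t9_16_14 : jobs 8 S9 b8_16 j9_16_14 = true := by decide +kernel

noncomputable def j9_16_15 : List Job := [
  ⟨48, 0x44826160b868361e0fc4022140a860321c0ec3e1d0d8642e15098441e0d058240e0501, 0, 16, 0x0, []⟩]

theorem t9_16_15 : jobs 8 S9 b8_16 j9_16_15 = true := by decide +kernel

noncomputable def j9_16_16 : List Job := [
  ⟨47, 0x44826160b868361e0fc4022140a860321c0ec3e1d0d8642e15098441e0d058240e0501, 0, 20, 0x2201002601002801, []⟩]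

theorem t9_16_16 : jobs 8 S9 b8_16 j9_16_16 = true := by decide +kernel

noncomputable def j9_16_17 : List Job := [
  ⟨46, 0x520924a259309a4e27d008242219108a4623c4826160b868361e0fc4022140a860321c0ec3e1d0d8642e15098441e0d058240e0501, 0, 36, 0x4201004401, []⟩]

theorem t9_16_17 : jobs 8 S9 b8_16 j9_16_17 = true := by decide +kernel

noncomputable def j9_16_18 : List Job := [
  ⟨45, 0x44826160b868361e0fc4022140a860321c0ec3e1d0d8642e15098441e0d058240e0501, 0, 19, 0x2201002601, []⟩]

theorem t9_16_18 : jobs 8 S9 b8_16 j9_16_18 = true := by decide +kernel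

noncomputable def j9_16_19 : List Job := [
  ⟨44, 0x605068443225168c47601048543a21148d47c4826160b868361e0fc4022140a860321c0ec3e1d0d8642e15098441e0d058240e0501, 0, 36, 0x2201002401, []⟩]

theorem t9_16_19 : jobs 8 S9 b8_16 j9_16_19 = true := by decide +kernel

noncomputable def j9_16_20 : List Job := [
  ⟨43, 0x520924a259309a4e27d008242219108a4623c4826160b868361e0fc4022140a860321c0ec3e1d0d8642e15098441e0d058240e0501, 0, 36, 0x4201004401, []⟩]

theorem t9_16_20 : jobs 8 S9 b8_16 j9_16_20 = true := by decide +kernel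

noncomputable def j9_16_21 : List Job := [
  ⟨42, 0x625168c47621148d47e05068443601048543c4826160b868361e0fc4022140a860321c0ec3e1d0d8642e15098441e0d058240e0501, 0, 29, 0x2201002601002801002a01002e01003001003800, [(27, ⟨2260, 0x2080042000bc00100040801050001000080040001, 0x188240b42001010200c⟩)]⟩]

theorem t9_16_21 : jobs 8 S9 b8_16 j9_16_21 = true := by decide +kernel

noncomputable def j9_16_22 : List Job := [
  ⟨41, 0x520924a259309a4e27d008242219108a4623c4826160b868361e0fc4022140a860321c0ec3e1d0d8642e15098441e0d058240e0501, 0, 22, 0x2201002601, []⟩]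

theorem t9_16_22 : jobs 8 S9 b8_16 j9_16_22 = true := by decide +kernel

noncomputable def j9_16_23 : List Job := [
  ⟨40, 0x43e1d0d8642e15098441e0d058240e0501, 0, 19, 0x2201002401002601, []⟩]

theorem t9_16_23 : jobs 8 S9 b8_16 j9_16_23 = true := by decide +kernel

noncomputable def j9_16_24 : List Job := [
  ⟨39, 0x43e1d0d8642e15098441e0d058240e0501, 0, 16, 0x0, []⟩]

theorem t9_16_24 : jobs 8 S9 b8_16 j9_16_24 = true := by decide +kernel

noncomputable def j9_16_25 : List Job := [
  ⟨38, 0x5108a46239309a4e27d00824221920924a25c3e1d0d8642e15098441e0d058240e0501, 0, 16, 0x0, []⟩]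

theorem t9_16_25 : jobs 8 S9 b8_16 j9_16_25 = true := by decide +kernel

noncomputable def j9_16_26 : List Job := [
  ⟨37, 0x43e1d0d8642e15098441e0d058240e0501, 0, 16, 0x0, []⟩]

theorem t9_16_26 : jobs 8 S9 b8_16 j9_16_26 = true := by decide +kernel

noncomputable def j9_16_27 : List Job := [
  ⟨36, 0x43e1d0d8642e15098441e0d058240e0501, 0, 16, 0x0, []⟩]

theorem t9_16_27 : jobs 8 S9 b8_16 j9_16_27 = true := by decide +kernel

noncomputable def j9_16_28 : List Job := [
  ⟨35, 0x5108a4623920924a25d008242219309a4e27c3e1d0d8642e15098441e0d058240e0501, 0, 36, 0x4201004401, []⟩]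

theorem t9_16_28 : jobs 8 S9 b8_16 j9_16_28 = true := by decide +kernel

noncomputable def j9_16_29 : List Job := [
  ⟨34, 0x43e1d0d8642e15098441e0d058240e0501, 0, 20, 0x2201002401002601002801, []⟩]

theorem t9_16_29 : jobs 8 S9 b8_16 j9_16_29 = true := by decide +kernel

noncomputable def j9_16_30 : List Job := [
  ⟨33, 0x43e1d0d8642e15098441e0d058240e0501, 0, 36, 0x2201002401002601002801, []⟩]

theorem t9_16_30 : jobs 8 S9 b8_16 j9_16_30 = true := by decide +kernel

noncomputable def j9_16_31 : List Job := [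
  ⟨32, 0x5108a46239309a4e27d00824221920924a25c3e1d0d8642e15098441e0d058240e0501, 0, 20, 0x2201002401002601002801, []⟩]

theorem t9_16_31 : jobs 8 S9 b8_16 j9_16_31 = true := by decide +kernel

noncomputable def j9_16_32 : List Job := [
  ⟨31, 0x43e1d0d8642e15098441e0d058240e0501, 0, 16, 0x0, []⟩]

theorem t9_16_32 : jobs 8 S9 b8_16 j9_16_32 = true := by decide +kernel

noncomputable def j9_16_33 : List Job := [
  ⟨30, 0x520924a259309a4e27d008242219108a4623c3e1d0d8642e15098441e0d058240e0501, 0, 20, 0x2201002401002601002801, []⟩]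

theorem t9_16_33 : jobs 8 S9 b8_16 j9_16_33 = true := by decide +kernel

noncomputable def j9_16_34 : List Job := [
  ⟨29, 0x5108a46239309a4e27d00824221920924a25c3e1d0d8642e15098441e0d058240e0501, 0, 44, 0x4201004401004601004801004a01004e01005001005201005601005801, []⟩]

theorem t9_16_34 : jobs 8 S9 b8_16 j9_16_34 = true := by decide +kernel

noncomputable def j9_16_35 : List Job := [
  ⟨28, 0x43e1d0d8642e15098441e0d058240e0501, 0, 16, 0x0, []⟩]

theorem t9_16_35 : jobs 8 S9 b8_16 j9_16_35 = true := by decide +kernel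

noncomputable def j9_16_36 : List Job := [
  ⟨27, 0x5108a46239309a4e27d00824221920924a25c3e1d0d8642e15098441e0d058240e0501, 0, 16, 0x0, []⟩]

theorem t9_16_36 : jobs 8 S9 b8_16 j9_16_36 = true := by decide +kernel

noncomputable def j9_16_37 : List Job := [
  ⟨26, 0x44826160b868361e0fc4022140a860321c0ec3e1d0d8642e15098441e0d058240e0501, 0, 16, 0x0, []⟩]

theorem t9_16_37 : jobs 8 S9 b8_16 j9_16_37 = true := by decide +kernel

noncomputable def j9_16_38 : List Job := [
  ⟨25, 0x520924a259309a4e27d008242219108a4623c502a160b8703a1e0fc40221209860321a0dc3e1d0d8642e15098441e0d058240e0501, 0, 42, 0x4201004401004a01004c01004e01005001005201005401, []⟩]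

theorem t9_16_38 : jobs 8 S9 b8_16 j9_16_38 = true := by decide +kernel

noncomputable def j9_16_39 : List Job := [
  ⟨24, 0x44826160b868361e0fc4022140a860321c0ec3e1d0d8642e15098441e0d058240e0501, 0, 19, 0x2201002601, []⟩]

theorem t9_16_39 : jobs 8 S9 b8_16 j9_16_39 = true := by decide +kernel

noncomputable def j9_16_40 : List Job := [
  ⟨23, 0x44826160b868361e0fc4022140a860321c0ec3e1d0d8642e15098441e0d058240e0501, 0, 36, 0x4201004401004601004801, []⟩]

theorem t9_16_40 : jobs 8 S9 b8_16 j9_16_40 = true := by decide +kernel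

noncomputable def j9_16_41 : List Job := [
  ⟨22, 0x44826160b868361e0fc4022140a860321c0ec3e1d0d8642e15098441e0d058240e0501, 0, 42, 0x4201004401004601004801004a01004e01005201005401, []⟩]

theorem t9_16_41 : jobs 8 S9 b8_16 j9_16_41 = true := by decide +kernel

noncomputable def j9_16_42 : List Job := [
  ⟨21, 0x44826160b868361e0fc4022140a860321c0ec3e1d0d8642e15098441e0d058240e0501, 0, 20, 0x2201002601002801, []⟩]

theorem t9_16_42 : jobs 8 S9 b8_16 j9_16_42 = true := by decide +kernel

noncomputable def j9_16_43 : List Job := [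
  ⟨20, 0x520924a259309a4e27d008242219108a4623c4826160b868361e0fc4022140a860321c0ec3e1d0d8642e15098441e0d058240e0501, 0, 48, 0x2201002601004e01005001005601005a01, []⟩]

theorem t9_16_43 : jobs 8 S9 b8_16 j9_16_43 = true := by decide +kernel

noncomputable def j9_16_44 : List Job := [
  ⟨19, 0x44826160b868361e0fc4022140a860321c0ec3e1d0d8642e15098441e0d058240e0501, 0, 19, 0x2201002401002601, []⟩]

theorem t9_16_44 : jobs 8 S9 b8_16 j9_16_44 = true := by decide +kernel

noncomputable def j9_16_45 : List Job := [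
  ⟨18, 0x520924a259309a4e27d008242219108a4623c4826160b868361e0fc4022140a860321c0ec3e1d0d8642e15098441e0d058240e0501, 0, 36, 0x4201004401, []⟩]

theorem t9_16_45 : jobs 8 S9 b8_16 j9_16_45 = true := by decide +kernel

noncomputable def j9_16_46 : List Job := [
  ⟨17, 0x43e1d0d8642e15098441e0d058240e0501, 0, 16, 0x0, []⟩]

theorem t9_16_46 : jobs 8 S9 b8_16 j9_16_46 = true := by decide +kernel

noncomputable def j9_16_47 : List Job := [
  ⟨16, 0x68544a5532a156ac57e8146a453aa554ad57621128a45a311a8e47e01028241a110a8643c3e1d0d8642e15098441e0d058240e0501, 0, 19, 0x2201002401002601, []⟩]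

theorem t9_16_47 : jobs 8 S9 b8_16 j9_16_47 = true := by decide +kernel

noncomputable def j9_16_48 : List Job := [
  ⟨15, 0x5108a4623920924a25d008242219309a4e27c3e1d0d8642e15098441e0d058240e0501, 0, 16, 0x0, []⟩]

theorem t9_16_48 : jobs 8 S9 b8_16 j9_16_48 = true := by decide +kernel

noncomputable def j9_16_49 : List Job := [
  ⟨14, 0x68544a453aa156ad5768146a5532a554ac57c3e1d0d8642e15098441e0d058240e0501, 0, 16, 0x0, []⟩]

theorem t9_16_49 : jobs 8 S9 b8_16 j9_16_49 = true := by decide +kernel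

noncomputable def j9_16_50 : List Job := [
  ⟨13, 0x6110a8643a21128a45e01028241a311a8e47c3e1d0d8642e15098441e0d058240e0501, 0, 16, 0x0, []⟩]

theorem t9_16_50 : jobs 8 S9 b8_16 j9_16_50 = true := by decide +kernel

noncomputable def j9_16_51 : List Job := [
  ⟨12, 0x68544a453aa156ad5768146a5532a554ac57d108a4623920924a25d008242219309a4e27c3e1d0d8642e15098441e0d058240e0501, 0, 36, 0x4201, []⟩]

theorem t9_16_51 : jobs 8 S9 b8_16 j9_16_51 = true := by decide +kernel

noncomputable def j9_16_52 : List Job := [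
  ⟨11, 0x68544a453aa156ad5768146a5532a554ac57c3e1d0d8642e15098441e0d058240e0501, 0, 20, 0x2201002601, []⟩]

theorem t9_16_52 : jobs 8 S9 b8_16 j9_16_52 = true := by decide +kernel

noncomputable def j9_16_53 : List Job := [
  ⟨10, 0x6110a8643a21128a45e01028241a311a8e47d108a46239309a4e27d00824221920924a25c3e1d0d8642e15098441e0d058240e0501, 0, 32, 0x2201002601002a01002e01003201003a01, []⟩]

theorem t9_16_53 : jobs 8 S9 b8_16 j9_16_53 = true := by decide +kernel

noncomputable def j9_16_54 : List Job := [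
  ⟨9, 0x43e1d0d8642e15098441e0d058240e0501, 0, 16, 0x0, []⟩]

theorem t9_16_54 : jobs 8 S9 b8_16 j9_16_54 = true := by decide +kernel

noncomputable def j9_16_55 : List Job := [
  ⟨8, 0x520924a259309a4e27d008242219108a4623c3e1d0d8642e15098441e0d058240e0501, 0, 18, 0x2201002401, []⟩]

theorem t9_16_55 : jobs 8 S9 b8_16 j9_16_55 = true := by decide +kernel

noncomputable def j9_16_56 : List Job := [
  ⟨7, 0x605068443221148d47e01048543a25168c4743e1d0d8642e15098441e0d058240e0501, 0, 16, 0x0, []⟩]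

theorem t9_16_56 : jobs 8 S9 b8_16 j9_16_56 = true := by decide +kernel

noncomputable def j9_16_57 : List Job := [
  ⟨6, 0x605068443221148d47e01048543a25168c475108a4623920924a25d008242219309a4e27c3e1d0d8642e15098441e0d058240e0501, 0, 20, 0x2201002601, []⟩]

theorem t9_16_57 : jobs 8 S9 b8_16 j9_16_57 = true := by decide +kernel

noncomputable def j9_16_58 : List Job := [
  ⟨5, 0x44826160b868361e0fc4022140a860321c0ec3e1d0d8642e15098441e0d058240e0501, 0, 19, 0x2201002401, []⟩]

theorem t9_16_58 : jobs 8 S9 b8_16 j9_16_58 = true := by decide +kernel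

noncomputable def j9_16_59 : List Job := [
  ⟨4, 0x5108a4623920924a25d008242219309a4e27c4826160b868361e0fc4022140a860321c0ec3e1d0d8642e15098441e0d058240e0501, 0, 19, 0x2201002601, []⟩]

theorem t9_16_59 : jobs 8 S9 b8_16 j9_16_59 = true := by decide +kernel

noncomputable def j9_16_60 : List Job := [
  ⟨3, 0x6110a8643a21128a45e01028241a311a8e47c4826160b868361e0fc4022140a860321c0ec3e1d0d8642e15098441e0d058240e0501, 0, 19, 0x2201002401, []⟩]

theorem t9_16_60 : jobs 8 S9 b8_16 j9_16_60 = true := by decide +kernel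

noncomputable def j9_16_61 : List Job := [
  ⟨2, 0x68544a453aa156ad5768146a5532a554ac57d108a4623920924a25d008242219309a4e27c4826160b868361e0fc4022140a860321c0ec3e1d0d8642e15098441e0d058240e0501, 0, 46, 0x2601002801002a01003201005601005801, []⟩]

theorem t9_16_61 : jobs 8 S9 b8_16 j9_16_61 = true := by decide +kernel

noncomputable def j9_16_62 : List Job := [
  ⟨1, 0x68544a453aa156ad5768146a5532a554ac57c4826160b868361e0fc4022140a860321c0ec3e1d0d8642e15098441e0d058240e0501, 0, 29, 0x2201002601002801002a01002c01003001003401, []⟩]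

theorem t9_16_62 : jobs 8 S9 b8_16 j9_16_62 = true := by decide +kernel

noncomputable def j9_16_63 : List Job := [
  ⟨0, 0x621128a45a311a8e47e01028241a110a8643d08864623928964e27d00824422920924c26c502a160b8703a1e0fc40221209860321a0dc3e1d0d8642e15098441e0d058240e0501, 0, 45, 0x4201004401004a01004e01005801, []⟩]

theorem t9_16_63 : jobs 8 S9 b8_16 j9_16_63 = true := by decide +kernel

theorem d9_16 : Dn 8 S9 b8_16 := dn_of (Js := j9_16_0 ++ (j9_16_1 ++ (j9_16_2 ++ (j9_16_3 ++ (j9_16_4 ++ (j9_16_5 ++ (j9_16_6 ++ (j9_16_7 ++ (j9_16_8 ++ (j9_16_9 ++ (j9_16_10 ++ (j9_16_11 ++ (j9_16_12 ++ (j9_16_13 ++ (j9_16_14 ++ (j9_16_15 ++ (j9_16_16 ++ (j9_16_17 ++ (j9_16_18 ++ (j9_16_19 ++ (j9_16_20 ++ (j9_16_21 ++ (j9_16_22 ++ (j9_16_23 ++ (j9_16_24 ++ (j9_16_25 ++ (j9_16_26 ++ (j9_16_27 ++ (j9_16_28 ++ (j9_16_29 ++ (j9_16_30 ++ (j9_16_31 ++ (j9_16_32 ++ (j9_16_33 ++ (j9_16_34 ++ (j9_16_35 ++ (j9_16_36 ++ (j9_16_37 ++ (j9_16_38 ++ (j9_16_39 ++ (j9_16_40 ++ (j9_16_41 ++ (j9_16_42 ++ (j9_16_43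 ++ (j9_16_44 ++ (j9_16_45 ++ (j9_16_46 ++ (j9_16_47 ++ (j9_16_48 ++ (j9_16_49 ++ (j9_16_50 ++ (j9_16_51 ++ (j9_16_52 ++ (j9_16_53 ++ (j9_16_54 ++ (j9_16_55 ++ (j9_16_56 ++ (j9_16_57 ++ (j9_16_58 ++ (j9_16_59 ++ (j9_16_60 ++ (j9_16_61 ++ (j9_16_62 ++ (j9_16_63 ++ []))))))))))))))))))))))))))))))))))))))))))))))))))))))))))))))))
  (jobs_append t9_16_0 <| jobs_append t9_16_1 <| jobs_append t9_16_2 <| jobs_append t9_16_3 <| jobs_append t9_16_4 <| jobs_append t9_16_5 <| jobs_append t9_16_6 <| jobs_append t9_16_7 <| jobs_append t9_16_8 <| jobs_append t9_16_9 <| jobs_append t9_16_10 <| jobs_append t9_16_11 <| jobs_append t9_16_12 <| jobs_append t9_16_13 <| jobs_append t9_16_14 <| jobs_append t9_16_15 <| jobs_append t9_16_16 <| jobs_append t9_16_17 <| jobs_append t9_16_18 <| jobs_append t9_16_19 <| jobs_append t9_16_20 <| jobs_append t9_16_21 <| jobs_append t9_16_22 <| jobs_append t9_16_23 <| jobs_append t9_16_24 <| jobs_append t9_16_25 <| jobs_append t9_16_26 <| jobs_append t9_16_27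 <| jobs_append t9_16_28 <| jobs_append t9_16_29 <| jobs_append t9_16_30 <| jobs_append t9_16_31 <| jobs_append t9_16_32 <| jobs_append t9_16_33 <| jobs_append t9_16_34 <| jobs_append t9_16_35 <| jobs_append t9_16_36 <| jobs_append t9_16_37 <| jobs_append t9_16_38 <| jobs_append t9_16_39 <| jobs_append t9_16_40 <| jobs_append t9_16_41 <| jobs_append t9_16_42 <| jobs_append t9_16_43 <| jobs_append t9_16_44 <| jobs_append t9_16_45 <| jobs_append t9_16_46 <| jobs_append t9_16_47 <| jobs_append t9_16_48 <| jobs_append t9_16_49 <| jobs_append t9_16_50 <| jobs_append t9_16_51 <| jobs_append t9_16_52 <| jobs_append t9_16_53 <| jobs_append t9_16_54 <| jobs_append t9_16_55 <| jobs_append t9_16_56 <| jobs_append t9_16_57 <| jobs_append t9_16_58 <| jobs_append t9_16_59 <| jobs_append t9_16_60 <| jobs_append t9_16_61 <| jobs_append t9_16_62 <| jobs_append t9_16_63 <| List.forall_mem_nil _) (by decide +kernel)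

noncomputable def j9_17_0 : List Job := [
  ⟨63, 0x5108a46239309a4e27d00824221920924a25c3e1d0d8642e15098441e0d058240e0501, 0, 19, 0x2201002401002601, []⟩]

theorem t9_17_0 : jobs 8 S9 b8_17 j9_17_0 = true := by decide +kernel

noncomputable def j9_17_1 : List Job := [
  ⟨62, 0x43e1d0d8642e15098441e0d058240e0501, 0, 16, 0x0, []⟩]

theorem t9_17_1 : jobs 8 S9 b8_17 j9_17_1 = true := by decide +kernel

noncomputable def j9_17_2 : List Job := [
  ⟨61, 0x43e1d0d8642e15098441e0d058240e0501, 0, 16, 0x0, []⟩]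

theorem t9_17_2 : jobs 8 S9 b8_17 j9_17_2 = true := by decide +kernel

noncomputable def j9_17_3 : List Job := [
  ⟨60, 0x5108a4623920924a25d008242219309a4e27c3e1d0d8642e15098441e0d058240e0501, 0, 36, 0x2201002401, []⟩]

theorem t9_17_3 : jobs 8 S9 b8_17 j9_17_3 = true := by decide +kernel

noncomputable def j9_17_4 : List Job := [
  ⟨59, 0x5108a46239309a4e27d00824221920924a25c3e1d0d8642e15098441e0d058240e0501, 0, 36, 0x4201004401, []⟩]

theorem t9_17_4 : jobs 8 S9 b8_17 j9_17_4 = true := by decide +kernel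

noncomputable def j9_17_5 : List Job := [
  ⟨58, 0x43e1d0d8642e15098441e0d058240e0501, 0, 20, 0x2201002401002601002801, []⟩]

theorem t9_17_5 : jobs 8 S9 b8_17 j9_17_5 = true := by decide +kernel

noncomputable def j9_17_6 : List Job := [
  ⟨57, 0x43e1d0d8642e15098441e0d058240e0501, 0, 36, 0x2201002401002601002801, []⟩]

theorem t9_17_6 : jobs 8 S9 b8_17 j9_17_6 = true := by decide +kernel

noncomputable def j9_17_7 : List Job := [
  ⟨56, 0x5108a46239309a4e27d00824221920924a25c3e1d0d8642e15098441e0d058240e0501, 0, 20, 0x2601002801, []⟩]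

theorem t9_17_7 : jobs 8 S9 b8_17 j9_17_7 = true := by decide +kernel

noncomputable def j9_17_8 : List Job := [
  ⟨55, 0x43e1d0d8642e15098441e0d058240e0501, 0, 16, 0x0, []⟩]

theorem t9_17_8 : jobs 8 S9 b8_17 j9_17_8 = true := by decide +kernel

noncomputable def j9_17_9 : List Job := [
  ⟨54, 0x520924a259309a4e27d008242219108a4623c3e1d0d8642e15098441e0d058240e0501, 0, 16, 0x0, []⟩]

theorem t9_17_9 : jobs 8 S9 b8_17 j9_17_9 = true := by decide +kernel

noncomputable def j9_17_10 : List Job := [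
  ⟨53, 0x5108a46239309a4e27d00824221920924a25c3e1d0d8642e15098441e0d058240e0501, 0, 44, 0x4201004401004601004801004a01004e01005001005201005601005801, []⟩]

theorem t9_17_10 : jobs 8 S9 b8_17 j9_17_10 = true := by decide +kernel

noncomputable def j9_17_11 : List Job := [
  ⟨52, 0x44826160b868361e0fc4022140a860321c0ec3e1d0d8642e15098441e0d058240e0501, 0, 36, 0x4201004401004601004801, []⟩]

theorem t9_17_11 : jobs 8 S9 b8_17 j9_17_11 = true := by decide +kernel

noncomputable def j9_17_12 : List Job := [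
  ⟨51, 0x44826160b868361e0fc4022140a860321c0ec3e1d0d8642e15098441e0d058240e0501, 0, 16, 0x0, []⟩]

theorem t9_17_12 : jobs 8 S9 b8_17 j9_17_12 = true := by decide +kernel

noncomputable def j9_17_13 : List Job := [
  ⟨50, 0x520924a259309a4e27d008242219108a4623c502a160b8703a1e0fc40221209860321a0dc3e1d0d8642e15098441e0d058240e0501, 0, 42, 0x4201004401004a01004c01004e01005201005401, []⟩]

theorem t9_17_13 : jobs 8 S9 b8_17 j9_17_13 = true := by decide +kernel

noncomputable def j9_17_14 : List Job := [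
  ⟨49, 0x5108a46239309a4e27d00824221920924a25c4826160b868361e0fc4022140a860321c0ec3e1d0d8642e15098441e0d058240e0501, 0, 66, 0x4201004401004601004801004a01004c01004e01005001005601005a01005e01006201, []⟩]

theorem t9_17_14 : jobs 8 S9 b8_17 j9_17_14 = true := by decide +kernel

noncomputable def j9_17_15 : List Job := [
  ⟨48, 0x44826160b868361e0fc4022140a860321c0ec3e1d0d8642e15098441e0d058240e0501, 0, 36, 0x2201002401002601002801, []⟩]

theorem t9_17_15 : jobs 8 S9 b8_17 j9_17_15 = true := by decide +kernel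

noncomputable def j9_17_16 : List Job := [
  ⟨47, 0x44826160b868361e0fc4022140a860321c0ec3e1d0d8642e15098441e0d058240e0501, 0, 19, 0x2201002601, []⟩]

theorem t9_17_16 : jobs 8 S9 b8_17 j9_17_16 = true := by decide +kernel

noncomputable def j9_17_17 : List Job := [
  ⟨46, 0x44826160b868361e0fc4022140a860321c0ec3e1d0d8642e15098441e0d058240e0501, 0, 26, 0x2201002601002801002a01002c01003001003201, []⟩]

theorem t9_17_17 : jobs 8 S9 b8_17 j9_17_17 = true := by decide +kernel

noncomputable def j9_17_18 : List Job := [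
  ⟨45, 0x44826160b868361e0fc4022140a860321c0ec3e1d0d8642e15098441e0d058240e0501, 0, 36, 0x4201004401004601004801, []⟩]

theorem t9_17_18 : jobs 8 S9 b8_17 j9_17_18 = true := by decide +kernel

noncomputable def j9_17_19 : List Job := [
  ⟨44, 0x520924a259309a4e27d008242219108a4623c4826160b868361e0fc4022140a860321c0ec3e1d0d8642e15098441e0d058240e0501, 0, 62, 0x4201004401006a01006c01007201, []⟩]

theorem t9_17_19 : jobs 8 S9 b8_17 j9_17_19 = true := by decide +kernel

noncomputable def j9_17_20 : List Job := [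
  ⟨43, 0x44826160b868361e0fc4022140a860321c0ec3e1d0d8642e15098441e0d058240e0501, 0, 36, 0x2201002401002601002801, []⟩]

theorem t9_17_20 : jobs 8 S9 b8_17 j9_17_20 = true := by decide +kernel

noncomputable def j9_17_21 : List Job := [
  ⟨42, 0x44826160b868361e0fc4022140a860321c0ec3e1d0d8642e15098441e0d058240e0501, 0, 19, 0x2201002401002601, []⟩]

theorem t9_17_21 : jobs 8 S9 b8_17 j9_17_21 = true := by decide +kernel

noncomputable def j9_17_22 : List Job := [
  ⟨41, 0x43e1d0d8642e15098441e0d058240e0501, 0, 16, 0x0, []⟩]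

theorem t9_17_22 : jobs 8 S9 b8_17 j9_17_22 = true := by decide +kernel

noncomputable def j9_17_23 : List Job := [
  ⟨40, 0x6a152aa55ab15aae57e8142a251a914aa653e05068543a21148c47601048443225168d47c3e1d0d8642e15098441e0d058240e0501, 0, 27, 0x2201002401002601002a01002e01003001003401, []⟩]

theorem t9_17_23 : jobs 8 S9 b8_17 j9_17_23 = true := by decide +kernel

noncomputable def j9_17_24 : List Job := [
  ⟨39, 0x5108a4623920924a25d008242219309a4e27c3e1d0d8642e15098441e0d058240e0501, 0, 18, 0x2201002401, []⟩]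

theorem t9_17_24 : jobs 8 S9 b8_17 j9_17_24 = true := by decide +kernel

noncomputable def j9_17_25 : List Job := [
  ⟨38, 0x68544a453aa156ad5768146a5532a554ac57c3e1d0d8642e15098441e0d058240e0501, 0, 20, 0x2401002801, []⟩]

theorem t9_17_25 : jobs 8 S9 b8_17 j9_17_25 = true := by decide +kernel

noncomputable def j9_17_26 : List Job := [
  ⟨37, 0x6110a8643a21128a45e01028241a311a8e47c3e1d0d8642e15098441e0d058240e0501, 0, 20, 0x2201002601, []⟩]

theorem t9_17_26 : jobs 8 S9 b8_17 j9_17_26 = true := by decide +kernel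

noncomputable def j9_17_27 : List Job := [
  ⟨36, 0x68544a453aa156ad5768146a5532a554ac57d108a4623920924a25d008242219309a4e27c3e1d0d8642e15098441e0d058240e0501, 0, 44, 0x2401002801002c01003001005201, []⟩]

theorem t9_17_27 : jobs 8 S9 b8_17 j9_17_27 = true := by decide +kernel

noncomputable def j9_17_28 : List Job := [
  ⟨35, 0x6914aa653aa152aa55e8142a251ab15aae57c3e1d0d8642e15098441e0d058240e0501, 0, 20, 0x2201002601, []⟩]

theorem t9_17_28 : jobs 8 S9 b8_17 j9_17_28 = true := by decide +kernel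

noncomputable def j9_17_29 : List Job := [
  ⟨34, 0x605068443221148d47e01048543a25168c4743e1d0d8642e15098441e0d058240e0501, 0, 36, 0x2201002401, []⟩]

theorem t9_17_29 : jobs 8 S9 b8_17 j9_17_29 = true := by decide +kernel

noncomputable def j9_17_30 : List Job := [
  ⟨33, 0x6914aa653aa152aa55e8142a251ab15aae57d20924a259309a4e27d008242219108a4623c3e1d0d8642e15098441e0d058240e0501, 0, 36, 0x4201004401, []⟩]

theorem t9_17_30 : jobs 8 S9 b8_17 j9_17_30 = true := by decide +kernel

noncomputable def j9_17_31 : List Job := [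
  ⟨32, 0x605068443221148d47e01048543a25168c475108a46239309a4e27d00824221920924a25c3e1d0d8642e15098441e0d058240e0501, 0, 20, 0x2601, []⟩]

theorem t9_17_31 : jobs 8 S9 b8_17 j9_17_31 = true := by decide +kernel

noncomputable def j9_17_32 : List Job := [
  ⟨31, 0x43e1d0d8642e15098441e0d058240e0501, 0, 16, 0x0, []⟩]

theorem t9_17_32 : jobs 8 S9 b8_17 j9_17_32 = true := by decide +kernel

noncomputable def j9_17_33 : List Job := [
  ⟨30, 0x68544a5532a156ac57e8146a453aa554ad57621128a45a311a8e47e01028241a110a8643c3e1d0d8642e15098441e0d058240e0501, 0, 44, 0x2601002a01002c01002e01003001003201003401, []⟩]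

theorem t9_17_33 : jobs 8 S9 b8_17 j9_17_33 = true := by decide +kernel

noncomputable def j9_17_34 : List Job := [
  ⟨29, 0x520924a259309a4e27d008242219108a4623c3e1d0d8642e15098441e0d058240e0501, 0, 16, 0x0, []⟩]

theorem t9_17_34 : jobs 8 S9 b8_17 j9_17_34 = true := by decide +kernel

noncomputable def j9_17_35 : List Job := [
  ⟨28, 0x44826160b868361e0fc4022140a860321c0ec3e1d0d8642e15098441e0d058240e0501, 0, 19, 0x2201002601, []⟩]

theorem t9_17_35 : jobs 8 S9 b8_17 j9_17_35 = true := by decide +kernel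

noncomputable def j9_17_36 : List Job := [
  ⟨27, 0x6a152aa55ab15aae57e8142a251a914aa653e05068543a21148c47601048443225168d47c4826160b868361e0fc4022140a860321c0ec3e1d0d8642e15098441e0d058240e0501, 0, 45, 0x2201002a01002e01003201005401005601, []⟩]

theorem t9_17_36 : jobs 8 S9 b8_17 j9_17_36 = true := by decide +kernel

noncomputable def j9_17_37 : List Job := [
  ⟨26, 0x5108a4623920924a25d008242219309a4e27c4826160b868361e0fc4022140a860321c0ec3e1d0d8642e15098441e0d058240e0501, 0, 19, 0x2201002601, []⟩]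

theorem t9_17_37 : jobs 8 S9 b8_17 j9_17_37 = true := by decide +kernel

noncomputable def j9_17_38 : List Job := [
  ⟨25, 0x68544a453aa156ad5768146a5532a554ac57c4826160b868361e0fc4022140a860321c0ec3e1d0d8642e15098441e0d058240e0501, 0, 19, 0x2201002401, []⟩]

theorem t9_17_38 : jobs 8 S9 b8_17 j9_17_38 = true := by decide +kernel

noncomputable def j9_17_39 : List Job := [
  ⟨24, 0x6110a8643a21128a45e01028241a311a8e47c4826160b868361e0fc4022140a860321c0ec3e1d0d8642e15098441e0d058240e0501, 0, 36, 0x2201002401, []⟩]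

theorem t9_17_39 : jobs 8 S9 b8_17 j9_17_39 = true := by decide +kernel

noncomputable def j9_17_40 : List Job := [
  ⟨23, 0x68544a453aa156ad5768146a5532a554ac57d108a4623920924a25d008242219309a4e27c4826160b868361e0fc4022140a860321c0ec3e1d0d8642e15098441e0d058240e0501, 0, 85, 0x2601002801002a01003201003601004201006e01007001007201007401007e0100820100a401, []⟩]

theorem t9_17_40 : jobs 8 S9 b8_17 j9_17_40 = true := by decide +kernel

noncomputable def j9_17_41 : List Job := [
  ⟨22, 0x6914aa653aa152aa55e8142a251ab15aae57c4826160b868361e0fc4022140a860321c0ec3e1d0d8642e15098441e0d058240e0501, 0, 45, 0x4201004401004601004801004a01004e01005001005801, []⟩]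

theorem t9_17_41 : jobs 8 S9 b8_17 j9_17_41 = true := by decide +kernel

noncomputable def j9_17_42 : List Job := [
  ⟨21, 0x605068443221148d47e01048543a25168c4744826160b868361e0fc4022140a860321c0ec3e1d0d8642e15098441e0d058240e0501, 0, 20, 0x2201, []⟩]

theorem t9_17_42 : jobs 8 S9 b8_17 j9_17_42 = true := by decide +kernel

noncomputable def j9_17_43 : List Job := [
  ⟨20, 0x6914aa653aa152aa55e8142a251ab15aae57d20924a259309a4e27d008242219108a4623c4826160b868361e0fc4022140a860321c0ec3e1d0d8642e15098441e0d058240e0501, 0, 48, 0x2201002601003201005a01, []⟩]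

theorem t9_17_43 : jobs 8 S9 b8_17 j9_17_43 = true := by decide +kernel

noncomputable def j9_17_44 : List Job := [
  ⟨19, 0x44826160b868361e0fc4022140a860321c0ec3e1d0d8642e15098441e0d058240e0501, 0, 16, 0x0, []⟩]

theorem t9_17_44 : jobs 8 S9 b8_17 j9_17_44 = true := by decide +kernel

noncomputable def j9_17_45 : List Job := [
  ⟨18, 0x68544a5532a156ac57e8146a453aa554ad57621128a45a311a8e47e01028241a110a8643c4826160b868361e0fc4022140a860321c0ec3e1d0d8642e15098441e0d058240e0501, 0, 48, 0x2401004a01004e01005601, []⟩]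

theorem t9_17_45 : jobs 8 S9 b8_17 j9_17_45 = true := by decide +kernel

noncomputable def j9_17_46 : List Job := [
  ⟨17, 0x520924a259309a4e27d008242219108a4623c4826160b868361e0fc4022140a860321c0ec3e1d0d8642e15098441e0d058240e0501, 0, 19, 0x2201002601, []⟩]

theorem t9_17_46 : jobs 8 S9 b8_17 j9_17_46 = true := by decide +kernel

noncomputable def j9_17_47 : List Job := [
  ⟨16, 0x43e1d0d8642e15098441e0d058240e0501, 0, 18, 0x2201002401, []⟩]

theorem t9_17_47 : jobs 8 S9 b8_17 j9_17_47 = true := by decide +kernel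

noncomputable def j9_17_48 : List Job := [
  ⟨15, 0x605068443225168c47601048543a21148d47c3e1d0d8642e15098441e0d058240e0501, 0, 18, 0x2201002401, []⟩]

theorem t9_17_48 : jobs 8 S9 b8_17 j9_17_48 = true := by decide +kernel

noncomputable def j9_17_49 : List Job := [
  ⟨14, 0x43e1d0d8642e15098441e0d058240e0501, 0, 16, 0x0, []⟩]

theorem t9_17_49 : jobs 8 S9 b8_17 j9_17_49 = true := by decide +kernel

noncomputable def j9_17_50 : List Job := [
  ⟨13, 0x625168c47621148d47e05068443601048543c3e1d0d8642e15098441e0d058240e0501, 0, 23, 0x2201002401002601002801002a01002c01002e01, []⟩]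

theorem t9_17_50 : jobs 8 S9 b8_17 j9_17_50 = true := by decide +kernel

noncomputable def j9_17_51 : List Job := [
  ⟨12, 0x5108a4623920924a25d008242219309a4e27c3e1d0d8642e15098441e0d058240e0501, 0, 18, 0x2201002401, []⟩]

theorem t9_17_51 : jobs 8 S9 b8_17 j9_17_51 = true := by decide +kernel

noncomputable def j9_17_52 : List Job := [
  ⟨11, 0x43e1d0d8642e15098441e0d058240e0501, 0, 18, 0x2201002401, []⟩]

theorem t9_17_52 : jobs 8 S9 b8_17 j9_17_52 = true := by decide +kernel

noncomputable def j9_17_53 : List Job := [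
  ⟨10, 0x605068443225168c47601048543a21148d47c3e1d0d8642e15098441e0d058240e0501, 0, 18, 0x2201002401, []⟩]

theorem t9_17_53 : jobs 8 S9 b8_17 j9_17_53 = true := by decide +kernel

noncomputable def j9_17_54 : List Job := [
  ⟨9, 0x605068543a21148c47601048443225168d47d108a4623920924a25d008242219309a4e27c3e1d0d8642e15098441e0d058240e0501, 0, 41, 0x2201002401002601002801005201, []⟩]

theorem t9_17_54 : jobs 8 S9 b8_17 j9_17_54 = true := by decide +kernel

noncomputable def j9_17_55 : List Job := [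
  ⟨8, 0x43e1d0d8642e15098441e0d058240e0501, 0, 16, 0x0, []⟩]

theorem t9_17_55 : jobs 8 S9 b8_17 j9_17_55 = true := by decide +kernel

noncomputable def j9_17_56 : List Job := [
  ⟨7, 0x6150e88456110c8945e05068c47601048d47c3e1d0d8642e15098441e0d058240e0501, 0, 23, 0x2201002401002601002801002a01002c01002e01, []⟩]

theorem t9_17_56 : jobs 8 S9 b8_17 j9_17_56 = true := by decide +kernel

noncomputable def j9_17_57 : List Job := [
  ⟨6, 0x5108a4623920924a25d008242219309a4e27c3e1d0d8642e15098441e0d058240e0501, 0, 18, 0x2201002401, []⟩]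

theorem t9_17_57 : jobs 8 S9 b8_17 j9_17_57 = true := by decide +kernel

noncomputable def j9_17_58 : List Job := [
  ⟨5, 0x605068443225168c47601048543a21148d47c3e1d0d8642e15098441e0d058240e0501, 0, 20, 0x2201002601, []⟩]

theorem t9_17_58 : jobs 8 S9 b8_17 j9_17_58 = true := by decide +kernel

noncomputable def j9_17_59 : List Job := [
  ⟨4, 0x520924a259309a4e27d008242219108a4623c3e1d0d8642e15098441e0d058240e0501, 0, 20, 0x2201002401002601002801, []⟩]

theorem t9_17_59 : jobs 8 S9 b8_17 j9_17_59 = true := by decide +kernel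

noncomputable def j9_17_60 : List Job := [
  ⟨3, 0x43e1d0d8642e15098441e0d058240e0501, 0, 16, 0x0, []⟩]

theorem t9_17_60 : jobs 8 S9 b8_17 j9_17_60 = true := by decide +kernel

noncomputable def j9_17_61 : List Job := [
  ⟨2, 0x520924a259309a4e27d008242219108a4623c3e1d0d8642e15098441e0d058240e0501, 0, 16, 0x0, []⟩]

theorem t9_17_61 : jobs 8 S9 b8_17 j9_17_61 = true := by decide +kernel

noncomputable def j9_17_62 : List Job := [
  ⟨1, 0x6150e88456110c8945e05068c47601048d47d108a46239309a4e27d00824221920924a25c3e1d0d8642e15098441e0d058240e0501, 0, 44, 0x2201002601002e01003001005210005410, []⟩]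

theorem t9_17_62 : jobs 8 S9 b8_17 j9_17_62 = true := by decide +kernel

noncomputable def j9_17_63 : List Job := [
  ⟨0, 0x43e1d0d8642e15098441e0d058240e0501, 0, 20, 0x2201002401002601002801, []⟩]

theorem t9_17_63 : jobs 8 S9 b8_17 j9_17_63 = true := by decide +kernel

theorem d9_17 : Dn 8 S9 b8_17 := dn_of (Js := j9_17_0 ++ (j9_17_1 ++ (j9_17_2 ++ (j9_17_3 ++ (j9_17_4 ++ (j9_17_5 ++ (j9_17_6 ++ (j9_17_7 ++ (j9_17_8 ++ (j9_17_9 ++ (j9_17_10 ++ (j9_17_11 ++ (j9_17_12 ++ (j9_17_13 ++ (j9_17_14 ++ (j9_17_15 ++ (j9_17_16 ++ (j9_17_17 ++ (j9_17_18 ++ (j9_17_19 ++ (j9_17_20 ++ (j9_17_21 ++ (j9_17_22 ++ (j9_17_23 ++ (j9_17_24 ++ (j9_17_25 ++ (j9_17_26 ++ (j9_17_27 ++ (j9_17_28 ++ (j9_17_29 ++ (j9_17_30 ++ (j9_17_31 ++ (j9_17_32 ++ (j9_17_33 ++ (j9_17_34 ++ (j9_17_35 ++ (j9_17_36 ++ (j9_17_37 ++ (j9_17_38 ++ (j9_17_39 ++ (j9_17_40 ++ (j9_17_41 ++ (j9_17_42 ++ (j9_17_43 ++ (j9_17_44 ++ (j9_17_45 ++ (j9_17_46 ++ (j9_17_47 ++ (j9_17_48 ++ (j9_17_49 ++ (j9_17_50 ++ (j9_17_51 ++ (j9_17_52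 ++ (j9_17_53 ++ (j9_17_54 ++ (j9_17_55 ++ (j9_17_56 ++ (j9_17_57 ++ (j9_17_58 ++ (j9_17_59 ++ (j9_17_60 ++ (j9_17_61 ++ (j9_17_62 ++ (j9_17_63 ++ []))))))))))))))))))))))))))))))))))))))))))))))))))))))))))))))))
  (jobs_append t9_17_0 <| jobs_append t9_17_1 <| jobs_append t9_17_2 <| jobs_append t9_17_3 <| jobs_append t9_17_4 <| jobs_append t9_17_5 <| jobs_append t9_17_6 <| jobs_append t9_17_7 <| jobs_append t9_17_8 <| jobs_append t9_17_9 <| jobs_append t9_17_10 <| jobs_append t9_17_11 <| jobs_append t9_17_12 <| jobs_append t9_17_13 <| jobs_append t9_17_14 <| jobs_append t9_17_15 <| jobs_append t9_17_16 <| jobs_append t9_17_17 <| jobs_append t9_17_18 <| jobs_append t9_17_19 <| jobs_append t9_17_20 <| jobs_append t9_17_21 <| jobs_append t9_17_22 <| jobs_append t9_17_23 <| jobs_append t9_17_24 <| jobs_append t9_17_25 <| jobs_append t9_17_26 <| jobs_append t9_17_27 <| jobs_append t9_17_28 <| jobs_append t9_17_29 <| jobs_append t9_17_30 <| jobs_append t9_17_31 <| jobs_append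 t9_17_32 <| jobs_append t9_17_33 <| jobs_append t9_17_34 <| jobs_append t9_17_35 <| jobs_append t9_17_36 <| jobs_append t9_17_37 <| jobs_append t9_17_38 <| jobs_append t9_17_39 <| jobs_append t9_17_40 <| jobs_append t9_17_41 <| jobs_append t9_17_42 <| jobs_append t9_17_43 <| jobs_append t9_17_44 <| jobs_append t9_17_45 <| jobs_append t9_17_46 <| jobs_append t9_17_47 <| jobs_append t9_17_48 <| jobs_append t9_17_49 <| jobs_append t9_17_50 <| jobs_append t9_17_51 <| jobs_append t9_17_52 <| jobs_append t9_17_53 <| jobs_append t9_17_54 <| jobs_append t9_17_55 <| jobs_append t9_17_56 <| jobs_append t9_17_57 <| jobs_append t9_17_58 <| jobs_append t9_17_59 <| jobs_append t9_17_60 <| jobs_append t9_17_61 <| jobs_append t9_17_62 <| jobs_append t9_17_63 <| List.forall_mem_nil _) (by decide +kernel)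

noncomputable def j9_18_0 : List Job := [
  ⟨63, 0x4c866361b8e8763e1fcc062341a8e0723c1ec3e1d0d8642e15098441e0d058240e0501, 0, 20, 0x2201002601002801, []⟩]

theorem t9_18_0 : jobs 8 S9 b8_18 j9_18_0 = true := by decide +kernel

noncomputable def j9_18_1 : List Job := [
  ⟨62, 0x6110a8643a311a8e47e01028241a21128a45cc866361b8e8763e1fcc062341a8e0723c1ec3e1d0d8642e15098441e0d058240e0501, 0, 20, 0x2201002601002801, []⟩]

theorem t9_18_1 : jobs 8 S9 b8_18 j9_18_1 = true := by decide +kernel

noncomputable def j9_18_2 : List Job := [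
  ⟨61, 0x5108a4623920924a25d008242219309a4e27cc866361b8e8763e1fcc062341a8e0723c1ec3e1d0d8642e15098441e0d058240e0501, 0, 48, 0x4201004401004a01005201005801005e01, []⟩]

theorem t9_18_2 : jobs 8 S9 b8_18 j9_18_2 = true := by decide +kernel

noncomputable def j9_18_3 : List Job := [
  ⟨60, 0x5108a46239309a4e27d00824221920924a25c3e1d0d8642e15098441e0d058240e0501, 0, 16, 0x0, []⟩]

theorem t9_18_3 : jobs 8 S9 b8_18 j9_18_3 = true := by decide +kernel

noncomputable def j9_18_4 : List Job := [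
  ⟨59, 0x5108a46239309a4e27d00824221920924a25c3e1d0d8642e15098441e0d058240e0501, 0, 18, 0x2201002401, []⟩]

theorem t9_18_4 : jobs 8 S9 b8_18 j9_18_4 = true := by decide +kernel

noncomputable def j9_18_5 : List Job := [
  ⟨58, 0x43e1d0d8642e15098441e0d058240e0501, 0, 16, 0x0, []⟩]

theorem t9_18_5 : jobs 8 S9 b8_18 j9_18_5 = true := by decide +kernel

noncomputable def j9_18_6 : List Job := [
  ⟨57, 0x68544a453aa156ad5768146a5532a554ac57c3e1d0d8642e15098441e0d058240e0501, 0, 20, 0x2401002801, []⟩]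

theorem t9_18_6 : jobs 8 S9 b8_18 j9_18_6 = true := by decide +kernel

noncomputable def j9_18_7 : List Job := [
  ⟨56, 0x5108a4623920924a25d008242219309a4e27c3e1d0d8642e15098441e0d058240e0501, 0, 16, 0x0, []⟩]

theorem t9_18_7 : jobs 8 S9 b8_18 j9_18_7 = true := by decide +kernel

noncomputable def j9_18_8 : List Job := [
  ⟨55, 0x68544a453aa156ad5768146a5532a554ac57d108a46239309a4e27d00824221920924a25c3e1d0d8642e15098441e0d058240e0501, 0, 20, 0x2401002801, []⟩]

theorem t9_18_8 : jobs 8 S9 b8_18 j9_18_8 = true := by decide +kernel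

noncomputable def j9_18_9 : List Job := [
  ⟨54, 0x508864623920924c26d00824422928964e27c3e1d0d8642e15098441e0d058240e0501, 0, 36, 0x2201002401, []⟩]

theorem t9_18_9 : jobs 8 S9 b8_18 j9_18_9 = true := by decide +kernel

noncomputable def j9_18_10 : List Job := [
  ⟨53, 0x4c866361b8e8763e1fcc062341a8e0723c1ec3e1d0d8642e15098441e0d058240e0501, 0, 36, 0x4201004401004601004801, []⟩]

theorem t9_18_10 : jobs 8 S9 b8_18 j9_18_10 = true := by decide +kernel

noncomputable def j9_18_11 : List Job := [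
  ⟨52, 0x4c866361b8e8763e1fcc062341a8e0723c1ec3e1d0d8642e15098441e0d058240e0501, 0, 19, 0x2201002601, []⟩]

theorem t9_18_11 : jobs 8 S9 b8_18 j9_18_11 = true := by decide +kernel

noncomputable def j9_18_12 : List Job := [
  ⟨51, 0x4c866361b8e8763e1fcc062341a8e0723c1ec3e1d0d8642e15098441e0d058240e0501, 0, 20, 0x2201002401002801, []⟩]

theorem t9_18_12 : jobs 8 S9 b8_18 j9_18_12 = true := by decide +kernel

noncomputable def j9_18_13 : List Job := [
  ⟨50, 0x4c866361b8e8763e1fcc062341a8e0723c1ec3e1d0d8642e15098441e0d058240e0501, 0, 36, 0x4201004401004601004801, []⟩]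

theorem t9_18_13 : jobs 8 S9 b8_18 j9_18_13 = true := by decide +kernel

noncomputable def j9_18_14 : List Job := [
  ⟨49, 0x6110a8643a311a8e47e01028241a21128a45cc866361b8e8763e1fcc062341a8e0723c1ec3e1d0d8642e15098441e0d058240e0501, 0, 22, 0x2401002a01, []⟩]

theorem t9_18_14 : jobs 8 S9 b8_18 j9_18_14 = true := by decide +kernel

noncomputable def j9_18_15 : List Job := [
  ⟨48, 0x605068443225168c47601048543a21148d47cc866361b8e8763e1fcc062341a8e0723c1ec3e1d0d8642e15098441e0d058240e0501, 0, 22, 0x2201002801, []⟩]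

theorem t9_18_15 : jobs 8 S9 b8_18 j9_18_15 = true := by decide +kernel

noncomputable def j9_18_16 : List Job := [
  ⟨47, 0x4c866361b8e8763e1fcc062341a8e0723c1ec3e1d0d8642e15098441e0d058240e0501, 0, 20, 0x2201002601002801, []⟩]

theorem t9_18_16 : jobs 8 S9 b8_18 j9_18_16 = true := by decide +kernel

noncomputable def j9_18_17 : List Job := [
  ⟨46, 0x5309a4e27d20924a25d108a4623d00824221cc866361b8e8763e1fcc062341a8e0723c1ec3e1d0d8642e15098441e0d058240e0501, 0, 27, 0x2201002401002801002a01002e01003001003201003601, []⟩]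

theorem t9_18_17 : jobs 8 S9 b8_18 j9_18_17 = true := by decide +kernel

noncomputable def j9_18_18 : List Job := [
  ⟨45, 0x4c866361b8e8763e1fcc062341a8e0723c1ec3e1d0d8642e15098441e0d058240e0501, 0, 36, 0x4201004401004601004801, []⟩]

theorem t9_18_18 : jobs 8 S9 b8_18 j9_18_18 = true := by decide +kernel

noncomputable def j9_18_19 : List Job := [
  ⟨44, 0x4c866361b8e8763e1fcc062341a8e0723c1ec3e1d0d8642e15098441e0d058240e0501, 0, 19, 0x2201002401, []⟩]

theorem t9_18_19 : jobs 8 S9 b8_18 j9_18_19 = true := by decide +kernel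

noncomputable def j9_18_20 : List Job := [
  ⟨43, 0x6110a8643a21128a45e01028241a311a8e47cc866361b8e8763e1fcc062341a8e0723c1ec3e1d0d8642e15098441e0d058240e0501, 0, 22, 0x2401002a01, []⟩]

theorem t9_18_20 : jobs 8 S9 b8_18 j9_18_20 = true := by decide +kernel

noncomputable def j9_18_21 : List Job := [
  ⟨42, 0x4c866361b8e8763e1fcc062341a8e0723c1ec3e1d0d8642e15098441e0d058240e0501, 0, 16, 0x0, []⟩]

theorem t9_18_21 : jobs 8 S9 b8_18 j9_18_21 = true := by decide +kernel

noncomputable def j9_18_22 : List Job := [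
  ⟨41, 0x4c866361b8e8763e1fcc062341a8e0723c1ec3e1d0d8642e15098441e0d058240e0501, 0, 16, 0x0, []⟩]

theorem t9_18_22 : jobs 8 S9 b8_18 j9_18_22 = true := by decide +kernel

noncomputable def j9_18_23 : List Job := [
  ⟨40, 0x6311a8e47e21128a45e110a8643e01028241cc866361b8e8763e1fcc062341a8e0723c1ec3e1d0d8642e15098441e0d058240e0501, 0, 28, 0x2201002401002801002c01003001003600, [(26, ⟨2265, 0x224004600084011a00008000100420000c0000001, 0x1862589034020182008⟩)]⟩]

theorem t9_18_23 : jobs 8 S9 b8_18 j9_18_23 = true := by decide +kernel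

noncomputable def j9_18_24 : List Job := [
  ⟨39, 0x4c866361b8e8763e1fcc062341a8e0723c1ec3e1d0d8642e15098441e0d058240e0501, 0, 16, 0x0, []⟩]

theorem t9_18_24 : jobs 8 S9 b8_18 j9_18_24 = true := by decide +kernel

noncomputable def j9_18_25 : List Job := [
  ⟨38, 0x4c866361b8e8763e1fcc062341a8e0723c1ec3e1d0d8642e15098441e0d058240e0501, 0, 36, 0x4201004401004601004801, []⟩]

theorem t9_18_25 : jobs 8 S9 b8_18 j9_18_25 = true := by decide +kernel

noncomputable def j9_18_26 : List Job := [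
  ⟨37, 0x621128a45a311a8e47e01028241a110a8643cc866361b8e8763e1fcc062341a8e0723c1ec3e1d0d8642e15098441e0d058240e0501, 0, 22, 0x2401002a01, []⟩]

theorem t9_18_26 : jobs 8 S9 b8_18 j9_18_26 = true := by decide +kernel

noncomputable def j9_18_27 : List Job := [
  ⟨36, 0x4c866361b8e8763e1fcc062341a8e0723c1ec3e1d0d8642e15098441e0d058240e0501, 0, 20, 0x2201002401002601, []⟩]

theorem t9_18_27 : jobs 8 S9 b8_18 j9_18_27 = true := by decide +kernel

noncomputable def j9_18_28 : List Job := [
  ⟨35, 0x6110a8643a21128a45e01028241a311a8e47cc866361b8e8763e1fcc062341a8e0723c1ec3e1d0d8642e15098441e0d058240e0501, 0, 36, 0x2201002401, []⟩]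

theorem t9_18_28 : jobs 8 S9 b8_18 j9_18_28 = true := by decide +kernel

noncomputable def j9_18_29 : List Job := [
  ⟨34, 0x43e1d0d8642e15098441e0d058240e0501, 0, 16, 0x0, []⟩]

theorem t9_18_29 : jobs 8 S9 b8_18 j9_18_29 = true := by decide +kernel

noncomputable def j9_18_30 : List Job := [
  ⟨33, 0x605068443225168c47601048543a21148d47c3e1d0d8642e15098441e0d058240e0501, 0, 20, 0x2201002601, []⟩]

theorem t9_18_30 : jobs 8 S9 b8_18 j9_18_30 = true := by decide +kernel

noncomputable def j9_18_31 : List Job := [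
  ⟨32, 0x43e1d0d8642e15098441e0d058240e0501, 0, 16, 0x0, []⟩]

theorem t9_18_31 : jobs 8 S9 b8_18 j9_18_31 = true := by decide +kernel

noncomputable def j9_18_32 : List Job := [
  ⟨31, 0x605068443221148d47e01048543a25168c4743e1d0d8642e15098441e0d058240e0501, 0, 16, 0x0, []⟩]

theorem t9_18_32 : jobs 8 S9 b8_18 j9_18_32 = true := by decide +kernel

noncomputable def j9_18_33 : List Job := [
  ⟨30, 0x43e1d0d8642e15098441e0d058240e0501, 0, 19, 0x2201002401002601, []⟩]

theorem t9_18_33 : jobs 8 S9 b8_18 j9_18_33 = true := by decide +kernel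

noncomputable def j9_18_34 : List Job := [
  ⟨29, 0x6110a8643a21128a45e01028241a311a8e47c3e1d0d8642e15098441e0d058240e0501, 0, 19, 0x2201002401002601, []⟩]

theorem t9_18_34 : jobs 8 S9 b8_18 j9_18_34 = true := by decide +kernel

noncomputable def j9_18_35 : List Job := [
  ⟨28, 0x43e1d0d8642e15098441e0d058240e0501, 0, 16, 0x0, []⟩]

theorem t9_18_35 : jobs 8 S9 b8_18 j9_18_35 = true := by decide +kernel

noncomputable def j9_18_36 : List Job := [
  ⟨27, 0x6110a8643a311a8e47e01028241a21128a45c3e1d0d8642e15098441e0d058240e0501, 0, 16, 0x0, []⟩]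

theorem t9_18_36 : jobs 8 S9 b8_18 j9_18_36 = true := by decide +kernel

noncomputable def j9_18_37 : List Job := [
  ⟨26, 0x43e1d0d8642e15098441e0d058240e0501, 0, 16, 0x0, []⟩]

theorem t9_18_37 : jobs 8 S9 b8_18 j9_18_37 = true := by decide +kernel

noncomputable def j9_18_38 : List Job := [
  ⟨25, 0x605068443221148d47e01048543a25168c4743e1d0d8642e15098441e0d058240e0501, 0, 16, 0x0, []⟩]

theorem t9_18_38 : jobs 8 S9 b8_18 j9_18_38 = true := by decide +kernel

noncomputable def j9_18_39 : List Job := [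
  ⟨24, 0x43e1d0d8642e15098441e0d058240e0501, 0, 16, 0x0, []⟩]

theorem t9_18_39 : jobs 8 S9 b8_18 j9_18_39 = true := by decide +kernel

noncomputable def j9_18_40 : List Job := [
  ⟨23, 0x605068443225168c47601048543a21148d47c3e1d0d8642e15098441e0d058240e0501, 0, 16, 0x0, []⟩]

theorem t9_18_40 : jobs 8 S9 b8_18 j9_18_40 = true := by decide +kernel

noncomputable def j9_18_41 : List Job := [
  ⟨22, 0x43e1d0d8642e15098441e0d058240e0501, 0, 16, 0x0, []⟩]

theorem t9_18_41 : jobs 8 S9 b8_18 j9_18_41 = true := by decide +kernel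

noncomputable def j9_18_42 : List Job := [
  ⟨21, 0x6110a8643a311a8e47e01028241a21128a45c3e1d0d8642e15098441e0d058240e0501, 0, 16, 0x0, []⟩]

theorem t9_18_42 : jobs 8 S9 b8_18 j9_18_42 = true := by decide +kernel

noncomputable def j9_18_43 : List Job := [
  ⟨20, 0x43e1d0d8642e15098441e0d058240e0501, 0, 16, 0x0, []⟩]

theorem t9_18_43 : jobs 8 S9 b8_18 j9_18_43 = true := by decide +kernel

noncomputable def j9_18_44 : List Job := [
  ⟨19, 0x6110a8643a21128a45e01028241a311a8e47c3e1d0d8642e15098441e0d058240e0501, 0, 16, 0x0, []⟩]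

theorem t9_18_44 : jobs 8 S9 b8_18 j9_18_44 = true := by decide +kernel

noncomputable def j9_18_45 : List Job := [
  ⟨18, 0x43e1d0d8642e15098441e0d058240e0501, 0, 36, 0x4201004401004601004801, []⟩]

theorem t9_18_45 : jobs 8 S9 b8_18 j9_18_45 = true := by decide +kernel

noncomputable def j9_18_46 : List Job := [
  ⟨17, 0x605068543a21148c47601048443225168d47c3e1d0d8642e15098441e0d058240e0501, 0, 36, 0x4201004401, []⟩]

theorem t9_18_46 : jobs 8 S9 b8_18 j9_18_46 = true := by decide +kernel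

noncomputable def j9_18_47 : List Job := [
  ⟨16, 0x544a4542b964b45c2fd40a6552b160b65d2f508864623928964e27d00824422920924c26c3e1d0d8642e15098441e0d058240e0501, 0, 36, 0x4201004601, []⟩]

theorem t9_18_47 : jobs 8 S9 b8_18 j9_18_47 = true := by decide +kernel

noncomputable def j9_18_48 : List Job := [
  ⟨15, 0x621128a45a311a8e47e01028241a110a8643c3e1d0d8642e15098441e0d058240e0501, 0, 36, 0x4201004401, []⟩]

theorem t9_18_48 : jobs 8 S9 b8_18 j9_18_48 = true := by decide +kernel

noncomputable def j9_18_49 : List Job := [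
  ⟨14, 0x621128a45a311a8e47e01028241a110a8643d44a4542b964b45c2fd40a6552b160b65d2f508864623928964e27d00824422920924c26c3e1d0d8642e15098441e0d058240e0501, 0, 43, 0x4201004a01004c01004e01005001005401, []⟩]

theorem t9_18_49 : jobs 8 S9 b8_18 j9_18_49 = true := by decide +kernel

noncomputable def j9_18_50 : List Job := [
  ⟨13, 0x605068543a21148c47601048443225168d47d54ac582dd50ae592d544a45c2fd40a65d2f43e1d0d8642e15098441e0d058240e0501, 0, 41, 0x2601004810004c10005201, []⟩]

theorem t9_18_50 : jobs 8 S9 b8_18 j9_18_50 = true := by decide +kernel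

noncomputable def j9_18_51 : List Job := [
  ⟨12, 0x54cac582ed48ae592e544a85a2fd40aa5b2f43e1d0d8642e15098441e0d058240e0501, 0, 36, 0x4210004610, []⟩]

theorem t9_18_51 : jobs 8 S9 b8_18 j9_18_51 = true := by decide +kernel

noncomputable def j9_18_52 : List Job := [
  ⟨11, 0x621128a45a311a8e47e01028241a110a8643d4cac582ed48ae592e544a85a2fd40aa5b2f43e1d0d8642e15098441e0d058240e0501, 0, 44, 0x4210004610004a01004e01005201005601, []⟩]

theorem t9_18_52 : jobs 8 S9 b8_18 j9_18_52 = true := by decide +kernel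

noncomputable def j9_18_53 : List Job := [
  ⟨10, 0x43e1d0d8642e15098441e0d058240e0501, 0, 18, 0x2201002401, []⟩]

theorem t9_18_53 : jobs 8 S9 b8_18 j9_18_53 = true := by decide +kernel

noncomputable def j9_18_54 : List Job := [
  ⟨9, 0x43e1d0d8642e15098441e0d058240e0501, 0, 16, 0x0, []⟩]

theorem t9_18_54 : jobs 8 S9 b8_18 j9_18_54 = true := by decide +kernel

noncomputable def j9_18_55 : List Job := [
  ⟨8, 0x43e1d0d8642e15098441e0d058240e0501, 0, 16, 0x0, []⟩]

theorem t9_18_55 : jobs 8 S9 b8_18 j9_18_55 = true := by decide +kernel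

noncomputable def j9_18_56 : List Job := [
  ⟨7, 0x544a4552b160b65c2fd40a6542b964b45d2f520924a259309a4e27d008242219108a4623c3e1d0d8642e15098441e0d058240e0501, 0, 18, 0x2201002401, []⟩]

theorem t9_18_56 : jobs 8 S9 b8_18 j9_18_56 = true := by decide +kernel

noncomputable def j9_18_57 : List Job := [
  ⟨6, 0x5309a4e27d20924a25d108a4623d00824221c3e1d0d8642e15098441e0d058240e0501, 0, 18, 0x2201002401, []⟩]

theorem t9_18_57 : jobs 8 S9 b8_18 j9_18_57 = true := by decide +kernel

noncomputable def j9_18_58 : List Job := [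
  ⟨5, 0x5309a4e27d20924a25d108a4623d00824221c3e1d0d8642e15098441e0d058240e0501, 0, 18, 0x2201002401, []⟩]

theorem t9_18_58 : jobs 8 S9 b8_18 j9_18_58 = true := by decide +kernel

noncomputable def j9_18_59 : List Job := [
  ⟨4, 0x5309a4e27d20924a25d108a4623d00824221c3e1d0d8642e15098441e0d058240e0501, 0, 18, 0x2201002401, []⟩]

theorem t9_18_59 : jobs 8 S9 b8_18 j9_18_59 = true := by decide +kernel

noncomputable def j9_18_60 : List Job := [
  ⟨3, 0x5309a4e27d20924a25d108a4623d00824221c3e1d0d8642e15098441e0d058240e0501, 0, 18, 0x2201002401, []⟩]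

theorem t9_18_60 : jobs 8 S9 b8_18 j9_18_60 = true := by decide +kernel

noncomputable def j9_18_61 : List Job := [
  ⟨2, 0x43e1d0d8642e15098441e0d058240e0501, 0, 19, 0x2201002401002601, []⟩]

theorem t9_18_61 : jobs 8 S9 b8_18 j9_18_61 = true := by decide +kernel

noncomputable def j9_18_62 : List Job := [
  ⟨1, 0x43e1d0d8642e15098441e0d058240e0501, 0, 16, 0x0, []⟩]

theorem t9_18_62 : jobs 8 S9 b8_18 j9_18_62 = true := by decide +kernel

noncomputable def j9_18_63 : List Job := [
  ⟨0, 0x5108a4623920924a25d008242219309a4e27c3e1d0d8642e15098441e0d058240e0501, 0, 66, 0x2201002401002601002801003201005601005801007e01008001, []⟩]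

theorem t9_18_63 : jobs 8 S9 b8_18 j9_18_63 = true := by decide +kernel

theorem d9_18 : Dn 8 S9 b8_18 := dn_of (Js := j9_18_0 ++ (j9_18_1 ++ (j9_18_2 ++ (j9_18_3 ++ (j9_18_4 ++ (j9_18_5 ++ (j9_18_6 ++ (j9_18_7 ++ (j9_18_8 ++ (j9_18_9 ++ (j9_18_10 ++ (j9_18_11 ++ (j9_18_12 ++ (j9_18_13 ++ (j9_18_14 ++ (j9_18_15 ++ (j9_18_16 ++ (j9_18_17 ++ (j9_18_18 ++ (j9_18_19 ++ (j9_18_20 ++ (j9_18_21 ++ (j9_18_22 ++ (j9_18_23 ++ (j9_18_24 ++ (j9_18_25 ++ (j9_18_26 ++ (j9_18_27 ++ (j9_18_28 ++ (j9_18_29 ++ (j9_18_30 ++ (j9_18_31 ++ (j9_18_32 ++ (j9_18_33 ++ (j9_18_34 ++ (j9_18_35 ++ (j9_18_36 ++ (j9_18_37 ++ (j9_18_38 ++ (j9_18_39 ++ (j9_18_40 ++ (j9_18_41 ++ (j9_18_42 ++ (j9_18_43 ++ (j9_18_44 ++ (j9_18_45 ++ (j9_18_46 ++ (j9_18_47 ++ (j9_18_48 ++ (j9_18_49 ++ (j9_18_50 ++ (j9_18_51 ++ (j9_18_52 ++ (j9_18_53 ++ (j9_18_54 ++ (j9_18_55 ++ (j9_18_56 ++ (j9_18_57 ++ (j9_18_58 ++ (j9_18_59 ++ (j9_18_60 ++ (j9_18_61 ++ (j9_18_62 ++ (j9_18_63 ++ []))))))))))))))))))))))))))))))))))))))))))))))))))))))))))))))))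
  (jobs_append t9_18_0 <| jobs_append t9_18_1 <| jobs_append t9_18_2 <| jobs_append t9_18_3 <| jobs_append t9_18_4 <| jobs_append t9_18_5 <| jobs_append t9_18_6 <| jobs_append t9_18_7 <| jobs_append t9_18_8 <| jobs_append t9_18_9 <| jobs_append t9_18_10 <| jobs_append t9_18_11 <| jobs_append t9_18_12 <| jobs_append t9_18_13 <| jobs_append t9_18_14 <| jobs_append t9_18_15 <| jobs_append t9_18_16 <| jobs_append t9_18_17 <| jobs_append t9_18_18 <| jobs_append t9_18_19 <| jobs_append t9_18_20 <| jobs_append t9_18_21 <| jobs_append t9_18_22 <| jobs_append t9_18_23 <| jobs_append t9_18_24 <| jobs_append t9_18_25 <| jobs_append t9_18_26 <| jobs_append t9_18_27 <| jobs_append t9_18_28 <| jobs_append t9_18_29 <| jobs_append t9_18_30 <| jobs_append t9_18_31 <| jobs_append t9_18_32 <| jobs_append t9_18_33 <| jobs_append t9_18_34 <| jobs_append t9_18_35 <| jobs_append t9_18_36 <| jobs_append t9_18_37 <| jobs_append t9_18_38 <| jobs_append t9_18_39 <| jobs_append t9_18_40 <| jobs_append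 t9_18_41 <| jobs_append t9_18_42 <| jobs_append t9_18_43 <| jobs_append t9_18_44 <| jobs_append t9_18_45 <| jobs_append t9_18_46 <| jobs_append t9_18_47 <| jobs_append t9_18_48 <| jobs_append t9_18_49 <| jobs_append t9_18_50 <| jobs_append t9_18_51 <| jobs_append t9_18_52 <| jobs_append t9_18_53 <| jobs_append t9_18_54 <| jobs_append t9_18_55 <| jobs_append t9_18_56 <| jobs_append t9_18_57 <| jobs_append t9_18_58 <| jobs_append t9_18_59 <| jobs_append t9_18_60 <| jobs_append t9_18_61 <| jobs_append t9_18_62 <| jobs_append t9_18_63 <| List.forall_mem_nil _) (by decide +kernel)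

noncomputable def j9_19_0 : List Job := [
  ⟨63, 0x554ac592d550ae582dd44a45d2f540a65c2fc3e1d0d8642e15098441e0d058240e0501, 0, 18, 0x2201002401, []⟩]

theorem t9_19_0 : jobs 8 S9 b8_19 j9_19_0 = true := by decide +kernel

noncomputable def j9_19_1 : List Job := [
  ⟨62, 0x5309a4e27d20924a25d108a4623d00824221c3e1d0d8642e15098441e0d058240e0501, 0, 18, 0x2201002401, []⟩]

theorem t9_19_1 : jobs 8 S9 b8_19 j9_19_1 = true := by decide +kernel

noncomputable def j9_19_2 : List Job := [
  ⟨61, 0x5309a4e27d20924a25d108a4623d00824221c3e1d0d8642e15098441e0d058240e0501, 0, 18, 0x2201002401, []⟩]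

theorem t9_19_2 : jobs 8 S9 b8_19 j9_19_2 = true := by decide +kernel

noncomputable def j9_19_3 : List Job := [
  ⟨60, 0x554ac5d2f550ae5c2fd44a4592d540a6582dc3e1d0d8642e15098441e0d058240e0501, 0, 22, 0x2201002401002601002801002a01002c01, []⟩]

theorem t9_19_3 : jobs 8 S9 b8_19 j9_19_3 = true := by decide +kernel

noncomputable def j9_19_4 : List Job := [
  ⟨59, 0x5309a4e27d20924a25d108a4623d00824221c3e1d0d8642e15098441e0d058240e0501, 0, 18, 0x2201002401, []⟩]

theorem t9_19_4 : jobs 8 S9 b8_19 j9_19_4 = true := by decide +kernel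

noncomputable def j9_19_5 : List Job := [
  ⟨58, 0x43e1d0d8642e15098441e0d058240e0501, 0, 16, 0x0, []⟩]

theorem t9_19_5 : jobs 8 S9 b8_19 j9_19_5 = true := by decide +kernel

noncomputable def j9_19_6 : List Job := [
  ⟨57, 0x6d16ab65baf17abe5fec162b259ae172ba5dc3e1d0d8642e15098441e0d058240e0501, 0, 16, 0x0, []⟩]

theorem t9_19_6 : jobs 8 S9 b8_19 j9_19_6 = true := by decide +kernel

noncomputable def j9_19_7 : List Job := [
  ⟨56, 0x43e1d0d8642e15098441e0d058240e0501, 0, 16, 0x0, []⟩]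

theorem t9_19_7 : jobs 8 S9 b8_19 j9_19_7 = true := by decide +kernel

noncomputable def j9_19_8 : List Job := [
  ⟨55, 0x43e1d0d8642e15098441e0d058240e0501, 0, 16, 0x0, []⟩]

theorem t9_19_8 : jobs 8 S9 b8_19 j9_19_8 = true := by decide +kernel

noncomputable def j9_19_9 : List Job := [
  ⟨54, 0x6c566b45b2e576bc5f6c164b55bae174bd5fc3e1d0d8642e15098441e0d058240e0501, 0, 16, 0x0, []⟩]

theorem t9_19_9 : jobs 8 S9 b8_19 j9_19_9 = true := by decide +kernel

noncomputable def j9_19_10 : List Job := [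
  ⟨53, 0x43e1d0d8642e15098441e0d058240e0501, 0, 16, 0x0, []⟩]

theorem t9_19_10 : jobs 8 S9 b8_19 j9_19_10 = true := by decide +kernel

noncomputable def j9_19_11 : List Job := [
  ⟨52, 0x6c966b65bae172bc5eec162b45aae976be5fc3e1d0d8642e15098441e0d058240e0501, 0, 36, 0x4401004601, []⟩]

theorem t9_19_11 : jobs 8 S9 b8_19 j9_19_11 = true := by decide +kernel

noncomputable def j9_19_12 : List Job := [
  ⟨51, 0x6e172ba5daf17abe5fec162b259ad16ab65bc3e1d0d8642e15098441e0d058240e0501, 0, 19, 0x2201002401, []⟩]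

theorem t9_19_12 : jobs 8 S9 b8_19 j9_19_12 = true := by decide +kernel

noncomputable def j9_19_13 : List Job := [
  ⟨50, 0x43e1d0d8642e15098441e0d058240e0501, 0, 19, 0x2201002401002601, []⟩]

theorem t9_19_13 : jobs 8 S9 b8_19 j9_19_13 = true := by decide +kernel

noncomputable def j9_19_14 : List Job := [
  ⟨49, 0x43e1d0d8642e15098441e0d058240e0501, 0, 16, 0x0, []⟩]

theorem t9_19_14 : jobs 8 S9 b8_19 j9_19_14 = true := by decide +kernel

noncomputable def j9_19_15 : List Job := [
  ⟨48, 0x43e1d0d8642e15098441e0d058240e0501, 0, 16, 0x0, []⟩]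

theorem t9_19_15 : jobs 8 S9 b8_19 j9_19_15 = true := by decide +kernel

noncomputable def j9_19_16 : List Job := [
  ⟨47, 0x6c564b45bae176bd5f6c166b55b2e574bc5fc3e1d0d8642e15098441e0d058240e0501, 0, 20, 0x2201002401002601002801, []⟩]

theorem t9_19_16 : jobs 8 S9 b8_19 j9_19_16 = true := by decide +kernel

noncomputable def j9_19_17 : List Job := [
  ⟨46, 0x6c564b55b2e574bd5f6c166b45bae176bc5fc3e1d0d8642e15098441e0d058240e0501, 0, 18, 0x2201002401, []⟩]

theorem t9_19_17 : jobs 8 S9 b8_19 j9_19_17 = true := by decide +kernel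

noncomputable def j9_19_18 : List Job := [
  ⟨45, 0x43e1d0d8642e15098441e0d058240e0501, 0, 18, 0x2201002401, []⟩]

theorem t9_19_18 : jobs 8 S9 b8_19 j9_19_18 = true := by decide +kernel

noncomputable def j9_19_19 : List Job := [
  ⟨44, 0x43e1d0d8642e15098441e0d058240e0501, 0, 18, 0x2201002401, []⟩]

theorem t9_19_19 : jobs 8 S9 b8_19 j9_19_19 = true := by decide +kernel

noncomputable def j9_19_20 : List Job := [
  ⟨43, 0x43e1d0d8642e15098441e0d058240e0501, 0, 18, 0x2201002401, []⟩]

theorem t9_19_20 : jobs 8 S9 b8_19 j9_19_20 = true := by decide +kernel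

noncomputable def j9_19_21 : List Job := [
  ⟨42, 0x6c564b45bae574bc5fec166b55b2e176bd5f43e1d0d8642e15098441e0d058240e0501, 0, 19, 0x2201002401002601, []⟩]

theorem t9_19_21 : jobs 8 S9 b8_19 j9_19_21 = true := by decide +kernel

noncomputable def j9_19_22 : List Job := [
  ⟨41, 0x6c564b45bae574bc5fec166b55b2e176bd5f43e1d0d8642e15098441e0d058240e0501, 0, 19, 0x201000401002601, []⟩]

theorem t9_19_22 : jobs 8 S9 b8_19 j9_19_22 = true := by decide +kernel

noncomputable def j9_19_23 : List Job := [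
  ⟨40, 0x43e1d0d8642e15098441e0d058240e0501, 0, 16, 0x0, []⟩]

theorem t9_19_23 : jobs 8 S9 b8_19 j9_19_23 = true := by decide +kernel

noncomputable def j9_19_24 : List Job := [
  ⟨39, 0x43e1d0d8642e15098441e0d058240e0501, 0, 18, 0x2201002401, []⟩]

theorem t9_19_24 : jobs 8 S9 b8_19 j9_19_24 = true := by decide +kernel

noncomputable def j9_19_25 : List Job := [
  ⟨38, 0x6c564b55b2e176bc5fec166b45bae574bd5f43e1d0d8642e15098441e0d058240e0501, 0, 24, 0x2201002401002601002a01002c01002e01003001, []⟩]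

theorem t9_19_25 : jobs 8 S9 b8_19 j9_19_25 = true := by decide +kernel

noncomputable def j9_19_26 : List Job := [
  ⟨37, 0x43e1d0d8642e15098441e0d058240e0501, 0, 18, 0x2201002401, []⟩]

theorem t9_19_26 : jobs 8 S9 b8_19 j9_19_26 = true := by decide +kernel

noncomputable def j9_19_27 : List Job := [
  ⟨36, 0x6c564b55b2e176bc5fec166b45bae574bd5f43e1d0d8642e15098441e0d058240e0501, 0, 18, 0x2201002401, []⟩]

theorem t9_19_27 : jobs 8 S9 b8_19 j9_19_27 = true := by decide +kernel

noncomputable def j9_19_28 : List Job := [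
  ⟨35, 0x43e1d0d8642e15098441e0d058240e0501, 0, 18, 0x2201002401, []⟩]

theorem t9_19_28 : jobs 8 S9 b8_19 j9_19_28 = true := by decide +kernel

noncomputable def j9_19_29 : List Job := [
  ⟨34, 0x43e1d0d8642e15098441e0d058240e0501, 0, 18, 0x2201002401, []⟩]

theorem t9_19_29 : jobs 8 S9 b8_19 j9_19_29 = true := by decide +kernel

noncomputable def j9_19_30 : List Job := [
  ⟨33, 0x621128a45a311a8e47e01028241a110a8643c3e1d0d8642e15098441e0d058240e0501, 0, 36, 0x4201004401, []⟩]

theorem t9_19_30 : jobs 8 S9 b8_19 j9_19_30 = true := by decide +kernel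

noncomputable def j9_19_31 : List Job := [
  ⟨32, 0x43e1d0d8642e15098441e0d058240e0501, 0, 16, 0x0, []⟩]

theorem t9_19_31 : jobs 8 S9 b8_19 j9_19_31 = true := by decide +kernel

noncomputable def j9_19_32 : List Job := [
  ⟨31, 0x621128a45a311a8e47e01028241a110a8643c3e1d0d8642e15098441e0d058240e0501, 0, 16, 0x0, []⟩]

theorem t9_19_32 : jobs 8 S9 b8_19 j9_19_32 = true := by decide +kernel

noncomputable def j9_19_33 : List Job := [
  ⟨30, 0x43e1d0d8642e15098441e0d058240e0501, 0, 18, 0x2201002401, []⟩]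

theorem t9_19_33 : jobs 8 S9 b8_19 j9_19_33 = true := by decide +kernel

noncomputable def j9_19_34 : List Job := [
  ⟨29, 0x621128a45a311a8e47e01028241a110a8643c3e1d0d8642e15098441e0d058240e0501, 0, 36, 0x2201002401, []⟩]

theorem t9_19_34 : jobs 8 S9 b8_19 j9_19_34 = true := by decide +kernel

noncomputable def j9_19_35 : List Job := [
  ⟨28, 0x43e1d0d8642e15098441e0d058240e0501, 0, 16, 0x0, []⟩]

theorem t9_19_35 : jobs 8 S9 b8_19 j9_19_35 = true := by decide +kernel

noncomputable def j9_19_36 : List Job := [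
  ⟨27, 0x621128a45a311a8e47e01028241a110a8643c3e1d0d8642e15098441e0d058240e0501, 0, 16, 0x0, []⟩]

theorem t9_19_36 : jobs 8 S9 b8_19 j9_19_36 = true := by decide +kernel

noncomputable def j9_19_37 : List Job := [
  ⟨26, 0x43e1d0d8642e15098441e0d058240e0501, 0, 16, 0x0, []⟩]

theorem t9_19_37 : jobs 8 S9 b8_19 j9_19_37 = true := by decide +kernel

noncomputable def j9_19_38 : List Job := [
  ⟨25, 0x43e1d0d8642e15098441e0d058240e0501, 0, 19, 0x2201002401002601, []⟩]

theorem t9_19_38 : jobs 8 S9 b8_19 j9_19_38 = true := by decide +kernel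

noncomputable def j9_19_39 : List Job := [
  ⟨24, 0x629168e47e21128c46e09068643e01028442c3e1d0d8642e15098441e0d058240e0501, 0, 19, 0x2201002401002601, []⟩]

theorem t9_19_39 : jobs 8 S9 b8_19 j9_19_39 = true := by decide +kernel

noncomputable def j9_19_40 : List Job := [
  ⟨23, 0x43e1d0d8642e15098441e0d058240e0501, 0, 36, 0x4201004401004601004801, []⟩]

theorem t9_19_40 : jobs 8 S9 b8_19 j9_19_40 = true := by decide +kernel

noncomputable def j9_19_41 : List Job := [
  ⟨22, 0x621128a45a311a8e47e01028241a110a8643c3e1d0d8642e15098441e0d058240e0501, 0, 16, 0x0, []⟩]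

theorem t9_19_41 : jobs 8 S9 b8_19 j9_19_41 = true := by decide +kernel

noncomputable def j9_19_42 : List Job := [
  ⟨21, 0x43e1d0d8642e15098441e0d058240e0501, 0, 16, 0x0, []⟩]

theorem t9_19_42 : jobs 8 S9 b8_19 j9_19_42 = true := by decide +kernel

noncomputable def j9_19_43 : List Job := [
  ⟨20, 0x621128a45a311a8e47e01028241a110a8643c3e1d0d8642e15098441e0d058240e0501, 0, 20, 0x2201002601, []⟩]

theorem t9_19_43 : jobs 8 S9 b8_19 j9_19_43 = true := by decide +kernel

noncomputable def j9_19_44 : List Job := [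
  ⟨19, 0x43e1d0d8642e15098441e0d058240e0501, 0, 16, 0x0, []⟩]

theorem t9_19_44 : jobs 8 S9 b8_19 j9_19_44 = true := by decide +kernel

noncomputable def j9_19_45 : List Job := [
  ⟨18, 0x621128a45a311a8e47e01028241a110a8643c3e1d0d8642e15098441e0d058240e0501, 0, 20, 0x2201002601, []⟩]

theorem t9_19_45 : jobs 8 S9 b8_19 j9_19_45 = true := by decide +kernel

noncomputable def j9_19_46 : List Job := [
  ⟨17, 0x43e1d0d8642e15098441e0d058240e0501, 0, 19, 0x2201002401002601, []⟩]

theorem t9_19_46 : jobs 8 S9 b8_19 j9_19_46 = true := by decide +kernel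

noncomputable def j9_19_47 : List Job := [
  ⟨16, 0x43e1d0d8642e15098441e0d058240e0501, 0, 16, 0x0, []⟩]

theorem t9_19_47 : jobs 8 S9 b8_19 j9_19_47 = true := by decide +kernel

noncomputable def j9_19_48 : List Job := [
  ⟨15, 0x629168c46e21128e47e09068442e01028643c3e1d0d8642e15098441e0d058240e0501, 0, 25, 0x2201002401002601002801002a01002c01002e01003000003201, [(23, ⟨2274, 0x20001410048800170040401060042801020000001, 0x1802408438030280410⟩)]⟩]

theorem t9_19_48 : jobs 8 S9 b8_19 j9_19_48 = true := by decide +kernel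

noncomputable def j9_19_49 : List Job := [
  ⟨14, 0x43e1d0d8642e15098441e0d058240e0501, 0, 16, 0x0, []⟩]

theorem t9_19_49 : jobs 8 S9 b8_19 j9_19_49 = true := by decide +kernel

noncomputable def j9_19_50 : List Job := [
  ⟨13, 0x43e1d0d8642e15098441e0d058240e0501, 0, 19, 0x2201002401002601, []⟩]

theorem t9_19_50 : jobs 8 S9 b8_19 j9_19_50 = true := by decide +kernel

noncomputable def j9_19_51 : List Job := [
  ⟨12, 0x43e1d0d8642e15098441e0d058240e0501, 0, 16, 0x0, []⟩]

theorem t9_19_51 : jobs 8 S9 b8_19 j9_19_51 = true := by decide +kernel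

noncomputable def j9_19_52 : List Job := [
  ⟨11, 0x621128a45a311a8e47e01028241a110a8643c3e1d0d8642e15098441e0d058240e0501, 0, 20, 0x2201002601, []⟩]

theorem t9_19_52 : jobs 8 S9 b8_19 j9_19_52 = true := by decide +kernel

noncomputable def j9_19_53 : List Job := [
  ⟨10, 0x43e1d0d8642e15098441e0d058240e0501, 0, 16, 0x0, []⟩]

theorem t9_19_53 : jobs 8 S9 b8_19 j9_19_53 = true := by decide +kernel

noncomputable def j9_19_54 : List Job := [
  ⟨9, 0x621128a45a311a8e47e01028241a110a8643c3e1d0d8642e15098441e0d058240e0501, 0, 18, 0x2201002401, []⟩]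

theorem t9_19_54 : jobs 8 S9 b8_19 j9_19_54 = true := by decide +kernel

noncomputable def j9_19_55 : List Job := [
  ⟨8, 0x621128a45a311a8e47e01028241a110a8643c3e1d0d8642e15098441e0d058240e0501, 0, 18, 0x2201002401, []⟩]

theorem t9_19_55 : jobs 8 S9 b8_19 j9_19_55 = true := by decide +kernel

noncomputable def j9_19_56 : List Job := [
  ⟨7, 0x43e1d0d8642e15098441e0d058240e0501, 0, 16, 0x0, []⟩]

theorem t9_19_56 : jobs 8 S9 b8_19 j9_19_56 = true := by decide +kernel

noncomputable def j9_19_57 : List Job := [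
  ⟨6, 0x629168e47e21128c46e09068643e01028442c3e1d0d8642e15098441e0d058240e0501, 0, 24, 0x2201002401002601002801002a01002e01, []⟩]

theorem t9_19_57 : jobs 8 S9 b8_19 j9_19_57 = true := by decide +kernel

noncomputable def j9_19_58 : List Job := [
  ⟨5, 0x43e1d0d8642e15098441e0d058240e0501, 0, 16, 0x0, []⟩]

theorem t9_19_58 : jobs 8 S9 b8_19 j9_19_58 = true := by decide +kernel

noncomputable def j9_19_59 : List Job := [
  ⟨4, 0x4c866361b8e8763e1fcc062341a8e0723c1ec3e1d0d8642e15098441e0d058240e0501, 0, 16, 0x0, []⟩]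

theorem t9_19_59 : jobs 8 S9 b8_19 j9_19_59 = true := by decide +kernel

noncomputable def j9_19_60 : List Job := [
  ⟨3, 0x68544a453aa156ad5768146a5532a554ac57cc866361b8e8763e1fcc062341a8e0723c1ec3e1d0d8642e15098441e0d058240e0501, 0, 36, 0x4401004801, []⟩]

theorem t9_19_60 : jobs 8 S9 b8_19 j9_19_60 = true := by decide +kernel

noncomputable def j9_19_61 : List Job := [
  ⟨2, 0x4c866361b8e8763e1fcc062341a8e0723c1ec3e1d0d8642e15098441e0d058240e0501, 0, 36, 0x4201004401004601004801, []⟩]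

theorem t9_19_61 : jobs 8 S9 b8_19 j9_19_61 = true := by decide +kernel

noncomputable def j9_19_62 : List Job := [
  ⟨1, 0x4c866361b8e8763e1fcc062341a8e0723c1ec3e1d0d8642e15098441e0d058240e0501, 0, 43, 0x4201004401004601004801004a01004e01005001005401005601, []⟩]

theorem t9_19_62 : jobs 8 S9 b8_19 j9_19_62 = true := by decide +kernel

noncomputable def j9_19_63 : List Job := [
  ⟨0, 0x520924a259309a4e27d008242219108a4623cc866361b8e8763e1fcc062341a8e0723c1ec3e1d0d8642e15098441e0d058240e0501, 0, 29, 0x2201002401002801002a01003201003601003a01, []⟩]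

theorem t9_19_63 : jobs 8 S9 b8_19 j9_19_63 = true := by decide +kernel

theorem d9_19 : Dn 8 S9 b8_19 := dn_of (Js := j9_19_0 ++ (j9_19_1 ++ (j9_19_2 ++ (j9_19_3 ++ (j9_19_4 ++ (j9_19_5 ++ (j9_19_6 ++ (j9_19_7 ++ (j9_19_8 ++ (j9_19_9 ++ (j9_19_10 ++ (j9_19_11 ++ (j9_19_12 ++ (j9_19_13 ++ (j9_19_14 ++ (j9_19_15 ++ (j9_19_16 ++ (j9_19_17 ++ (j9_19_18 ++ (j9_19_19 ++ (j9_19_20 ++ (j9_19_21 ++ (j9_19_22 ++ (j9_19_23 ++ (j9_19_24 ++ (j9_19_25 ++ (j9_19_26 ++ (j9_19_27 ++ (j9_19_28 ++ (j9_19_29 ++ (j9_19_30 ++ (j9_19_31 ++ (j9_19_32 ++ (j9_19_33 ++ (j9_19_34 ++ (j9_19_35 ++ (j9_19_36 ++ (j9_19_37 ++ (j9_19_38 ++ (j9_19_39 ++ (j9_19_40 ++ (j9_19_41 ++ (j9_19_42 ++ (j9_19_43 ++ (j9_19_44 ++ (j9_19_45 ++ (j9_19_46 ++ (j9_19_47 ++ (j9_19_48 ++ (j9_19_49 ++ (j9_19_50 ++ (j9_19_51 ++ (j9_19_52 ++ (j9_19_53 ++ (j9_19_54 ++ (j9_19_55 ++ (j9_19_56 ++ (j9_19_57 ++ (j9_19_58 ++ (j9_19_59 ++ (j9_19_60 ++ (j9_19_61 ++ (j9_19_62 ++ (j9_19_63 ++ []))))))))))))))))))))))))))))))))))))))))))))))))))))))))))))))))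
  (jobs_append t9_19_0 <| jobs_append t9_19_1 <| jobs_append t9_19_2 <| jobs_append t9_19_3 <| jobs_append t9_19_4 <| jobs_append t9_19_5 <| jobs_append t9_19_6 <| jobs_append t9_19_7 <| jobs_append t9_19_8 <| jobs_append t9_19_9 <| jobs_append t9_19_10 <| jobs_append t9_19_11 <| jobs_append t9_19_12 <| jobs_append t9_19_13 <| jobs_append t9_19_14 <| jobs_append t9_19_15 <| jobs_append t9_19_16 <| jobs_append t9_19_17 <| jobs_append t9_19_18 <| jobs_append t9_19_19 <| jobs_append t9_19_20 <| jobs_append t9_19_21 <| jobs_append t9_19_22 <| jobs_append t9_19_23 <| jobs_append t9_19_24 <| jobs_append t9_19_25 <| jobs_append t9_19_26 <| jobs_append t9_19_27 <| jobs_append t9_19_28 <| jobs_append t9_19_29 <| jobs_append t9_19_30 <| jobs_append t9_19_31 <| jobs_append t9_19_32 <| jobs_append t9_19_33 <| jobs_append t9_19_34 <| jobs_append t9_19_35 <| jobs_append t9_19_36 <| jobs_append t9_19_37 <| jobs_append t9_19_38 <| jobs_append t9_19_39 <| jobs_append t9_19_40 <| jobs_append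 t9_19_41 <| jobs_append t9_19_42 <| jobs_append t9_19_43 <| jobs_append t9_19_44 <| jobs_append t9_19_45 <| jobs_append t9_19_46 <| jobs_append t9_19_47 <| jobs_append t9_19_48 <| jobs_append t9_19_49 <| jobs_append t9_19_50 <| jobs_append t9_19_51 <| jobs_append t9_19_52 <| jobs_append t9_19_53 <| jobs_append t9_19_54 <| jobs_append t9_19_55 <| jobs_append t9_19_56 <| jobs_append t9_19_57 <| jobs_append t9_19_58 <| jobs_append t9_19_59 <| jobs_append t9_19_60 <| jobs_append t9_19_61 <| jobs_append t9_19_62 <| jobs_append t9_19_63 <| List.forall_mem_nil _) (by decide +kernel)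

noncomputable def j9_20_0 : List Job := [
  ⟨63, 0x43e1d0d8642e15098441e0d058240e0501, 0, 16, 0x0, []⟩]

theorem t9_20_0 : jobs 8 S9 b8_20 j9_20_0 = true := by decide +kernel

noncomputable def j9_20_1 : List Job := [
  ⟨62, 0x43e1d0d8642e15098441e0d058240e0501, 0, 16, 0x0, []⟩]

theorem t9_20_1 : jobs 8 S9 b8_20 j9_20_1 = true := by decide +kernel

noncomputable def j9_20_2 : List Job := [
  ⟨61, 0x43e1d0d8642e15098441e0d058240e0501, 0, 16, 0x0, []⟩]

theorem t9_20_2 : jobs 8 S9 b8_20 j9_20_2 = true := by decide +kernel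

noncomputable def j9_20_3 : List Job := [
  ⟨60, 0x43e1d0d8642e15098441e0d058240e0501, 0, 16, 0x0, []⟩]

theorem t9_20_3 : jobs 8 S9 b8_20 j9_20_3 = true := by decide +kernel

noncomputable def j9_20_4 : List Job := [
  ⟨59, 0x43e1d0d8642e15098441e0d058240e0501, 0, 16, 0x0, []⟩]

theorem t9_20_4 : jobs 8 S9 b8_20 j9_20_4 = true := by decide +kernel

noncomputable def j9_20_5 : List Job := [
  ⟨58, 0x43e1d0d8642e15098441e0d058240e0501, 0, 16, 0x0, []⟩]

theorem t9_20_5 : jobs 8 S9 b8_20 j9_20_5 = true := by decide +kernel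

noncomputable def j9_20_6 : List Job := [
  ⟨57, 0x43e1d0d8642e15098441e0d058240e0501, 0, 19, 0x2201002401002601, []⟩]

theorem t9_20_6 : jobs 8 S9 b8_20 j9_20_6 = true := by decide +kernel

noncomputable def j9_20_7 : List Job := [
  ⟨56, 0x43e1d0d8642e15098441e0d058240e0501, 0, 36, 0x4201004401004601004801, []⟩]

theorem t9_20_7 : jobs 8 S9 b8_20 j9_20_7 = true := by decide +kernel

noncomputable def j9_20_8 : List Job := [
  ⟨55, 0x43e1d0d8642e15098441e0d058240e0501, 0, 16, 0x0, []⟩]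

theorem t9_20_8 : jobs 8 S9 b8_20 j9_20_8 = true := by decide +kernel

noncomputable def j9_20_9 : List Job := [
  ⟨54, 0x43e1d0d8642e15098441e0d058240e0501, 0, 16, 0x0, []⟩]

theorem t9_20_9 : jobs 8 S9 b8_20 j9_20_9 = true := by decide +kernel

noncomputable def j9_20_10 : List Job := [
  ⟨53, 0x43e1d0d8642e15098441e0d058240e0501, 0, 20, 0x2201002401002601002801, []⟩]

theorem t9_20_10 : jobs 8 S9 b8_20 j9_20_10 = true := by decide +kernel

noncomputable def j9_20_11 : List Job := [
  ⟨52, 0x43e1d0d8642e15098441e0d058240e0501, 0, 16, 0x0, []⟩]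

theorem t9_20_11 : jobs 8 S9 b8_20 j9_20_11 = true := by decide +kernel

noncomputable def j9_20_12 : List Job := [
  ⟨51, 0x43e1d0d8642e15098441e0d058240e0501, 0, 16, 0x0, []⟩]

theorem t9_20_12 : jobs 8 S9 b8_20 j9_20_12 = true := by decide +kernel

noncomputable def j9_20_13 : List Job := [
  ⟨50, 0x43e1d0d8642e15098441e0d058240e0501, 0, 16, 0x0, []⟩]

theorem t9_20_13 : jobs 8 S9 b8_20 j9_20_13 = true := by decide +kernel

noncomputable def j9_20_14 : List Job := [
  ⟨49, 0x43e1d0d8642e15098441e0d058240e0501, 0, 18, 0x2201002401, []⟩]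

theorem t9_20_14 : jobs 8 S9 b8_20 j9_20_14 = true := by decide +kernel

noncomputable def j9_20_15 : List Job := [
  ⟨48, 0x43e1d0d8642e15098441e0d058240e0501, 0, 19, 0x2201002401002601, []⟩]

theorem t9_20_15 : jobs 8 S9 b8_20 j9_20_15 = true := by decide +kernel

noncomputable def j9_20_16 : List Job := [
  ⟨47, 0x43e1d0d8642e15098441e0d058240e0501, 0, 16, 0x0, []⟩]

theorem t9_20_16 : jobs 8 S9 b8_20 j9_20_16 = true := by decide +kernel

noncomputable def j9_20_17 : List Job := [
  ⟨46, 0x43e1d0d8642e15098441e0d058240e0501, 0, 16, 0x0, []⟩]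

theorem t9_20_17 : jobs 8 S9 b8_20 j9_20_17 = true := by decide +kernel

noncomputable def j9_20_18 : List Job := [
  ⟨45, 0x43e1d0d8642e15098441e0d058240e0501, 0, 18, 0x2201002401, []⟩]

theorem t9_20_18 : jobs 8 S9 b8_20 j9_20_18 = true := by decide +kernel

noncomputable def j9_20_19 : List Job := [
  ⟨44, 0x43e1d0d8642e15098441e0d058240e0501, 0, 18, 0x2201002401, []⟩]

theorem t9_20_19 : jobs 8 S9 b8_20 j9_20_19 = true := by decide +kernel

noncomputable def j9_20_20 : List Job := [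
  ⟨43, 0x43e1d0d8642e15098441e0d058240e0501, 0, 18, 0x2201002401, []⟩]

theorem t9_20_20 : jobs 8 S9 b8_20 j9_20_20 = true := by decide +kernel

noncomputable def j9_20_21 : List Job := [
  ⟨42, 0x6c966b45aae976bc5eec162b65bae172be5fc3e1d0d8642e15098441e0d058240e0501, 0, 18, 0x2201002401, []⟩]

theorem t9_20_21 : jobs 8 S9 b8_20 j9_20_21 = true := by decide +kernel

noncomputable def j9_20_22 : List Job := [
  ⟨41, 0x609068442a29168c46e01028643a21128e47c3e1d0d8642e15098441e0d058240e0501, 0, 36, 0x2201002401, []⟩]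

theorem t9_20_22 : jobs 8 S9 b8_20 j9_20_22 = true := by decide +kernel

noncomputable def j9_20_23 : List Job := [
  ⟨40, 0x6c966b45aae976bc5eec162b65bae172be5fc3e1d0d8642e15098441e0d058240e0501, 0, 16, 0x0, []⟩]

theorem t9_20_23 : jobs 8 S9 b8_20 j9_20_23 = true := by decide +kernel

noncomputable def j9_20_24 : List Job := [
  ⟨39, 0x609068442a21128e47e01028643a29168c46c3e1d0d8642e15098441e0d058240e0501, 0, 16, 0x0, []⟩]

theorem t9_20_24 : jobs 8 S9 b8_20 j9_20_24 = true := by decide +kernel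

noncomputable def j9_20_25 : List Job := [
  ⟨38, 0x6c966b45aae976bc5eec162b65bae172be5fc3e1d0d8642e15098441e0d058240e0501, 0, 18, 0x2401, []⟩]

theorem t9_20_25 : jobs 8 S9 b8_20 j9_20_25 = true := by decide +kernel

noncomputable def j9_20_26 : List Job := [
  ⟨37, 0x6c966b45aae976bc5eec162b65bae172be5fc3e1d0d8642e15098441e0d058240e0501, 0, 16, 0x0, []⟩]

theorem t9_20_26 : jobs 8 S9 b8_20 j9_20_26 = true := by decide +kernel

noncomputable def j9_20_27 : List Job := [
  ⟨36, 0x609068442a21128e47e01028643a29168c46c3e1d0d8642e15098441e0d058240e0501, 0, 16, 0x0, []⟩]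

theorem t9_20_27 : jobs 8 S9 b8_20 j9_20_27 = true := by decide +kernel

noncomputable def j9_20_28 : List Job := [
  ⟨35, 0x609068643a21128c46e01028442a29168e47c3e1d0d8642e15098441e0d058240e0501, 0, 16, 0x0, []⟩]

theorem t9_20_28 : jobs 8 S9 b8_20 j9_20_28 = true := by decide +kernel

noncomputable def j9_20_29 : List Job := [
  ⟨34, 0x609068643a29168e47e01028442a21128c46c3e1d0d8642e15098441e0d058240e0501, 0, 19, 0x2401002601, []⟩]

theorem t9_20_29 : jobs 8 S9 b8_20 j9_20_29 = true := by decide +kernel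

noncomputable def j9_20_30 : List Job := [
  ⟨33, 0x43e1d0d8642e15098441e0d058240e0501, 0, 16, 0x0, []⟩]

theorem t9_20_30 : jobs 8 S9 b8_20 j9_20_30 = true := by decide +kernel

noncomputable def j9_20_31 : List Job := [
  ⟨32, 0x43e1d0d8642e15098441e0d058240e0501, 0, 16, 0x0, []⟩]

theorem t9_20_31 : jobs 8 S9 b8_20 j9_20_31 = true := by decide +kernel

noncomputable def j9_20_32 : List Job := [
  ⟨31, 0x6d16ab65bae172ba5dec162b259af17abe5fe09068643a21128c46e01028442a29168e47c3e1d0d8642e15098441e0d058240e0501, 0, 24, 0x2201002a01, []⟩]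

theorem t9_20_32 : jobs 8 S9 b8_20 j9_20_32 = true := by decide +kernel

noncomputable def j9_20_33 : List Job := [
  ⟨30, 0x6c966b45aae976bc5eec162b65bae172be5fc3e1d0d8642e15098441e0d058240e0501, 0, 20, 0x2401002801, []⟩]

theorem t9_20_33 : jobs 8 S9 b8_20 j9_20_33 = true := by decide +kernel

noncomputable def j9_20_34 : List Job := [
  ⟨29, 0x609068442a29168c46e01028643a21128e47c3e1d0d8642e15098441e0d058240e0501, 0, 20, 0x2201002601, []⟩]

theorem t9_20_34 : jobs 8 S9 b8_20 j9_20_34 = true := by decide +kernel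

noncomputable def j9_20_35 : List Job := [
  ⟨28, 0x6c966b45aae976bc5eec162b65bae172be5fc3e1d0d8642e15098441e0d058240e0501, 0, 19, 0x2201002401002601, []⟩]

theorem t9_20_35 : jobs 8 S9 b8_20 j9_20_35 = true := by decide +kernel

noncomputable def j9_20_36 : List Job := [
  ⟨27, 0x43e1d0d8642e15098441e0d058240e0501, 0, 18, 0x2201002401, []⟩]

theorem t9_20_36 : jobs 8 S9 b8_20 j9_20_36 = true := by decide +kernel

noncomputable def j9_20_37 : List Job := [
  ⟨26, 0x43e1d0d8642e15098441e0d058240e0501, 0, 18, 0x2201002401, []⟩]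

theorem t9_20_37 : jobs 8 S9 b8_20 j9_20_37 = true := by decide +kernel

noncomputable def j9_20_38 : List Job := [
  ⟨25, 0x6c966b45aae976bc5eec162b65bae172be5fc3e1d0d8642e15098441e0d058240e0501, 0, 19, 0x2201002401002601, []⟩]

theorem t9_20_38 : jobs 8 S9 b8_20 j9_20_38 = true := by decide +kernel

noncomputable def j9_20_39 : List Job := [
  ⟨24, 0x43e1d0d8642e15098441e0d058240e0501, 0, 16, 0x0, []⟩]

theorem t9_20_39 : jobs 8 S9 b8_20 j9_20_39 = true := by decide +kernel

noncomputable def j9_20_40 : List Job := [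
  ⟨23, 0x6d16ab65bae172ba5dec162b259af17abe5fe09068643a29168e47e01028442a21128c46c3e1d0d8642e15098441e0d058240e0501, 0, 26, 0x2201002401002601002a01002e01003201, []⟩]

theorem t9_20_40 : jobs 8 S9 b8_20 j9_20_40 = true := by decide +kernel

noncomputable def j9_20_41 : List Job := [
  ⟨22, 0x43e1d0d8642e15098441e0d058240e0501, 0, 16, 0x0, []⟩]

theorem t9_20_41 : jobs 8 S9 b8_20 j9_20_41 = true := by decide +kernel

noncomputable def j9_20_42 : List Job := [
  ⟨21, 0x609068643a21128c46e01028442a29168e47c3e1d0d8642e15098441e0d058240e0501, 0, 18, 0x2201002401, []⟩]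

theorem t9_20_42 : jobs 8 S9 b8_20 j9_20_42 = true := by decide +kernel

noncomputable def j9_20_43 : List Job := [
  ⟨20, 0x609068643a29168e47e01028442a21128c46c3e1d0d8642e15098441e0d058240e0501, 0, 18, 0x2201002401, []⟩]

theorem t9_20_43 : jobs 8 S9 b8_20 j9_20_43 = true := by decide +kernel

noncomputable def j9_20_44 : List Job := [
  ⟨19, 0x43e1d0d8642e15098441e0d058240e0501, 0, 16, 0x0, []⟩]

theorem t9_20_44 : jobs 8 S9 b8_20 j9_20_44 = true := by decide +kernel

noncomputable def j9_20_45 : List Job := [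
  ⟨18, 0x43e1d0d8642e15098441e0d058240e0501, 0, 18, 0x2200002401, [(16, ⟨2290, 0x11a014700100004402020106008400410020001, 0x18b2608030020081410⟩)]⟩]

theorem t9_20_45 : jobs 8 S9 b8_20 j9_20_45 = true := by decide +kernel

noncomputable def j9_20_46 : List Job := [
  ⟨17, 0x544a6542b164b65c2f540a4552b960b45d2fd309a4e27d20924a25d108a4623d00824221c3e1d0d8642e15098441e0d058240e0501, 0, 42, 0x2219002418004c01004e01005001005201005401, []⟩]

theorem t9_20_46 : jobs 8 S9 b8_20 j9_20_46 = true := by decide +kernel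

noncomputable def j9_20_47 : List Job := [
  ⟨16, 0x544a6542b164b65c2f540a4552b960b45d2fd309a4e27d20924a25d108a4623d00824221c3e1d0d8642e15098441e0d058240e0501, 0, 26, 0x2200002401002601002a01002c1f002e01003200003401, [(24, ⟨2288, 0x22000400008800100000401060042000020000001, 0x1822008420020280410⟩), (16, ⟨2289, 0x22000400008800100000400060002000020000001, 0x1822008420020280410⟩)]⟩]

theorem t9_20_47 : jobs 8 S9 b8_20 j9_20_47 = true := by decide +kernel

noncomputable def j9_20_48 : List Job := [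
  ⟨15, 0x43e1d0d8642e15098441e0d058240e0501, 0, 16, 0x0, []⟩]

theorem t9_20_48 : jobs 8 S9 b8_20 j9_20_48 = true := by decide +kernel

noncomputable def j9_20_49 : List Job := [
  ⟨14, 0x43e1d0d8642e15098441e0d058240e0501, 0, 18, 0x2200002401, [(16, ⟨2287, 0x100004800108006000020006000400010000001, 0x180210a024020081410⟩)]⟩]

theorem t9_20_49 : jobs 8 S9 b8_20 j9_20_49 = true := by decide +kernel

noncomputable def j9_20_50 : List Job := [
  ⟨13, 0x544a6542b164b65c2f540a4552b960b45d2fd309a4e27d20924a25d108a4623d00824221c3e1d0d8642e15098441e0d058240e0501, 0, 26, 0x2200002401002601002a01002e0000300100320100340f, [(22, ⟨2285, 0x21800470008000150000400060002001020000001, 0x184260803a020280410⟩), (16, ⟨2286, 0x21800470008000150000400060002000020000001, 0x184260803a020280410⟩)]⟩]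

theorem t9_20_50 : jobs 8 S9 b8_20 j9_20_50 = true := by decide +kernel

noncomputable def j9_20_51 : List Job := [
  ⟨12, 0x43e1d0d8642e15098441e0d058240e0501, 0, 16, 0x0, []⟩]

theorem t9_20_51 : jobs 8 S9 b8_20 j9_20_51 = true := by decide +kernel

noncomputable def j9_20_52 : List Job := [
  ⟨11, 0x544a6542b164b65c2f540a4552b960b45d2fd309a4e27d20924a25d108a4623d00824221c3e1d0d8642e15098441e0d058240e0501, 0, 39, 0x2201002401002601002801002a01002e01003201003601003a01003c01003e01004000004401004801004c01, [(31, ⟨2284, 0x410004a000540007c00808000400214004080080001, 0x181210883c030200410⟩)]⟩]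

theorem t9_20_52 : jobs 8 S9 b8_20 j9_20_52 = true := by decide +kernel

noncomputable def j9_20_53 : List Job := [
  ⟨10, 0x43e1d0d8642e15098441e0d058240e0501, 0, 18, 0x2201002401, []⟩]

theorem t9_20_53 : jobs 8 S9 b8_20 j9_20_53 = true := by decide +kernel

noncomputable def j9_20_54 : List Job := [
  ⟨9, 0x43e1d0d8642e15098441e0d058240e0501, 0, 16, 0x0, []⟩]

theorem t9_20_54 : jobs 8 S9 b8_20 j9_20_54 = true := by decide +kernel

noncomputable def j9_20_55 : List Job := [
  ⟨8, 0x544a6542b164b65c2f540a4552b960b45d2fd309a4e27d20924a25d108a4623d00824221c3e1d0d8642e15098441e0d058240e0501, 0, 40, 0x4208004408004a01004c01004e01005001, []⟩]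

theorem t9_20_55 : jobs 8 S9 b8_20 j9_20_55 = true := by decide +kernel

noncomputable def j9_20_56 : List Job := [
  ⟨7, 0x544a6542b164b65c2f540a4552b960b45d2fd309a4e27d20924a25d108a4623d00824221c3e1d0d8642e15098441e0d058240e0501, 0, 28, 0x2201002401002601002801002a00002e01003401003801, [(20, ⟨2283, 0x2300147004a401180040400040042001020040001, 0x186268a824020200410⟩)]⟩]

theorem t9_20_56 : jobs 8 S9 b8_20 j9_20_56 = true := by decide +kernel

noncomputable def j9_20_57 : List Job := [
  ⟨6, 0x54ca8582fd48aa592f544ac5a2ed40ae5b2e43e1d0d8642e15098441e0d058240e0501, 0, 18, 0x2200002401, [(16, ⟨2282, 0x104004700900005c02020006008400410020001, 0x1852608038020081410⟩)]⟩]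

theorem t9_20_57 : jobs 8 S9 b8_20 j9_20_57 = true := by decide +kernel

noncomputable def j9_20_58 : List Job := [
  ⟨5, 0x5309a4e27d20924a25d108a4623d00824221c3e1d0d8642e15098441e0d058240e0501, 0, 20, 0x2201002601, []⟩]

theorem t9_20_58 : jobs 8 S9 b8_20 j9_20_58 = true := by decide +kernel

noncomputable def j9_20_59 : List Job := [
  ⟨4, 0x5309a4e27d20924a25d108a4623d00824221c3e1d0d8642e15098441e0d058240e0501, 0, 24, 0x2200002401002601002a12002c01002e13003001, [(16, ⟨2281, 0x2080141000b8011f0040400060002001020040001, 0x181240983c020280410⟩)]⟩]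

theorem t9_20_59 : jobs 8 S9 b8_20 j9_20_59 = true := by decide +kernel

noncomputable def j9_20_60 : List Job := [
  ⟨3, 0x54ca8582fd48aa592f544ac5a2ed40ae5b2e43e1d0d8642e15098441e0d058240e0501, 0, 19, 0x2201002401002601, []⟩]

theorem t9_20_60 : jobs 8 S9 b8_20 j9_20_60 = true := by decide +kernel

noncomputable def j9_20_61 : List Job := [
  ⟨2, 0x5309a4e27d20924a25d108a4623d00824221c3e1d0d8642e15098441e0d058240e0501, 0, 18, 0x2201002401, []⟩]

theorem t9_20_61 : jobs 8 S9 b8_20 j9_20_61 = true := by decide +kernel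

noncomputable def j9_20_62 : List Job := [
  ⟨1, 0x54ca8582fd48aa592f544ac5a2ed40ae5b2e43e1d0d8642e15098441e0d058240e0501, 0, 19, 0x2201002401002601, []⟩]

theorem t9_20_62 : jobs 8 S9 b8_20 j9_20_62 = true := by decide +kernel

noncomputable def j9_20_63 : List Job := [
  ⟨0, 0x54ca85b2e548aa5a2ed44ac592f540ae582fc3e1d0d8642e15098441e0d058240e0501, 0, 18, 0x2200002400, [(17, ⟨2278, 0x100004000968044002020006000400010000001, 0x180200ac20020081410⟩), (16, ⟨2279, 0x10c014700920045c02020006008400010020001, 0x1842608438020081410⟩)]⟩]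

theorem t9_20_63 : jobs 8 S9 b8_20 j9_20_63 = true := by decide +kernel

theorem d9_20 : Dn 8 S9 b8_20 := dn_of (Js := j9_20_0 ++ (j9_20_1 ++ (j9_20_2 ++ (j9_20_3 ++ (j9_20_4 ++ (j9_20_5 ++ (j9_20_6 ++ (j9_20_7 ++ (j9_20_8 ++ (j9_20_9 ++ (j9_20_10 ++ (j9_20_11 ++ (j9_20_12 ++ (j9_20_13 ++ (j9_20_14 ++ (j9_20_15 ++ (j9_20_16 ++ (j9_20_17 ++ (j9_20_18 ++ (j9_20_19 ++ (j9_20_20 ++ (j9_20_21 ++ (j9_20_22 ++ (j9_20_23 ++ (j9_20_24 ++ (j9_20_25 ++ (j9_20_26 ++ (j9_20_27 ++ (j9_20_28 ++ (j9_20_29 ++ (j9_20_30 ++ (j9_20_31 ++ (j9_20_32 ++ (j9_20_33 ++ (j9_20_34 ++ (j9_20_35 ++ (j9_20_36 ++ (j9_20_37 ++ (j9_20_38 ++ (j9_20_39 ++ (j9_20_40 ++ (j9_20_41 ++ (j9_20_42 ++ (j9_20_43 ++ (j9_20_44 ++ (j9_20_45 ++ (j9_20_46 ++ (j9_20_47 ++ (j9_20_48 ++ (j9_20_49 ++ (j9_20_50 ++ (j9_20_51 ++ (j9_20_52 ++ (j9_20_53 ++ (j9_20_54 ++ (j9_20_55 ++ (j9_20_56 ++ (j9_20_57 ++ (j9_20_58 ++ (j9_20_59 ++ (j9_20_60 ++ (j9_20_61 ++ (j9_20_62 ++ (j9_20_63 ++ []))))))))))))))))))))))))))))))))))))))))))))))))))))))))))))))))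
  (jobs_append t9_20_0 <| jobs_append t9_20_1 <| jobs_append t9_20_2 <| jobs_append t9_20_3 <| jobs_append t9_20_4 <| jobs_append t9_20_5 <| jobs_append t9_20_6 <| jobs_append t9_20_7 <| jobs_append t9_20_8 <| jobs_append t9_20_9 <| jobs_append t9_20_10 <| jobs_append t9_20_11 <| jobs_append t9_20_12 <| jobs_append t9_20_13 <| jobs_append t9_20_14 <| jobs_append t9_20_15 <| jobs_append t9_20_16 <| jobs_append t9_20_17 <| jobs_append t9_20_18 <| jobs_append t9_20_19 <| jobs_append t9_20_20 <| jobs_append t9_20_21 <| jobs_append t9_20_22 <| jobs_append t9_20_23 <| jobs_append t9_20_24 <| jobs_append t9_20_25 <| jobs_append t9_20_26 <| jobs_append t9_20_27 <| jobs_append t9_20_28 <| jobs_append t9_20_29 <| jobs_append t9_20_30 <| jobs_append t9_20_31 <| jobs_append t9_20_32 <| jobs_append t9_20_33 <| jobs_append t9_20_34 <| jobs_append t9_20_35 <| jobs_append t9_20_36 <| jobs_append t9_20_37 <| jobs_append t9_20_38 <| jobs_append t9_20_39 <| jobs_append t9_20_40 <| jobs_append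 t9_20_41 <| jobs_append t9_20_42 <| jobs_append t9_20_43 <| jobs_append t9_20_44 <| jobs_append t9_20_45 <| jobs_append t9_20_46 <| jobs_append t9_20_47 <| jobs_append t9_20_48 <| jobs_append t9_20_49 <| jobs_append t9_20_50 <| jobs_append t9_20_51 <| jobs_append t9_20_52 <| jobs_append t9_20_53 <| jobs_append t9_20_54 <| jobs_append t9_20_55 <| jobs_append t9_20_56 <| jobs_append t9_20_57 <| jobs_append t9_20_58 <| jobs_append t9_20_59 <| jobs_append t9_20_60 <| jobs_append t9_20_61 <| jobs_append t9_20_62 <| jobs_append t9_20_63 <| List.forall_mem_nil _) (by decide +kernel)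

end Cfsg.Agent.FS.N.Sw
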