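import Cfsg.Agent.FS.N.Sw.Seg
import Cfsg.Agent.FS.N.G.S9
import Cfsg.Agent.FS.N.G.L.L01

/-! The filter on the pairs for the order 512, part 2 (generated; helper52, project FS) -/

set_option autoImplicit false
set_option maxRecDepth 100000
set_option Elab.async false

namespace Cfsg.Agent.FS.N.Sw

open G

noncomputable def j9_21_0 : List Job := [
  ⟨63, 0x43e1d0d8642e15098441e0d058240e0501, 0, 16, 0x0, []⟩]

theorem t9_21_0 : jobs 8 S9 b8_21 j9_21_0 = true := by decide +kernel

noncomputable def j9_21_1 : List Job := [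
  ⟨62, 0x43e1d0d8642e15098441e0d058240e0501, 0, 16, 0x0, []⟩]

theorem t9_21_1 : jobs 8 S9 b8_21 j9_21_1 = true := by decide +kernel

noncomputable def j9_21_2 : List Job := [
  ⟨61, 0x5188e4c26d108a4e27d08864824d00824a25c3e1d0d8642e15098441e0d058240e0501, 0, 18, 0x2201002400, [(17, ⟨2295, 0x104004b00148004000020006000400008000001, 0x181258a820020280410⟩)]⟩]

theorem t9_21_2 : jobs 8 S9 b8_21 j9_21_2 = true := by decide +kernel

noncomputable def j9_21_3 : List Job := [
  ⟨60, 0x43e1d0d8642e15098441e0d058240e0501, 0, 18, 0x2201002401, []⟩]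

theorem t9_21_3 : jobs 8 S9 b8_21 j9_21_3 = true := by decide +kernel

noncomputable def j9_21_4 : List Job := [
  ⟨59, 0x43e1d0d8642e15098441e0d058240e0501, 0, 16, 0x0, []⟩]

theorem t9_21_4 : jobs 8 S9 b8_21 j9_21_4 = true := by decide +kernel

noncomputable def j9_21_5 : List Job := [
  ⟨58, 0x5188e4c26d108a4e27d08864824d00824a25c3e1d0d8642e15098441e0d058240e0501, 0, 20, 0x2201002401002601002801, []⟩]

theorem t9_21_5 : jobs 8 S9 b8_21 j9_21_5 = true := by decide +kernel

noncomputable def j9_21_6 : List Job := [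
  ⟨57, 0x43e1d0d8642e15098441e0d058240e0501, 0, 16, 0x0, []⟩]

theorem t9_21_6 : jobs 8 S9 b8_21 j9_21_6 = true := by decide +kernel

noncomputable def j9_21_7 : List Job := [
  ⟨56, 0x43e1d0d8642e15098441e0d058240e0501, 0, 16, 0x0, []⟩]

theorem t9_21_7 : jobs 8 S9 b8_21 j9_21_7 = true := by decide +kernel

noncomputable def j9_21_8 : List Job := [
  ⟨55, 0x5108a46239309a4e27d00824221920924a25c3e1d0d8642e15098441e0d058240e0501, 0, 16, 0x0, []⟩]

theorem t9_21_8 : jobs 8 S9 b8_21 j9_21_8 = true := by decide +kernel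

noncomputable def j9_21_9 : List Job := [
  ⟨54, 0x43e1d0d8642e15098441e0d058240e0501, 0, 16, 0x0, []⟩]

theorem t9_21_9 : jobs 8 S9 b8_21 j9_21_9 = true := by decide +kernel

noncomputable def j9_21_10 : List Job := [
  ⟨53, 0x43e1d0d8642e15098441e0d058240e0501, 0, 18, 0x2201002401, []⟩]

theorem t9_21_10 : jobs 8 S9 b8_21 j9_21_10 = true := by decide +kernel

noncomputable def j9_21_11 : List Job := [
  ⟨52, 0x43e1d0d8642e15098441e0d058240e0501, 0, 16, 0x0, []⟩]

theorem t9_21_11 : jobs 8 S9 b8_21 j9_21_11 = true := by decide +kernel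

noncomputable def j9_21_12 : List Job := [
  ⟨51, 0x5108a46239309a4e27d00824221920924a25c3e1d0d8642e15098441e0d058240e0501, 0, 16, 0x0, []⟩]

theorem t9_21_12 : jobs 8 S9 b8_21 j9_21_12 = true := by decide +kernel

noncomputable def j9_21_13 : List Job := [
  ⟨50, 0x6c564b45bae574bc5fec166b55b2e176bd5f43e1d0d8642e15098441e0d058240e0501, 0, 40, 0x2201002401002801002c01004e01005001, []⟩]

theorem t9_21_13 : jobs 8 S9 b8_21 j9_21_13 = true := by decide +kernel

noncomputable def j9_21_14 : List Job := [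
  ⟨49, 0x5108a46239309a4e27d00824221920924a25c3e1d0d8642e15098441e0d058240e0501, 0, 36, 0x2201002401, []⟩]

theorem t9_21_14 : jobs 8 S9 b8_21 j9_21_14 = true := by decide +kernel

noncomputable def j9_21_15 : List Job := [
  ⟨48, 0x544a6542b164b65c2f540a4552b960b45d2fc3e1d0d8642e15098441e0d058240e0501, 0, 36, 0x4201004601, []⟩]

theorem t9_21_15 : jobs 8 S9 b8_21 j9_21_15 = true := by decide +kernel

noncomputable def j9_21_16 : List Job := [
  ⟨47, 0x6c966b65bae172bc5eec162b45aae976be5fc3e1d0d8642e15098441e0d058240e0501, 0, 36, 0x4201004801, []⟩]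

theorem t9_21_16 : jobs 8 S9 b8_21 j9_21_16 = true := by decide +kernel

noncomputable def j9_21_17 : List Job := [
  ⟨46, 0x43e1d0d8642e15098441e0d058240e0501, 0, 36, 0x4201004401004601004801, []⟩]

theorem t9_21_17 : jobs 8 S9 b8_21 j9_21_17 = true := by decide +kernel

noncomputable def j9_21_18 : List Job := [
  ⟨45, 0x6c966b45aae172be5fec162b65bae976bc5ed44a6542b164b65c2f540a4552b960b45d2fc3e1d0d8642e15098441e0d058240e0501, 0, 44, 0x4201004a01004c01004e01005001005201005401005601005801, []⟩]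

theorem t9_21_18 : jobs 8 S9 b8_21 j9_21_18 = true := by decide +kernel

noncomputable def j9_21_19 : List Job := [
  ⟨44, 0x544a4552b164b45d2f540a6542b960b65c2fc3e1d0d8642e15098441e0d058240e0501, 0, 36, 0x4401004801, []⟩]

theorem t9_21_19 : jobs 8 S9 b8_21 j9_21_19 = true := by decide +kernel

noncomputable def j9_21_20 : List Job := [
  ⟨43, 0x6d16ab65baf17abe5fec162b259ae172ba5dc3e1d0d8642e15098441e0d058240e0501, 0, 36, 0x4401004801, []⟩]

theorem t9_21_20 : jobs 8 S9 b8_21 j9_21_20 = true := by decide +kernel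

noncomputable def j9_21_21 : List Job := [
  ⟨42, 0x43e1d0d8642e15098441e0d058240e0501, 0, 36, 0x4201004401004601004801, []⟩]

theorem t9_21_21 : jobs 8 S9 b8_21 j9_21_21 = true := by decide +kernel

noncomputable def j9_21_22 : List Job := [
  ⟨41, 0x43e1d0d8642e15098441e0d058240e0501, 0, 16, 0x0, []⟩]

theorem t9_21_22 : jobs 8 S9 b8_21 j9_21_22 = true := by decide +kernel

noncomputable def j9_21_23 : List Job := [
  ⟨40, 0x621128a45a311a8e47e01028241a110a8643c3e1d0d8642e15098441e0d058240e0501, 0, 16, 0x0, []⟩]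

theorem t9_21_23 : jobs 8 S9 b8_21 j9_21_23 = true := by decide +kernel

noncomputable def j9_21_24 : List Job := [
  ⟨39, 0x54ca8582fd48aa592f544ac5a2ed40ae5b2e43e1d0d8642e15098441e0d058240e0501, 0, 18, 0x2401, []⟩]

theorem t9_21_24 : jobs 8 S9 b8_21 j9_21_24 = true := by decide +kernel

noncomputable def j9_21_25 : List Job := [
  ⟨38, 0x43e1d0d8642e15098441e0d058240e0501, 0, 18, 0x2201002401, []⟩]

theorem t9_21_25 : jobs 8 S9 b8_21 j9_21_25 = true := by decide +kernel

noncomputable def j9_21_26 : List Job := [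
  ⟨37, 0x544a4552b164b45d2f540a6542b960b65c2fc3e1d0d8642e15098441e0d058240e0501, 0, 16, 0x0, []⟩]

theorem t9_21_26 : jobs 8 S9 b8_21 j9_21_26 = true := by decide +kernel

noncomputable def j9_21_27 : List Job := [
  ⟨36, 0x621128a45a311a8e47e01028241a110a8643d44a6542b164b65c2f540a4552b960b45d2fc3e1d0d8642e15098441e0d058240e0501, 0, 20, 0x2401002801, []⟩]

theorem t9_21_27 : jobs 8 S9 b8_21 j9_21_27 = true := by decide +kernel

noncomputable def j9_21_28 : List Job := [
  ⟨35, 0x43e1d0d8642e15098441e0d058240e0501, 0, 16, 0x0, []⟩]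

theorem t9_21_28 : jobs 8 S9 b8_21 j9_21_28 = true := by decide +kernel

noncomputable def j9_21_29 : List Job := [
  ⟨34, 0x621128a45a311a8e47e01028241a110a8643c3e1d0d8642e15098441e0d058240e0501, 0, 20, 0x2201002601, []⟩]

theorem t9_21_29 : jobs 8 S9 b8_21 j9_21_29 = true := by decide +kernel

noncomputable def j9_21_30 : List Job := [
  ⟨33, 0x544a4552b164b45d2f540a6542b960b65c2fc3e1d0d8642e15098441e0d058240e0501, 0, 16, 0x0, []⟩]

theorem t9_21_30 : jobs 8 S9 b8_21 j9_21_30 = true := by decide +kernel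

noncomputable def j9_21_31 : List Job := [
  ⟨32, 0x621128a45a311a8e47e01028241a110a8643d44a6542b164b65c2f540a4552b960b45d2fc3e1d0d8642e15098441e0d058240e0501, 0, 20, 0x2201002601, []⟩]

theorem t9_21_31 : jobs 8 S9 b8_21 j9_21_31 = true := by decide +kernel

noncomputable def j9_21_32 : List Job := [
  ⟨31, 0x544a4552b164b45d2f540a6542b960b65c2fc3e1d0d8642e15098441e0d058240e0501, 0, 19, 0x2201002401002601, []⟩]

theorem t9_21_32 : jobs 8 S9 b8_21 j9_21_32 = true := by decide +kernel

noncomputable def j9_21_33 : List Job := [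
  ⟨30, 0x621128a45a311a8e47e01028241a110a8643d44a6542b164b65c2f540a4552b960b45d2fc3e1d0d8642e15098441e0d058240e0501, 0, 36, 0x4401, []⟩]

theorem t9_21_33 : jobs 8 S9 b8_21 j9_21_33 = true := by decide +kernel

noncomputable def j9_21_34 : List Job := [
  ⟨29, 0x43e1d0d8642e15098441e0d058240e0501, 0, 16, 0x0, []⟩]

theorem t9_21_34 : jobs 8 S9 b8_21 j9_21_34 = true := by decide +kernel

noncomputable def j9_21_35 : List Job := [
  ⟨28, 0x621128a45a311a8e47e01028241a110a8643c3e1d0d8642e15098441e0d058240e0501, 0, 16, 0x0, []⟩]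

theorem t9_21_35 : jobs 8 S9 b8_21 j9_21_35 = true := by decide +kernel

noncomputable def j9_21_36 : List Job := [
  ⟨27, 0x629168c46e21128e47e09068442e01028643c3e1d0d8642e15098441e0d058240e0501, 0, 19, 0x201002401002601, []⟩]

theorem t9_21_36 : jobs 8 S9 b8_21 j9_21_36 = true := by decide +kernel

noncomputable def j9_21_37 : List Job := [
  ⟨26, 0x544a4552b164b45d2f540a6542b960b65c2fc3e1d0d8642e15098441e0d058240e0501, 0, 36, 0x4401004801, []⟩]

theorem t9_21_37 : jobs 8 S9 b8_21 j9_21_37 = true := by decide +kernel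

noncomputable def j9_21_38 : List Job := [
  ⟨25, 0x621128a45a311a8e47e01028241a110a8643d44a6542b164b65c2f540a4552b960b45d2fc3e1d0d8642e15098441e0d058240e0501, 0, 20, 0x2201002601, []⟩]

theorem t9_21_38 : jobs 8 S9 b8_21 j9_21_38 = true := by decide +kernel

noncomputable def j9_21_39 : List Job := [
  ⟨24, 0x43e1d0d8642e15098441e0d058240e0501, 0, 16, 0x0, []⟩]

theorem t9_21_39 : jobs 8 S9 b8_21 j9_21_39 = true := by decide +kernel

noncomputable def j9_21_40 : List Job := [
  ⟨23, 0x621128a45a311a8e47e01028241a110a8643c3e1d0d8642e15098441e0d058240e0501, 0, 16, 0x0, []⟩]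

theorem t9_21_40 : jobs 8 S9 b8_21 j9_21_40 = true := by decide +kernel

noncomputable def j9_21_41 : List Job := [
  ⟨22, 0x43e1d0d8642e15098441e0d058240e0501, 0, 16, 0x0, []⟩]

theorem t9_21_41 : jobs 8 S9 b8_21 j9_21_41 = true := by decide +kernel

noncomputable def j9_21_42 : List Job := [
  ⟨21, 0x43e1d0d8642e15098441e0d058240e0501, 0, 16, 0x0, []⟩]

theorem t9_21_42 : jobs 8 S9 b8_21 j9_21_42 = true := by decide +kernel

noncomputable def j9_21_43 : List Job := [
  ⟨20, 0x6c564b55b2e574bd5f6c166b45bae176bc5fd108a46239309a4e27d00824221920924a25c3e1d0d8642e15098441e0d058240e0501, 0, 20, 0x2201002601, []⟩]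

theorem t9_21_43 : jobs 8 S9 b8_21 j9_21_43 = true := by decide +kernel

noncomputable def j9_21_44 : List Job := [
  ⟨19, 0x5108a46239309a4e27d00824221920924a25c3e1d0d8642e15098441e0d058240e0501, 0, 20, 0x2201002601, []⟩]

theorem t9_21_44 : jobs 8 S9 b8_21 j9_21_44 = true := by decide +kernel

noncomputable def j9_21_45 : List Job := [
  ⟨18, 0x6d16ab65baf17abe5fec162b259ae172ba5dc3e1d0d8642e15098441e0d058240e0501, 0, 16, 0x0, []⟩]

theorem t9_21_45 : jobs 8 S9 b8_21 j9_21_45 = true := by decide +kernel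

noncomputable def j9_21_46 : List Job := [
  ⟨17, 0x43e1d0d8642e15098441e0d058240e0501, 0, 16, 0x0, []⟩]

theorem t9_21_46 : jobs 8 S9 b8_21 j9_21_46 = true := by decide +kernel

noncomputable def j9_21_47 : List Job := [
  ⟨16, 0x5188e4c26d108a4e27d08864824d00824a25c3e1d0d8642e15098441e0d058240e0501, 0, 19, 0x2201002401002601, []⟩]

theorem t9_21_47 : jobs 8 S9 b8_21 j9_21_47 = true := by decide +kernel

noncomputable def j9_21_48 : List Job := [
  ⟨15, 0x43e1d0d8642e15098441e0d058240e0501, 0, 16, 0x0, []⟩]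

theorem t9_21_48 : jobs 8 S9 b8_21 j9_21_48 = true := by decide +kernel

noncomputable def j9_21_49 : List Job := [
  ⟨14, 0x6c966b45aae172be5fec162b65bae976bc5ec3e1d0d8642e15098441e0d058240e0501, 0, 18, 0x2201, []⟩]

theorem t9_21_49 : jobs 8 S9 b8_21 j9_21_49 = true := by decide +kernel

noncomputable def j9_21_50 : List Job := [
  ⟨13, 0x5188e4e27d108a4c26d08864a25d00824824c3e1d0d8642e15098441e0d058240e0501, 0, 20, 0x2201002401002600002801, [(18, ⟨2291, 0x102014e00908046800020004000500408000001, 0x188230a024030200410⟩)]⟩]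

theorem t9_21_50 : jobs 8 S9 b8_21 j9_21_50 = true := by decide +kernel

noncomputable def j9_21_51 : List Job := [
  ⟨12, 0x6d16ab65baf17abe5fec162b259ae172ba5dc3e1d0d8642e15098441e0d058240e0501, 0, 16, 0x0, []⟩]

theorem t9_21_51 : jobs 8 S9 b8_21 j9_21_51 = true := by decide +kernel

noncomputable def j9_21_52 : List Job := [
  ⟨11, 0x43e1d0d8642e15098441e0d058240e0501, 0, 16, 0x0, []⟩]

theorem t9_21_52 : jobs 8 S9 b8_21 j9_21_52 = true := by decide +kernel

noncomputable def j9_21_53 : List Job := [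
  ⟨10, 0x5108a46239309a4e27d00824221920924a25c3e1d0d8642e15098441e0d058240e0501, 0, 16, 0x0, []⟩]

theorem t9_21_53 : jobs 8 S9 b8_21 j9_21_53 = true := by decide +kernel

noncomputable def j9_21_54 : List Job := [
  ⟨9, 0x6c564b45bae574bc5fec166b55b2e176bd5f43e1d0d8642e15098441e0d058240e0501, 0, 19, 0x2201002401002601, []⟩]

theorem t9_21_54 : jobs 8 S9 b8_21 j9_21_54 = true := by decide +kernel

noncomputable def j9_21_55 : List Job := [
  ⟨8, 0x6c564b45bae574bc5fec166b55b2e176bd5f5108a46239309a4e27d00824221920924a25c3e1d0d8642e15098441e0d058240e0501, 0, 19, 0x2401002601, []⟩]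

theorem t9_21_55 : jobs 8 S9 b8_21 j9_21_55 = true := by decide +kernel

noncomputable def j9_21_56 : List Job := [
  ⟨7, 0x43e1d0d8642e15098441e0d058240e0501, 0, 16, 0x0, []⟩]

theorem t9_21_56 : jobs 8 S9 b8_21 j9_21_56 = true := by decide +kernel

noncomputable def j9_21_57 : List Job := [
  ⟨6, 0x6c966b45aae172be5fec162b65bae976bc5ec3e1d0d8642e15098441e0d058240e0501, 0, 18, 0x2201002401, []⟩]

theorem t9_21_57 : jobs 8 S9 b8_21 j9_21_57 = true := by decide +kernel

noncomputable def j9_21_58 : List Job := [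
  ⟨5, 0x5108a46239309a4e27d00824221920924a25c3e1d0d8642e15098441e0d058240e0501, 0, 16, 0x0, []⟩]

theorem t9_21_58 : jobs 8 S9 b8_21 j9_21_58 = true := by decide +kernel

noncomputable def j9_21_59 : List Job := [
  ⟨4, 0x6c566b45b2e174bd5fec164b55bae576bc5f43e1d0d8642e15098441e0d058240e0501, 0, 16, 0x0, []⟩]

theorem t9_21_59 : jobs 8 S9 b8_21 j9_21_59 = true := by decide +kernel

noncomputable def j9_21_60 : List Job := [
  ⟨3, 0x6c564b55b2e176bc5fec166b45bae574bd5f5108a46239309a4e27d00824221920924a25c3e1d0d8642e15098441e0d058240e0501, 0, 36, 0x4401, []⟩]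

theorem t9_21_60 : jobs 8 S9 b8_21 j9_21_60 = true := by decide +kernel

noncomputable def j9_21_61 : List Job := [
  ⟨2, 0x43e1d0d8642e15098441e0d058240e0501, 0, 36, 0x4201004401004601004801, []⟩]

theorem t9_21_61 : jobs 8 S9 b8_21 j9_21_61 = true := by decide +kernel

noncomputable def j9_21_62 : List Job := [
  ⟨1, 0x5108a46239309a4e27d00824221920924a25c3e1d0d8642e15098441e0d058240e0501, 0, 41, 0x4201004401004a01004c01004e01005001005201, []⟩]

theorem t9_21_62 : jobs 8 S9 b8_21 j9_21_62 = true := by decide +kernel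

noncomputable def j9_21_63 : List Job := [
  ⟨0, 0x43e1d0d8642e15098441e0d058240e0501, 0, 36, 0x4201004401004601004801, []⟩]

theorem t9_21_63 : jobs 8 S9 b8_21 j9_21_63 = true := by decide +kernel

theorem d9_21 : Dn 8 S9 b8_21 := dn_of (Js := j9_21_0 ++ (j9_21_1 ++ (j9_21_2 ++ (j9_21_3 ++ (j9_21_4 ++ (j9_21_5 ++ (j9_21_6 ++ (j9_21_7 ++ (j9_21_8 ++ (j9_21_9 ++ (j9_21_10 ++ (j9_21_11 ++ (j9_21_12 ++ (j9_21_13 ++ (j9_21_14 ++ (j9_21_15 ++ (j9_21_16 ++ (j9_21_17 ++ (j9_21_18 ++ (j9_21_19 ++ (j9_21_20 ++ (j9_21_21 ++ (j9_21_22 ++ (j9_21_23 ++ (j9_21_24 ++ (j9_21_25 ++ (j9_21_26 ++ (j9_21_27 ++ (j9_21_28 ++ (j9_21_29 ++ (j9_21_30 ++ (j9_21_31 ++ (j9_21_32 ++ (j9_21_33 ++ (j9_21_34 ++ (j9_21_35 ++ (j9_21_36 ++ (j9_21_37 ++ (j9_21_38 ++ (j9_21_39 ++ (j9_21_40 ++ (j9_21_41 ++ (j9_21_42 ++ (j9_21_43 ++ (j9_21_44 ++ (j9_21_45 ++ (j9_21_46 ++ (j9_21_47 ++ (j9_21_48 ++ (j9_21_49 ++ (j9_21_50 ++ (j9_21_51 ++ (j9_21_52 ++ (j9_21_53 ++ (j9_21_54 ++ (j9_21_55 ++ (j9_21_56 ++ (j9_21_57 ++ (j9_21_58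 ++ (j9_21_59 ++ (j9_21_60 ++ (j9_21_61 ++ (j9_21_62 ++ (j9_21_63 ++ []))))))))))))))))))))))))))))))))))))))))))))))))))))))))))))))))
  (jobs_append t9_21_0 <| jobs_append t9_21_1 <| jobs_append t9_21_2 <| jobs_append t9_21_3 <| jobs_append t9_21_4 <| jobs_append t9_21_5 <| jobs_append t9_21_6 <| jobs_append t9_21_7 <| jobs_append t9_21_8 <| jobs_append t9_21_9 <| jobs_append t9_21_10 <| jobs_append t9_21_11 <| jobs_append t9_21_12 <| jobs_append t9_21_13 <| jobs_append t9_21_14 <| jobs_append t9_21_15 <| jobs_append t9_21_16 <| jobs_append t9_21_17 <| jobs_append t9_21_18 <| jobs_append t9_21_19 <| jobs_append t9_21_20 <| jobs_append t9_21_21 <| jobs_append t9_21_22 <| jobs_append t9_21_23 <| jobs_append t9_21_24 <| jobs_append t9_21_25 <| jobs_append t9_21_26 <| jobs_append t9_21_27 <| jobs_append t9_21_28 <| jobs_append t9_21_29 <| jobs_append t9_21_30 <| jobs_append t9_21_31 <| jobs_append t9_21_32 <| jobs_append t9_21_33 <| jobs_append t9_21_34 <| jobs_append t9_21_35 <|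 jobs_append t9_21_36 <| jobs_append t9_21_37 <| jobs_append t9_21_38 <| jobs_append t9_21_39 <| jobs_append t9_21_40 <| jobs_append t9_21_41 <| jobs_append t9_21_42 <| jobs_append t9_21_43 <| jobs_append t9_21_44 <| jobs_append t9_21_45 <| jobs_append t9_21_46 <| jobs_append t9_21_47 <| jobs_append t9_21_48 <| jobs_append t9_21_49 <| jobs_append t9_21_50 <| jobs_append t9_21_51 <| jobs_append t9_21_52 <| jobs_append t9_21_53 <| jobs_append t9_21_54 <| jobs_append t9_21_55 <| jobs_append t9_21_56 <| jobs_append t9_21_57 <| jobs_append t9_21_58 <| jobs_append t9_21_59 <| jobs_append t9_21_60 <| jobs_append t9_21_61 <| jobs_append t9_21_62 <| jobs_append t9_21_63 <| List.forall_mem_nil _) (by decide +kernel)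

noncomputable def j9_22_0 : List Job := [
  ⟨63, 0x621128a45a311a8e47e01028241a110a8643c3e1d0d8642e15098441e0d058240e0501, 0, 18, 0x2201002401, []⟩]

theorem t9_22_0 : jobs 8 S9 b8_22 j9_22_0 = true := by decide +kernel

noncomputable def j9_22_1 : List Job := [
  ⟨62, 0x43e1d0d8642e15098441e0d058240e0501, 0, 16, 0x0, []⟩]

theorem t9_22_1 : jobs 8 S9 b8_22 j9_22_1 = true := by decide +kernel

noncomputable def j9_22_2 : List Job := [
  ⟨61, 0x43e1d0d8642e15098441e0d058240e0501, 0, 16, 0x0, []⟩]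

theorem t9_22_2 : jobs 8 S9 b8_22 j9_22_2 = true := by decide +kernel

noncomputable def j9_22_3 : List Job := [
  ⟨60, 0x6d16ab65baf17abe5fec162b259ae172ba5dc3e1d0d8642e15098441e0d058240e0501, 0, 20, 0x2401002801, []⟩]

theorem t9_22_3 : jobs 8 S9 b8_22 j9_22_3 = true := by decide +kernel

noncomputable def j9_22_4 : List Job := [
  ⟨59, 0x43e1d0d8642e15098441e0d058240e0501, 0, 16, 0x0, []⟩]

theorem t9_22_4 : jobs 8 S9 b8_22 j9_22_4 = true := by decide +kernel

noncomputable def j9_22_5 : List Job := [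
  ⟨58, 0x43e1d0d8642e15098441e0d058240e0501, 0, 16, 0x0, []⟩]

theorem t9_22_5 : jobs 8 S9 b8_22 j9_22_5 = true := by decide +kernel

noncomputable def j9_22_6 : List Job := [
  ⟨57, 0x43e1d0d8642e15098441e0d058240e0501, 0, 16, 0x0, []⟩]

theorem t9_22_6 : jobs 8 S9 b8_22 j9_22_6 = true := by decide +kernel

noncomputable def j9_22_7 : List Job := [
  ⟨56, 0x43e1d0d8642e15098441e0d058240e0501, 0, 36, 0x4201004401004601004801, []⟩]

theorem t9_22_7 : jobs 8 S9 b8_22 j9_22_7 = true := by decide +kernel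

noncomputable def j9_22_8 : List Job := [
  ⟨55, 0x43e1d0d8642e15098441e0d058240e0501, 0, 16, 0x0, []⟩]

theorem t9_22_8 : jobs 8 S9 b8_22 j9_22_8 = true := by decide +kernel

noncomputable def j9_22_9 : List Job := [
  ⟨54, 0x5c4e6753b9e0f47c3f5c0e4743b1e4f67d3fc3e1d0d8642e15098441e0d058240e0501, 0, 16, 0x0, []⟩]

theorem t9_22_9 : jobs 8 S9 b8_22 j9_22_9 = true := by decide +kernel

noncomputable def j9_22_10 : List Job := [
  ⟨53, 0x43e1d0d8642e15098441e0d058240e0501, 0, 16, 0x0, []⟩]

theorem t9_22_10 : jobs 8 S9 b8_22 j9_22_10 = true := by decide +kernel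

noncomputable def j9_22_11 : List Job := [
  ⟨52, 0x43e1d0d8642e15098441e0d058240e0501, 0, 16, 0x0, []⟩]

theorem t9_22_11 : jobs 8 S9 b8_22 j9_22_11 = true := by decide +kernel

noncomputable def j9_22_12 : List Job := [
  ⟨51, 0x43e1d0d8642e15098441e0d058240e0501, 0, 16, 0x0, []⟩]

theorem t9_22_12 : jobs 8 S9 b8_22 j9_22_12 = true := by decide +kernel

noncomputable def j9_22_13 : List Job := [
  ⟨50, 0x6c564b45bae574bc5fec166b55b2e176bd5f43e1d0d8642e15098441e0d058240e0501, 0, 18, 0x2201002401, []⟩]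

theorem t9_22_13 : jobs 8 S9 b8_22 j9_22_13 = true := by decide +kernel

noncomputable def j9_22_14 : List Job := [
  ⟨49, 0x609068442a29168c46e01028643a21128e47c3e1d0d8642e15098441e0d058240e0501, 0, 36, 0x4201004401, []⟩]

theorem t9_22_14 : jobs 8 S9 b8_22 j9_22_14 = true := by decide +kernel

noncomputable def j9_22_15 : List Job := [
  ⟨48, 0x6c564b45bae574bc5fec166b55b2e176bd5f5c4e6753b9e0f47c3f5c0e4743b1e4f67d3fc3e1d0d8642e15098441e0d058240e0501, 0, 18, 0x2201002401, []⟩]

theorem t9_22_15 : jobs 8 S9 b8_22 j9_22_15 = true := by decide +kernel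

noncomputable def j9_22_16 : List Job := [
  ⟨47, 0x6c564b45bae574bc5fec166b55b2e176bd5f43e1d0d8642e15098441e0d058240e0501, 0, 20, 0x2201002601, []⟩]

theorem t9_22_16 : jobs 8 S9 b8_22 j9_22_16 = true := by decide +kernel

noncomputable def j9_22_17 : List Job := [
  ⟨46, 0x609068442a21128e47e01028643a29168c46c3e1d0d8642e15098441e0d058240e0501, 0, 20, 0x2201002601, []⟩]

theorem t9_22_17 : jobs 8 S9 b8_22 j9_22_17 = true := by decide +kernel

noncomputable def j9_22_18 : List Job := [
  ⟨45, 0x5e0f27a3d9f0fa7e3fdc0e272399d0ea763bc3e1d0d8642e15098441e0d058240e0501, 0, 16, 0x0, []⟩]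

theorem t9_22_18 : jobs 8 S9 b8_22 j9_22_18 = true := by decide +kernel

noncomputable def j9_22_19 : List Job := [
  ⟨44, 0x43e1d0d8642e15098441e0d058240e0501, 0, 16, 0x0, []⟩]

theorem t9_22_19 : jobs 8 S9 b8_22 j9_22_19 = true := by decide +kernel

noncomputable def j9_22_20 : List Job := [
  ⟨43, 0x43e1d0d8642e15098441e0d058240e0501, 0, 16, 0x0, []⟩]

theorem t9_22_20 : jobs 8 S9 b8_22 j9_22_20 = true := by decide +kernel

noncomputable def j9_22_21 : List Job := [
  ⟨42, 0x43e1d0d8642e15098441e0d058240e0501, 0, 18, 0x2201002400, [(17, ⟨2307, 0x100004000140005000020006008400010000001, 0x1802008822020081410⟩)]⟩]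

theorem t9_22_21 : jobs 8 S9 b8_22 j9_22_21 = true := by decide +kernel

noncomputable def j9_22_22 : List Job := [
  ⟨41, 0x588c664329a8d66c36d80c266339a0d26e37c3e1d0d8642e15098441e0d058240e0501, 0, 18, 0x2201, []⟩]

theorem t9_22_22 : jobs 8 S9 b8_22 j9_22_22 = true := by decide +kernel

noncomputable def j9_22_23 : List Job := [
  ⟨40, 0x588c664329a0d26e37d80c266339a8d66c36c3e1d0d8642e15098441e0d058240e0501, 0, 24, 0x2201002417002617002801002a01002c01002e00003001, [(22, ⟨2305, 0x2000040000a000140000400060042000040000001, 0x1802008822020081410⟩)]⟩]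

theorem t9_22_23 : jobs 8 S9 b8_22 j9_22_23 = true := by decide +kernel

noncomputable def j9_22_24 : List Job := [
  ⟨39, 0x544a6542b160b45d2fd40a4552b964b65c2f520924a259309a4e27d008242219108a4623c3e1d0d8642e15098441e0d058240e0501, 0, 18, 0x2201002400, [(17, ⟨2304, 0x100004000140004800020006008400008000001, 0x1802008822020280410⟩)]⟩]

theorem t9_22_24 : jobs 8 S9 b8_22 j9_22_24 = true := by decide +kernel

noncomputable def j9_22_25 : List Job := [
  ⟨38, 0x588c664329a8d66c36d80c266339a0d26e37c3e1d0d8642e15098441e0d058240e0501, 0, 20, 0x2201002401002601002801, []⟩]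

theorem t9_22_25 : jobs 8 S9 b8_22 j9_22_25 = true := by decide +kernel

noncomputable def j9_22_26 : List Job := [
  ⟨37, 0x544a6542b160b45d2fd40a4552b964b65c2f520924a259309a4e27d008242219108a4623c3e1d0d8642e15098441e0d058240e0501, 0, 18, 0x2201002401, []⟩]

theorem t9_22_26 : jobs 8 S9 b8_22 j9_22_26 = true := by decide +kernel

noncomputable def j9_22_27 : List Job := [
  ⟨36, 0x43e1d0d8642e15098441e0d058240e0501, 0, 16, 0x0, []⟩]

theorem t9_22_27 : jobs 8 S9 b8_22 j9_22_27 = true := by decide +kernel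

noncomputable def j9_22_28 : List Job := [
  ⟨35, 0x5e0f27a3d9f0fa7e3fdc0e272399d0ea763bc3e1d0d8642e15098441e0d058240e0501, 0, 20, 0x2201002601, []⟩]

theorem t9_22_28 : jobs 8 S9 b8_22 j9_22_28 = true := by decide +kernel

noncomputable def j9_22_29 : List Job := [
  ⟨34, 0x6d16ab65baf17abe5fec162b259ae172ba5dc3e1d0d8642e15098441e0d058240e0501, 0, 16, 0x0, []⟩]

theorem t9_22_29 : jobs 8 S9 b8_22 j9_22_29 = true := by decide +kernel

noncomputable def j9_22_30 : List Job := [
  ⟨33, 0x43e1d0d8642e15098441e0d058240e0501, 0, 16, 0x0, []⟩]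

theorem t9_22_30 : jobs 8 S9 b8_22 j9_22_30 = true := by decide +kernel

noncomputable def j9_22_31 : List Job := [
  ⟨32, 0x5c4e4753b1e4f47d3f5c0e6743b9e0f67c3fc3e1d0d8642e15098441e0d058240e0501, 0, 20, 0x2201002601, []⟩]

theorem t9_22_31 : jobs 8 S9 b8_22 j9_22_31 = true := by decide +kernel

noncomputable def j9_22_32 : List Job := [
  ⟨31, 0x43e1d0d8642e15098441e0d058240e0501, 0, 16, 0x0, []⟩]

theorem t9_22_32 : jobs 8 S9 b8_22 j9_22_32 = true := by decide +kernel

noncomputable def j9_22_33 : List Job := [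
  ⟨30, 0x6c564b45bae176bd5f6c166b55b2e574bc5fc3e1d0d8642e15098441e0d058240e0501, 0, 18, 0x2201002401, []⟩]

theorem t9_22_33 : jobs 8 S9 b8_22 j9_22_33 = true := by decide +kernel

noncomputable def j9_22_34 : List Job := [
  ⟨29, 0x43e1d0d8642e15098441e0d058240e0501, 0, 18, 0x2201002401, []⟩]

theorem t9_22_34 : jobs 8 S9 b8_22 j9_22_34 = true := by decide +kernel

noncomputable def j9_22_35 : List Job := [
  ⟨28, 0x5c4e4743b9e0f67d3f5c0e6753b1e4f47c3fc3e1d0d8642e15098441e0d058240e0501, 0, 16, 0x0, []⟩]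

theorem t9_22_35 : jobs 8 S9 b8_22 j9_22_35 = true := by decide +kernel

noncomputable def j9_22_36 : List Job := [
  ⟨27, 0x621128a45a311a8e47e01028241a110a8643dc4e4743b9e0f67d3f5c0e6753b1e4f47c3fc3e1d0d8642e15098441e0d058240e0501, 0, 20, 0x2201002601, []⟩]

theorem t9_22_36 : jobs 8 S9 b8_22 j9_22_36 = true := by decide +kernel

noncomputable def j9_22_37 : List Job := [
  ⟨26, 0x5e0f27a3d9f0fa7e3fdc0e272399d0ea763bc3e1d0d8642e15098441e0d058240e0501, 0, 18, 0x2201002401, []⟩]

theorem t9_22_37 : jobs 8 S9 b8_22 j9_22_37 = true := by decide +kernel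

noncomputable def j9_22_38 : List Job := [
  ⟨25, 0x43e1d0d8642e15098441e0d058240e0501, 0, 16, 0x0, []⟩]

theorem t9_22_38 : jobs 8 S9 b8_22 j9_22_38 = true := by decide +kernel

noncomputable def j9_22_39 : List Job := [
  ⟨24, 0x621128a45a311a8e47e01028241a110a8643c3e1d0d8642e15098441e0d058240e0501, 0, 16, 0x0, []⟩]

theorem t9_22_39 : jobs 8 S9 b8_22 j9_22_39 = true := by decide +kernel

noncomputable def j9_22_40 : List Job := [
  ⟨23, 0x43e1d0d8642e15098441e0d058240e0501, 0, 16, 0x0, []⟩]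

theorem t9_22_40 : jobs 8 S9 b8_22 j9_22_40 = true := by decide +kernel

noncomputable def j9_22_41 : List Job := [
  ⟨22, 0x621128a45a311a8e47e01028241a110a8643c3e1d0d8642e15098441e0d058240e0501, 0, 18, 0x2201002401, []⟩]

theorem t9_22_41 : jobs 8 S9 b8_22 j9_22_41 = true := by decide +kernel

noncomputable def j9_22_42 : List Job := [
  ⟨21, 0x584c464339a4d46c37d80c665331a0d66d3743e1d0d8642e15098441e0d058240e0501, 0, 36, 0x4601004801, []⟩]

theorem t9_22_42 : jobs 8 S9 b8_22 j9_22_42 = true := by decide +kernel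

noncomputable def j9_22_43 : List Job := [
  ⟨20, 0x43e1d0d8642e15098441e0d058240e0501, 0, 16, 0x0, []⟩]

theorem t9_22_43 : jobs 8 S9 b8_22 j9_22_43 = true := by decide +kernel

noncomputable def j9_22_44 : List Job := [
  ⟨19, 0x43e1d0d8642e15098441e0d058240e0501, 0, 16, 0x0, []⟩]

theorem t9_22_44 : jobs 8 S9 b8_22 j9_22_44 = true := by decide +kernel

noncomputable def j9_22_45 : List Job := [
  ⟨18, 0x54ca8592f548aa582fd44ac5b2e540ae5a2ec3e1d0d8642e15098441e0d058240e0501, 0, 18, 0x2200002401, [(16, ⟨2296, 0x112004000170004000020006000400008000001, 0x18a2009820020280410⟩)]⟩]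

theorem t9_22_45 : jobs 8 S9 b8_22 j9_22_45 = true := by decide +kernel

noncomputable def j9_22_46 : List Job := [
  ⟨17, 0x43e1d0d8642e15098441e0d058240e0501, 0, 16, 0x0, []⟩]

theorem t9_22_46 : jobs 8 S9 b8_22 j9_22_46 = true := by decide +kernel

noncomputable def j9_22_47 : List Job := [
  ⟨16, 0x544a4552b164b45d2f540a6542b960b65c2fc3e1d0d8642e15098441e0d058240e0501, 0, 20, 0x2201002601, []⟩]

theorem t9_22_47 : jobs 8 S9 b8_22 j9_22_47 = true := by decide +kernel

noncomputable def j9_22_48 : List Job := [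
  ⟨15, 0x544a6542b164b65c2f540a4552b960b45d2fc3e1d0d8642e15098441e0d058240e0501, 0, 16, 0x0, []⟩]

theorem t9_22_48 : jobs 8 S9 b8_22 j9_22_48 = true := by decide +kernel

noncomputable def j9_22_49 : List Job := [
  ⟨14, 0x43e1d0d8642e15098441e0d058240e0501, 0, 16, 0x0, []⟩]

theorem t9_22_49 : jobs 8 S9 b8_22 j9_22_49 = true := by decide +kernel

noncomputable def j9_22_50 : List Job := [
  ⟨13, 0x544a4552b164b45d2f540a6542b960b65c2fc3e1d0d8642e15098441e0d058240e0501, 0, 16, 0x0, []⟩]

theorem t9_22_50 : jobs 8 S9 b8_22 j9_22_50 = true := by decide +kernel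

noncomputable def j9_22_51 : List Job := [
  ⟨12, 0x544a6542b164b65c2f540a4552b960b45d2fc3e1d0d8642e15098441e0d058240e0501, 0, 20, 0x2201002401002601002801, []⟩]

theorem t9_22_51 : jobs 8 S9 b8_22 j9_22_51 = true := by decide +kernel

noncomputable def j9_22_52 : List Job := [
  ⟨11, 0x544a4552b164b45d2f540a6542b960b65c2fc3e1d0d8642e15098441e0d058240e0501, 0, 16, 0x0, []⟩]

theorem t9_22_52 : jobs 8 S9 b8_22 j9_22_52 = true := by decide +kernel

noncomputable def j9_22_53 : List Job := [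
  ⟨10, 0x43e1d0d8642e15098441e0d058240e0501, 0, 16, 0x0, []⟩]

theorem t9_22_53 : jobs 8 S9 b8_22 j9_22_53 = true := by decide +kernel

noncomputable def j9_22_54 : List Job := [
  ⟨9, 0x43e1d0d8642e15098441e0d058240e0501, 0, 16, 0x0, []⟩]

theorem t9_22_54 : jobs 8 S9 b8_22 j9_22_54 = true := by decide +kernel

noncomputable def j9_22_55 : List Job := [
  ⟨8, 0x544a4552b164b45d2f540a6542b960b65c2fc3e1d0d8642e15098441e0d058240e0501, 0, 16, 0x0, []⟩]

theorem t9_22_55 : jobs 8 S9 b8_22 j9_22_55 = true := by decide +kernel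

noncomputable def j9_22_56 : List Job := [
  ⟨7, 0x43e1d0d8642e15098441e0d058240e0501, 0, 16, 0x0, []⟩]

theorem t9_22_56 : jobs 8 S9 b8_22 j9_22_56 = true := by decide +kernel

noncomputable def j9_22_57 : List Job := [
  ⟨6, 0x43e1d0d8642e15098441e0d058240e0501, 0, 16, 0x0, []⟩]

theorem t9_22_57 : jobs 8 S9 b8_22 j9_22_57 = true := by decide +kernel

noncomputable def j9_22_58 : List Job := [
  ⟨5, 0x609068442a21128e47e01028643a29168c46d44a6542b164b65c2f540a4552b960b45d2fc3e1d0d8642e15098441e0d058240e0501, 0, 36, 0x2201, []⟩]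

theorem t9_22_58 : jobs 8 S9 b8_22 j9_22_58 = true := by decide +kernel

noncomputable def j9_22_59 : List Job := [
  ⟨4, 0x43e1d0d8642e15098441e0d058240e0501, 0, 36, 0x2201002401002601002801, []⟩]

theorem t9_22_59 : jobs 8 S9 b8_22 j9_22_59 = true := by decide +kernel

noncomputable def j9_22_60 : List Job := [
  ⟨3, 0x544a4552b164b45d2f540a6542b960b65c2fc3e1d0d8642e15098441e0d058240e0501, 0, 36, 0x2201002601, []⟩]

theorem t9_22_60 : jobs 8 S9 b8_22 j9_22_60 = true := by decide +kernel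

noncomputable def j9_22_61 : List Job := [
  ⟨2, 0x43e1d0d8642e15098441e0d058240e0501, 0, 16, 0x0, []⟩]

theorem t9_22_61 : jobs 8 S9 b8_22 j9_22_61 = true := by decide +kernel

noncomputable def j9_22_62 : List Job := [
  ⟨1, 0x5108a46239309a4e27d00824221920924a25c3e1d0d8642e15098441e0d058240e0501, 0, 16, 0x0, []⟩]

theorem t9_22_62 : jobs 8 S9 b8_22 j9_22_62 = true := by decide +kernel

noncomputable def j9_22_63 : List Job := [
  ⟨0, 0x5108a46239309a4e27d00824221920924a25c3e1d0d8642e15098441e0d058240e0501, 0, 16, 0x0, []⟩]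

theorem t9_22_63 : jobs 8 S9 b8_22 j9_22_63 = true := by decide +kernel

theorem d9_22 : Dn 8 S9 b8_22 := dn_of (Js := j9_22_0 ++ (j9_22_1 ++ (j9_22_2 ++ (j9_22_3 ++ (j9_22_4 ++ (j9_22_5 ++ (j9_22_6 ++ (j9_22_7 ++ (j9_22_8 ++ (j9_22_9 ++ (j9_22_10 ++ (j9_22_11 ++ (j9_22_12 ++ (j9_22_13 ++ (j9_22_14 ++ (j9_22_15 ++ (j9_22_16 ++ (j9_22_17 ++ (j9_22_18 ++ (j9_22_19 ++ (j9_22_20 ++ (j9_22_21 ++ (j9_22_22 ++ (j9_22_23 ++ (j9_22_24 ++ (j9_22_25 ++ (j9_22_26 ++ (j9_22_27 ++ (j9_22_28 ++ (j9_22_29 ++ (j9_22_30 ++ (j9_22_31 ++ (j9_22_32 ++ (j9_22_33 ++ (j9_22_34 ++ (j9_22_35 ++ (j9_22_36 ++ (j9_22_37 ++ (j9_22_38 ++ (j9_22_39 ++ (j9_22_40 ++ (j9_22_41 ++ (j9_22_42 ++ (j9_22_43 ++ (j9_22_44 ++ (j9_22_45 ++ (j9_22_46 ++ (j9_22_47 ++ (j9_22_48 ++ (j9_22_49 ++ (j9_22_50 ++ (j9_22_51 ++ (j9_22_52 ++ (j9_22_53 ++ (j9_22_54 ++ (j9_22_55 ++ (j9_22_56 ++ (j9_22_57 ++ (j9_22_58 ++ (j9_22_59 ++ (j9_22_60 ++ (j9_22_61 ++ (j9_22_62 ++ (j9_22_63 ++ []))))))))))))))))))))))))))))))))))))))))))))))))))))))))))))))))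
  (jobs_append t9_22_0 <| jobs_append t9_22_1 <| jobs_append t9_22_2 <| jobs_append t9_22_3 <| jobs_append t9_22_4 <| jobs_append t9_22_5 <| jobs_append t9_22_6 <| jobs_append t9_22_7 <| jobs_append t9_22_8 <| jobs_append t9_22_9 <| jobs_append t9_22_10 <| jobs_append t9_22_11 <| jobs_append t9_22_12 <| jobs_append t9_22_13 <| jobs_append t9_22_14 <| jobs_append t9_22_15 <| jobs_append t9_22_16 <| jobs_append t9_22_17 <| jobs_append t9_22_18 <| jobs_append t9_22_19 <| jobs_append t9_22_20 <| jobs_append t9_22_21 <| jobs_append t9_22_22 <| jobs_append t9_22_23 <| jobs_append t9_22_24 <| jobs_append t9_22_25 <| jobs_append t9_22_26 <| jobs_append t9_22_27 <| jobs_append t9_22_28 <| jobs_append t9_22_29 <| jobs_append t9_22_30 <| jobs_append t9_22_31 <| jobs_append t9_22_32 <| jobs_append t9_22_33 <| jobs_append t9_22_34 <| jobs_append t9_22_35 <| jobs_append t9_22_36 <| jobs_append t9_22_37 <| jobs_append t9_22_38 <| jobs_append t9_22_39 <| jobs_append t9_22_40 <| jobs_append t9_22_41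 <| jobs_append t9_22_42 <| jobs_append t9_22_43 <| jobs_append t9_22_44 <| jobs_append t9_22_45 <| jobs_append t9_22_46 <| jobs_append t9_22_47 <| jobs_append t9_22_48 <| jobs_append t9_22_49 <| jobs_append t9_22_50 <| jobs_append t9_22_51 <| jobs_append t9_22_52 <| jobs_append t9_22_53 <| jobs_append t9_22_54 <| jobs_append t9_22_55 <| jobs_append t9_22_56 <| jobs_append t9_22_57 <| jobs_append t9_22_58 <| jobs_append t9_22_59 <| jobs_append t9_22_60 <| jobs_append t9_22_61 <| jobs_append t9_22_62 <| jobs_append t9_22_63 <| List.forall_mem_nil _) (by decide +kernel)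

noncomputable def j9_23_0 : List Job := [
  ⟨63, 0x43e1d0d8642e15098441e0d058240e0501, 0, 1, 0x201, []⟩]

theorem t9_23_0 : jobs 8 S9 b8_23 j9_23_0 = true := by decide +kernel

noncomputable def j9_23_1 : List Job := [
  ⟨59, 0x43e1d0d8642e15098441e0d058240e0501, 0, 1, 0x201, []⟩]

theorem t9_23_1 : jobs 8 S9 b8_23 j9_23_1 = true := by decide +kernel

noncomputable def j9_23_2 : List Job := [
  ⟨58, 0x43e1d0d8642e15098441e0d058240e0501, 0, 1, 0x201, []⟩]

theorem t9_23_2 : jobs 8 S9 b8_23 j9_23_2 = true := by decide +kernel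

noncomputable def j9_23_3 : List Job := [
  ⟨53, 0x43e1d0d8642e15098441e0d058240e0501, 0, 2, 0x201000401, []⟩]

theorem t9_23_3 : jobs 8 S9 b8_23 j9_23_3 = true := by decide +kernel

noncomputable def j9_23_4 : List Job := [
  ⟨52, 0x43e1d0d8642e15098441e0d058240e0501, 0, 1, 0x201, []⟩]

theorem t9_23_4 : jobs 8 S9 b8_23 j9_23_4 = true := by decide +kernel

noncomputable def j9_23_5 : List Job := [
  ⟨50, 0x43e1d0d8642e15098441e0d058240e0501, 0, 1, 0x201, []⟩]

theorem t9_23_5 : jobs 8 S9 b8_23 j9_23_5 = true := by decide +kernel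

noncomputable def j9_23_6 : List Job := [
  ⟨48, 0x43e1d0d8642e15098441e0d058240e0501, 0, 2, 0x201000401, []⟩]

theorem t9_23_6 : jobs 8 S9 b8_23 j9_23_6 = true := by decide +kernel

noncomputable def j9_23_7 : List Job := [
  ⟨44, 0x43e1d0d8642e15098441e0d058240e0501, 0, 2, 0x201000401, []⟩]

theorem t9_23_7 : jobs 8 S9 b8_23 j9_23_7 = true := by decide +kernel

noncomputable def j9_23_8 : List Job := [
  ⟨43, 0x43e1d0d8642e15098441e0d058240e0501, 0, 2, 0x201000401, []⟩]

theorem t9_23_8 : jobs 8 S9 b8_23 j9_23_8 = true := by decide +kernel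

noncomputable def j9_23_9 : List Job := [
  ⟨40, 0x43e1d0d8642e15098441e0d058240e0501, 0, 2, 0x201000401, []⟩]

theorem t9_23_9 : jobs 8 S9 b8_23 j9_23_9 = true := by decide +kernel

noncomputable def j9_23_10 : List Job := [
  ⟨35, 0x43e1d0d8642e15098441e0d058240e0501, 0, 1, 0x201, []⟩]

theorem t9_23_10 : jobs 8 S9 b8_23 j9_23_10 = true := by decide +kernel

noncomputable def j9_23_11 : List Job := [
  ⟨34, 0x43e1d0d8642e15098441e0d058240e0501, 0, 2, 0x201000401, []⟩]

theorem t9_23_11 : jobs 8 S9 b8_23 j9_23_11 = true := by decide +kernel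

noncomputable def j9_23_12 : List Job := [
  ⟨33, 0x43e1d0d8642e15098441e0d058240e0501, 0, 2, 0x201000401, []⟩]

theorem t9_23_12 : jobs 8 S9 b8_23 j9_23_12 = true := by decide +kernel

noncomputable def j9_23_13 : List Job := [
  ⟨29, 0x43e1d0d8642e15098441e0d058240e0501, 0, 1, 0x201, []⟩]

theorem t9_23_13 : jobs 8 S9 b8_23 j9_23_13 = true := by decide +kernel

noncomputable def j9_23_14 : List Job := [
  ⟨28, 0x43e1d0d8642e15098441e0d058240e0501, 0, 1, 0x201, []⟩]

theorem t9_23_14 : jobs 8 S9 b8_23 j9_23_14 = true := by decide +kernel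

noncomputable def j9_23_15 : List Job := [
  ⟨25, 0x4542c190d4502e180dc44241d0f440261c0fc3e1d0d8642e15098441e0d058240e0501, 0, 4, 0x216000416000600000801, [(2, ⟨2353, 0x11c004b00140047c00080002008780030020001, 0x185250a42409040100e⟩)]⟩]

theorem t9_23_15 : jobs 8 S9 b8_23 j9_23_15 = true := by decide +kernel

noncomputable def j9_23_16 : List Job := [
  ⟨24, 0x4542c190d4502e180dc44241d0f440261c0fc3e1d0d8642e15098441e0d058240e0501, 0, 5, 0x201000401000601000a01, []⟩]

theorem t9_23_16 : jobs 8 S9 b8_23 j9_23_16 = true := by decide +kernel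

noncomputable def j9_23_17 : List Job := [
  ⟨23, 0x4542c190d4502e180dc44241d0f440261c0fc3e1d0d8642e15098441e0d058240e0501, 0, 4, 0x201000401000801, []⟩]

theorem t9_23_17 : jobs 8 S9 b8_23 j9_23_17 = true := by decide +kernel

noncomputable def j9_23_18 : List Job := [
  ⟨22, 0x4542c190d4502e180dc44241d0f440261c0fc3e1d0d8642e15098441e0d058240e0501, 0, 4, 0x201000401000601000801, []⟩]

theorem t9_23_18 : jobs 8 S9 b8_23 j9_23_18 = true := by decide +kernel

noncomputable def j9_23_19 : List Job := [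
  ⟨18, 0x43e1d0d8642e15098441e0d058240e0501, 0, 2, 0x201000401, []⟩]

theorem t9_23_19 : jobs 8 S9 b8_23 j9_23_19 = true := by decide +kernel

noncomputable def j9_23_20 : List Job := [
  ⟨16, 0x4582e1a0dc502a180cc48261e0fc40221c0ec3e1d0d8642e15098441e0d058240e0501, 0, 4, 0x201000601000801, []⟩]

theorem t9_23_20 : jobs 8 S9 b8_23 j9_23_20 = true := by decide +kernel

noncomputable def j9_23_21 : List Job := [
  ⟨15, 0x520924a259309a4e27d008242219108a4623c3e1d0d8642e15098441e0d058240e0501, 0, 16, 0x0, []⟩]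

theorem t9_23_21 : jobs 8 S9 b8_23 j9_23_21 = true := by decide +kernel

noncomputable def j9_23_22 : List Job := [
  ⟨14, 0x43e1d0d8642e15098441e0d058240e0501, 0, 16, 0x0, []⟩]

theorem t9_23_22 : jobs 8 S9 b8_23 j9_23_22 = true := by decide +kernel

noncomputable def j9_23_23 : List Job := [
  ⟨13, 0x520924a259309a4e27d008242219108a4623c3e1d0d8642e15098441e0d058240e0501, 0, 16, 0x0, []⟩]

theorem t9_23_23 : jobs 8 S9 b8_23 j9_23_23 = true := by decide +kernel

noncomputable def j9_23_24 : List Job := [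
  ⟨12, 0x43e1d0d8642e15098441e0d058240e0501, 0, 16, 0x0, []⟩]

theorem t9_23_24 : jobs 8 S9 b8_23 j9_23_24 = true := by decide +kernel

noncomputable def j9_23_25 : List Job := [
  ⟨11, 0x520924a259309a4e27d008242219108a4623c3e1d0d8642e15098441e0d058240e0501, 0, 16, 0x0, []⟩]

theorem t9_23_25 : jobs 8 S9 b8_23 j9_23_25 = true := by decide +kernel

noncomputable def j9_23_26 : List Job := [
  ⟨10, 0x43e1d0d8642e15098441e0d058240e0501, 0, 16, 0x0, []⟩]

theorem t9_23_26 : jobs 8 S9 b8_23 j9_23_26 = true := by decide +kernel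

noncomputable def j9_23_27 : List Job := [
  ⟨9, 0x520924a259309a4e27d008242219108a4623c3e1d0d8642e15098441e0d058240e0501, 0, 16, 0x0, []⟩]

theorem t9_23_27 : jobs 8 S9 b8_23 j9_23_27 = true := by decide +kernel

noncomputable def j9_23_28 : List Job := [
  ⟨8, 0x43e1d0d8642e15098441e0d058240e0501, 0, 18, 0x2201002401, []⟩]

theorem t9_23_28 : jobs 8 S9 b8_23 j9_23_28 = true := by decide +kernel

noncomputable def j9_23_29 : List Job := [
  ⟨7, 0x43e1d0d8642e15098441e0d058240e0501, 0, 16, 0x0, []⟩]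

theorem t9_23_29 : jobs 8 S9 b8_23 j9_23_29 = true := by decide +kernel

noncomputable def j9_23_30 : List Job := [
  ⟨6, 0x43e1d0d8642e15098441e0d058240e0501, 0, 16, 0x0, []⟩]

theorem t9_23_30 : jobs 8 S9 b8_23 j9_23_30 = true := by decide +kernel

noncomputable def j9_23_31 : List Job := [
  ⟨5, 0x43e1d0d8642e15098441e0d058240e0501, 0, 16, 0x0, []⟩]

theorem t9_23_31 : jobs 8 S9 b8_23 j9_23_31 = true := by decide +kernel

noncomputable def j9_23_32 : List Job := [
  ⟨4, 0x43e1d0d8642e15098441e0d058240e0501, 0, 16, 0x0, []⟩]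

theorem t9_23_32 : jobs 8 S9 b8_23 j9_23_32 = true := by decide +kernel

noncomputable def j9_23_33 : List Job := [
  ⟨3, 0x43e1d0d8642e15098441e0d058240e0501, 0, 16, 0x0, []⟩]

theorem t9_23_33 : jobs 8 S9 b8_23 j9_23_33 = true := by decide +kernel

noncomputable def j9_23_34 : List Job := [
  ⟨2, 0x6110a8643a311a8e47e01028241a21128a45c3e1d0d8642e15098441e0d058240e0501, 0, 36, 0x4201004401, []⟩]

theorem t9_23_34 : jobs 8 S9 b8_23 j9_23_34 = true := by decide +kernel

noncomputable def j9_23_35 : List Job := [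
  ⟨1, 0x43e1d0d8642e15098441e0d058240e0501, 0, 36, 0x4201004401004601004801, []⟩]

theorem t9_23_35 : jobs 8 S9 b8_23 j9_23_35 = true := by decide +kernel

noncomputable def j9_23_36 : List Job := [
  ⟨0, 0x43e1d0d8642e15098441e0d058240e0501, 0, 16, 0x0, []⟩]

theorem t9_23_36 : jobs 8 S9 b8_23 j9_23_36 = true := by decide +kernel

theorem d9_23 : Dn 8 S9 b8_23 := dn_of (Js := j9_23_0 ++ (j9_23_1 ++ (j9_23_2 ++ (j9_23_3 ++ (j9_23_4 ++ (j9_23_5 ++ (j9_23_6 ++ (j9_23_7 ++ (j9_23_8 ++ (j9_23_9 ++ (j9_23_10 ++ (j9_23_11 ++ (j9_23_12 ++ (j9_23_13 ++ (j9_23_14 ++ (j9_23_15 ++ (j9_23_16 ++ (j9_23_17 ++ (j9_23_18 ++ (j9_23_19 ++ (j9_23_20 ++ (j9_23_21 ++ (j9_23_22 ++ (j9_23_23 ++ (j9_23_24 ++ (j9_23_25 ++ (j9_23_26 ++ (j9_23_27 ++ (j9_23_28 ++ (j9_23_29 ++ (j9_23_30 ++ (j9_23_31 ++ (j9_23_32 ++ (j9_23_33 ++ (j9_23_34 ++ (j9_23_35 ++ (j9_23_36 ++ [])))))))))))))))))))))))))))))))))))))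
  (jobs_append t9_23_0 <| jobs_append t9_23_1 <| jobs_append t9_23_2 <| jobs_append t9_23_3 <| jobs_append t9_23_4 <| jobs_append t9_23_5 <| jobs_append t9_23_6 <| jobs_append t9_23_7 <| jobs_append t9_23_8 <| jobs_append t9_23_9 <| jobs_append t9_23_10 <| jobs_append t9_23_11 <| jobs_append t9_23_12 <| jobs_append t9_23_13 <| jobs_append t9_23_14 <| jobs_append t9_23_15 <| jobs_append t9_23_16 <| jobs_append t9_23_17 <| jobs_append t9_23_18 <| jobs_append t9_23_19 <| jobs_append t9_23_20 <| jobs_append t9_23_21 <| jobs_append t9_23_22 <| jobs_append t9_23_23 <| jobs_append t9_23_24 <| jobs_append t9_23_25 <| jobs_append t9_23_26 <| jobs_append t9_23_27 <| jobs_append t9_23_28 <| jobs_append t9_23_29 <| jobs_append t9_23_30 <| jobs_append t9_23_31 <| jobs_append t9_23_32 <| jobs_append t9_23_33 <| jobs_append t9_23_34 <| jobs_append t9_23_35 <| jobs_append t9_23_36 <| List.forall_mem_nil _) (by decide +kernel)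

noncomputable def j9_24_0 : List Job := [
  ⟨63, 0x43e1d0d8642e15098441e0d058240e0501, 0, 2, 0x201000401, []⟩]

theorem t9_24_0 : jobs 8 S9 b8_24 j9_24_0 = true := by decide +kernel

noncomputable def j9_24_1 : List Job := [
  ⟨62, 0x43e1d0d8642e15098441e0d058240e0501, 0, 1, 0x201, []⟩]

theorem t9_24_1 : jobs 8 S9 b8_24 j9_24_1 = true := by decide +kernel

noncomputable def j9_24_2 : List Job := [
  ⟨59, 0x43e1d0d8642e15098441e0d058240e0501, 0, 2, 0x201000401, []⟩]

theorem t9_24_2 : jobs 8 S9 b8_24 j9_24_2 = true := by decide +kernel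

noncomputable def j9_24_3 : List Job := [
  ⟨57, 0x43e1d0d8642e15098441e0d058240e0501, 0, 1, 0x201, []⟩]

theorem t9_24_3 : jobs 8 S9 b8_24 j9_24_3 = true := by decide +kernel

noncomputable def j9_24_4 : List Job := [
  ⟨56, 0x43e1d0d8642e15098441e0d058240e0501, 0, 1, 0x201, []⟩]

theorem t9_24_4 : jobs 8 S9 b8_24 j9_24_4 = true := by decide +kernel

noncomputable def j9_24_5 : List Job := [
  ⟨53, 0x43e1d0d8642e15098441e0d058240e0501, 0, 2, 0x201000401, []⟩]

theorem t9_24_5 : jobs 8 S9 b8_24 j9_24_5 = true := by decide +kernel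

noncomputable def j9_24_6 : List Job := [
  ⟨49, 0x43e1d0d8642e15098441e0d058240e0501, 0, 2, 0x201000401, []⟩]

theorem t9_24_6 : jobs 8 S9 b8_24 j9_24_6 = true := by decide +kernel

noncomputable def j9_24_7 : List Job := [
  ⟨48, 0x43e1d0d8642e15098441e0d058240e0501, 0, 1, 0x201, []⟩]

theorem t9_24_7 : jobs 8 S9 b8_24 j9_24_7 = true := by decide +kernel

noncomputable def j9_24_8 : List Job := [
  ⟨46, 0x43e1d0d8642e15098441e0d058240e0501, 0, 2, 0x201000401, []⟩]

theorem t9_24_8 : jobs 8 S9 b8_24 j9_24_8 = true := by decide +kernel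

noncomputable def j9_24_9 : List Job := [
  ⟨45, 0x43e1d0d8642e15098441e0d058240e0501, 0, 1, 0x201, []⟩]

theorem t9_24_9 : jobs 8 S9 b8_24 j9_24_9 = true := by decide +kernel

noncomputable def j9_24_10 : List Job := [
  ⟨42, 0x43e1d0d8642e15098441e0d058240e0501, 0, 2, 0x201000401, []⟩]

theorem t9_24_10 : jobs 8 S9 b8_24 j9_24_10 = true := by decide +kernel

noncomputable def j9_24_11 : List Job := [
  ⟨40, 0x44826160b860321c0ec4022140a868361e0fc3e1d0d8642e15098441e0d058240e0501, 0, 1, 0x201, []⟩]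

theorem t9_24_11 : jobs 8 S9 b8_24 j9_24_11 = true := by decide +kernel

noncomputable def j9_24_12 : List Job := [
  ⟨39, 0x4502a160b860321a0dc402212098703a1e0fc3e1d0d8642e15098441e0d058240e0501, 0, 2, 0x201, []⟩]

theorem t9_24_12 : jobs 8 S9 b8_24 j9_24_12 = true := by decide +kernel

noncomputable def j9_24_13 : List Job := [
  ⟨38, 0x44826160b860321c0ec4022140a868361e0fc3e1d0d8642e15098441e0d058240e0501, 0, 4, 0x201000401000601, []⟩]

theorem t9_24_13 : jobs 8 S9 b8_24 j9_24_13 = true := by decide +kernel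

noncomputable def j9_24_14 : List Job := [
  ⟨37, 0x4502a160b860321a0dc402212098703a1e0fc3e1d0d8642e15098441e0d058240e0501, 0, 1, 0x201, []⟩]

theorem t9_24_14 : jobs 8 S9 b8_24 j9_24_14 = true := by decide +kernel

noncomputable def j9_24_15 : List Job := [
  ⟨36, 0x4502a160b860321a0dc402212098703a1e0fc3e1d0d8642e15098441e0d058240e0501, 0, 2, 0x201, []⟩]

theorem t9_24_15 : jobs 8 S9 b8_24 j9_24_15 = true := by decide +kernel

noncomputable def j9_24_16 : List Job := [
  ⟨33, 0x43e1d0d8642e15098441e0d058240e0501, 0, 1, 0x201, []⟩]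

theorem t9_24_16 : jobs 8 S9 b8_24 j9_24_16 = true := by decide +kernel

noncomputable def j9_24_17 : List Job := [
  ⟨32, 0x4502a160b860321a0dc402212098703a1e0fc3e1d0d8642e15098441e0d058240e0501, 0, 2, 0x201, []⟩]

theorem t9_24_17 : jobs 8 S9 b8_24 j9_24_17 = true := by decide +kernel

noncomputable def j9_24_18 : List Job := [
  ⟨30, 0x44826160b860321c0ec4022140a868361e0fc3e1d0d8642e15098441e0d058240e0501, 0, 1, 0x201, []⟩]

theorem t9_24_18 : jobs 8 S9 b8_24 j9_24_18 = true := by decide +kernel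

noncomputable def j9_24_19 : List Job := [
  ⟨29, 0x4502a160b860321a0dc402212098703a1e0fc3e1d0d8642e15098441e0d058240e0501, 0, 1, 0x201, []⟩]

theorem t9_24_19 : jobs 8 S9 b8_24 j9_24_19 = true := by decide +kernel

noncomputable def j9_24_20 : List Job := [
  ⟨27, 0x43e1d0d8642e15098441e0d058240e0501, 0, 2, 0x201000401, []⟩]

theorem t9_24_20 : jobs 8 S9 b8_24 j9_24_20 = true := by decide +kernel

noncomputable def j9_24_21 : List Job := [
  ⟨25, 0x43e1d0d8642e15098441e0d058240e0501, 0, 2, 0x201000401, []⟩]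

theorem t9_24_21 : jobs 8 S9 b8_24 j9_24_21 = true := by decide +kernel

noncomputable def j9_24_22 : List Job := [
  ⟨24, 0x43e1d0d8642e15098441e0d058240e0501, 0, 1, 0x201, []⟩]

theorem t9_24_22 : jobs 8 S9 b8_24 j9_24_22 = true := by decide +kernel

noncomputable def j9_24_23 : List Job := [
  ⟨23, 0x43e1d0d8642e15098441e0d058240e0501, 0, 1, 0x201, []⟩]

theorem t9_24_23 : jobs 8 S9 b8_24 j9_24_23 = true := by decide +kernel

noncomputable def j9_24_24 : List Job := [
  ⟨21, 0x43e1d0d8642e15098441e0d058240e0501, 0, 1, 0x201, []⟩]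

theorem t9_24_24 : jobs 8 S9 b8_24 j9_24_24 = true := by decide +kernel

noncomputable def j9_24_25 : List Job := [
  ⟨20, 0x43e1d0d8642e15098441e0d058240e0501, 0, 1, 0x201, []⟩]

theorem t9_24_25 : jobs 8 S9 b8_24 j9_24_25 = true := by decide +kernel

noncomputable def j9_24_26 : List Job := [
  ⟨19, 0x44826140a860321e0fc4022160b868361c0ec3e1d0d8642e15098441e0d058240e0501, 0, 2, 0x201, []⟩]

theorem t9_24_26 : jobs 8 S9 b8_24 j9_24_26 = true := by decide +kernel

noncomputable def j9_24_27 : List Job := [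
  ⟨18, 0x44826140a860321e0fc4022160b868361c0ec3e1d0d8642e15098441e0d058240e0501, 0, 1, 0x201, []⟩]

theorem t9_24_27 : jobs 8 S9 b8_24 j9_24_27 = true := by decide +kernel

noncomputable def j9_24_28 : List Job := [
  ⟨17, 0x44826140a860321e0fc4022160b868361c0ec3e1d0d8642e15098441e0d058240e0501, 0, 4, 0x201000601000800, [(3, ⟨2358, 0x116014800120045802080101008600418020001, 0x187250a0220a0402408⟩)]⟩]

theorem t9_24_28 : jobs 8 S9 b8_24 j9_24_28 = true := by decide +kernel

noncomputable def j9_24_29 : List Job := [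
  ⟨16, 0x4502a160b860321a0dc402212098703a1e0fc3e1d0d8642e15098441e0d058240e0501, 0, 1, 0x201, []⟩]

theorem t9_24_29 : jobs 8 S9 b8_24 j9_24_29 = true := by decide +kernel

noncomputable def j9_24_30 : List Job := [
  ⟨15, 0x4502a160b860321a0dc402212098703a1e0fc3e1d0d8642e15098441e0d058240e0501, 0, 2, 0x201000401, []⟩]

theorem t9_24_30 : jobs 8 S9 b8_24 j9_24_30 = true := by decide +kernel

noncomputable def j9_24_31 : List Job := [
  ⟨14, 0x43e1d0d8642e15098441e0d058240e0501, 0, 2, 0x201000401, []⟩]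

theorem t9_24_31 : jobs 8 S9 b8_24 j9_24_31 = true := by decide +kernel

noncomputable def j9_24_32 : List Job := [
  ⟨12, 0x43e1d0d8642e15098441e0d058240e0501, 0, 2, 0x201000401, []⟩]

theorem t9_24_32 : jobs 8 S9 b8_24 j9_24_32 = true := by decide +kernel

noncomputable def j9_24_33 : List Job := [
  ⟨9, 0x43e1d0d8642e15098441e0d058240e0501, 0, 1, 0x201, []⟩]

theorem t9_24_33 : jobs 8 S9 b8_24 j9_24_33 = true := by decide +kernel

noncomputable def j9_24_34 : List Job := [
  ⟨8, 0x43e1d0d8642e15098441e0d058240e0501, 0, 1, 0x201, []⟩]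

theorem t9_24_34 : jobs 8 S9 b8_24 j9_24_34 = true := by decide +kernel

noncomputable def j9_24_35 : List Job := [
  ⟨7, 0x43e1d0d8642e15098441e0d058240e0501, 0, 1, 0x201, []⟩]

theorem t9_24_35 : jobs 8 S9 b8_24 j9_24_35 = true := by decide +kernel

noncomputable def j9_24_36 : List Job := [
  ⟨6, 0x43e1d0d8642e15098441e0d058240e0501, 0, 3, 0x201000401000601, []⟩]

theorem t9_24_36 : jobs 8 S9 b8_24 j9_24_36 = true := by decide +kernel

noncomputable def j9_24_37 : List Job := [
  ⟨5, 0x4502a160b860321a0dc402212098703a1e0fc3e1d0d8642e15098441e0d058240e0501, 0, 4, 0x201000601000801, []⟩]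

theorem t9_24_37 : jobs 8 S9 b8_24 j9_24_37 = true := by decide +kernel

noncomputable def j9_24_38 : List Job := [
  ⟨4, 0x4502a160b860321a0dc402212098703a1e0fc3e1d0d8642e15098441e0d058240e0501, 0, 2, 0x201, []⟩]

theorem t9_24_38 : jobs 8 S9 b8_24 j9_24_38 = true := by decide +kernel

noncomputable def j9_24_39 : List Job := [
  ⟨3, 0x4502a160b860321a0dc402212098703a1e0fc3e1d0d8642e15098441e0d058240e0501, 0, 1, 0x201, []⟩]

theorem t9_24_39 : jobs 8 S9 b8_24 j9_24_39 = true := by decide +kernel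

noncomputable def j9_24_40 : List Job := [
  ⟨2, 0x44826160b860321c0ec4022140a868361e0fc3e1d0d8642e15098441e0d058240e0501, 0, 1, 0x201, []⟩]

theorem t9_24_40 : jobs 8 S9 b8_24 j9_24_40 = true := by decide +kernel

noncomputable def j9_24_41 : List Job := [
  ⟨1, 0x4502a160b860321a0dc402212098703a1e0fc3e1d0d8642e15098441e0d058240e0501, 0, 1, 0x0, []⟩]

theorem t9_24_41 : jobs 8 S9 b8_24 j9_24_41 = true := by decide +kernel

theorem d9_24 : Dn 8 S9 b8_24 := dn_of (Js := j9_24_0 ++ (j9_24_1 ++ (j9_24_2 ++ (j9_24_3 ++ (j9_24_4 ++ (j9_24_5 ++ (j9_24_6 ++ (j9_24_7 ++ (j9_24_8 ++ (j9_24_9 ++ (j9_24_10 ++ (j9_24_11 ++ (j9_24_12 ++ (j9_24_13 ++ (j9_24_14 ++ (j9_24_15 ++ (j9_24_16 ++ (j9_24_17 ++ (j9_24_18 ++ (j9_24_19 ++ (j9_24_20 ++ (j9_24_21 ++ (j9_24_22 ++ (j9_24_23 ++ (j9_24_24 ++ (j9_24_25 ++ (j9_24_26 ++ (j9_24_27 ++ (j9_24_28 ++ (j9_24_29 ++ (j9_24_30 ++ (j9_24_31 ++ (j9_24_32 ++ (j9_24_33 ++ (j9_24_34 ++ (j9_24_35 ++ (j9_24_36 ++ (j9_24_37 ++ (j9_24_38 ++ (j9_24_39 ++ (j9_24_40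 ++ (j9_24_41 ++ []))))))))))))))))))))))))))))))))))))))))))
  (jobs_append t9_24_0 <| jobs_append t9_24_1 <| jobs_append t9_24_2 <| jobs_append t9_24_3 <| jobs_append t9_24_4 <| jobs_append t9_24_5 <| jobs_append t9_24_6 <| jobs_append t9_24_7 <| jobs_append t9_24_8 <| jobs_append t9_24_9 <| jobs_append t9_24_10 <| jobs_append t9_24_11 <| jobs_append t9_24_12 <| jobs_append t9_24_13 <| jobs_append t9_24_14 <| jobs_append t9_24_15 <| jobs_append t9_24_16 <| jobs_append t9_24_17 <| jobs_append t9_24_18 <| jobs_append t9_24_19 <| jobs_append t9_24_20 <| jobs_append t9_24_21 <| jobs_append t9_24_22 <| jobs_append t9_24_23 <| jobs_append t9_24_24 <| jobs_append t9_24_25 <| jobs_append t9_24_26 <| jobs_append t9_24_27 <| jobs_append t9_24_28 <| jobs_append t9_24_29 <| jobs_append t9_24_30 <| jobs_append t9_24_31 <| jobs_append t9_24_32 <| jobs_append t9_24_33 <| jobs_append t9_24_34 <| jobs_append t9_24_35 <| jobs_append t9_24_36 <| jobs_append t9_24_37 <| jobs_append t9_24_38 <|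 jobs_append t9_24_39 <| jobs_append t9_24_40 <| jobs_append t9_24_41 <| List.forall_mem_nil _) (by decide +kernel)

noncomputable def j9_25_0 : List Job := [
  ⟨61, 0x43e1d0d8642e15098441e0d058240e0501, 0, 2, 0x201000401, []⟩]

theorem t9_25_0 : jobs 8 S9 b8_25 j9_25_0 = true := by decide +kernel

noncomputable def j9_25_1 : List Job := [
  ⟨60, 0x43e1d0d8642e15098441e0d058240e0501, 0, 2, 0x201000401, []⟩]

theorem t9_25_1 : jobs 8 S9 b8_25 j9_25_1 = true := by decide +kernel

noncomputable def j9_25_2 : List Job := [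
  ⟨57, 0x43e1d0d8642e15098441e0d058240e0501, 0, 1, 0x201, []⟩]

theorem t9_25_2 : jobs 8 S9 b8_25 j9_25_2 = true := by decide +kernel

noncomputable def j9_25_3 : List Job := [
  ⟨56, 0x43e1d0d8642e15098441e0d058240e0501, 0, 1, 0x201, []⟩]

theorem t9_25_3 : jobs 8 S9 b8_25 j9_25_3 = true := by decide +kernel

noncomputable def j9_25_4 : List Job := [
  ⟨55, 0x43e1d0d8642e15098441e0d058240e0501, 0, 1, 0x201, []⟩]

theorem t9_25_4 : jobs 8 S9 b8_25 j9_25_4 = true := by decide +kernel

noncomputable def j9_25_5 : List Job := [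
  ⟨54, 0x43e1d0d8642e15098441e0d058240e0501, 0, 3, 0x201000401000601, []⟩]

theorem t9_25_5 : jobs 8 S9 b8_25 j9_25_5 = true := by decide +kernel

noncomputable def j9_25_6 : List Job := [
  ⟨53, 0x43e1d0d8642e15098441e0d058240e0501, 0, 2, 0x201000401, []⟩]

theorem t9_25_6 : jobs 8 S9 b8_25 j9_25_6 = true := by decide +kernel

noncomputable def j9_25_7 : List Job := [
  ⟨52, 0x43e1d0d8642e15098441e0d058240e0501, 0, 1, 0x201, []⟩]

theorem t9_25_7 : jobs 8 S9 b8_25 j9_25_7 = true := by decide +kernel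

noncomputable def j9_25_8 : List Job := [
  ⟨51, 0x43e1d0d8642e15098441e0d058240e0501, 0, 2, 0x201000401, []⟩]

theorem t9_25_8 : jobs 8 S9 b8_25 j9_25_8 = true := by decide +kernel

noncomputable def j9_25_9 : List Job := [
  ⟨50, 0x43e1d0d8642e15098441e0d058240e0501, 0, 1, 0x201, []⟩]

theorem t9_25_9 : jobs 8 S9 b8_25 j9_25_9 = true := by decide +kernel

noncomputable def j9_25_10 : List Job := [
  ⟨49, 0x4542e1c0f4502c1d0fc4426180d44024190dc3e1d0d8642e15098441e0d058240e0501, 0, 5, 0x201000601000801000a01, []⟩]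

theorem t9_25_10 : jobs 8 S9 b8_25 j9_25_10 = true := by decide +kernel

noncomputable def j9_25_11 : List Job := [
  ⟨48, 0x4542e1c0f4502c1d0fc4426180d44024190dc3e1d0d8642e15098441e0d058240e0501, 0, 4, 0x201000400000801, [(1, ⟨2365, 0x108004000900004002080001000580424000001, 0x1882008020050400c08⟩)]⟩]

theorem t9_25_11 : jobs 8 S9 b8_25 j9_25_11 = true := by decide +kernel

noncomputable def j9_25_12 : List Job := [
  ⟨47, 0x464361c0f460341d0fc4426140b44024150bc3e1d0d8642e15098441e0d058240e0501, 0, 4, 0x200000601000801, [(0, ⟨2364, 0x116014900938044c00020008000100014000001, 0x18e2608c34040480810⟩)]⟩]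

theorem t9_25_12 : jobs 8 S9 b8_25 j9_25_12 = true := by decide +kernel

noncomputable def j9_25_13 : List Job := [
  ⟨46, 0x4542e1c0f4502c1d0fc4426180d44024190dc3e1d0d8642e15098441e0d058240e0501, 0, 5, 0x201000401000600000a01, [(2, ⟨2363, 0x10a014500908047c02080001008100424020001, 0x18c2609036050400808⟩)]⟩]

theorem t9_25_13 : jobs 8 S9 b8_25 j9_25_13 = true := by decide +kernel

noncomputable def j9_25_14 : List Job := [
  ⟨45, 0x4542e1c0f4502c1d0fc4426180d44024190dc3e1d0d8642e15098441e0d058240e0501, 0, 5, 0x201000401000601000800, [(3, ⟨2362, 0x106014300970006c021a0108000580024020001, 0x186230b824040480c0a⟩)]⟩]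

theorem t9_25_14 : jobs 8 S9 b8_25 j9_25_14 = true := by decide +kernel

noncomputable def j9_25_15 : List Job := [
  ⟨44, 0x4542e1c0f4502c1d0fc4426180d44024190dc3e1d0d8642e15098441e0d058240e0501, 0, 4, 0x200000601000801, [(0, ⟨2361, 0x100004a00158007002080108000580424000001, 0x1802388838040400c0a⟩)]⟩]

theorem t9_25_15 : jobs 8 S9 b8_25 j9_25_15 = true := by decide +kernel

noncomputable def j9_25_16 : List Job := [
  ⟨43, 0x4542e1c0f4502c1d0fc4426180d44024190dc3e1d0d8642e15098441e0d058240e0501, 0, 5, 0x200000601000801000a01, [(0, ⟨2360, 0x1040140001280444021a0008000100424020001, 0x182200b02a04048080a⟩)]⟩]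

theorem t9_25_16 : jobs 8 S9 b8_25 j9_25_16 = true := by decide +kernel

noncomputable def j9_25_17 : List Job := [
  ⟨42, 0x4542e1c0f4502c1d0fc4426180d44024190dc3e1d0d8642e15098441e0d058240e0501, 0, 8, 0x201000401000601000801000a01000e01001001, []⟩]

theorem t9_25_17 : jobs 8 S9 b8_25 j9_25_17 = true := by decide +kernel

noncomputable def j9_25_18 : List Job := [
  ⟨39, 0x43e1d0d8642e15098441e0d058240e0501, 0, 1, 0x201, []⟩]

theorem t9_25_18 : jobs 8 S9 b8_25 j9_25_18 = true := by decide +kernel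

noncomputable def j9_25_19 : List Job := [
  ⟨35, 0x43e1d0d8642e15098441e0d058240e0501, 0, 1, 0x201, []⟩]

theorem t9_25_19 : jobs 8 S9 b8_25 j9_25_19 = true := by decide +kernel

noncomputable def j9_25_20 : List Job := [
  ⟨33, 0x43e1d0d8642e15098441e0d058240e0501, 0, 2, 0x201000401, []⟩]

theorem t9_25_20 : jobs 8 S9 b8_25 j9_25_20 = true := by decide +kernel

noncomputable def j9_25_21 : List Job := [
  ⟨32, 0x43e1d0d8642e15098441e0d058240e0501, 0, 2, 0x201000401, []⟩]

theorem t9_25_21 : jobs 8 S9 b8_25 j9_25_21 = true := by decide +kernel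

noncomputable def j9_25_22 : List Job := [
  ⟨31, 0x43e1d0d8642e15098441e0d058240e0501, 0, 1, 0x201, []⟩]

theorem t9_25_22 : jobs 8 S9 b8_25 j9_25_22 = true := by decide +kernel

noncomputable def j9_25_23 : List Job := [
  ⟨30, 0x43e1d0d8642e15098441e0d058240e0501, 0, 1, 0x201, []⟩]

theorem t9_25_23 : jobs 8 S9 b8_25 j9_25_23 = true := by decide +kernel

noncomputable def j9_25_24 : List Job := [
  ⟨29, 0x43e1d0d8642e15098441e0d058240e0501, 0, 2, 0x201000401, []⟩]

theorem t9_25_24 : jobs 8 S9 b8_25 j9_25_24 = true := by decide +kernel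

noncomputable def j9_25_25 : List Job := [
  ⟨28, 0x43e1d0d8642e15098441e0d058240e0501, 0, 1, 0x201, []⟩]

theorem t9_25_25 : jobs 8 S9 b8_25 j9_25_25 = true := by decide +kernel

noncomputable def j9_25_26 : List Job := [
  ⟨27, 0x43e1d0d8642e15098441e0d058240e0501, 0, 2, 0x201000401, []⟩]

theorem t9_25_26 : jobs 8 S9 b8_25 j9_25_26 = true := by decide +kernel

noncomputable def j9_25_27 : List Job := [
  ⟨26, 0x43e1d0d8642e15098441e0d058240e0501, 0, 1, 0x201, []⟩]

theorem t9_25_27 : jobs 8 S9 b8_25 j9_25_27 = true := by decide +kernel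

noncomputable def j9_25_28 : List Job := [
  ⟨25, 0x43e1d0d8642e15098441e0d058240e0501, 0, 3, 0x208000408000609, []⟩]

theorem t9_25_28 : jobs 8 S9 b8_25 j9_25_28 = true := by decide +kernel

noncomputable def j9_25_29 : List Job := [
  ⟨24, 0x43e1d0d8642e15098441e0d058240e0501, 0, 2, 0x201000401, []⟩]

theorem t9_25_29 : jobs 8 S9 b8_25 j9_25_29 = true := by decide +kernel

noncomputable def j9_25_30 : List Job := [
  ⟨23, 0x43e1d0d8642e15098441e0d058240e0501, 0, 1, 0x201, []⟩]

theorem t9_25_30 : jobs 8 S9 b8_25 j9_25_30 = true := by decide +kernel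

noncomputable def j9_25_31 : List Job := [
  ⟨22, 0x43e1d0d8642e15098441e0d058240e0501, 0, 1, 0x201, []⟩]

theorem t9_25_31 : jobs 8 S9 b8_25 j9_25_31 = true := by decide +kernel

noncomputable def j9_25_32 : List Job := [
  ⟨21, 0x43e1d0d8642e15098441e0d058240e0501, 0, 1, 0x201, []⟩]

theorem t9_25_32 : jobs 8 S9 b8_25 j9_25_32 = true := by decide +kernel

noncomputable def j9_25_33 : List Job := [
  ⟨18, 0x43e1d0d8642e15098441e0d058240e0501, 0, 2, 0x201000401, []⟩]

theorem t9_25_33 : jobs 8 S9 b8_25 j9_25_33 = true := by decide +kernel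

noncomputable def j9_25_34 : List Job := [
  ⟨17, 0x43e1d0d8642e15098441e0d058240e0501, 0, 2, 0x201000401, []⟩]

theorem t9_25_34 : jobs 8 S9 b8_25 j9_25_34 = true := by decide +kernel

noncomputable def j9_25_35 : List Job := [
  ⟨16, 0x43e1d0d8642e15098441e0d058240e0501, 0, 1, 0x201, []⟩]

theorem t9_25_35 : jobs 8 S9 b8_25 j9_25_35 = true := by decide +kernel

noncomputable def j9_25_36 : List Job := [
  ⟨15, 0x43e1d0d8642e15098441e0d058240e0501, 0, 1, 0x201, []⟩]

theorem t9_25_36 : jobs 8 S9 b8_25 j9_25_36 = true := by decide +kernel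

noncomputable def j9_25_37 : List Job := [
  ⟨12, 0x43e1d0d8642e15098441e0d058240e0501, 0, 1, 0x201, []⟩]

theorem t9_25_37 : jobs 8 S9 b8_25 j9_25_37 = true := by decide +kernel

noncomputable def j9_25_38 : List Job := [
  ⟨5, 0x43e1d0d8642e15098441e0d058240e0501, 0, 2, 0x201000401, []⟩]

theorem t9_25_38 : jobs 8 S9 b8_25 j9_25_38 = true := by decide +kernel

noncomputable def j9_25_39 : List Job := [
  ⟨4, 0x43e1d0d8642e15098441e0d058240e0501, 0, 2, 0x201000401, []⟩]

theorem t9_25_39 : jobs 8 S9 b8_25 j9_25_39 = true := by decide +kernel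

noncomputable def j9_25_40 : List Job := [
  ⟨3, 0x43e1d0d8642e15098441e0d058240e0501, 0, 1, 0x201, []⟩]

theorem t9_25_40 : jobs 8 S9 b8_25 j9_25_40 = true := by decide +kernel

noncomputable def j9_25_41 : List Job := [
  ⟨2, 0x43e1d0d8642e15098441e0d058240e0501, 0, 1, 0x201, []⟩]

theorem t9_25_41 : jobs 8 S9 b8_25 j9_25_41 = true := by decide +kernel

noncomputable def j9_25_42 : List Job := [
  ⟨1, 0x43e1d0d8642e15098441e0d058240e0501, 0, 1, 0x201, []⟩]

theorem t9_25_42 : jobs 8 S9 b8_25 j9_25_42 = true := by decide +kernel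

theorem d9_25 : Dn 8 S9 b8_25 := dn_of (Js := j9_25_0 ++ (j9_25_1 ++ (j9_25_2 ++ (j9_25_3 ++ (j9_25_4 ++ (j9_25_5 ++ (j9_25_6 ++ (j9_25_7 ++ (j9_25_8 ++ (j9_25_9 ++ (j9_25_10 ++ (j9_25_11 ++ (j9_25_12 ++ (j9_25_13 ++ (j9_25_14 ++ (j9_25_15 ++ (j9_25_16 ++ (j9_25_17 ++ (j9_25_18 ++ (j9_25_19 ++ (j9_25_20 ++ (j9_25_21 ++ (j9_25_22 ++ (j9_25_23 ++ (j9_25_24 ++ (j9_25_25 ++ (j9_25_26 ++ (j9_25_27 ++ (j9_25_28 ++ (j9_25_29 ++ (j9_25_30 ++ (j9_25_31 ++ (j9_25_32 ++ (j9_25_33 ++ (j9_25_34 ++ (j9_25_35 ++ (j9_25_36 ++ (j9_25_37 ++ (j9_25_38 ++ (j9_25_39 ++ (j9_25_40 ++ (j9_25_41 ++ (j9_25_42 ++ [])))))))))))))))))))))))))))))))))))))))))))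
  (jobs_append t9_25_0 <| jobs_append t9_25_1 <| jobs_append t9_25_2 <| jobs_append t9_25_3 <| jobs_append t9_25_4 <| jobs_append t9_25_5 <| jobs_append t9_25_6 <| jobs_append t9_25_7 <| jobs_append t9_25_8 <| jobs_append t9_25_9 <| jobs_append t9_25_10 <| jobs_append t9_25_11 <| jobs_append t9_25_12 <| jobs_append t9_25_13 <| jobs_append t9_25_14 <| jobs_append t9_25_15 <| jobs_append t9_25_16 <| jobs_append t9_25_17 <| jobs_append t9_25_18 <| jobs_append t9_25_19 <| jobs_append t9_25_20 <| jobs_append t9_25_21 <| jobs_append t9_25_22 <| jobs_append t9_25_23 <| jobs_append t9_25_24 <| jobs_append t9_25_25 <| jobs_append t9_25_26 <| jobs_append t9_25_27 <| jobs_append t9_25_28 <| jobs_append t9_25_29 <| jobs_append t9_25_30 <| jobs_append t9_25_31 <| jobs_append t9_25_32 <| jobs_append t9_25_33 <| jobs_append t9_25_34 <| jobs_append t9_25_35 <| jobs_append t9_25_36 <| jobs_append t9_25_37 <| jobs_append t9_25_38 <| jobs_append t9_25_39 <| jobs_append t9_25_40 <| jobs_append t9_25_41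 <| jobs_append t9_25_42 <| List.forall_mem_nil _) (by decide +kernel)

noncomputable def j9_26_0 : List Job := [
  ⟨62, 0x605048543221168c47e01068443a25148d4743e1d0d8642e15098441e0d058240e0501, 0, 1, 0x201, []⟩]

theorem t9_26_0 : jobs 8 S9 b8_26 j9_26_0 = true := by decide +kernel

noncomputable def j9_26_1 : List Job := [
  ⟨61, 0x43e1d0d8642e15098441e0d058240e0501, 0, 1, 0x201, []⟩]

theorem t9_26_1 : jobs 8 S9 b8_26 j9_26_1 = true := by decide +kernel

noncomputable def j9_26_2 : List Job := [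
  ⟨60, 0x605048443a25148c47e01068543221168d4743e1d0d8642e15098441e0d058240e0501, 0, 1, 0x201, []⟩]

theorem t9_26_2 : jobs 8 S9 b8_26 j9_26_2 = true := by decide +kernel

noncomputable def j9_26_3 : List Job := [
  ⟨59, 0x609068442a21128e47e01028643a29168c46c3e1d0d8642e15098441e0d058240e0501, 0, 1, 0x201, []⟩]

theorem t9_26_3 : jobs 8 S9 b8_26 j9_26_3 = true := by decide +kernel

noncomputable def j9_26_4 : List Job := [
  ⟨58, 0x43e1d0d8642e15098441e0d058240e0501, 0, 1, 0x201, []⟩]

theorem t9_26_4 : jobs 8 S9 b8_26 j9_26_4 = true := by decide +kernel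

noncomputable def j9_26_5 : List Job := [
  ⟨57, 0x605048443a25148c47e01068543221168d4743e1d0d8642e15098441e0d058240e0501, 0, 4, 0x201000401000801, []⟩]

theorem t9_26_5 : jobs 8 S9 b8_26 j9_26_5 = true := by decide +kernel

noncomputable def j9_26_6 : List Job := [
  ⟨56, 0x43e1d0d8642e15098441e0d058240e0501, 0, 1, 0x201, []⟩]

theorem t9_26_6 : jobs 8 S9 b8_26 j9_26_6 = true := by decide +kernel

noncomputable def j9_26_7 : List Job := [
  ⟨55, 0x609068643a21128c46e01028442a29168e47c3e1d0d8642e15098441e0d058240e0501, 0, 4, 0x201000401000601, []⟩]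

theorem t9_26_7 : jobs 8 S9 b8_26 j9_26_7 = true := by decide +kernel

noncomputable def j9_26_8 : List Job := [
  ⟨54, 0x605048543221168c47e01068443a25148d4743e1d0d8642e15098441e0d058240e0501, 0, 2, 0x201, []⟩]

theorem t9_26_8 : jobs 8 S9 b8_26 j9_26_8 = true := by decide +kernel

noncomputable def j9_26_9 : List Job := [
  ⟨53, 0x43e1d0d8642e15098441e0d058240e0501, 0, 1, 0x201, []⟩]

theorem t9_26_9 : jobs 8 S9 b8_26 j9_26_9 = true := by decide +kernel

noncomputable def j9_26_10 : List Job := [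
  ⟨52, 0x43e1d0d8642e15098441e0d058240e0501, 0, 3, 0x201000401000601, []⟩]

theorem t9_26_10 : jobs 8 S9 b8_26 j9_26_10 = true := by decide +kernel

noncomputable def j9_26_11 : List Job := [
  ⟨51, 0x605048543221168c47e01068443a25148d4743e1d0d8642e15098441e0d058240e0501, 0, 2, 0x201, []⟩]

theorem t9_26_11 : jobs 8 S9 b8_26 j9_26_11 = true := by decide +kernel

noncomputable def j9_26_12 : List Job := [
  ⟨50, 0x43e1d0d8642e15098441e0d058240e0501, 0, 1, 0x201, []⟩]

theorem t9_26_12 : jobs 8 S9 b8_26 j9_26_12 = true := by decide +kernel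

noncomputable def j9_26_13 : List Job := [
  ⟨49, 0x43e1d0d8642e15098441e0d058240e0501, 0, 1, 0x201, []⟩]

theorem t9_26_13 : jobs 8 S9 b8_26 j9_26_13 = true := by decide +kernel

noncomputable def j9_26_14 : List Job := [
  ⟨48, 0x609068442a29168c46e01028643a21128e47c3e1d0d8642e15098441e0d058240e0501, 0, 1, 0x201, []⟩]

theorem t9_26_14 : jobs 8 S9 b8_26 j9_26_14 = true := by decide +kernel

noncomputable def j9_26_15 : List Job := [
  ⟨47, 0x4502a160b8703a1e0fc40221209860321a0dc3e1d0d8642e15098441e0d058240e0501, 0, 1, 0x201, []⟩]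

theorem t9_26_15 : jobs 8 S9 b8_26 j9_26_15 = true := by decide +kernel

noncomputable def j9_26_16 : List Job := [
  ⟨46, 0x4502a160b8703a1e0fc40221209860321a0dc3e1d0d8642e15098441e0d058240e0501, 0, 1, 0x201, []⟩]

theorem t9_26_16 : jobs 8 S9 b8_26 j9_26_16 = true := by decide +kernel

noncomputable def j9_26_17 : List Job := [
  ⟨45, 0x4502a160b8703a1e0fc40221209860321a0dc3e1d0d8642e15098441e0d058240e0501, 0, 1, 0x201, []⟩]

theorem t9_26_17 : jobs 8 S9 b8_26 j9_26_17 = true := by decide +kernel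

noncomputable def j9_26_18 : List Job := [
  ⟨44, 0x4502a160b8703a1e0fc40221209860321a0dc3e1d0d8642e15098441e0d058240e0501, 0, 2, 0x201000401, []⟩]

theorem t9_26_18 : jobs 8 S9 b8_26 j9_26_18 = true := by decide +kernel

noncomputable def j9_26_19 : List Job := [
  ⟨43, 0x4502a160b8703a1e0fc40221209860321a0dc3e1d0d8642e15098441e0d058240e0501, 0, 1, 0x201, []⟩]

theorem t9_26_19 : jobs 8 S9 b8_26 j9_26_19 = true := by decide +kernel

noncomputable def j9_26_20 : List Job := [
  ⟨42, 0x4502a160b8703a1e0fc40221209860321a0dc3e1d0d8642e15098441e0d058240e0501, 0, 1, 0x201, []⟩]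

theorem t9_26_20 : jobs 8 S9 b8_26 j9_26_20 = true := by decide +kernel

noncomputable def j9_26_21 : List Job := [
  ⟨41, 0x4502a160b8703a1e0fc40221209860321a0dc3e1d0d8642e15098441e0d058240e0501, 0, 6, 0x201000601000a01, []⟩]

theorem t9_26_21 : jobs 8 S9 b8_26 j9_26_21 = true := by decide +kernel

noncomputable def j9_26_22 : List Job := [
  ⟨40, 0x43e1d0d8642e15098441e0d058240e0501, 0, 1, 0x201, []⟩]

theorem t9_26_22 : jobs 8 S9 b8_26 j9_26_22 = true := by decide +kernel

noncomputable def j9_26_23 : List Job := [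
  ⟨38, 0x43e1d0d8642e15098441e0d058240e0501, 0, 1, 0x201, []⟩]

theorem t9_26_23 : jobs 8 S9 b8_26 j9_26_23 = true := by decide +kernel

noncomputable def j9_26_24 : List Job := [
  ⟨37, 0x43e1d0d8642e15098441e0d058240e0501, 0, 1, 0x201, []⟩]

theorem t9_26_24 : jobs 8 S9 b8_26 j9_26_24 = true := by decide +kernel

noncomputable def j9_26_25 : List Job := [
  ⟨36, 0x43e1d0d8642e15098441e0d058240e0501, 0, 1, 0x201, []⟩]

theorem t9_26_25 : jobs 8 S9 b8_26 j9_26_25 = true := by decide +kernel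

noncomputable def j9_26_26 : List Job := [
  ⟨35, 0x43e1d0d8642e15098441e0d058240e0501, 0, 1, 0x201, []⟩]

theorem t9_26_26 : jobs 8 S9 b8_26 j9_26_26 = true := by decide +kernel

noncomputable def j9_26_27 : List Job := [
  ⟨34, 0x43e1d0d8642e15098441e0d058240e0501, 0, 1, 0x201, []⟩]

theorem t9_26_27 : jobs 8 S9 b8_26 j9_26_27 = true := by decide +kernel

noncomputable def j9_26_28 : List Job := [
  ⟨32, 0x4502a160b8703a1e0fc40221209860321a0dc3e1d0d8642e15098441e0d058240e0501, 0, 2, 0x201, []⟩]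

theorem t9_26_28 : jobs 8 S9 b8_26 j9_26_28 = true := by decide +kernel

noncomputable def j9_26_29 : List Job := [
  ⟨31, 0x4502a160b8703a1e0fc40221209860321a0dc3e1d0d8642e15098441e0d058240e0501, 0, 1, 0x201, []⟩]

theorem t9_26_29 : jobs 8 S9 b8_26 j9_26_29 = true := by decide +kernel

noncomputable def j9_26_30 : List Job := [
  ⟨30, 0x4502a160b8703a1e0fc40221209860321a0dc3e1d0d8642e15098441e0d058240e0501, 0, 5, 0x201000401000601000a01, []⟩]

theorem t9_26_30 : jobs 8 S9 b8_26 j9_26_30 = true := by decide +kernel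

noncomputable def j9_26_31 : List Job := [
  ⟨29, 0x4502a160b8703a1e0fc40221209860321a0dc3e1d0d8642e15098441e0d058240e0501, 0, 4, 0x200000401000610000810, [(0, ⟨2371, 0x112014e00140004800180009008100020000001, 0x184250842401048080a⟩)]⟩]

theorem t9_26_31 : jobs 8 S9 b8_26 j9_26_31 = true := by decide +kernel

noncomputable def j9_26_32 : List Job := [
  ⟨28, 0x4502a160b8703a1e0fc40221209860321a0dc3e1d0d8642e15098441e0d058240e0501, 0, 4, 0x200000401000610000810, [(0, ⟨2370, 0x116014e00160045402080009000100420020001, 0x186258a43a01040080a⟩)]⟩]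

theorem t9_26_32 : jobs 8 S9 b8_26 j9_26_32 = true := by decide +kernel

noncomputable def j9_26_33 : List Job := [
  ⟨27, 0x4502a160b8703a1e0fc40221209860321a0dc3e1d0d8642e15098441e0d058240e0501, 0, 4, 0x200000401000610000810, [(0, ⟨2369, 0x104014800930047402180101000100420020001, 0x182208ac38010480808⟩)]⟩]

theorem t9_26_33 : jobs 8 S9 b8_26 j9_26_33 = true := by decide +kernel

noncomputable def j9_26_34 : List Job := [
  ⟨26, 0x4904a26138a0522a15c804222118b05a2e17c502a160b8703a1e0fc40221209860321a0dc3e1d0d8642e15098441e0d058240e0501, 0, 8, 0x201000a01000e01, []⟩]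

theorem t9_26_34 : jobs 8 S9 b8_26 j9_26_34 = true := by decide +kernel

noncomputable def j9_26_35 : List Job := [
  ⟨25, 0x4904a26138a0522a15c804222118b05a2e17c4826140a868361c0ec4022160b860321e0fc3e1d0d8642e15098441e0d058240e0501, 0, 5, 0x201000601000801, []⟩]

theorem t9_26_35 : jobs 8 S9 b8_26 j9_26_35 = true := by decide +kernel

noncomputable def j9_26_36 : List Job := [
  ⟨24, 0x43e1d0d8642e15098441e0d058240e0501, 0, 1, 0x201, []⟩]

theorem t9_26_36 : jobs 8 S9 b8_26 j9_26_36 = true := by decide +kernel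

noncomputable def j9_26_37 : List Job := [
  ⟨23, 0x43e1d0d8642e15098441e0d058240e0501, 0, 1, 0x201, []⟩]

theorem t9_26_37 : jobs 8 S9 b8_26 j9_26_37 = true := by decide +kernel

noncomputable def j9_26_38 : List Job := [
  ⟨22, 0x4c466341b0e0743d1fcc064351b8e4763c1f4a0522a158b05a2e17c804222118904a2613c3e1d0d8642e15098441e0d058240e0501, 0, 5, 0x201000601000a01, []⟩]

theorem t9_26_38 : jobs 8 S9 b8_26 j9_26_38 = true := by decide +kernel

noncomputable def j9_26_39 : List Job := [
  ⟨21, 0x4884626138a0522c16c804224128a8562e17c502a160b8703a1e0fc40221209860321a0dc3e1d0d8642e15098441e0d058240e0501, 0, 5, 0x201000601000a01, []⟩]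

theorem t9_26_39 : jobs 8 S9 b8_26 j9_26_39 = true := by decide +kernel

noncomputable def j9_26_40 : List Job := [
  ⟨20, 0x4884626138a0522c16c804224128a8562e17c502a160b8703a1e0fc40221209860321a0dc3e1d0d8642e15098441e0d058240e0501, 0, 8, 0x201000601000a01, []⟩]

theorem t9_26_40 : jobs 8 S9 b8_26 j9_26_40 = true := by decide +kernel

noncomputable def j9_26_41 : List Job := [
  ⟨19, 0x4884626138a0522c16c804224128a8562e17c502a160b8703a1e0fc40221209860321a0dc3e1d0d8642e15098441e0d058240e0501, 0, 5, 0x200000401000600000801000a03, [(2, ⟨2367, 0x11c004d001380464021c0001008400028020001, 0x188278b82c020480c08⟩), (0, ⟨2366, 0x10a0043009080458021c0001008400428020001, 0x18d2389034020480c08⟩)]⟩]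

theorem t9_26_41 : jobs 8 S9 b8_26 j9_26_41 = true := by decide +kernel

noncomputable def j9_26_42 : List Job := [
  ⟨18, 0x4884626138a0522c16c804224128a8562e17c502a160b8703a1e0fc40221209860321a0dc3e1d0d8642e15098441e0d058240e0501, 0, 7, 0x201000401000601000e01, []⟩]

theorem t9_26_42 : jobs 8 S9 b8_26 j9_26_42 = true := by decide +kernel

noncomputable def j9_26_43 : List Job := [
  ⟨16, 0x43e1d0d8642e15098441e0d058240e0501, 0, 2, 0x201000401, []⟩]

theorem t9_26_43 : jobs 8 S9 b8_26 j9_26_43 = true := by decide +kernel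

noncomputable def j9_26_44 : List Job := [
  ⟨15, 0x4884624128a8562c16c804226138a0522e17c3e1d0d8642e15098441e0d058240e0501, 0, 2, 0x201000401, []⟩]

theorem t9_26_44 : jobs 8 S9 b8_26 j9_26_44 = true := by decide +kernel

noncomputable def j9_26_45 : List Job := [
  ⟨14, 0x4844425130a0562c17c804624138a4542d1743e1d0d8642e15098441e0d058240e0501, 0, 2, 0x201000401, []⟩]

theorem t9_26_45 : jobs 8 S9 b8_26 j9_26_45 = true := by decide +kernel

noncomputable def j9_26_46 : List Job := [
  ⟨12, 0x43e1d0d8642e15098441e0d058240e0501, 0, 1, 0x201, []⟩]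

theorem t9_26_46 : jobs 8 S9 b8_26 j9_26_46 = true := by decide +kernel

noncomputable def j9_26_47 : List Job := [
  ⟨11, 0x4884624128a8562c16c804226138a0522e17c3e1d0d8642e15098441e0d058240e0501, 0, 1, 0x201, []⟩]

theorem t9_26_47 : jobs 8 S9 b8_26 j9_26_47 = true := by decide +kernel

noncomputable def j9_26_48 : List Job := [
  ⟨10, 0x4844425130a0562c17c804624138a4542d1743e1d0d8642e15098441e0d058240e0501, 0, 2, 0x201000401, []⟩]

theorem t9_26_48 : jobs 8 S9 b8_26 j9_26_48 = true := by decide +kernel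

noncomputable def j9_26_49 : List Job := [
  ⟨9, 0x43e1d0d8642e15098441e0d058240e0501, 0, 2, 0x201000401, []⟩]

theorem t9_26_49 : jobs 8 S9 b8_26 j9_26_49 = true := by decide +kernel

noncomputable def j9_26_50 : List Job := [
  ⟨7, 0x4844425130a0562c17c804624138a4542d1743e1d0d8642e15098441e0d058240e0501, 0, 6, 0x201000401000601000801000a01, []⟩]

theorem t9_26_50 : jobs 8 S9 b8_26 j9_26_50 = true := by decide +kernel

noncomputable def j9_26_51 : List Job := [
  ⟨6, 0x4844425130a4542d174804624138a0562c17c3e1d0d8642e15098441e0d058240e0501, 0, 2, 0x201, []⟩]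

theorem t9_26_51 : jobs 8 S9 b8_26 j9_26_51 = true := by decide +kernel

noncomputable def j9_26_52 : List Job := [
  ⟨3, 0x4844424138a0562d174804625130a4542c17c3e1d0d8642e15098441e0d058240e0501, 0, 2, 0x201000401, []⟩]

theorem t9_26_52 : jobs 8 S9 b8_26 j9_26_52 = true := by decide +kernel

noncomputable def j9_26_53 : List Job := [
  ⟨2, 0x4844425130a4542d174804624138a0562c17c3e1d0d8642e15098441e0d058240e0501, 0, 2, 0x201000401, []⟩]

theorem t9_26_53 : jobs 8 S9 b8_26 j9_26_53 = true := by decide +kernel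

theorem d9_26 : Dn 8 S9 b8_26 := dn_of (Js := j9_26_0 ++ (j9_26_1 ++ (j9_26_2 ++ (j9_26_3 ++ (j9_26_4 ++ (j9_26_5 ++ (j9_26_6 ++ (j9_26_7 ++ (j9_26_8 ++ (j9_26_9 ++ (j9_26_10 ++ (j9_26_11 ++ (j9_26_12 ++ (j9_26_13 ++ (j9_26_14 ++ (j9_26_15 ++ (j9_26_16 ++ (j9_26_17 ++ (j9_26_18 ++ (j9_26_19 ++ (j9_26_20 ++ (j9_26_21 ++ (j9_26_22 ++ (j9_26_23 ++ (j9_26_24 ++ (j9_26_25 ++ (j9_26_26 ++ (j9_26_27 ++ (j9_26_28 ++ (j9_26_29 ++ (j9_26_30 ++ (j9_26_31 ++ (j9_26_32 ++ (j9_26_33 ++ (j9_26_34 ++ (j9_26_35 ++ (j9_26_36 ++ (j9_26_37 ++ (j9_26_38 ++ (j9_26_39 ++ (j9_26_40 ++ (j9_26_41 ++ (j9_26_42 ++ (j9_26_43 ++ (j9_26_44 ++ (j9_26_45 ++ (j9_26_46 ++ (j9_26_47 ++ (j9_26_48 ++ (j9_26_49 ++ (j9_26_50 ++ (j9_26_51 ++ (j9_26_52 ++ (j9_26_53 ++ []))))))))))))))))))))))))))))))))))))))))))))))))))))))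
  (jobs_append t9_26_0 <| jobs_append t9_26_1 <| jobs_append t9_26_2 <| jobs_append t9_26_3 <| jobs_append t9_26_4 <| jobs_append t9_26_5 <| jobs_append t9_26_6 <| jobs_append t9_26_7 <| jobs_append t9_26_8 <| jobs_append t9_26_9 <| jobs_append t9_26_10 <| jobs_append t9_26_11 <| jobs_append t9_26_12 <| jobs_append t9_26_13 <| jobs_append t9_26_14 <| jobs_append t9_26_15 <| jobs_append t9_26_16 <| jobs_append t9_26_17 <| jobs_append t9_26_18 <| jobs_append t9_26_19 <| jobs_append t9_26_20 <| jobs_append t9_26_21 <| jobs_append t9_26_22 <| jobs_append t9_26_23 <| jobs_append t9_26_24 <| jobs_append t9_26_25 <| jobs_append t9_26_26 <| jobs_append t9_26_27 <| jobs_append t9_26_28 <| jobs_append t9_26_29 <| jobs_append t9_26_30 <| jobs_append t9_26_31 <| jobs_append t9_26_32 <| jobs_append t9_26_33 <| jobs_append t9_26_34 <| jobs_append t9_26_35 <| jobs_append t9_26_36 <| jobs_append t9_26_37 <| jobs_append t9_26_38 <| jobs_append t9_26_39 <| jobs_append t9_26_40 <| jobs_append t9_26_41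 <| jobs_append t9_26_42 <| jobs_append t9_26_43 <| jobs_append t9_26_44 <| jobs_append t9_26_45 <| jobs_append t9_26_46 <| jobs_append t9_26_47 <| jobs_append t9_26_48 <| jobs_append t9_26_49 <| jobs_append t9_26_50 <| jobs_append t9_26_51 <| jobs_append t9_26_52 <| jobs_append t9_26_53 <| List.forall_mem_nil _) (by decide +kernel)

noncomputable def j9_27_0 : List Job := [
  ⟨62, 0x43e1d0d8642e15098441e0d058240e0501, 0, 1, 0x201, []⟩]

theorem t9_27_0 : jobs 8 S9 b8_27 j9_27_0 = true := by decide +kernel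

noncomputable def j9_27_1 : List Job := [
  ⟨57, 0x43e1d0d8642e15098441e0d058240e0501, 0, 4, 0x201000401000601000801, []⟩]

theorem t9_27_1 : jobs 8 S9 b8_27 j9_27_1 = true := by decide +kernel

noncomputable def j9_27_2 : List Job := [
  ⟨56, 0x605048443a25148c47e01068543221168d4743e1d0d8642e15098441e0d058240e0501, 0, 2, 0x201, []⟩]

theorem t9_27_2 : jobs 8 S9 b8_27 j9_27_2 = true := by decide +kernel

noncomputable def j9_27_3 : List Job := [
  ⟨55, 0x43e1d0d8642e15098441e0d058240e0501, 0, 2, 0x201000401, []⟩]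

theorem t9_27_3 : jobs 8 S9 b8_27 j9_27_3 = true := by decide +kernel

noncomputable def j9_27_4 : List Job := [
  ⟨54, 0x4502a160b8703a1e0fc40221209860321a0dc3e1d0d8642e15098441e0d058240e0501, 0, 2, 0x201, []⟩]

theorem t9_27_4 : jobs 8 S9 b8_27 j9_27_4 = true := by decide +kernel

noncomputable def j9_27_5 : List Job := [
  ⟨53, 0x4502a160b8703a1e0fc40221209860321a0dc3e1d0d8642e15098441e0d058240e0501, 0, 2, 0x201, []⟩]

theorem t9_27_5 : jobs 8 S9 b8_27 j9_27_5 = true := by decide +kernel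

noncomputable def j9_27_6 : List Job := [
  ⟨52, 0x4502a160b8703a1e0fc40221209860321a0dc3e1d0d8642e15098441e0d058240e0501, 0, 2, 0x201, []⟩]

theorem t9_27_6 : jobs 8 S9 b8_27 j9_27_6 = true := by decide +kernel

noncomputable def j9_27_7 : List Job := [
  ⟨51, 0x43e1d0d8642e15098441e0d058240e0501, 0, 1, 0x201, []⟩]

theorem t9_27_7 : jobs 8 S9 b8_27 j9_27_7 = true := by decide +kernel

noncomputable def j9_27_8 : List Job := [
  ⟨50, 0x7c5e4f57b3e5f4fd7f7c1e6f47bbe1f6fc7fc3e1d0d8642e15098441e0d058240e0501, 0, 6, 0x401000801000a01, []⟩]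

theorem t9_27_8 : jobs 8 S9 b8_27 j9_27_8 = true := by decide +kernel

noncomputable def j9_27_9 : List Job := [
  ⟨49, 0x43e1d0d8642e15098441e0d058240e0501, 0, 1, 0x201, []⟩]

theorem t9_27_9 : jobs 8 S9 b8_27 j9_27_9 = true := by decide +kernel

noncomputable def j9_27_10 : List Job := [
  ⟨47, 0x43e1d0d8642e15098441e0d058240e0501, 0, 1, 0x201, []⟩]

theorem t9_27_10 : jobs 8 S9 b8_27 j9_27_10 = true := by decide +kernel

noncomputable def j9_27_11 : List Job := [
  ⟨46, 0x4502a160b8703a1e0fc40221209860321a0dc3e1d0d8642e15098441e0d058240e0501, 0, 6, 0x201000401000601000a01000c01, []⟩]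

theorem t9_27_11 : jobs 8 S9 b8_27 j9_27_11 = true := by decide +kernel

noncomputable def j9_27_12 : List Job := [
  ⟨45, 0x4502a160b8703a1e0fc40221209860321a0dc3e1d0d8642e15098441e0d058240e0501, 0, 1, 0x201, []⟩]

theorem t9_27_12 : jobs 8 S9 b8_27 j9_27_12 = true := by decide +kernel

noncomputable def j9_27_13 : List Job := [
  ⟨44, 0x4502a160b8703a1e0fc40221209860321a0dc3e1d0d8642e15098441e0d058240e0501, 0, 1, 0x201, []⟩]

theorem t9_27_13 : jobs 8 S9 b8_27 j9_27_13 = true := by decide +kernel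

noncomputable def j9_27_14 : List Job := [
  ⟨43, 0x4502a160b8703a1e0fc40221209860321a0dc3e1d0d8642e15098441e0d058240e0501, 0, 1, 0x201, []⟩]

theorem t9_27_14 : jobs 8 S9 b8_27 j9_27_14 = true := by decide +kernel

noncomputable def j9_27_15 : List Job := [
  ⟨42, 0x43e1d0d8642e15098441e0d058240e0501, 0, 1, 0x201, []⟩]

theorem t9_27_15 : jobs 8 S9 b8_27 j9_27_15 = true := by decide +kernel

noncomputable def j9_27_16 : List Job := [
  ⟨41, 0x605068443225168c47601048543a21148d47c3e1d0d8642e15098441e0d058240e0501, 0, 5, 0x201000601000801000a01, []⟩]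

theorem t9_27_16 : jobs 8 S9 b8_27 j9_27_16 = true := by decide +kernel

noncomputable def j9_27_17 : List Job := [
  ⟨40, 0x43e1d0d8642e15098441e0d058240e0501, 0, 1, 0x201, []⟩]

theorem t9_27_17 : jobs 8 S9 b8_27 j9_27_17 = true := by decide +kernel

noncomputable def j9_27_18 : List Job := [
  ⟨39, 0x43e1d0d8642e15098441e0d058240e0501, 0, 1, 0x201, []⟩]

theorem t9_27_18 : jobs 8 S9 b8_27 j9_27_18 = true := by decide +kernel

noncomputable def j9_27_19 : List Job := [
  ⟨38, 0x605068443225168c47601048543a21148d47c3e1d0d8642e15098441e0d058240e0501, 0, 1, 0x201, []⟩]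

theorem t9_27_19 : jobs 8 S9 b8_27 j9_27_19 = true := by decide +kernel

noncomputable def j9_27_20 : List Job := [
  ⟨35, 0x605068443225168c47601048543a21148d47c3e1d0d8642e15098441e0d058240e0501, 0, 4, 0x201000401000601, []⟩]

theorem t9_27_20 : jobs 8 S9 b8_27 j9_27_20 = true := by decide +kernel

noncomputable def j9_27_21 : List Job := [
  ⟨34, 0x4502a160b8703a1e0fc40221209860321a0dc3e1d0d8642e15098441e0d058240e0501, 0, 1, 0x201, []⟩]

theorem t9_27_21 : jobs 8 S9 b8_27 j9_27_21 = true := by decide +kernel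

noncomputable def j9_27_22 : List Job := [
  ⟨33, 0x4502a160b8703a1e0fc40221209860321a0dc3e1d0d8642e15098441e0d058240e0501, 0, 2, 0x201, []⟩]

theorem t9_27_22 : jobs 8 S9 b8_27 j9_27_22 = true := by decide +kernel

noncomputable def j9_27_23 : List Job := [
  ⟨32, 0x4502a160b8703a1e0fc40221209860321a0dc3e1d0d8642e15098441e0d058240e0501, 0, 2, 0x201, []⟩]

theorem t9_27_23 : jobs 8 S9 b8_27 j9_27_23 = true := by decide +kernel

noncomputable def j9_27_24 : List Job := [
  ⟨31, 0x4502a160b8703a1e0fc40221209860321a0dc3e1d0d8642e15098441e0d058240e0501, 0, 1, 0x201, []⟩]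

theorem t9_27_24 : jobs 8 S9 b8_27 j9_27_24 = true := by decide +kernel

noncomputable def j9_27_25 : List Job := [
  ⟨30, 0x4502a160b8703a1e0fc40221209860321a0dc3e1d0d8642e15098441e0d058240e0501, 0, 2, 0x201, []⟩]

theorem t9_27_25 : jobs 8 S9 b8_27 j9_27_25 = true := by decide +kernel

noncomputable def j9_27_26 : List Job := [
  ⟨28, 0x43e1d0d8642e15098441e0d058240e0501, 0, 1, 0x201, []⟩]

theorem t9_27_26 : jobs 8 S9 b8_27 j9_27_26 = true := by decide +kernel

noncomputable def j9_27_27 : List Job := [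
  ⟨27, 0x43e1d0d8642e15098441e0d058240e0501, 0, 1, 0x201, []⟩]

theorem t9_27_27 : jobs 8 S9 b8_27 j9_27_27 = true := by decide +kernel

noncomputable def j9_27_28 : List Job := [
  ⟨26, 0x43e1d0d8642e15098441e0d058240e0501, 0, 3, 0x201000401000601, []⟩]

theorem t9_27_28 : jobs 8 S9 b8_27 j9_27_28 = true := by decide +kernel

noncomputable def j9_27_29 : List Job := [
  ⟨25, 0x43e1d0d8642e15098441e0d058240e0501, 0, 1, 0x201, []⟩]

theorem t9_27_29 : jobs 8 S9 b8_27 j9_27_29 = true := by decide +kernel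

noncomputable def j9_27_30 : List Job := [
  ⟨24, 0x43e1d0d8642e15098441e0d058240e0501, 0, 1, 0x201, []⟩]

theorem t9_27_30 : jobs 8 S9 b8_27 j9_27_30 = true := by decide +kernel

noncomputable def j9_27_31 : List Job := [
  ⟨22, 0x605048543221168c47e01068443a25148d4743e1d0d8642e15098441e0d058240e0501, 0, 1, 0x201, []⟩]

theorem t9_27_31 : jobs 8 S9 b8_27 j9_27_31 = true := by decide +kernel

noncomputable def j9_27_32 : List Job := [
  ⟨21, 0x605048443a25148c47e01068543221168d4743e1d0d8642e15098441e0d058240e0501, 0, 5, 0x201000601000801000a01, []⟩]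

theorem t9_27_32 : jobs 8 S9 b8_27 j9_27_32 = true := by decide +kernel

noncomputable def j9_27_33 : List Job := [
  ⟨20, 0x7c5e6f47b3e1f4fd7ffc1e4f57bbe5f6fc7f43e1d0d8642e15098441e0d058240e0501, 0, 2, 0x401, []⟩]

theorem t9_27_33 : jobs 8 S9 b8_27 j9_27_33 = true := by decide +kernel

noncomputable def j9_27_34 : List Job := [
  ⟨19, 0x43e1d0d8642e15098441e0d058240e0501, 0, 1, 0x201, []⟩]

theorem t9_27_34 : jobs 8 S9 b8_27 j9_27_34 = true := by decide +kernel

noncomputable def j9_27_35 : List Job := [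
  ⟨18, 0x4502a160b8703a1e0fc40221209860321a0dc3e1d0d8642e15098441e0d058240e0501, 0, 1, 0x201, []⟩]

theorem t9_27_35 : jobs 8 S9 b8_27 j9_27_35 = true := by decide +kernel

noncomputable def j9_27_36 : List Job := [
  ⟨17, 0x43e1d0d8642e15098441e0d058240e0501, 0, 1, 0x201, []⟩]

theorem t9_27_36 : jobs 8 S9 b8_27 j9_27_36 = true := by decide +kernel

noncomputable def j9_27_37 : List Job := [
  ⟨16, 0x6110a8643a21128a45e01028241a311a8e47c3e1d0d8642e15098441e0d058240e0501, 0, 2, 0x201, []⟩]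

theorem t9_27_37 : jobs 8 S9 b8_27 j9_27_37 = true := by decide +kernel

noncomputable def j9_27_38 : List Job := [
  ⟨15, 0x6110a8643a21128a45e01028241a311a8e47c3e1d0d8642e15098441e0d058240e0501, 0, 2, 0x201, []⟩]

theorem t9_27_38 : jobs 8 S9 b8_27 j9_27_38 = true := by decide +kernel

noncomputable def j9_27_39 : List Job := [
  ⟨13, 0x6110a8643a21128a45e01028241a311a8e47c3e1d0d8642e15098441e0d058240e0501, 0, 4, 0x201000401000601, []⟩]

theorem t9_27_39 : jobs 8 S9 b8_27 j9_27_39 = true := by decide +kernel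

noncomputable def j9_27_40 : List Job := [
  ⟨12, 0x43e1d0d8642e15098441e0d058240e0501, 0, 1, 0x201, []⟩]

theorem t9_27_40 : jobs 8 S9 b8_27 j9_27_40 = true := by decide +kernel

noncomputable def j9_27_41 : List Job := [
  ⟨11, 0x43e1d0d8642e15098441e0d058240e0501, 0, 1, 0x201, []⟩]

theorem t9_27_41 : jobs 8 S9 b8_27 j9_27_41 = true := by decide +kernel

noncomputable def j9_27_42 : List Job := [
  ⟨10, 0x6110a8643a21128a45e01028241a311a8e47c3e1d0d8642e15098441e0d058240e0501, 0, 4, 0x201000601000801, []⟩]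

theorem t9_27_42 : jobs 8 S9 b8_27 j9_27_42 = true := by decide +kernel

noncomputable def j9_27_43 : List Job := [
  ⟨8, 0x6110a8643a21128a45e01028241a311a8e47c3e1d0d8642e15098441e0d058240e0501, 0, 2, 0x201, []⟩]

theorem t9_27_43 : jobs 8 S9 b8_27 j9_27_43 = true := by decide +kernel

noncomputable def j9_27_44 : List Job := [
  ⟨7, 0x6110a8643a21128a45e01028241a311a8e47c3e1d0d8642e15098441e0d058240e0501, 0, 2, 0x201, []⟩]

theorem t9_27_44 : jobs 8 S9 b8_27 j9_27_44 = true := by decide +kernel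

noncomputable def j9_27_45 : List Job := [
  ⟨5, 0x6110a8643a21128a45e01028241a311a8e47c3e1d0d8642e15098441e0d058240e0501, 0, 1, 0x201, []⟩]

theorem t9_27_45 : jobs 8 S9 b8_27 j9_27_45 = true := by decide +kernel

noncomputable def j9_27_46 : List Job := [
  ⟨3, 0x4502a160b8703a1e0fc40221209860321a0dc3e1d0d8642e15098441e0d058240e0501, 0, 2, 0x201, []⟩]

theorem t9_27_46 : jobs 8 S9 b8_27 j9_27_46 = true := by decide +kernel

noncomputable def j9_27_47 : List Job := [
  ⟨2, 0x4502a160b8703a1e0fc40221209860321a0dc3e1d0d8642e15098441e0d058240e0501, 0, 2, 0x201000401, []⟩]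

theorem t9_27_47 : jobs 8 S9 b8_27 j9_27_47 = true := by decide +kernel

noncomputable def j9_27_48 : List Job := [
  ⟨1, 0x4502a160b8703a1e0fc40221209860321a0dc3e1d0d8642e15098441e0d058240e0501, 0, 2, 0x201, []⟩]

theorem t9_27_48 : jobs 8 S9 b8_27 j9_27_48 = true := by decide +kernel

noncomputable def j9_27_49 : List Job := [
  ⟨0, 0x4502a160b8703a1e0fc40221209860321a0dc3e1d0d8642e15098441e0d058240e0501, 0, 2, 0x201000401, []⟩]

theorem t9_27_49 : jobs 8 S9 b8_27 j9_27_49 = true := by decide +kernel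

theorem d9_27 : Dn 8 S9 b8_27 := dn_of (Js := j9_27_0 ++ (j9_27_1 ++ (j9_27_2 ++ (j9_27_3 ++ (j9_27_4 ++ (j9_27_5 ++ (j9_27_6 ++ (j9_27_7 ++ (j9_27_8 ++ (j9_27_9 ++ (j9_27_10 ++ (j9_27_11 ++ (j9_27_12 ++ (j9_27_13 ++ (j9_27_14 ++ (j9_27_15 ++ (j9_27_16 ++ (j9_27_17 ++ (j9_27_18 ++ (j9_27_19 ++ (j9_27_20 ++ (j9_27_21 ++ (j9_27_22 ++ (j9_27_23 ++ (j9_27_24 ++ (j9_27_25 ++ (j9_27_26 ++ (j9_27_27 ++ (j9_27_28 ++ (j9_27_29 ++ (j9_27_30 ++ (j9_27_31 ++ (j9_27_32 ++ (j9_27_33 ++ (j9_27_34 ++ (j9_27_35 ++ (j9_27_36 ++ (j9_27_37 ++ (j9_27_38 ++ (j9_27_39 ++ (j9_27_40 ++ (j9_27_41 ++ (j9_27_42 ++ (j9_27_43 ++ (j9_27_44 ++ (j9_27_45 ++ (j9_27_46 ++ (j9_27_47 ++ (j9_27_48 ++ (j9_27_49 ++ []))))))))))))))))))))))))))))))))))))))))))))))))))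
  (jobs_append t9_27_0 <| jobs_append t9_27_1 <| jobs_append t9_27_2 <| jobs_append t9_27_3 <| jobs_append t9_27_4 <| jobs_append t9_27_5 <| jobs_append t9_27_6 <| jobs_append t9_27_7 <| jobs_append t9_27_8 <| jobs_append t9_27_9 <| jobs_append t9_27_10 <| jobs_append t9_27_11 <| jobs_append t9_27_12 <| jobs_append t9_27_13 <| jobs_append t9_27_14 <| jobs_append t9_27_15 <| jobs_append t9_27_16 <| jobs_append t9_27_17 <| jobs_append t9_27_18 <| jobs_append t9_27_19 <| jobs_append t9_27_20 <| jobs_append t9_27_21 <| jobs_append t9_27_22 <| jobs_append t9_27_23 <| jobs_append t9_27_24 <| jobs_append t9_27_25 <| jobs_append t9_27_26 <| jobs_append t9_27_27 <| jobs_append t9_27_28 <| jobs_append t9_27_29 <| jobs_append t9_27_30 <| jobs_append t9_27_31 <| jobs_append t9_27_32 <| jobs_append t9_27_33 <| jobs_append t9_27_34 <| jobs_append t9_27_35 <| jobs_append t9_27_36 <| jobs_append t9_27_37 <| jobs_append t9_27_38 <| jobs_append t9_27_39 <| jobs_append t9_27_40 <| jobs_append t9_27_41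 <| jobs_append t9_27_42 <| jobs_append t9_27_43 <| jobs_append t9_27_44 <| jobs_append t9_27_45 <| jobs_append t9_27_46 <| jobs_append t9_27_47 <| jobs_append t9_27_48 <| jobs_append t9_27_49 <| List.forall_mem_nil _) (by decide +kernel)

noncomputable def j9_28_0 : List Job := [
  ⟨63, 0x6110a8643a21128a45e01028241a311a8e47c3e1d0d8642e15098441e0d058240e0501, 0, 55, 0x208001e08002008003e18004019004618004801006601006801006a01006c01006e01, []⟩]

theorem t9_28_0 : jobs 8 S9 b8_28 j9_28_0 = true := by decide +kernel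

noncomputable def j9_28_1 : List Job := [
  ⟨62, 0x43e1d0d8642e15098441e0d058240e0501, 0, 46, 0x210000410001e10002010002211003810003a19003c10003e18004008004210004409, []⟩]

theorem t9_28_1 : jobs 8 S9 b8_28 j9_28_1 = true := by decide +kernel

noncomputable def j9_28_2 : List Job := [
  ⟨61, 0x6110a8643a311a8e47e01028241a21128a45c3e1d0d8642e15098441e0d058240e0501, 0, 57, 0x208001e18002019003e18004010004618004819004a18006a01006c01006e01007001007201, []⟩]

theorem t9_28_2 : jobs 8 S9 b8_28 j9_28_2 = true := by decide +kernel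

noncomputable def j9_28_3 : List Job := [
  ⟨60, 0x4cc6c3b1f4c86e3a1fcc468391e4c06a381ec984e2e17c904a2c16c88462a15c80422814c3e1d0d8642e15098441e0d058240e0501, 0, 54, 0x210000410001e18003810003a10003c08003e08004008004219004408005e01006201006601006a01, []⟩]

theorem t9_28_3 : jobs 8 S9 b8_28 j9_28_3 = true := by decide +kernel

noncomputable def j9_28_4 : List Job := [
  ⟨59, 0x6110a8643a21128a45e01028241a311a8e47ccc6e3a1f4c86c3b1fcc46a381e4c068391eca8562e17ca0522c16c88462613c80422412c3e1d0d8642e15098441e0d058240e0501, 0, 125, 0x210004601006210006e01007001007201007401007e11008010008211008610008811008a1000b61000b81900be1000c01100c21000ee0100f20100fa01, []⟩]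

theorem t9_28_4 : jobs 8 S9 b8_28 j9_28_4 = true := by decide +kernel

noncomputable def j9_28_5 : List Job := [
  ⟨58, 0x4cc6c3b1f4c86e3a1fcc468391e4c06a381ec984e2e17c904a2c16c88462a15c80422814c3e1d0d8642e15098441e0d058240e0501, 0, 75, 0x210000409001e08003808003a19003c08003e18004008004209004408007201007401007601007801007a08007c08008c01008e01009001009208009408, []⟩]

theorem t9_28_5 : jobs 8 S9 b8_28 j9_28_5 = true := by decide +kernel

noncomputable def j9_28_6 : List Job := [
  ⟨57, 0x6110a8643a311a8e47e01028241a21128a45ccc6e3a1f4c86c3b1fcc46a381e4c068391eca8562e17ca0522c16c88462613c80422412c3e1d0d8642e15098441e0d058240e0501, 0, 94, 0x1608003401003601003801003a18004610004810007018007210007a10007c19008201008401009e1000a01000aa0100b40100ba01, []⟩]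

theorem t9_28_6 : jobs 8 S9 b8_28 j9_28_6 = true := by decide +kernel

noncomputable def j9_28_7 : List Job := [
  ⟨56, 0x4984e2e17c904a2c16c88462a15c80422814c3e1d0d8642e15098441e0d058240e0501, 0, 46, 0x208000409001a08001c09003a10003c09003e08004008004209004409, []⟩]

theorem t9_28_7 : jobs 8 S9 b8_28 j9_28_7 = true := by decide +kernel

noncomputable def j9_28_8 : List Job := [
  ⟨55, 0x6110a8643a311a8e47e01028241a21128a45ca8562e17ca0522c16c88462613c80422412c3e1d0d8642e15098441e0d058240e0501, 0, 57, 0x208001e08003e18004019004618004819004a18006a01006c01006e01007001007201, []⟩]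

theorem t9_28_8 : jobs 8 S9 b8_28 j9_28_8 = true := by decide +kernel

noncomputable def j9_28_9 : List Job := [
  ⟨54, 0x4984e2e17c904a2c16c88462a15c80422814c3e1d0d8642e15098441e0d058240e0501, 0, 36, 0x208000409001a08001c09004218004410004619004810, []⟩]

theorem t9_28_9 : jobs 8 S9 b8_28 j9_28_9 = true := by decide +kernel

noncomputable def j9_28_10 : List Job := [
  ⟨53, 0x6110a8643a311a8e47e01028241a21128a45ca8562e17ca0522c16c88462613c80422412c3e1d0d8642e15098441e0d058240e0501, 0, 45, 0x208001e08004610004818004e01005001005201005401005601005801005a01, []⟩]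

theorem t9_28_10 : jobs 8 S9 b8_28 j9_28_10 = true := by decide +kernel

noncomputable def j9_28_11 : List Job := [
  ⟨52, 0x44c2e1b0fc482c1a0f4442a190ec4028180e43e1d0d8642e15098441e0d058240e0501, 0, 36, 0x218, []⟩]

theorem t9_28_11 : jobs 8 S9 b8_28 j9_28_11 = true := by decide +kernel

noncomputable def j9_28_12 : List Job := [
  ⟨51, 0x6110a8643a311a8e47e01028241a21128a45c4c2e1b0fc482c1a0f4442a190ec4028180e43e1d0d8642e15098441e0d058240e0501, 0, 47, 0x210000a10002c01005800005a01005c10005e01, [(43, ⟨1587, 0x4100049000500046000810010100010004100000001, 0x1882308824020082008⟩)]⟩]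

theorem t9_28_12 : jobs 8 S9 b8_28 j9_28_12 = true := by decide +kernel

noncomputable def j9_28_13 : List Job := [
  ⟨50, 0x4cc6c3b1f4c86e3a1fcc468391e4c06a381ecb85f2c16ca8572814c984f2412c88472010c4c2e1b0fc482c1a0f4442a190ec4028180e43e1d0d8642e15098441e0d058240e0501, 0, 86, 0x218001a18002208002808002a08003008006201007001007601007e01008a01009001009801009c0100a40100aa01, []⟩]

theorem t9_28_13 : jobs 8 S9 b8_28 j9_28_13 = true := by decide +kernel

noncomputable def j9_28_14 : List Job := [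
  ⟨49, 0x43e1d0d8642e15098441e0d058240e0501, 0, 42, 0x210000410003210003410003610003810003a10003c18003e18004010004201, []⟩]

theorem t9_28_14 : jobs 8 S9 b8_28 j9_28_14 = true := by decide +kernel

noncomputable def j9_28_15 : List Job := [
  ⟨48, 0x43e1d0d8642e15098441e0d058240e0501, 0, 53, 0x1610001810001a01001c01003610003810003a18003c18003e01004001005a01005c01005e01006001006801006a01, []⟩]

theorem t9_28_15 : jobs 8 S9 b8_28 j9_28_15 = true := by decide +kernel

noncomputable def j9_28_16 : List Job := [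
  ⟨47, 0x4783f1c0ec6837180cc582f140ac48271008c3e1d0d8642e15098441e0d058240e0501, 0, 61, 0x210000410004210004410004610004801004a10004e08005208005610005a09005e11006211007001007201007401007601007801007a01, []⟩]

theorem t9_28_16 : jobs 8 S9 b8_28 j9_28_16 = true := by decide +kernel

noncomputable def j9_28_17 : List Job := [
  ⟨46, 0x6311a8e47e21128a45e110a8643e01028241c3e1d0d8642e15098441e0d058240e0501, 0, 69, 0x1608001809001a01001c08001e01002001004018004219006401006601006801006a01007401007601007808007a01007c01007e01008001008201008801, []⟩]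

theorem t9_28_17 : jobs 8 S9 b8_28 j9_28_17 = true := by decide +kernel

noncomputable def j9_28_18 : List Job := [
  ⟨45, 0x621128a45a311a8e47e01028241a110a8643c783f1c0ec6837180cc582f140ac48271008c3e1d0d8642e15098441e0d058240e0501, 0, 79, 0x210000410000610004a10004c01005200005401005601005801005a01005c01005e10006211006611006a10006e11007211007610007a10008a01008c01009201009600009c01009e01, [(74, ⟨1524, 0x83001460002c000180000400002000080000100000001, 0x185260a824020401002⟩), (40, ⟨1523, 0x860004e000240011c0010400102001080000100100001, 0x18c270a034020401002⟩)]⟩]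

theorem t9_28_18 : jobs 8 S9 b8_28 j9_28_18 = true := by decide +kernel

noncomputable def j9_28_19 : List Job := [
  ⟨44, 0x4c866361b8e8763e1fcc062341a8e0723c1ec884626138a8562e17c804224128a0522c16c3e1d0d8642e15098441e0d058240e0501, 0, 74, 0x210000410001810001e10003610003810003a10003c08005c01007201007e01008001, []⟩]

theorem t9_28_19 : jobs 8 S9 b8_28 j9_28_19 = true := by decide +kernel

noncomputable def j9_28_20 : List Job := [
  ⟨43, 0x4c866361b8e8763e1fcc062341a8e0723c1ec884626138a8562e17c804224128a0522c16c3e1d0d8642e15098441e0d058240e0501, 0, 75, 0x208000408003610003809003a18004e01005001009401009601, []⟩]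

theorem t9_28_20 : jobs 8 S9 b8_28 j9_28_20 = true := by decide +kernel

noncomputable def j9_28_21 : List Job := [
  ⟨42, 0x4984e2a15c904a2814c88462e17c80422c16c3e1d0d8642e15098441e0d058240e0501, 0, 80, 0x208000409003610003810003a10003c08003e10004010004210004410004610006001008601008801009e0100a001, []⟩]

theorem t9_28_21 : jobs 8 S9 b8_28 j9_28_21 = true := by decide +kernel

noncomputable def j9_28_22 : List Job := [
  ⟨41, 0x4984e2e17c904a2c16c88462a15c80422814c3e1d0d8642e15098441e0d058240e0501, 0, 79, 0x210000409003610003808003a10003c08003e10004010004218004410005e01008401008601009c01009e01, []⟩]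

theorem t9_28_22 : jobs 8 S9 b8_28 j9_28_22 = true := by decide +kernel

noncomputable def j9_28_23 : List Job := [
  ⟨40, 0x544a6552b964b65d2fd40a4542b160b45c2f504864523924964d27d00844423120944c274984e2a15c904a2814c88462e17c80422c16c3e1d0d8642e15098441e0d058240e0501, 0, 105, 0x210000409003a10004001004610004810004a10004c18006801007601008001008601008c0100b60100d00100d201, []⟩]

theorem t9_28_23 : jobs 8 S9 b8_28 j9_28_23 = true := by decide +kernel

noncomputable def j9_28_24 : List Job := [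
  ⟨39, 0x544a6552b964b65d2fd40a4542b160b45c2f504864523924964d27d00844423120944c274984e2e17c904a2c16c88462a15c80422814c3e1d0d8642e15098441e0d058240e0501, 0, 137, 0x210000409002e01003001006e10007410007a01007c01007e01008001008201008401008801008a01009210009410009610009810009a1000b40100ce0100ec0100fc01010001010201011001011201, []⟩]

theorem t9_28_24 : jobs 8 S9 b8_28 j9_28_24 = true := by decide +kernel

noncomputable def j9_28_25 : List Job := [
  ⟨38, 0x5148e4925d108c4825504864d27d00844c274984e2a15c904a2814c88462e17c80422c16c3e1d0d8642e15098441e0d058240e0501, 0, 70, 0x210000409004801004a01005001005801005a01005c01005e01, []⟩]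

theorem t9_28_25 : jobs 8 S9 b8_28 j9_28_25 = true := by decide +kernel

noncomputable def j9_28_26 : List Job := [
  ⟨37, 0x5148e4d27d108c4c27504864925d008448254984e2e17c904a2c16c88462a15c80422814c3e1d0d8642e15098441e0d058240e0501, 0, 90, 0x1410001609001801001a01004401004601007201007401008a01008c01008e01009401009e0100a00100ae0100b00100b401, []⟩]

theorem t9_28_26 : jobs 8 S9 b8_28 j9_28_26 = true := by decide +kernel

noncomputable def j9_28_27 : List Job := [
  ⟨36, 0x508864623928964e27d00824422920924c26c904a26138b05a2e17c804222118a0522a15c783f1c0ec6837180cc582f140ac48271008c3e1d0d8642e15098441e0d058240e0501, 0, 97, 0x210002610002801004a10004e11005211005610005a10005e11006210006601006801006e0100920100ae0100b40100b80100bc01, []⟩]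

theorem t9_28_27 : jobs 8 S9 b8_28 j9_28_27 = true := by decide +kernel

noncomputable def j9_28_28 : List Job := [
  ⟨35, 0x504864523924964d27d00844423120944c2746c3f1a0f4643b180e44c2f120b4442b100a43e1d0d8642e15098441e0d058240e0501, 0, 79, 0x200000401003808003a01004010004210004418005e01008401009c01009e01, [(0, ⟨1501, 0x4f8004c000600005000030010500218000100000001, 0x19f210c42203008240a⟩)]⟩]

theorem t9_28_28 : jobs 8 S9 b8_28 j9_28_28 = true := by decide +kernel

noncomputable def j9_28_29 : List Job := [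
  ⟨34, 0x508864623928964e27d00824422920924c26cd46c3c1fcd06e3d1f4c464381dcc066391d4944e2d17c904c2c17484462915c804428154783f1c0ec6837180cc582f140ac48271008c3e1d0d8642e15098441e0d058240e0501, 0, 163, 0x200000401003800003a01004000004210004400005e0c006a0c006e0d007a0d007e01008e01009401009601009a01009c01009e0100a60100ce0100ea0100ec0100ee0100f80100fc01010001010401010801011001011201011600011801012001012401012601012a01012e0d013c01014601, [(138, ⟨1500, 0x12600048000980000400000a001030000480000400200001, 0x194218c020030481402⟩), (33, ⟨1498, 0x132000450001e0000600000a001030008480040400000001, 0x191240e426030481402⟩), (31, ⟨1497, 0x12e000450009d0004400020a000030000480000400000001, 0x19d240d820030481402⟩), (27, ⟨1499, 0x12e001450009d0000400000a001030008480000400000001, 0x19d240d820030481402⟩), (0, ⟨1496, 0x12e000450009d0004400000a001030008480000400000001, 0x19d240d820030481402⟩)]⟩]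

theorem t9_28_29 : jobs 8 S9 b8_28 j9_28_29 = true := by decide +kernel

noncomputable def j9_28_30 : List Job := [
  ⟨33, 0x504864523924964d27d00844423120944c2746c3f1a0f4643b180e44c2f120b4442b100a43e1d0d8642e15098441e0d058240e0501, 0, 121, 0x210000401000600000810000a00000c10000e10002808002a01002c10002e08003010003201003400003810005c01005e01008801008a01008e0100900100b20100b40100b80100ba0100c40100c60100d60100da0100ee0100f201, [(25, ⟨1495, 0x840014000023000110000200001001080010400000001, 0x181200b028020082008⟩), (4, ⟨1494, 0x97000480002a0011d0000600101000080000400000001, 0x19b210ac2e020082408⟩), (2, ⟨1493, 0x9d00040000230001d0000600101000080010400100001, 0x190200b42e020082408⟩)]⟩]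

theorem t9_28_30 : jobs 8 S9 b8_28 j9_28_30 = true := by decide +kernel

noncomputable def j9_28_31 : List Job := [
  ⟨32, 0x508864623928964e27d00824422920924c26cd46e3c1f4d06c3d1fcc466381d4c064391dc944e2d17c904c2c17484462915c804428154783f1c0ec6837180cc582f140ac48271008c3e1d0d8642e15098441e0d058240e0501, 103, 105, 0xd40100e00100e40100ea0100f401012001012401012c01015401017201017a01018001018801019401019801, []⟩]

theorem t9_28_31 : jobs 8 S9 b8_28 j9_28_31 = true := by decide +kernel

noncomputable def j9_28_32 : List Job := [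
  ⟨32, 0x508864623928964e27d00824422920924c26cd46e3c1f4d06c3d1fcc466381d4c064391dc944e2d17c904c2c17484462915c804428154783f1c0ec6837180cc582f140ac48271008c3e1d0d8642e15098441e0d058240e0501, 0, 103, 0x210000600000a10000e11001200002e10003401003e10004611004e00007a0100a80100ac0100b41400bc1100c41000cc15, [(38, ⟨1492, 0x12a00148000140000440020a000020008400000400000001, 0x1992108822020481002⟩), (8, ⟨1491, 0x12a00048000140000440000a001020008400000400000001, 0x1992108822020481002⟩), (2, ⟨1490, 0x12a00048000950000440000a000020008400040400000001, 0x1992109822020481002⟩)]⟩]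

theorem t9_28_32 : jobs 8 S9 b8_28 j9_28_32 = true := by decide +kernel

noncomputable def j9_28_33 : List Job := [
  ⟨31, 0x548a6562b968b65e2fd40a2542a960b25c2ed08864623928964e27d00824422920924c26cb05a2e17ca0522a15c904a2613c80422211c3e1d0d8642e15098441e0d058240e0501, 0, 188, 0x210000810000a11000c01000e10001010001211001410003a01003c01007010007610007c10007e0200801000820200840100880100ca1000d01000e20100e41400e814011401011601011801011c10011e11012401012601014c01, []⟩]

theorem t9_28_33 : jobs 8 S9 b8_28 j9_28_33 = true := by decide +kernel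

noncomputable def j9_28_34 : List Job := [
  ⟨30, 0x528964e27d20924c26d08864623d00824422cb05a2e17ca0522a15c904a2613c80422211c3e1d0d8642e15098441e0d058240e0501, 0, 118, 0x210000411000611000810000a10000c11000e10002810002a10003801003a0100921000cc0100ce01, []⟩]

theorem t9_28_34 : jobs 8 S9 b8_28 j9_28_34 = true := by decide +kernel

noncomputable def j9_28_35 : List Job := [
  ⟨29, 0x64526954ba65369d4fe4124944b261349c4f605068543a25168d47e01048443221148c47528964e27d20924c26d08864623d00824422cb05a2e17ca0522a15c904a2613c80422211c3e1d0d8642e15098441e0d058240e0501, 0, 183, 0x1410001611001801001a10001c01001e01002010002201002801005010005210007a01008e0100d40100d60100d80100e80100ee0100f80100fa01012e01013201013801014001014801014c01015c01016c01016e01, []⟩]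

theorem t9_28_35 : jobs 8 S9 b8_28 j9_28_35 = true := by decide +kernel

noncomputable def j9_28_36 : List Job := [
  ⟨25, 0x43e1d0d8642e15098441e0d058240e0501, 0, 1, 0x201, []⟩]

theorem t9_28_36 : jobs 8 S9 b8_28 j9_28_36 = true := by decide +kernel

noncomputable def j9_28_37 : List Job := [
  ⟨24, 0x43e1d0d8642e15098441e0d058240e0501, 0, 1, 0x201, []⟩]

theorem t9_28_37 : jobs 8 S9 b8_28 j9_28_37 = true := by decide +kernel

noncomputable def j9_28_38 : List Job := [
  ⟨21, 0x43e1d0d8642e15098441e0d058240e0501, 0, 1, 0x200, [(0, ⟨2375, 0x80004400270114000e0103010a0102010001, 0x180250b83403050040a⟩)]⟩]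

theorem t9_28_38 : jobs 8 S9 b8_28 j9_28_38 = true := by decide +kernel

noncomputable def j9_28_39 : List Job := [
  ⟨19, 0x43e1d0d8642e15098441e0d058240e0501, 0, 1, 0x201, []⟩]

theorem t9_28_39 : jobs 8 S9 b8_28 j9_28_39 = true := by decide +kernel

noncomputable def j9_28_40 : List Job := [
  ⟨18, 0x43e1d0d8642e15098441e0d058240e0501, 0, 1, 0x201, []⟩]

theorem t9_28_40 : jobs 8 S9 b8_28 j9_28_40 = true := by decide +kernel

noncomputable def j9_28_41 : List Job := [
  ⟨17, 0x4884624128a8562c16c804226138a0522e17c3e1d0d8642e15098441e0d058240e0501, 0, 5, 0x200000401000801000a01, [(0, ⟨2374, 0x10a0045001400478021c0103000400408020001, 0x18e270883002058040a⟩)]⟩]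

theorem t9_28_41 : jobs 8 S9 b8_28 j9_28_41 = true := by decide +kernel

noncomputable def j9_28_42 : List Job := [
  ⟨16, 0x43e1d0d8642e15098441e0d058240e0501, 0, 1, 0x201, []⟩]

theorem t9_28_42 : jobs 8 S9 b8_28 j9_28_42 = true := by decide +kernel

noncomputable def j9_28_43 : List Job := [
  ⟨15, 0x43e1d0d8642e15098441e0d058240e0501, 0, 1, 0x201, []⟩]

theorem t9_28_43 : jobs 8 S9 b8_28 j9_28_43 = true := by decide +kernel

noncomputable def j9_28_44 : List Job := [
  ⟨14, 0x43e1d0d8642e15098441e0d058240e0501, 0, 1, 0x200, [(0, ⟨2373, 0x87004b0120001e010e010b01080102000001, 0x18d220803002058040e⟩)]⟩]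

theorem t9_28_44 : jobs 8 S9 b8_28 j9_28_44 = true := by decide +kernel

noncomputable def j9_28_45 : List Job := [
  ⟨12, 0x43e1d0d8642e15098441e0d058240e0501, 0, 2, 0x201000401, []⟩]

theorem t9_28_45 : jobs 8 S9 b8_28 j9_28_45 = true := by decide +kernel

noncomputable def j9_28_46 : List Job := [
  ⟨11, 0x4884626138a0522c16c804224128a8562e17c3e1d0d8642e15098441e0d058240e0501, 0, 1, 0x201, []⟩]

theorem t9_28_46 : jobs 8 S9 b8_28 j9_28_46 = true := by decide +kernel

noncomputable def j9_28_47 : List Job := [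
  ⟨10, 0x43e1d0d8642e15098441e0d058240e0501, 0, 2, 0x201000401, []⟩]

theorem t9_28_47 : jobs 8 S9 b8_28 j9_28_47 = true := by decide +kernel

noncomputable def j9_28_48 : List Job := [
  ⟨9, 0x43e1d0d8642e15098441e0d058240e0501, 0, 1, 0x201, []⟩]

theorem t9_28_48 : jobs 8 S9 b8_28 j9_28_48 = true := by decide +kernel

noncomputable def j9_28_49 : List Job := [
  ⟨8, 0x43e1d0d8642e15098441e0d058240e0501, 0, 2, 0x201000401, []⟩]

theorem t9_28_49 : jobs 8 S9 b8_28 j9_28_49 = true := by decide +kernel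

noncomputable def j9_28_50 : List Job := [
  ⟨7, 0x4884626138a0522c16c804224128a8562e17c3e1d0d8642e15098441e0d058240e0501, 0, 2, 0x201000401, []⟩]

theorem t9_28_50 : jobs 8 S9 b8_28 j9_28_50 = true := by decide +kernel

noncomputable def j9_28_51 : List Job := [
  ⟨6, 0x43e1d0d8642e15098441e0d058240e0501, 0, 1, 0x200, [(0, ⟨2372, 0x8c014100200018000c010300080002000001, 0x188228802402050040a⟩)]⟩]

theorem t9_28_51 : jobs 8 S9 b8_28 j9_28_51 = true := by decide +kernel

noncomputable def j9_28_52 : List Job := [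
  ⟨5, 0x4884624128a8562c16c804226138a0522e17c3e1d0d8642e15098441e0d058240e0501, 0, 5, 0x201000601000801000a01, []⟩]

theorem t9_28_52 : jobs 8 S9 b8_28 j9_28_52 = true := by decide +kernel

noncomputable def j9_28_53 : List Job := [
  ⟨3, 0x43e1d0d8642e15098441e0d058240e0501, 0, 1, 0x201, []⟩]

theorem t9_28_53 : jobs 8 S9 b8_28 j9_28_53 = true := by decide +kernel

noncomputable def j9_28_54 : List Job := [
  ⟨2, 0x43e1d0d8642e15098441e0d058240e0501, 0, 1, 0x201, []⟩]

theorem t9_28_54 : jobs 8 S9 b8_28 j9_28_54 = true := by decide +kernel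

noncomputable def j9_28_55 : List Job := [
  ⟨1, 0x43e1d0d8642e15098441e0d058240e0501, 0, 1, 0x201, []⟩]

theorem t9_28_55 : jobs 8 S9 b8_28 j9_28_55 = true := by decide +kernel

noncomputable def j9_28_56 : List Job := [
  ⟨0, 0x43e1d0d8642e15098441e0d058240e0501, 0, 1, 0x201, []⟩]

theorem t9_28_56 : jobs 8 S9 b8_28 j9_28_56 = true := by decide +kernel

theorem d9_28 : Dn 8 S9 b8_28 := dn_of (Js := j9_28_0 ++ (j9_28_1 ++ (j9_28_2 ++ (j9_28_3 ++ (j9_28_4 ++ (j9_28_5 ++ (j9_28_6 ++ (j9_28_7 ++ (j9_28_8 ++ (j9_28_9 ++ (j9_28_10 ++ (j9_28_11 ++ (j9_28_12 ++ (j9_28_13 ++ (j9_28_14 ++ (j9_28_15 ++ (j9_28_16 ++ (j9_28_17 ++ (j9_28_18 ++ (j9_28_19 ++ (j9_28_20 ++ (j9_28_21 ++ (j9_28_22 ++ (j9_28_23 ++ (j9_28_24 ++ (j9_28_25 ++ (j9_28_26 ++ (j9_28_27 ++ (j9_28_28 ++ (j9_28_29 ++ (j9_28_30 ++ (j9_28_31 ++ (j9_28_32 ++ (j9_28_33 ++ (j9_28_34 ++ (j9_28_35 ++ (j9_28_36 ++ (j9_28_37 ++ (j9_28_38 ++ (j9_28_39 ++ (j9_28_40 ++ (j9_28_41 ++ (j9_28_42 ++ (j9_28_43 ++ (j9_28_44 ++ (j9_28_45 ++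 (j9_28_46 ++ (j9_28_47 ++ (j9_28_48 ++ (j9_28_49 ++ (j9_28_50 ++ (j9_28_51 ++ (j9_28_52 ++ (j9_28_53 ++ (j9_28_54 ++ (j9_28_55 ++ (j9_28_56 ++ [])))))))))))))))))))))))))))))))))))))))))))))))))))))))))
  (jobs_append t9_28_0 <| jobs_append t9_28_1 <| jobs_append t9_28_2 <| jobs_append t9_28_3 <| jobs_append t9_28_4 <| jobs_append t9_28_5 <| jobs_append t9_28_6 <| jobs_append t9_28_7 <| jobs_append t9_28_8 <| jobs_append t9_28_9 <| jobs_append t9_28_10 <| jobs_append t9_28_11 <| jobs_append t9_28_12 <| jobs_append t9_28_13 <| jobs_append t9_28_14 <| jobs_append t9_28_15 <| jobs_append t9_28_16 <| jobs_append t9_28_17 <| jobs_append t9_28_18 <| jobs_append t9_28_19 <| jobs_append t9_28_20 <| jobs_append t9_28_21 <| jobs_append t9_28_22 <| jobs_append t9_28_23 <| jobs_append t9_28_24 <| jobs_append t9_28_25 <| jobs_append t9_28_26 <| jobs_append t9_28_27 <| jobs_append t9_28_28 <| jobs_append t9_28_29 <| jobs_append t9_28_30 <| jobs_append t9_28_31 <| jobs_append t9_28_32 <| jobs_append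 t9_28_33 <| jobs_append t9_28_34 <| jobs_append t9_28_35 <| jobs_append t9_28_36 <| jobs_append t9_28_37 <| jobs_append t9_28_38 <| jobs_append t9_28_39 <| jobs_append t9_28_40 <| jobs_append t9_28_41 <| jobs_append t9_28_42 <| jobs_append t9_28_43 <| jobs_append t9_28_44 <| jobs_append t9_28_45 <| jobs_append t9_28_46 <| jobs_append t9_28_47 <| jobs_append t9_28_48 <| jobs_append t9_28_49 <| jobs_append t9_28_50 <| jobs_append t9_28_51 <| jobs_append t9_28_52 <| jobs_append t9_28_53 <| jobs_append t9_28_54 <| jobs_append t9_28_55 <| jobs_append t9_28_56 <| List.forall_mem_nil _) (by decide +kernel)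

noncomputable def j9_29_0 : List Job := [
  ⟨63, 0x6110a8643a21128a45e01028241a311a8e47c3e1d0d8642e15098441e0d058240e0501, 0, 38, 0x210000410001e08002019, []⟩]

theorem t9_29_0 : jobs 8 S9 b8_29 j9_29_0 = true := by decide +kernel

noncomputable def j9_29_1 : List Job := [
  ⟨62, 0x5c4e4753b1e4f47d3f5c0e6743b9e0f67c3fd04864523924964d27d00844423120944c2743e1d0d8642e15098441e0d058240e0501, 0, 60, 0x210000419001a18001c19001e08002008005e01006c01006e01007401007601, []⟩]

theorem t9_29_1 : jobs 8 S9 b8_29 j9_29_1 = true := by decide +kernel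

noncomputable def j9_29_2 : List Job := [
  ⟨61, 0x6110a8643a21128a45e01028241a311a8e47dc4e4753b1e4f47d3f5c0e6743b9e0f67c3fd04864523924964d27d00844423120944c2743e1d0d8642e15098441e0d058240e0501, 0, 62, 0x208001e10002019007201007801007a01, []⟩]

theorem t9_29_2 : jobs 8 S9 b8_29 j9_29_2 = true := by decide +kernel

noncomputable def j9_29_3 : List Job := [
  ⟨60, 0x43e1d0d8642e15098441e0d058240e0501, 0, 36, 0x208000409001a10001c19001e10002018004208004410004608004808, []⟩]

theorem t9_29_3 : jobs 8 S9 b8_29 j9_29_3 = true := by decide +kernel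

noncomputable def j9_29_4 : List Job := [
  ⟨59, 0x621128a45a311a8e47e01028241a110a8643c3e1d0d8642e15098441e0d058240e0501, 0, 38, 0x210001e08002008004618004818, []⟩]

theorem t9_29_4 : jobs 8 S9 b8_29 j9_29_4 = true := by decide +kernel

noncomputable def j9_29_5 : List Job := [
  ⟨58, 0x5c4e4753b1e4f47d3f5c0e6743b9e0f67c3fd04864523924964d27d00844423120944c2743e1d0d8642e15098441e0d058240e0501, 0, 36, 0x210000410001a10001c19001e10002018004218004419, []⟩]

theorem t9_29_5 : jobs 8 S9 b8_29 j9_29_5 = true := by decide +kernel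

noncomputable def j9_29_6 : List Job := [
  ⟨57, 0x6110a8643a311a8e47e01028241a21128a45dc4e4753b1e4f47d3f5c0e6743b9e0f67c3fd04864523924964d27d00844423120944c2743e1d0d8642e15098441e0d058240e0501, 0, 110, 0x218002e18003010005618005818006601006c0100760100780100ae0100da01, []⟩]

theorem t9_29_6 : jobs 8 S9 b8_29 j9_29_6 = true := by decide +kernel

noncomputable def j9_29_7 : List Job := [
  ⟨56, 0x4f07a3e1fce0723a1dcd06a361bcc0623219c3e1d0d8642e15098441e0d058240e0501, 0, 61, 0x210000410001a10002010006c01007010007610, []⟩]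

theorem t9_29_7 : jobs 8 S9 b8_29 j9_29_7 = true := by decide +kernel

noncomputable def j9_29_8 : List Job := [
  ⟨55, 0x621128a45a311a8e47e01028241a110a8643cf07a3e1fce0723a1dcd06a361bcc0623219c3e1d0d8642e15098441e0d058240e0501, 0, 66, 0x212000413001e12007201007a10007e10, []⟩]

theorem t9_29_8 : jobs 8 S9 b8_29 j9_29_8 = true := by decide +kernel

noncomputable def j9_29_9 : List Job := [
  ⟨54, 0x588c664329a8d66c36d80c266339a0d26e37d08864623928964e27d00824422920924c26cf07a3e1fce0723a1dcd06a361bcc0623219c3e1d0d8642e15098441e0d058240e0501, 0, 97, 0x202000403001a02002003005e01007201007401007601009201009401009c0100a01000a61000ae0100b20100b60100ba01, []⟩]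

theorem t9_29_9 : jobs 8 S9 b8_29 j9_29_9 = true := by decide +kernel

noncomputable def j9_29_10 : List Job := [
  ⟨53, 0x621128a45a311a8e47e01028241a110a8643d88c664329a8d66c36d80c266339a0d26e37d08864623928964e27d00824422920924c26cf07a3e1fce0723a1dcd06a361bcc0623219c3e1d0d8642e15098441e0d058240e0501, 0, 110, 0x1601004010006e01007001007a01009801009c0100b00100b40100be1000c41000c61000cc1000d00100da01, []⟩]

theorem t9_29_10 : jobs 8 S9 b8_29 j9_29_10 = true := by decide +kernel

noncomputable def j9_29_11 : List Job := [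
  ⟨52, 0x4b45f2c174a45728154944f241348447201143e1d0d8642e15098441e0d058240e0501, 0, 61, 0x210000410001a10001c10002212002413002613002812003213003412003612003813007001007201007401007601007801007a01, []⟩]

theorem t9_29_11 : jobs 8 S9 b8_29 j9_29_11 = true := by decide +kernel

noncomputable def j9_29_12 : List Job := [
  ⟨51, 0x621128a45a311a8e47e01028241a110a8643cb45f2c174a45728154944f241348447201143e1d0d8642e15098441e0d058240e0501, 0, 104, 0x212000413001e12002213002612002813002a13002c10003610003810003a13003c12007601007801007e01009601009a01, []⟩]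

theorem t9_29_12 : jobs 8 S9 b8_29 j9_29_12 = true := by decide +kernel

noncomputable def j9_29_13 : List Job := [
  ⟨50, 0x58cca6a36588c86b36d84ce6837580cc6937d0c8e4a275088c4b27d048a4826500884926cb45f2c174a45728154944f241348447201143e1d0d8642e15098441e0d058240e0501, 0, 97, 0x202000403001a02001c03002202002403002603002810005e01006e0100700100760100920100940100a00100a20100a80100b20100bc0100c001, []⟩]

theorem t9_29_13 : jobs 8 S9 b8_29 j9_29_13 = true := by decide +kernel

noncomputable def j9_29_14 : List Job := [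
  ⟨49, 0x4d46c3c1fcd06e3d1f4c464381dcc066391d43e1d0d8642e15098441e0d058240e0501, 0, 61, 0x202000403001a02002003004202004410004602004802006201006401006c01007010007610007801007a01, []⟩]

theorem t9_29_14 : jobs 8 S9 b8_29 j9_29_14 = true := by decide +kernel

noncomputable def j9_29_15 : List Job := [
  ⟨48, 0x621128a45a311a8e47e01028241a110a8643cd46c3c1fcd06e3d1f4c464381dcc066391d43e1d0d8642e15098441e0d058240e0501, 0, 66, 0x210001e10004610004810006601007201007a10007e10008201, []⟩]

theorem t9_29_15 : jobs 8 S9 b8_29 j9_29_15 = true := by decide +kernel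

noncomputable def j9_29_16 : List Job := [
  ⟨47, 0x588c664329a8d66c36d80c266339a0d26e37d08864623928964e27d00824422920924c26cd46c3c1fcd06e3d1f4c464381dcc066391d43e1d0d8642e15098441e0d058240e0501, 0, 61, 0x210000403001a10002010004210004410006c01007010007610007801, []⟩]

theorem t9_29_16 : jobs 8 S9 b8_29 j9_29_16 = true := by decide +kernel

noncomputable def j9_29_17 : List Job := [
  ⟨46, 0x621128a45a311a8e47e01028241a110a8643d88c664329a8d66c36d80c266339a0d26e37d08864623928964e27d00824422920924c26cd46c3c1fcd06e3d1f4c464381dcc066391d43e1d0d8642e15098441e0d058240e0501, 0, 154, 0x212002e12005612005812008e01009610009c10009e1000a41000a60100b00100b80100d60100d80100e60100e801, []⟩]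

theorem t9_29_17 : jobs 8 S9 b8_29 j9_29_17 = true := by decide +kernel

noncomputable def j9_29_18 : List Job := [
  ⟨45, 0x504864523924964d27d00844423120944c2743e1d0d8642e15098441e0d058240e0501, 0, 50, 0x210000410003c10003e10004011004810004a18004c10, []⟩]

theorem t9_29_18 : jobs 8 S9 b8_29 j9_29_18 = true := by decide +kernel

noncomputable def j9_29_19 : List Job := [
  ⟨44, 0x504864523924964d27d00844423120944c2743e1d0d8642e15098441e0d058240e0501, 0, 48, 0x210000410003c08003e09004418004610004810, []⟩]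

theorem t9_29_19 : jobs 8 S9 b8_29 j9_29_19 = true := by decide +kernel

noncomputable def j9_29_20 : List Job := [
  ⟨43, 0x524964d27d20944c27504864523d0084442343e1d0d8642e15098441e0d058240e0501, 0, 60, 0x210000410003c10003e10004011004810004a08004c10006601006801006a01006c01006e01007001007201007401007601007801, []⟩]

theorem t9_29_20 : jobs 8 S9 b8_29 j9_29_20 = true := by decide +kernel

noncomputable def j9_29_21 : List Job := [
  ⟨42, 0x5148e4d27d108c4c27504864925d0084482543e1d0d8642e15098441e0d058240e0501, 0, 78, 0x1a10001c10001e01002001006a18006c19007608007810007a10007c01007e01, []⟩]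

theorem t9_29_21 : jobs 8 S9 b8_29 j9_29_21 = true := by decide +kernel

noncomputable def j9_29_22 : List Job := [
  ⟨41, 0x43e1d0d8642e15098441e0d058240e0501, 0, 36, 0x208000408001a18001c10001e18002010004218004419004618004819, []⟩]

theorem t9_29_22 : jobs 8 S9 b8_29 j9_29_22 = true := by decide +kernel

noncomputable def j9_29_23 : List Job := [
  ⟨40, 0x5c4e4753b1e4f47d3f5c0e6743b9e0f67c3fd04864523924964d27d00844423120944c2743e1d0d8642e15098441e0d058240e0501, 0, 64, 0x218000419001a10001c18001e10002018004210004410006201006401007201007401007601007c01007e01, []⟩]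

theorem t9_29_23 : jobs 8 S9 b8_29 j9_29_23 = true := by decide +kernel

noncomputable def j9_29_24 : List Job := [
  ⟨39, 0x504864523924964d27d00844423120944c2743e1d0d8642e15098441e0d058240e0501, 0, 62, 0x210000411000610000800000a01000c10003010003201004c08004e09005401005601005a18005c11005e10007801007a01, [(3, ⟨1808, 0x49801410005a0007800870010100018000200080001, 0x1972209830010182808⟩)]⟩]

theorem t9_29_24 : jobs 8 S9 b8_29 j9_29_24 = true := by decide +kernel

noncomputable def j9_29_25 : List Job := [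
  ⟨38, 0x64926964ba61329c4ee4122944aa69369e4fe21128a45a311a8e47e01028241a110a8643d04864523924964d27d00844423120944c2743e1d0d8642e15098441e0d058240e0501, 0, 64, 0x208000401000800000a01000c08003008003201004c10005801005e18007c01, [(3, ⟨1807, 0x4d8014e002420047000870010100218004100000001, 0x19e2409024030082808⟩)]⟩]

theorem t9_29_25 : jobs 8 S9 b8_29 j9_29_25 = true := by decide +kernel

noncomputable def j9_29_26 : List Job := [
  ⟨37, 0x524964d27d20944c27504864523d0084442343e1d0d8642e15098441e0d058240e0501, 0, 64, 0x210000411000610000800000a00000c10003010003201004c18004e19005400005601005801005c08005e11006010007a00007c01007e01, [(60, ⟨1794, 0x438004c002400005400810000100008000200080001, 0x18e218802c010102008⟩), (41, ⟨1793, 0x438004c000400005400810010100008000200080001, 0x18e218802c010102008⟩), (4, ⟨1792, 0x4f0014a0024e0005400830000100008004200000001, 0x19e258b02c010102808⟩), (3, ⟨1791, 0x4f0014a0024e0005400830000100008004200000001, 0x19e258b02c010102808⟩)]⟩]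

theorem t9_29_26 : jobs 8 S9 b8_29 j9_29_26 = true := by decide +kernel

noncomputable def j9_29_27 : List Job := [
  ⟨36, 0x64926964ba61329c4ee4122944aa69369e4fe21128a45a311a8e47e01028241a110a8643d148e4d27d108c4c27504864925d0084482543e1d0d8642e15098441e0d058240e0501, 0, 112, 0x1a08001c01002201002600002800002a01002c08002e01006401006608006801006a01008a18009c00009e0100a00100a20100a80100aa1000b20100d40000d60100d80100da0100e001, [(105, ⟨1789, 0x9b0014c001210001a0010a00101001080010400000001, 0x1952189030020082808⟩), (77, ⟨1788, 0x950004400020000120000a00101000080000400100001, 0x19e2088034020082808⟩), (19, ⟨1787, 0x950014400120000120010a00101001080000400100001, 0x19e2088034020082808⟩), (18, ⟨1786, 0x950014400120000120010a00101001080000400100001, 0x19e2088034020082808⟩)]⟩]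

theorem t9_29_27 : jobs 8 S9 b8_29 j9_29_27 = true := by decide +kernel

noncomputable def j9_29_28 : List Job := [
  ⟨35, 0x6311a8e47e21128a45e110a8643e01028241c3e1d0d8642e15098441e0d058240e0501, 0, 46, 0x210000411000a10002408002608002c01002e01005008005209005801005a01005c01, []⟩]

theorem t9_29_28 : jobs 8 S9 b8_29 j9_29_28 = true := by decide +kernel

noncomputable def j9_29_29 : List Job := [
  ⟨34, 0x6311a8e47e21128a45e110a8643e01028241dc4e4753b1e4f47d3f5c0e6743b9e0f67c3fd04864523924964d27d00844423120944c2743e1d0d8642e15098441e0d058240e0501, 0, 86, 0x208000409000a00000c01002618002819002e01005208005a01005c01005e01006201008001009401009801009e0100a00100a40100a60100a80100ac01, [(4, ⟨1784, 0x800004000020000100000200001000080000400000001, 0x1802008020020082008⟩)]⟩]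

theorem t9_29_29 : jobs 8 S9 b8_29 j9_29_29 = true := by decide +kernel

noncomputable def j9_29_30 : List Job := [
  ⟨33, 0x5148e4925d108c4825504864d27d00844c274cc6c3a1fcc86e3b1f4c468381ecc06a391e43e1d0d8642e15098441e0d058240e0501, 0, 61, 0x208000409003e10004011004210004a08004c08004e08006801006a01006c01007601007801, []⟩]

theorem t9_29_30 : jobs 8 S9 b8_29 j9_29_30 = true := by decide +kernel

noncomputable def j9_29_31 : List Job := [
  ⟨32, 0x5148e4d27d108c4c27504864925d008448254cc6c3b1f4c86e3a1fcc468391e4c06a381ec3e1d0d8642e15098441e0d058240e0501, 0, 79, 0x208000409003001003201005210005419007201007401007608007810007a11009c01009e01, []⟩]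

theorem t9_29_31 : jobs 8 S9 b8_29 j9_29_31 = true := by decide +kernel

noncomputable def j9_29_32 : List Job := [
  ⟨31, 0x504864523924964d27d00844423120944c274a8562e17ca0522c16c88462613c80422412c3e1d0d8642e15098441e0d058240e0501, 0, 51, 0x208000409003e10004011004210004a08004c08004e08, []⟩]

theorem t9_29_32 : jobs 8 S9 b8_29 j9_29_32 = true := by decide +kernel

noncomputable def j9_29_33 : List Job := [
  ⟨30, 0x504864523924964d27d00844423120944c274a8562e17ca0522c16c88462613c80422412c3e1d0d8642e15098441e0d058240e0501, 0, 49, 0x208000409003e10004019004608004810004a11, []⟩]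

theorem t9_29_33 : jobs 8 S9 b8_29 j9_29_33 = true := by decide +kernel

noncomputable def j9_29_34 : List Job := [
  ⟨29, 0x4d86e3a1dcd06a381ccc8663e1fcc0623c1ec3e1d0d8642e15098441e0d058240e0501, 0, 36, 0x210000410001a10002010004218004408004608004819, []⟩]

theorem t9_29_34 : jobs 8 S9 b8_29 j9_29_34 = true := by decide +kernel

noncomputable def j9_29_35 : List Job := [
  ⟨28, 0x584c465331a4d46d37580c664339a0d66c37d04864523924964d27d00844423120944c274d86e3a1dcd06a381ccc8663e1fcc0623c1ec3e1d0d8642e15098441e0d058240e0501, 0, 64, 0x218000419001a18002019004218004419007a01007c01007e01, []⟩]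

theorem t9_29_35 : jobs 8 S9 b8_29 j9_29_35 = true := by decide +kernel

noncomputable def j9_29_36 : List Job := [
  ⟨27, 0x625168d47e21148c47605068543e01048443528964e27d20924c26d08864623d00824422c3e1d0d8642e15098441e0d058240e0501, 0, 90, 0x210000410000610000810000a10003010003210005412005c01005e01006001006410006613008c01008e01009001009401009601009801009a10009e1000a01000a81000aa1100b01000b210, []⟩]

theorem t9_29_36 : jobs 8 S9 b8_29 j9_29_36 = true := by decide +kernel

noncomputable def j9_29_37 : List Job := [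
  ⟨26, 0x625168d47e21148c47605068543e010484434d46e3c1f4d06c3d1fcc466381d4c064391dc3e1d0d8642e15098441e0d058240e0501, 0, 114, 0x210000411000a10000c10000e11001010001201002c10003210004801004a01006c10006e03007401007601007801009810009a1500a00100a81000aa0500ac0500ae0100ca0100ce1000d41000d60100d80100da1000de1000e01000e210, []⟩]

theorem t9_29_37 : jobs 8 S9 b8_29 j9_29_37 = true := by decide +kernel

noncomputable def j9_29_38 : List Job := [
  ⟨25, 0x625168d47e21148c47605068543e01048443588c664329a8d66c36d80c266339a0d26e37d08864623928964e27d00824422920924c26cd46e3c1f4d06c3d1fcc466381d4c064391dc3e1d0d8642e15098441e0d058240e0501, 0, 188, 0x210000411000a10001010003c10004210005e01008c1000980100a20100a40100aa0100ac0100cc1400d80100fe01010410013c01014210014811014e10015010015610015810015a10015c10015e10016210016a01016c01016e01017401017601, []⟩]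

theorem t9_29_38 : jobs 8 S9 b8_29 j9_29_38 = true := by decide +kernel

noncomputable def j9_29_39 : List Job := [
  ⟨24, 0x605068543a25168d47e01048443221148c475108a46239309a4e27d00824221920924a25ca4562d17ca0542c17484462513c804424134703a1e0fc60321a0dc502a160bc40221209c3e1d0d8642e15098441e0d058240e0501, 0, 157, 0x204001e04002201005a01005c01008601008801008a01009401009601009c0800a00800a40100aa0100c60100d80800dc0800e00800e40800f00100fa0100fc0000fe00010201010400010800010c01011c04011e01012401012801013001, [(131, ⟨1662, 0x1100014f0009080004000210001040008080040800000001, 0x1882788820080200404⟩), (129, ⟨1661, 0x1100014f0009080004000210001040008080040800000001, 0x1882788820080200404⟩), (126, ⟨1660, 0x90001840008880009400210001010000200040800200001, 0x1424405848080100408⟩), (125, ⟨1659, 0x90001840008880009400210001010000200040800200001, 0x1424405848080100408⟩)]⟩]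

theorem t9_29_39 : jobs 8 S9 b8_29 j9_29_39 = true := by decide +kernel

noncomputable def j9_29_40 : List Job := [
  ⟨23, 0x43e1d0d8642e15098441e0d058240e0501, 0, 46, 0x210000409001a10001c10001e10002010003a08003c09003e08004010004209004410, []⟩]

theorem t9_29_40 : jobs 8 S9 b8_29 j9_29_40 = true := by decide +kernel

noncomputable def j9_29_41 : List Job := [
  ⟨22, 0x6110a8643a311a8e47e01028241a21128a45c3e1d0d8642e15098441e0d058240e0501, 0, 52, 0x208001e10002018003e10004019004618004819004a18, []⟩]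

theorem t9_29_41 : jobs 8 S9 b8_29 j9_29_41 = true := by decide +kernel

noncomputable def j9_29_42 : List Job := [
  ⟨21, 0x44c2e1b0fc482c1a0f4442a190ec4028180e43e1d0d8642e15098441e0d058240e0501, 0, 61, 0x218006201007001007201007401007601007801007a01, []⟩]

theorem t9_29_42 : jobs 8 S9 b8_29 j9_29_42 = true := by decide +kernel

noncomputable def j9_29_43 : List Job := [
  ⟨20, 0x6110a8643a311a8e47e01028241a21128a45c4c2e1b0fc482c1a0f4442a190ec4028180e43e1d0d8642e15098441e0d058240e0501, 0, 79, 0x208000a10002c01005801005a01005c01005e01006001006601006a01006c01007a01007e01009e01, []⟩]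

theorem t9_29_43 : jobs 8 S9 b8_29 j9_29_43 = true := by decide +kernel

noncomputable def j9_29_44 : List Job := [
  ⟨19, 0x44c2e1b0fc482c1a0f4442a190ec4028180e43e1d0d8642e15098441e0d058240e0501, 0, 41, 0x210004a01004c01005001005201, []⟩]

theorem t9_29_44 : jobs 8 S9 b8_29 j9_29_44 = true := by decide +kernel

noncomputable def j9_29_45 : List Job := [
  ⟨18, 0x605068543a25168d47e01048443221148c474582e1e0fc502a1c0ec48261a0dc4022180cc3e1d0d8642e15098441e0d058240e0501, 0, 113, 0x210000a10000c10000e11001010007201007401007601007801009610009815009e0100a21000a40500a60500a80100aa0100c41000cc0100ce0100d00100d20100d40100d60100d80100dc0100de01, []⟩]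

theorem t9_29_45 : jobs 8 S9 b8_29 j9_29_45 = true := by decide +kernel

noncomputable def j9_29_46 : List Job := [
  ⟨17, 0x4d06a361b8f07a3e1fcc06232198e0723a1dc904a26138b05a2e17c804222118a0522a15c3e1d0d8642e15098441e0d058240e0501, 0, 46, 0x202000403001e10003c10003e10004011004212004412004610004810, []⟩]

theorem t9_29_46 : jobs 8 S9 b8_29 j9_29_46 = true := by decide +kernel

noncomputable def j9_29_47 : List Job := [
  ⟨16, 0x621128a45a311a8e47e01028241a110a8643cd06a361b8f07a3e1fcc06232198e0723a1dc904a26138b05a2e17c804222118a0522a15c3e1d0d8642e15098441e0d058240e0501, 0, 63, 0x212001e12004210004413004a02004c13006a01006c01007001007201007401007601007801007a01007e01, []⟩]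

theorem t9_29_47 : jobs 8 S9 b8_29 j9_29_47 = true := by decide +kernel

noncomputable def j9_29_48 : List Job := [
  ⟨15, 0x4b05a2e17ca0522a15c904a2613c80422211c3e1d0d8642e15098441e0d058240e0501, 0, 46, 0x212000413001a12001c13003a12003c10003e11004012004210004410, []⟩]

theorem t9_29_48 : jobs 8 S9 b8_29 j9_29_48 = true := by decide +kernel

noncomputable def j9_29_49 : List Job := [
  ⟨14, 0x605068543a21148c47601048443225168d47cb05a2e17ca0522a15c904a2613c80422211c3e1d0d8642e15098441e0d058240e0501, 0, 56, 0x210001e10003e10004010004602004801006600006a01006c00007001, [(53, ⟨1626, 0x420014c000420006c00020000200012000200080001, 0x1882488c2c010401006⟩), (50, ⟨1625, 0x47800470024e0047400820000200212000200080001, 0x18e278bc34010401006⟩)]⟩]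

theorem t9_29_49 : jobs 8 S9 b8_29 j9_29_49 = true := by decide +kernel

noncomputable def j9_29_50 : List Job := [
  ⟨13, 0x548a6562b968b65e2fd40a2542a960b25c2ed08864623928964e27d00824422920924c26cb05a2e17ca0522a15c904a2613c80422211c3e1d0d8642e15098441e0d058240e0501, 0, 54, 0x210000413001a10001c10003a10004012004210004413005e01006201006801006c01, []⟩]

theorem t9_29_50 : jobs 8 S9 b8_29 j9_29_50 = true := by decide +kernel

noncomputable def j9_29_51 : List Job := [
  ⟨12, 0x605068543a21148c47601048443225168d47d48a6562b968b65e2fd40a2542a960b25c2ed08864623928964e27d00824422920924c26cb05a2e17ca0522a15c904a2613c80422211c3e1d0d8642e15098441e0d058240e0501, 0, 132, 0x202002e02004e02005a02005c03005e02007e00008200008601008a00008c00009201009a0100a00100e60100ea0100ec0100ee0100f00100fc01, [(69, ⟨1624, 0x8f0014200021001100010400002000090010800100001, 0x18e2208c20010401006⟩), (68, ⟨1623, 0x86001490002e0011e0000400102001090010800000001, 0x18c210b43a010401006⟩), (64, ⟨1622, 0x8600042001210001e0000400002000090000800100001,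 0x18c2208c3a010401006⟩), (62, ⟨1621, 0x8600042001210001e0000400002000090000800100001, 0x18c2208c3a010401006⟩)]⟩]

theorem t9_29_51 : jobs 8 S9 b8_29 j9_29_51 = true := by decide +kernel

noncomputable def j9_29_52 : List Job := [
  ⟨11, 0x4b05a2e17ca0522a15c904a2613c80422211c3e1d0d8642e15098441e0d058240e0501, 0, 46, 0x210000410001a10001c10003a10003c11003e10004010004210004410, []⟩]

theorem t9_29_52 : jobs 8 S9 b8_29 j9_29_52 = true := by decide +kernel

noncomputable def j9_29_53 : List Job := [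
  ⟨10, 0x621128a45a311a8e47e01028241a110a8643cb05a2e17ca0522a15c904a2613c80422211c3e1d0d8642e15098441e0d058240e0501, 0, 58, 0x212001e12003e12004013004612004812004a13006a00006e01007000007401, [(55, ⟨1620, 0x438004a0025e0004800820010200202000200000001, 0x18e228bc28010401004⟩), (52, ⟨1619, 0x4000048002560046c00820010200002000200000001, 0x1802089c2e010401004⟩)]⟩]

theorem t9_29_53 : jobs 8 S9 b8_29 j9_29_53 = true := by decide +kernel

noncomputable def j9_29_54 : List Job := [
  ⟨9, 0x548a6562b968b65e2fd40a2542a960b25c2ed08864623928964e27d00824422920924c26cb05a2e17ca0522a15c904a2613c80422211c3e1d0d8642e15098441e0d058240e0501, 0, 75, 0x202000403001a02001c03003a02004002004202004403007201008201008401008601008a01008e01009001009401, []⟩]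

theorem t9_29_54 : jobs 8 S9 b8_29 j9_29_54 = true := by decide +kernel

noncomputable def j9_29_55 : List Job := [
  ⟨8, 0x621128a45a311a8e47e01028241a110a8643d48a6562b968b65e2fd40a2542a960b25c2ed08864623928964e27d00824422920924c26cb05a2e17ca0522a15c904a2613c80422211c3e1d0d8642e15098441e0d058240e0501, 0, 109, 0x1610004010006201006401006601006801007601007a02007c0100820100840100a00100a40000a60000ae0100b80100c00000c40000d601, [(97, ⟨1618, 0x81000540002f000110000500102000010010800100001, 0x1822c8b424010501004⟩), (95, ⟨1617, 0x81000540002f000110000500102000010010800100001, 0x1822c8b424010501004⟩), (82, ⟨1616, 0x87000500012e001130010500102000010000800100001, 0x18c2b8bc2c010501004⟩), (81, ⟨1615, 0x81001540002f000110000500102001010010800100001, 0x1822c8b424010501004⟩)]⟩]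

theorem t9_29_55 : jobs 8 S9 b8_29 j9_29_55 = true := by decide +kernel

noncomputable def j9_29_56 : List Job := [
  ⟨7, 0x528964e27d20924c26d08864623d00824422cb05a2e17ca0522a15c904a2613c80422211c3e1d0d8642e15098441e0d058240e0501, 0, 42, 0x212000413002612002813002e02003002003210003410004a01004e01005001005401, []⟩]

theorem t9_29_56 : jobs 8 S9 b8_29 j9_29_56 = true := by decide +kernel

noncomputable def j9_29_57 : List Job := [
  ⟨6, 0x605068543a21148c47601048443225168d47d28964e27d20924c26d08864623d00824422cb05a2e17ca0522a15c904a2613c80422211c3e1d0d8642e15098441e0d058240e0501, 0, 82, 0x202002602002e12003003004e00005000005401005600005a00005e01006000006200008a01009a01, [(48, ⟨1614, 0x800002d0014a000190000200004000090010800100001, 0x1801491824010202006⟩), (47, ⟨1613, 0x860014f00127000150010400102000090010800100001, 0x18c270bc36010401006⟩), (44, ⟨1612, 0x8b0014400123000190010400102001090000800100001, 0x1862409c24010401006⟩), (42, ⟨1611, 0x8f0014200128000160000400002000090010800100001,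 0x18e2208438010401006⟩), (39, ⟨1610, 0x860012600048001140000200004001090000800100001, 0x18c1093028010202006⟩), (38, ⟨1609, 0x860012600048001140000200004001090000800100001, 0x18c1093028010202006⟩)]⟩]

theorem t9_29_57 : jobs 8 S9 b8_29 j9_29_57 = true := by decide +kernel

noncomputable def j9_29_58 : List Job := [
  ⟨5, 0x548a6562b968b65e2fd40a2542a960b25c2ec904a26138b05a2e17c804222118a0522a15c582e1e0fc502a1c0ec48261a0dc4022180cc3e1d0d8642e15098441e0d058240e0501, 0, 61, 0x210006201006601006c01006e01, []⟩]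

theorem t9_29_58 : jobs 8 S9 b8_29 j9_29_58 = true := by decide +kernel

noncomputable def j9_29_59 : List Job := [
  ⟨4, 0x621128a45a311a8e47e01028241a110a8643d48a6562b968b65e2fd40a2542a960b25c2ec904a26138b05a2e17c804222118a0522a15c582e1e0fc502a1c0ec48261a0dc4022180cc3e1d0d8642e15098441e0d058240e0501, 0, 94, 0x202005200005801006002006801007001007201007601007e01008601008e01, [(40, ⟨1608, 0x830014700125001160000400002000010010800100001, 0x186270a838010401004⟩)]⟩]

theorem t9_29_59 : jobs 8 S9 b8_29 j9_29_59 = true := by decide +kernel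

noncomputable def j9_29_60 : List Job := [
  ⟨3, 0x508864623928964e27d00824422920924c26c904a26138b05a2e17c804222118a0522a15c582e1e0fc502a1c0ec48261a0dc4022180cc3e1d0d8642e15098441e0d058240e0501, 0, 47, 0x210004a01004e01005601005801, []⟩]

theorem t9_29_60 : jobs 8 S9 b8_29 j9_29_60 = true := by decide +kernel

noncomputable def j9_29_61 : List Job := [
  ⟨2, 0x605068543a25168d47e01048443221148c475108a46239309a4e27d00824221920924a25ca0522a158b05a2e17c804222118904a2613c703a1e0fc60321a0dc502a160bc40221209c3e1d0d8642e15098441e0d058240e0501, 0, 117, 0x204003204003804003e0100960100980100a21c00ba0100c60400cc01, []⟩]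

theorem t9_29_61 : jobs 8 S9 b8_29 j9_29_61 = true := by decide +kernel

noncomputable def j9_29_62 : List Job := [
  ⟨1, 0x605068543a25168d47e01048443221148c475108a46239309a4e27d00824221920924a25ce4743c1fce0763d1f4c464341bcc066351b4a4562d17ca0542c17484462513c804424134703a1e0fc60321a0dc502a160bc40221209c3e1d0d8642e15098441e0d058240e0501, 0, 166, 0x204005e01008a01009001009a0100c00100d00100e00100fc01012200012c01013401013c01, [(144, ⟨1604, 0x108000400001000004800010001040000100000400000001, 0x1842008024080200802⟩)]⟩]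

theorem t9_29_62 : jobs 8 S9 b8_29 j9_29_62 = true := by decide +kernel

noncomputable def j9_29_63 : List Job := [
  ⟨0, 0x43e1d0d8642e15098441e0d058240e0501, 0, 46, 0x218000419001e18002011002210003810003a10003c08003e08004010004218004419, []⟩]

theorem t9_29_63 : jobs 8 S9 b8_29 j9_29_63 = true := by decide +kernel

theorem d9_29 : Dn 8 S9 b8_29 := dn_of (Js := j9_29_0 ++ (j9_29_1 ++ (j9_29_2 ++ (j9_29_3 ++ (j9_29_4 ++ (j9_29_5 ++ (j9_29_6 ++ (j9_29_7 ++ (j9_29_8 ++ (j9_29_9 ++ (j9_29_10 ++ (j9_29_11 ++ (j9_29_12 ++ (j9_29_13 ++ (j9_29_14 ++ (j9_29_15 ++ (j9_29_16 ++ (j9_29_17 ++ (j9_29_18 ++ (j9_29_19 ++ (j9_29_20 ++ (j9_29_21 ++ (j9_29_22 ++ (j9_29_23 ++ (j9_29_24 ++ (j9_29_25 ++ (j9_29_26 ++ (j9_29_27 ++ (j9_29_28 ++ (j9_29_29 ++ (j9_29_30 ++ (j9_29_31 ++ (j9_29_32 ++ (j9_29_33 ++ (j9_29_34 ++ (j9_29_35 ++ (j9_29_36 ++ (j9_29_37 ++ (j9_29_38 ++ (j9_29_39 ++ (j9_29_40 ++ (j9_29_41 ++ (j9_29_42 ++ (j9_29_43 ++ (j9_29_44 ++ (j9_29_45 ++ (j9_29_46 ++ (j9_29_47 ++ (j9_29_48 ++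 (j9_29_49 ++ (j9_29_50 ++ (j9_29_51 ++ (j9_29_52 ++ (j9_29_53 ++ (j9_29_54 ++ (j9_29_55 ++ (j9_29_56 ++ (j9_29_57 ++ (j9_29_58 ++ (j9_29_59 ++ (j9_29_60 ++ (j9_29_61 ++ (j9_29_62 ++ (j9_29_63 ++ []))))))))))))))))))))))))))))))))))))))))))))))))))))))))))))))))
  (jobs_append t9_29_0 <| jobs_append t9_29_1 <| jobs_append t9_29_2 <| jobs_append t9_29_3 <| jobs_append t9_29_4 <| jobs_append t9_29_5 <| jobs_append t9_29_6 <| jobs_append t9_29_7 <| jobs_append t9_29_8 <| jobs_append t9_29_9 <| jobs_append t9_29_10 <| jobs_append t9_29_11 <| jobs_append t9_29_12 <| jobs_append t9_29_13 <| jobs_append t9_29_14 <| jobs_append t9_29_15 <| jobs_append t9_29_16 <| jobs_append t9_29_17 <| jobs_append t9_29_18 <| jobs_append t9_29_19 <| jobs_append t9_29_20 <| jobs_append t9_29_21 <| jobs_append t9_29_22 <| jobs_append t9_29_23 <| jobs_append t9_29_24 <| jobs_append t9_29_25 <| jobs_append t9_29_26 <| jobs_append t9_29_27 <| jobs_append t9_29_28 <| jobs_append t9_29_29 <| jobs_append t9_29_30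 <| jobs_append t9_29_31 <| jobs_append t9_29_32 <| jobs_append t9_29_33 <| jobs_append t9_29_34 <| jobs_append t9_29_35 <| jobs_append t9_29_36 <| jobs_append t9_29_37 <| jobs_append t9_29_38 <| jobs_append t9_29_39 <| jobs_append t9_29_40 <| jobs_append t9_29_41 <| jobs_append t9_29_42 <| jobs_append t9_29_43 <| jobs_append t9_29_44 <| jobs_append t9_29_45 <| jobs_append t9_29_46 <| jobs_append t9_29_47 <| jobs_append t9_29_48 <| jobs_append t9_29_49 <| jobs_append t9_29_50 <| jobs_append t9_29_51 <| jobs_append t9_29_52 <| jobs_append t9_29_53 <| jobs_append t9_29_54 <| jobs_append t9_29_55 <| jobs_append t9_29_56 <| jobs_append t9_29_57 <| jobs_append t9_29_58 <| jobs_append t9_29_59 <| jobs_append t9_29_60 <| jobs_append t9_29_61 <| jobs_append t9_29_62 <| jobs_append t9_29_63 <| List.forall_mem_nil _) (by decide +kernel)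

noncomputable def j9_30_0 : List Job := [
  ⟨63, 0x64526944b265369c4f64124954ba61349d4fe110a8643a311a8e47e01028241a21128a45c3e1d0d8642e15098441e0d058240e0501, 0, 17, 0x1601001e01002001002201, []⟩]

theorem t9_30_0 : jobs 8 S9 b8_30 j9_30_0 = true := by decide +kernel

noncomputable def j9_30_1 : List Job := [
  ⟨62, 0x43e1d0d8642e15098441e0d058240e0501, 0, 14, 0x1601001801001a01001c01, []⟩]

theorem t9_30_1 : jobs 8 S9 b8_30 j9_30_1 = true := by decide +kernel

noncomputable def j9_30_2 : List Job := [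
  ⟨61, 0x64526944b265369c4f64124954ba61349d4fe110a8643a311a8e47e01028241a21128a45c3e1d0d8642e15098441e0d058240e0501, 0, 36, 0x3a01003c01003e01004001004201004401004601004801, []⟩]

theorem t9_30_2 : jobs 8 S9 b8_30 j9_30_2 = true := by decide +kernel

noncomputable def j9_30_3 : List Job := [
  ⟨60, 0x6190e8c46e110a8e47e09068844e01028a45c3e1d0d8642e15098441e0d058240e0501, 0, 19, 0x1e01002001002201002401002601, []⟩]

theorem t9_30_3 : jobs 8 S9 b8_30 j9_30_3 = true := by decide +kernel

noncomputable def j9_30_4 : List Job := [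
  ⟨59, 0x6190e8e47e110a8c46e09068a45e01028844c3e1d0d8642e15098441e0d058240e0501, 0, 30, 0x3a01003c01, []⟩]

theorem t9_30_4 : jobs 8 S9 b8_30 j9_30_4 = true := by decide +kernel

noncomputable def j9_30_5 : List Job := [
  ⟨58, 0x43e1d0d8642e15098441e0d058240e0501, 0, 10, 0x0, []⟩]

theorem t9_30_5 : jobs 8 S9 b8_30 j9_30_5 = true := by decide +kernel

noncomputable def j9_30_6 : List Job := [
  ⟨57, 0x4cc6a391fcc868381f4c46e3b1ecc06c3a1e43e1d0d8642e15098441e0d058240e0501, 0, 14, 0x1a01001c01, []⟩]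

theorem t9_30_6 : jobs 8 S9 b8_30 j9_30_6 = true := by decide +kernel

noncomputable def j9_30_7 : List Job := [
  ⟨56, 0x4cc6e391ecc86c381e4c46a3b1fcc0683a1f43e1d0d8642e15098441e0d058240e0501, 0, 26, 0x0, []⟩]

theorem t9_30_7 : jobs 8 S9 b8_30 j9_30_7 = true := by decide +kernel

noncomputable def j9_30_8 : List Job := [
  ⟨55, 0x4a8562e17ca0522c16c88462613c80422412c582e1e0fc502a1c0ec48261a0dc4022180cc3e1d0d8642e15098441e0d058240e0501, 0, 33, 0x2a01002c01002e01003000003201003401003601003a01003c01003e06004001004201, [(23, ⟨2047, 0x270008e000240008800010000800208004040000001, 0x14e4706050040102002⟩)]⟩]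

theorem t9_30_8 : jobs 8 S9 b8_30 j9_30_8 = true := by decide +kernel

noncomputable def j9_30_9 : List Job := [
  ⟨54, 0x43e1d0d8642e15098441e0d058240e0501, 0, 12, 0x1801, []⟩]

theorem t9_30_9 : jobs 8 S9 b8_30 j9_30_9 = true := by decide +kernel

noncomputable def j9_30_10 : List Job := [
  ⟨53, 0x609068442a29168c46e01028643a21128e47c3e1d0d8642e15098441e0d058240e0501, 0, 18, 0x1a01001c01001e01002001002201, []⟩]

theorem t9_30_10 : jobs 8 S9 b8_30 j9_30_10 = true := by decide +kernel

noncomputable def j9_30_11 : List Job := [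
  ⟨52, 0x43e1d0d8642e15098441e0d058240e0501, 0, 12, 0x1601001801, []⟩]

theorem t9_30_11 : jobs 8 S9 b8_30 j9_30_11 = true := by decide +kernel

noncomputable def j9_30_12 : List Job := [
  ⟨51, 0x609068643a29168e47e01028442a21128c46c3e1d0d8642e15098441e0d058240e0501, 0, 18, 0x1a01001c01001e01002401, []⟩]

theorem t9_30_12 : jobs 8 S9 b8_30 j9_30_12 = true := by decide +kernel

noncomputable def j9_30_13 : List Job := [
  ⟨50, 0x43e1d0d8642e15098441e0d058240e0501, 0, 12, 0x1601001801, []⟩]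

theorem t9_30_13 : jobs 8 S9 b8_30 j9_30_13 = true := by decide +kernel

noncomputable def j9_30_14 : List Job := [
  ⟨49, 0x609068442a29168c46e01028643a21128e47c3e1d0d8642e15098441e0d058240e0501, 0, 34, 0x3c01003e01004001004201004401, []⟩]

theorem t9_30_14 : jobs 8 S9 b8_30 j9_30_14 = true := by decide +kernel

noncomputable def j9_30_15 : List Job := [
  ⟨48, 0x43e1d0d8642e15098441e0d058240e0501, 0, 12, 0x201001801, []⟩]

theorem t9_30_15 : jobs 8 S9 b8_30 j9_30_15 = true := by decide +kernel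

noncomputable def j9_30_16 : List Job := [
  ⟨47, 0x609068643a29168e47e01028442a21128c46c3e1d0d8642e15098441e0d058240e0501, 0, 32, 0x1c01002601004001, []⟩]

theorem t9_30_16 : jobs 8 S9 b8_30 j9_30_16 = true := by decide +kernel

noncomputable def j9_30_17 : List Job := [
  ⟨46, 0x4542e1d0fc502c1c0f44426190dc4024180d43e1d0d8642e15098441e0d058240e0501, 0, 25, 0x0, []⟩]

theorem t9_30_17 : jobs 8 S9 b8_30 j9_30_17 = true := by decide +kernel

noncomputable def j9_30_18 : List Job := [
  ⟨45, 0x6110a8643a311a8e47e01028241a21128a45c68361e0fc60321c0ec4826160bc4022140ac3e1d0d8642e15098441e0d058240e0501, 0, 30, 0x3a01003c01, []⟩]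

theorem t9_30_18 : jobs 8 S9 b8_30 j9_30_18 = true := by decide +kernel

noncomputable def j9_30_19 : List Job := [
  ⟨44, 0x4542e1d0fc502c1c0f44426190dc4024180d43e1d0d8642e15098441e0d058240e0501, 0, 25, 0x0, []⟩]

theorem t9_30_19 : jobs 8 S9 b8_30 j9_30_19 = true := by decide +kernel

noncomputable def j9_30_20 : List Job := [
  ⟨43, 0x6110a8643a311a8e47e01028241a21128a45c68361e0fc60321c0ec4826160bc4022140ac3e1d0d8642e15098441e0d058240e0501, 0, 32, 0x1a01001c01, []⟩]

theorem t9_30_20 : jobs 8 S9 b8_30 j9_30_20 = true := by decide +kernel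

noncomputable def j9_30_21 : List Job := [
  ⟨42, 0x4542e1d0fc502c1c0f44426190dc4024180d43e1d0d8642e15098441e0d058240e0501, 0, 11, 0x1601, []⟩]

theorem t9_30_21 : jobs 8 S9 b8_30 j9_30_21 = true := by decide +kernel

noncomputable def j9_30_22 : List Job := [
  ⟨41, 0x4542e1d0fc502c1c0f44426190dc4024180d43e1d0d8642e15098441e0d058240e0501, 0, 11, 0x1601, []⟩]

theorem t9_30_22 : jobs 8 S9 b8_30 j9_30_22 = true := by decide +kernel

noncomputable def j9_30_23 : List Job := [
  ⟨40, 0x43e1d0d8642e15098441e0d058240e0501, 0, 12, 0x1601001801, []⟩]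

theorem t9_30_23 : jobs 8 S9 b8_30 j9_30_23 = true := by decide +kernel

noncomputable def j9_30_24 : List Job := [
  ⟨39, 0x609068643a21128c46e01028442a29168e47c3e1d0d8642e15098441e0d058240e0501, 0, 56, 0x2c01006e01007001, []⟩]

theorem t9_30_24 : jobs 8 S9 b8_30 j9_30_24 = true := by decide +kernel

noncomputable def j9_30_25 : List Job := [
  ⟨38, 0x43e1d0d8642e15098441e0d058240e0501, 0, 12, 0x1601001801, []⟩]

theorem t9_30_25 : jobs 8 S9 b8_30 j9_30_25 = true := by decide +kernel

noncomputable def j9_30_26 : List Job := [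
  ⟨37, 0x609068643a29168e47e01028442a21128c46c3e1d0d8642e15098441e0d058240e0501, 0, 18, 0x1c01001e01002001002201, []⟩]

theorem t9_30_26 : jobs 8 S9 b8_30 j9_30_26 = true := by decide +kernel

noncomputable def j9_30_27 : List Job := [
  ⟨36, 0x43e1d0d8642e15098441e0d058240e0501, 0, 12, 0x1601001801, []⟩]

theorem t9_30_27 : jobs 8 S9 b8_30 j9_30_27 = true := by decide +kernel

noncomputable def j9_30_28 : List Job := [
  ⟨35, 0x609068643a21128c46e01028442a29168e47c3e1d0d8642e15098441e0d058240e0501, 0, 18, 0x1c01001e01002201002401, []⟩]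

theorem t9_30_28 : jobs 8 S9 b8_30 j9_30_28 = true := by decide +kernel

noncomputable def j9_30_29 : List Job := [
  ⟨34, 0x43e1d0d8642e15098441e0d058240e0501, 0, 24, 0x0, []⟩]

theorem t9_30_29 : jobs 8 S9 b8_30 j9_30_29 = true := by decide +kernel

noncomputable def j9_30_30 : List Job := [
  ⟨33, 0x609068643a29168e47e01028442a21128c46c3e1d0d8642e15098441e0d058240e0501, 0, 30, 0x3601003801003a01, []⟩]

theorem t9_30_30 : jobs 8 S9 b8_30 j9_30_30 = true := by decide +kernel

noncomputable def j9_30_31 : List Job := [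
  ⟨32, 0x4984e2a15c904a2814c88462e17c80422c16c3e1d0d8642e15098441e0d058240e0501, 0, 14, 0x1601001a01001c01, []⟩]

theorem t9_30_31 : jobs 8 S9 b8_30 j9_30_31 = true := by decide +kernel

noncomputable def j9_30_32 : List Job := [
  ⟨31, 0x605068443221148d47e01048543a25168c474984e2a15c904a2814c88462e17c80422c16c3e1d0d8642e15098441e0d058240e0501, 0, 22, 0x1a01001e01002201002a01, []⟩]

theorem t9_30_32 : jobs 8 S9 b8_30 j9_30_32 = true := by decide +kernel

noncomputable def j9_30_33 : List Job := [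
  ⟨30, 0x4a8562e17ca0522c16c88462613c80422412c3e1d0d8642e15098441e0d058240e0501, 0, 14, 0x1601001a01001c01, []⟩]

theorem t9_30_33 : jobs 8 S9 b8_30 j9_30_33 = true := by decide +kernel

noncomputable def j9_30_34 : List Job := [
  ⟨29, 0x605068443225168c47601048543a21148d47c984e2e17c904a2c16c88462a15c80422814c3e1d0d8642e15098441e0d058240e0501, 0, 60, 0x6a01007201007601, []⟩]

theorem t9_30_34 : jobs 8 S9 b8_30 j9_30_34 = true := by decide +kernel

noncomputable def j9_30_35 : List Job := [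
  ⟨28, 0x4984e2a15c904a2814c88462e17c80422c16c3e1d0d8642e15098441e0d058240e0501, 0, 18, 0x1801001a01001e01002001002401, []⟩]

theorem t9_30_35 : jobs 8 S9 b8_30 j9_30_35 = true := by decide +kernel

noncomputable def j9_30_36 : List Job := [
  ⟨27, 0x6110a8643a21128a45e01028241a311a8e47c984e2a15c904a2814c88462e17c80422c16c3e1d0d8642e15098441e0d058240e0501, 0, 22, 0x1c01002001002201002a01, []⟩]

theorem t9_30_36 : jobs 8 S9 b8_30 j9_30_36 = true := by decide +kernel

noncomputable def j9_30_37 : List Job := [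
  ⟨26, 0x4a8562e17ca0522c16c88462613c80422412c3e1d0d8642e15098441e0d058240e0501, 0, 30, 0x3201003601003801003a01003c01, []⟩]

theorem t9_30_37 : jobs 8 S9 b8_30 j9_30_37 = true := by decide +kernel

noncomputable def j9_30_38 : List Job := [
  ⟨25, 0x6110a8643a311a8e47e01028241a21128a45c984e2e17c904a2c16c88462a15c80422814c3e1d0d8642e15098441e0d058240e0501, 0, 34, 0x3601003e01004001004401, []⟩]

theorem t9_30_38 : jobs 8 S9 b8_30 j9_30_38 = true := by decide +kernel

noncomputable def j9_30_39 : List Job := [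
  ⟨24, 0x4cc6c3a1fcc86e3b1f4c468381ecc06a391e4a8562e17ca0522c16c88462613c80422412c582e1e0fc502a1c0ec48261a0dc4022180cc3e1d0d8642e15098441e0d058240e0501, 0, 37, 0x1a01001e01002201002401004201004601004801004a01, []⟩]

theorem t9_30_39 : jobs 8 S9 b8_30 j9_30_39 = true := by decide +kernel

noncomputable def j9_30_40 : List Job := [
  ⟨23, 0x43e1d0d8642e15098441e0d058240e0501, 0, 15, 0x1601001801001a01001e01, []⟩]

theorem t9_30_40 : jobs 8 S9 b8_30 j9_30_40 = true := by decide +kernel

noncomputable def j9_30_41 : List Job := [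
  ⟨22, 0x43e1d0d8642e15098441e0d058240e0501, 0, 30, 0x2e01003001003201003401003601003801003a01003c01, []⟩]

theorem t9_30_41 : jobs 8 S9 b8_30 j9_30_41 = true := by decide +kernel

noncomputable def j9_30_42 : List Job := [
  ⟨21, 0x43e1d0d8642e15098441e0d058240e0501, 0, 16, 0x1601001801, []⟩]

theorem t9_30_42 : jobs 8 S9 b8_30 j9_30_42 = true := by decide +kernel

noncomputable def j9_30_43 : List Job := [
  ⟨20, 0x43e1d0d8642e15098441e0d058240e0501, 0, 27, 0x3201003601, []⟩]

theorem t9_30_43 : jobs 8 S9 b8_30 j9_30_43 = true := by decide +kernel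

noncomputable def j9_30_44 : List Job := [
  ⟨19, 0x4783f1c0ec6837180cc582f140ac48271008c3e1d0d8642e15098441e0d058240e0501, 0, 29, 0x1610001a05001e05002210002604002a10003601003801003a01, []⟩]

theorem t9_30_44 : jobs 8 S9 b8_30 j9_30_44 = true := by decide +kernel

noncomputable def j9_30_45 : List Job := [
  ⟨18, 0x6190e8a45e110a8844e09068e47e01028c46c3e1d0d8642e15098441e0d058240e0501, 0, 65, 0x3e01004001004201004401004601004801007801007a01, []⟩]

theorem t9_30_45 : jobs 8 S9 b8_30 j9_30_45 = true := by decide +kernel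

noncomputable def j9_30_46 : List Job := [
  ⟨17, 0x43e1d0d8642e15098441e0d058240e0501, 0, 38, 0x4801004a01, []⟩]

theorem t9_30_46 : jobs 8 S9 b8_30 j9_30_46 = true := by decide +kernel

noncomputable def j9_30_47 : List Job := [
  ⟨16, 0x6512a964ba61329a4de41229249a713a9e4fe110a8643a21128a45e01028241a311a8e47c3e1d0d8642e15098441e0d058240e0501, 0, 65, 0x3e01004201007601007801007a01007c01007e01008201, []⟩]

theorem t9_30_47 : jobs 8 S9 b8_30 j9_30_47 = true := by decide +kernel

noncomputable def j9_30_48 : List Job := [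
  ⟨15, 0x43e1d0d8642e15098441e0d058240e0501, 0, 25, 0x1601001801001a01, []⟩]

theorem t9_30_48 : jobs 8 S9 b8_30 j9_30_48 = true := by decide +kernel

noncomputable def j9_30_49 : List Job := [
  ⟨14, 0x43e1d0d8642e15098441e0d058240e0501, 0, 26, 0x0, []⟩]

theorem t9_30_49 : jobs 8 S9 b8_30 j9_30_49 = true := by decide +kernel

noncomputable def j9_30_50 : List Job := [
  ⟨13, 0x43e1d0d8642e15098441e0d058240e0501, 0, 26, 0x1601001801, []⟩]

theorem t9_30_50 : jobs 8 S9 b8_30 j9_30_50 = true := by decide +kernel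

noncomputable def j9_30_51 : List Job := [
  ⟨12, 0x43e1d0d8642e15098441e0d058240e0501, 0, 40, 0x4001004201004401004e01005001, []⟩]

theorem t9_30_51 : jobs 8 S9 b8_30 j9_30_51 = true := by decide +kernel

noncomputable def j9_30_52 : List Job := [
  ⟨11, 0x45c3b160e4543f140f44c33120c44437100d43e1d0d8642e15098441e0d058240e0501, 0, 29, 0x3601003a01, []⟩]

theorem t9_30_52 : jobs 8 S9 b8_30 j9_30_52 = true := by decide +kernel

noncomputable def j9_30_53 : List Job := [
  ⟨10, 0x4783f1c0ec6837180cc582f140ac48271008c3e1d0d8642e15098441e0d058240e0501, 0, 44, 0x3210003611003a11003e10004211004610005001005201005401005601005801, []⟩]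

theorem t9_30_53 : jobs 8 S9 b8_30 j9_30_53 = true := by decide +kernel

noncomputable def j9_30_54 : List Job := [
  ⟨9, 0x43e1d0d8642e15098441e0d058240e0501, 0, 26, 0x2e01003001, []⟩]

theorem t9_30_54 : jobs 8 S9 b8_30 j9_30_54 = true := by decide +kernel

noncomputable def j9_30_55 : List Job := [
  ⟨8, 0x4c466351b8e4763d1fcc064341b0e0743c1f4844625138a4562d17c804424130a0542c1743e1d0d8642e15098441e0d058240e0501, 0, 54, 0x4401004601004801005601005801005a01005c01006401006601006a01, []⟩]

theorem t9_30_55 : jobs 8 S9 b8_30 j9_30_55 = true := by decide +kernel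

noncomputable def j9_30_56 : List Job := [
  ⟨7, 0x48c4e2916c884c28164844a2b17c80482a1743e1d0d8642e15098441e0d058240e0501, 0, 36, 0x1601001801001c01001e01002001002201002401002601004401004601, []⟩]

theorem t9_30_56 : jobs 8 S9 b8_30 j9_30_56 = true := by decide +kernel

noncomputable def j9_30_57 : List Job := [
  ⟨6, 0x4884626138a8562e17c804224128a0522c16c783f1c0ec6837180cc582f140ac48271008c3e1d0d8642e15098441e0d058240e0501, 0, 53, 0x1608001a09001e08002209002608002a08002e01003001003201005c01005e01006001006201006601006801, []⟩]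

theorem t9_30_57 : jobs 8 S9 b8_30 j9_30_57 = true := by decide +kernel

noncomputable def j9_30_58 : List Job := [
  ⟨5, 0x4743f1c0f46437180d4542f140b44427100943e1d0d8642e15098441e0d058240e0501, 0, 41, 0x1c00001e00002001002201002401002601002801002a01002c01004c01004e01005001005201, [(14, ⟨2037, 0x42801400004e0007400008000400010004080080001, 0x18c200b43c020200410⟩), (13, ⟨2036, 0x438014d000580004800808010400210004080080001, 0x18d2709822020200410⟩)]⟩]

theorem t9_30_58 : jobs 8 S9 b8_30 j9_30_58 = true := by decide +kernel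

noncomputable def j9_30_59 : List Job := [
  ⟨4, 0x43e1d0d8642e15098441e0d058240e0501, 0, 36, 0x210000410001a10001c19001e10002018, []⟩]

theorem t9_30_59 : jobs 8 S9 b8_30 j9_30_59 = true := by decide +kernel

noncomputable def j9_30_60 : List Job := [
  ⟨3, 0x621128a45a311a8e47e01028241a110a8643c3e1d0d8642e15098441e0d058240e0501, 0, 64, 0x210000410001e18002008006201007e01, []⟩]

theorem t9_30_60 : jobs 8 S9 b8_30 j9_30_60 = true := by decide +kernel

noncomputable def j9_30_61 : List Job := [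
  ⟨2, 0x5cce8783fdc8ea793f5c4ec7a3edc0ee7b3e5148e4925d108c4825504864d27d00844c2743e1d0d8642e15098441e0d058240e0501, 0, 60, 0x210000409001a08001c19001e08002018005e01006c01007008007208007609, []⟩]

theorem t9_30_61 : jobs 8 S9 b8_30 j9_30_61 = true := by decide +kernel

noncomputable def j9_30_62 : List Job := [
  ⟨1, 0x6110a8643a311a8e47e01028241a21128a45dcce8783fdc8ea793f5c4ec7a3edc0ee7b3e5148e4925d108c4825504864d27d00844c2743e1d0d8642e15098441e0d058240e0501, 0, 98, 0x1608004018004210006c10006e10007a11008601008801008a01008e0100a80100aa0100ac0100ae0100b20100bc0100be0100c00100c401, []⟩]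

theorem t9_30_62 : jobs 8 S9 b8_30 j9_30_62 = true := by decide +kernel

noncomputable def j9_30_63 : List Job := [
  ⟨0, 0x43e1d0d8642e15098441e0d058240e0501, 0, 36, 0x210000410001a10001c10001e08002008, []⟩]

theorem t9_30_63 : jobs 8 S9 b8_30 j9_30_63 = true := by decide +kernel

theorem d9_30 : Dn 8 S9 b8_30 := dn_of (Js := j9_30_0 ++ (j9_30_1 ++ (j9_30_2 ++ (j9_30_3 ++ (j9_30_4 ++ (j9_30_5 ++ (j9_30_6 ++ (j9_30_7 ++ (j9_30_8 ++ (j9_30_9 ++ (j9_30_10 ++ (j9_30_11 ++ (j9_30_12 ++ (j9_30_13 ++ (j9_30_14 ++ (j9_30_15 ++ (j9_30_16 ++ (j9_30_17 ++ (j9_30_18 ++ (j9_30_19 ++ (j9_30_20 ++ (j9_30_21 ++ (j9_30_22 ++ (j9_30_23 ++ (j9_30_24 ++ (j9_30_25 ++ (j9_30_26 ++ (j9_30_27 ++ (j9_30_28 ++ (j9_30_29 ++ (j9_30_30 ++ (j9_30_31 ++ (j9_30_32 ++ (j9_30_33 ++ (j9_30_34 ++ (j9_30_35 ++ (j9_30_36 ++ (j9_30_37 ++ (j9_30_38 ++ (j9_30_39 ++ (j9_30_40 ++ (j9_30_41 ++ (j9_30_42 ++ (j9_30_43 ++ (j9_30_44 ++ (j9_30_45 ++ (j9_30_46 ++ (j9_30_47 ++ (j9_30_48 ++ (j9_30_49 ++ (j9_30_50 ++ (j9_30_51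 ++ (j9_30_52 ++ (j9_30_53 ++ (j9_30_54 ++ (j9_30_55 ++ (j9_30_56 ++ (j9_30_57 ++ (j9_30_58 ++ (j9_30_59 ++ (j9_30_60 ++ (j9_30_61 ++ (j9_30_62 ++ (j9_30_63 ++ []))))))))))))))))))))))))))))))))))))))))))))))))))))))))))))))))
  (jobs_append t9_30_0 <| jobs_append t9_30_1 <| jobs_append t9_30_2 <| jobs_append t9_30_3 <| jobs_append t9_30_4 <| jobs_append t9_30_5 <| jobs_append t9_30_6 <| jobs_append t9_30_7 <| jobs_append t9_30_8 <| jobs_append t9_30_9 <| jobs_append t9_30_10 <| jobs_append t9_30_11 <| jobs_append t9_30_12 <| jobs_append t9_30_13 <| jobs_append t9_30_14 <| jobs_append t9_30_15 <| jobs_append t9_30_16 <| jobs_append t9_30_17 <| jobs_append t9_30_18 <| jobs_append t9_30_19 <| jobs_append t9_30_20 <| jobs_append t9_30_21 <| jobs_append t9_30_22 <| jobs_append t9_30_23 <| jobs_append t9_30_24 <| jobs_append t9_30_25 <| jobs_append t9_30_26 <| jobs_append t9_30_27 <| jobs_append t9_30_28 <| jobs_append t9_30_29 <| jobs_append t9_30_30 <| jobs_append t9_30_31 <| jobs_append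 t9_30_32 <| jobs_append t9_30_33 <| jobs_append t9_30_34 <| jobs_append t9_30_35 <| jobs_append t9_30_36 <| jobs_append t9_30_37 <| jobs_append t9_30_38 <| jobs_append t9_30_39 <| jobs_append t9_30_40 <| jobs_append t9_30_41 <| jobs_append t9_30_42 <| jobs_append t9_30_43 <| jobs_append t9_30_44 <| jobs_append t9_30_45 <| jobs_append t9_30_46 <| jobs_append t9_30_47 <| jobs_append t9_30_48 <| jobs_append t9_30_49 <| jobs_append t9_30_50 <| jobs_append t9_30_51 <| jobs_append t9_30_52 <| jobs_append t9_30_53 <| jobs_append t9_30_54 <| jobs_append t9_30_55 <| jobs_append t9_30_56 <| jobs_append t9_30_57 <| jobs_append t9_30_58 <| jobs_append t9_30_59 <| jobs_append t9_30_60 <| jobs_append t9_30_61 <| jobs_append t9_30_62 <| jobs_append t9_30_63 <| List.forall_mem_nil _) (by decide +kernel)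

noncomputable def j9_31_0 : List Job := [
  ⟨63, 0x6110a8643a21128a45e01028241a311a8e47c3e1d0d8642e15098441e0d058240e0501, 0, 32, 0x1a01004001, []⟩]

theorem t9_31_0 : jobs 8 S9 b8_31 j9_31_0 = true := by decide +kernel

noncomputable def j9_31_1 : List Job := [
  ⟨62, 0x43e1d0d8642e15098441e0d058240e0501, 0, 44, 0x5001005201005401005601005801, []⟩]

theorem t9_31_1 : jobs 8 S9 b8_31 j9_31_1 = true := by decide +kernel

noncomputable def j9_31_2 : List Job := [
  ⟨61, 0x6110a8643a311a8e47e01028241a21128a45c3e1d0d8642e15098441e0d058240e0501, 0, 53, 0x4e01005001005201005c01005e01006001006201006601, []⟩]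

theorem t9_31_2 : jobs 8 S9 b8_31 j9_31_2 = true := by decide +kernel

noncomputable def j9_31_3 : List Job := [
  ⟨60, 0x43e1d0d8642e15098441e0d058240e0501, 0, 29, 0x3401003601003801003a01, []⟩]

theorem t9_31_3 : jobs 8 S9 b8_31 j9_31_3 = true := by decide +kernel

noncomputable def j9_31_4 : List Job := [
  ⟨59, 0x43e1d0d8642e15098441e0d058240e0501, 0, 25, 0x0, []⟩]

theorem t9_31_4 : jobs 8 S9 b8_31 j9_31_4 = true := by decide +kernel

noncomputable def j9_31_5 : List Job := [
  ⟨58, 0x6110a8643a311a8e47e01028241a21128a45c3e1d0d8642e15098441e0d058240e0501, 0, 30, 0x3a01003c01, []⟩]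

theorem t9_31_5 : jobs 8 S9 b8_31 j9_31_5 = true := by decide +kernel

noncomputable def j9_31_6 : List Job := [
  ⟨57, 0x43e1d0d8642e15098441e0d058240e0501, 0, 29, 0x3401003601003801003a01, []⟩]

theorem t9_31_6 : jobs 8 S9 b8_31 j9_31_6 = true := by decide +kernel

noncomputable def j9_31_7 : List Job := [
  ⟨56, 0x621128a45a311a8e47e01028241a110a8643c3e1d0d8642e15098441e0d058240e0501, 0, 34, 0x1c01003601004401, []⟩]

theorem t9_31_7 : jobs 8 S9 b8_31 j9_31_7 = true := by decide +kernel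

noncomputable def j9_31_8 : List Job := [
  ⟨55, 0x43e1d0d8642e15098441e0d058240e0501, 0, 25, 0x0, []⟩]

theorem t9_31_8 : jobs 8 S9 b8_31 j9_31_8 = true := by decide +kernel

noncomputable def j9_31_9 : List Job := [
  ⟨54, 0x6110a8643a311a8e47e01028241a21128a45c3e1d0d8642e15098441e0d058240e0501, 0, 32, 0x3a01003e01, []⟩]

theorem t9_31_9 : jobs 8 S9 b8_31 j9_31_9 = true := by decide +kernel

noncomputable def j9_31_10 : List Job := [
  ⟨53, 0x43e1d0d8642e15098441e0d058240e0501, 0, 25, 0x0, []⟩]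

theorem t9_31_10 : jobs 8 S9 b8_31 j9_31_10 = true := by decide +kernel

noncomputable def j9_31_11 : List Job := [
  ⟨52, 0x621128a45a311a8e47e01028241a110a8643c3e1d0d8642e15098441e0d058240e0501, 0, 78, 0x0, []⟩]

theorem t9_31_11 : jobs 8 S9 b8_31 j9_31_11 = true := by decide +kernel

noncomputable def j9_31_12 : List Job := [
  ⟨51, 0x43e1d0d8642e15098441e0d058240e0501, 0, 44, 0x5001005201005401005601005801, []⟩]

theorem t9_31_12 : jobs 8 S9 b8_31 j9_31_12 = true := by decide +kernel

noncomputable def j9_31_13 : List Job := [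
  ⟨50, 0x6110a8643a311a8e47e01028241a21128a45c3e1d0d8642e15098441e0d058240e0501, 0, 47, 0x4e01005001005201005c01005e01, []⟩]

theorem t9_31_13 : jobs 8 S9 b8_31 j9_31_13 = true := by decide +kernel

noncomputable def j9_31_14 : List Job := [
  ⟨49, 0x44c2e1b0fc482c1a0f4442a190ec4028180e43e1d0d8642e15098441e0d058240e0501, 0, 25, 0x0, []⟩]

theorem t9_31_14 : jobs 8 S9 b8_31 j9_31_14 = true := by decide +kernel

noncomputable def j9_31_15 : List Job := [
  ⟨48, 0x43e1d0d8642e15098441e0d058240e0501, 0, 25, 0x0, []⟩]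

theorem t9_31_15 : jobs 8 S9 b8_31 j9_31_15 = true := by decide +kernel

noncomputable def j9_31_16 : List Job := [
  ⟨47, 0x6110a8643a21128a45e01028241a311a8e47c3e1d0d8642e15098441e0d058240e0501, 0, 30, 0x0, []⟩]

theorem t9_31_16 : jobs 8 S9 b8_31 j9_31_16 = true := by decide +kernel

noncomputable def j9_31_17 : List Job := [
  ⟨46, 0x548a6542a968b65c2ed40a2562b960b25e2fd108a46239309a4e27d00824221920924a25c3e1d0d8642e15098441e0d058240e0501, 0, 47, 0x5601005c01, []⟩]

theorem t9_31_17 : jobs 8 S9 b8_31 j9_31_17 = true := by decide +kernel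

noncomputable def j9_31_18 : List Job := [
  ⟨45, 0x6110a8643a21128a45e01028241a311a8e47d48a6562b960b25c2ed40a2542a968b65e2fd20924a259309a4e27d008242219108a4623c3e1d0d8642e15098441e0d058240e0501, 0, 58, 0x4001004201006601006c01007201, []⟩]

theorem t9_31_18 : jobs 8 S9 b8_31 j9_31_18 = true := by decide +kernel

noncomputable def j9_31_19 : List Job := [
  ⟨44, 0x43e1d0d8642e15098441e0d058240e0501, 0, 25, 0x0, []⟩]

theorem t9_31_19 : jobs 8 S9 b8_31 j9_31_19 = true := by decide +kernel

noncomputable def j9_31_20 : List Job := [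
  ⟨43, 0x6110a8643a21128a45e01028241a311a8e47c3e1d0d8642e15098441e0d058240e0501, 0, 30, 0x1a01003c01, []⟩]

theorem t9_31_20 : jobs 8 S9 b8_31 j9_31_20 = true := by decide +kernel

noncomputable def j9_31_21 : List Job := [
  ⟨42, 0x548a6542a968b65c2ed40a2562b960b25e2fd108a46239309a4e27d00824221920924a25c3e1d0d8642e15098441e0d058240e0501, 0, 29, 0x3401003601, []⟩]

theorem t9_31_21 : jobs 8 S9 b8_31 j9_31_21 = true := by decide +kernel

noncomputable def j9_31_22 : List Job := [
  ⟨41, 0x43e1d0d8642e15098441e0d058240e0501, 0, 25, 0x0, []⟩]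

theorem t9_31_22 : jobs 8 S9 b8_31 j9_31_22 = true := by decide +kernel

noncomputable def j9_31_23 : List Job := [
  ⟨40, 0x621128a45a311a8e47e01028241a110a8643c3e1d0d8642e15098441e0d058240e0501, 0, 31, 0x3a01003c01003e01, []⟩]

theorem t9_31_23 : jobs 8 S9 b8_31 j9_31_23 = true := by decide +kernel

noncomputable def j9_31_24 : List Job := [
  ⟨39, 0x548a6542a968b65c2ed40a2562b960b25e2fd108a46239309a4e27d00824221920924a25c3e1d0d8642e15098441e0d058240e0501, 0, 29, 0x0, []⟩]

theorem t9_31_24 : jobs 8 S9 b8_31 j9_31_24 = true := by decide +kernel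

noncomputable def j9_31_25 : List Job := [
  ⟨38, 0x6110a8643a311a8e47e01028241a21128a45d48a6562b960b25c2ed40a2542a968b65e2fd20924a259309a4e27d008242219108a4623c3e1d0d8642e15098441e0d058240e0501, 0, 46, 0x4a01005201005601, []⟩]

theorem t9_31_25 : jobs 8 S9 b8_31 j9_31_25 = true := by decide +kernel

noncomputable def j9_31_26 : List Job := [
  ⟨37, 0x43e1d0d8642e15098441e0d058240e0501, 0, 25, 0x0, []⟩]

theorem t9_31_26 : jobs 8 S9 b8_31 j9_31_26 = true := by decide +kernel

noncomputable def j9_31_27 : List Job := [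
  ⟨36, 0x621128a45a311a8e47e01028241a110a8643c3e1d0d8642e15098441e0d058240e0501, 0, 31, 0x3a01, []⟩]

theorem t9_31_27 : jobs 8 S9 b8_31 j9_31_27 = true := by decide +kernel

noncomputable def j9_31_28 : List Job := [
  ⟨35, 0x548a6542a968b65c2ed40a2562b960b25e2fd108a46239309a4e27d00824221920924a25c3e1d0d8642e15098441e0d058240e0501, 0, 47, 0x5601005c01, []⟩]

theorem t9_31_28 : jobs 8 S9 b8_31 j9_31_28 = true := by decide +kernel

noncomputable def j9_31_29 : List Job := [
  ⟨34, 0x6110a8643a311a8e47e01028241a21128a45d48a6562b960b25c2ed40a2542a968b65e2fd20924a259309a4e27d008242219108a4623c3e1d0d8642e15098441e0d058240e0501, 0, 112, 0x6401007601007a01009201009601, []⟩]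

theorem t9_31_29 : jobs 8 S9 b8_31 j9_31_29 = true := by decide +kernel

noncomputable def j9_31_30 : List Job := [
  ⟨33, 0x605068543a21148c47601048443225168d47d20924a259309a4e27d008242219108a4623c542c1d0f4502e1c0fc4424190d44026180dc3e1d0d8642e15098441e0d058240e0501, 0, 40, 0x1a00001c01001e01002200002401002601004201004601004e01005001, [(16, ⟨2119, 0x20801890007400474000200009000060042c0000001, 0x144438e83803040140e⟩), (12, ⟨2118, 0x40801440005600478000200001002160040c0000001, 0x184240883c030401408⟩)]⟩]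

theorem t9_31_30 : jobs 8 S9 b8_31 j9_31_30 = true := by decide +kernel

noncomputable def j9_31_31 : List Job := [
  ⟨32, 0x43e1d0d8642e15098441e0d058240e0501, 0, 41, 0x0, []⟩]

theorem t9_31_31 : jobs 8 S9 b8_31 j9_31_31 = true := by decide +kernel

noncomputable def j9_31_32 : List Job := [
  ⟨31, 0x544a6552b960b45c2f540a4542b164b65d2fd04864523920944c27500844423124964d27c3e1d0d8642e15098441e0d058240e0501, 0, 55, 0x2c01002e01003001003201, []⟩]

theorem t9_31_32 : jobs 8 S9 b8_31 j9_31_32 = true := by decide +kernel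

noncomputable def j9_31_33 : List Job := [
  ⟨30, 0x43e1d0d8642e15098441e0d058240e0501, 0, 41, 0x0, []⟩]

theorem t9_31_33 : jobs 8 S9 b8_31 j9_31_33 = true := by decide +kernel

noncomputable def j9_31_34 : List Job := [
  ⟨29, 0x544a6552b960b45c2f540a4542b164b65d2fd04864523920944c27500844423124964d27c3e1d0d8642e15098441e0d058240e0501, 0, 87, 0x8801008c01009a01, []⟩]

theorem t9_31_34 : jobs 8 S9 b8_31 j9_31_34 = true := by decide +kernel

noncomputable def j9_31_35 : List Job := [
  ⟨28, 0x43e1d0d8642e15098441e0d058240e0501, 0, 12, 0x1601001801, []⟩]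

theorem t9_31_35 : jobs 8 S9 b8_31 j9_31_35 = true := by decide +kernel

noncomputable def j9_31_36 : List Job := [
  ⟨27, 0x609068643a21128c46e01028442a29168e47c3e1d0d8642e15098441e0d058240e0501, 0, 32, 0x3e01004001, []⟩]

theorem t9_31_36 : jobs 8 S9 b8_31 j9_31_36 = true := by decide +kernel

noncomputable def j9_31_37 : List Job := [
  ⟨26, 0x43e1d0d8642e15098441e0d058240e0501, 0, 24, 0x0, []⟩]

theorem t9_31_37 : jobs 8 S9 b8_31 j9_31_37 = true := by decide +kernel

noncomputable def j9_31_38 : List Job := [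
  ⟨25, 0x609068643a29168e47e01028442a21128c46c3e1d0d8642e15098441e0d058240e0501, 0, 47, 0x3e01004001005a01005c01005e01, []⟩]

theorem t9_31_38 : jobs 8 S9 b8_31 j9_31_38 = true := by decide +kernel

noncomputable def j9_31_39 : List Job := [
  ⟨24, 0x43e1d0d8642e15098441e0d058240e0501, 0, 12, 0x1601001801, []⟩]

theorem t9_31_39 : jobs 8 S9 b8_31 j9_31_39 = true := by decide +kernel

noncomputable def j9_31_40 : List Job := [
  ⟨23, 0x609068442a21128e47e01028643a29168c46c3e1d0d8642e15098441e0d058240e0501, 0, 14, 0x0, []⟩]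

theorem t9_31_40 : jobs 8 S9 b8_31 j9_31_40 = true := by decide +kernel

noncomputable def j9_31_41 : List Job := [
  ⟨22, 0x43e1d0d8642e15098441e0d058240e0501, 0, 24, 0x0, []⟩]

theorem t9_31_41 : jobs 8 S9 b8_31 j9_31_41 = true := by decide +kernel

noncomputable def j9_31_42 : List Job := [
  ⟨21, 0x609068442a29168c46e01028643a21128e47c3e1d0d8642e15098441e0d058240e0501, 0, 26, 0x0, []⟩]

theorem t9_31_42 : jobs 8 S9 b8_31 j9_31_42 = true := by decide +kernel

noncomputable def j9_31_43 : List Job := [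
  ⟨20, 0x43e1d0d8642e15098441e0d058240e0501, 0, 10, 0x0, []⟩]

theorem t9_31_43 : jobs 8 S9 b8_31 j9_31_43 = true := by decide +kernel

noncomputable def j9_31_44 : List Job := [
  ⟨19, 0x609068643a21128c46e01028442a29168e47c3e1d0d8642e15098441e0d058240e0501, 0, 60, 0x0, []⟩]

theorem t9_31_44 : jobs 8 S9 b8_31 j9_31_44 = true := by decide +kernel

noncomputable def j9_31_45 : List Job := [
  ⟨18, 0x43e1d0d8642e15098441e0d058240e0501, 0, 10, 0x0, []⟩]

theorem t9_31_45 : jobs 8 S9 b8_31 j9_31_45 = true := by decide +kernel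

noncomputable def j9_31_46 : List Job := [
  ⟨17, 0x609068643a29168e47e01028442a21128c46c3e1d0d8642e15098441e0d058240e0501, 0, 16, 0x1a01001e01, []⟩]

theorem t9_31_46 : jobs 8 S9 b8_31 j9_31_46 = true := by decide +kernel

noncomputable def j9_31_47 : List Job := [
  ⟨16, 0x4d86e3a1dcd06a381ccc8663e1fcc0623c1ec3e1d0d8642e15098441e0d058240e0501, 0, 29, 0x0, []⟩]

theorem t9_31_47 : jobs 8 S9 b8_31 j9_31_47 = true := by decide +kernel

noncomputable def j9_31_48 : List Job := [
  ⟨15, 0x6110a8643a21128a45e01028241a311a8e47cd86e3a1dcd06a381ccc8663e1fcc0623c1ec3e1d0d8642e15098441e0d058240e0501, 0, 34, 0x4201004401, []⟩]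

theorem t9_31_48 : jobs 8 S9 b8_31 j9_31_48 = true := by decide +kernel

noncomputable def j9_31_49 : List Job := [
  ⟨14, 0x4e8763e1fce0723c1ecc866361bcc062341ac3e1d0d8642e15098441e0d058240e0501, 0, 44, 0x5001005201005401005601005801, []⟩]

theorem t9_31_49 : jobs 8 S9 b8_31 j9_31_49 = true := by decide +kernel

noncomputable def j9_31_50 : List Job := [
  ⟨13, 0x6110a8643a311a8e47e01028241a21128a45cd86e3e1fcd06a3c1ecc8663a1dcc062381cc3e1d0d8642e15098441e0d058240e0501, 0, 47, 0x4e01005001005201005c01005e01, []⟩]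

theorem t9_31_50 : jobs 8 S9 b8_31 j9_31_50 = true := by decide +kernel

noncomputable def j9_31_51 : List Job := [
  ⟨12, 0x6110a8643a21128a45e01028241a311a8e47c9c57261549453241448c5f22174845b201643e1d0d8642e15098441e0d058240e0501, 0, 59, 0x4200004400004601005401005601, [(33, ⟨2105, 0x410006a0024e0007800870000c0020a000100080001, 0x18c338b830050083006⟩), (32, ⟨2106, 0x4700146002520007800810010c0000a000100000001, 0x18c2489838050082006⟩)]⟩]

theorem t9_31_51 : jobs 8 S9 b8_31 j9_31_51 = true := by decide +kernel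

noncomputable def j9_31_52 : List Job := [
  ⟨11, 0x4ac5f2a174a45b281648c4f22134844b201243e1d0d8642e15098441e0d058240e0501, 0, 44, 0x0, []⟩]

theorem t9_31_52 : jobs 8 S9 b8_31 j9_31_52 = true := by decide +kernel

noncomputable def j9_31_53 : List Job := [
  ⟨10, 0x4cc6e3a1f4c86c3b1fcc46a381e4c068391ec3e1d0d8642e15098441e0d058240e0501, 0, 25, 0x0, []⟩]

theorem t9_31_53 : jobs 8 S9 b8_31 j9_31_53 = true := by decide +kernel

noncomputable def j9_31_54 : List Job := [
  ⟨9, 0x6110a8643a21128a45e01028241a311a8e47ccc6c3b1f4c86e3a1fcc468391e4c06a381ec3e1d0d8642e15098441e0d058240e0501, 0, 78, 0x0, []⟩]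

theorem t9_31_54 : jobs 8 S9 b8_31 j9_31_54 = true := by decide +kernel

noncomputable def j9_31_55 : List Job := [
  ⟨8, 0x4cc6c3a1fcc86e3b1f4c468381ecc06a391e43e1d0d8642e15098441e0d058240e0501, 0, 25, 0x0, []⟩]

theorem t9_31_55 : jobs 8 S9 b8_31 j9_31_55 = true := by decide +kernel

noncomputable def j9_31_56 : List Job := [
  ⟨7, 0x6110a8643a311a8e47e01028241a21128a45ccc6c3a1fcc86e3b1f4c468381ecc06a391e43e1d0d8642e15098441e0d058240e0501, 0, 32, 0x3a01003e01, []⟩]

theorem t9_31_56 : jobs 8 S9 b8_31 j9_31_56 = true := by decide +kernel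

noncomputable def j9_31_57 : List Job := [
  ⟨6, 0x43e1d0d8642e15098441e0d058240e0501, 0, 11, 0x1601, []⟩]

theorem t9_31_57 : jobs 8 S9 b8_31 j9_31_57 = true := by decide +kernel

noncomputable def j9_31_58 : List Job := [
  ⟨5, 0x43e1d0d8642e15098441e0d058240e0501, 0, 11, 0x1601, []⟩]

theorem t9_31_58 : jobs 8 S9 b8_31 j9_31_58 = true := by decide +kernel

noncomputable def j9_31_59 : List Job := [
  ⟨4, 0x43e1d0d8642e15098441e0d058240e0501, 0, 14, 0x1601001801001a01001c01, []⟩]

theorem t9_31_59 : jobs 8 S9 b8_31 j9_31_59 = true := by decide +kernel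

noncomputable def j9_31_60 : List Job := [
  ⟨3, 0x43e1d0d8642e15098441e0d058240e0501, 0, 26, 0x0, []⟩]

theorem t9_31_60 : jobs 8 S9 b8_31 j9_31_60 = true := by decide +kernel

noncomputable def j9_31_61 : List Job := [
  ⟨2, 0x43e1d0d8642e15098441e0d058240e0501, 0, 14, 0x1601001801001a01001c01, []⟩]

theorem t9_31_61 : jobs 8 S9 b8_31 j9_31_61 = true := by decide +kernel

noncomputable def j9_31_62 : List Job := [
  ⟨1, 0x43e1d0d8642e15098441e0d058240e0501, 0, 26, 0x0, []⟩]

theorem t9_31_62 : jobs 8 S9 b8_31 j9_31_62 = true := by decide +kernel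

noncomputable def j9_31_63 : List Job := [
  ⟨0, 0x43e1d0d8642e15098441e0d058240e0501, 0, 14, 0x1601001801001a01001c01, []⟩]

theorem t9_31_63 : jobs 8 S9 b8_31 j9_31_63 = true := by decide +kernel

theorem d9_31 : Dn 8 S9 b8_31 := dn_of (Js := j9_31_0 ++ (j9_31_1 ++ (j9_31_2 ++ (j9_31_3 ++ (j9_31_4 ++ (j9_31_5 ++ (j9_31_6 ++ (j9_31_7 ++ (j9_31_8 ++ (j9_31_9 ++ (j9_31_10 ++ (j9_31_11 ++ (j9_31_12 ++ (j9_31_13 ++ (j9_31_14 ++ (j9_31_15 ++ (j9_31_16 ++ (j9_31_17 ++ (j9_31_18 ++ (j9_31_19 ++ (j9_31_20 ++ (j9_31_21 ++ (j9_31_22 ++ (j9_31_23 ++ (j9_31_24 ++ (j9_31_25 ++ (j9_31_26 ++ (j9_31_27 ++ (j9_31_28 ++ (j9_31_29 ++ (j9_31_30 ++ (j9_31_31 ++ (j9_31_32 ++ (j9_31_33 ++ (j9_31_34 ++ (j9_31_35 ++ (j9_31_36 ++ (j9_31_37 ++ (j9_31_38 ++ (j9_31_39 ++ (j9_31_40 ++ (j9_31_41 ++ (j9_31_42 ++ (j9_31_43 ++ (j9_31_44 ++ (j9_31_45 ++ (j9_31_46 ++ (j9_31_47 ++ (j9_31_48 ++ (j9_31_49 ++ (j9_31_50 ++ (j9_31_51 ++ (j9_31_52 ++ (j9_31_53 ++ (j9_31_54 ++ (j9_31_55 ++ (j9_31_56 ++ (j9_31_57 ++ (j9_31_58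 ++ (j9_31_59 ++ (j9_31_60 ++ (j9_31_61 ++ (j9_31_62 ++ (j9_31_63 ++ []))))))))))))))))))))))))))))))))))))))))))))))))))))))))))))))))
  (jobs_append t9_31_0 <| jobs_append t9_31_1 <| jobs_append t9_31_2 <| jobs_append t9_31_3 <| jobs_append t9_31_4 <| jobs_append t9_31_5 <| jobs_append t9_31_6 <| jobs_append t9_31_7 <| jobs_append t9_31_8 <| jobs_append t9_31_9 <| jobs_append t9_31_10 <| jobs_append t9_31_11 <| jobs_append t9_31_12 <| jobs_append t9_31_13 <| jobs_append t9_31_14 <| jobs_append t9_31_15 <| jobs_append t9_31_16 <| jobs_append t9_31_17 <| jobs_append t9_31_18 <| jobs_append t9_31_19 <| jobs_append t9_31_20 <| jobs_append t9_31_21 <| jobs_append t9_31_22 <| jobs_append t9_31_23 <| jobs_append t9_31_24 <| jobs_append t9_31_25 <| jobs_append t9_31_26 <| jobs_append t9_31_27 <| jobs_append t9_31_28 <| jobs_append t9_31_29 <| jobs_append t9_31_30 <| jobs_append t9_31_31 <| jobs_append t9_31_32 <| jobs_append t9_31_33 <| jobs_append t9_31_34 <| jobs_append t9_31_35 <|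 jobs_append t9_31_36 <| jobs_append t9_31_37 <| jobs_append t9_31_38 <| jobs_append t9_31_39 <| jobs_append t9_31_40 <| jobs_append t9_31_41 <| jobs_append t9_31_42 <| jobs_append t9_31_43 <| jobs_append t9_31_44 <| jobs_append t9_31_45 <| jobs_append t9_31_46 <| jobs_append t9_31_47 <| jobs_append t9_31_48 <| jobs_append t9_31_49 <| jobs_append t9_31_50 <| jobs_append t9_31_51 <| jobs_append t9_31_52 <| jobs_append t9_31_53 <| jobs_append t9_31_54 <| jobs_append t9_31_55 <| jobs_append t9_31_56 <| jobs_append t9_31_57 <| jobs_append t9_31_58 <| jobs_append t9_31_59 <| jobs_append t9_31_60 <| jobs_append t9_31_61 <| jobs_append t9_31_62 <| jobs_append t9_31_63 <| List.forall_mem_nil _) (by decide +kernel)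

noncomputable def j9_32_0 : List Job := [
  ⟨63, 0x550aa562b960b25a2dd40a25229970ba5e2fd108a4623920924a25d008242219309a4e27c3e1d0d8642e15098441e0d058240e0501, 0, 13, 0x1801001a01, []⟩]

theorem t9_32_0 : jobs 8 S9 b8_32 j9_32_0 = true := by decide +kernel

noncomputable def j9_32_1 : List Job := [
  ⟨62, 0x560b25a2d970ba5e2fd40a25229950aa562bd20924a259309a4e27d008242219108a4623c3e1d0d8642e15098441e0d058240e0501, 0, 39, 0x3801003e01004401004801, []⟩]

theorem t9_32_1 : jobs 8 S9 b8_32 j9_32_1 = true := by decide +kernel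

noncomputable def j9_32_2 : List Job := [
  ⟨61, 0x43e1d0d8642e15098441e0d058240e0501, 0, 10, 0x0, []⟩]

theorem t9_32_2 : jobs 8 S9 b8_32 j9_32_2 = true := by decide +kernel

noncomputable def j9_32_3 : List Job := [
  ⟨60, 0x43e1d0d8642e15098441e0d058240e0501, 0, 10, 0x0, []⟩]

theorem t9_32_3 : jobs 8 S9 b8_32 j9_32_3 = true := by decide +kernel

noncomputable def j9_32_4 : List Job := [
  ⟨59, 0x560b25a2d970ba5e2fd40a25229950aa562bd20924a259309a4e27d008242219108a4623c3e1d0d8642e15098441e0d058240e0501, 0, 12, 0x1601001801, []⟩]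

theorem t9_32_4 : jobs 8 S9 b8_32 j9_32_4 = true := by decide +kernel

noncomputable def j9_32_5 : List Job := [
  ⟨58, 0x43e1d0d8642e15098441e0d058240e0501, 0, 12, 0x0, []⟩]

theorem t9_32_5 : jobs 8 S9 b8_32 j9_32_5 = true := by decide +kernel

noncomputable def j9_32_6 : List Job := [
  ⟨57, 0x468361e0fc60321c0ec4826160bc4022140ac3e1d0d8642e15098441e0d058240e0501, 0, 12, 0x1601001801, []⟩]

theorem t9_32_6 : jobs 8 S9 b8_32 j9_32_6 = true := by decide +kernel

noncomputable def j9_32_7 : List Job := [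
  ⟨56, 0x468361e0fc60321c0ec4826160bc4022140ac3e1d0d8642e15098441e0d058240e0501, 0, 15, 0x1601001800001a01001c1f001e01, [(11, ⟨2184, 0x2340143004a4001a0040800080040401040040001, 0x1872509838040082004⟩)]⟩]

theorem t9_32_7 : jobs 8 S9 b8_32 j9_32_7 = true := by decide +kernel

noncomputable def j9_32_8 : List Job := [
  ⟨55, 0x554ac582dd50ae592d544a45c2fd40a65d2f5309a4e27d20924a25d108a4623d00824221c582e1a0dc502a180cc48261e0fc40221c0ec3e1d0d8642e15098441e0d058240e0501, 0, 51, 0x3601003a01004201004601004a01004e01005201005401005801005a01, []⟩]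

theorem t9_32_8 : jobs 8 S9 b8_32 j9_32_8 = true := by decide +kernel

noncomputable def j9_32_9 : List Job := [
  ⟨54, 0x43e1d0d8642e15098441e0d058240e0501, 0, 24, 0x0, []⟩]

theorem t9_32_9 : jobs 8 S9 b8_32 j9_32_9 = true := by decide +kernel

noncomputable def j9_32_10 : List Job := [
  ⟨53, 0x64526944b261349d4fe4124954ba65369c4f504864423120944d27d00844523924964c2743e1d0d8642e15098441e0d058240e0501, 0, 26, 0x0, []⟩]

theorem t9_32_10 : jobs 8 S9 b8_32 j9_32_10 = true := by decide +kernel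

noncomputable def j9_32_11 : List Job := [
  ⟨52, 0x43e1d0d8642e15098441e0d058240e0501, 0, 26, 0x0, []⟩]

theorem t9_32_11 : jobs 8 S9 b8_32 j9_32_11 = true := by decide +kernel

noncomputable def j9_32_12 : List Job := [
  ⟨51, 0x4984e2a15c904a2814c88462e17c80422c16c3e1d0d8642e15098441e0d058240e0501, 0, 31, 0x1a01001c00, [(13, ⟨2170, 0x2380041000b801120040801010043001040040001, 0x18a220a830030082008⟩)]⟩]

theorem t9_32_12 : jobs 8 S9 b8_32 j9_32_12 = true := by decide +kernel

noncomputable def j9_32_13 : List Job := [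
  ⟨50, 0x43e1d0d8642e15098441e0d058240e0501, 0, 24, 0x0, []⟩]

theorem t9_32_13 : jobs 8 S9 b8_32 j9_32_13 = true := by decide +kernel

noncomputable def j9_32_14 : List Job := [
  ⟨49, 0x6512a964ba61329a4de41229249a713a9e4fd04864423120944d27d00844523924964c2743e1d0d8642e15098441e0d058240e0501, 0, 26, 0x0, []⟩]

theorem t9_32_14 : jobs 8 S9 b8_32 j9_32_14 = true := by decide +kernel

noncomputable def j9_32_15 : List Job := [
  ⟨48, 0x4884626138a8562e17c804224128a0522c16c3e1d0d8642e15098441e0d058240e0501, 0, 26, 0x0, []⟩]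

theorem t9_32_15 : jobs 8 S9 b8_32 j9_32_15 = true := by decide +kernel

noncomputable def j9_32_16 : List Job := [
  ⟨47, 0x6512a964ba61329a4de41229249a713a9e4fd04864423120944d27d00844523924964c274884626138a8562e17c804224128a0522c16c3e1d0d8642e15098441e0d058240e0501, 0, 88, 0x4c01005001008001008401, []⟩]

theorem t9_32_16 : jobs 8 S9 b8_32 j9_32_16 = true := by decide +kernel

noncomputable def j9_32_17 : List Job := [
  ⟨46, 0x6110a8643a21128a45e01028241a311a8e47c884626138a8562e17c804224128a0522c16c3e1d0d8642e15098441e0d058240e0501, 0, 34, 0x2201002401002601004401, []⟩]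

theorem t9_32_17 : jobs 8 S9 b8_32 j9_32_17 = true := by decide +kernel

noncomputable def j9_32_18 : List Job := [
  ⟨45, 0x54cac582ed48ae592e544a85a2fd40aa5b2f4944e2c174904c2d17c84462815480442915c3e1d0d8642e15098441e0d058240e0501, 0, 56, 0x2201002401002601004401005a10005e10006600006809006c01, [(50, ⟨2161, 0x44801400025e0047400820000200212000200000001, 0x182200b834010401006⟩)]⟩]

theorem t9_32_18 : jobs 8 S9 b8_32 j9_32_18 = true := by decide +kernel

noncomputable def j9_32_19 : List Job := [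
  ⟨44, 0x43e1d0d8642e15098441e0d058240e0501, 0, 24, 0x0, []⟩]

theorem t9_32_19 : jobs 8 S9 b8_32 j9_32_19 = true := by decide +kernel

noncomputable def j9_32_20 : List Job := [
  ⟨43, 0x43e1d0d8642e15098441e0d058240e0501, 0, 24, 0x0, []⟩]

theorem t9_32_20 : jobs 8 S9 b8_32 j9_32_20 = true := by decide +kernel

noncomputable def j9_32_21 : List Job := [
  ⟨42, 0x544a6552b960b45c2f540a4542b164b65d2fd20924a259309a4e27d008242219108a4623c3e1d0d8642e15098441e0d058240e0501, 0, 26, 0x0, []⟩]

theorem t9_32_21 : jobs 8 S9 b8_32 j9_32_21 = true := by decide +kernel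

noncomputable def j9_32_22 : List Job := [
  ⟨41, 0x544a6552b960b45c2f540a4542b164b65d2fd20924a259309a4e27d008242219108a4623c3e1d0d8642e15098441e0d058240e0501, 0, 26, 0x0, []⟩]

theorem t9_32_22 : jobs 8 S9 b8_32 j9_32_22 = true := by decide +kernel

noncomputable def j9_32_23 : List Job := [
  ⟨40, 0x43e1d0d8642e15098441e0d058240e0501, 0, 26, 0x0, []⟩]

theorem t9_32_23 : jobs 8 S9 b8_32 j9_32_23 = true := by decide +kernel

noncomputable def j9_32_24 : List Job := [
  ⟨39, 0x43e1d0d8642e15098441e0d058240e0501, 0, 26, 0x0, []⟩]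

theorem t9_32_24 : jobs 8 S9 b8_32 j9_32_24 = true := by decide +kernel

noncomputable def j9_32_25 : List Job := [
  ⟨38, 0x544a6552b960b45c2f540a4542b164b65d2fd20924a259309a4e27d008242219108a4623c3e1d0d8642e15098441e0d058240e0501, 0, 36, 0x3a01003c01003e01004001004201004401004601004801, []⟩]

theorem t9_32_25 : jobs 8 S9 b8_32 j9_32_25 = true := by decide +kernel

noncomputable def j9_32_26 : List Job := [
  ⟨37, 0x4884626138a8562e17c804224128a0522c16c3e1d0d8642e15098441e0d058240e0501, 0, 26, 0x0, []⟩]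

theorem t9_32_26 : jobs 8 S9 b8_32 j9_32_26 = true := by decide +kernel

noncomputable def j9_32_27 : List Job := [
  ⟨36, 0x4884626138a8562e17c804224128a0522c16c3e1d0d8642e15098441e0d058240e0501, 0, 26, 0x0, []⟩]

theorem t9_32_27 : jobs 8 S9 b8_32 j9_32_27 = true := by decide +kernel

noncomputable def j9_32_28 : List Job := [
  ⟨35, 0x544a6552b960b45c2f540a4542b164b65d2fd20924a259309a4e27d008242219108a4623c884626138a8562e17c804224128a0522c16c3e1d0d8642e15098441e0d058240e0501, 0, 76, 0x4c01004e01, []⟩]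

theorem t9_32_28 : jobs 8 S9 b8_32 j9_32_28 = true := by decide +kernel

noncomputable def j9_32_29 : List Job := [
  ⟨34, 0x544a6552b960b45c2f540a4542b164b65d2fd20924a259309a4e27d008242219108a4623c884626138a8562e17c804224128a0522c16c3e1d0d8642e15098441e0d058240e0501, 0, 31, 0x3a01003e01, []⟩]

theorem t9_32_29 : jobs 8 S9 b8_32 j9_32_29 = true := by decide +kernel

noncomputable def j9_32_30 : List Job := [
  ⟨33, 0x4984e2a15c904a2814c88462e17c80422c16c3e1d0d8642e15098441e0d058240e0501, 0, 30, 0x3c01, []⟩]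

theorem t9_32_30 : jobs 8 S9 b8_32 j9_32_30 = true := by decide +kernel

noncomputable def j9_32_31 : List Job := [
  ⟨32, 0x4984e2e17c904a2c16c88462a15c80422814c3e1d0d8642e15098441e0d058240e0501, 0, 30, 0x3a01003c01, []⟩]

theorem t9_32_31 : jobs 8 S9 b8_32 j9_32_31 = true := by decide +kernel

noncomputable def j9_32_32 : List Job := [
  ⟨31, 0x544a6552b960b45c2f540a4542b164b65d2fd20924a259309a4e27d008242219108a4623c984e2a15c904a2814c88462e17c80422c16c3e1d0d8642e15098441e0d058240e0501, 0, 88, 0x1c0100640100660100720100740100ae0100b001, []⟩]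

theorem t9_32_32 : jobs 8 S9 b8_32 j9_32_32 = true := by decide +kernel

noncomputable def j9_32_33 : List Job := [
  ⟨30, 0x504864423120944d27d00844523924964c2743e1d0d8642e15098441e0d058240e0501, 0, 28, 0x0, []⟩]

theorem t9_32_33 : jobs 8 S9 b8_32 j9_32_33 = true := by decide +kernel

noncomputable def j9_32_34 : List Job := [
  ⟨29, 0x43e1d0d8642e15098441e0d058240e0501, 0, 23, 0x0, []⟩]

theorem t9_32_34 : jobs 8 S9 b8_32 j9_32_34 = true := by decide +kernel

noncomputable def j9_32_35 : List Job := [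
  ⟨28, 0x5108a4623920924a25d008242219309a4e27c3e1d0d8642e15098441e0d058240e0501, 0, 28, 0x0, []⟩]

theorem t9_32_35 : jobs 8 S9 b8_32 j9_32_35 = true := by decide +kernel

noncomputable def j9_32_36 : List Job := [
  ⟨27, 0x6110a8643a21128a45e01028241a311a8e47d108a4623920924a25d008242219309a4e27c3e1d0d8642e15098441e0d058240e0501, 0, 57, 0x4001004201, []⟩]

theorem t9_32_36 : jobs 8 S9 b8_32 j9_32_36 = true := by decide +kernel

noncomputable def j9_32_37 : List Job := [
  ⟨26, 0x504864523920944c27500844423124964d27c3e1d0d8642e15098441e0d058240e0501, 0, 47, 0x2e01003001003201005c01005e01, []⟩]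

theorem t9_32_37 : jobs 8 S9 b8_32 j9_32_37 = true := by decide +kernel

noncomputable def j9_32_38 : List Job := [
  ⟨25, 0x520924a259309a4e27d008242219108a4623c3e1d0d8642e15098441e0d058240e0501, 0, 34, 0x3a01003c01003e01, []⟩]

theorem t9_32_38 : jobs 8 S9 b8_32 j9_32_38 = true := by decide +kernel

noncomputable def j9_32_39 : List Job := [
  ⟨24, 0x43e1d0d8642e15098441e0d058240e0501, 0, 25, 0x0, []⟩]

theorem t9_32_39 : jobs 8 S9 b8_32 j9_32_39 = true := by decide +kernel

noncomputable def j9_32_40 : List Job := [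
  ⟨23, 0x6110a8643a21128a45e01028241a311a8e47d04864423124964c27500844523920944d27c3e1d0d8642e15098441e0d058240e0501, 0, 32, 0x3401003601003801003a01003c01003e01004001, []⟩]

theorem t9_32_40 : jobs 8 S9 b8_32 j9_32_40 = true := by decide +kernel

noncomputable def j9_32_41 : List Job := [
  ⟨22, 0x43e1d0d8642e15098441e0d058240e0501, 0, 25, 0x0, []⟩]

theorem t9_32_41 : jobs 8 S9 b8_32 j9_32_41 = true := by decide +kernel

noncomputable def j9_32_42 : List Job := [
  ⟨21, 0x6110a8643a21128a45e01028241a311a8e47d108a46239309a4e27d00824221920924a25c3e1d0d8642e15098441e0d058240e0501, 0, 62, 0x4201004401004601004801004a01004c01004e01005001006601006801007401007801007a01007c01, []⟩]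

theorem t9_32_42 : jobs 8 S9 b8_32 j9_32_42 = true := by decide +kernel

noncomputable def j9_32_43 : List Job := [
  ⟨20, 0x43e1d0d8642e15098441e0d058240e0501, 0, 26, 0x0, []⟩]

theorem t9_32_43 : jobs 8 S9 b8_32 j9_32_43 = true := by decide +kernel

noncomputable def j9_32_44 : List Job := [
  ⟨19, 0x6110a8643a311a8e47e01028241a21128a45d04864423124964c27500844523920944d27c3e1d0d8642e15098441e0d058240e0501, 0, 88, 0x0, []⟩]

theorem t9_32_44 : jobs 8 S9 b8_32 j9_32_44 = true := by decide +kernel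

noncomputable def j9_32_45 : List Job := [
  ⟨18, 0x44c2e1b0fc482c1a0f4442a190ec4028180e43e1d0d8642e15098441e0d058240e0501, 0, 30, 0x3415003801003a01003c01, []⟩]

theorem t9_32_45 : jobs 8 S9 b8_32 j9_32_45 = true := by decide +kernel

noncomputable def j9_32_46 : List Job := [
  ⟨17, 0x621128a45a311a8e47e01028241a110a8643d08864623928964e27d00824422920924c26c542c1d0f4502e1c0fc4424190d44026180dc3e1d0d8642e15098441e0d058240e0501, 0, 68, 0x1a01005c01006401006c0100720100781f007c1e00801f, []⟩]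

theorem t9_32_46 : jobs 8 S9 b8_32 j9_32_46 = true := by decide +kernel

noncomputable def j9_32_47 : List Job := [
  ⟨16, 0x44c2e1b0fc482c1a0f4442a190ec4028180e43e1d0d8642e15098441e0d058240e0501, 0, 25, 0x0, []⟩]

theorem t9_32_47 : jobs 8 S9 b8_32 j9_32_47 = true := by decide +kernel

noncomputable def j9_32_48 : List Job := [
  ⟨15, 0x621128a45a311a8e47e01028241a110a8643d04864523924964d27d00844423120944c274582e1e0fc502a1c0ec48261a0dc4022180cc3e1d0d8642e15098441e0d058240e0501, 0, 59, 0x3a01003c01005601005801006401006808006c08, []⟩]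

theorem t9_32_48 : jobs 8 S9 b8_32 j9_32_48 = true := by decide +kernel

noncomputable def j9_32_49 : List Job := [
  ⟨14, 0x43e1d0d8642e15098441e0d058240e0501, 0, 25, 0x0, []⟩]

theorem t9_32_49 : jobs 8 S9 b8_32 j9_32_49 = true := by decide +kernel

noncomputable def j9_32_50 : List Job := [
  ⟨13, 0x605068543a21148c47601048443225168d47d20924a259309a4e27d008242219108a4623c3e1d0d8642e15098441e0d058240e0501, 0, 32, 0x0, []⟩]

theorem t9_32_50 : jobs 8 S9 b8_32 j9_32_50 = true := by decide +kernel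

noncomputable def j9_32_51 : List Job := [
  ⟨12, 0x4d06a361b8f07a3e1fcc06232198e0723a1dc904a26138b05a2e17c804222118a0522a15c3e1d0d8642e15098441e0d058240e0501, 0, 25, 0x0, []⟩]

theorem t9_32_51 : jobs 8 S9 b8_32 j9_32_51 = true := by decide +kernel

noncomputable def j9_32_52 : List Job := [
  ⟨11, 0x605068543a21148c47601048443225168d47d20924a259309a4e27d008242219108a4623cd06a361b8f07a3e1fcc06232198e0723a1dc904a26138b05a2e17c804222118a0522a15c3e1d0d8642e15098441e0d058240e0501, 0, 67, 0x3a01003c01004201004801006801007c01008001, []⟩]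

theorem t9_32_52 : jobs 8 S9 b8_32 j9_32_52 = true := by decide +kernel

noncomputable def j9_32_53 : List Job := [
  ⟨10, 0x508864623920924c26d00824422928964e27c3e1d0d8642e15098441e0d058240e0501, 0, 28, 0x0, []⟩]

theorem t9_32_53 : jobs 8 S9 b8_32 j9_32_53 = true := by decide +kernel

noncomputable def j9_32_54 : List Job := [
  ⟨9, 0x43e1d0d8642e15098441e0d058240e0501, 0, 23, 0x0, []⟩]

theorem t9_32_54 : jobs 8 S9 b8_32 j9_32_54 = true := by decide +kernel

noncomputable def j9_32_55 : List Job := [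
  ⟨8, 0x520924a259309a4e27d008242219108a4623c3e1d0d8642e15098441e0d058240e0501, 0, 28, 0x0, []⟩]

theorem t9_32_55 : jobs 8 S9 b8_32 j9_32_55 = true := by decide +kernel

noncomputable def j9_32_56 : List Job := [
  ⟨7, 0x621128a45a311a8e47e01028241a110a8643d20924a259309a4e27d008242219108a4623c3e1d0d8642e15098441e0d058240e0501, 0, 31, 0x1401001601, []⟩]

theorem t9_32_56 : jobs 8 S9 b8_32 j9_32_56 = true := by decide +kernel

noncomputable def j9_32_57 : List Job := [
  ⟨6, 0x508864623920924c26d00824422928964e27cd06a361b8f07a3e1fcc06232198e0723a1dc904a26138b05a2e17c804222118a0522a15c3e1d0d8642e15098441e0d058240e0501, 0, 49, 0x2e01003001003201006001006201, []⟩]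

theorem t9_32_57 : jobs 8 S9 b8_32 j9_32_57 = true := by decide +kernel

noncomputable def j9_32_58 : List Job := [
  ⟨5, 0x4d06a361b8f07a3e1fcc06232198e0723a1dc904a26138b05a2e17c804222118a0522a15c3e1d0d8642e15098441e0d058240e0501, 0, 45, 0x2601002801002a01005801005a01, []⟩]

theorem t9_32_58 : jobs 8 S9 b8_32 j9_32_58 = true := by decide +kernel

noncomputable def j9_32_59 : List Job := [
  ⟨4, 0x520924a259309a4e27d008242219108a4623cd06a361b8f07a3e1fcc06232198e0723a1dc904a26138b05a2e17c804222118a0522a15c3e1d0d8642e15098441e0d058240e0501, 0, 36, 0x3e01004601, []⟩]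

theorem t9_32_59 : jobs 8 S9 b8_32 j9_32_59 = true := by decide +kernel

noncomputable def j9_32_60 : List Job := [
  ⟨3, 0x4b05a2e17ca0522a15c904a2613c80422211c3e1d0d8642e15098441e0d058240e0501, 0, 30, 0x1a01001c01, []⟩]

theorem t9_32_60 : jobs 8 S9 b8_32 j9_32_60 = true := by decide +kernel

noncomputable def j9_32_61 : List Job := [
  ⟨2, 0x605068543a21148c47601048443225168d47d08864623920924c26d00824422928964e27cb05a2e17ca0522a15c904a2613c80422211c3e1d0d8642e15098441e0d058240e0501, 0, 95, 0x2c01005201005400, [(41, ⟨2153, 0x46801450024e0004000020000100216004200000001, 0x18d260ac20010401c08⟩)]⟩]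

theorem t9_32_61 : jobs 8 S9 b8_32 j9_32_61 = true := by decide +kernel

noncomputable def j9_32_62 : List Job := [
  ⟨1, 0x43e1d0d8642e15098441e0d058240e0501, 0, 34, 0x3e01004001004201004401, []⟩]

theorem t9_32_62 : jobs 8 S9 b8_32 j9_32_62 = true := by decide +kernel

noncomputable def j9_32_63 : List Job := [
  ⟨0, 0x43e1d0d8642e15098441e0d058240e0501, 0, 25, 0x0, []⟩]

theorem t9_32_63 : jobs 8 S9 b8_32 j9_32_63 = true := by decide +kernel

theorem d9_32 : Dn 8 S9 b8_32 := dn_of (Js := j9_32_0 ++ (j9_32_1 ++ (j9_32_2 ++ (j9_32_3 ++ (j9_32_4 ++ (j9_32_5 ++ (j9_32_6 ++ (j9_32_7 ++ (j9_32_8 ++ (j9_32_9 ++ (j9_32_10 ++ (j9_32_11 ++ (j9_32_12 ++ (j9_32_13 ++ (j9_32_14 ++ (j9_32_15 ++ (j9_32_16 ++ (j9_32_17 ++ (j9_32_18 ++ (j9_32_19 ++ (j9_32_20 ++ (j9_32_21 ++ (j9_32_22 ++ (j9_32_23 ++ (j9_32_24 ++ (j9_32_25 ++ (j9_32_26 ++ (j9_32_27 ++ (j9_32_28 ++ (j9_32_29 ++ (j9_32_30 ++ (j9_32_31 ++ (j9_32_32 ++ (j9_32_33 ++ (j9_32_34 ++ (j9_32_35 ++ (j9_32_36 ++ (j9_32_37 ++ (j9_32_38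 ++ (j9_32_39 ++ (j9_32_40 ++ (j9_32_41 ++ (j9_32_42 ++ (j9_32_43 ++ (j9_32_44 ++ (j9_32_45 ++ (j9_32_46 ++ (j9_32_47 ++ (j9_32_48 ++ (j9_32_49 ++ (j9_32_50 ++ (j9_32_51 ++ (j9_32_52 ++ (j9_32_53 ++ (j9_32_54 ++ (j9_32_55 ++ (j9_32_56 ++ (j9_32_57 ++ (j9_32_58 ++ (j9_32_59 ++ (j9_32_60 ++ (j9_32_61 ++ (j9_32_62 ++ (j9_32_63 ++ []))))))))))))))))))))))))))))))))))))))))))))))))))))))))))))))))
  (jobs_append t9_32_0 <| jobs_append t9_32_1 <| jobs_append t9_32_2 <| jobs_append t9_32_3 <| jobs_append t9_32_4 <| jobs_append t9_32_5 <| jobs_append t9_32_6 <| jobs_append t9_32_7 <| jobs_append t9_32_8 <| jobs_append t9_32_9 <| jobs_append t9_32_10 <| jobs_append t9_32_11 <| jobs_append t9_32_12 <| jobs_append t9_32_13 <| jobs_append t9_32_14 <| jobs_append t9_32_15 <| jobs_append t9_32_16 <| jobs_append t9_32_17 <| jobs_append t9_32_18 <| jobs_append t9_32_19 <| jobs_append t9_32_20 <| jobs_append t9_32_21 <| jobs_append t9_32_22 <| jobs_append t9_32_23 <| jobs_append t9_32_24 <| jobs_append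 t9_32_25 <| jobs_append t9_32_26 <| jobs_append t9_32_27 <| jobs_append t9_32_28 <| jobs_append t9_32_29 <| jobs_append t9_32_30 <| jobs_append t9_32_31 <| jobs_append t9_32_32 <| jobs_append t9_32_33 <| jobs_append t9_32_34 <| jobs_append t9_32_35 <| jobs_append t9_32_36 <| jobs_append t9_32_37 <| jobs_append t9_32_38 <| jobs_append t9_32_39 <| jobs_append t9_32_40 <| jobs_append t9_32_41 <| jobs_append t9_32_42 <| jobs_append t9_32_43 <| jobs_append t9_32_44 <| jobs_append t9_32_45 <| jobs_append t9_32_46 <| jobs_append t9_32_47 <| jobs_append t9_32_48 <| jobs_append t9_32_49 <| jobs_append t9_32_50 <| jobs_append t9_32_51 <| jobs_append t9_32_52 <| jobs_append t9_32_53 <| jobs_append t9_32_54 <| jobs_append t9_32_55 <| jobs_append t9_32_56 <| jobs_append t9_32_57 <| jobs_append t9_32_58 <| jobs_append t9_32_59 <| jobs_append t9_32_60 <| jobs_append t9_32_61 <| jobs_append t9_32_62 <| jobs_append t9_32_63 <| List.forall_mem_nil _) (by decide +kernel)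

noncomputable def j9_33_0 : List Job := [
  ⟨63, 0x43e1d0d8642e15098441e0d058240e0501, 0, 12, 0x0, []⟩]

theorem t9_33_0 : jobs 8 S9 b8_33 j9_33_0 = true := by decide +kernel

noncomputable def j9_33_1 : List Job := [
  ⟨62, 0x43e1d0d8642e15098441e0d058240e0501, 0, 12, 0x0, []⟩]

theorem t9_33_1 : jobs 8 S9 b8_33 j9_33_1 = true := by decide +kernel

noncomputable def j9_33_2 : List Job := [
  ⟨61, 0x44c2c1a0fc482e1b0f44428180ec402a190e43e1d0d8642e15098441e0d058240e0501, 0, 19, 0x1a00001e01002001002201, [(12, ⟨2255, 0x224004600080001400408010400014010c0000001, 0x183260802805020200c⟩)]⟩]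

theorem t9_33_2 : jobs 8 S9 b8_33 j9_33_2 = true := by decide +kernel

noncomputable def j9_33_3 : List Job := [
  ⟨60, 0x43e1d0d8642e15098441e0d058240e0501, 0, 25, 0x2201002401002601002801002a01002c01002e01003001003201, []⟩]

theorem t9_33_3 : jobs 8 S9 b8_33 j9_33_3 = true := by decide +kernel

noncomputable def j9_33_4 : List Job := [
  ⟨59, 0x43e1d0d8642e15098441e0d058240e0501, 0, 10, 0x0, []⟩]

theorem t9_33_4 : jobs 8 S9 b8_33 j9_33_4 = true := by decide +kernel

noncomputable def j9_33_5 : List Job := [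
  ⟨58, 0x43e1d0d8642e15098441e0d058240e0501, 0, 12, 0x1601001801, []⟩]

theorem t9_33_5 : jobs 8 S9 b8_33 j9_33_5 = true := by decide +kernel

noncomputable def j9_33_6 : List Job := [
  ⟨57, 0x4542c1c0fc502e1d0f44424180dc4026190d43e1d0d8642e15098441e0d058240e0501, 0, 14, 0x1a01, []⟩]

theorem t9_33_6 : jobs 8 S9 b8_33 j9_33_6 = true := by decide +kernel

noncomputable def j9_33_7 : List Job := [
  ⟨56, 0x43e1d0d8642e15098441e0d058240e0501, 0, 10, 0x0, []⟩]

theorem t9_33_7 : jobs 8 S9 b8_33 j9_33_7 = true := by decide +kernel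

noncomputable def j9_33_8 : List Job := [
  ⟨55, 0x43e1d0d8642e15098441e0d058240e0501, 0, 23, 0x2a01002c01002e01, []⟩]

theorem t9_33_8 : jobs 8 S9 b8_33 j9_33_8 = true := by decide +kernel

noncomputable def j9_33_9 : List Job := [
  ⟨54, 0x43e1d0d8642e15098441e0d058240e0501, 0, 12, 0x0, []⟩]

theorem t9_33_9 : jobs 8 S9 b8_33 j9_33_9 = true := by decide +kernel

noncomputable def j9_33_10 : List Job := [
  ⟨53, 0x43e1d0d8642e15098441e0d058240e0501, 0, 12, 0x0, []⟩]

theorem t9_33_10 : jobs 8 S9 b8_33 j9_33_10 = true := by decide +kernel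

noncomputable def j9_33_11 : List Job := [
  ⟨52, 0x584c465331a0d66c37d80c664339a4d46d37520924a259309a4e27d008242219108a4623c3e1d0d8642e15098441e0d058240e0501, 0, 16, 0x1a01001c01001e01002001, []⟩]

theorem t9_33_11 : jobs 8 S9 b8_33 j9_33_11 = true := by decide +kernel

noncomputable def j9_33_12 : List Job := [
  ⟨51, 0x584c464339a4d46c37d80c665331a0d66d375108a46239309a4e27d00824221920924a25c3e1d0d8642e15098441e0d058240e0501, 0, 38, 0x3a01003c01004201004401004601004801004a01004c01, []⟩]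

theorem t9_33_12 : jobs 8 S9 b8_33 j9_33_12 = true := by decide +kernel

noncomputable def j9_33_13 : List Job := [
  ⟨50, 0x44c2e1a0f4482c1b0fc442a180e44028190ec3e1d0d8642e15098441e0d058240e0501, 0, 18, 0x1a00001e01002000002201002401, [(15, ⟨2243, 0x2fc006c004b8011e00408000c0043401040040001, 0x1bf360b03805008200c⟩), (12, ⟨2242, 0x220004700094001200008000c0042400040040001, 0x185270983005008200e⟩)]⟩]

theorem t9_33_13 : jobs 8 S9 b8_33 j9_33_13 = true := by decide +kernel

noncomputable def j9_33_14 : List Job := [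
  ⟨49, 0x44c2e1a0f4482c1b0fc442a180e44028190ec3e1d0d8642e15098441e0d058240e0501, 0, 14, 0x1a01001c01, []⟩]

theorem t9_33_14 : jobs 8 S9 b8_33 j9_33_14 = true := by decide +kernel

noncomputable def j9_33_15 : List Job := [
  ⟨48, 0x5a0d26a359b0da6e37d80c26231990ca6633d04864523920944c27500844423124964d27c4c2c1a0fc482e1b0f44428180ec402a190e43e1d0d8642e15098441e0d058240e0501, 0, 66, 0x3c01004214004614004a14004e01005400005801005a01005c01005e01006201006401006601006801006a01006e01007001007201007800007a01007e01008200008401, [(64, ⟨2241, 0xbb0006400024000160000200004000050010c00000001, 0x1b6320903805020200c⟩), (59, ⟨2239, 0xbc001650002c000100000200104000050000c00000001, 0x1b5338842005020200c⟩), (41, ⟨2240, 0x8d0014000022000130010200004000090000c00100001, 0x186200a03e05020200e⟩)]⟩]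

theorem t9_33_15 : jobs 8 S9 b8_33 j9_33_15 = true := by decide +kernel

noncomputable def j9_33_16 : List Job := [
  ⟨47, 0x584c665339a4d66d37d80c464331a0d46c37508864623928964e27d00824422920924c26c582e1c0ec502a1e0fc4826180cc40221a0dc3e1d0d8642e15098441e0d058240e0501, 0, 53, 0x3a01003c01004218004618004a18005201005601006201006801, []⟩]

theorem t9_33_16 : jobs 8 S9 b8_33 j9_33_16 = true := by decide +kernel

noncomputable def j9_33_17 : List Job := [
  ⟨46, 0x5108a46239309a4e27d00824221920924a25c3e1d0d8642e15098441e0d058240e0501, 0, 14, 0x1a01001c01, []⟩]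

theorem t9_33_17 : jobs 8 S9 b8_33 j9_33_17 = true := by decide +kernel

noncomputable def j9_33_18 : List Job := [
  ⟨45, 0x5108a4623920924a25d008242219309a4e27c3e1d0d8642e15098441e0d058240e0501, 0, 14, 0x1c01, []⟩]

theorem t9_33_18 : jobs 8 S9 b8_33 j9_33_18 = true := by decide +kernel

noncomputable def j9_33_19 : List Job := [
  ⟨44, 0x43e1d0d8642e15098441e0d058240e0501, 0, 10, 0x0, []⟩]

theorem t9_33_19 : jobs 8 S9 b8_33 j9_33_19 = true := by decide +kernel

noncomputable def j9_33_20 : List Job := [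
  ⟨43, 0x548a6562b960b25c2ed40a2542a968b65e2fd20924a259309a4e27d008242219108a4623c3e1d0d8642e15098441e0d058240e0501, 0, 12, 0x0, []⟩]

theorem t9_33_20 : jobs 8 S9 b8_33 j9_33_20 = true := by decide +kernel

noncomputable def j9_33_21 : List Job := [
  ⟨42, 0x6110a8643a311a8e47e01028241a21128a45d108a4623920924a25d008242219309a4e27c3e1d0d8642e15098441e0d058240e0501, 0, 60, 0x0, []⟩]

theorem t9_33_21 : jobs 8 S9 b8_33 j9_33_21 = true := by decide +kernel

noncomputable def j9_33_22 : List Job := [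
  ⟨41, 0x6110a8643a21128a45e01028241a311a8e47c3e1d0d8642e15098441e0d058240e0501, 0, 60, 0x0, []⟩]

theorem t9_33_22 : jobs 8 S9 b8_33 j9_33_22 = true := by decide +kernel

noncomputable def j9_33_23 : List Job := [
  ⟨40, 0x6110a8643a21128a45e01028241a311a8e47d48a6562b960b25c2ed40a2542a968b65e2fd20924a259309a4e27d008242219108a4623c3e1d0d8642e15098441e0d058240e0501, 0, 64, 0x2e01003001, []⟩]

theorem t9_33_23 : jobs 8 S9 b8_33 j9_33_23 = true := by decide +kernel

noncomputable def j9_33_24 : List Job := [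
  ⟨39, 0x621128a45a311a8e47e01028241a110a8643d08864623920924c26d00824422928964e27c542c1c0fc502e1d0f44424180dc4026190d43e1d0d8642e15098441e0d058240e0501, 0, 75, 0x2a01002c01002e00003200003601003a01003e01004200004601, [(32, ⟨2226, 0x4280140000580004000020000800006000280000001, 0x18f200b02004040140e⟩), (24, ⟨2225, 0x20801840027800040000200108002140040c0000001, 0x148438f02004040180e⟩), (22, ⟨2224, 0x20801840027800040000200108002140040c0000001, 0x148438f02004040180e⟩)]⟩]

theorem t9_33_24 : jobs 8 S9 b8_33 j9_33_24 = true := by decide +kernel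

noncomputable def j9_33_25 : List Job := [
  ⟨38, 0x43e1d0d8642e15098441e0d058240e0501, 0, 35, 0x3601003801003a01003c01003e01004001004201, []⟩]

theorem t9_33_25 : jobs 8 S9 b8_33 j9_33_25 = true := by decide +kernel

noncomputable def j9_33_26 : List Job := [
  ⟨37, 0x43e1d0d8642e15098441e0d058240e0501, 0, 23, 0x2a01002c01002e01, []⟩]

theorem t9_33_26 : jobs 8 S9 b8_33 j9_33_26 = true := by decide +kernel

noncomputable def j9_33_27 : List Job := [
  ⟨36, 0x43e1d0d8642e15098441e0d058240e0501, 0, 10, 0x0, []⟩]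

theorem t9_33_27 : jobs 8 S9 b8_33 j9_33_27 = true := by decide +kernel

noncomputable def j9_33_28 : List Job := [
  ⟨35, 0x43e1d0d8642e15098441e0d058240e0501, 0, 19, 0x2201002401002601, []⟩]

theorem t9_33_28 : jobs 8 S9 b8_33 j9_33_28 = true := by decide +kernel

noncomputable def j9_33_29 : List Job := [
  ⟨34, 0x43e1d0d8642e15098441e0d058240e0501, 0, 19, 0x2201002401002601, []⟩]

theorem t9_33_29 : jobs 8 S9 b8_33 j9_33_29 = true := by decide +kernel

noncomputable def j9_33_30 : List Job := [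
  ⟨33, 0x43e1d0d8642e15098441e0d058240e0501, 0, 19, 0x2201002401002601, []⟩]

theorem t9_33_30 : jobs 8 S9 b8_33 j9_33_30 = true := by decide +kernel

noncomputable def j9_33_31 : List Job := [
  ⟨32, 0x564b45c2fd60b65d2f544a4542bd40a6552b43e1d0d8642e15098441e0d058240e0501, 0, 38, 0x2208002808002e01003001003201003401, []⟩]

theorem t9_33_31 : jobs 8 S9 b8_33 j9_33_31 = true := by decide +kernel

noncomputable def j9_33_32 : List Job := [
  ⟨31, 0x564b45c2fd60b65d2f544a4542bd40a6552b43e1d0d8642e15098441e0d058240e0501, 0, 40, 0x2208002808002c08002e01003001003201003401003601003801, []⟩]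

theorem t9_33_32 : jobs 8 S9 b8_33 j9_33_32 = true := by decide +kernel

noncomputable def j9_33_33 : List Job := [
  ⟨30, 0x43e1d0d8642e15098441e0d058240e0501, 0, 10, 0x0, []⟩]

theorem t9_33_33 : jobs 8 S9 b8_33 j9_33_33 = true := by decide +kernel

noncomputable def j9_33_34 : List Job := [
  ⟨29, 0x43e1d0d8642e15098441e0d058240e0501, 0, 10, 0x0, []⟩]

theorem t9_33_34 : jobs 8 S9 b8_33 j9_33_34 = true := by decide +kernel

noncomputable def j9_33_35 : List Job := [
  ⟨28, 0x504864423120944d27d00844523924964c2743e1d0d8642e15098441e0d058240e0501, 0, 60, 0x0, []⟩]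

theorem t9_33_35 : jobs 8 S9 b8_33 j9_33_35 = true := by decide +kernel

noncomputable def j9_33_36 : List Job := [
  ⟨27, 0x504864523920944c27500844423124964d27c3e1d0d8642e15098441e0d058240e0501, 0, 16, 0x1a01001c01001e01002001, []⟩]

theorem t9_33_36 : jobs 8 S9 b8_33 j9_33_36 = true := by decide +kernel

noncomputable def j9_33_37 : List Job := [
  ⟨26, 0x5148e4c275108c4d27d04864825500844925c4c2c1a0fc482e1b0f44428180ec402a190e43e1d0d8642e15098441e0d058240e0501, 0, 44, 0x2201002401002601002800002a00002e00003601003801003a00003c01003e00004001004201004401004600004801004a01004c01004e0100500100521f005401005601005801, [(34, ⟨2202, 0x840004f00024000160000200004000090000c00100001, 0x184270903805020200e⟩), (30, ⟨2204, 0x8f000490012f000160000200004001090010c00000001, 0x18e210b83805020200e⟩), (28, ⟨2199, 0x820014d0002b001120010200104000090010c00100001, 0x188230a83005020200e⟩), (22, ⟨2203, 0x3c00012001c5000410000c0010a001090000200100001, 0x13d0bb248205068040e⟩), (20, ⟨2201, 0x3500117001c30014d0000c0010a001090010200000001,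 0x1390fb049605068040e⟩), (19, ⟨2200, 0x89001460002d000140010200004001090000c00100001, 0x182260982805020200e⟩)]⟩]

theorem t9_33_37 : jobs 8 S9 b8_33 j9_33_37 = true := by decide +kernel

noncomputable def j9_33_38 : List Job := [
  ⟨25, 0x43e1d0d8642e15098441e0d058240e0501, 0, 10, 0x0, []⟩]

theorem t9_33_38 : jobs 8 S9 b8_33 j9_33_38 = true := by decide +kernel

noncomputable def j9_33_39 : List Job := [
  ⟨24, 0x43e1d0d8642e15098441e0d058240e0501, 0, 10, 0x0, []⟩]

theorem t9_33_39 : jobs 8 S9 b8_33 j9_33_39 = true := by decide +kernel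

noncomputable def j9_33_40 : List Job := [
  ⟨23, 0x504864423120944d27d00844523924964c2743e1d0d8642e15098441e0d058240e0501, 0, 52, 0x0, []⟩]

theorem t9_33_40 : jobs 8 S9 b8_33 j9_33_40 = true := by decide +kernel

noncomputable def j9_33_41 : List Job := [
  ⟨22, 0x504864523920944c27500844423124964d27c3e1d0d8642e15098441e0d058240e0501, 0, 14, 0x0, []⟩]

theorem t9_33_41 : jobs 8 S9 b8_33 j9_33_41 = true := by decide +kernel

noncomputable def j9_33_42 : List Job := [
  ⟨21, 0x43e1d0d8642e15098441e0d058240e0501, 0, 10, 0x0, []⟩]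

theorem t9_33_42 : jobs 8 S9 b8_33 j9_33_42 = true := by decide +kernel

noncomputable def j9_33_43 : List Job := [
  ⟨20, 0x43e1d0d8642e15098441e0d058240e0501, 0, 10, 0x0, []⟩]

theorem t9_33_43 : jobs 8 S9 b8_33 j9_33_43 = true := by decide +kernel

noncomputable def j9_33_44 : List Job := [
  ⟨19, 0x504864423120944d27d00844523924964c2743e1d0d8642e15098441e0d058240e0501, 0, 13, 0x1a01, []⟩]

theorem t9_33_44 : jobs 8 S9 b8_33 j9_33_44 = true := by decide +kernel

noncomputable def j9_33_45 : List Job := [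
  ⟨18, 0x504864523920944c27500844423124964d27c3e1d0d8642e15098441e0d058240e0501, 0, 14, 0x1a01, []⟩]

theorem t9_33_45 : jobs 8 S9 b8_33 j9_33_45 = true := by decide +kernel

noncomputable def j9_33_46 : List Job := [
  ⟨17, 0x43e1d0d8642e15098441e0d058240e0501, 0, 14, 0x1601001801001a01001c01, []⟩]

theorem t9_33_46 : jobs 8 S9 b8_33 j9_33_46 = true := by decide +kernel

noncomputable def j9_33_47 : List Job := [
  ⟨16, 0x43e1d0d8642e15098441e0d058240e0501, 0, 14, 0x1601001801001a01001c01, []⟩]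

theorem t9_33_47 : jobs 8 S9 b8_33 j9_33_47 = true := by decide +kernel

noncomputable def j9_33_48 : List Job := [
  ⟨15, 0x5148e4c275108c4d27d04864825500844925c3e1d0d8642e15098441e0d058240e0501, 0, 19, 0x1a01001c01001e01002001002201002401002601, []⟩]

theorem t9_33_48 : jobs 8 S9 b8_33 j9_33_48 = true := by decide +kernel

noncomputable def j9_33_49 : List Job := [
  ⟨14, 0x5148e48255108c4925d04864c27500844d27c3e1d0d8642e15098441e0d058240e0501, 0, 57, 0x201007001007201, []⟩]

theorem t9_33_49 : jobs 8 S9 b8_33 j9_33_49 = true := by decide +kernel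

noncomputable def j9_33_50 : List Job := [
  ⟨13, 0x50c8e4926d088c48265048a4b27d00884a274582e1c0ec502a1e0fc4826180cc40221a0dc3e1d0d8642e15098441e0d058240e0501, 0, 40, 0x2201002401002601002a01002c01002e01003010003410004c01004e01005001, []⟩]

theorem t9_33_50 : jobs 8 S9 b8_33 j9_33_50 = true := by decide +kernel

noncomputable def j9_33_51 : List Job := [
  ⟨12, 0x43e1d0d8642e15098441e0d058240e0501, 0, 13, 0x1601001801001a01, []⟩]

theorem t9_33_51 : jobs 8 S9 b8_33 j9_33_51 = true := by decide +kernel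

noncomputable def j9_33_52 : List Job := [
  ⟨11, 0x43e1d0d8642e15098441e0d058240e0501, 0, 14, 0x1601001801001a01001c01, []⟩]

theorem t9_33_52 : jobs 8 S9 b8_33 j9_33_52 = true := by decide +kernel

noncomputable def j9_33_53 : List Job := [
  ⟨10, 0x43e1d0d8642e15098441e0d058240e0501, 0, 13, 0x1601001801001a01, []⟩]

theorem t9_33_53 : jobs 8 S9 b8_33 j9_33_53 = true := by decide +kernel

noncomputable def j9_33_54 : List Job := [
  ⟨9, 0x43e1d0d8642e15098441e0d058240e0501, 0, 38, 0x3601003801003a01003c01003e01004001004201004401004601004801004a01004c01, []⟩]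

theorem t9_33_54 : jobs 8 S9 b8_33 j9_33_54 = true := by decide +kernel

noncomputable def j9_33_55 : List Job := [
  ⟨8, 0x43e1d0d8642e15098441e0d058240e0501, 0, 10, 0x0, []⟩]

theorem t9_33_55 : jobs 8 S9 b8_33 j9_33_55 = true := by decide +kernel

noncomputable def j9_33_56 : List Job := [
  ⟨7, 0x43e1d0d8642e15098441e0d058240e0501, 0, 10, 0x0, []⟩]

theorem t9_33_56 : jobs 8 S9 b8_33 j9_33_56 = true := by decide +kernel

noncomputable def j9_33_57 : List Job := [
  ⟨6, 0x43e1d0d8642e15098441e0d058240e0501, 0, 12, 0x1601001801, []⟩]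

theorem t9_33_57 : jobs 8 S9 b8_33 j9_33_57 = true := by decide +kernel

noncomputable def j9_33_58 : List Job := [
  ⟨5, 0x44c2e190ec482c180e4442a1b0fc40281a0f43e1d0d8642e15098441e0d058240e0501, 0, 38, 0x3601003801003a01003c01003e01004001004210004611004a10, []⟩]

theorem t9_33_58 : jobs 8 S9 b8_33 j9_33_58 = true := by decide +kernel

noncomputable def j9_33_59 : List Job := [
  ⟨4, 0x468361e0fc60321c0ec4826160bc4022140ac3e1d0d8642e15098441e0d058240e0501, 0, 15, 0x1601001801001a1a001c01001e01, []⟩]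

theorem t9_33_59 : jobs 8 S9 b8_33 j9_33_59 = true := by decide +kernel

noncomputable def j9_33_60 : List Job := [
  ⟨3, 0x44c2e190ec482c180e4442a1b0fc40281a0f43e1d0d8642e15098441e0d058240e0501, 0, 13, 0x1601001801001a01, []⟩]

theorem t9_33_60 : jobs 8 S9 b8_33 j9_33_60 = true := by decide +kernel

noncomputable def j9_33_61 : List Job := [
  ⟨2, 0x468361e0fc60321c0ec4826160bc4022140ac3e1d0d8642e15098441e0d058240e0501, 0, 35, 0x3601003801003a01003c01003e01004010004410, []⟩]

theorem t9_33_61 : jobs 8 S9 b8_33 j9_33_61 = true := by decide +kernel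

noncomputable def j9_33_62 : List Job := [
  ⟨1, 0x43e1d0d8642e15098441e0d058240e0501, 0, 13, 0x1a01, []⟩]

theorem t9_33_62 : jobs 8 S9 b8_33 j9_33_62 = true := by decide +kernel

noncomputable def j9_33_63 : List Job := [
  ⟨0, 0x43e1d0d8642e15098441e0d058240e0501, 0, 14, 0x1601001801, []⟩]

theorem t9_33_63 : jobs 8 S9 b8_33 j9_33_63 = true := by decide +kernel

theorem d9_33 : Dn 8 S9 b8_33 := dn_of (Js := j9_33_0 ++ (j9_33_1 ++ (j9_33_2 ++ (j9_33_3 ++ (j9_33_4 ++ (j9_33_5 ++ (j9_33_6 ++ (j9_33_7 ++ (j9_33_8 ++ (j9_33_9 ++ (j9_33_10 ++ (j9_33_11 ++ (j9_33_12 ++ (j9_33_13 ++ (j9_33_14 ++ (j9_33_15 ++ (j9_33_16 ++ (j9_33_17 ++ (j9_33_18 ++ (j9_33_19 ++ (j9_33_20 ++ (j9_33_21 ++ (j9_33_22 ++ (j9_33_23 ++ (j9_33_24 ++ (j9_33_25 ++ (j9_33_26 ++ (j9_33_27 ++ (j9_33_28 ++ (j9_33_29 ++ (j9_33_30 ++ (j9_33_31 ++ (j9_33_32 ++ (j9_33_33 ++ (j9_33_34 ++ (j9_33_35 ++ (j9_33_36 ++ (j9_33_37 ++ (j9_33_38 ++ (j9_33_39 ++ (j9_33_40 ++ (j9_33_41 ++ (j9_33_42 ++ (j9_33_43 ++ (j9_33_44 ++ (j9_33_45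 ++ (j9_33_46 ++ (j9_33_47 ++ (j9_33_48 ++ (j9_33_49 ++ (j9_33_50 ++ (j9_33_51 ++ (j9_33_52 ++ (j9_33_53 ++ (j9_33_54 ++ (j9_33_55 ++ (j9_33_56 ++ (j9_33_57 ++ (j9_33_58 ++ (j9_33_59 ++ (j9_33_60 ++ (j9_33_61 ++ (j9_33_62 ++ (j9_33_63 ++ []))))))))))))))))))))))))))))))))))))))))))))))))))))))))))))))))
  (jobs_append t9_33_0 <| jobs_append t9_33_1 <| jobs_append t9_33_2 <| jobs_append t9_33_3 <| jobs_append t9_33_4 <| jobs_append t9_33_5 <| jobs_append t9_33_6 <| jobs_append t9_33_7 <| jobs_append t9_33_8 <| jobs_append t9_33_9 <| jobs_append t9_33_10 <| jobs_append t9_33_11 <| jobs_append t9_33_12 <| jobs_append t9_33_13 <| jobs_append t9_33_14 <| jobs_append t9_33_15 <| jobs_append t9_33_16 <| jobs_append t9_33_17 <| jobs_append t9_33_18 <| jobs_append t9_33_19 <| jobs_append t9_33_20 <| jobs_append t9_33_21 <| jobs_append t9_33_22 <| jobs_append t9_33_23 <| jobs_append t9_33_24 <| jobs_append t9_33_25 <| jobs_append t9_33_26 <| jobs_append t9_33_27 <| jobs_append t9_33_28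 <| jobs_append t9_33_29 <| jobs_append t9_33_30 <| jobs_append t9_33_31 <| jobs_append t9_33_32 <| jobs_append t9_33_33 <| jobs_append t9_33_34 <| jobs_append t9_33_35 <| jobs_append t9_33_36 <| jobs_append t9_33_37 <| jobs_append t9_33_38 <| jobs_append t9_33_39 <| jobs_append t9_33_40 <| jobs_append t9_33_41 <| jobs_append t9_33_42 <| jobs_append t9_33_43 <| jobs_append t9_33_44 <| jobs_append t9_33_45 <| jobs_append t9_33_46 <| jobs_append t9_33_47 <| jobs_append t9_33_48 <| jobs_append t9_33_49 <| jobs_append t9_33_50 <| jobs_append t9_33_51 <| jobs_append t9_33_52 <| jobs_append t9_33_53 <| jobs_append t9_33_54 <| jobs_append t9_33_55 <| jobs_append t9_33_56 <| jobs_append t9_33_57 <| jobs_append t9_33_58 <| jobs_append t9_33_59 <| jobs_append t9_33_60 <| jobs_append t9_33_61 <| jobs_append t9_33_62 <| jobs_append t9_33_63 <| List.forall_mem_nil _) (by decide +kernel)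

end Cfsg.Agent.FS.N.Sw
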