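import Cfsg.Agent.FS.N.Sw.Seg
import Cfsg.Agent.FS.N.G.S9
import Cfsg.Agent.FS.N.G.L.L02

/-! The filter on the pairs for the order 512, part 7 (generated; helper52, project FS) -/

set_option autoImplicit false
set_option maxRecDepth 100000
set_option Elab.async false

namespace Cfsg.Agent.FS.N.Sw

open G

noncomputable def j9_44_0 : List Job := [
  ⟨63, 0x6c162b259ad16ab65be21128a45a311a8e47e05068543e01048443468361e0fc60321c0ec4826160bc4022140ac381f0c06c28170804c1e0d058240e0501, 237, 275, 0x0, []⟩]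

theorem t9_44_0 : jobs 8 S9 b8_44 j9_44_0 = true := by decide +kernel

noncomputable def j9_44_1 : List Job := [
  ⟨63, 0x6c162b259ad16ab65be21128a45a311a8e47e05068543e01048443468361e0fc60321c0ec4826160bc4022140ac381f0c06c28170804c1e0d058240e0501, 0, 237, 0x0, []⟩]

theorem t9_44_1 : jobs 8 S9 b8_44 j9_44_1 = true := by decide +kernel

noncomputable def j9_44_2 : List Job := [
  ⟨62, 0x6c162b259ad16ab65be01028241a110a8643c341f0c0742417080541e0d058240e0501, 0, 288, 0x0, []⟩]

theorem t9_44_2 : jobs 8 S9 b8_44 j9_44_2 = true := by decide +kernel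

noncomputable def j9_44_3 : List Job := [
  ⟨61, 0x6e172ba5daf17abe5fe01028241a110a8643c68361e0fc60321c0ec4826160bc4022140ac381f0c06c28170804c1e0d058240e0501, 0, 288, 0x0, []⟩]

theorem t9_44_3 : jobs 8 S9 b8_44 j9_44_3 = true := by decide +kernel

noncomputable def j9_44_4 : List Job := [
  ⟨60, 0x6e576bc5f6e174bd5fec566b45b6c164b55bc3e1d0d8642e15098441e0d058240e0501, 0, 90, 0x0, []⟩]

theorem t9_44_4 : jobs 8 S9 b8_44 j9_44_4 = true := by decide +kernel

noncomputable def j9_44_5 : List Job := [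
  ⟨59, 0x621128a45a311a8e47e01028241a110a8643c3e1d0d8642e15098441e0d058240e0501, 0, 102, 0x0, []⟩]

theorem t9_44_5 : jobs 8 S9 b8_44 j9_44_5 = true := by decide +kernel

noncomputable def j9_44_6 : List Job := [
  ⟨58, 0x621128a45a311a8e47e01028241a110a8643c3e1d0d8642e15098441e0d058240e0501, 0, 90, 0x0, []⟩]

theorem t9_44_6 : jobs 8 S9 b8_44 j9_44_6 = true := by decide +kernel

noncomputable def j9_44_7 : List Job := [
  ⟨57, 0x43e1d0d8642e15098441e0d058240e0501, 0, 90, 0x0, []⟩]

theorem t9_44_7 : jobs 8 S9 b8_44 j9_44_7 = true := by decide +kernel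

noncomputable def j9_44_8 : List Job := [
  ⟨56, 0x6e172ba5daf17abe5fec162b259ad16ab65be311a8e47e21128a45e110a8643e01028241c3e1d0d8642e15098441e0d058240e0501, 0, 102, 0x0, []⟩]

theorem t9_44_8 : jobs 8 S9 b8_44 j9_44_8 = true := by decide +kernel

noncomputable def j9_44_9 : List Job := [
  ⟨55, 0x43e1d0d8642e15098441e0d058240e0501, 0, 90, 0x0, []⟩]

theorem t9_44_9 : jobs 8 S9 b8_44 j9_44_9 = true := by decide +kernel

noncomputable def j9_44_10 : List Job := [
  ⟨54, 0x464361d0fc60341c0f44426150bc4024140b43e1d0d8642e15098441e0d058240e0501, 0, 90, 0x0, []⟩]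

theorem t9_44_10 : jobs 8 S9 b8_44 j9_44_10 = true := by decide +kernel

noncomputable def j9_44_11 : List Job := [
  ⟨53, 0x6e574bd5f6e176bc5fec564b55b6c166b45be21128a45a311a8e47e01028241a110a8643c64361d0fc60341c0f44426150bc4024140b43e1d0d8642e15098441e0d058240e0501, 0, 225, 0xce0100d20100d60100da0100de0100e40100e801, []⟩]

theorem t9_44_11 : jobs 8 S9 b8_44 j9_44_11 = true := by decide +kernel

noncomputable def j9_44_12 : List Job := [
  ⟨52, 0x464361d0fc60341c0f44426150bc4024140b43e1d0d8642e15098441e0d058240e0501, 0, 90, 0x0, []⟩]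

theorem t9_44_12 : jobs 8 S9 b8_44 j9_44_12 = true := by decide +kernel

noncomputable def j9_44_13 : List Job := [
  ⟨51, 0x6e574bc5fee176bd5f6c564b45bec166b55b621128a45a311a8e47e01028241a110a8643c68361e0fc60321c0ec4826160bc4022140ac3e1d0d8642e15098441e0d058240e0501, 0, 228, 0x1aa0801ac0901ae0801b00801b40801ba0801c00801c808, []⟩]

theorem t9_44_13 : jobs 8 S9 b8_44 j9_44_13 = true := by decide +kernel

noncomputable def j9_44_14 : List Job := [
  ⟨50, 0x6e172ba5daf17abe5fec162b259ad16ab65bc64361d0fc60341c0f44426150bc4024140b43e1d0d8642e15098441e0d058240e0501, 0, 225, 0x19a0101a00101a40101a60101b80101be0101c001, []⟩]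

theorem t9_44_14 : jobs 8 S9 b8_44 j9_44_14 = true := by decide +kernel

noncomputable def j9_44_15 : List Job := [
  ⟨49, 0x6311a8e47e21128a45e110a8643e01028241c64361d0fc60341c0f44426150bc4024140b43e1d0d8642e15098441e0d058240e0501, 0, 90, 0x0, []⟩]

theorem t9_44_15 : jobs 8 S9 b8_44 j9_44_15 = true := by decide +kernel

noncomputable def j9_44_16 : List Job := [
  ⟨48, 0x6e172ba5daf17abe5fec162b259ad16ab65bc64361d0fc60341c0f44426150bc4024140b43e1d0d8642e15098441e0d058240e0501, 0, 90, 0x0, []⟩]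

theorem t9_44_16 : jobs 8 S9 b8_44 j9_44_16 = true := by decide +kernel

noncomputable def j9_44_17 : List Job := [
  ⟨47, 0x621128a45a311a8e47e01028241a110a8643de0f27a3d9f0fa7e3fda0d26a359b0da6e37d80c26231990ca6633d08864623d00824422c1e0d058240e0501, 0, 288, 0x0, []⟩]

theorem t9_44_17 : jobs 8 S9 b8_44 j9_44_17 = true := by decide +kernel

noncomputable def j9_44_18 : List Job := [
  ⟨46, 0x621128a45a311a8e47e01028241a110a8643de0f27a3d9f0fa7e3fd60b25a2d970ba5e2fd40a25229950aa562bd08864422d00824623c64361d0fc60341c0f44426150bc4024140b41e0d058240e0501, 0, 288, 0x0, []⟩]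

theorem t9_44_18 : jobs 8 S9 b8_44 j9_44_18 = true := by decide +kernel

noncomputable def j9_44_19 : List Job := [
  ⟨45, 0x6e172ba5daf17abe5fe09068643e01028442de0f27a3d9f0fa7e3fda0d26a359b0da6e37d80c26231990ca6633d08864623d00824422c1e0d058240e0501, 0, 320, 0x0, []⟩]

theorem t9_44_19 : jobs 8 S9 b8_44 j9_44_19 = true := by decide +kernel

noncomputable def j9_44_20 : List Job := [
  ⟨44, 0x6e976bc5eee172be5fe01028241a110a8643de0f27a3d9f0fa7e3fd60b25a2d970ba5e2fd40a25229950aa562bd08864422d00824623c64361d0fc60341c0f44426150bc4024140b41e0d058240e0501, 0, 320, 0x0, []⟩]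

theorem t9_44_20 : jobs 8 S9 b8_44 j9_44_20 = true := by decide +kernel

noncomputable def j9_44_21 : List Job := [
  ⟨43, 0x621128a45a311a8e47de0f27a3d9f0fa7e3fdc0e272399d0ea763bda0d26a359b0da6e37d08864422d00824623c1e0d058240e0501, 0, 288, 0x0, []⟩]

theorem t9_44_21 : jobs 8 S9 b8_44 j9_44_21 = true := by decide +kernel

noncomputable def j9_44_22 : List Job := [
  ⟨42, 0x6e172ba5daf17abe5fec162b259ad16ab65be01028241a110a8643de0f27a3d9f0fa7e3fdc0e272399d0ea763bda0d26a359b0da6e37d08864422d00824623c1e0d058240e0501, 0, 288, 0x0, []⟩]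

theorem t9_44_22 : jobs 8 S9 b8_44 j9_44_22 = true := by decide +kernel

noncomputable def j9_44_23 : List Job := [
  ⟨41, 0x6e172ba5daf17abe5fec162b259ad16ab65be29168c46e21128e47de0f27a3d9f0fa7e3fdc0e272399d0ea763bda0d26a359b0da6e37d08864422d00824623c1e0d058240e0501, 0, 288, 0x0, []⟩]

theorem t9_44_23 : jobs 8 S9 b8_44 j9_44_23 = true := by decide +kernel

noncomputable def j9_44_24 : List Job := [
  ⟨40, 0x609068643e01028442de0f27a3d9f0fa7e3fdc0e272399d0ea763bda0d26a359b0da6e37d08864422d00824623c1e0d058240e0501, 0, 288, 0x0, []⟩]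

theorem t9_44_24 : jobs 8 S9 b8_44 j9_44_24 = true := by decide +kernel

noncomputable def j9_44_25 : List Job := [
  ⟨39, 0x6e172ba5daf17abe5fec162b259ad16ab65be29168c46e21128e47de0f27a3d9f0fa7e3fdc0e272399d0ea763bda0d26a359b0da6e37d60b25a2d970ba5e2fd40a25229950aa562bd20924a259309a4e27c1e0d058240e0501, 0, 168, 0x0, []⟩]

theorem t9_44_25 : jobs 8 S9 b8_44 j9_44_25 = true := by decide +kernel

noncomputable def j9_44_26 : List Job := [
  ⟨38, 0x6110a8643e01028241de0f27a3d9f0fa7e3fdc0e272399d0ea763bda0d26a359b0da6e37d60b25a2d970ba5e2fd40a25229950aa562bd20924a259309a4e27c1e0d058240e0501, 0, 168, 0x0, []⟩]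

theorem t9_44_26 : jobs 8 S9 b8_44 j9_44_26 = true := by decide +kernel

noncomputable def j9_44_27 : List Job := [
  ⟨37, 0x6e172ba5daf17abe5fec162b259ad16ab65be29168c46e21128e47d90ca6633d80c26231d108a4623d00824221c1e0d058240e0501, 0, 168, 0x0, []⟩]

theorem t9_44_27 : jobs 8 S9 b8_44 j9_44_27 = true := by decide +kernel

noncomputable def j9_44_28 : List Job := [
  ⟨36, 0x609068643e01028442d88c66633d80c26432d08864623d00824422c1e0d058240e0501, 0, 168, 0x0, []⟩]

theorem t9_44_28 : jobs 8 S9 b8_44 j9_44_28 = true := by decide +kernel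

noncomputable def j9_44_29 : List Job := [
  ⟨35, 0x6e172ba5daf17abe5fec162b259ad16ab65be21128a45a311a8e47da0d26a359b0da6e37d60b25a2d970ba5e2fd40a25229950aa562bd08864422d00824623c64361d0fc60341c0f44426150bc4024140b41e0d058240e0501, 0, 288, 0x0, []⟩]

theorem t9_44_29 : jobs 8 S9 b8_44 j9_44_29 = true := by decide +kernel

noncomputable def j9_44_30 : List Job := [
  ⟨34, 0x601028241a110a8643da0d26a359b0da6e37d60b25a2d970ba5e2fd40a25229950aa562bd08864422d00824623c64361d0fc60341c0f44426150bc4024140b41e0d058240e0501, 0, 288, 0x0, []⟩]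

theorem t9_44_30 : jobs 8 S9 b8_44 j9_44_30 = true := by decide +kernel

noncomputable def j9_44_31 : List Job := [
  ⟨33, 0x629168c46e21128e47da0d26a359b0da6e37d60b25a2d970ba5e2fd40a25229950aa562bd08864422d00824623c64361d0fc60341c0f44426150bc4024140b41e0d058240e0501, 0, 288, 0x0, []⟩]

theorem t9_44_31 : jobs 8 S9 b8_44 j9_44_31 = true := by decide +kernel

noncomputable def j9_44_32 : List Job := [
  ⟨32, 0x6e172ba5daf17abe5fec162b259ad16ab65be09068643e01028442da0d26a359b0da6e37d60b25a2d970ba5e2fd40a25229950aa562bd08864422d00824623c64361d0fc60341c0f44426150bc4024140b41e0d058240e0501, 0, 288, 0x0, []⟩]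

theorem t9_44_32 : jobs 8 S9 b8_44 j9_44_32 = true := by decide +kernel

noncomputable def j9_44_33 : List Job := [
  ⟨31, 0x629168c46e21128e47da0d26a359b0da6e37d20924a259309a4e27c64361d0fc60341c0f44426150bc4024140b41e0d058240e0501, 0, 168, 0x0, []⟩]

theorem t9_44_33 : jobs 8 S9 b8_44 j9_44_33 = true := by decide +kernel

noncomputable def j9_44_34 : List Job := [
  ⟨30, 0x6e172ba5daf17abe5fec162b259ad16ab65be110a8643e01028241da0d26a359b0da6e37d20924a259309a4e27c64361d0fc60341c0f44426150bc4024140b41e0d058240e0501, 0, 168, 0x0, []⟩]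

theorem t9_44_34 : jobs 8 S9 b8_44 j9_44_34 = true := by decide +kernel

noncomputable def j9_44_35 : List Job := [
  ⟨29, 0x629168c46e21128e47de0f27a3d9f0fa7e3fdc0e272399d0ea763bd90ca6633d80c26231d60b25a2d970ba5e2fd40a25229950aa562bd108a4623d00824221c64361d0fc60341c0f44426150bc4024140b41e0d058240e0501, 0, 168, 0x0, []⟩]

theorem t9_44_35 : jobs 8 S9 b8_44 j9_44_35 = true := by decide +kernel

noncomputable def j9_44_36 : List Job := [
  ⟨28, 0x6e172ba5daf17abe5fec162b259ad16ab65be09068643e01028442de0f27a3d9f0fa7e3fdc0e272399d0ea763bd88c66633d80c26432d60b25a2d970ba5e2fd40a25229950aa562bd08864623d00824422c64361d0fc60341c0f44426150bc4024140b41e0d058240e0501, 185, 183, 0x0, []⟩]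

theorem t9_44_36 : jobs 8 S9 b8_44 j9_44_36 = true := by decide +kernel

noncomputable def j9_44_37 : List Job := [
  ⟨28, 0x6e172ba5daf17abe5fec162b259ad16ab65be09068643e01028442de0f27a3d9f0fa7e3fdc0e272399d0ea763bd88c66633d80c26432d60b25a2d970ba5e2fd40a25229950aa562bd08864623d00824422c64361d0fc60341c0f44426150bc4024140b41e0d058240e0501, 0, 185, 0x0, []⟩]

theorem t9_44_37 : jobs 8 S9 b8_44 j9_44_37 = true := by decide +kernel

noncomputable def j9_44_38 : List Job := [
  ⟨27, 0x621128a45a311a8e47de0f27a3d9f0fa7e3fdc0e272399d0ea763bd44a6542b540a4552bd08864422d00824623c4426150bc4024140b41e0d058240e0501, 0, 288, 0x0, []⟩]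

theorem t9_44_38 : jobs 8 S9 b8_44 j9_44_38 = true := by decide +kernel

noncomputable def j9_44_39 : List Job := [
  ⟨26, 0x6e172ba5daf17abe5fec162b259ad16ab65be09068442e01028643de0f27a3d9f0fa7e3fdc0e272399d0ea763bd44a4552b540a6542bd08864422d00824623c4426150bc4024140b41e0d058240e0501, 0, 288, 0x0, []⟩]

theorem t9_44_39 : jobs 8 S9 b8_44 j9_44_39 = true := by decide +kernel

noncomputable def j9_44_40 : List Job := [
  ⟨25, 0x6e172ba5daf17abe5fec162b259ad16ab65be21128a45a311a8e47da0d26a359b0da6e37d80c26231990ca6633d44a4542bd40a6552b5108a4623d00824221c4426150bc4024140b41e0d058240e0501, 0, 288, 0x0, []⟩]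

theorem t9_44_40 : jobs 8 S9 b8_44 j9_44_40 = true := by decide +kernel

noncomputable def j9_44_41 : List Job := [
  ⟨24, 0x609068643e01028442da0d26a359b0da6e37d80c26231990ca6633d44a4542bd40a6552b508864623d00824422c4426150bc4024140b41e0d058240e0501, 0, 288, 0x0, []⟩]

theorem t9_44_41 : jobs 8 S9 b8_44 j9_44_41 = true := by decide +kernel

noncomputable def j9_44_42 : List Job := [
  ⟨23, 0x6e172ba5daf17abe5fec162b259ad16ab65be21128a45a311a8e47de0f27a3d9f0fa7e3fdc0e272399d0ea763bd60b25a2d970ba5e2fd008242219108a4623c4426150bc4024140b41e0d058240e0501, 0, 288, 0x0, []⟩]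

theorem t9_44_42 : jobs 8 S9 b8_44 j9_44_42 = true := by decide +kernel

noncomputable def j9_44_43 : List Job := [
  ⟨22, 0x609068442e01028643de0f27a3d9f0fa7e3fdc0e272399d0ea763bd60b25a2d970ba5e2fd008242219108a4623c4426150bc4024140b41e0d058240e0501, 0, 288, 0x0, []⟩]

theorem t9_44_43 : jobs 8 S9 b8_44 j9_44_43 = true := by decide +kernel

noncomputable def j9_44_44 : List Job := [
  ⟨21, 0x621128a45a311a8e47da0d26a359b0da6e37d80c26231990ca6633d60b25a2d970ba5e2fd008242219108a4623c4426150bc4024140b41e0d058240e0501, 0, 288, 0x0, []⟩]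

theorem t9_44_44 : jobs 8 S9 b8_44 j9_44_44 = true := by decide +kernel

noncomputable def j9_44_45 : List Job := [
  ⟨20, 0x6e172ba5daf17abe5fec162b259ad16ab65be09068643e01028442da0d26a359b0da6e37d80c26231990ca6633d60b25a2d970ba5e2fd008242219108a4623c4426150bc4024140b41e0d058240e0501, 0, 288, 0x0, []⟩]

theorem t9_44_45 : jobs 8 S9 b8_44 j9_44_45 = true := by decide +kernel

noncomputable def j9_44_46 : List Job := [
  ⟨19, 0x6e172ba5daf17abe5fe110a8643e01028241de0f27a3d9f0fa7e3fdc0e272399d0ea763bc4426150bc4024140b41e0d058240e0501, 0, 288, 0x0, []⟩]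

theorem t9_44_46 : jobs 8 S9 b8_44 j9_44_46 = true := by decide +kernel

noncomputable def j9_44_47 : List Job := [
  ⟨18, 0x6e172ba5daf17abe5fe09068643e01028442da0d26a359b0da6e37d80c26231990ca6633d60b25a2d970ba5e2fd40a25229950aa562bd20924a259309a4e27d008242219108a4623c4426150bc4024140b41e0d058240e0501, 0, 288, 0x0, []⟩]

theorem t9_44_47 : jobs 8 S9 b8_44 j9_44_47 = true := by decide +kernel

noncomputable def j9_44_48 : List Job := [
  ⟨17, 0x621128a45a311a8e47e01028241a110a8643de0f27a3d9f0fa7e3fd80c26231990ca6633d44a4542bd40a6552b508864623d00824422c4426150bc4024140b41e0d058240e0501, 0, 320, 0x0, []⟩]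

theorem t9_44_48 : jobs 8 S9 b8_44 j9_44_48 = true := by decide +kernel

noncomputable def j9_44_49 : List Job := [
  ⟨16, 0x6e172ba5daf17abe5fe09068643e01028442de0f27a3d9f0fa7e3fd80c26231990ca6633d44a4542bd40a6552b508864623d00824422c4426150bc4024140b41e0d058240e0501, 229, 283, 0x0, []⟩]

theorem t9_44_49 : jobs 8 S9 b8_44 j9_44_49 = true := by decide +kernel

noncomputable def j9_44_50 : List Job := [
  ⟨16, 0x6e172ba5daf17abe5fe09068643e01028442de0f27a3d9f0fa7e3fd80c26231990ca6633d44a4542bd40a6552b508864623d00824422c4426150bc4024140b41e0d058240e0501, 0, 229, 0x0, []⟩]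

theorem t9_44_50 : jobs 8 S9 b8_44 j9_44_50 = true := by decide +kernel

noncomputable def j9_44_51 : List Job := [
  ⟨15, 0x6e172ba5daf17abe5fe01028241a110a8643da0d26a359b0da6e37d40a25229950aa562bd20924a259309a4e27d04864423500844523c4826160bc4022140ac381f0c06c28170804c1e0d058240e0501, 242, 270, 0x0, []⟩]

theorem t9_44_51 : jobs 8 S9 b8_44 j9_44_51 = true := by decide +kernel

noncomputable def j9_44_52 : List Job := [
  ⟨15, 0x6e172ba5daf17abe5fe01028241a110a8643da0d26a359b0da6e37d40a25229950aa562bd20924a259309a4e27d04864423500844523c4826160bc4022140ac381f0c06c28170804c1e0d058240e0501, 0, 242, 0x0, []⟩]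

theorem t9_44_52 : jobs 8 S9 b8_44 j9_44_52 = true := by decide +kernel

noncomputable def j9_44_53 : List Job := [
  ⟨14, 0x625168c47621148d47e01028241a110a8643da0d26a359b0da6e37d40a25229950aa562bd20924a259309a4e27d04864423500844523c4826160bc4022140ac381f0c06c28170804c1e0d058240e0501, 243, 269, 0x0, []⟩]

theorem t9_44_53 : jobs 8 S9 b8_44 j9_44_53 = true := by decide +kernel

noncomputable def j9_44_54 : List Job := [
  ⟨14, 0x625168c47621148d47e01028241a110a8643da0d26a359b0da6e37d40a25229950aa562bd20924a259309a4e27d04864423500844523c4826160bc4022140ac381f0c06c28170804c1e0d058240e0501, 0, 243, 0x0, []⟩]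

theorem t9_44_54 : jobs 8 S9 b8_44 j9_44_54 = true := by decide +kernel

noncomputable def j9_44_55 : List Job := [
  ⟨13, 0x6c162b259ad16ab65bde0f27a3d9f0fa7e3fd40a25229950aa562bd20924a259309a4e27d08864422d00824623c4426150bc4024140b42c1f0a074241b080641e0d058240e0501, 232, 280, 0x0, []⟩]

theorem t9_44_55 : jobs 8 S9 b8_44 j9_44_55 = true := by decide +kernel

noncomputable def j9_44_56 : List Job := [
  ⟨13, 0x6c162b259ad16ab65bde0f27a3d9f0fa7e3fd40a25229950aa562bd20924a259309a4e27d08864422d00824623c4426150bc4024140b42c1f0a074241b080641e0d058240e0501, 0, 232, 0x0, []⟩]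

theorem t9_44_56 : jobs 8 S9 b8_44 j9_44_56 = true := by decide +kernel

noncomputable def j9_44_57 : List Job := [
  ⟨12, 0x6e172ba5daf17abe5fe21128a45a311a8e47e01028241a110a8643de0f27a3d9f0fa7e3fd40a25229950aa562bd20924a259309a4e27d04864423500844523c4826160bc4022140ac381f0c06c28170804c1e0d058240e0501, 243, 269, 0x0, []⟩]

theorem t9_44_57 : jobs 8 S9 b8_44 j9_44_57 = true := by decide +kernel

noncomputable def j9_44_58 : List Job := [
  ⟨12, 0x6e172ba5daf17abe5fe21128a45a311a8e47e01028241a110a8643de0f27a3d9f0fa7e3fd40a25229950aa562bd20924a259309a4e27d04864423500844523c4826160bc4022140ac381f0c06c28170804c1e0d058240e0501, 0, 243, 0x0, []⟩]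

theorem t9_44_58 : jobs 8 S9 b8_44 j9_44_58 = true := by decide +kernel

noncomputable def j9_44_59 : List Job := [
  ⟨11, 0x6e172ba5daf17abe5fde0f27a3d9f0fa7e3fd40a25229950aa562bd20924a259309a4e27d08864422d00824623c4426150bc4024140b42c1f0a074241b080641e0d058240e0501, 233, 279, 0x0, []⟩]

theorem t9_44_59 : jobs 8 S9 b8_44 j9_44_59 = true := by decide +kernel

noncomputable def j9_44_60 : List Job := [
  ⟨11, 0x6e172ba5daf17abe5fde0f27a3d9f0fa7e3fd40a25229950aa562bd20924a259309a4e27d08864422d00824623c4426150bc4024140b42c1f0a074241b080641e0d058240e0501, 0, 233, 0x0, []⟩]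

theorem t9_44_60 : jobs 8 S9 b8_44 j9_44_60 = true := by decide +kernel

noncomputable def j9_44_61 : List Job := [
  ⟨10, 0x6c162b259ad16ab65be311a8e47e21128a45e05068543e010484435e0f27a3d9f0fa7e3fd40a25229950aa562bd20924a259309a4e27d108a4623d00824221c4826160bc4022140ac2c1d0a07c24190806c1e0d058240e0501, 235, 277, 0x0, []⟩]

theorem t9_44_61 : jobs 8 S9 b8_44 j9_44_61 = true := by decide +kernel

noncomputable def j9_44_62 : List Job := [
  ⟨10, 0x6c162b259ad16ab65be311a8e47e21128a45e05068543e010484435e0f27a3d9f0fa7e3fd40a25229950aa562bd20924a259309a4e27d108a4623d00824221c4826160bc4022140ac2c1d0a07c24190806c1e0d058240e0501, 0, 235, 0x0, []⟩]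

theorem t9_44_62 : jobs 8 S9 b8_44 j9_44_62 = true := by decide +kernel

noncomputable def j9_44_63 : List Job := [
  ⟨9, 0x6e172ba5daf17abe5fde0f27a3d9f0fa7e3fd60b25a2d970ba5e2fc4426150bc4024140b42c1f0a074241b080641e0d058240e0501, 0, 288, 0x0, []⟩]

theorem t9_44_63 : jobs 8 S9 b8_44 j9_44_63 = true := by decide +kernel

noncomputable def j9_44_64 : List Job := [
  ⟨8, 0x6c162b259ad16ab65be29168c46e21128e47e110a8643e01028241de0f27a3d9f0fa7e3fd60b25a2d970ba5e2fc4426150bc4024140b42c1f0a074241b080641e0d058240e0501, 0, 288, 0x0, []⟩]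

theorem t9_44_64 : jobs 8 S9 b8_44 j9_44_64 = true := by decide +kernel

noncomputable def j9_44_65 : List Job := [
  ⟨7, 0x6e172ba5daf17abe5fdc0e272399d0ea763bda0d26a359b0da6e37d90ca6633d80c26231d40a25229950aa562bd20924a259309a4e27d108a4623d00824221c4426150bc4024140b42c1f0a074241b080641e0d058240e0501, 0, 288, 0x0, []⟩]

theorem t9_44_65 : jobs 8 S9 b8_44 j9_44_65 = true := by decide +kernel

noncomputable def j9_44_66 : List Job := [
  ⟨6, 0x6c162b259ad16ab65be25168c47621148d47e05068543e010484435c0e272399d0ea763bda0d26a359b0da6e37d84c66533d80c46433540a25229950aa562bd20924a259309a4e27d04864523d0084442344826160bc4022140ac381f0c06c28170804c1e0d058240e0501, 446, 202, 0x38208039a0903b20803d20903f208040a09042209043a0404520904720804920404aa04, []⟩]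

theorem t9_44_66 : jobs 8 S9 b8_44 j9_44_66 = true := by decide +kernel

noncomputable def j9_44_67 : List Job := [
  ⟨6, 0x6c162b259ad16ab65be25168c47621148d47e05068543e010484435c0e272399d0ea763bda0d26a359b0da6e37d84c66533d80c46433540a25229950aa562bd20924a259309a4e27d04864523d0084442344826160bc4022140ac381f0c06c28170804c1e0d058240e0501, 218, 228, 0x24204025a0402720402920402b20402ca0402e20802fa04031208033204035204036a08, []⟩]

theorem t9_44_67 : jobs 8 S9 b8_44 j9_44_67 = true := by decide +kernel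

noncomputable def j9_44_68 : List Job := [
  ⟨6, 0x6c162b259ad16ab65be25168c47621148d47e05068543e010484435c0e272399d0ea763bda0d26a359b0da6e37d84c66533d80c46433540a25229950aa562bd20924a259309a4e27d04864523d0084442344826160bc4022140ac381f0c06c28170804c1e0d058240e0501, 0, 218, 0x0, []⟩]

theorem t9_44_68 : jobs 8 S9 b8_44 j9_44_68 = true := by decide +kernel

noncomputable def j9_44_69 : List Job := [
  ⟨5, 0x6c162b259ad16ab65bde0f27a3d9f0fa7e3fd80c26231990ca6633d28964c26d20924e27d108a4623d00824221c2c1f0a074241b080641e0d058240e0501, 228, 284, 0x0, []⟩]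

theorem t9_44_69 : jobs 8 S9 b8_44 j9_44_69 = true := by decide +kernel

noncomputable def j9_44_70 : List Job := [
  ⟨5, 0x6c162b259ad16ab65bde0f27a3d9f0fa7e3fd80c26231990ca6633d28964c26d20924e27d108a4623d00824221c2c1f0a074241b080641e0d058240e0501, 0, 228, 0x0, []⟩]

theorem t9_44_70 : jobs 8 S9 b8_44 j9_44_70 = true := by decide +kernel

noncomputable def j9_44_71 : List Job := [
  ⟨4, 0x6e172ba5daf17abe5fe21128a45a311a8e47e09068643e01028442de0f27a3d9f0fa7e3fd80c26231990ca6633d28964c26d20924e27d08864623d00824422c341f0c0742417080541e0d058240e0501, 234, 278, 0x0, []⟩]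

theorem t9_44_71 : jobs 8 S9 b8_44 j9_44_71 = true := by decide +kernel

noncomputable def j9_44_72 : List Job := [
  ⟨4, 0x6e172ba5daf17abe5fe21128a45a311a8e47e09068643e01028442de0f27a3d9f0fa7e3fd80c26231990ca6633d28964c26d20924e27d08864623d00824422c341f0c0742417080541e0d058240e0501, 0, 234, 0x0, []⟩]

theorem t9_44_72 : jobs 8 S9 b8_44 j9_44_72 = true := by decide +kernel

noncomputable def j9_44_73 : List Job := [
  ⟨3, 0x6e172ba5daf17abe5fde0f27a3d9f0fa7e3fd80c26231990ca6633d20924a259309a4e27d008242219108a4623c64361d0fc60341c0f44426150bc4024140b42c1f0a074241b080641e0d058240e0501, 246, 266, 0x0, []⟩]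

theorem t9_44_73 : jobs 8 S9 b8_44 j9_44_73 = true := by decide +kernel

noncomputable def j9_44_74 : List Job := [
  ⟨3, 0x6e172ba5daf17abe5fde0f27a3d9f0fa7e3fd80c26231990ca6633d20924a259309a4e27d008242219108a4623c64361d0fc60341c0f44426150bc4024140b42c1f0a074241b080641e0d058240e0501, 0, 246, 0x0, []⟩]

theorem t9_44_74 : jobs 8 S9 b8_44 j9_44_74 = true := by decide +kernel

noncomputable def j9_44_75 : List Job := [
  ⟨2, 0x6c162b259ad16ab65be21128a45a311a8e47e05068543e010484435e0f27a3d9f0fa7e3fd80c26231990ca6633d20924a259309a4e27d008242219108a4623c68361e0fc60321c0ec4826160bc4022140ac381f0c06c28170804c1e0d058240e0501, 240, 272, 0x0, []⟩]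

theorem t9_44_75 : jobs 8 S9 b8_44 j9_44_75 = true := by decide +kernel

noncomputable def j9_44_76 : List Job := [
  ⟨2, 0x6c162b259ad16ab65be21128a45a311a8e47e05068543e010484435e0f27a3d9f0fa7e3fd80c26231990ca6633d20924a259309a4e27d008242219108a4623c68361e0fc60321c0ec4826160bc4022140ac381f0c06c28170804c1e0d058240e0501, 0, 240, 0x0, []⟩]

theorem t9_44_76 : jobs 8 S9 b8_44 j9_44_76 = true := by decide +kernel

noncomputable def j9_44_77 : List Job := [
  ⟨1, 0x6c162b259ad16ab65be01028241a110a8643dc0e272399d0ea763bd80c26231990ca6633d60b25a2d970ba5e2fd008242219108a4623c341f0c0742417080541e0d058240e0501, 0, 288, 0x0, []⟩]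

theorem t9_44_77 : jobs 8 S9 b8_44 j9_44_77 = true := by decide +kernel

noncomputable def j9_44_78 : List Job := [
  ⟨0, 0x6e172ba5daf17abe5fe01028241a110a8643de0f27a3d9f0fa7e3fd80c26231990ca6633d40a25229950aa562bd008242219108a4623c68361e0fc60321c0ec4826160bc4022140ac381f0c06c28170804c1e0d058240e0501, 0, 288, 0x0, []⟩]

theorem t9_44_78 : jobs 8 S9 b8_44 j9_44_78 = true := by decide +kernel

theorem d9_44 : Dn 8 S9 b8_44 := dn_of (Js := j9_44_0 ++ (j9_44_1 ++ (j9_44_2 ++ (j9_44_3 ++ (j9_44_4 ++ (j9_44_5 ++ (j9_44_6 ++ (j9_44_7 ++ (j9_44_8 ++ (j9_44_9 ++ (j9_44_10 ++ (j9_44_11 ++ (j9_44_12 ++ (j9_44_13 ++ (j9_44_14 ++ (j9_44_15 ++ (j9_44_16 ++ (j9_44_17 ++ (j9_44_18 ++ (j9_44_19 ++ (j9_44_20 ++ (j9_44_21 ++ (j9_44_22 ++ (j9_44_23 ++ (j9_44_24 ++ (j9_44_25 ++ (j9_44_26 ++ (j9_44_27 ++ (j9_44_28 ++ (j9_44_29 ++ (j9_44_30 ++ (j9_44_31 ++ (j9_44_32 ++ (j9_44_33 ++ (j9_44_34 ++ (j9_44_35 ++ (j9_44_36 ++ (j9_44_37 ++ (j9_44_38 ++ (j9_44_39 ++ (j9_44_40 ++ (j9_44_41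 ++ (j9_44_42 ++ (j9_44_43 ++ (j9_44_44 ++ (j9_44_45 ++ (j9_44_46 ++ (j9_44_47 ++ (j9_44_48 ++ (j9_44_49 ++ (j9_44_50 ++ (j9_44_51 ++ (j9_44_52 ++ (j9_44_53 ++ (j9_44_54 ++ (j9_44_55 ++ (j9_44_56 ++ (j9_44_57 ++ (j9_44_58 ++ (j9_44_59 ++ (j9_44_60 ++ (j9_44_61 ++ (j9_44_62 ++ (j9_44_63 ++ (j9_44_64 ++ (j9_44_65 ++ (j9_44_66 ++ (j9_44_67 ++ (j9_44_68 ++ (j9_44_69 ++ (j9_44_70 ++ (j9_44_71 ++ (j9_44_72 ++ (j9_44_73 ++ (j9_44_74 ++ (j9_44_75 ++ (j9_44_76 ++ (j9_44_77 ++ (j9_44_78 ++ [])))))))))))))))))))))))))))))))))))))))))))))))))))))))))))))))))))))))))))))))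
  (jobs_append t9_44_0 <| jobs_append t9_44_1 <| jobs_append t9_44_2 <| jobs_append t9_44_3 <| jobs_append t9_44_4 <| jobs_append t9_44_5 <| jobs_append t9_44_6 <| jobs_append t9_44_7 <| jobs_append t9_44_8 <| jobs_append t9_44_9 <| jobs_append t9_44_10 <| jobs_append t9_44_11 <| jobs_append t9_44_12 <| jobs_append t9_44_13 <| jobs_append t9_44_14 <| jobs_append t9_44_15 <| jobs_append t9_44_16 <| jobs_append t9_44_17 <| jobs_append t9_44_18 <| jobs_append t9_44_19 <| jobs_append t9_44_20 <| jobs_append t9_44_21 <| jobs_append t9_44_22 <| jobs_append t9_44_23 <| jobs_append t9_44_24 <| jobs_append t9_44_25 <| jobs_append t9_44_26 <| jobs_append t9_44_27 <| jobs_append t9_44_28 <| jobs_append t9_44_29 <| jobs_append t9_44_30 <| jobs_append t9_44_31 <| jobs_append t9_44_32 <| jobs_append t9_44_33 <| jobs_append t9_44_34 <| jobs_append t9_44_35 <| jobs_append t9_44_36 <| jobs_append t9_44_37 <| jobs_append t9_44_38 <| jobs_append t9_44_39 <| jobs_append t9_44_40 <|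 jobs_append t9_44_41 <| jobs_append t9_44_42 <| jobs_append t9_44_43 <| jobs_append t9_44_44 <| jobs_append t9_44_45 <| jobs_append t9_44_46 <| jobs_append t9_44_47 <| jobs_append t9_44_48 <| jobs_append t9_44_49 <| jobs_append t9_44_50 <| jobs_append t9_44_51 <| jobs_append t9_44_52 <| jobs_append t9_44_53 <| jobs_append t9_44_54 <| jobs_append t9_44_55 <| jobs_append t9_44_56 <| jobs_append t9_44_57 <| jobs_append t9_44_58 <| jobs_append t9_44_59 <| jobs_append t9_44_60 <| jobs_append t9_44_61 <| jobs_append t9_44_62 <| jobs_append t9_44_63 <| jobs_append t9_44_64 <| jobs_append t9_44_65 <| jobs_append t9_44_66 <| jobs_append t9_44_67 <| jobs_append t9_44_68 <| jobs_append t9_44_69 <| jobs_append t9_44_70 <| jobs_append t9_44_71 <| jobs_append t9_44_72 <| jobs_append t9_44_73 <| jobs_append t9_44_74 <| jobs_append t9_44_75 <| jobs_append t9_44_76 <| jobs_append t9_44_77 <| jobs_append t9_44_78 <| List.forall_mem_nil _) (by decide +kernel)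

noncomputable def j9_45_0 : List Job := [
  ⟨63, 0x6e172ba5daf17abe5fde0f27a3d9f0fa7e3fc64361d0fc60341c0f4542f140b44427100942c1f0a074241b080641e0d058240e0501, 0, 288, 0x0, []⟩]

theorem t9_45_0 : jobs 8 S9 b8_45 j9_45_0 = true := by decide +kernel

noncomputable def j9_45_1 : List Job := [
  ⟨62, 0x6e172ba5daf17abe5fdc0e272399d0ea763bd20924a259309a4e27d108a4623d00824221c64361d0fc60341c0f4542f140b44427100942c1f0a074241b080641e0d058240e0501, 238, 274, 0x0, []⟩]

theorem t9_45_1 : jobs 8 S9 b8_45 j9_45_1 = true := by decide +kernel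

noncomputable def j9_45_2 : List Job := [
  ⟨62, 0x6e172ba5daf17abe5fdc0e272399d0ea763bd20924a259309a4e27d108a4623d00824221c64361d0fc60341c0f4542f140b44427100942c1f0a074241b080641e0d058240e0501, 0, 238, 0x0, []⟩]

theorem t9_45_2 : jobs 8 S9 b8_45 j9_45_2 = true := by decide +kernel

noncomputable def j9_45_3 : List Job := [
  ⟨61, 0x6c162b259ad16ab65be21128a45a311a8e47e05068543e010484435c0e272399d0ea763bd20924a259309a4e27d04864523d00844423468361e0fc60321c0ec4c2f120b4442b100a4381f0c06c28170804c1e0d058240e0501, 403, 213, 0x3460803620903860903a20403c60903e20803fe04041204043609045204046e0404820104860104ba0104be01, []⟩]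

theorem t9_45_3 : jobs 8 S9 b8_45 j9_45_3 = true := by decide +kernel

noncomputable def j9_45_4 : List Job := [
  ⟨61, 0x6c162b259ad16ab65be21128a45a311a8e47e05068543e010484435c0e272399d0ea763bd20924a259309a4e27d04864523d00844423468361e0fc60321c0ec4c2f120b4442b100a4381f0c06c28170804c1e0d058240e0501, 182, 221, 0x24204025e0402720802960802b20402ce0402e208030608032209, []⟩]

theorem t9_45_4 : jobs 8 S9 b8_45 j9_45_4 = true := by decide +kernel

noncomputable def j9_45_5 : List Job := [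
  ⟨61, 0x6c162b259ad16ab65be21128a45a311a8e47e05068543e010484435c0e272399d0ea763bd20924a259309a4e27d04864523d00844423468361e0fc60321c0ec4c2f120b4442b100a4381f0c06c28170804c1e0d058240e0501, 0, 182, 0x0, []⟩]

theorem t9_45_5 : jobs 8 S9 b8_45 j9_45_5 = true := by decide +kernel

noncomputable def j9_45_6 : List Job := [
  ⟨60, 0x6e172ba5daf17abe5fe01028241a110a8643dc0e272399d0ea763bd008242219108a4623c341f0c0742417080541e0d058240e0501, 0, 176, 0x0, []⟩]

theorem t9_45_6 : jobs 8 S9 b8_45 j9_45_6 = true := by decide +kernel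

noncomputable def j9_45_7 : List Job := [
  ⟨59, 0x6c162b259ad16ab65be01028241a110a8643dc0e272399d0ea763bd008242219108a4623c341f0c0742417080541e0d058240e0501, 0, 176, 0x0, []⟩]

theorem t9_45_7 : jobs 8 S9 b8_45 j9_45_7 = true := by decide +kernel

noncomputable def j9_45_8 : List Job := [
  ⟨58, 0x6c162b259ad16ab65be01028241a110a8643de0f27a3d9f0fa7e3fd008242219108a4623c68361e0fc60321c0ec4826160bc4022140ac381f0c06c28170804c1e0d058240e0501, 0, 176, 0x0, []⟩]

theorem t9_45_8 : jobs 8 S9 b8_45 j9_45_8 = true := by decide +kernel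

noncomputable def j9_45_9 : List Job := [
  ⟨57, 0x6e172ba5daf17abe5fe01028241a110a8643de0f27a3d9f0fa7e3fd008242219108a4623c68361e0fc60321c0ec4826160bc4022140ac381f0c06c28170804c1e0d058240e0501, 0, 176, 0x0, []⟩]

theorem t9_45_9 : jobs 8 S9 b8_45 j9_45_9 = true := by decide +kernel

noncomputable def j9_45_10 : List Job := [
  ⟨56, 0x6e976bc5eee172be5fec966b45aec162b65bd20924a259309a4e27d008242219108a4623c3e1d0d8642e15098441e0d058240e0501, 0, 96, 0x0, []⟩]

theorem t9_45_10 : jobs 8 S9 b8_45 j9_45_10 = true := by decide +kernel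

noncomputable def j9_45_11 : List Job := [
  ⟨55, 0x621128a45a311a8e47e01028241a110a8643d20924a259309a4e27d008242219108a4623c3e1d0d8642e15098441e0d058240e0501, 0, 72, 0x0, []⟩]

theorem t9_45_11 : jobs 8 S9 b8_45 j9_45_11 = true := by decide +kernel

noncomputable def j9_45_12 : List Job := [
  ⟨54, 0x6e574bc5fee176bd5f6c564b45bec166b55b43e1d0d8642e15098441e0d058240e0501, 0, 96, 0x0, []⟩]

theorem t9_45_12 : jobs 8 S9 b8_45 j9_45_12 = true := by decide +kernel

noncomputable def j9_45_13 : List Job := [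
  ⟨53, 0x621128a45a311a8e47e01028241a110a8643c3e1d0d8642e15098441e0d058240e0501, 0, 96, 0x0, []⟩]

theorem t9_45_13 : jobs 8 S9 b8_45 j9_45_13 = true := by decide +kernel

noncomputable def j9_45_14 : List Job := [
  ⟨52, 0x621128a45a311a8e47e01028241a110a8643de0f27a3d9f0fa7e3fdc0e272399d0ea763bd28964e27d20924c26d08864623d00824422c3e1d0d8642e15098441e0d058240e0501, 0, 108, 0x0, []⟩]

theorem t9_45_14 : jobs 8 S9 b8_45 j9_45_14 = true := by decide +kernel

noncomputable def j9_45_15 : List Job := [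
  ⟨51, 0x43e1d0d8642e15098441e0d058240e0501, 0, 66, 0x0, []⟩]

theorem t9_45_15 : jobs 8 S9 b8_45 j9_45_15 = true := by decide +kernel

noncomputable def j9_45_16 : List Job := [
  ⟨50, 0x5e0f27a3d9f0fa7e3fdc0e272399d0ea763bd309a4e27d20924a25d108a4623d00824221c3e1d0d8642e15098441e0d058240e0501, 0, 96, 0x0, []⟩]

theorem t9_45_16 : jobs 8 S9 b8_45 j9_45_16 = true := by decide +kernel

noncomputable def j9_45_17 : List Job := [
  ⟨49, 0x464361d0fc60341c0f44426150bc4024140b43e1d0d8642e15098441e0d058240e0501, 0, 66, 0x0, []⟩]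

theorem t9_45_17 : jobs 8 S9 b8_45 j9_45_17 = true := by decide +kernel

noncomputable def j9_45_18 : List Job := [
  ⟨48, 0x5e8f67c3ede0f27e3fdc8e6743adc0e2763bd20924a259309a4e27d008242219108a4623c64361d0fc60341c0f44426150bc4024140b43e1d0d8642e15098441e0d058240e0501, 0, 96, 0x0, []⟩]

theorem t9_45_18 : jobs 8 S9 b8_45 j9_45_18 = true := by decide +kernel

noncomputable def j9_45_19 : List Job := [
  ⟨47, 0x5e0f27a3d9f0fa7e3fdc0e272399d0ea763bc64361d0fc60341c0f44426150bc4024140b43e1d0d8642e15098441e0d058240e0501, 0, 96, 0x0, []⟩]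

theorem t9_45_19 : jobs 8 S9 b8_45 j9_45_19 = true := by decide +kernel

noncomputable def j9_45_20 : List Job := [
  ⟨46, 0x5309a4e27d20924a25d108a4623d00824221c64361d0fc60341c0f44426150bc4024140b43e1d0d8642e15098441e0d058240e0501, 0, 96, 0x0, []⟩]

theorem t9_45_20 : jobs 8 S9 b8_45 j9_45_20 = true := by decide +kernel

noncomputable def j9_45_21 : List Job := [
  ⟨45, 0x6e172ba5daf17abe5fec162b259ad16ab65bd309a4e27d20924a25d108a4623d00824221c64361d0fc60341c0f44426150bc4024140b43e1d0d8642e15098441e0d058240e0501, 0, 96, 0x0, []⟩]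

theorem t9_45_21 : jobs 8 S9 b8_45 j9_45_21 = true := by decide +kernel

noncomputable def j9_45_22 : List Job := [
  ⟨44, 0x621128a45a311a8e47e01028241a110a8643c1e0d058240e0501, 0, 288, 0x0, []⟩]

theorem t9_45_22 : jobs 8 S9 b8_45 j9_45_22 = true := by decide +kernel

noncomputable def j9_45_23 : List Job := [
  ⟨43, 0x621128a45a311a8e47e01028241a110a8643c64361d0fc60341c0f44426150bc4024140b41e0d058240e0501, 0, 288, 0x0, []⟩]

theorem t9_45_23 : jobs 8 S9 b8_45 j9_45_23 = true := by decide +kernel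

noncomputable def j9_45_24 : List Job := [
  ⟨42, 0x6e172ba5daf17abe5fe09068643e01028442c1e0d058240e0501, 0, 288, 0x0, []⟩]

theorem t9_45_24 : jobs 8 S9 b8_45 j9_45_24 = true := by decide +kernel

noncomputable def j9_45_25 : List Job := [
  ⟨41, 0x6e976bc5eee172be5fe01028241a110a8643c64361d0fc60341c0f44426150bc4024140b41e0d058240e0501, 0, 288, 0x0, []⟩]

theorem t9_45_25 : jobs 8 S9 b8_45 j9_45_25 = true := by decide +kernel

noncomputable def j9_45_26 : List Job := [
  ⟨40, 0x621128a45a311a8e47c1e0d058240e0501, 0, 288, 0x0, []⟩]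

theorem t9_45_26 : jobs 8 S9 b8_45 j9_45_26 = true := by decide +kernel

noncomputable def j9_45_27 : List Job := [
  ⟨39, 0x6e172ba5daf17abe5fec162b259ad16ab65be01028241a110a8643c1e0d058240e0501, 0, 288, 0x0, []⟩]

theorem t9_45_27 : jobs 8 S9 b8_45 j9_45_27 = true := by decide +kernel

noncomputable def j9_45_28 : List Job := [
  ⟨38, 0x6e172ba5daf17abe5fec162b259ad16ab65be29168c46e21128e47c1e0d058240e0501, 0, 288, 0x0, []⟩]

theorem t9_45_28 : jobs 8 S9 b8_45 j9_45_28 = true := by decide +kernel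

noncomputable def j9_45_29 : List Job := [
  ⟨37, 0x609068643e01028442c1e0d058240e0501, 0, 288, 0x0, []⟩]

theorem t9_45_29 : jobs 8 S9 b8_45 j9_45_29 = true := by decide +kernel

noncomputable def j9_45_30 : List Job := [
  ⟨36, 0x6e172ba5daf17abe5fec162b259ad16ab65be311a8e47e21128a45c1e0d058240e0501, 0, 168, 0x0, []⟩]

theorem t9_45_30 : jobs 8 S9 b8_45 j9_45_30 = true := by decide +kernel

noncomputable def j9_45_31 : List Job := [
  ⟨35, 0x6110a8643e01028241c1e0d058240e0501, 0, 168, 0x0, []⟩]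

theorem t9_45_31 : jobs 8 S9 b8_45 j9_45_31 = true := by decide +kernel

noncomputable def j9_45_32 : List Job := [
  ⟨34, 0x6e172ba5daf17abe5fec162b259ad16ab65be29168c46e21128e47c1e0d058240e0501, 0, 168, 0x0, []⟩]

theorem t9_45_32 : jobs 8 S9 b8_45 j9_45_32 = true := by decide +kernel

noncomputable def j9_45_33 : List Job := [
  ⟨33, 0x609068643e01028442c1e0d058240e0501, 0, 168, 0x0, []⟩]

theorem t9_45_33 : jobs 8 S9 b8_45 j9_45_33 = true := by decide +kernel

noncomputable def j9_45_34 : List Job := [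
  ⟨32, 0x6e172ba5daf17abe5fec162b259ad16ab65be21128a45a311a8e47c64361d0fc60341c0f44426150bc4024140b41e0d058240e0501, 0, 288, 0x0, []⟩]

theorem t9_45_34 : jobs 8 S9 b8_45 j9_45_34 = true := by decide +kernel

noncomputable def j9_45_35 : List Job := [
  ⟨31, 0x601028241a110a8643c64361d0fc60341c0f44426150bc4024140b41e0d058240e0501, 0, 288, 0x0, []⟩]

theorem t9_45_35 : jobs 8 S9 b8_45 j9_45_35 = true := by decide +kernel

noncomputable def j9_45_36 : List Job := [
  ⟨30, 0x629168c46e21128e47c64361d0fc60341c0f44426150bc4024140b41e0d058240e0501, 0, 288, 0x0, []⟩]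

theorem t9_45_36 : jobs 8 S9 b8_45 j9_45_36 = true := by decide +kernel

noncomputable def j9_45_37 : List Job := [
  ⟨29, 0x6e172ba5daf17abe5fec162b259ad16ab65be09068643e01028442c64361d0fc60341c0f44426150bc4024140b41e0d058240e0501, 0, 288, 0x0, []⟩]

theorem t9_45_37 : jobs 8 S9 b8_45 j9_45_37 = true := by decide +kernel

noncomputable def j9_45_38 : List Job := [
  ⟨28, 0x6311a8e47e21128a45c64361d0fc60341c0f44426150bc4024140b41e0d058240e0501, 0, 168, 0x0, []⟩]

theorem t9_45_38 : jobs 8 S9 b8_45 j9_45_38 = true := by decide +kernel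

noncomputable def j9_45_39 : List Job := [
  ⟨27, 0x6e172ba5daf17abe5fec162b259ad16ab65be110a8643e01028241c64361d0fc60341c0f44426150bc4024140b41e0d058240e0501, 0, 168, 0x0, []⟩]

theorem t9_45_39 : jobs 8 S9 b8_45 j9_45_39 = true := by decide +kernel

noncomputable def j9_45_40 : List Job := [
  ⟨26, 0x629168c46e21128e47c64361d0fc60341c0f44426150bc4024140b41e0d058240e0501, 0, 168, 0x0, []⟩]

theorem t9_45_40 : jobs 8 S9 b8_45 j9_45_40 = true := by decide +kernel

noncomputable def j9_45_41 : List Job := [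
  ⟨25, 0x6e172ba5daf17abe5fec162b259ad16ab65be09068643e01028442c64361d0fc60341c0f44426150bc4024140b41e0d058240e0501, 0, 368, 0x0, []⟩]

theorem t9_45_41 : jobs 8 S9 b8_45 j9_45_41 = true := by decide +kernel

noncomputable def j9_45_42 : List Job := [
  ⟨24, 0x621128a45a311a8e47c4426150bc4024140b41e0d058240e0501, 0, 288, 0x0, []⟩]

theorem t9_45_42 : jobs 8 S9 b8_45 j9_45_42 = true := by decide +kernel

noncomputable def j9_45_43 : List Job := [
  ⟨23, 0x6e172ba5daf17abe5fec162b259ad16ab65be09068643e01028442c4426150bc4024140b41e0d058240e0501, 0, 288, 0x0, []⟩]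

theorem t9_45_43 : jobs 8 S9 b8_45 j9_45_43 = true := by decide +kernel

noncomputable def j9_45_44 : List Job := [
  ⟨22, 0x6e172ba5daf17abe5fec162b259ad16ab65be21128a45a311a8e47c4426150bc4024140b41e0d058240e0501, 0, 288, 0x0, []⟩]

theorem t9_45_44 : jobs 8 S9 b8_45 j9_45_44 = true := by decide +kernel

noncomputable def j9_45_45 : List Job := [
  ⟨21, 0x609068643e01028442c4426150bc4024140b41e0d058240e0501, 0, 288, 0x0, []⟩]

theorem t9_45_45 : jobs 8 S9 b8_45 j9_45_45 = true := by decide +kernel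

noncomputable def j9_45_46 : List Job := [
  ⟨20, 0x6e172ba5daf17abe5fec162b259ad16ab65be21128a45a311a8e47c4426150bc4024140b41e0d058240e0501, 0, 288, 0x0, []⟩]

theorem t9_45_46 : jobs 8 S9 b8_45 j9_45_46 = true := by decide +kernel

noncomputable def j9_45_47 : List Job := [
  ⟨19, 0x609068643e01028442c4426150bc4024140b41e0d058240e0501, 0, 288, 0x0, []⟩]

theorem t9_45_47 : jobs 8 S9 b8_45 j9_45_47 = true := by decide +kernel

noncomputable def j9_45_48 : List Job := [
  ⟨18, 0x621128a45a311a8e47c4426150bc4024140b41e0d058240e0501, 0, 288, 0x0, []⟩]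

theorem t9_45_48 : jobs 8 S9 b8_45 j9_45_48 = true := by decide +kernel

noncomputable def j9_45_49 : List Job := [
  ⟨17, 0x6e172ba5daf17abe5fec162b259ad16ab65be09068643e01028442c4426150bc4024140b41e0d058240e0501, 0, 288, 0x0, []⟩]

theorem t9_45_49 : jobs 8 S9 b8_45 j9_45_49 = true := by decide +kernel

noncomputable def j9_45_50 : List Job := [
  ⟨16, 0x6e172ba5daf17abe5fe110a8643e01028241c4426150bc4024140b41e0d058240e0501, 0, 288, 0x0, []⟩]

theorem t9_45_50 : jobs 8 S9 b8_45 j9_45_50 = true := by decide +kernel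

noncomputable def j9_45_51 : List Job := [
  ⟨15, 0x6e172ba5daf17abe5fe09068643e01028442c4426150bc4024140b41e0d058240e0501, 0, 288, 0x0, []⟩]

theorem t9_45_51 : jobs 8 S9 b8_45 j9_45_51 = true := by decide +kernel

noncomputable def j9_45_52 : List Job := [
  ⟨14, 0x621128a45a311a8e47e01028241a110a8643c4426150bc4024140b41e0d058240e0501, 0, 288, 0x0, []⟩]

theorem t9_45_52 : jobs 8 S9 b8_45 j9_45_52 = true := by decide +kernel

noncomputable def j9_45_53 : List Job := [
  ⟨13, 0x6e172ba5daf17abe5fe09068643e01028442c4426150bc4024140b41e0d058240e0501, 0, 512, 0x0, []⟩]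

theorem t9_45_53 : jobs 8 S9 b8_45 j9_45_53 = true := by decide +kernel

noncomputable def j9_45_54 : List Job := [
  ⟨12, 0x6e172ba5daf17abe5fe01028241a110a8643c4826160bc4022140ac381f0c06c28170804c1e0d058240e0501, 0, 512, 0x0, []⟩]

theorem t9_45_54 : jobs 8 S9 b8_45 j9_45_54 = true := by decide +kernel

noncomputable def j9_45_55 : List Job := [
  ⟨11, 0x625168c47621148d47e01028241a110a8643c4826160bc4022140ac381f0c06c28170804c1e0d058240e0501, 0, 512, 0x0, []⟩]

theorem t9_45_55 : jobs 8 S9 b8_45 j9_45_55 = true := by decide +kernel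

noncomputable def j9_45_56 : List Job := [
  ⟨10, 0x6c162b259ad16ab65bc4426150bc4024140b42c1f0a074241b080641e0d058240e0501, 0, 512, 0x0, []⟩]

theorem t9_45_56 : jobs 8 S9 b8_45 j9_45_56 = true := by decide +kernel

noncomputable def j9_45_57 : List Job := [
  ⟨9, 0x6e172ba5daf17abe5fe21128a45a311a8e47e01028241a110a8643c4826160bc4022140ac381f0c06c28170804c1e0d058240e0501, 0, 512, 0x0, []⟩]

theorem t9_45_57 : jobs 8 S9 b8_45 j9_45_57 = true := by decide +kernel

noncomputable def j9_45_58 : List Job := [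
  ⟨8, 0x6e172ba5daf17abe5fc4426150bc4024140b42c1f0a074241b080641e0d058240e0501, 0, 512, 0x0, []⟩]

theorem t9_45_58 : jobs 8 S9 b8_45 j9_45_58 = true := by decide +kernel

noncomputable def j9_45_59 : List Job := [
  ⟨7, 0x6c162b259ad16ab65be311a8e47e21128a45e05068543e0104844344826160bc4022140ac2c1d0a07c24190806c1e0d058240e0501, 229, 283, 0x0, []⟩]

theorem t9_45_59 : jobs 8 S9 b8_45 j9_45_59 = true := by decide +kernel

noncomputable def j9_45_60 : List Job := [
  ⟨7, 0x6c162b259ad16ab65be311a8e47e21128a45e05068543e0104844344826160bc4022140ac2c1d0a07c24190806c1e0d058240e0501, 0, 229, 0x0, []⟩]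

theorem t9_45_60 : jobs 8 S9 b8_45 j9_45_60 = true := by decide +kernel

noncomputable def j9_45_61 : List Job := [
  ⟨6, 0x6e172ba5daf17abe5fc4426150bc4024140b42c1f0a074241b080641e0d058240e0501, 0, 288, 0x0, []⟩]

theorem t9_45_61 : jobs 8 S9 b8_45 j9_45_61 = true := by decide +kernel

noncomputable def j9_45_62 : List Job := [
  ⟨5, 0x6c162b259ad16ab65be29168e47e21128c46e110a8643e01028241c4426150bc4024140b42c1b0a064241f080741e0d058240e0501, 0, 288, 0x0, []⟩]

theorem t9_45_62 : jobs 8 S9 b8_45 j9_45_62 = true := by decide +kernel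

noncomputable def j9_45_63 : List Job := [
  ⟨4, 0x6e172ba5daf17abe5fc4426150bc4024140b42c1f0a074241b080641e0d058240e0501, 0, 288, 0x0, []⟩]

theorem t9_45_63 : jobs 8 S9 b8_45 j9_45_63 = true := by decide +kernel

noncomputable def j9_45_64 : List Job := [
  ⟨3, 0x6c162b259ad16ab65be25168c47621148d47e05068543e0104844344826160bc4022140ac381f0c06c28170804c1e0d058240e0501, 351, 297, 0x2ca0802ce0802d20d02e20802e60902ea0d02fa0c02fe0803020d03120c031608031a0d031e0803320803360c033a09033e0c03520c035608035a0d036a08036e0903720d03820903860c038a09039a08039e0c03a20803b20903b60c03ba0803be0d03d20903d60c03da0803de0d03f20903f60c03fa08040a09040e0c04120804220904260c042a0c043a0c043e0804420804520804560c045a08045e0d04720904760c047a08047e0d04920c04960c049a0804aa0904ae0904b20c, []⟩]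

theorem t9_45_64 : jobs 8 S9 b8_45 j9_45_64 = true := by decide +kernel

noncomputable def j9_45_65 : List Job := [
  ⟨3, 0x6c162b259ad16ab65be25168c47621148d47e05068543e0104844344826160bc4022140ac381f0c06c28170804c1e0d058240e0501, 0, 351, 0x2420c024609024a0d025a0c025e0902620802720c027608027a0d027e0802920c029608029a0d029e0802b20c02b60802ba0d, []⟩]

theorem t9_45_65 : jobs 8 S9 b8_45 j9_45_65 = true := by decide +kernel

noncomputable def j9_45_66 : List Job := [
  ⟨2, 0x6c162b259ad16ab65bc2c1f0a074241b080641e0d058240e0501, 0, 512, 0x0, []⟩]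

theorem t9_45_66 : jobs 8 S9 b8_45 j9_45_66 = true := by decide +kernel

noncomputable def j9_45_67 : List Job := [
  ⟨1, 0x6e172ba5daf17abe5fe21128a45a311a8e47e09068643e01028442c341f0c0742417080541e0d058240e0501, 0, 512, 0x0, []⟩]

theorem t9_45_67 : jobs 8 S9 b8_45 j9_45_67 = true := by decide +kernel

noncomputable def j9_45_68 : List Job := [
  ⟨0, 0x6e172ba5daf17abe5fc64361d0fc60341c0f44426150bc4024140b42c1f0a074241b080641e0d058240e0501, 261, 251, 0x0, []⟩]

theorem t9_45_68 : jobs 8 S9 b8_45 j9_45_68 = true := by decide +kernel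

noncomputable def j9_45_69 : List Job := [
  ⟨0, 0x6e172ba5daf17abe5fc64361d0fc60341c0f44426150bc4024140b42c1f0a074241b080641e0d058240e0501, 0, 261, 0x0, []⟩]

theorem t9_45_69 : jobs 8 S9 b8_45 j9_45_69 = true := by decide +kernel

theorem d9_45 : Dn 8 S9 b8_45 := dn_of (Js := j9_45_0 ++ (j9_45_1 ++ (j9_45_2 ++ (j9_45_3 ++ (j9_45_4 ++ (j9_45_5 ++ (j9_45_6 ++ (j9_45_7 ++ (j9_45_8 ++ (j9_45_9 ++ (j9_45_10 ++ (j9_45_11 ++ (j9_45_12 ++ (j9_45_13 ++ (j9_45_14 ++ (j9_45_15 ++ (j9_45_16 ++ (j9_45_17 ++ (j9_45_18 ++ (j9_45_19 ++ (j9_45_20 ++ (j9_45_21 ++ (j9_45_22 ++ (j9_45_23 ++ (j9_45_24 ++ (j9_45_25 ++ (j9_45_26 ++ (j9_45_27 ++ (j9_45_28 ++ (j9_45_29 ++ (j9_45_30 ++ (j9_45_31 ++ (j9_45_32 ++ (j9_45_33 ++ (j9_45_34 ++ (j9_45_35 ++ (j9_45_36 ++ (j9_45_37 ++ (j9_45_38 ++ (j9_45_39 ++ (j9_45_40 ++ (j9_45_41 ++ (j9_45_42 ++ (j9_45_43 ++ (j9_45_44 ++ (j9_45_45 ++ (j9_45_46 ++ (j9_45_47 ++ (j9_45_48 ++ (j9_45_49 ++ (j9_45_50 ++ (j9_45_51 ++ (j9_45_52 ++ (j9_45_53 ++ (j9_45_54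 ++ (j9_45_55 ++ (j9_45_56 ++ (j9_45_57 ++ (j9_45_58 ++ (j9_45_59 ++ (j9_45_60 ++ (j9_45_61 ++ (j9_45_62 ++ (j9_45_63 ++ (j9_45_64 ++ (j9_45_65 ++ (j9_45_66 ++ (j9_45_67 ++ (j9_45_68 ++ (j9_45_69 ++ []))))))))))))))))))))))))))))))))))))))))))))))))))))))))))))))))))))))
  (jobs_append t9_45_0 <| jobs_append t9_45_1 <| jobs_append t9_45_2 <| jobs_append t9_45_3 <| jobs_append t9_45_4 <| jobs_append t9_45_5 <| jobs_append t9_45_6 <| jobs_append t9_45_7 <| jobs_append t9_45_8 <| jobs_append t9_45_9 <| jobs_append t9_45_10 <| jobs_append t9_45_11 <| jobs_append t9_45_12 <| jobs_append t9_45_13 <| jobs_append t9_45_14 <| jobs_append t9_45_15 <| jobs_append t9_45_16 <| jobs_append t9_45_17 <| jobs_append t9_45_18 <| jobs_append t9_45_19 <| jobs_append t9_45_20 <| jobs_append t9_45_21 <| jobs_append t9_45_22 <| jobs_append t9_45_23 <| jobs_append t9_45_24 <| jobs_append t9_45_25 <| jobs_append t9_45_26 <| jobs_append t9_45_27 <| jobs_append t9_45_28 <| jobs_append t9_45_29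 <| jobs_append t9_45_30 <| jobs_append t9_45_31 <| jobs_append t9_45_32 <| jobs_append t9_45_33 <| jobs_append t9_45_34 <| jobs_append t9_45_35 <| jobs_append t9_45_36 <| jobs_append t9_45_37 <| jobs_append t9_45_38 <| jobs_append t9_45_39 <| jobs_append t9_45_40 <| jobs_append t9_45_41 <| jobs_append t9_45_42 <| jobs_append t9_45_43 <| jobs_append t9_45_44 <| jobs_append t9_45_45 <| jobs_append t9_45_46 <| jobs_append t9_45_47 <| jobs_append t9_45_48 <| jobs_append t9_45_49 <| jobs_append t9_45_50 <| jobs_append t9_45_51 <| jobs_append t9_45_52 <| jobs_append t9_45_53 <| jobs_append t9_45_54 <| jobs_append t9_45_55 <| jobs_append t9_45_56 <| jobs_append t9_45_57 <| jobs_append t9_45_58 <| jobs_append t9_45_59 <| jobs_append t9_45_60 <| jobs_append t9_45_61 <| jobs_append t9_45_62 <| jobs_append t9_45_63 <| jobs_append t9_45_64 <| jobs_append t9_45_65 <| jobs_append t9_45_66 <| jobs_append t9_45_67 <| jobs_append t9_45_68 <| jobs_append t9_45_69 <| List.forall_mem_nil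 _) (by decide +kernel)

end Cfsg.Agent.FS.N.Sw
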