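import Cfsg.Agent.FS.N.Sw.Seg
import Cfsg.Agent.FS.N.G.S9
import Cfsg.Agent.FS.N.G.L.L02

/-! The filter on the pairs for the order 512, part 8 (generated; helper52, project FS) -/

set_option autoImplicit false
set_option maxRecDepth 100000
set_option Elab.async false

namespace Cfsg.Agent.FS.N.Sw

open G

noncomputable def j9_46_0 : List Job := [
  ⟨63, 0x621128a45a311a8e47e01028241a110a8643de4f47c3fde0f67d3f5008242219108a4623c64361d0fc60341c0f44426150bc4024140b41e0d058240e0501, 0, 288, 0x0, []⟩]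

theorem t9_46_0 : jobs 8 S9 b8_46 j9_46_0 = true := by decide +kernel

noncomputable def j9_46_1 : List Job := [
  ⟨62, 0x6e172ba5daf17abe5fe09068643e01028442de0f27a3d9f0fa7e3fd08864623d00824422c1e0d058240e0501, 0, 184, 0x0, []⟩]

theorem t9_46_1 : jobs 8 S9 b8_46 j9_46_1 = true := by decide +kernel

noncomputable def j9_46_2 : List Job := [
  ⟨61, 0x6e976bc5eee172be5fe01028241a110a8643de8f67c3ede0f27e3fd008242219108a4623c64361d0fc60341c0f44426150bc4024140b41e0d058240e0501, 0, 184, 0x0, []⟩]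

theorem t9_46_2 : jobs 8 S9 b8_46 j9_46_2 = true := by decide +kernel

noncomputable def j9_46_3 : List Job := [
  ⟨60, 0x621128a45a311a8e47d20924a259309a4e27c1e0d058240e0501, 0, 168, 0x0, []⟩]

theorem t9_46_3 : jobs 8 S9 b8_46 j9_46_3 = true := by decide +kernel

noncomputable def j9_46_4 : List Job := [
  ⟨59, 0x621128a45a311a8e47de0f27a3d9f0fa7e3fdc0e272399d0ea763bd008242219108a4623c1e0d058240e0501, 0, 288, 0x0, []⟩]

theorem t9_46_4 : jobs 8 S9 b8_46 j9_46_4 = true := by decide +kernel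

noncomputable def j9_46_5 : List Job := [
  ⟨58, 0x6e172ba5daf17abe5fec162b259ad16ab65be01028241a110a8643de0f27a3d9f0fa7e3fdc0e272399d0ea763bd008242219108a4623c1e0d058240e0501, 0, 168, 0x0, []⟩]

theorem t9_46_5 : jobs 8 S9 b8_46 j9_46_5 = true := by decide +kernel

noncomputable def j9_46_6 : List Job := [
  ⟨57, 0x621128a45a311a8e47de0f27a3d9f0fa7e3fdc0e272399d0ea763bd28964c26d20924e27c1e0d058240e0501, 0, 288, 0x0, []⟩]

theorem t9_46_6 : jobs 8 S9 b8_46 j9_46_6 = true := by decide +kernel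

noncomputable def j9_46_7 : List Job := [
  ⟨56, 0x6e172ba5daf17abe5fec162b259ad16ab65be01028241a110a8643de0f27a3d9f0fa7e3fdc0e272399d0ea763bd28964c26d20924e27c1e0d058240e0501, 0, 288, 0x0, []⟩]

theorem t9_46_7 : jobs 8 S9 b8_46 j9_46_7 = true := by decide +kernel

noncomputable def j9_46_8 : List Job := [
  ⟨55, 0x621128a45a311a8e47d108a4623d00824221c1e0d058240e0501, 0, 288, 0x0, []⟩]

theorem t9_46_8 : jobs 8 S9 b8_46 j9_46_8 = true := by decide +kernel

noncomputable def j9_46_9 : List Job := [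
  ⟨54, 0x6e172ba5daf17abe5fec162b259ad16ab65be01028241a110a8643d08864623d00824422c1e0d058240e0501, 0, 288, 0x0, []⟩]

theorem t9_46_9 : jobs 8 S9 b8_46 j9_46_9 = true := by decide +kernel

noncomputable def j9_46_10 : List Job := [
  ⟨53, 0x6e172ba5daf17abe5fec162b259ad16ab65be29168c46e21128e47de0f27a3d9f0fa7e3fdc0e272399d0ea763bd28964c26d20924e27c1e0d058240e0501, 0, 168, 0x0, []⟩]

theorem t9_46_10 : jobs 8 S9 b8_46 j9_46_10 = true := by decide +kernel

noncomputable def j9_46_11 : List Job := [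
  ⟨52, 0x6e172ba5daf17abe5fec162b259ad16ab65be29168c46e21128e47d108a4623d00824221c1e0d058240e0501, 0, 288, 0x0, []⟩]

theorem t9_46_11 : jobs 8 S9 b8_46 j9_46_11 = true := by decide +kernel

noncomputable def j9_46_12 : List Job := [
  ⟨51, 0x609068643e01028442d08864623d00824422c1e0d058240e0501, 0, 168, 0x0, []⟩]

theorem t9_46_12 : jobs 8 S9 b8_46 j9_46_12 = true := by decide +kernel

noncomputable def j9_46_13 : List Job := [
  ⟨50, 0x6e172ba5daf17abe5fec162b259ad16ab65be21128a45a311a8e47de0f27a3d9f0fa7e3fdc0e272399d0ea763bd20924a259309a4e27c64361d0fc60341c0f44426150bc4024140b41e0d058240e0501, 0, 168, 0x0, []⟩]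

theorem t9_46_13 : jobs 8 S9 b8_46 j9_46_13 = true := by decide +kernel

noncomputable def j9_46_14 : List Job := [
  ⟨49, 0x6e172ba5daf17abe5fec162b259ad16ab65be21128a45a311a8e47d008242219108a4623c64361d0fc60341c0f44426150bc4024140b41e0d058240e0501, 0, 288, 0x0, []⟩]

theorem t9_46_14 : jobs 8 S9 b8_46 j9_46_14 = true := by decide +kernel

noncomputable def j9_46_15 : List Job := [
  ⟨48, 0x601028241a110a8643d008242219108a4623c64361d0fc60341c0f44426150bc4024140b41e0d058240e0501, 0, 168, 0x0, []⟩]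

theorem t9_46_15 : jobs 8 S9 b8_46 j9_46_15 = true := by decide +kernel

noncomputable def j9_46_16 : List Job := [
  ⟨47, 0x6e172ba5daf17abe5fec162b259ad16ab65be21128a45a311a8e47d28964c26d20924e27c64361d0fc60341c0f44426150bc4024140b41e0d058240e0501, 0, 288, 0x0, []⟩]

theorem t9_46_16 : jobs 8 S9 b8_46 j9_46_16 = true := by decide +kernel

noncomputable def j9_46_17 : List Job := [
  ⟨46, 0x601028241a110a8643d28964c26d20924e27c64361d0fc60341c0f44426150bc4024140b41e0d058240e0501, 0, 288, 0x0, []⟩]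

theorem t9_46_17 : jobs 8 S9 b8_46 j9_46_17 = true := by decide +kernel

noncomputable def j9_46_18 : List Job := [
  ⟨45, 0x6e172ba5daf17abe5fec162b259ad16ab65be21128a45a311a8e47de0f27a3d9f0fa7e3fdc0e272399d0ea763bd108a4623d00824221c64361d0fc60341c0f44426150bc4024140b41e0d058240e0501, 0, 288, 0x0, []⟩]

theorem t9_46_18 : jobs 8 S9 b8_46 j9_46_18 = true := by decide +kernel

noncomputable def j9_46_19 : List Job := [
  ⟨44, 0x601028241a110a8643de0f27a3d9f0fa7e3fdc0e272399d0ea763bd08864623d00824422c64361d0fc60341c0f44426150bc4024140b41e0d058240e0501, 0, 288, 0x0, []⟩]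

theorem t9_46_19 : jobs 8 S9 b8_46 j9_46_19 = true := by decide +kernel

noncomputable def j9_46_20 : List Job := [
  ⟨43, 0x629168c46e21128e47d28964c26d20924e27c64361d0fc60341c0f44426150bc4024140b41e0d058240e0501, 0, 168, 0x0, []⟩]

theorem t9_46_20 : jobs 8 S9 b8_46 j9_46_20 = true := by decide +kernel

noncomputable def j9_46_21 : List Job := [
  ⟨42, 0x629168c46e21128e47de0f27a3d9f0fa7e3fdc0e272399d0ea763bd108a4623d00824221c64361d0fc60341c0f44426150bc4024140b41e0d058240e0501, 0, 288, 0x0, []⟩]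

theorem t9_46_21 : jobs 8 S9 b8_46 j9_46_21 = true := by decide +kernel

noncomputable def j9_46_22 : List Job := [
  ⟨41, 0x621128a45a311a8e47de0f27a3d9f0fa7e3fdc0e272399d0ea763bd20924a259309a4e27c4426150bc4024140b41e0d058240e0501, 0, 288, 0x0, []⟩]

theorem t9_46_22 : jobs 8 S9 b8_46 j9_46_22 = true := by decide +kernel

noncomputable def j9_46_23 : List Job := [
  ⟨40, 0x6e172ba5daf17abe5fec162b259ad16ab65be09068442e01028643de0f27a3d9f0fa7e3fdc0e272399d0ea763bd20924a259309a4e27c4426150bc4024140b41e0d058240e0501, 0, 288, 0x0, []⟩]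

theorem t9_46_23 : jobs 8 S9 b8_46 j9_46_23 = true := by decide +kernel

noncomputable def j9_46_24 : List Job := [
  ⟨39, 0x621128a45a311a8e47d108a4623d00824221c4426150bc4024140b41e0d058240e0501, 0, 288, 0x0, []⟩]

theorem t9_46_24 : jobs 8 S9 b8_46 j9_46_24 = true := by decide +kernel

noncomputable def j9_46_25 : List Job := [
  ⟨38, 0x6e172ba5daf17abe5fec162b259ad16ab65be09068442e01028643d08864623d00824422c4426150bc4024140b41e0d058240e0501, 0, 288, 0x0, []⟩]

theorem t9_46_25 : jobs 8 S9 b8_46 j9_46_25 = true := by decide +kernel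

noncomputable def j9_46_26 : List Job := [
  ⟨37, 0x621128a45a311a8e47d20924a259309a4e27c4426150bc4024140b41e0d058240e0501, 0, 168, 0x0, []⟩]

theorem t9_46_26 : jobs 8 S9 b8_46 j9_46_26 = true := by decide +kernel

noncomputable def j9_46_27 : List Job := [
  ⟨36, 0x621128a45a311a8e47de0f27a3d9f0fa7e3fdc0e272399d0ea763bd08864422d00824623c4426150bc4024140b41e0d058240e0501, 0, 288, 0x0, []⟩]

theorem t9_46_27 : jobs 8 S9 b8_46 j9_46_27 = true := by decide +kernel

noncomputable def j9_46_28 : List Job := [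
  ⟨35, 0x6e172ba5daf17abe5fec162b259ad16ab65be09068442e01028643de0f27a3d9f0fa7e3fdc0e272399d0ea763bd08864422d00824623c4426150bc4024140b41e0d058240e0501, 0, 168, 0x0, []⟩]

theorem t9_46_28 : jobs 8 S9 b8_46 j9_46_28 = true := by decide +kernel

noncomputable def j9_46_29 : List Job := [
  ⟨34, 0x6e172ba5daf17abe5fec162b259ad16ab65be21128a45a311a8e47de0f27a3d9f0fa7e3fdc0e272399d0ea763bd20924a259309a4e27c4426150bc4024140b41e0d058240e0501, 0, 168, 0x0, []⟩]

theorem t9_46_29 : jobs 8 S9 b8_46 j9_46_29 = true := by decide +kernel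

noncomputable def j9_46_30 : List Job := [
  ⟨33, 0x6e172ba5daf17abe5fec162b259ad16ab65be21128a45a311a8e47d108a4623d00824221c4426150bc4024140b41e0d058240e0501, 0, 288, 0x0, []⟩]

theorem t9_46_30 : jobs 8 S9 b8_46 j9_46_30 = true := by decide +kernel

noncomputable def j9_46_31 : List Job := [
  ⟨32, 0x609068643e01028442d08864623d00824422c4426150bc4024140b41e0d058240e0501, 0, 168, 0x0, []⟩]

theorem t9_46_31 : jobs 8 S9 b8_46 j9_46_31 = true := by decide +kernel

noncomputable def j9_46_32 : List Job := [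
  ⟨31, 0x6e172ba5daf17abe5fec162b259ad16ab65be21128a45a311a8e47d20924a259309a4e27c4426150bc4024140b41e0d058240e0501, 0, 288, 0x0, []⟩]

theorem t9_46_32 : jobs 8 S9 b8_46 j9_46_32 = true := by decide +kernel

noncomputable def j9_46_33 : List Job := [
  ⟨30, 0x609068442e01028643d20924a259309a4e27c4426150bc4024140b41e0d058240e0501, 0, 288, 0x0, []⟩]

theorem t9_46_33 : jobs 8 S9 b8_46 j9_46_33 = true := by decide +kernel

noncomputable def j9_46_34 : List Job := [
  ⟨29, 0x6e172ba5daf17abe5fec162b259ad16ab65be21128a45a311a8e47de0f27a3d9f0fa7e3fdc0e272399d0ea763bd108a4623d00824221c4426150bc4024140b41e0d058240e0501, 0, 288, 0x0, []⟩]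

theorem t9_46_34 : jobs 8 S9 b8_46 j9_46_34 = true := by decide +kernel

noncomputable def j9_46_35 : List Job := [
  ⟨28, 0x609068442e01028643de0f27a3d9f0fa7e3fdc0e272399d0ea763bd08864623d00824422c4426150bc4024140b41e0d058240e0501, 0, 288, 0x0, []⟩]

theorem t9_46_35 : jobs 8 S9 b8_46 j9_46_35 = true := by decide +kernel

noncomputable def j9_46_36 : List Job := [
  ⟨27, 0x6e172ba5daf17abe5fec162b259ad16ab65be21128a45a311a8e47de0f27a3d9f0fa7e3fdc0e272399d0ea763bd20924a259309a4e27c4c2b120a4442f100b41e0d058240e0501, 0, 168, 0x0, []⟩]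

theorem t9_46_36 : jobs 8 S9 b8_46 j9_46_36 = true := by decide +kernel

noncomputable def j9_46_37 : List Job := [
  ⟨26, 0x6e172ba5daf17abe5fec162b259ad16ab65be21128a45a311a8e47d08864422d00824623c4c2b120a4442f100b41e0d058240e0501, 0, 288, 0x0, []⟩]

theorem t9_46_37 : jobs 8 S9 b8_46 j9_46_37 = true := by decide +kernel

noncomputable def j9_46_38 : List Job := [
  ⟨25, 0x609068442e01028643d08864422d00824623c4c2b120a4442f100b41e0d058240e0501, 0, 168, 0x0, []⟩]

theorem t9_46_38 : jobs 8 S9 b8_46 j9_46_38 = true := by decide +kernel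

noncomputable def j9_46_39 : List Job := [
  ⟨24, 0x621128a45a311a8e47d20924a259309a4e27c542f140b44427100941e0d058240e0501, 0, 168, 0x0, []⟩]

theorem t9_46_39 : jobs 8 S9 b8_46 j9_46_39 = true := by decide +kernel

noncomputable def j9_46_40 : List Job := [
  ⟨23, 0x621128a45a311a8e47de0f27a3d9f0fa7e3fdc0e272399d0ea763bd108a4623d00824221c542f140b44427100941e0d058240e0501, 0, 288, 0x0, []⟩]

theorem t9_46_40 : jobs 8 S9 b8_46 j9_46_40 = true := by decide +kernel

noncomputable def j9_46_41 : List Job := [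
  ⟨22, 0x6e172ba5daf17abe5fec162b259ad16ab65be09068643e01028442de0f27a3d9f0fa7e3fdc0e272399d0ea763bd08864623d00824422c4c2f120b4442b100a41e0d058240e0501, 0, 356, 0x2940102960102c00102c201, []⟩]

theorem t9_46_41 : jobs 8 S9 b8_46 j9_46_41 = true := by decide +kernel

noncomputable def j9_46_42 : List Job := [
  ⟨21, 0x5e0f27a3d9f0fa7e3fd108a4623d00824221c4426150bc4024140b41e0d058240e0501, 0, 288, 0x0, []⟩]

theorem t9_46_42 : jobs 8 S9 b8_46 j9_46_42 = true := by decide +kernel

noncomputable def j9_46_43 : List Job := [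
  ⟨20, 0x6e172ba5daf17abe5fec162b259ad16ab65be21128a45a311a8e47e01028241a110a8643de0f27a3d9f0fa7e3fd08864623d00824422c4426150bc4024140b41e0d058240e0501, 0, 288, 0x0, []⟩]

theorem t9_46_43 : jobs 8 S9 b8_46 j9_46_43 = true := by decide +kernel

noncomputable def j9_46_44 : List Job := [
  ⟨19, 0x6e172ba5daf17abe5fec162b259ad16ab65bde0f27a3d9f0fa7e3fd108a4623d00824221c4426150bc4024140b41e0d058240e0501, 0, 288, 0x0, []⟩]

theorem t9_46_44 : jobs 8 S9 b8_46 j9_46_44 = true := by decide +kernel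

noncomputable def j9_46_45 : List Job := [
  ⟨18, 0x621128a45a311a8e47e01028241a110a8643de0f27a3d9f0fa7e3fd08864623d00824422c4426150bc4024140b41e0d058240e0501, 0, 288, 0x0, []⟩]

theorem t9_46_45 : jobs 8 S9 b8_46 j9_46_45 = true := by decide +kernel

noncomputable def j9_46_46 : List Job := [
  ⟨17, 0x6e172ba5daf17abe5fe09068643e01028442de0f27a3d9f0fa7e3fd08864623d00824422c4426150bc4024140b41e0d058240e0501, 0, 288, 0x0, []⟩]

theorem t9_46_46 : jobs 8 S9 b8_46 j9_46_46 = true := by decide +kernel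

noncomputable def j9_46_47 : List Job := [
  ⟨16, 0x6e172ba5daf17abe5fe01028241a110a8643de0f27a3d9f0fa7e3fd008242219108a4623c4826160bc4022140ac381f0c06c28170804c1e0d058240e0501, 0, 288, 0x0, []⟩]

theorem t9_46_47 : jobs 8 S9 b8_46 j9_46_47 = true := by decide +kernel

noncomputable def j9_46_48 : List Job := [
  ⟨15, 0x6e172ba5daf17abe5fe01028241a110a8643d24944c27d20964d275008242219108a4623c4826160bc4022140ac381f0c06c28170804c1e0d058240e0501, 241, 271, 0x0, []⟩]

theorem t9_46_48 : jobs 8 S9 b8_46 j9_46_48 = true := by decide +kernel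

noncomputable def j9_46_49 : List Job := [
  ⟨15, 0x6e172ba5daf17abe5fe01028241a110a8643d24944c27d20964d275008242219108a4623c4826160bc4022140ac381f0c06c28170804c1e0d058240e0501, 0, 241, 0x0, []⟩]

theorem t9_46_49 : jobs 8 S9 b8_46 j9_46_49 = true := by decide +kernel

noncomputable def j9_46_50 : List Job := [
  ⟨14, 0x625168c47621148d47e01028241a110a8643d24964c27520944d27d008242219108a4623c4826160bc4022140ac381f0c06c28170804c1e0d058240e0501, 0, 288, 0x0, []⟩]

theorem t9_46_50 : jobs 8 S9 b8_46 j9_46_50 = true := by decide +kernel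

noncomputable def j9_46_51 : List Job := [
  ⟨13, 0x6c162b259ad16ab65bdc0e272399d0ea763bc4426150bc4024140b42c1f0a074241b080641e0d058240e0501, 0, 288, 0x0, []⟩]

theorem t9_46_51 : jobs 8 S9 b8_46 j9_46_51 = true := by decide +kernel

noncomputable def j9_46_52 : List Job := [
  ⟨12, 0x6c162b259ad16ab65bde0f27a3d9f0fa7e3fd20924a259309a4e27d008242219108a4623c4426150bc4024140b42c1f0a074241b080641e0d058240e0501, 0, 512, 0x0, []⟩]

theorem t9_46_52 : jobs 8 S9 b8_46 j9_46_52 = true := by decide +kernel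

noncomputable def j9_46_53 : List Job := [
  ⟨11, 0x6e172ba5daf17abe5fe21128a45a311a8e47e01028241a110a8643de0f27a3d9f0fa7e3fd20924a259309a4e27d008242219108a4623c4826160bc4022140ac381f0c06c28170804c1e0d058240e0501, 0, 288, 0x0, []⟩]

theorem t9_46_53 : jobs 8 S9 b8_46 j9_46_53 = true := by decide +kernel

noncomputable def j9_46_54 : List Job := [
  ⟨10, 0x6c162b259ad16ab65bde0f27a3d9f0fa7e3fc4426150bc4024140b42c1f0a074241b080641e0d058240e0501, 0, 512, 0x0, []⟩]

theorem t9_46_54 : jobs 8 S9 b8_46 j9_46_54 = true := by decide +kernel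

noncomputable def j9_46_55 : List Job := [
  ⟨9, 0x6e172ba5daf17abe5fe21128a45a311a8e47e01028241a110a8643de0f27a3d9f0fa7e3fc4426150bc4024140b42c1f0a074241b080641e0d058240e0501, 0, 512, 0x0, []⟩]

theorem t9_46_55 : jobs 8 S9 b8_46 j9_46_55 = true := by decide +kernel

noncomputable def j9_46_56 : List Job := [
  ⟨8, 0x6c162b259ad16ab65bdc0e272399d0ea763bd28964c26d20924e27d108a4623d00824221c4426150bc4024140b42c1f0a074241b080641e0d058240e0501, 233, 279, 0x0, []⟩]

theorem t9_46_56 : jobs 8 S9 b8_46 j9_46_56 = true := by decide +kernel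

noncomputable def j9_46_57 : List Job := [
  ⟨8, 0x6c162b259ad16ab65bdc0e272399d0ea763bd28964c26d20924e27d108a4623d00824221c4426150bc4024140b42c1f0a074241b080641e0d058240e0501, 0, 233, 0x0, []⟩]

theorem t9_46_57 : jobs 8 S9 b8_46 j9_46_57 = true := by decide +kernel

noncomputable def j9_46_58 : List Job := [
  ⟨7, 0x6e172ba5daf17abe5fe21128a45a311a8e47e01028241a110a8643dc0e272399d0ea763bd24964c27520944d27d04864523d0084442344826160bc4022140ac381f0c06c28170804c1e0d058240e0501, 244, 268, 0x0, []⟩]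

theorem t9_46_58 : jobs 8 S9 b8_46 j9_46_58 = true := by decide +kernel

noncomputable def j9_46_59 : List Job := [
  ⟨7, 0x6e172ba5daf17abe5fe21128a45a311a8e47e01028241a110a8643dc0e272399d0ea763bd24964c27520944d27d04864523d0084442344826160bc4022140ac381f0c06c28170804c1e0d058240e0501, 0, 244, 0x0, []⟩]

theorem t9_46_59 : jobs 8 S9 b8_46 j9_46_59 = true := by decide +kernel

noncomputable def j9_46_60 : List Job := [
  ⟨6, 0x6e172ba5daf17abe5fde0f27a3d9f0fa7e3fc4426150bc4024140b42c1f0a074241b080641e0d058240e0501, 0, 288, 0x0, []⟩]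

theorem t9_46_60 : jobs 8 S9 b8_46 j9_46_60 = true := by decide +kernel

noncomputable def j9_46_61 : List Job := [
  ⟨5, 0x6e172ba5daf17abe5fdc0e272399d0ea763bd28964c26d20924e27d108a4623d00824221c4426150bc4024140b42c1f0a074241b080641e0d058240e0501, 232, 280, 0x0, []⟩]

theorem t9_46_61 : jobs 8 S9 b8_46 j9_46_61 = true := by decide +kernel

noncomputable def j9_46_62 : List Job := [
  ⟨5, 0x6e172ba5daf17abe5fdc0e272399d0ea763bd28964c26d20924e27d108a4623d00824221c4426150bc4024140b42c1f0a074241b080641e0d058240e0501, 0, 232, 0x0, []⟩]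

theorem t9_46_62 : jobs 8 S9 b8_46 j9_46_62 = true := by decide +kernel

noncomputable def j9_46_63 : List Job := [
  ⟨4, 0x6e172ba5daf17abe5fde0f27a3d9f0fa7e3fd20924a259309a4e27d108a4623d00824221c2c1f0a074241b080641e0d058240e0501, 0, 512, 0x0, []⟩]

theorem t9_46_63 : jobs 8 S9 b8_46 j9_46_63 = true := by decide +kernel

noncomputable def j9_46_64 : List Job := [
  ⟨3, 0x6c162b259ad16ab65bdc0e272399d0ea763bc2c1f0a074241b080641e0d058240e0501, 0, 288, 0x0, []⟩]

theorem t9_46_64 : jobs 8 S9 b8_46 j9_46_64 = true := by decide +kernel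

noncomputable def j9_46_65 : List Job := [
  ⟨2, 0x6c162b259ad16ab65bde0f27a3d9f0fa7e3fd20924a259309a4e27d108a4623d00824221c2c1f0a074241b080641e0d058240e0501, 0, 512, 0x0, []⟩]

theorem t9_46_65 : jobs 8 S9 b8_46 j9_46_65 = true := by decide +kernel

noncomputable def j9_46_66 : List Job := [
  ⟨1, 0x6e172ba5daf17abe5fe21128a45a311a8e47e09068643e01028442de0f27a3d9f0fa7e3fd20924a259309a4e27d08864623d00824422c341f0c0742417080541e0d058240e0501, 0, 288, 0x0, []⟩]

theorem t9_46_66 : jobs 8 S9 b8_46 j9_46_66 = true := by decide +kernel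

noncomputable def j9_46_67 : List Job := [
  ⟨0, 0x6c162b259ad16ab65bdc0e272399d0ea763bd20924a259309a4e27d108a4623d00824221c64361d0fc60341c0f44426150bc4024140b42c1f0a074241b080641e0d058240e0501, 240, 272, 0x0, []⟩]

theorem t9_46_67 : jobs 8 S9 b8_46 j9_46_67 = true := by decide +kernel

noncomputable def j9_46_68 : List Job := [
  ⟨0, 0x6c162b259ad16ab65bdc0e272399d0ea763bd20924a259309a4e27d108a4623d00824221c64361d0fc60341c0f44426150bc4024140b42c1f0a074241b080641e0d058240e0501, 0, 240, 0x0, []⟩]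

theorem t9_46_68 : jobs 8 S9 b8_46 j9_46_68 = true := by decide +kernel

theorem d9_46 : Dn 8 S9 b8_46 := dn_of (Js := j9_46_0 ++ (j9_46_1 ++ (j9_46_2 ++ (j9_46_3 ++ (j9_46_4 ++ (j9_46_5 ++ (j9_46_6 ++ (j9_46_7 ++ (j9_46_8 ++ (j9_46_9 ++ (j9_46_10 ++ (j9_46_11 ++ (j9_46_12 ++ (j9_46_13 ++ (j9_46_14 ++ (j9_46_15 ++ (j9_46_16 ++ (j9_46_17 ++ (j9_46_18 ++ (j9_46_19 ++ (j9_46_20 ++ (j9_46_21 ++ (j9_46_22 ++ (j9_46_23 ++ (j9_46_24 ++ (j9_46_25 ++ (j9_46_26 ++ (j9_46_27 ++ (j9_46_28 ++ (j9_46_29 ++ (j9_46_30 ++ (j9_46_31 ++ (j9_46_32 ++ (j9_46_33 ++ (j9_46_34 ++ (j9_46_35 ++ (j9_46_36 ++ (j9_46_37 ++ (j9_46_38 ++ (j9_46_39 ++ (j9_46_40 ++ (j9_46_41 ++ (j9_46_42 ++ (j9_46_43 ++ (j9_46_44 ++ (j9_46_45 ++ (j9_46_46 ++ (j9_46_47 ++ (j9_46_48 ++ (j9_46_49 ++ (j9_46_50 ++ (j9_46_51 ++ (j9_46_52 ++ (j9_46_53 ++ (j9_46_54 ++ (j9_46_55 ++ (j9_46_56 ++ (j9_46_57 ++ (j9_46_58 ++ (j9_46_59 ++ (j9_46_60 ++ (j9_46_61 ++ (j9_46_62 ++ (j9_46_63 ++ (j9_46_64 ++ (j9_46_65 ++ (j9_46_66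 ++ (j9_46_67 ++ (j9_46_68 ++ [])))))))))))))))))))))))))))))))))))))))))))))))))))))))))))))))))))))
  (jobs_append t9_46_0 <| jobs_append t9_46_1 <| jobs_append t9_46_2 <| jobs_append t9_46_3 <| jobs_append t9_46_4 <| jobs_append t9_46_5 <| jobs_append t9_46_6 <| jobs_append t9_46_7 <| jobs_append t9_46_8 <| jobs_append t9_46_9 <| jobs_append t9_46_10 <| jobs_append t9_46_11 <| jobs_append t9_46_12 <| jobs_append t9_46_13 <| jobs_append t9_46_14 <| jobs_append t9_46_15 <| jobs_append t9_46_16 <| jobs_append t9_46_17 <| jobs_append t9_46_18 <| jobs_append t9_46_19 <| jobs_append t9_46_20 <| jobs_append t9_46_21 <| jobs_append t9_46_22 <| jobs_append t9_46_23 <| jobs_append t9_46_24 <| jobs_append t9_46_25 <| jobs_append t9_46_26 <| jobs_append t9_46_27 <| jobs_append t9_46_28 <| jobs_append t9_46_29 <| jobs_append t9_46_30 <| jobs_append t9_46_31 <| jobs_append t9_46_32 <| jobs_append t9_46_33 <| jobs_append t9_46_34 <| jobs_append t9_46_35 <| jobs_append t9_46_36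 <| jobs_append t9_46_37 <| jobs_append t9_46_38 <| jobs_append t9_46_39 <| jobs_append t9_46_40 <| jobs_append t9_46_41 <| jobs_append t9_46_42 <| jobs_append t9_46_43 <| jobs_append t9_46_44 <| jobs_append t9_46_45 <| jobs_append t9_46_46 <| jobs_append t9_46_47 <| jobs_append t9_46_48 <| jobs_append t9_46_49 <| jobs_append t9_46_50 <| jobs_append t9_46_51 <| jobs_append t9_46_52 <| jobs_append t9_46_53 <| jobs_append t9_46_54 <| jobs_append t9_46_55 <| jobs_append t9_46_56 <| jobs_append t9_46_57 <| jobs_append t9_46_58 <| jobs_append t9_46_59 <| jobs_append t9_46_60 <| jobs_append t9_46_61 <| jobs_append t9_46_62 <| jobs_append t9_46_63 <| jobs_append t9_46_64 <| jobs_append t9_46_65 <| jobs_append t9_46_66 <| jobs_append t9_46_67 <| jobs_append t9_46_68 <| List.forall_mem_nil _) (by decide +kernel)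

noncomputable def j9_47_0 : List Job := [
  ⟨63, 0x6a956ac56ea152ae57e01028241a110a8643de0f27a3d9f0fa7e3fdc0e272399d0ea763bd08864623d00824422c64361d0fc60341c0f44426150bc4024140b41e0d058240e0501, 0, 288, 0x0, []⟩]

theorem t9_47_0 : jobs 8 S9 b8_47 j9_47_0 = true := by decide +kernel

noncomputable def j9_47_1 : List Job := [
  ⟨62, 0x6a152aa55ab15aae57e21128a45a311a8e47d28964c26d20924e27c64361d0fc60341c0f44426150bc4024140b41e0d058240e0501, 0, 168, 0x0, []⟩]

theorem t9_47_1 : jobs 8 S9 b8_47 j9_47_1 = true := by decide +kernel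

noncomputable def j9_47_2 : List Job := [
  ⟨61, 0x6914aa653e8142a251e110a8643e01028241d28964c26d20924e27c64361d0fc60341c0f44426150bc4024140b41e0d058240e0501, 0, 168, 0x0, []⟩]

theorem t9_47_2 : jobs 8 S9 b8_47 j9_47_2 = true := by decide +kernel

noncomputable def j9_47_3 : List Job := [
  ⟨60, 0x6a152aa55ab15aae57e21128a45a311a8e47de0f27a3d9f0fa7e3fdc0e272399d0ea763bd108a4623d00824221c64361d0fc60341c0f44426150bc4024140b41e0d058240e0501, 0, 168, 0x0, []⟩]

theorem t9_47_3 : jobs 8 S9 b8_47 j9_47_3 = true := by decide +kernel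

noncomputable def j9_47_4 : List Job := [
  ⟨59, 0x68946a653e8142a452e09068643e01028442de0f27a3d9f0fa7e3fdc0e272399d0ea763bd08864623d00824422c64361d0fc60341c0f44426150bc4024140b41e0d058240e0501, 0, 368, 0x0, []⟩]

theorem t9_47_4 : jobs 8 S9 b8_47 j9_47_4 = true := by decide +kernel

noncomputable def j9_47_5 : List Job := [
  ⟨58, 0x601028241a110a8643de0f27a3d9f0fa7e3fdc0e272399d0ea763bd08864422d00824623c4426150bc4024140b41e0d058240e0501, 0, 288, 0x0, []⟩]

theorem t9_47_5 : jobs 8 S9 b8_47 j9_47_5 = true := by decide +kernel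

noncomputable def j9_47_6 : List Job := [
  ⟨57, 0x6a152aa55ab15aae57e8142a251a914aa653e01028241a110a8643d08864623d00824422c4426150bc4024140b41e0d058240e0501, 0, 288, 0x0, []⟩]

theorem t9_47_6 : jobs 8 S9 b8_47 j9_47_6 = true := by decide +kernel

noncomputable def j9_47_7 : List Job := [
  ⟨56, 0x621128a45a311a8e47de0f27a3d9f0fa7e3fdc0e272399d0ea763bd20924a259309a4e27c4426150bc4024140b41e0d058240e0501, 0, 288, 0x0, []⟩]

theorem t9_47_7 : jobs 8 S9 b8_47 j9_47_7 = true := by decide +kernel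

noncomputable def j9_47_8 : List Job := [
  ⟨55, 0x6a152aa55ab15aae57e8142a251a914aa653e110a8643e01028241de0f27a3d9f0fa7e3fdc0e272399d0ea763bd20924a259309a4e27c4426150bc4024140b41e0d058240e0501, 0, 288, 0x0, []⟩]

theorem t9_47_8 : jobs 8 S9 b8_47 j9_47_8 = true := by decide +kernel

noncomputable def j9_47_9 : List Job := [
  ⟨54, 0x621128a45a311a8e47d108a4623d00824221c4426150bc4024140b41e0d058240e0501, 0, 288, 0x0, []⟩]

theorem t9_47_9 : jobs 8 S9 b8_47 j9_47_9 = true := by decide +kernel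

noncomputable def j9_47_10 : List Job := [
  ⟨53, 0x6a152aa55ab15aae57e8142a251a914aa653e09068643e01028442d08864623d00824422c4426150bc4024140b41e0d058240e0501, 0, 288, 0x0, []⟩]

theorem t9_47_10 : jobs 8 S9 b8_47 j9_47_10 = true := by decide +kernel

noncomputable def j9_47_11 : List Job := [
  ⟨52, 0x629168c46e21128e47d20924a259309a4e27c4426150bc4024140b41e0d058240e0501, 0, 288, 0x0, []⟩]

theorem t9_47_11 : jobs 8 S9 b8_47 j9_47_11 = true := by decide +kernel

noncomputable def j9_47_12 : List Job := [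
  ⟨51, 0x6a152aa55ab15aae57e8142a251a914aa653e01028241a110a8643d20924a259309a4e27c4426150bc4024140b41e0d058240e0501, 0, 288, 0x0, []⟩]

theorem t9_47_12 : jobs 8 S9 b8_47 j9_47_12 = true := by decide +kernel

noncomputable def j9_47_13 : List Job := [
  ⟨50, 0x629168c46e21128e47de0f27a3d9f0fa7e3fdc0e272399d0ea763bd108a4623d00824221c4426150bc4024140b41e0d058240e0501, 0, 288, 0x0, []⟩]

theorem t9_47_13 : jobs 8 S9 b8_47 j9_47_13 = true := by decide +kernel

noncomputable def j9_47_14 : List Job := [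
  ⟨49, 0x6a152aa55ab15aae57e8142a251a914aa653e01028241a110a8643de0f27a3d9f0fa7e3fdc0e272399d0ea763bd08864623d00824422c4426150bc4024140b41e0d058240e0501, 0, 288, 0x0, []⟩]

theorem t9_47_14 : jobs 8 S9 b8_47 j9_47_14 = true := by decide +kernel

noncomputable def j9_47_15 : List Job := [
  ⟨48, 0x6a152aa55ab15aae57e8142a251a914aa653e21128a45a311a8e47de0f27a3d9f0fa7e3fdc0e272399d0ea763bd20924a259309a4e27c4c2b120a4442f100b41e0d058240e0501, 0, 168, 0x0, []⟩]

theorem t9_47_15 : jobs 8 S9 b8_47 j9_47_15 = true := by decide +kernel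

noncomputable def j9_47_16 : List Job := [
  ⟨47, 0x6a152aa55ab15aae57e8142a251a914aa653e21128a45a311a8e47d08864422d00824623c4c2b120a4442f100b41e0d058240e0501, 0, 288, 0x0, []⟩]

theorem t9_47_16 : jobs 8 S9 b8_47 j9_47_16 = true := by decide +kernel

noncomputable def j9_47_17 : List Job := [
  ⟨46, 0x609068442e01028643d08864422d00824623c4c2b120a4442f100b41e0d058240e0501, 0, 168, 0x0, []⟩]

theorem t9_47_17 : jobs 8 S9 b8_47 j9_47_17 = true := by decide +kernel

noncomputable def j9_47_18 : List Job := [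
  ⟨45, 0x621128a45a311a8e47d20924a259309a4e27c542f140b44427100941e0d058240e0501, 0, 168, 0x0, []⟩]

theorem t9_47_18 : jobs 8 S9 b8_47 j9_47_18 = true := by decide +kernel

noncomputable def j9_47_19 : List Job := [
  ⟨44, 0x621128a45a311a8e47de0f27a3d9f0fa7e3fdc0e272399d0ea763bd108a4623d00824221c542f140b44427100941e0d058240e0501, 0, 288, 0x0, []⟩]

theorem t9_47_19 : jobs 8 S9 b8_47 j9_47_19 = true := by decide +kernel

noncomputable def j9_47_20 : List Job := [
  ⟨43, 0x6a152aa55ab15aae57e8142a251a914aa653e09068643e01028442de0f27a3d9f0fa7e3fdc0e272399d0ea763bd08864623d00824422c4c2f120b4442b100a41e0d058240e0501, 0, 348, 0x28401028c0102ac0102b001, []⟩]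

theorem t9_47_20 : jobs 8 S9 b8_47 j9_47_20 = true := by decide +kernel

noncomputable def j9_47_21 : List Job := [
  ⟨42, 0x6a152aa55ab15aae57e8142a251a914aa653de0f27a3d9f0fa7e3fd108a4623d00824221c4426150bc4024140b41e0d058240e0501, 0, 288, 0x0, []⟩]

theorem t9_47_21 : jobs 8 S9 b8_47 j9_47_21 = true := by decide +kernel

noncomputable def j9_47_22 : List Job := [
  ⟨41, 0x621128a45a311a8e47e01028241a110a8643de0f27a3d9f0fa7e3fd08864623d00824422c4426150bc4024140b41e0d058240e0501, 0, 288, 0x0, []⟩]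

theorem t9_47_22 : jobs 8 S9 b8_47 j9_47_22 = true := by decide +kernel

noncomputable def j9_47_23 : List Job := [
  ⟨40, 0x5e0f27a3d9f0fa7e3fd108a4623d00824221c4426150bc4024140b41e0d058240e0501, 0, 288, 0x0, []⟩]

theorem t9_47_23 : jobs 8 S9 b8_47 j9_47_23 = true := by decide +kernel

noncomputable def j9_47_24 : List Job := [
  ⟨39, 0x6a152aa55ab15aae57e8142a251a914aa653e21128a45a311a8e47e01028241a110a8643de0f27a3d9f0fa7e3fd08864623d00824422c4426150bc4024140b41e0d058240e0501, 0, 288, 0x0, []⟩]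

theorem t9_47_24 : jobs 8 S9 b8_47 j9_47_24 = true := by decide +kernel

noncomputable def j9_47_25 : List Job := [
  ⟨38, 0x68142a251a914aa653e09068643e01028442de0f27a3d9f0fa7e3fd08864623d00824422c4426150bc4024140b41e0d058240e0501, 0, 272, 0x0, []⟩]

theorem t9_47_25 : jobs 8 S9 b8_47 j9_47_25 = true := by decide +kernel

noncomputable def j9_47_26 : List Job := [
  ⟨37, 0x6a152aa55ab15aae57e01028241a110a8643dc0e272399d0ea763bc4426150bc4024140b42c1f0a074241b080641e0d058240e0501, 0, 512, 0x0, []⟩]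

theorem t9_47_26 : jobs 8 S9 b8_47 j9_47_26 = true := by decide +kernel

noncomputable def j9_47_27 : List Job := [
  ⟨36, 0x6a152aa55ab15aae57e01028241a110a8643de0f27a3d9f0fa7e3fd20924a259309a4e27d008242219108a4623c4826160bc4022140ac2c1d0a07c24190806c1e0d058240e0501, 241, 271, 0x0, []⟩]

theorem t9_47_27 : jobs 8 S9 b8_47 j9_47_27 = true := by decide +kernel

noncomputable def j9_47_28 : List Job := [
  ⟨36, 0x6a152aa55ab15aae57e01028241a110a8643de0f27a3d9f0fa7e3fd20924a259309a4e27d008242219108a4623c4826160bc4022140ac2c1d0a07c24190806c1e0d058240e0501, 0, 241, 0x0, []⟩]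

theorem t9_47_28 : jobs 8 S9 b8_47 j9_47_28 = true := by decide +kernel

noncomputable def j9_47_29 : List Job := [
  ⟨35, 0x6a152aa55ab15aae57e01028241a110a8643de0f27a3d9f0fa7e3fc4426150bc4024140b42c1f0a074241b080641e0d058240e0501, 0, 512, 0x0, []⟩]

theorem t9_47_29 : jobs 8 S9 b8_47 j9_47_29 = true := by decide +kernel

noncomputable def j9_47_30 : List Job := [
  ⟨34, 0x6a152aa55ab15aae57e01028241a110a8643dc0e272399d0ea763bd28964c26d20924e27d04864523d0084442344826160bc4022140ac2c1d0a07c24190806c1e0d058240e0501, 243, 269, 0x0, []⟩]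

theorem t9_47_30 : jobs 8 S9 b8_47 j9_47_30 = true := by decide +kernel

noncomputable def j9_47_31 : List Job := [
  ⟨34, 0x6a152aa55ab15aae57e01028241a110a8643dc0e272399d0ea763bd28964c26d20924e27d04864523d0084442344826160bc4022140ac2c1d0a07c24190806c1e0d058240e0501, 0, 243, 0x0, []⟩]

theorem t9_47_31 : jobs 8 S9 b8_47 j9_47_31 = true := by decide +kernel

noncomputable def j9_47_32 : List Job := [
  ⟨33, 0x6a152aa55ab15aae57e21128a45a311a8e47de0f27a3d9f0fa7e3fc4426150bc4024140b42c1f0a074241b080641e0d058240e0501, 0, 288, 0x0, []⟩]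

theorem t9_47_32 : jobs 8 S9 b8_47 j9_47_32 = true := by decide +kernel

noncomputable def j9_47_33 : List Job := [
  ⟨32, 0x68142a251a914aa653e01028241a110a8643de0f27a3d9f0fa7e3fc4426150bc4024140b42c1f0a074241b080641e0d058240e0501, 0, 288, 0x0, []⟩]

theorem t9_47_33 : jobs 8 S9 b8_47 j9_47_33 = true := by decide +kernel

noncomputable def j9_47_34 : List Job := [
  ⟨31, 0x6a152aa55ab15aae57e21128a45a311a8e47dc0e272399d0ea763bd24944c27d20964d275108a4623d00824221c4426150bc4024140b42c1f0a074241b080641e0d058240e0501, 0, 288, 0x0, []⟩]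

theorem t9_47_34 : jobs 8 S9 b8_47 j9_47_34 = true := by decide +kernel

noncomputable def j9_47_35 : List Job := [
  ⟨30, 0x68142a251a914aa653e01028241a110a8643dc0e272399d0ea763bd24944c27d20964d27504864523d0084442344826160bc4022140ac381f0c06c28170804c1e0d058240e0501, 344, 304, 0x2c20802c60802ca0502ce0402e20802e60902ea0802ee08030209030609030a04030e04032208032604032a08033a09033e04034209035204035609035a08036a05036e08037209038204038605038a08038e0903a20503a60403aa0503ae0503c20503c60503ca0903ce0903e20503e60503ea0803ee08040209040608040a04041a08041e08042204043204043605043a04044a04044e04045205046204046608046a08047a04047e09048209049205049608049a0904aa0404ae0904b208, []⟩]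

theorem t9_47_35 : jobs 8 S9 b8_47 j9_47_35 = true := by decide +kernel

noncomputable def j9_47_36 : List Job := [
  ⟨30, 0x68142a251a914aa653e01028241a110a8643dc0e272399d0ea763bd24944c27d20964d27504864523d0084442344826160bc4022140ac381f0c06c28170804c1e0d058240e0501, 0, 344, 0x24204024609024a05025a08025e04026205027208027604027a09028a08028e0902920402a20802a60802aa0402ae05, []⟩]

theorem t9_47_36 : jobs 8 S9 b8_47 j9_47_36 = true := by decide +kernel

noncomputable def j9_47_37 : List Job := [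
  ⟨29, 0x629168c46e21128e47e01028241a110a8643dc0e272399d0ea763bc4426150bc4024140b42c1f0a074241b080641e0d058240e0501, 0, 512, 0x0, []⟩]

theorem t9_47_37 : jobs 8 S9 b8_47 j9_47_37 = true := by decide +kernel

noncomputable def j9_47_38 : List Job := [
  ⟨28, 0x6311a8e47e21128a45e01028241a110a8643de0f27a3d9f0fa7e3fd20924a259309a4e27d008242219108a4623c4826160bc4022140ac2c1d0a07c24190806c1e0d058240e0501, 242, 270, 0x0, []⟩]

theorem t9_47_38 : jobs 8 S9 b8_47 j9_47_38 = true := by decide +kernel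

noncomputable def j9_47_39 : List Job := [
  ⟨28, 0x6311a8e47e21128a45e01028241a110a8643de0f27a3d9f0fa7e3fd20924a259309a4e27d008242219108a4623c4826160bc4022140ac2c1d0a07c24190806c1e0d058240e0501, 0, 242, 0x0, []⟩]

theorem t9_47_39 : jobs 8 S9 b8_47 j9_47_39 = true := by decide +kernel

noncomputable def j9_47_40 : List Job := [
  ⟨27, 0x629168c46e21128e47e01028241a110a8643de0f27a3d9f0fa7e3fc4426150bc4024140b42c1f0a074241b080641e0d058240e0501, 0, 512, 0x0, []⟩]

theorem t9_47_40 : jobs 8 S9 b8_47 j9_47_40 = true := by decide +kernel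

noncomputable def j9_47_41 : List Job := [
  ⟨26, 0x6311a8e47e21128a45e01028241a110a8643dc0e272399d0ea763bd309a4e27d20924a25d04864523d0084442344826160bc4022140ac2c1d0a07c24190806c1e0d058240e0501, 244, 268, 0x0, []⟩]

theorem t9_47_41 : jobs 8 S9 b8_47 j9_47_41 = true := by decide +kernel

noncomputable def j9_47_42 : List Job := [
  ⟨26, 0x6311a8e47e21128a45e01028241a110a8643dc0e272399d0ea763bd309a4e27d20924a25d04864523d0084442344826160bc4022140ac2c1d0a07c24190806c1e0d058240e0501, 0, 244, 0x0, []⟩]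

theorem t9_47_42 : jobs 8 S9 b8_47 j9_47_42 = true := by decide +kernel

noncomputable def j9_47_43 : List Job := [
  ⟨25, 0x5e0f27a3d9f0fa7e3fc4426150bc4024140b42c1f0a074241b080641e0d058240e0501, 0, 288, 0x0, []⟩]

theorem t9_47_43 : jobs 8 S9 b8_47 j9_47_43 = true := by decide +kernel

noncomputable def j9_47_44 : List Job := [
  ⟨24, 0x6a152aa55ab15aae57e914aa653e8142a251e21128a45a311a8e47e110a8643e01028241de0f27a3d9f0fa7e3fc4426150bc4024140b42c1f0a074241b080641e0d058240e0501, 0, 288, 0x0, []⟩]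

theorem t9_47_44 : jobs 8 S9 b8_47 j9_47_44 = true := by decide +kernel

noncomputable def j9_47_45 : List Job := [
  ⟨23, 0x5c0e272399d0ea763bd28964c26d20924e27d108a4623d00824221c4426150bc4024140b42c1f0a074241b080641e0d058240e0501, 0, 288, 0x0, []⟩]

theorem t9_47_45 : jobs 8 S9 b8_47 j9_47_45 = true := by decide +kernel

noncomputable def j9_47_46 : List Job := [
  ⟨22, 0x6a152aa55ab15aae57e8546a553e8144a453621128a45a311a8e47e05068543e010484435c0e272399d0ea763bd24964c27520944d27d04864523d0084442344826160bc4022140ac381f0c06c28170804c1e0d058240e0501, 447, 201, 0x38209039a0803b20503d20403f208040a09042204044205046208047a0904920904aa08, []⟩]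

theorem t9_47_46 : jobs 8 S9 b8_47 j9_47_46 = true := by decide +kernel

noncomputable def j9_47_47 : List Job := [
  ⟨22, 0x6a152aa55ab15aae57e8546a553e8144a453621128a45a311a8e47e05068543e010484435c0e272399d0ea763bd24964c27520944d27d04864523d0084442344826160bc4022140ac381f0c06c28170804c1e0d058240e0501, 217, 230, 0x24204025a0402720402920402b20802ca0402e204030208032208033a04035204036a08, []⟩]

theorem t9_47_47 : jobs 8 S9 b8_47 j9_47_47 = true := by decide +kernel

noncomputable def j9_47_48 : List Job := [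
  ⟨22, 0x6a152aa55ab15aae57e8546a553e8144a453621128a45a311a8e47e05068543e010484435c0e272399d0ea763bd24964c27520944d27d04864523d0084442344826160bc4022140ac381f0c06c28170804c1e0d058240e0501, 0, 217, 0x0, []⟩]

theorem t9_47_48 : jobs 8 S9 b8_47 j9_47_48 = true := by decide +kernel

noncomputable def j9_47_49 : List Job := [
  ⟨21, 0x6a152aa55ab15aae57de0f27a3d9f0fa7e3fd20924a259309a4e27d108a4623d00824221c2c1f0a074241b080641e0d058240e0501, 0, 512, 0x0, []⟩]

theorem t9_47_49 : jobs 8 S9 b8_47 j9_47_49 = true := by decide +kernel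

noncomputable def j9_47_50 : List Job := [
  ⟨20, 0x6a152aa55ab15aae57dc0e272399d0ea763bc2c1f0a074241b080641e0d058240e0501, 0, 272, 0x0, []⟩]

theorem t9_47_50 : jobs 8 S9 b8_47 j9_47_50 = true := by decide +kernel

noncomputable def j9_47_51 : List Job := [
  ⟨19, 0x6a152aa55ab15aae57de0f27a3d9f0fa7e3fd20924a259309a4e27d108a4623d00824221c2c1f0a074241b080641e0d058240e0501, 0, 512, 0x0, []⟩]

theorem t9_47_51 : jobs 8 S9 b8_47 j9_47_51 = true := by decide +kernel

noncomputable def j9_47_52 : List Job := [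
  ⟨18, 0x68142a251a914aa653e21128a45a311a8e47e09068643e01028442de0f27a3d9f0fa7e3fd20924a259309a4e27d08864623d00824422c341f0c0742417080541e0d058240e0501, 0, 272, 0x0, []⟩]

theorem t9_47_52 : jobs 8 S9 b8_47 j9_47_52 = true := by decide +kernel

noncomputable def j9_47_53 : List Job := [
  ⟨17, 0x6a152aa55ab15aae57dc0e272399d0ea763bd20924a259309a4e27d108a4623d00824221c64361d0fc60341c0f44426150bc4024140b42c1f0a074241b080641e0d058240e0501, 239, 273, 0x0, []⟩]

theorem t9_47_53 : jobs 8 S9 b8_47 j9_47_53 = true := by decide +kernel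

noncomputable def j9_47_54 : List Job := [
  ⟨17, 0x6a152aa55ab15aae57dc0e272399d0ea763bd20924a259309a4e27d108a4623d00824221c64361d0fc60341c0f44426150bc4024140b42c1f0a074241b080641e0d058240e0501, 0, 239, 0x0, []⟩]

theorem t9_47_54 : jobs 8 S9 b8_47 j9_47_54 = true := by decide +kernel

noncomputable def j9_47_55 : List Job := [
  ⟨16, 0x6a152aa55ab15aae57de0f27a3d9f0fa7e3fc64361d0fc60341c0f4542f140b44427100942c1f0a074241b080641e0d058240e0501, 0, 288, 0x0, []⟩]

theorem t9_47_55 : jobs 8 S9 b8_47 j9_47_55 = true := by decide +kernel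

noncomputable def j9_47_56 : List Job := [
  ⟨15, 0x6a152aa55ab15aae57dc0e272399d0ea763bd20924a259309a4e27d108a4623d00824221c64361d0fc60341c0f4542f140b44427100942c1f0a074241b080641e0d058240e0501, 238, 274, 0x0, []⟩]

theorem t9_47_56 : jobs 8 S9 b8_47 j9_47_56 = true := by decide +kernel

noncomputable def j9_47_57 : List Job := [
  ⟨15, 0x6a152aa55ab15aae57dc0e272399d0ea763bd20924a259309a4e27d108a4623d00824221c64361d0fc60341c0f4542f140b44427100942c1f0a074241b080641e0d058240e0501, 0, 238, 0x0, []⟩]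

theorem t9_47_57 : jobs 8 S9 b8_47 j9_47_57 = true := by decide +kernel

noncomputable def j9_47_58 : List Job := [
  ⟨14, 0x68142a251a914aa653e21128a45a311a8e47e05068543e010484435c0e272399d0ea763bd20924a259309a4e27d04864523d00844423468361e0fc60321c0ec4c2f120b4442b100a4381f0c06c28170804c1e0d058240e0501, 399, 217, 0x33204034e0403620903860403a20903c60903e209040604041a04043604045605046a0904820104860104ae0104b201, []⟩]

theorem t9_47_58 : jobs 8 S9 b8_47 j9_47_58 = true := by decide +kernel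

noncomputable def j9_47_59 : List Job := [
  ⟨14, 0x68142a251a914aa653e21128a45a311a8e47e05068543e010484435c0e272399d0ea763bd20924a259309a4e27d04864523d00844423468361e0fc60321c0ec4c2f120b4442b100a4381f0c06c28170804c1e0d058240e0501, 181, 218, 0x24204025e04027a09029e0502b20802d60502f204031609, []⟩]

theorem t9_47_59 : jobs 8 S9 b8_47 j9_47_59 = true := by decide +kernel

noncomputable def j9_47_60 : List Job := [
  ⟨14, 0x68142a251a914aa653e21128a45a311a8e47e05068543e010484435c0e272399d0ea763bd20924a259309a4e27d04864523d00844423468361e0fc60321c0ec4c2f120b4442b100a4381f0c06c28170804c1e0d058240e0501, 0, 181, 0x0, []⟩]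

theorem t9_47_60 : jobs 8 S9 b8_47 j9_47_60 = true := by decide +kernel

noncomputable def j9_47_61 : List Job := [
  ⟨13, 0x68142a251a914aa653e01028241a110a8643dc0e272399d0ea763bd008242219108a4623c341f0c0742417080541e0d058240e0501, 0, 272, 0x0, []⟩]

theorem t9_47_61 : jobs 8 S9 b8_47 j9_47_61 = true := by decide +kernel

noncomputable def j9_47_62 : List Job := [
  ⟨12, 0x6a554ac57ea156ad5768544a453e8146a553520924a259309a4e27d008242219108a4623c3e1d0d8642e15098441e0d058240e0501, 0, 90, 0x0, []⟩]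

theorem t9_47_62 : jobs 8 S9 b8_47 j9_47_62 = true := by decide +kernel

noncomputable def j9_47_63 : List Job := [
  ⟨11, 0x621128a45a311a8e47e01028241a110a8643d20924a259309a4e27d008242219108a4623c3e1d0d8642e15098441e0d058240e0501, 0, 60, 0x0, []⟩]

theorem t9_47_63 : jobs 8 S9 b8_47 j9_47_63 = true := by decide +kernel

noncomputable def j9_47_64 : List Job := [
  ⟨10, 0x6a956ac56ea152ae57e8946a452e8142a653c3e1d0d8642e15098441e0d058240e0501, 0, 90, 0x0, []⟩]

theorem t9_47_64 : jobs 8 S9 b8_47 j9_47_64 = true := by decide +kernel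

noncomputable def j9_47_65 : List Job := [
  ⟨9, 0x621128a45a311a8e47e01028241a110a8643c3e1d0d8642e15098441e0d058240e0501, 0, 90, 0x0, []⟩]

theorem t9_47_65 : jobs 8 S9 b8_47 j9_47_65 = true := by decide +kernel

noncomputable def j9_47_66 : List Job := [
  ⟨8, 0x621128a45a311a8e47e01028241a110a8643de0f27a3d9f0fa7e3fdc0e272399d0ea763bd28964e27d20924c26d08864623d00824422c3e1d0d8642e15098441e0d058240e0501, 0, 102, 0x0, []⟩]

theorem t9_47_66 : jobs 8 S9 b8_47 j9_47_66 = true := by decide +kernel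

noncomputable def j9_47_67 : List Job := [
  ⟨7, 0x43e1d0d8642e15098441e0d058240e0501, 0, 54, 0x0, []⟩]

theorem t9_47_67 : jobs 8 S9 b8_47 j9_47_67 = true := by decide +kernel

noncomputable def j9_47_68 : List Job := [
  ⟨6, 0x5e0f27a3d9f0fa7e3fdc0e272399d0ea763bd309a4e27d20924a25d108a4623d00824221c3e1d0d8642e15098441e0d058240e0501, 0, 90, 0x0, []⟩]

theorem t9_47_68 : jobs 8 S9 b8_47 j9_47_68 = true := by decide +kernel

noncomputable def j9_47_69 : List Job := [
  ⟨5, 0x5e8f67c3ede0f27e3fdc8e6743adc0e2763bd20924a259309a4e27d008242219108a4623c64361d0fc60341c0f44426150bc4024140b43e1d0d8642e15098441e0d058240e0501, 0, 90, 0x0, []⟩]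

theorem t9_47_69 : jobs 8 S9 b8_47 j9_47_69 = true := by decide +kernel

noncomputable def j9_47_70 : List Job := [
  ⟨4, 0x5e0f27a3d9f0fa7e3fdc0e272399d0ea763bc64361d0fc60341c0f44426150bc4024140b43e1d0d8642e15098441e0d058240e0501, 0, 90, 0x0, []⟩]

theorem t9_47_70 : jobs 8 S9 b8_47 j9_47_70 = true := by decide +kernel

noncomputable def j9_47_71 : List Job := [
  ⟨3, 0x5309a4e27d20924a25d108a4623d00824221c64361d0fc60341c0f44426150bc4024140b43e1d0d8642e15098441e0d058240e0501, 0, 90, 0x0, []⟩]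

theorem t9_47_71 : jobs 8 S9 b8_47 j9_47_71 = true := by decide +kernel

noncomputable def j9_47_72 : List Job := [
  ⟨2, 0x621128a45a311a8e47e01028241a110a8643d20924a259309a4e27d008242219108a4623c1e0d058240e0501, 0, 168, 0x0, []⟩]

theorem t9_47_72 : jobs 8 S9 b8_47 j9_47_72 = true := by decide +kernel

noncomputable def j9_47_73 : List Job := [
  ⟨1, 0x621128a45a311a8e47e01028241a110a8643d20924a259309a4e27d008242219108a4623c64361d0fc60341c0f44426150bc4024140b41e0d058240e0501, 0, 168, 0x0, []⟩]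

theorem t9_47_73 : jobs 8 S9 b8_47 j9_47_73 = true := by decide +kernel

noncomputable def j9_47_74 : List Job := [
  ⟨0, 0x621128a45a311a8e47e01028241a110a8643de0f27a3d9f0fa7e3fd08864623d00824422c1e0d058240e0501, 0, 288, 0x0, []⟩]

theorem t9_47_74 : jobs 8 S9 b8_47 j9_47_74 = true := by decide +kernel

theorem d9_47 : Dn 8 S9 b8_47 := dn_of (Js := j9_47_0 ++ (j9_47_1 ++ (j9_47_2 ++ (j9_47_3 ++ (j9_47_4 ++ (j9_47_5 ++ (j9_47_6 ++ (j9_47_7 ++ (j9_47_8 ++ (j9_47_9 ++ (j9_47_10 ++ (j9_47_11 ++ (j9_47_12 ++ (j9_47_13 ++ (j9_47_14 ++ (j9_47_15 ++ (j9_47_16 ++ (j9_47_17 ++ (j9_47_18 ++ (j9_47_19 ++ (j9_47_20 ++ (j9_47_21 ++ (j9_47_22 ++ (j9_47_23 ++ (j9_47_24 ++ (j9_47_25 ++ (j9_47_26 ++ (j9_47_27 ++ (j9_47_28 ++ (j9_47_29 ++ (j9_47_30 ++ (j9_47_31 ++ (j9_47_32 ++ (j9_47_33 ++ (j9_47_34 ++ (j9_47_35 ++ (j9_47_36 ++ (j9_47_37 ++ (j9_47_38 ++ (j9_47_39 ++ (j9_47_40 ++ (j9_47_41 ++ (j9_47_42 ++ (j9_47_43 ++ (j9_47_44 ++ (j9_47_45 ++ (j9_47_46 ++ (j9_47_47 ++ (j9_47_48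 ++ (j9_47_49 ++ (j9_47_50 ++ (j9_47_51 ++ (j9_47_52 ++ (j9_47_53 ++ (j9_47_54 ++ (j9_47_55 ++ (j9_47_56 ++ (j9_47_57 ++ (j9_47_58 ++ (j9_47_59 ++ (j9_47_60 ++ (j9_47_61 ++ (j9_47_62 ++ (j9_47_63 ++ (j9_47_64 ++ (j9_47_65 ++ (j9_47_66 ++ (j9_47_67 ++ (j9_47_68 ++ (j9_47_69 ++ (j9_47_70 ++ (j9_47_71 ++ (j9_47_72 ++ (j9_47_73 ++ (j9_47_74 ++ [])))))))))))))))))))))))))))))))))))))))))))))))))))))))))))))))))))))))))))
  (jobs_append t9_47_0 <| jobs_append t9_47_1 <| jobs_append t9_47_2 <| jobs_append t9_47_3 <| jobs_append t9_47_4 <| jobs_append t9_47_5 <| jobs_append t9_47_6 <| jobs_append t9_47_7 <| jobs_append t9_47_8 <| jobs_append t9_47_9 <| jobs_append t9_47_10 <| jobs_append t9_47_11 <| jobs_append t9_47_12 <| jobs_append t9_47_13 <| jobs_append t9_47_14 <| jobs_append t9_47_15 <| jobs_append t9_47_16 <| jobs_append t9_47_17 <| jobs_append t9_47_18 <| jobs_append t9_47_19 <| jobs_append t9_47_20 <| jobs_append t9_47_21 <| jobs_append t9_47_22 <| jobs_append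 t9_47_23 <| jobs_append t9_47_24 <| jobs_append t9_47_25 <| jobs_append t9_47_26 <| jobs_append t9_47_27 <| jobs_append t9_47_28 <| jobs_append t9_47_29 <| jobs_append t9_47_30 <| jobs_append t9_47_31 <| jobs_append t9_47_32 <| jobs_append t9_47_33 <| jobs_append t9_47_34 <| jobs_append t9_47_35 <| jobs_append t9_47_36 <| jobs_append t9_47_37 <| jobs_append t9_47_38 <| jobs_append t9_47_39 <| jobs_append t9_47_40 <| jobs_append t9_47_41 <| jobs_append t9_47_42 <| jobs_append t9_47_43 <| jobs_append t9_47_44 <| jobs_append t9_47_45 <| jobs_append t9_47_46 <| jobs_append t9_47_47 <| jobs_append t9_47_48 <| jobs_append t9_47_49 <| jobs_append t9_47_50 <| jobs_append t9_47_51 <| jobs_append t9_47_52 <| jobs_append t9_47_53 <| jobs_append t9_47_54 <| jobs_append t9_47_55 <| jobs_append t9_47_56 <| jobs_append t9_47_57 <| jobs_append t9_47_58 <| jobs_append t9_47_59 <| jobs_append t9_47_60 <| jobs_append t9_47_61 <| jobs_append t9_47_62 <| jobs_append t9_47_63 <| jobs_append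 t9_47_64 <| jobs_append t9_47_65 <| jobs_append t9_47_66 <| jobs_append t9_47_67 <| jobs_append t9_47_68 <| jobs_append t9_47_69 <| jobs_append t9_47_70 <| jobs_append t9_47_71 <| jobs_append t9_47_72 <| jobs_append t9_47_73 <| jobs_append t9_47_74 <| List.forall_mem_nil _) (by decide +kernel)

end Cfsg.Agent.FS.N.Sw
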