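import Cfsg.Agent.FS.N.Sw.Seg
import Cfsg.Agent.FS.N.G.S9
import Cfsg.Agent.FS.N.G.L.L03

/-! The filter on the pairs for the order 512, part 14 (generated; helper52, project FS) -/

set_option autoImplicit false
set_option maxRecDepth 100000
set_option Elab.async false

namespace Cfsg.Agent.FS.N.Sw

open G

noncomputable def j9_53_0 : List Job := [
  ⟨63, 0x5c0e272399d0ea763bc88462613c80422412c68361e0fc60321c0ec4826160bc4022140ac381f0c06c28170804c1e0d058240e0501, 260, 252, 0x0, []⟩]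

theorem t9_53_0 : jobs 8 S9 b8_53 j9_53_0 = true := by decide +kernel

noncomputable def j9_53_1 : List Job := [
  ⟨63, 0x5c0e272399d0ea763bc88462613c80422412c68361e0fc60321c0ec4826160bc4022140ac381f0c06c28170804c1e0d058240e0501, 0, 260, 0x0, []⟩]

theorem t9_53_1 : jobs 8 S9 b8_53 j9_53_1 = true := by decide +kernel

noncomputable def j9_53_2 : List Job := [
  ⟨62, 0x6e172ba5daf17abe5fec564b55b6c166b45bdc0e272399d0ea763bc84462513c80442413464361d0fc60341c0f44426150bc4024140b42c1b0a064241f080741e0d058240e0501, 259, 253, 0x0, []⟩]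

theorem t9_53_2 : jobs 8 S9 b8_53 j9_53_2 = true := by decide +kernel

noncomputable def j9_53_3 : List Job := [
  ⟨62, 0x6e172ba5daf17abe5fec564b55b6c166b45bdc0e272399d0ea763bc84462513c80442413464361d0fc60341c0f44426150bc4024140b42c1b0a064241f080741e0d058240e0501, 0, 259, 0x0, []⟩]

theorem t9_53_3 : jobs 8 S9 b8_53 j9_53_3 = true := by decide +kernel

noncomputable def j9_53_4 : List Job := [
  ⟨61, 0x5e0f27a3d9f0fa7e3fc84462513c80442413464361d0fc60341c0f44426150bc4024140b42c1b0a064241f080741e0d058240e0501, 260, 252, 0x0, []⟩]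

theorem t9_53_4 : jobs 8 S9 b8_53 j9_53_4 = true := by decide +kernel

noncomputable def j9_53_5 : List Job := [
  ⟨61, 0x5e0f27a3d9f0fa7e3fc84462513c80442413464361d0fc60341c0f44426150bc4024140b42c1b0a064241f080741e0d058240e0501, 0, 260, 0x0, []⟩]

theorem t9_53_5 : jobs 8 S9 b8_53 j9_53_5 = true := by decide +kernel

noncomputable def j9_53_6 : List Job := [
  ⟨60, 0x6e172ba5daf17abe5fec564b55b6c166b45bde0f27a3d9f0fa7e3fc88462613c80422412c68361e0fc60321c0ec4826160bc4022140ac381f0c06c28170804c1e0d058240e0501, 259, 253, 0x0, []⟩]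

theorem t9_53_6 : jobs 8 S9 b8_53 j9_53_6 = true := by decide +kernel

noncomputable def j9_53_7 : List Job := [
  ⟨60, 0x6e172ba5daf17abe5fec564b55b6c166b45bde0f27a3d9f0fa7e3fc88462613c80422412c68361e0fc60321c0ec4826160bc4022140ac381f0c06c28170804c1e0d058240e0501, 0, 259, 0x0, []⟩]

theorem t9_53_7 : jobs 8 S9 b8_53 j9_53_7 = true := by decide +kernel

noncomputable def j9_53_8 : List Job := [
  ⟨59, 0x6c162b259ad16ab65bdc0e272399d0ea763bc84462513c804424134341f0c0742417080541e0d058240e0501, 0, 272, 0x0, []⟩]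

theorem t9_53_8 : jobs 8 S9 b8_53 j9_53_8 = true := by decide +kernel

noncomputable def j9_53_9 : List Job := [
  ⟨58, 0x6e172ba5daf17abe5fde0f27a3d9f0fa7e3fc84462513c8044241342c1b0a064241f080741e0d058240e0501, 0, 512, 0x0, []⟩]

theorem t9_53_9 : jobs 8 S9 b8_53 j9_53_9 = true := by decide +kernel

noncomputable def j9_53_10 : List Job := [
  ⟨57, 0x6c162b259ad16ab65bde0f27a3d9f0fa7e3fc84462513c804424134341f0c0742417080541e0d058240e0501, 0, 512, 0x0, []⟩]

theorem t9_53_10 : jobs 8 S9 b8_53 j9_53_10 = true := by decide +kernel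

noncomputable def j9_53_11 : List Job := [
  ⟨56, 0x6e172ba5daf17abe5fde0f27a3d9f0fa7e3fc84462513c804424134341f0c0742417080541e0d058240e0501, 0, 272, 0x0, []⟩]

theorem t9_53_11 : jobs 8 S9 b8_53 j9_53_11 = true := by decide +kernel

noncomputable def j9_53_12 : List Job := [
  ⟨55, 0x6e172ba5daf17abe5fde0f27a3d9f0fa7e3fc88462613c80422412c68361e0fc60321c0ec4826160bc4022140ac381f0c06c28170804c1e0d058240e0501, 130, 142, 0x0, []⟩]

theorem t9_53_12 : jobs 8 S9 b8_53 j9_53_12 = true := by decide +kernel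

noncomputable def j9_53_13 : List Job := [
  ⟨55, 0x6e172ba5daf17abe5fde0f27a3d9f0fa7e3fc88462613c80422412c68361e0fc60321c0ec4826160bc4022140ac381f0c06c28170804c1e0d058240e0501, 0, 130, 0x0, []⟩]

theorem t9_53_13 : jobs 8 S9 b8_53 j9_53_13 = true := by decide +kernel

noncomputable def j9_53_14 : List Job := [
  ⟨54, 0x6c162b259ad16ab65bdc0e272399d0ea763bc84462513c80442413464361d0fc60341c0f44426150bc4024140b42c1b0a064241f080741e0d058240e0501, 259, 253, 0x0, []⟩]

theorem t9_53_14 : jobs 8 S9 b8_53 j9_53_14 = true := by decide +kernel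

noncomputable def j9_53_15 : List Job := [
  ⟨54, 0x6c162b259ad16ab65bdc0e272399d0ea763bc84462513c80442413464361d0fc60341c0f44426150bc4024140b42c1b0a064241f080741e0d058240e0501, 0, 259, 0x0, []⟩]

theorem t9_53_15 : jobs 8 S9 b8_53 j9_53_15 = true := by decide +kernel

noncomputable def j9_53_16 : List Job := [
  ⟨53, 0x6e172ba5daf17abe5fdc0e272399d0ea763bc88462613c80422412c68361e0fc60321c0ec4826160bc4022140ac381f0c06c28170804c1e0d058240e0501, 259, 253, 0x0, []⟩]

theorem t9_53_16 : jobs 8 S9 b8_53 j9_53_16 = true := by decide +kernel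

noncomputable def j9_53_17 : List Job := [
  ⟨53, 0x6e172ba5daf17abe5fdc0e272399d0ea763bc88462613c80422412c68361e0fc60321c0ec4826160bc4022140ac381f0c06c28170804c1e0d058240e0501, 0, 259, 0x0, []⟩]

theorem t9_53_17 : jobs 8 S9 b8_53 j9_53_17 = true := by decide +kernel

noncomputable def j9_53_18 : List Job := [
  ⟨52, 0x6e172ba5daf17abe5fdc0e272399d0ea763bc341f0c0742417080541e0d058240e0501, 0, 288, 0x0, []⟩]

theorem t9_53_18 : jobs 8 S9 b8_53 j9_53_18 = true := by decide +kernel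

noncomputable def j9_53_19 : List Job := [
  ⟨51, 0x6e172ba5daf17abe5fde0f27a3d9f0fa7e3fc64361d0fc60341c0f44426150bc4024140b4341f0c0742417080541e0d058240e0501, 0, 288, 0x0, []⟩]

theorem t9_53_19 : jobs 8 S9 b8_53 j9_53_19 = true := by decide +kernel

noncomputable def j9_53_20 : List Job := [
  ⟨50, 0x6c162b259ad16ab65bde0f27a3d9f0fa7e3fc64361d0fc60341c0f44426150bc4024140b4341f0c0742417080541e0d058240e0501, 0, 288, 0x0, []⟩]

theorem t9_53_20 : jobs 8 S9 b8_53 j9_53_20 = true := by decide +kernel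

noncomputable def j9_53_21 : List Job := [
  ⟨49, 0x588c66432d80c26633d48a6542ad40a2562bc1e0d058240e0501, 0, 168, 0x0, []⟩]

theorem t9_53_21 : jobs 8 S9 b8_53 j9_53_21 = true := by decide +kernel

noncomputable def j9_53_22 : List Job := [
  ⟨48, 0x6e172ba5daf17abe5fec162b259ad16ab65bd88c66633d80c26432d48a6562bd40a2542ac1e0d058240e0501, 0, 168, 0x0, []⟩]

theorem t9_53_22 : jobs 8 S9 b8_53 j9_53_22 = true := by decide +kernel

noncomputable def j9_53_23 : List Job := [
  ⟨47, 0x5a0d26a359b0da6e37d60b25a2d970ba5e2fd309a4e27d20924a25d108a4623d00824221c1e0d058240e0501, 0, 168, 0x0, []⟩]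

theorem t9_53_23 : jobs 8 S9 b8_53 j9_53_23 = true := by decide +kernel

noncomputable def j9_53_24 : List Job := [
  ⟨46, 0x6e172ba5daf17abe5fec162b259ad16ab65bda0d26a359b0da6e37d60b25a2d970ba5e2fd309a4e27d20924a25d108a4623d00824221c1e0d058240e0501, 0, 184, 0x0, []⟩]

theorem t9_53_24 : jobs 8 S9 b8_53 j9_53_24 = true := by decide +kernel

noncomputable def j9_53_25 : List Job := [
  ⟨45, 0x584c46433d80c66533560b25a2d970ba5e2fc64361d0fc60341c0f44426150bc4024140b41e0d058240e0501, 0, 288, 0x0, []⟩]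

theorem t9_53_25 : jobs 8 S9 b8_53 j9_53_25 = true := by decide +kernel

noncomputable def j9_53_26 : List Job := [
  ⟨44, 0x6e172ba5daf17abe5fec162b259ad16ab65bd84c46533580c66433d60b25a2d970ba5e2fc64361d0fc60341c0f44426150bc4024140b41e0d058240e0501, 0, 288, 0x0, []⟩]

theorem t9_53_26 : jobs 8 S9 b8_53 j9_53_26 = true := by decide +kernel

noncomputable def j9_53_27 : List Job := [
  ⟨43, 0x5a0d26a359b0da6e37d48a6542ad40a2562bd309a4e27d20924a25d108a4623d00824221c64361d0fc60341c0f44426150bc4024140b41e0d058240e0501, 0, 288, 0x0, []⟩]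

theorem t9_53_27 : jobs 8 S9 b8_53 j9_53_27 = true := by decide +kernel

noncomputable def j9_53_28 : List Job := [
  ⟨42, 0x6e172ba5daf17abe5fec162b259ad16ab65bda0d26a359b0da6e37d48a6562bd40a2542ad309a4e27d20924a25d108a4623d00824221c64361d0fc60341c0f44426150bc4024140b41e0d058240e0501, 0, 288, 0x0, []⟩]

theorem t9_53_28 : jobs 8 S9 b8_53 j9_53_28 = true := by decide +kernel

noncomputable def j9_53_29 : List Job := [
  ⟨41, 0x6e172ba5daf17abe5fec162b259ad16ab65bd88c66432d80c26633d60b25a2d970ba5e2fc64361d0fc60341c0f44426150bc4024140b41e0d058240e0501, 0, 288, 0x0, []⟩]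

theorem t9_53_29 : jobs 8 S9 b8_53 j9_53_29 = true := by decide +kernel

noncomputable def j9_53_30 : List Job := [
  ⟨40, 0x588c66633d80c26432d60b25a2d970ba5e2fc64361d0fc60341c0f44426150bc4024140b41e0d058240e0501, 0, 288, 0x0, []⟩]

theorem t9_53_30 : jobs 8 S9 b8_53 j9_53_30 = true := by decide +kernel

noncomputable def j9_53_31 : List Job := [
  ⟨39, 0x6e172ba5daf17abe5fec162b259ad16ab65bda0d26a359b0da6e37d48a6542ad40a2562bd309a4e27d20924a25d108a4623d00824221c64361d0fc60341c0f44426150bc4024140b41e0d058240e0501, 0, 288, 0x0, []⟩]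

theorem t9_53_31 : jobs 8 S9 b8_53 j9_53_31 = true := by decide +kernel

noncomputable def j9_53_32 : List Job := [
  ⟨38, 0x5a0d26a359b0da6e37d48a6562bd40a2542ad309a4e27d20924a25d108a4623d00824221c64361d0fc60341c0f44426150bc4024140b41e0d058240e0501, 0, 288, 0x0, []⟩]

theorem t9_53_32 : jobs 8 S9 b8_53 j9_53_32 = true := by decide +kernel

noncomputable def j9_53_33 : List Job := [
  ⟨37, 0x5a0d26a359b0da6e37d60b25a2d970ba5e2fca4562d17ca0542c17484462513c80442413464361d0fc60341c0f44426150bc4024140b41e0d058240e0501, 0, 168, 0x0, []⟩]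

theorem t9_53_33 : jobs 8 S9 b8_53 j9_53_33 = true := by decide +kernel

noncomputable def j9_53_34 : List Job := [
  ⟨36, 0x6e172ba5daf17abe5fd84c46533580c66433d48a6562bd40a2542ac1e0d058240e0501, 0, 288, 0x0, []⟩]

theorem t9_53_34 : jobs 8 S9 b8_53 j9_53_34 = true := by decide +kernel

noncomputable def j9_53_35 : List Job := [
  ⟨35, 0x6e172ba5daf17abe5fda0d26a359b0da6e37d60b25a2d970ba5e2fd309a4e27d20924a25d108a4623d00824221c1e0d058240e0501, 0, 288, 0x0, []⟩]

theorem t9_53_35 : jobs 8 S9 b8_53 j9_53_35 = true := by decide +kernel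

noncomputable def j9_53_36 : List Job := [
  ⟨34, 0x6e574bd5f6e176bc5fd88c66432d80c26633d48a6542ad40a2562bc1e0d058240e0501, 0, 168, 0x0, []⟩]

theorem t9_53_36 : jobs 8 S9 b8_53 j9_53_36 = true := by decide +kernel

noncomputable def j9_53_37 : List Job := [
  ⟨33, 0x6c966b65bec162b45ad88c66633d80c26432d48a6562bd40a2542ac1e0d058240e0501, 0, 168, 0x0, []⟩]

theorem t9_53_37 : jobs 8 S9 b8_53 j9_53_37 = true := by decide +kernel

noncomputable def j9_53_38 : List Job := [
  ⟨32, 0x6e574bd5f6e176bc5fda0d26a359b0da6e37d60b25a2d970ba5e2fd309a4e27d20924a25d108a4623d00824221c1e0d058240e0501, 0, 168, 0x0, []⟩]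

theorem t9_53_38 : jobs 8 S9 b8_53 j9_53_38 = true := by decide +kernel

noncomputable def j9_53_39 : List Job := [
  ⟨31, 0x6c966b65bec162b45ada0d26a359b0da6e37d60b25a2d970ba5e2fd309a4e27d20924a25d108a4623d00824221c1e0d058240e0501, 0, 168, 0x0, []⟩]

theorem t9_53_39 : jobs 8 S9 b8_53 j9_53_39 = true := by decide +kernel

noncomputable def j9_53_40 : List Job := [
  ⟨30, 0x6e172ba5daf17abe5fd84c46433d80c66533560b25a2d970ba5e2fc64361d0fc60341c0f44426150bc4024140b41e0d058240e0501, 0, 288, 0x0, []⟩]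

theorem t9_53_40 : jobs 8 S9 b8_53 j9_53_40 = true := by decide +kernel

noncomputable def j9_53_41 : List Job := [
  ⟨29, 0x6c162b259ad16ab65bd84c46533580c66433d60b25a2d970ba5e2fc64361d0fc60341c0f44426150bc4024140b41e0d058240e0501, 0, 288, 0x0, []⟩]

theorem t9_53_41 : jobs 8 S9 b8_53 j9_53_41 = true := by decide +kernel

noncomputable def j9_53_42 : List Job := [
  ⟨28, 0x6e172ba5daf17abe5fda0d26a359b0da6e37d48a6542ad40a2562bd309a4e27d20924a25d108a4623d00824221c64361d0fc60341c0f44426150bc4024140b41e0d058240e0501, 0, 288, 0x0, []⟩]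

theorem t9_53_42 : jobs 8 S9 b8_53 j9_53_42 = true := by decide +kernel

noncomputable def j9_53_43 : List Job := [
  ⟨27, 0x6c162b259ad16ab65bda0d26a359b0da6e37d48a6562bd40a2542ad309a4e27d20924a25d108a4623d00824221c64361d0fc60341c0f44426150bc4024140b41e0d058240e0501, 0, 288, 0x0, []⟩]

theorem t9_53_43 : jobs 8 S9 b8_53 j9_53_43 = true := by decide +kernel

noncomputable def j9_53_44 : List Job := [
  ⟨26, 0x6c966b45aec162b65bd88c66432d80c26633d60b25a2d970ba5e2fc64361d0fc60341c0f44426150bc4024140b41e0d058240e0501, 0, 288, 0x0, []⟩]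

theorem t9_53_44 : jobs 8 S9 b8_53 j9_53_44 = true := by decide +kernel

noncomputable def j9_53_45 : List Job := [
  ⟨25, 0x6e574bc5fee176bd5f588c66633d80c26432d60b25a2d970ba5e2fc64361d0fc60341c0f44426150bc4024140b41e0d058240e0501, 0, 288, 0x0, []⟩]

theorem t9_53_45 : jobs 8 S9 b8_53 j9_53_45 = true := by decide +kernel

noncomputable def j9_53_46 : List Job := [
  ⟨24, 0x6c966b45aec162b65bda0d26a359b0da6e37d48a6542ad40a2562bd309a4e27d20924a25d108a4623d00824221c64361d0fc60341c0f44426150bc4024140b41e0d058240e0501, 0, 288, 0x0, []⟩]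

theorem t9_53_46 : jobs 8 S9 b8_53 j9_53_46 = true := by decide +kernel

noncomputable def j9_53_47 : List Job := [
  ⟨23, 0x6e574bc5fee176bd5f5a0d26a359b0da6e37d48a6562bd40a2542ad309a4e27d20924a25d108a4623d00824221c64361d0fc60341c0f44426150bc4024140b41e0d058240e0501, 0, 288, 0x0, []⟩]

theorem t9_53_47 : jobs 8 S9 b8_53 j9_53_47 = true := by decide +kernel

noncomputable def j9_53_48 : List Job := [
  ⟨22, 0x6e172ba5daf17abe5fda0d26a359b0da6e37d60b25a2d970ba5e2fca4562d17ca0542c17484462513c80442413464361d0fc60341c0f44426150bc4024140b41e0d058240e0501, 0, 288, 0x0, []⟩]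

theorem t9_53_48 : jobs 8 S9 b8_53 j9_53_48 = true := by decide +kernel

noncomputable def j9_53_49 : List Job := [
  ⟨21, 0x6e172ba5daf17abe5fd84c46533580c66433d48a6562bd40a2542ad309a4e27d20924a25d108a4623d00824221ca4562d17ca0542c17484462513c80442413464361d0fc60341c0f44426150bc4024140b41e0d058240e0501, 0, 288, 0x0, []⟩]

theorem t9_53_49 : jobs 8 S9 b8_53 j9_53_49 = true := by decide +kernel

noncomputable def j9_53_50 : List Job := [
  ⟨20, 0x6e574bd5f6e176bc5fda0d26a359b0da6e37d60b25a2d970ba5e2fca4562d17ca0542c17484462513c80442413464361d0fc60341c0f44426150bc4024140b41e0d058240e0501, 0, 168, 0x0, []⟩]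

theorem t9_53_50 : jobs 8 S9 b8_53 j9_53_50 = true := by decide +kernel

noncomputable def j9_53_51 : List Job := [
  ⟨19, 0x5a0d26a359b0da6e37d80c26231990ca6633d108a4623d00824221c1e0d058240e0501, 0, 288, 0x0, []⟩]

theorem t9_53_51 : jobs 8 S9 b8_53 j9_53_51 = true := by decide +kernel

noncomputable def j9_53_52 : List Job := [
  ⟨18, 0x6e172ba5daf17abe5fec162b259ad16ab65bda0d26a359b0da6e37d80c26231990ca6633d108a4623d00824221c1e0d058240e0501, 0, 288, 0x0, []⟩]

theorem t9_53_52 : jobs 8 S9 b8_53 j9_53_52 = true := by decide +kernel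

noncomputable def j9_53_53 : List Job := [
  ⟨17, 0x5a0d26a359b0da6e37d80c26231990ca6633d60b25a2d970ba5e2fd40a25229950aa562bd309a4e27d20924a25c1e0d058240e0501, 0, 168, 0x0, []⟩]

theorem t9_53_53 : jobs 8 S9 b8_53 j9_53_53 = true := by decide +kernel

noncomputable def j9_53_54 : List Job := [
  ⟨16, 0x6e172ba5daf17abe5fec162b259ad16ab65bda0d26a359b0da6e37d80c26231990ca6633d60b25a2d970ba5e2fd40a25229950aa562bd309a4e27d20924a25c1e0d058240e0501, 0, 168, 0x0, []⟩]

theorem t9_53_54 : jobs 8 S9 b8_53 j9_53_54 = true := by decide +kernel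

noncomputable def j9_53_55 : List Job := [
  ⟨15, 0x5188f4422d08874020c1e0d058240e0501, 0, 168, 0x20c00040c000609000805000a05000c09000e0900100800120c001404001604001804001a08001c0d001e0d00200800220400240400260800280d002a09002c0d002e0500300900320d00340d00360400380d003a04003c0d003e0d00400400420d00440900460d00480d004a0d004c04004e0d00500800520d00540d00560800580d005a0d005c0d005e0d00600c00620900640900660c00680c006a09006c04006e0400700c00720c00740500760c00780c007a09007c04007e0400800900820900840c008605008804008a04008c08008e0800900500920d00940400960d00980c009a0c009c05009e0400a00800a20d00a40400a60d00a80d, []⟩]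

theorem t9_53_55 : jobs 8 S9 b8_53 j9_53_55 = true := by decide +kernel

noncomputable def j9_53_56 : List Job := [
  ⟨14, 0x6e172ba5daf17abe5fec162b259ad16ab65bd188f4422d08874020c1e0d058240e0501, 0, 168, 0x20c000404000605000805000a05000c05000e0d00100400120c00140d00160d00180c001a05001c09001e0c002004002209002405002605002809002a04002c09002e0d00300d003209003409003609003805003a04003c04003e0c00400d00420500440800460c00480c004a08004c04004e0c00500900520d00540d005609005809005a04005c05005e04006004006205006408006608006804006a04006c04006e0400700800720c007404007605007808007a0c007c05007e0500800500820d00840800860d00880d008a04008c04008e0500900500920d00940c009604009808009a04009c0d009e0c00a00500a20900a40400a60500a80c, []⟩]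

theorem t9_53_56 : jobs 8 S9 b8_53 j9_53_56 = true := by decide +kernel

noncomputable def j9_53_57 : List Job := [
  ⟨13, 0x6e172ba5daf17abe5fec162b259ad16ab65bd309a4e27d20924a25c64361d0fc60341c0f44426150bc4024140b41e0d058240e0501, 0, 288, 0x0, []⟩]

theorem t9_53_57 : jobs 8 S9 b8_53 j9_53_57 = true := by decide +kernel

noncomputable def j9_53_58 : List Job := [
  ⟨12, 0x5309a4e27d20924a25c64361d0fc60341c0f44426150bc4024140b41e0d058240e0501, 0, 288, 0x0, []⟩]

theorem t9_53_58 : jobs 8 S9 b8_53 j9_53_58 = true := by decide +kernel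

noncomputable def j9_53_59 : List Job := [
  ⟨11, 0x6e172ba5daf17abe5fec162b259ad16ab65bda0d26a359b0da6e37d80c26231990ca6633d60b25a2d970ba5e2fd40a25229950aa562bd108a4623d00824221c64361d0fc60341c0f44426150bc4024140b41e0d058240e0501, 0, 288, 0x0, []⟩]

theorem t9_53_59 : jobs 8 S9 b8_53 j9_53_59 = true := by decide +kernel

noncomputable def j9_53_60 : List Job := [
  ⟨10, 0x5a0d26a359b0da6e37d80c26231990ca6633d60b25a2d970ba5e2fd40a25229950aa562bd108a4623d00824221c64361d0fc60341c0f44426150bc4024140b41e0d058240e0501, 0, 288, 0x0, []⟩]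

theorem t9_53_60 : jobs 8 S9 b8_53 j9_53_60 = true := by decide +kernel

noncomputable def j9_53_61 : List Job := [
  ⟨9, 0x6e172ba5daf17abe5fec162b259ad16ab65bda0d26a359b0da6e37d80c26231990ca6633d309a4e27d20924a25c64361d0fc60341c0f44426150bc4024140b41e0d058240e0501, 0, 288, 0x0, []⟩]

theorem t9_53_61 : jobs 8 S9 b8_53 j9_53_61 = true := by decide +kernel

noncomputable def j9_53_62 : List Job := [
  ⟨8, 0x5a0d26a359b0da6e37d80c26231990ca6633d309a4e27d20924a25c64361d0fc60341c0f44426150bc4024140b41e0d058240e0501, 0, 288, 0x0, []⟩]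

theorem t9_53_62 : jobs 8 S9 b8_53 j9_53_62 = true := by decide +kernel

noncomputable def j9_53_63 : List Job := [
  ⟨7, 0x6e172ba5daf17abe5fec162b259ad16ab65bd60b25a2d970ba5e2fd40a25229950aa562bd188f4422d08874020c64361d0fc60341c0f44426150bc4024140b41e0d058240e0501, 0, 288, 0x20c000804000a04001004001408001605001c04001e04003e0400440d004605004c05005009005205005804005a0400920c009404009a04009e0400a00800a40d00be0400c00400c60900ca0400cc0d00d00500d20500d80d00dc0400de0500ee0400f40400f80800fa0d011205011405011e05012008, []⟩]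

theorem t9_53_63 : jobs 8 S9 b8_53 j9_53_63 = true := by decide +kernel

noncomputable def j9_53_64 : List Job := [
  ⟨6, 0x560b25a2d970ba5e2fd40a25229950aa562bd188f4422d08874020c64361d0fc60341c0f44426150bc4024140b41e0d058240e0501, 0, 288, 0x20c000804000a0900100900140800160c001c04001e04004204004609004805004e0500520900540d005a0d005c0d00920c009604009c0400a00400a20400a60500be0400c00400c60400ca0900cc0500d00800d20500d80400dc0800de0d00f20400f60500fa0500fc05011205011608011e0c012005, []⟩]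

theorem t9_53_64 : jobs 8 S9 b8_53 j9_53_64 = true := by decide +kernel

noncomputable def j9_53_65 : List Job := [
  ⟨5, 0x560b25a2d970ba5e2fd40a25229950aa562bd108a4623d00824221ca4562d17ca0542c17484462513c80442413464361d0fc60341c0f44426150bc4024140b41e0d058240e0501, 0, 288, 0x0, []⟩]

theorem t9_53_65 : jobs 8 S9 b8_53 j9_53_65 = true := by decide +kernel

noncomputable def j9_53_66 : List Job := [
  ⟨4, 0x6e172ba5daf17abe5fec162b259ad16ab65bd60b25a2d970ba5e2fd40a25229950aa562bd108a4623d00824221ca4562d17ca0542c17484462513c80442413464361d0fc60341c0f44426150bc4024140b41e0d058240e0501, 0, 288, 0x0, []⟩]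

theorem t9_53_66 : jobs 8 S9 b8_53 j9_53_66 = true := by decide +kernel

noncomputable def j9_53_67 : List Job := [
  ⟨3, 0x5309a4e27d20924a25ca4562d17ca0542c17484462513c80442413464361d0fc60341c0f44426150bc4024140b41e0d058240e0501, 0, 168, 0x0, []⟩]

theorem t9_53_67 : jobs 8 S9 b8_53 j9_53_67 = true := by decide +kernel

noncomputable def j9_53_68 : List Job := [
  ⟨2, 0x6e172ba5daf17abe5fec162b259ad16ab65bd309a4e27d20924a25ca4562d17ca0542c17484462513c80442413464361d0fc60341c0f44426150bc4024140b41e0d058240e0501, 0, 168, 0x0, []⟩]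

theorem t9_53_68 : jobs 8 S9 b8_53 j9_53_68 = true := by decide +kernel

noncomputable def j9_53_69 : List Job := [
  ⟨1, 0x6e172ba5daf17abe5fda0d26a359b0da6e37d80c26231990ca6633d108a4623d00824221c1e0d058240e0501, 0, 288, 0x0, []⟩]

theorem t9_53_69 : jobs 8 S9 b8_53 j9_53_69 = true := by decide +kernel

noncomputable def j9_53_70 : List Job := [
  ⟨0, 0x6c564b55b6c166b45bda0d26a359b0da6e37d80c26231990ca6633d108a4623d00824221c1e0d058240e0501, 0, 288, 0x0, []⟩]

theorem t9_53_70 : jobs 8 S9 b8_53 j9_53_70 = true := by decide +kernel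

theorem d9_53 : Dn 8 S9 b8_53 := dn_of (Js := j9_53_0 ++ (j9_53_1 ++ (j9_53_2 ++ (j9_53_3 ++ (j9_53_4 ++ (j9_53_5 ++ (j9_53_6 ++ (j9_53_7 ++ (j9_53_8 ++ (j9_53_9 ++ (j9_53_10 ++ (j9_53_11 ++ (j9_53_12 ++ (j9_53_13 ++ (j9_53_14 ++ (j9_53_15 ++ (j9_53_16 ++ (j9_53_17 ++ (j9_53_18 ++ (j9_53_19 ++ (j9_53_20 ++ (j9_53_21 ++ (j9_53_22 ++ (j9_53_23 ++ (j9_53_24 ++ (j9_53_25 ++ (j9_53_26 ++ (j9_53_27 ++ (j9_53_28 ++ (j9_53_29 ++ (j9_53_30 ++ (j9_53_31 ++ (j9_53_32 ++ (j9_53_33 ++ (j9_53_34 ++ (j9_53_35 ++ (j9_53_36 ++ (j9_53_37 ++ (j9_53_38 ++ (j9_53_39 ++ (j9_53_40 ++ (j9_53_41 ++ (j9_53_42 ++ (j9_53_43 ++ (j9_53_44 ++ (j9_53_45 ++ (j9_53_46 ++ (j9_53_47 ++ (j9_53_48 ++ (j9_53_49 ++ (j9_53_50 ++ (j9_53_51 ++ (j9_53_52 ++ (j9_53_53 ++ (j9_53_54 ++ (j9_53_55 ++ (j9_53_56 ++ (j9_53_57 ++ (j9_53_58 ++ (j9_53_59 ++ (j9_53_60 ++ (j9_53_61 ++ (j9_53_62 ++ (j9_53_63 ++ (j9_53_64 ++ (j9_53_65 ++ (j9_53_66 ++ (j9_53_67 ++ (j9_53_68 ++ (j9_53_69 ++ (j9_53_70 ++ [])))))))))))))))))))))))))))))))))))))))))))))))))))))))))))))))))))))))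
  (jobs_append t9_53_0 <| jobs_append t9_53_1 <| jobs_append t9_53_2 <| jobs_append t9_53_3 <| jobs_append t9_53_4 <| jobs_append t9_53_5 <| jobs_append t9_53_6 <| jobs_append t9_53_7 <| jobs_append t9_53_8 <| jobs_append t9_53_9 <| jobs_append t9_53_10 <| jobs_append t9_53_11 <| jobs_append t9_53_12 <| jobs_append t9_53_13 <| jobs_append t9_53_14 <| jobs_append t9_53_15 <| jobs_append t9_53_16 <| jobs_append t9_53_17 <| jobs_append t9_53_18 <| jobs_append t9_53_19 <| jobs_append t9_53_20 <| jobs_append t9_53_21 <| jobs_append t9_53_22 <| jobs_append t9_53_23 <| jobs_append t9_53_24 <| jobs_append t9_53_25 <| jobs_append t9_53_26 <| jobs_append t9_53_27 <| jobs_append t9_53_28 <| jobs_append t9_53_29 <| jobs_append t9_53_30 <| jobs_append t9_53_31 <| jobs_append t9_53_32 <| jobs_append t9_53_33 <| jobs_append t9_53_34 <| jobs_append t9_53_35 <| jobs_append t9_53_36 <| jobs_append t9_53_37 <| jobs_append t9_53_38 <| jobs_append t9_53_39 <| jobs_append t9_53_40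 <| jobs_append t9_53_41 <| jobs_append t9_53_42 <| jobs_append t9_53_43 <| jobs_append t9_53_44 <| jobs_append t9_53_45 <| jobs_append t9_53_46 <| jobs_append t9_53_47 <| jobs_append t9_53_48 <| jobs_append t9_53_49 <| jobs_append t9_53_50 <| jobs_append t9_53_51 <| jobs_append t9_53_52 <| jobs_append t9_53_53 <| jobs_append t9_53_54 <| jobs_append t9_53_55 <| jobs_append t9_53_56 <| jobs_append t9_53_57 <| jobs_append t9_53_58 <| jobs_append t9_53_59 <| jobs_append t9_53_60 <| jobs_append t9_53_61 <| jobs_append t9_53_62 <| jobs_append t9_53_63 <| jobs_append t9_53_64 <| jobs_append t9_53_65 <| jobs_append t9_53_66 <| jobs_append t9_53_67 <| jobs_append t9_53_68 <| jobs_append t9_53_69 <| jobs_append t9_53_70 <| List.forall_mem_nil _) (by decide +kernel)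

noncomputable def j9_54_0 : List Job := [
  ⟨63, 0x6c162b259ad16ab65bca4562d17ca0542c17484462513c8044241344426150bc4024140b41e0d058240e0501, 0, 288, 0x0, []⟩]

theorem t9_54_0 : jobs 8 S9 b8_54 j9_54_0 = true := by decide +kernel

noncomputable def j9_54_1 : List Job := [
  ⟨62, 0x6f17abe5fee172ba5dca4562d17ca0542c17484462513c8044241344426150bc4024140b41e0d058240e0501, 0, 288, 0x0, []⟩]

theorem t9_54_1 : jobs 8 S9 b8_54 j9_54_1 = true := by decide +kernel

noncomputable def j9_54_2 : List Job := [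
  ⟨61, 0x6c162b259ad16ab65bde0f27a3d9f0fa7e3fdc0e272399d0ea763bca4562d17ca0542c17484462513c8044241344426150bc4024140b41e0d058240e0501, 0, 288, 0x0, []⟩]

theorem t9_54_2 : jobs 8 S9 b8_54 j9_54_2 = true := by decide +kernel

noncomputable def j9_54_3 : List Job := [
  ⟨60, 0x6e976bc5eee172be5fde0f27a3d9f0fa7e3fdc0e272399d0ea763bca4562d17ca0542c17484462513c8044241344426150bc4024140b41e0d058240e0501, 0, 288, 0x0, []⟩]

theorem t9_54_3 : jobs 8 S9 b8_54 j9_54_3 = true := by decide +kernel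

noncomputable def j9_54_4 : List Job := [
  ⟨59, 0x6c966b45aec162b65bde0f27a3d9f0fa7e3fdc0e272399d0ea763bc4c2b120a4442f100b41e0d058240e0501, 0, 288, 0x0, []⟩]

theorem t9_54_4 : jobs 8 S9 b8_54 j9_54_4 = true := by decide +kernel

noncomputable def j9_54_5 : List Job := [
  ⟨58, 0x6e172ba5daf17abe5fde0f27a3d9f0fa7e3fdc0e272399d0ea763bc4c2f120b4442b100a41e0d058240e0501, 0, 288, 0x0, []⟩]

theorem t9_54_5 : jobs 8 S9 b8_54 j9_54_5 = true := by decide +kernel

noncomputable def j9_54_6 : List Job := [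
  ⟨57, 0x6d16ab65bec162b259c542f140b44427100941e0d058240e0501, 0, 288, 0x0, []⟩]

theorem t9_54_6 : jobs 8 S9 b8_54 j9_54_6 = true := by decide +kernel

noncomputable def j9_54_7 : List Job := [
  ⟨56, 0x6e172ba5daf17abe5fc4c2f120b4442b100a41e0d058240e0501, 0, 288, 0x0, []⟩]

theorem t9_54_7 : jobs 8 S9 b8_54 j9_54_7 = true := by decide +kernel

noncomputable def j9_54_8 : List Job := [
  ⟨55, 0x44426150bc4024140b41e0d058240e0501, 0, 160, 0x0, []⟩]

theorem t9_54_8 : jobs 8 S9 b8_54 j9_54_8 = true := by decide +kernel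

noncomputable def j9_54_9 : List Job := [
  ⟨54, 0x5e0f27a3d9f0fa7e3fdc0e272399d0ea763bc4426150bc4024140b41e0d058240e0501, 0, 288, 0x0, []⟩]

theorem t9_54_9 : jobs 8 S9 b8_54 j9_54_9 = true := by decide +kernel

noncomputable def j9_54_10 : List Job := [
  ⟨53, 0x6e172ba5daf17abe5fec162b259ad16ab65bde0f27a3d9f0fa7e3fdc0e272399d0ea763bc4426150bc4024140b41e0d058240e0501, 0, 160, 0x0, []⟩]

theorem t9_54_10 : jobs 8 S9 b8_54 j9_54_10 = true := by decide +kernel

noncomputable def j9_54_11 : List Job := [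
  ⟨52, 0x6e172ba5daf17abe5fec162b259ad16ab65bde0f27a3d9f0fa7e3fdc0e272399d0ea763bca4562d17ca0542c17484462513c8044241344426150bc4024140b41e0d058240e0501, 0, 160, 0x0, []⟩]

theorem t9_54_11 : jobs 8 S9 b8_54 j9_54_11 = true := by decide +kernel

noncomputable def j9_54_12 : List Job := [
  ⟨51, 0x6e172ba5daf17abe5fec162b259ad16ab65bca4562d17ca0542c17484462513c8044241344426150bc4024140b41e0d058240e0501, 0, 288, 0x0, []⟩]

theorem t9_54_12 : jobs 8 S9 b8_54 j9_54_12 = true := by decide +kernel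

noncomputable def j9_54_13 : List Job := [
  ⟨50, 0x4a4562d17ca0542c17484462513c8044241344426150bc4024140b41e0d058240e0501, 0, 160, 0x0, []⟩]

theorem t9_54_13 : jobs 8 S9 b8_54 j9_54_13 = true := by decide +kernel

noncomputable def j9_54_14 : List Job := [
  ⟨49, 0x5e0f27a3d9f0fa7e3fdc0e272399d0ea763bc4426150bc4024140b41e0d058240e0501, 0, 288, 0x0, []⟩]

theorem t9_54_14 : jobs 8 S9 b8_54 j9_54_14 = true := by decide +kernel

noncomputable def j9_54_15 : List Job := [
  ⟨48, 0x6e172ba5daf17abe5fec162b259ad16ab65bde0f27a3d9f0fa7e3fdc0e272399d0ea763bc4426150bc4024140b41e0d058240e0501, 0, 288, 0x0, []⟩]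

theorem t9_54_15 : jobs 8 S9 b8_54 j9_54_15 = true := by decide +kernel

noncomputable def j9_54_16 : List Job := [
  ⟨47, 0x44426150bc4024140b41e0d058240e0501, 0, 288, 0x0, []⟩]

theorem t9_54_16 : jobs 8 S9 b8_54 j9_54_16 = true := by decide +kernel

noncomputable def j9_54_17 : List Job := [
  ⟨46, 0x6e172ba5daf17abe5fec162b259ad16ab65bc4426150bc4024140b41e0d058240e0501, 0, 288, 0x0, []⟩]

theorem t9_54_17 : jobs 8 S9 b8_54 j9_54_17 = true := by decide +kernel

noncomputable def j9_54_18 : List Job := [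
  ⟨45, 0x6e172ba5daf17abe5fec162b259ad16ab65bca4562d17ca0542c17484462513c8044241344426150bc4024140b41e0d058240e0501, 0, 288, 0x0, []⟩]

theorem t9_54_18 : jobs 8 S9 b8_54 j9_54_18 = true := by decide +kernel

noncomputable def j9_54_19 : List Job := [
  ⟨44, 0x4a4562d17ca0542c17484462513c8044241344426150bc4024140b41e0d058240e0501, 0, 288, 0x0, []⟩]

theorem t9_54_19 : jobs 8 S9 b8_54 j9_54_19 = true := by decide +kernel

noncomputable def j9_54_20 : List Job := [
  ⟨43, 0x6e172ba5daf17abe5fec162b259ad16ab65bde0f27a3d9f0fa7e3fdc0e272399d0ea763bca4562d17ca0542c17484462513c8044241344426150bc4024140b41e0d058240e0501, 0, 288, 0x0, []⟩]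

theorem t9_54_20 : jobs 8 S9 b8_54 j9_54_20 = true := by decide +kernel

noncomputable def j9_54_21 : List Job := [
  ⟨42, 0x5e0f27a3d9f0fa7e3fdc0e272399d0ea763bca4562d17ca0542c17484462513c8044241344426150bc4024140b41e0d058240e0501, 0, 288, 0x0, []⟩]

theorem t9_54_21 : jobs 8 S9 b8_54 j9_54_21 = true := by decide +kernel

noncomputable def j9_54_22 : List Job := [
  ⟨41, 0x6e172ba5daf17abe5fec162b259ad16ab65bde0f27a3d9f0fa7e3fdc0e272399d0ea763bc4c2b120a4442f100b41e0d058240e0501, 0, 160, 0x0, []⟩]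

theorem t9_54_22 : jobs 8 S9 b8_54 j9_54_22 = true := by decide +kernel

noncomputable def j9_54_23 : List Job := [
  ⟨40, 0x6e172ba5daf17abe5fec162b259ad16ab65bc542f140b44427100941e0d058240e0501, 0, 288, 0x0, []⟩]

theorem t9_54_23 : jobs 8 S9 b8_54 j9_54_23 = true := by decide +kernel

noncomputable def j9_54_24 : List Job := [
  ⟨39, 0x44c2f120b4442b100a41e0d058240e0501, 0, 160, 0x0, []⟩]

theorem t9_54_24 : jobs 8 S9 b8_54 j9_54_24 = true := by decide +kernel

noncomputable def j9_54_25 : List Job := [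
  ⟨38, 0x6e172ba5daf17abe5fec162b259ad16ab65bdc4e4753b5c0e6743bc84462513c8044241344426150bc4024140b41e0d058240e0501, 0, 288, 0x0, []⟩]

theorem t9_54_25 : jobs 8 S9 b8_54 j9_54_25 = true := by decide +kernel

noncomputable def j9_54_26 : List Job := [
  ⟨37, 0x5c4e4743bdc0e6753b484462513c8044241344426150bc4024140b41e0d058240e0501, 0, 288, 0x0, []⟩]

theorem t9_54_26 : jobs 8 S9 b8_54 j9_54_26 = true := by decide +kernel

noncomputable def j9_54_27 : List Job := [
  ⟨36, 0x5e0f27a3d9f0fa7e3fc84462513c8044241344426150bc4024140b41e0d058240e0501, 0, 288, 0x0, []⟩]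

theorem t9_54_27 : jobs 8 S9 b8_54 j9_54_27 = true := by decide +kernel

noncomputable def j9_54_28 : List Job := [
  ⟨35, 0x6e172ba5daf17abe5fec162b259ad16ab65bde0f27a3d9f0fa7e3fc84462513c8044241344426150bc4024140b41e0d058240e0501, 0, 288, 0x0, []⟩]

theorem t9_54_28 : jobs 8 S9 b8_54 j9_54_28 = true := by decide +kernel

noncomputable def j9_54_29 : List Job := [
  ⟨34, 0x6e172ba5daf17abe5fec162b259ad16ab65bde0f27a3d9f0fa7e3fc84462513c8044241344426150bc4024140b41e0d058240e0501, 0, 288, 0x0, []⟩]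

theorem t9_54_29 : jobs 8 S9 b8_54 j9_54_29 = true := by decide +kernel

noncomputable def j9_54_30 : List Job := [
  ⟨33, 0x5e0f27a3d9f0fa7e3fc84462513c8044241344426150bc4024140b41e0d058240e0501, 0, 288, 0x0, []⟩]

theorem t9_54_30 : jobs 8 S9 b8_54 j9_54_30 = true := by decide +kernel

noncomputable def j9_54_31 : List Job := [
  ⟨32, 0x6c564b45bec166b55b5e0f27a3d9f0fa7e3fc84462513c8044241344426150bc4024140b41e0d058240e0501, 0, 512, 0x0, []⟩]

theorem t9_54_31 : jobs 8 S9 b8_54 j9_54_31 = true := by decide +kernel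

noncomputable def j9_54_32 : List Job := [
  ⟨31, 0x6e172ba5daf17abe5fde0f27a3d9f0fa7e3fc84462513c8044241344426150bc4024140b41e0d058240e0501, 0, 272, 0x0, []⟩]

theorem t9_54_32 : jobs 8 S9 b8_54 j9_54_32 = true := by decide +kernel

noncomputable def j9_54_33 : List Job := [
  ⟨30, 0x6c162b259ad16ab65bde0f27a3d9f0fa7e3fc84462513c8044241344426150bc4024140b42c1b0a064241f080741e0d058240e0501, 0, 272, 0x0, []⟩]

theorem t9_54_33 : jobs 8 S9 b8_54 j9_54_33 = true := by decide +kernel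

noncomputable def j9_54_34 : List Job := [
  ⟨29, 0x6e172ba5daf17abe5fde0f27a3d9f0fa7e3fc88462613c80422412c4826160bc4022140ac381f0c06c28170804c1e0d058240e0501, 0, 272, 0x0, []⟩]

theorem t9_54_34 : jobs 8 S9 b8_54 j9_54_34 = true := by decide +kernel

noncomputable def j9_54_35 : List Job := [
  ⟨28, 0x6e172ba5daf17abe5fde0f27a3d9f0fa7e3fc84462513c8044241344426150bc4024140b42c1b0a064241f080741e0d058240e0501, 0, 512, 0x0, []⟩]

theorem t9_54_35 : jobs 8 S9 b8_54 j9_54_35 = true := by decide +kernel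

noncomputable def j9_54_36 : List Job := [
  ⟨27, 0x6e172ba5daf17abe5fdc0e272399d0ea763bc88462613c80422412c4826160bc4022140ac381f0c06c28170804c1e0d058240e0501, 0, 512, 0x0, []⟩]

theorem t9_54_36 : jobs 8 S9 b8_54 j9_54_36 = true := by decide +kernel

noncomputable def j9_54_37 : List Job := [
  ⟨26, 0x6e172ba5daf17abe5fde0f27a3d9f0fa7e3fc88462613c80422412c4826160bc4022140ac2c1d0a07c24190806c1e0d058240e0501, 0, 160, 0x0, []⟩]

theorem t9_54_37 : jobs 8 S9 b8_54 j9_54_37 = true := by decide +kernel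

noncomputable def j9_54_38 : List Job := [
  ⟨25, 0x6e172ba5daf17abe5fde0f27a3d9f0fa7e3fdc0e272399d0ea763bc84462513c8044241344426150bc4024140b42c1b0a064241f080741e0d058240e0501, 260, 252, 0x0, []⟩]

theorem t9_54_38 : jobs 8 S9 b8_54 j9_54_38 = true := by decide +kernel

noncomputable def j9_54_39 : List Job := [
  ⟨25, 0x6e172ba5daf17abe5fde0f27a3d9f0fa7e3fdc0e272399d0ea763bc84462513c8044241344426150bc4024140b42c1b0a064241f080741e0d058240e0501, 0, 260, 0x0, []⟩]

theorem t9_54_39 : jobs 8 S9 b8_54 j9_54_39 = true := by decide +kernel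

noncomputable def j9_54_40 : List Job := [
  ⟨24, 0x6e172ba5daf17abe5fc88462613c80422412c4826160bc4022140ac381f0c06c28170804c1e0d058240e0501, 0, 512, 0x0, []⟩]

theorem t9_54_40 : jobs 8 S9 b8_54 j9_54_40 = true := by decide +kernel

noncomputable def j9_54_41 : List Job := [
  ⟨23, 0x6e172ba5daf17abe5fc84462513c8044241344426150bc4024140b42c1b0a064241f080741e0d058240e0501, 0, 512, 0x0, []⟩]

theorem t9_54_41 : jobs 8 S9 b8_54 j9_54_41 = true := by decide +kernel

noncomputable def j9_54_42 : List Job := [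
  ⟨22, 0x6e172ba5daf17abe5fde4f67c3f5e0f47d3fdc4e4753b5c0e6743bc88462613c80422412c4826160bc4022140ac381f0c06c28170804c1e0d058240e0501, 260, 252, 0x0, []⟩]

theorem t9_54_42 : jobs 8 S9 b8_54 j9_54_42 = true := by decide +kernel

noncomputable def j9_54_43 : List Job := [
  ⟨22, 0x6e172ba5daf17abe5fde4f67c3f5e0f47d3fdc4e4753b5c0e6743bc88462613c80422412c4826160bc4022140ac381f0c06c28170804c1e0d058240e0501, 0, 260, 0x0, []⟩]

theorem t9_54_43 : jobs 8 S9 b8_54 j9_54_43 = true := by decide +kernel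

noncomputable def j9_54_44 : List Job := [
  ⟨21, 0x6e172ba5daf17abe5fc88462613c80422412c4826160bc4022140ac2c1d0a07c24190806c1e0d058240e0501, 0, 288, 0x0, []⟩]

theorem t9_54_44 : jobs 8 S9 b8_54 j9_54_44 = true := by decide +kernel

noncomputable def j9_54_45 : List Job := [
  ⟨20, 0x6e172ba5daf17abe5fec162b259ad16ab65bde0f27a3d9f0fa7e3fdc0e272399d0ea763bc88462613c80422412c4826160bc4022140ac381f0c06c28170804c1e0d058240e0501, 0, 152, 0x0, []⟩]

theorem t9_54_45 : jobs 8 S9 b8_54 j9_54_45 = true := by decide +kernel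

noncomputable def j9_54_46 : List Job := [
  ⟨19, 0x6e172ba5daf17abe5fec162b259ad16ab65bc84462513c8044241344426150bc4024140b42c1b0a064241f080741e0d058240e0501, 0, 272, 0x0, []⟩]

theorem t9_54_46 : jobs 8 S9 b8_54 j9_54_46 = true := by decide +kernel

noncomputable def j9_54_47 : List Job := [
  ⟨18, 0x488462613c80422412c4826160bc4022140ac381f0c06c28170804c1e0d058240e0501, 0, 152, 0x0, []⟩]

theorem t9_54_47 : jobs 8 S9 b8_54 j9_54_47 = true := by decide +kernel

noncomputable def j9_54_48 : List Job := [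
  ⟨17, 0x6e172ba5daf17abe5fec162b259ad16ab65bc88462613c80422412c4826160bc4022140ac381f0c06c28170804c1e0d058240e0501, 0, 272, 0x0, []⟩]

theorem t9_54_48 : jobs 8 S9 b8_54 j9_54_48 = true := by decide +kernel

noncomputable def j9_54_49 : List Job := [
  ⟨16, 0x484462513c8044241344426150bc4024140b42c1b0a064241f080741e0d058240e0501, 0, 272, 0x0, []⟩]

theorem t9_54_49 : jobs 8 S9 b8_54 j9_54_49 = true := by decide +kernel

noncomputable def j9_54_50 : List Job := [
  ⟨15, 0x6e172ba5daf17abe5fec162b259ad16ab65bde4f47d3f5e0f67c3fdc4e6743b5c0e4753bc84462513c8044241344426150bc4024140b42c1b0a064241f080741e0d058240e0501, 0, 288, 0x0, []⟩]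

theorem t9_54_50 : jobs 8 S9 b8_54 j9_54_50 = true := by decide +kernel

noncomputable def j9_54_51 : List Job := [
  ⟨14, 0x5e4f47c3fde0f67d3f5c4e4753b5c0e6743bc88462613c80422412c4826160bc4022140ac381f0c06c28170804c1e0d058240e0501, 0, 288, 0x0, []⟩]

theorem t9_54_51 : jobs 8 S9 b8_54 j9_54_51 = true := by decide +kernel

noncomputable def j9_54_52 : List Job := [
  ⟨13, 0x488462613c80422412c4826160bc4022140ac2c1d0a07c24190806c1e0d058240e0501, 0, 160, 0x0, []⟩]

theorem t9_54_52 : jobs 8 S9 b8_54 j9_54_52 = true := by decide +kernel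

noncomputable def j9_54_53 : List Job := [
  ⟨12, 0x6e574bc5fee176bd5f6c162b259ad16ab65bc84462513c804424134341f0c0742417080541e0d058240e0501, 0, 512, 0x0, []⟩]

theorem t9_54_53 : jobs 8 S9 b8_54 j9_54_53 = true := by decide +kernel

noncomputable def j9_54_54 : List Job := [
  ⟨11, 0x6e172ba5daf17abe5fec966b45aec162b65bde0f27a3d9f0fa7e3fdc8e6743adc0e2763bc84462513c804424134341f0c0742417080541e0d058240e0501, 0, 272, 0x0, []⟩]

theorem t9_54_54 : jobs 8 S9 b8_54 j9_54_54 = true := by decide +kernel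

noncomputable def j9_54_55 : List Job := [
  ⟨10, 0x6e172ba5daf17abe5fed16ab65bec162b259c84462513c8044241342c1b0a064241f080741e0d058240e0501, 0, 512, 0x0, []⟩]

theorem t9_54_55 : jobs 8 S9 b8_54 j9_54_55 = true := by decide +kernel

noncomputable def j9_54_56 : List Job := [
  ⟨9, 0x484462513c804424134341f0c0742417080541e0d058240e0501, 0, 272, 0x0, []⟩]

theorem t9_54_56 : jobs 8 S9 b8_54 j9_54_56 = true := by decide +kernel

noncomputable def j9_54_57 : List Job := [
  ⟨8, 0x5e0f27a3d9f0fa7e3fdc4e4753b5c0e6743bc88462613c80422412c68361e0fc60321c0ec4826160bc4022140ac381f0c06c28170804c1e0d058240e0501, 260, 252, 0x0, []⟩]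

theorem t9_54_57 : jobs 8 S9 b8_54 j9_54_57 = true := by decide +kernel

noncomputable def j9_54_58 : List Job := [
  ⟨8, 0x5e0f27a3d9f0fa7e3fdc4e4753b5c0e6743bc88462613c80422412c68361e0fc60321c0ec4826160bc4022140ac381f0c06c28170804c1e0d058240e0501, 0, 260, 0x0, []⟩]

theorem t9_54_58 : jobs 8 S9 b8_54 j9_54_58 = true := by decide +kernel

noncomputable def j9_54_59 : List Job := [
  ⟨7, 0x6e172ba5daf17abe5fec564b45bec166b55b5e0f27a3d9f0fa7e3fc84462513c804424134341f0c0742417080541e0d058240e0501, 0, 512, 0x0, []⟩]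

theorem t9_54_59 : jobs 8 S9 b8_54 j9_54_59 = true := by decide +kernel

noncomputable def j9_54_60 : List Job := [
  ⟨6, 0x5e0f27a3d9f0fa7e3fc84462513c8044241342c1b0a064241f080741e0d058240e0501, 0, 512, 0x0, []⟩]

theorem t9_54_60 : jobs 8 S9 b8_54 j9_54_60 = true := by decide +kernel

noncomputable def j9_54_61 : List Job := [
  ⟨5, 0x6e172ba5daf17abe5fec566b45b6c164b55bdc0e272399d0ea763bc84462513c8044241342c1b0a064241f080741e0d058240e0501, 0, 512, 0x0, []⟩]

theorem t9_54_61 : jobs 8 S9 b8_54 j9_54_61 = true := by decide +kernel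

noncomputable def j9_54_62 : List Job := [
  ⟨4, 0x5c0e272399d0ea763bc84462513c804424134341f0c0742417080541e0d058240e0501, 0, 512, 0x0, []⟩]

theorem t9_54_62 : jobs 8 S9 b8_54 j9_54_62 = true := by decide +kernel

noncomputable def j9_54_63 : List Job := [
  ⟨3, 0x6e172ba5daf17abe5fec966b45aec162b65bdc0e272399d0ea763bc84462513c804424134341f0c0742417080541e0d058240e0501, 0, 512, 0x0, []⟩]

theorem t9_54_63 : jobs 8 S9 b8_54 j9_54_63 = true := by decide +kernel

noncomputable def j9_54_64 : List Job := [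
  ⟨2, 0x5c0e272399d0ea763bc84462513c8044241342c1b0a064241f080741e0d058240e0501, 0, 512, 0x0, []⟩]

theorem t9_54_64 : jobs 8 S9 b8_54 j9_54_64 = true := by decide +kernel

noncomputable def j9_54_65 : List Job := [
  ⟨1, 0x6e172ba5daf17abe5fed16ab65bec162b259de0f27a3d9f0fa7e3fc84462513c8044241342c1b0a064241f080741e0d058240e0501, 0, 512, 0x0, []⟩]

theorem t9_54_65 : jobs 8 S9 b8_54 j9_54_65 = true := by decide +kernel

noncomputable def j9_54_66 : List Job := [
  ⟨0, 0x5e0f27a3d9f0fa7e3fc84462513c804424134341f0c0742417080541e0d058240e0501, 0, 512, 0x0, []⟩]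

theorem t9_54_66 : jobs 8 S9 b8_54 j9_54_66 = true := by decide +kernel

theorem d9_54 : Dn 8 S9 b8_54 := dn_of (Js := j9_54_0 ++ (j9_54_1 ++ (j9_54_2 ++ (j9_54_3 ++ (j9_54_4 ++ (j9_54_5 ++ (j9_54_6 ++ (j9_54_7 ++ (j9_54_8 ++ (j9_54_9 ++ (j9_54_10 ++ (j9_54_11 ++ (j9_54_12 ++ (j9_54_13 ++ (j9_54_14 ++ (j9_54_15 ++ (j9_54_16 ++ (j9_54_17 ++ (j9_54_18 ++ (j9_54_19 ++ (j9_54_20 ++ (j9_54_21 ++ (j9_54_22 ++ (j9_54_23 ++ (j9_54_24 ++ (j9_54_25 ++ (j9_54_26 ++ (j9_54_27 ++ (j9_54_28 ++ (j9_54_29 ++ (j9_54_30 ++ (j9_54_31 ++ (j9_54_32 ++ (j9_54_33 ++ (j9_54_34 ++ (j9_54_35 ++ (j9_54_36 ++ (j9_54_37 ++ (j9_54_38 ++ (j9_54_39 ++ (j9_54_40 ++ (j9_54_41 ++ (j9_54_42 ++ (j9_54_43 ++ (j9_54_44 ++ (j9_54_45 ++ (j9_54_46 ++ (j9_54_47 ++ (j9_54_48 ++ (j9_54_49 ++ (j9_54_50 ++ (j9_54_51 ++ (j9_54_52 ++ (j9_54_53 ++ (j9_54_54 ++ (j9_54_55 ++ (j9_54_56 ++ (j9_54_57 ++ (j9_54_58 ++ (j9_54_59 ++ (j9_54_60 ++ (j9_54_61 ++ (j9_54_62 ++ (j9_54_63 ++ (j9_54_64 ++ (j9_54_65 ++ (j9_54_66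 ++ [])))))))))))))))))))))))))))))))))))))))))))))))))))))))))))))))))))
  (jobs_append t9_54_0 <| jobs_append t9_54_1 <| jobs_append t9_54_2 <| jobs_append t9_54_3 <| jobs_append t9_54_4 <| jobs_append t9_54_5 <| jobs_append t9_54_6 <| jobs_append t9_54_7 <| jobs_append t9_54_8 <| jobs_append t9_54_9 <| jobs_append t9_54_10 <| jobs_append t9_54_11 <| jobs_append t9_54_12 <| jobs_append t9_54_13 <| jobs_append t9_54_14 <| jobs_append t9_54_15 <| jobs_append t9_54_16 <| jobs_append t9_54_17 <| jobs_append t9_54_18 <| jobs_append t9_54_19 <| jobs_append t9_54_20 <| jobs_append t9_54_21 <| jobs_append t9_54_22 <| jobs_append t9_54_23 <| jobs_append t9_54_24 <| jobs_append t9_54_25 <| jobs_append t9_54_26 <| jobs_append t9_54_27 <| jobs_append t9_54_28 <| jobs_append t9_54_29 <| jobs_append t9_54_30 <| jobs_append t9_54_31 <| jobs_append t9_54_32 <| jobs_append t9_54_33 <| jobs_append t9_54_34 <| jobs_append t9_54_35 <| jobs_append t9_54_36 <| jobs_append t9_54_37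 <| jobs_append t9_54_38 <| jobs_append t9_54_39 <| jobs_append t9_54_40 <| jobs_append t9_54_41 <| jobs_append t9_54_42 <| jobs_append t9_54_43 <| jobs_append t9_54_44 <| jobs_append t9_54_45 <| jobs_append t9_54_46 <| jobs_append t9_54_47 <| jobs_append t9_54_48 <| jobs_append t9_54_49 <| jobs_append t9_54_50 <| jobs_append t9_54_51 <| jobs_append t9_54_52 <| jobs_append t9_54_53 <| jobs_append t9_54_54 <| jobs_append t9_54_55 <| jobs_append t9_54_56 <| jobs_append t9_54_57 <| jobs_append t9_54_58 <| jobs_append t9_54_59 <| jobs_append t9_54_60 <| jobs_append t9_54_61 <| jobs_append t9_54_62 <| jobs_append t9_54_63 <| jobs_append t9_54_64 <| jobs_append t9_54_65 <| jobs_append t9_54_66 <| List.forall_mem_nil _) (by decide +kernel)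

end Cfsg.Agent.FS.N.Sw
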