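import Cfsg.Agent.FS.N.Sw.Seg
import Cfsg.Agent.FS.N.G.S9
import Cfsg.Agent.FS.N.G.L.L03

/-! The filter on the pairs for the order 512, part 17 (generated; helper52, project FS) -/

set_option autoImplicit false
set_option maxRecDepth 100000
set_option Elab.async false

namespace Cfsg.Agent.FS.N.Sw

open G

noncomputable def j9_59_0 : List Job := [
  ⟨63, 0x6e172ba5daf17abe5fea152aa55ab15aae57e01028241a110a8643d20924a259309a4e27d08864623d00824422c64361d0fc60341c0f424160d07c20140c0741e0d058240e0501, 0, 512, 0x0, []⟩]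

theorem t9_59_0 : jobs 8 S9 b8_59 j9_59_0 = true := by decide +kernel

noncomputable def j9_59_1 : List Job := [
  ⟨62, 0x6e172ba5daf17abe5fea152aa55ab15aae57e4524944be4126954b520924a259309a4e27d108a4623d00824221c64361d0fc60341c0f424160d07c20140c0741e0d058240e0501, 230, 282, 0x0, []⟩]

theorem t9_59_1 : jobs 8 S9 b8_59 j9_59_1 = true := by decide +kernel

noncomputable def j9_59_2 : List Job := [
  ⟨62, 0x6e172ba5daf17abe5fea152aa55ab15aae57e4524944be4126954b520924a259309a4e27d108a4623d00824221c64361d0fc60341c0f424160d07c20140c0741e0d058240e0501, 0, 230, 0x0, []⟩]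

theorem t9_59_2 : jobs 8 S9 b8_59 j9_59_2 = true := by decide +kernel

noncomputable def j9_59_3 : List Job := [
  ⟨61, 0x609068643e01028442d20924a259309a4e27d08864623d00824422c64361d0fc60341c0f424160d07c20140c0741e0d058240e0501, 0, 512, 0x0, []⟩]

theorem t9_59_3 : jobs 8 S9 b8_59 j9_59_3 = true := by decide +kernel

noncomputable def j9_59_4 : List Job := [
  ⟨60, 0x6a152aa55ab15aae57e01028241a110a8643d20924a259309a4e27d04864523d0084442344826160bc4022140ac28160e07c20120c06c1e0d058240e0501, 0, 512, 0x0, []⟩]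

theorem t9_59_4 : jobs 8 S9 b8_59 j9_59_4 = true := by decide +kernel

noncomputable def j9_59_5 : List Job := [
  ⟨59, 0x641229249a512a964be05068543e01048443520924a259309a4e27d04864523d0084442344826160bc4022140ac28160e07c20120c06c1e0d058240e0501, 0, 272, 0x0, []⟩]

theorem t9_59_5 : jobs 8 S9 b8_59 j9_59_5 = true := by decide +kernel

noncomputable def j9_59_6 : List Job := [
  ⟨58, 0x641229249a512a964be01028241a110a8643dc0e272399d0ea763bc64361d0fc60341c0f424160d07c20140c0741e0d058240e0501, 0, 512, 0x0, []⟩]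

theorem t9_59_6 : jobs 8 S9 b8_59 j9_59_6 = true := by decide +kernel

noncomputable def j9_59_7 : List Job := [
  ⟨57, 0x641229249a512a964be01028241a110a8643de0f27a3d9f0fa7e3fd20924a259309a4e27d008242219108a4623c64361d0fc60341c0f424160d07c20140c0741e0d058240e0501, 0, 512, 0x0, []⟩]

theorem t9_59_7 : jobs 8 S9 b8_59 j9_59_7 = true := by decide +kernel

noncomputable def j9_59_8 : List Job := [
  ⟨56, 0x641229249a512a964be01028241a110a8643de0f27a3d9f0fa7e3fc64361d0fc60341c0f424160d07c20140c0741e0d058240e0501, 0, 512, 0x0, []⟩]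

theorem t9_59_8 : jobs 8 S9 b8_59 j9_59_8 = true := by decide +kernel

noncomputable def j9_59_9 : List Job := [
  ⟨55, 0x641229249a512a964be01028241a110a8643dc0e272399d0ea763bd24944c27d20964d27508864623d00824422c64361d0fc60341c0f424160d07c20140c0741e0d058240e0501, 240, 272, 0x0, []⟩]

theorem t9_59_9 : jobs 8 S9 b8_59 j9_59_9 = true := by decide +kernel

noncomputable def j9_59_10 : List Job := [
  ⟨55, 0x641229249a512a964be01028241a110a8643dc0e272399d0ea763bd24944c27d20964d27508864623d00824422c64361d0fc60341c0f424160d07c20140c0741e0d058240e0501, 0, 240, 0x0, []⟩]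

theorem t9_59_10 : jobs 8 S9 b8_59 j9_59_10 = true := by decide +kernel

noncomputable def j9_59_11 : List Job := [
  ⟨54, 0x6e976bc5eee172be5fe01028241a110a8643dc0e272399d0ea763bc64361d0fc60341c0f424160d07c20140c0741e0d058240e0501, 0, 512, 0x0, []⟩]

theorem t9_59_11 : jobs 8 S9 b8_59 j9_59_11 = true := by decide +kernel

noncomputable def j9_59_12 : List Job := [
  ⟨53, 0x6e976bc5eee172be5fe01028241a110a8643de0f27a3d9f0fa7e3fd20924a259309a4e27d008242219108a4623c64361d0fc60341c0f424160d07c20140c0741e0d058240e0501, 0, 512, 0x0, []⟩]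

theorem t9_59_12 : jobs 8 S9 b8_59 j9_59_12 = true := by decide +kernel

noncomputable def j9_59_13 : List Job := [
  ⟨52, 0x6e574bc5fee176bd5f601028241a110a8643de0f27a3d9f0fa7e3fc64361d0fc60341c0f424160d07c20140c0741e0d058240e0501, 0, 512, 0x0, []⟩]

theorem t9_59_13 : jobs 8 S9 b8_59 j9_59_13 = true := by decide +kernel

noncomputable def j9_59_14 : List Job := [
  ⟨51, 0x6e574bc5fee176bd5f601028241a110a8643dc0e272399d0ea763bd24944c27d20964d27508864623d00824422c64361d0fc60341c0f424160d07c20140c0741e0d058240e0501, 242, 270, 0x0, []⟩]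

theorem t9_59_14 : jobs 8 S9 b8_59 j9_59_14 = true := by decide +kernel

noncomputable def j9_59_15 : List Job := [
  ⟨51, 0x6e574bc5fee176bd5f601028241a110a8643dc0e272399d0ea763bd24944c27d20964d27508864623d00824422c64361d0fc60341c0f424160d07c20140c0741e0d058240e0501, 0, 242, 0x0, []⟩]

theorem t9_59_15 : jobs 8 S9 b8_59 j9_59_15 = true := by decide +kernel

noncomputable def j9_59_16 : List Job := [
  ⟨50, 0x6e172ba5daf17abe5fea152aa55ab15aae57e41229249a512a964bde0f27a3d9f0fa7e3fc64361d0fc60341c0f424160d07c20140c0741e0d058240e0501, 0, 512, 0x0, []⟩]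

theorem t9_59_16 : jobs 8 S9 b8_59 j9_59_16 = true := by decide +kernel

noncomputable def j9_59_17 : List Job := [
  ⟨49, 0x601028241a110a8643de0f27a3d9f0fa7e3fc64361d0fc60341c0f424160d07c20140c0741e0d058240e0501, 0, 512, 0x0, []⟩]

theorem t9_59_17 : jobs 8 S9 b8_59 j9_59_17 = true := by decide +kernel

noncomputable def j9_59_18 : List Job := [
  ⟨48, 0x6e172ba5daf17abe5fea152aa55ab15aae57e41229249a512a964bdc0e272399d0ea763bd20924a259309a4e27d008242219108a4623c64361d0fc60341c0f424160d07c20140c0741e0d058240e0501, 242, 270, 0x0, []⟩]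

theorem t9_59_18 : jobs 8 S9 b8_59 j9_59_18 = true := by decide +kernel

noncomputable def j9_59_19 : List Job := [
  ⟨48, 0x6e172ba5daf17abe5fea152aa55ab15aae57e41229249a512a964bdc0e272399d0ea763bd20924a259309a4e27d008242219108a4623c64361d0fc60341c0f424160d07c20140c0741e0d058240e0501, 0, 242, 0x0, []⟩]

theorem t9_59_19 : jobs 8 S9 b8_59 j9_59_19 = true := by decide +kernel

noncomputable def j9_59_20 : List Job := [
  ⟨47, 0x601028241a110a8643dc0e272399d0ea763bd20924a259309a4e27d008242219108a4623c64361d0fc60341c0f424160d07c20140c0741e0d058240e0501, 0, 512, 0x0, []⟩]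

theorem t9_59_20 : jobs 8 S9 b8_59 j9_59_20 = true := by decide +kernel

noncomputable def j9_59_21 : List Job := [
  ⟨46, 0x64524944be4126954b5e0f27a3d9f0fa7e3fc64361d0fc60341c0f424160d07c20140c0741e0d058240e0501, 0, 512, 0x0, []⟩]

theorem t9_59_21 : jobs 8 S9 b8_59 j9_59_21 = true := by decide +kernel

noncomputable def j9_59_22 : List Job := [
  ⟨45, 0x6e172ba5daf17abe5fea152aa55ab15aae57e110a8643e01028241de0f27a3d9f0fa7e3fc64361d0fc60341c0f424160d07c20140c0741e0d058240e0501, 0, 512, 0x0, []⟩]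

theorem t9_59_22 : jobs 8 S9 b8_59 j9_59_22 = true := by decide +kernel

noncomputable def j9_59_23 : List Job := [
  ⟨44, 0x64524944be4126954b5c0e272399d0ea763bd20924a259309a4e27d008242219108a4623c64361d0fc60341c0f424160d07c20140c0741e0d058240e0501, 0, 512, 0x0, []⟩]

theorem t9_59_23 : jobs 8 S9 b8_59 j9_59_23 = true := by decide +kernel

noncomputable def j9_59_24 : List Job := [
  ⟨43, 0x6e172ba5daf17abe5fea152aa55ab15aae57e09068643e01028442dc0e272399d0ea763bd20924a259309a4e27d008242219108a4623c64361d0fc60341c0f424160d07c20140c0741e0d058240e0501, 230, 282, 0x0, []⟩]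

theorem t9_59_24 : jobs 8 S9 b8_59 j9_59_24 = true := by decide +kernel

noncomputable def j9_59_25 : List Job := [
  ⟨43, 0x6e172ba5daf17abe5fea152aa55ab15aae57e09068643e01028442dc0e272399d0ea763bd20924a259309a4e27d008242219108a4623c64361d0fc60341c0f424160d07c20140c0741e0d058240e0501, 0, 230, 0x0, []⟩]

theorem t9_59_25 : jobs 8 S9 b8_59 j9_59_25 = true := by decide +kernel

noncomputable def j9_59_26 : List Job := [
  ⟨42, 0x6e172ba5daf17abe5fea152aa55ab15aae57e41229249a512a964bdc0e272399d0ea763bc64361d0fc60341c0f424160d07c20140c0741e0d058240e0501, 0, 512, 0x0, []⟩]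

theorem t9_59_26 : jobs 8 S9 b8_59 j9_59_26 = true := by decide +kernel

noncomputable def j9_59_27 : List Job := [
  ⟨41, 0x601028241a110a8643dc0e272399d0ea763bc64361d0fc60341c0f424160d07c20140c0741e0d058240e0501, 0, 512, 0x0, []⟩]

theorem t9_59_27 : jobs 8 S9 b8_59 j9_59_27 = true := by decide +kernel

noncomputable def j9_59_28 : List Job := [
  ⟨40, 0x6e172ba5daf17abe5fea152aa55ab15aae57e41229249a512a964bde0f27a3d9f0fa7e3fd24944c27d20964d275108a4623d00824221c64361d0fc60341c0f424160d07c20140c0741e0d058240e0501, 232, 280, 0x0, []⟩]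

theorem t9_59_28 : jobs 8 S9 b8_59 j9_59_28 = true := by decide +kernel

noncomputable def j9_59_29 : List Job := [
  ⟨40, 0x6e172ba5daf17abe5fea152aa55ab15aae57e41229249a512a964bde0f27a3d9f0fa7e3fd24944c27d20964d275108a4623d00824221c64361d0fc60341c0f424160d07c20140c0741e0d058240e0501, 0, 232, 0x0, []⟩]

theorem t9_59_29 : jobs 8 S9 b8_59 j9_59_29 = true := by decide +kernel

noncomputable def j9_59_30 : List Job := [
  ⟨39, 0x601028241a110a8643de0f27a3d9f0fa7e3fd24944c27d20964d27508864623d00824422c64361d0fc60341c0f424160d07c20140c0741e0d058240e0501, 0, 512, 0x0, []⟩]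

theorem t9_59_30 : jobs 8 S9 b8_59 j9_59_30 = true := by decide +kernel

noncomputable def j9_59_31 : List Job := [
  ⟨38, 0x6e172ba5daf17abe5fe01028241a110a8643de0f27a3d9f0fa7e3fc4426150bc4024140b424160d07c20140c0741e0d058240e0501, 0, 512, 0x0, []⟩]

theorem t9_59_31 : jobs 8 S9 b8_59 j9_59_31 = true := by decide +kernel

noncomputable def j9_59_32 : List Job := [
  ⟨37, 0x6e172ba5daf17abe5fe01028241a110a8643dc0e272399d0ea763bd20924a259309a4e27d008242219108a4623c4826160bc4022140ac28160e07c20120c06c1e0d058240e0501, 0, 512, 0x0, []⟩]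

theorem t9_59_32 : jobs 8 S9 b8_59 j9_59_32 = true := by decide +kernel

noncomputable def j9_59_33 : List Job := [
  ⟨36, 0x6e172ba5daf17abe5fe01028241a110a8643dc0e272399d0ea763bc4426150bc4024140b424160d07c20140c0741e0d058240e0501, 0, 512, 0x0, []⟩]

theorem t9_59_33 : jobs 8 S9 b8_59 j9_59_33 = true := by decide +kernel

noncomputable def j9_59_34 : List Job := [
  ⟨35, 0x6e172ba5daf17abe5fe01028241a110a8643de0f27a3d9f0fa7e3fd24944c27d20964d27504864523d0084442344826160bc4022140ac28160e07c20120c06c1e0d058240e0501, 240, 272, 0x0, []⟩]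

theorem t9_59_34 : jobs 8 S9 b8_59 j9_59_34 = true := by decide +kernel

noncomputable def j9_59_35 : List Job := [
  ⟨35, 0x6e172ba5daf17abe5fe01028241a110a8643de0f27a3d9f0fa7e3fd24944c27d20964d27504864523d0084442344826160bc4022140ac28160e07c20120c06c1e0d058240e0501, 0, 240, 0x0, []⟩]

theorem t9_59_35 : jobs 8 S9 b8_59 j9_59_35 = true := by decide +kernel

noncomputable def j9_59_36 : List Job := [
  ⟨34, 0x64524944be4126954b601028241a110a8643de0f27a3d9f0fa7e3fc4426150bc4024140b424160d07c20140c0741e0d058240e0501, 0, 512, 0x0, []⟩]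

theorem t9_59_36 : jobs 8 S9 b8_59 j9_59_36 = true := by decide +kernel

noncomputable def j9_59_37 : List Job := [
  ⟨33, 0x64524944be4126954b601028241a110a8643dc0e272399d0ea763bd20924a259309a4e27d008242219108a4623c4826160bc4022140ac28160e07c20120c06c1e0d058240e0501, 0, 512, 0x0, []⟩]

theorem t9_59_37 : jobs 8 S9 b8_59 j9_59_37 = true := by decide +kernel

noncomputable def j9_59_38 : List Job := [
  ⟨32, 0x64524944be4126954b601028241a110a8643dc0e272399d0ea763bc4426150bc4024140b424160d07c20140c0741e0d058240e0501, 0, 512, 0x0, []⟩]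

theorem t9_59_38 : jobs 8 S9 b8_59 j9_59_38 = true := by decide +kernel

noncomputable def j9_59_39 : List Job := [
  ⟨31, 0x64524944be4126954b601028241a110a8643de0f27a3d9f0fa7e3fd24944c27d20964d27504864523d0084442344826160bc4022140ac28160e07c20120c06c1e0d058240e0501, 239, 273, 0x0, []⟩]

theorem t9_59_39 : jobs 8 S9 b8_59 j9_59_39 = true := by decide +kernel

noncomputable def j9_59_40 : List Job := [
  ⟨31, 0x64524944be4126954b601028241a110a8643de0f27a3d9f0fa7e3fd24944c27d20964d27504864523d0084442344826160bc4022140ac28160e07c20120c06c1e0d058240e0501, 0, 239, 0x0, []⟩]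

theorem t9_59_40 : jobs 8 S9 b8_59 j9_59_40 = true := by decide +kernel

noncomputable def j9_59_41 : List Job := [
  ⟨30, 0x6a152aa55ab15aae57dc0e272399d0ea763bc4426150bc4024140b424160d07c20140c0741e0d058240e0501, 0, 272, 0x0, []⟩]

theorem t9_59_41 : jobs 8 S9 b8_59 j9_59_41 = true := by decide +kernel

noncomputable def j9_59_42 : List Job := [
  ⟨29, 0x6a152aa55ab15aae57de0f27a3d9f0fa7e3fd20924a259309a4e27d008242219108a4623c4426150bc4024140b424160d07c20140c0741e0d058240e0501, 0, 512, 0x0, []⟩]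

theorem t9_59_42 : jobs 8 S9 b8_59 j9_59_42 = true := by decide +kernel

noncomputable def j9_59_43 : List Job := [
  ⟨28, 0x6e172ba5daf17abe5fe41229249a512a964be01028241a110a8643de0f27a3d9f0fa7e3fd20924a259309a4e27d008242219108a4623c4826160bc4022140ac28160e07c20120c06c1e0d058240e0501, 0, 272, 0x0, []⟩]

theorem t9_59_43 : jobs 8 S9 b8_59 j9_59_43 = true := by decide +kernel

noncomputable def j9_59_44 : List Job := [
  ⟨27, 0x6a152aa55ab15aae57de0f27a3d9f0fa7e3fc4426150bc4024140b424160d07c20140c0741e0d058240e0501, 0, 512, 0x0, []⟩]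

theorem t9_59_44 : jobs 8 S9 b8_59 j9_59_44 = true := by decide +kernel

noncomputable def j9_59_45 : List Job := [
  ⟨26, 0x6e172ba5daf17abe5fe41229249a512a964be01028241a110a8643de0f27a3d9f0fa7e3fc4426150bc4024140b424160d07c20140c0741e0d058240e0501, 0, 512, 0x0, []⟩]

theorem t9_59_45 : jobs 8 S9 b8_59 j9_59_45 = true := by decide +kernel

noncomputable def j9_59_46 : List Job := [
  ⟨25, 0x6a152aa55ab15aae57dc0e272399d0ea763bd24944c27d20964d275108a4623d00824221c4426150bc4024140b424160d07c20140c0741e0d058240e0501, 0, 512, 0x0, []⟩]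

theorem t9_59_46 : jobs 8 S9 b8_59 j9_59_46 = true := by decide +kernel

noncomputable def j9_59_47 : List Job := [
  ⟨24, 0x6e172ba5daf17abe5fe41229249a512a964be01028241a110a8643dc0e272399d0ea763bd24944c27d20964d27504864523d0084442344826160bc4022140ac28160e07c20120c06c1e0d058240e0501, 242, 270, 0x0, []⟩]

theorem t9_59_47 : jobs 8 S9 b8_59 j9_59_47 = true := by decide +kernel

noncomputable def j9_59_48 : List Job := [
  ⟨24, 0x6e172ba5daf17abe5fe41229249a512a964be01028241a110a8643dc0e272399d0ea763bd24944c27d20964d27504864523d0084442344826160bc4022140ac28160e07c20120c06c1e0d058240e0501, 0, 242, 0x0, []⟩]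

theorem t9_59_48 : jobs 8 S9 b8_59 j9_59_48 = true := by decide +kernel

noncomputable def j9_59_49 : List Job := [
  ⟨23, 0x6e576bc5f6e174bd5fdc0e272399d0ea763bc24160d07c20140c0741e0d058240e0501, 0, 512, 0x0, []⟩]

theorem t9_59_49 : jobs 8 S9 b8_59 j9_59_49 = true := by decide +kernel

noncomputable def j9_59_50 : List Job := [
  ⟨22, 0x6a152aa55ab15aae57e41229249a512a964be01028241a110a8643dc0e272399d0ea763bc24160d07c20140c0741e0d058240e0501, 0, 512, 0x0, []⟩]

theorem t9_59_50 : jobs 8 S9 b8_59 j9_59_50 = true := by decide +kernel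

noncomputable def j9_59_51 : List Job := [
  ⟨21, 0x6e576bc5f6e174bd5fde0f27a3d9f0fa7e3fd20924a259309a4e27d08864422d00824623c24160d07c20140c0741e0d058240e0501, 0, 512, 0x0, []⟩]

theorem t9_59_51 : jobs 8 S9 b8_59 j9_59_51 = true := by decide +kernel

noncomputable def j9_59_52 : List Job := [
  ⟨20, 0x6a152aa55ab15aae57e41229249a512a964be01028241a110a8643de0f27a3d9f0fa7e3fd20924a259309a4e27d08864422d00824623c24160d07c20140c0741e0d058240e0501, 0, 512, 0x0, []⟩]

theorem t9_59_52 : jobs 8 S9 b8_59 j9_59_52 = true := by decide +kernel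

noncomputable def j9_59_53 : List Job := [
  ⟨19, 0x6a152aa55ab15aae57de0f27a3d9f0fa7e3fc24160d07c20140c0741e0d058240e0501, 0, 512, 0x0, []⟩]

theorem t9_59_53 : jobs 8 S9 b8_59 j9_59_53 = true := by decide +kernel

noncomputable def j9_59_54 : List Job := [
  ⟨18, 0x6e574bc5fee176bd5f641229249a512a964be01028241a110a8643de0f27a3d9f0fa7e3fc24160d07c20140c0741e0d058240e0501, 0, 512, 0x0, []⟩]

theorem t9_59_54 : jobs 8 S9 b8_59 j9_59_54 = true := by decide +kernel

noncomputable def j9_59_55 : List Job := [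
  ⟨17, 0x6a152aa55ab15aae57dc0e272399d0ea763bd20924a259309a4e27d108a4623d00824221c24160d07c20140c0741e0d058240e0501, 0, 512, 0x0, []⟩]

theorem t9_59_55 : jobs 8 S9 b8_59 j9_59_55 = true := by decide +kernel

noncomputable def j9_59_56 : List Job := [
  ⟨16, 0x6e574bc5fee176bd5f641229249a512a964be01028241a110a8643dc0e272399d0ea763bd20924a259309a4e27d08864623d00824422c24160d07c20140c0741e0d058240e0501, 0, 512, 0x0, []⟩]

theorem t9_59_56 : jobs 8 S9 b8_59 j9_59_56 = true := by decide +kernel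

noncomputable def j9_59_57 : List Job := [
  ⟨15, 0x641229249a512a964bdc0e272399d0ea763bc24160d07c20140c0741e0d058240e0501, 0, 512, 0x0, []⟩]

theorem t9_59_57 : jobs 8 S9 b8_59 j9_59_57 = true := by decide +kernel

noncomputable def j9_59_58 : List Job := [
  ⟨14, 0x6e172ba5daf17abe5fea152aa55ab15aae57e09068442e01028643dc0e272399d0ea763bc24160d07c20140c0741e0d058240e0501, 0, 512, 0x0, []⟩]

theorem t9_59_58 : jobs 8 S9 b8_59 j9_59_58 = true := by decide +kernel

noncomputable def j9_59_59 : List Job := [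
  ⟨13, 0x641229249a512a964bde0f27a3d9f0fa7e3fd20924a259309a4e27d08864422d00824623c24160d07c20140c0741e0d058240e0501, 0, 512, 0x0, []⟩]

theorem t9_59_59 : jobs 8 S9 b8_59 j9_59_59 = true := by decide +kernel

noncomputable def j9_59_60 : List Job := [
  ⟨12, 0x6e172ba5daf17abe5fea152aa55ab15aae57e09068442e01028643de0f27a3d9f0fa7e3fd20924a259309a4e27d08864422d00824623c24160d07c20140c0741e0d058240e0501, 0, 512, 0x0, []⟩]

theorem t9_59_60 : jobs 8 S9 b8_59 j9_59_60 = true := by decide +kernel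

noncomputable def j9_59_61 : List Job := [
  ⟨11, 0x6e172ba5daf17abe5fea152aa55ab15aae57e41229249a512a964bde0f27a3d9f0fa7e3fc24160d07c20140c0741e0d058240e0501, 0, 512, 0x0, []⟩]

theorem t9_59_61 : jobs 8 S9 b8_59 j9_59_61 = true := by decide +kernel

noncomputable def j9_59_62 : List Job := [
  ⟨10, 0x6110a8643e01028241de0f27a3d9f0fa7e3fc24160d07c20140c0741e0d058240e0501, 0, 512, 0x0, []⟩]

theorem t9_59_62 : jobs 8 S9 b8_59 j9_59_62 = true := by decide +kernel

noncomputable def j9_59_63 : List Job := [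
  ⟨9, 0x6e172ba5daf17abe5fea152aa55ab15aae57e41229249a512a964bdc0e272399d0ea763bd20924a259309a4e27d108a4623d00824221c24160d07c20140c0741e0d058240e0501, 0, 512, 0x0, []⟩]

theorem t9_59_63 : jobs 8 S9 b8_59 j9_59_63 = true := by decide +kernel

noncomputable def j9_59_64 : List Job := [
  ⟨8, 0x609068643e01028442dc0e272399d0ea763bd20924a259309a4e27d08864623d00824422c24160d07c20140c0741e0d058240e0501, 0, 512, 0x0, []⟩]

theorem t9_59_64 : jobs 8 S9 b8_59 j9_59_64 = true := by decide +kernel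

noncomputable def j9_59_65 : List Job := [
  ⟨7, 0x6e576bc5f6e174bd5fe01028241a110a8643de0f27a3d9f0fa7e3fc24160d07c20140c0741e0d058240e0501, 0, 512, 0x0, []⟩]

theorem t9_59_65 : jobs 8 S9 b8_59 j9_59_65 = true := by decide +kernel

noncomputable def j9_59_66 : List Job := [
  ⟨6, 0x6e574bd5f6e176bc5fe01028241a110a8643dc0e272399d0ea763bd20924a259309a4e27d08864422d00824623c24160d07c20140c0741e0d058240e0501, 0, 512, 0x0, []⟩]

theorem t9_59_66 : jobs 8 S9 b8_59 j9_59_66 = true := by decide +kernel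

noncomputable def j9_59_67 : List Job := [
  ⟨5, 0x6a152aa55ab15aae57e09068442e01028643de0f27a3d9f0fa7e3fc24160d07c20140c0741e0d058240e0501, 0, 512, 0x0, []⟩]

theorem t9_59_67 : jobs 8 S9 b8_59 j9_59_67 = true := by decide +kernel

noncomputable def j9_59_68 : List Job := [
  ⟨4, 0x6a152aa55ab15aae57e09068442e01028643dc0e272399d0ea763bd20924a259309a4e27d08864422d00824623c24160d07c20140c0741e0d058240e0501, 0, 512, 0x0, []⟩]

theorem t9_59_68 : jobs 8 S9 b8_59 j9_59_68 = true := by decide +kernel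

noncomputable def j9_59_69 : List Job := [
  ⟨3, 0x6a956ac56ea152ae57e01028241a110a8643dc0e272399d0ea763bc24160d07c20140c0741e0d058240e0501, 0, 512, 0x0, []⟩]

theorem t9_59_69 : jobs 8 S9 b8_59 j9_59_69 = true := by decide +kernel

noncomputable def j9_59_70 : List Job := [
  ⟨2, 0x6a956ac56ea152ae57e01028241a110a8643de0f27a3d9f0fa7e3fd20924a259309a4e27d08864623d00824422c24160d07c20140c0741e0d058240e0501, 0, 512, 0x0, []⟩]

theorem t9_59_70 : jobs 8 S9 b8_59 j9_59_70 = true := by decide +kernel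

noncomputable def j9_59_71 : List Job := [
  ⟨1, 0x6e172ba5daf17abe5fe110a8643e01028241dc0e272399d0ea763bc24160d07c20140c0741e0d058240e0501, 0, 512, 0x0, []⟩]

theorem t9_59_71 : jobs 8 S9 b8_59 j9_59_71 = true := by decide +kernel

noncomputable def j9_59_72 : List Job := [
  ⟨0, 0x6e172ba5daf17abe5fe09068643e01028442de0f27a3d9f0fa7e3fd20924a259309a4e27d08864623d00824422c24160d07c20140c0741e0d058240e0501, 0, 512, 0x0, []⟩]

theorem t9_59_72 : jobs 8 S9 b8_59 j9_59_72 = true := by decide +kernel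

theorem d9_59 : Dn 8 S9 b8_59 := dn_of (Js := j9_59_0 ++ (j9_59_1 ++ (j9_59_2 ++ (j9_59_3 ++ (j9_59_4 ++ (j9_59_5 ++ (j9_59_6 ++ (j9_59_7 ++ (j9_59_8 ++ (j9_59_9 ++ (j9_59_10 ++ (j9_59_11 ++ (j9_59_12 ++ (j9_59_13 ++ (j9_59_14 ++ (j9_59_15 ++ (j9_59_16 ++ (j9_59_17 ++ (j9_59_18 ++ (j9_59_19 ++ (j9_59_20 ++ (j9_59_21 ++ (j9_59_22 ++ (j9_59_23 ++ (j9_59_24 ++ (j9_59_25 ++ (j9_59_26 ++ (j9_59_27 ++ (j9_59_28 ++ (j9_59_29 ++ (j9_59_30 ++ (j9_59_31 ++ (j9_59_32 ++ (j9_59_33 ++ (j9_59_34 ++ (j9_59_35 ++ (j9_59_36 ++ (j9_59_37 ++ (j9_59_38 ++ (j9_59_39 ++ (j9_59_40 ++ (j9_59_41 ++ (j9_59_42 ++ (j9_59_43 ++ (j9_59_44 ++ (j9_59_45 ++ (j9_59_46 ++ (j9_59_47 ++ (j9_59_48 ++ (j9_59_49 ++ (j9_59_50 ++ (j9_59_51 ++ (j9_59_52 ++ (j9_59_53 ++ (j9_59_54 ++ (j9_59_55 ++ (j9_59_56 ++ (j9_59_57 ++ (j9_59_58 ++ (j9_59_59 ++ (j9_59_60 ++ (j9_59_61 ++ (j9_59_62 ++ (j9_59_63 ++ (j9_59_64 ++ (j9_59_65 ++ (j9_59_66 ++ (j9_59_67 ++ (j9_59_68 ++ (j9_59_69 ++ (j9_59_70 ++ (j9_59_71 ++ (j9_59_72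 ++ [])))))))))))))))))))))))))))))))))))))))))))))))))))))))))))))))))))))))))
  (jobs_append t9_59_0 <| jobs_append t9_59_1 <| jobs_append t9_59_2 <| jobs_append t9_59_3 <| jobs_append t9_59_4 <| jobs_append t9_59_5 <| jobs_append t9_59_6 <| jobs_append t9_59_7 <| jobs_append t9_59_8 <| jobs_append t9_59_9 <| jobs_append t9_59_10 <| jobs_append t9_59_11 <| jobs_append t9_59_12 <| jobs_append t9_59_13 <| jobs_append t9_59_14 <| jobs_append t9_59_15 <| jobs_append t9_59_16 <| jobs_append t9_59_17 <| jobs_append t9_59_18 <| jobs_append t9_59_19 <| jobs_append t9_59_20 <| jobs_append t9_59_21 <| jobs_append t9_59_22 <| jobs_append t9_59_23 <| jobs_append t9_59_24 <| jobs_append t9_59_25 <| jobs_append t9_59_26 <| jobs_append t9_59_27 <| jobs_append t9_59_28 <| jobs_append t9_59_29 <| jobs_append t9_59_30 <| jobs_append t9_59_31 <| jobs_append t9_59_32 <| jobs_append t9_59_33 <| jobs_append t9_59_34 <| jobs_append t9_59_35 <| jobs_append t9_59_36 <| jobs_append t9_59_37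 <| jobs_append t9_59_38 <| jobs_append t9_59_39 <| jobs_append t9_59_40 <| jobs_append t9_59_41 <| jobs_append t9_59_42 <| jobs_append t9_59_43 <| jobs_append t9_59_44 <| jobs_append t9_59_45 <| jobs_append t9_59_46 <| jobs_append t9_59_47 <| jobs_append t9_59_48 <| jobs_append t9_59_49 <| jobs_append t9_59_50 <| jobs_append t9_59_51 <| jobs_append t9_59_52 <| jobs_append t9_59_53 <| jobs_append t9_59_54 <| jobs_append t9_59_55 <| jobs_append t9_59_56 <| jobs_append t9_59_57 <| jobs_append t9_59_58 <| jobs_append t9_59_59 <| jobs_append t9_59_60 <| jobs_append t9_59_61 <| jobs_append t9_59_62 <| jobs_append t9_59_63 <| jobs_append t9_59_64 <| jobs_append t9_59_65 <| jobs_append t9_59_66 <| jobs_append t9_59_67 <| jobs_append t9_59_68 <| jobs_append t9_59_69 <| jobs_append t9_59_70 <| jobs_append t9_59_71 <| jobs_append t9_59_72 <| List.forall_mem_nil _) (by decide +kernel)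

end Cfsg.Agent.FS.N.Sw
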