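import Cfsg.Agent.FS.N.Sw.Seg
import Cfsg.Agent.FS.N.G.S9
import Cfsg.Agent.FS.N.G.L.L03

/-! The filter on the pairs for the order 512, part 22 (generated; helper52, project FS) -/

set_option autoImplicit false
set_option maxRecDepth 100000
set_option Elab.async false

namespace Cfsg.Agent.FS.N.Sw

open G

noncomputable def j9_64_0 : List Job := [
  ⟨63, 0x641229249a512a964be01028241a110a8643c84462513c80442413424160d07c20140c0741e0d058240e0501, 0, 512, 0x0, []⟩]

theorem t9_64_0 : jobs 8 S9 b8_64 j9_64_0 = true := by decide +kernel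

noncomputable def j9_64_1 : List Job := [
  ⟨62, 0x6e172ba5daf17abe5fe8142a251a914aa653de0f27a3d9f0fa7e3fdc8e6743adc0e2763bc84462513c80442413424160d07c20140c0741e0d058240e0501, 0, 512, 0x0, []⟩]

theorem t9_64_1 : jobs 8 S9 b8_64 j9_64_1 = true := by decide +kernel

noncomputable def j9_64_2 : List Job := [
  ⟨61, 0x641229249a512a964be01028241a110a8643de0f27a3d9f0fa7e3fdc8e6743adc0e2763bc84462513c80442413424160d07c20140c0741e0d058240e0501, 0, 512, 0x0, []⟩]

theorem t9_64_2 : jobs 8 S9 b8_64 j9_64_2 = true := by decide +kernel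

noncomputable def j9_64_3 : List Job := [
  ⟨60, 0x484462513c80442413424160d07c20140c0741e0d058240e0501, 0, 512, 0x0, []⟩]

theorem t9_64_3 : jobs 8 S9 b8_64 j9_64_3 = true := by decide +kernel

noncomputable def j9_64_4 : List Job := [
  ⟨59, 0x6e172ba5daf17abe5fe8142a251a914aa653e41229249a512a964be01028241a110a8643c84462513c80442413424160d07c20140c0741e0d058240e0501, 0, 512, 0x0, []⟩]

theorem t9_64_4 : jobs 8 S9 b8_64 j9_64_4 = true := by decide +kernel

noncomputable def j9_64_5 : List Job := [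
  ⟨58, 0x5e0f27a3d9f0fa7e3fdc4e4743bdc0e6753b484462513c80442413424160d07c20140c0741e0d058240e0501, 0, 512, 0x0, []⟩]

theorem t9_64_5 : jobs 8 S9 b8_64 j9_64_5 = true := by decide +kernel

noncomputable def j9_64_6 : List Job := [
  ⟨57, 0x6e172ba5daf17abe5fe8142a251a914aa653e41229249a512a964be01028241a110a8643de0f27a3d9f0fa7e3fdc4e4743bdc0e6753b484462513c80442413424160d07c20140c0741e0d058240e0501, 242, 270, 0x0, []⟩]

theorem t9_64_6 : jobs 8 S9 b8_64 j9_64_6 = true := by decide +kernel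

noncomputable def j9_64_7 : List Job := [
  ⟨57, 0x6e172ba5daf17abe5fe8142a251a914aa653e41229249a512a964be01028241a110a8643de0f27a3d9f0fa7e3fdc4e4743bdc0e6753b484462513c80442413424160d07c20140c0741e0d058240e0501, 0, 242, 0x0, []⟩]

theorem t9_64_7 : jobs 8 S9 b8_64 j9_64_7 = true := by decide +kernel

noncomputable def j9_64_8 : List Job := [
  ⟨56, 0x68142a251a914aa653e4926944ae4122964bc84462513c80442413424160d07c20140c0741e0d058240e0501, 0, 512, 0x0, []⟩]

theorem t9_64_8 : jobs 8 S9 b8_64 j9_64_8 = true := by decide +kernel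

noncomputable def j9_64_9 : List Job := [
  ⟨55, 0x6e574bd5f6e176bc5fe01028241a110a8643c84462513c80442413424160d07c20140c0741e0d058240e0501, 0, 512, 0x0, []⟩]

theorem t9_64_9 : jobs 8 S9 b8_64 j9_64_9 = true := by decide +kernel

noncomputable def j9_64_10 : List Job := [
  ⟨54, 0x68142a251a914aa653e512a964be41229249de0f27a3d9f0fa7e3fdc4e4743bdc0e6753b484462513c80442413424160d07c20140c0741e0d058240e0501, 0, 512, 0x0, []⟩]

theorem t9_64_10 : jobs 8 S9 b8_64 j9_64_10 = true := by decide +kernel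

noncomputable def j9_64_11 : List Job := [
  ⟨53, 0x6e574bc5fee176bd5f601028241a110a8643de0f27a3d9f0fa7e3fdc4e4743bdc0e6753b484462513c80442413424160d07c20140c0741e0d058240e0501, 0, 512, 0x0, []⟩]

theorem t9_64_11 : jobs 8 S9 b8_64 j9_64_11 = true := by decide +kernel

noncomputable def j9_64_12 : List Job := [
  ⟨52, 0x6e172ba5daf17abe5fe41229249a512a964bc84462513c80442413424160d07c20140c0741e0d058240e0501, 0, 512, 0x0, []⟩]

theorem t9_64_12 : jobs 8 S9 b8_64 j9_64_12 = true := by decide +kernel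

noncomputable def j9_64_13 : List Job := [
  ⟨51, 0x68946a653e8142a452e09068442e01028643c84462513c80442413424160d07c20140c0741e0d058240e0501, 0, 512, 0x0, []⟩]

theorem t9_64_13 : jobs 8 S9 b8_64 j9_64_13 = true := by decide +kernel

noncomputable def j9_64_14 : List Job := [
  ⟨50, 0x6e172ba5daf17abe5fe41229249a512a964bde0f27a3d9f0fa7e3fdc8e6743adc0e2763bc84462513c80442413424160d07c20140c0741e0d058240e0501, 0, 512, 0x0, []⟩]

theorem t9_64_14 : jobs 8 S9 b8_64 j9_64_14 = true := by decide +kernel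

noncomputable def j9_64_15 : List Job := [
  ⟨49, 0x68946a452e8142a653e09068643e01028442de0f27a3d9f0fa7e3fdc8e6743adc0e2763bc84462513c80442413424160d07c20140c0741e0d058240e0501, 227, 285, 0x0, []⟩]

theorem t9_64_15 : jobs 8 S9 b8_64 j9_64_15 = true := by decide +kernel

noncomputable def j9_64_16 : List Job := [
  ⟨49, 0x68946a452e8142a653e09068643e01028442de0f27a3d9f0fa7e3fdc8e6743adc0e2763bc84462513c80442413424160d07c20140c0741e0d058240e0501, 0, 227, 0x0, []⟩]

theorem t9_64_16 : jobs 8 S9 b8_64 j9_64_16 = true := by decide +kernel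

noncomputable def j9_64_17 : List Job := [
  ⟨48, 0x68142a251a914aa653de0f27a3d9f0fa7e3fdc8e6743adc0e2763bc84462513c80442413424160d07c20140c0741e0d058240e0501, 0, 512, 0x0, []⟩]

theorem t9_64_17 : jobs 8 S9 b8_64 j9_64_17 = true := by decide +kernel

noncomputable def j9_64_18 : List Job := [
  ⟨47, 0x6e172ba5daf17abe5fe41229249a512a964be01028241a110a8643de0f27a3d9f0fa7e3fdc8e6743adc0e2763bc84462513c80442413424160d07c20140c0741e0d058240e0501, 0, 512, 0x0, []⟩]

theorem t9_64_18 : jobs 8 S9 b8_64 j9_64_18 = true := by decide +kernel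

noncomputable def j9_64_19 : List Job := [
  ⟨46, 0x68142a251a914aa653c84462513c80442413424160d07c20140c0741e0d058240e0501, 0, 512, 0x0, []⟩]

theorem t9_64_19 : jobs 8 S9 b8_64 j9_64_19 = true := by decide +kernel

noncomputable def j9_64_20 : List Job := [
  ⟨45, 0x6e172ba5daf17abe5fe41229249a512a964be01028241a110a8643c84462513c80442413424160d07c20140c0741e0d058240e0501, 0, 512, 0x0, []⟩]

theorem t9_64_20 : jobs 8 S9 b8_64 j9_64_20 = true := by decide +kernel

noncomputable def j9_64_21 : List Job := [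
  ⟨44, 0x6e576bc5f6e174bd5fde0f27a3d9f0fa7e3fdc4e4743bdc0e6753b484462513c80442413424160d07c20140c0741e0d058240e0501, 0, 512, 0x0, []⟩]

theorem t9_64_21 : jobs 8 S9 b8_64 j9_64_21 = true := by decide +kernel

noncomputable def j9_64_22 : List Job := [
  ⟨43, 0x68946a653e8142a452e41229249a512a964be01028241a110a8643de0f27a3d9f0fa7e3fdc4e4743bdc0e6753b484462513c80442413424160d07c20140c0741e0d058240e0501, 241, 271, 0x0, []⟩]

theorem t9_64_22 : jobs 8 S9 b8_64 j9_64_22 = true := by decide +kernel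

noncomputable def j9_64_23 : List Job := [
  ⟨43, 0x68946a653e8142a452e41229249a512a964be01028241a110a8643de0f27a3d9f0fa7e3fdc4e4743bdc0e6753b484462513c80442413424160d07c20140c0741e0d058240e0501, 0, 241, 0x0, []⟩]

theorem t9_64_23 : jobs 8 S9 b8_64 j9_64_23 = true := by decide +kernel

noncomputable def j9_64_24 : List Job := [
  ⟨42, 0x6e574bc5fee176bd5f484462513c80442413424160d07c20140c0741e0d058240e0501, 0, 512, 0x0, []⟩]

theorem t9_64_24 : jobs 8 S9 b8_64 j9_64_24 = true := by decide +kernel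

noncomputable def j9_64_25 : List Job := [
  ⟨41, 0x68946a452e8142a653e41229249a512a964be01028241a110a8643c84462513c80442413424160d07c20140c0741e0d058240e0501, 0, 512, 0x0, []⟩]

theorem t9_64_25 : jobs 8 S9 b8_64 j9_64_25 = true := by decide +kernel

noncomputable def j9_64_26 : List Job := [
  ⟨40, 0x6e172ba5daf17abe5fe8142a251a914aa653e41229249a512a964bde0f27a3d9f0fa7e3fdc4e4743bdc0e6753b484462513c80442413424160d07c20140c0741e0d058240e0501, 0, 512, 0x0, []⟩]

theorem t9_64_26 : jobs 8 S9 b8_64 j9_64_26 = true := by decide +kernel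

noncomputable def j9_64_27 : List Job := [
  ⟨39, 0x601028241a110a8643de0f27a3d9f0fa7e3fdc4e4743bdc0e6753b484462513c80442413424160d07c20140c0741e0d058240e0501, 0, 512, 0x0, []⟩]

theorem t9_64_27 : jobs 8 S9 b8_64 j9_64_27 = true := by decide +kernel

noncomputable def j9_64_28 : List Job := [
  ⟨38, 0x6e172ba5daf17abe5fe8142a251a914aa653e41229249a512a964bc84462513c80442413424160d07c20140c0741e0d058240e0501, 0, 512, 0x0, []⟩]

theorem t9_64_28 : jobs 8 S9 b8_64 j9_64_28 = true := by decide +kernel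

noncomputable def j9_64_29 : List Job := [
  ⟨37, 0x601028241a110a8643c84462513c80442413424160d07c20140c0741e0d058240e0501, 0, 512, 0x0, []⟩]

theorem t9_64_29 : jobs 8 S9 b8_64 j9_64_29 = true := by decide +kernel

noncomputable def j9_64_30 : List Job := [
  ⟨36, 0x64926944ae4122964bde0f27a3d9f0fa7e3fdc8e6743adc0e2763bc84462513c80442413424160d07c20140c0741e0d058240e0501, 0, 512, 0x0, []⟩]

theorem t9_64_30 : jobs 8 S9 b8_64 j9_64_30 = true := by decide +kernel

noncomputable def j9_64_31 : List Job := [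
  ⟨35, 0x6e172ba5daf17abe5fe8142a251a914aa653e09068442e01028643de0f27a3d9f0fa7e3fdc8e6743adc0e2763bc84462513c80442413424160d07c20140c0741e0d058240e0501, 229, 283, 0x0, []⟩]

theorem t9_64_31 : jobs 8 S9 b8_64 j9_64_31 = true := by decide +kernel

noncomputable def j9_64_32 : List Job := [
  ⟨35, 0x6e172ba5daf17abe5fe8142a251a914aa653e09068442e01028643de0f27a3d9f0fa7e3fdc8e6743adc0e2763bc84462513c80442413424160d07c20140c0741e0d058240e0501, 0, 229, 0x0, []⟩]

theorem t9_64_32 : jobs 8 S9 b8_64 j9_64_32 = true := by decide +kernel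

noncomputable def j9_64_33 : List Job := [
  ⟨34, 0x6512a964be41229249c84462513c80442413424160d07c20140c0741e0d058240e0501, 0, 512, 0x0, []⟩]

theorem t9_64_33 : jobs 8 S9 b8_64 j9_64_33 = true := by decide +kernel

noncomputable def j9_64_34 : List Job := [
  ⟨33, 0x6e172ba5daf17abe5fe8142a251a914aa653e09068643e01028442c84462513c80442413424160d07c20140c0741e0d058240e0501, 0, 512, 0x0, []⟩]

theorem t9_64_34 : jobs 8 S9 b8_64 j9_64_34 = true := by decide +kernel

noncomputable def j9_64_35 : List Job := [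
  ⟨32, 0x6e172ba5daf17abe5fe41229249a512a964bc84462513c80442413464361d0fc60341c0f44426150bc4024140b424160d07c20140c0741e0d058240e0501, 260, 252, 0x0, []⟩]

theorem t9_64_35 : jobs 8 S9 b8_64 j9_64_35 = true := by decide +kernel

noncomputable def j9_64_36 : List Job := [
  ⟨32, 0x6e172ba5daf17abe5fe41229249a512a964bc84462513c80442413464361d0fc60341c0f44426150bc4024140b424160d07c20140c0741e0d058240e0501, 0, 260, 0x0, []⟩]

theorem t9_64_36 : jobs 8 S9 b8_64 j9_64_36 = true := by decide +kernel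

noncomputable def j9_64_37 : List Job := [
  ⟨31, 0x6e172ba5daf17abe5fe8142a251a914aa653de0f27a3d9f0fa7e3fc84462513c80442413424160d07c20140c0741e0d058240e0501, 0, 512, 0x0, []⟩]

theorem t9_64_37 : jobs 8 S9 b8_64 j9_64_37 = true := by decide +kernel

noncomputable def j9_64_38 : List Job := [
  ⟨30, 0x641229249a512a964be01028241a110a8643de0f27a3d9f0fa7e3fc84462513c80442413424160d07c20140c0741e0d058240e0501, 0, 512, 0x0, []⟩]

theorem t9_64_38 : jobs 8 S9 b8_64 j9_64_38 = true := by decide +kernel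

noncomputable def j9_64_39 : List Job := [
  ⟨29, 0x5e0f27a3d9f0fa7e3fc84462513c80442413424160d07c20140c0741e0d058240e0501, 0, 512, 0x0, []⟩]

theorem t9_64_39 : jobs 8 S9 b8_64 j9_64_39 = true := by decide +kernel

noncomputable def j9_64_40 : List Job := [
  ⟨28, 0x6e172ba5daf17abe5fe8142a251a914aa653e41229249a512a964be01028241a110a8643de0f27a3d9f0fa7e3fc84462513c80442413424160d07c20140c0741e0d058240e0501, 0, 512, 0x0, []⟩]

theorem t9_64_40 : jobs 8 S9 b8_64 j9_64_40 = true := by decide +kernel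

noncomputable def j9_64_41 : List Job := [
  ⟨27, 0x68142a251a914aa653e4526944b64124954bde0f27a3d9f0fa7e3fc84462513c80442413424160d07c20140c0741e0d058240e0501, 0, 512, 0x0, []⟩]

theorem t9_64_41 : jobs 8 S9 b8_64 j9_64_41 = true := by decide +kernel

noncomputable def j9_64_42 : List Job := [
  ⟨26, 0x6e574bc5fee176bd5f601028241a110a8643de0f27a3d9f0fa7e3fc84462513c80442413424160d07c20140c0741e0d058240e0501, 0, 512, 0x0, []⟩]

theorem t9_64_42 : jobs 8 S9 b8_64 j9_64_42 = true := by decide +kernel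

noncomputable def j9_64_43 : List Job := [
  ⟨25, 0x6e172ba5daf17abe5fe41229249a512a964bde0f27a3d9f0fa7e3fc84462513c80442413424160d07c20140c0741e0d058240e0501, 0, 512, 0x0, []⟩]

theorem t9_64_43 : jobs 8 S9 b8_64 j9_64_43 = true := by decide +kernel

noncomputable def j9_64_44 : List Job := [
  ⟨24, 0x68946a452e8142a653e09068643e01028442de0f27a3d9f0fa7e3fc84462513c80442413424160d07c20140c0741e0d058240e0501, 0, 512, 0x0, []⟩]

theorem t9_64_44 : jobs 8 S9 b8_64 j9_64_44 = true := by decide +kernel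

noncomputable def j9_64_45 : List Job := [
  ⟨23, 0x6e172ba5daf17abe5fe8142a251a914aa653dc0e272399d0ea763bc84462513c80442413424160d07c20140c0741e0d058240e0501, 0, 512, 0x0, []⟩]

theorem t9_64_45 : jobs 8 S9 b8_64 j9_64_45 = true := by decide +kernel

noncomputable def j9_64_46 : List Job := [
  ⟨22, 0x641229249a512a964be01028241a110a8643dc0e272399d0ea763bc84462513c80442413424160d07c20140c0741e0d058240e0501, 0, 512, 0x0, []⟩]

theorem t9_64_46 : jobs 8 S9 b8_64 j9_64_46 = true := by decide +kernel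

noncomputable def j9_64_47 : List Job := [
  ⟨21, 0x5c0e272399d0ea763bc84462513c80442413424160d07c20140c0741e0d058240e0501, 0, 512, 0x0, []⟩]

theorem t9_64_47 : jobs 8 S9 b8_64 j9_64_47 = true := by decide +kernel

noncomputable def j9_64_48 : List Job := [
  ⟨20, 0x6e172ba5daf17abe5fe8142a251a914aa653e41229249a512a964be01028241a110a8643dc0e272399d0ea763bc84462513c80442413424160d07c20140c0741e0d058240e0501, 0, 512, 0x0, []⟩]

theorem t9_64_48 : jobs 8 S9 b8_64 j9_64_48 = true := by decide +kernel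

noncomputable def j9_64_49 : List Job := [
  ⟨19, 0x68142a251a914aa653e512a964be41229249dc0e272399d0ea763bc84462513c80442413424160d07c20140c0741e0d058240e0501, 0, 512, 0x0, []⟩]

theorem t9_64_49 : jobs 8 S9 b8_64 j9_64_49 = true := by decide +kernel

noncomputable def j9_64_50 : List Job := [
  ⟨18, 0x6e976bc5eee172be5fe01028241a110a8643dc0e272399d0ea763bc84462513c80442413424160d07c20140c0741e0d058240e0501, 0, 512, 0x0, []⟩]

theorem t9_64_50 : jobs 8 S9 b8_64 j9_64_50 = true := by decide +kernel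

noncomputable def j9_64_51 : List Job := [
  ⟨17, 0x6e172ba5daf17abe5fe41229249a512a964bdc0e272399d0ea763bc84462513c80442413424160d07c20140c0741e0d058240e0501, 0, 512, 0x0, []⟩]

theorem t9_64_51 : jobs 8 S9 b8_64 j9_64_51 = true := by decide +kernel

noncomputable def j9_64_52 : List Job := [
  ⟨16, 0x68946a452e8142a653e09068643e01028442dc0e272399d0ea763bc84462513c80442413424160d07c20140c0741e0d058240e0501, 0, 512, 0x0, []⟩]

theorem t9_64_52 : jobs 8 S9 b8_64 j9_64_52 = true := by decide +kernel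

noncomputable def j9_64_53 : List Job := [
  ⟨15, 0x6e172ba5daf17abe5fe8142a251a914aa653e41229249a512a964bde0f27a3d9f0fa7e3fc84462513c80442413424160d07c20140c0741e0d058240e0501, 0, 512, 0x0, []⟩]

theorem t9_64_53 : jobs 8 S9 b8_64 j9_64_53 = true := by decide +kernel

noncomputable def j9_64_54 : List Job := [
  ⟨14, 0x601028241a110a8643de0f27a3d9f0fa7e3fc84462513c80442413424160d07c20140c0741e0d058240e0501, 0, 512, 0x0, []⟩]

theorem t9_64_54 : jobs 8 S9 b8_64 j9_64_54 = true := by decide +kernel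

noncomputable def j9_64_55 : List Job := [
  ⟨13, 0x6e172ba5daf17abe5fe8142a251a914aa653e41229249a512a964bdc0e272399d0ea763bc84462513c80442413424160d07c20140c0741e0d058240e0501, 0, 512, 0x0, []⟩]

theorem t9_64_55 : jobs 8 S9 b8_64 j9_64_55 = true := by decide +kernel

noncomputable def j9_64_56 : List Job := [
  ⟨12, 0x601028241a110a8643dc0e272399d0ea763bc84462513c80442413424160d07c20140c0741e0d058240e0501, 0, 512, 0x0, []⟩]

theorem t9_64_56 : jobs 8 S9 b8_64 j9_64_56 = true := by decide +kernel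

noncomputable def j9_64_57 : List Job := [
  ⟨11, 0x64524944be4126954b5e0f27a3d9f0fa7e3fc84462513c80442413424160d07c20140c0741e0d058240e0501, 0, 512, 0x0, []⟩]

theorem t9_64_57 : jobs 8 S9 b8_64 j9_64_57 = true := by decide +kernel

noncomputable def j9_64_58 : List Job := [
  ⟨10, 0x6e172ba5daf17abe5fe8142a251a914aa653e09068442e01028643de0f27a3d9f0fa7e3fc84462513c80442413424160d07c20140c0741e0d058240e0501, 0, 512, 0x0, []⟩]

theorem t9_64_58 : jobs 8 S9 b8_64 j9_64_58 = true := by decide +kernel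

noncomputable def j9_64_59 : List Job := [
  ⟨9, 0x64526944b64124954bdc0e272399d0ea763bc84462513c80442413424160d07c20140c0741e0d058240e0501, 0, 512, 0x0, []⟩]

theorem t9_64_59 : jobs 8 S9 b8_64 j9_64_59 = true := by decide +kernel

noncomputable def j9_64_60 : List Job := [
  ⟨8, 0x6e172ba5daf17abe5fe8142a251a914aa653e09068643e01028442dc0e272399d0ea763bc84462513c80442413424160d07c20140c0741e0d058240e0501, 0, 512, 0x0, []⟩]

theorem t9_64_60 : jobs 8 S9 b8_64 j9_64_60 = true := by decide +kernel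

noncomputable def j9_64_61 : List Job := [
  ⟨7, 0x6e172ba5daf17abe5fe8142a251a914aa653e41229249a512a964bdc0e272399d0ea763bc84462513c80442413424160d07c20140c0741e0d058240e0501, 0, 512, 0x0, []⟩]

theorem t9_64_61 : jobs 8 S9 b8_64 j9_64_61 = true := by decide +kernel

noncomputable def j9_64_62 : List Job := [
  ⟨6, 0x601028241a110a8643dc0e272399d0ea763bc84462513c80442413424160d07c20140c0741e0d058240e0501, 0, 512, 0x0, []⟩]

theorem t9_64_62 : jobs 8 S9 b8_64 j9_64_62 = true := by decide +kernel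

noncomputable def j9_64_63 : List Job := [
  ⟨5, 0x6e172ba5daf17abe5fe8142a251a914aa653e41229249a512a964bde0f27a3d9f0fa7e3fc84462513c80442413424160d07c20140c0741e0d058240e0501, 0, 512, 0x0, []⟩]

theorem t9_64_63 : jobs 8 S9 b8_64 j9_64_63 = true := by decide +kernel

noncomputable def j9_64_64 : List Job := [
  ⟨4, 0x601028241a110a8643de0f27a3d9f0fa7e3fc84462513c80442413424160d07c20140c0741e0d058240e0501, 0, 512, 0x0, []⟩]

theorem t9_64_64 : jobs 8 S9 b8_64 j9_64_64 = true := by decide +kernel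

noncomputable def j9_64_65 : List Job := [
  ⟨3, 0x64926944ae4122964bdc0e272399d0ea763bc84462513c80442413424160d07c20140c0741e0d058240e0501, 0, 512, 0x0, []⟩]

theorem t9_64_65 : jobs 8 S9 b8_64 j9_64_65 = true := by decide +kernel

noncomputable def j9_64_66 : List Job := [
  ⟨2, 0x6e172ba5daf17abe5fe8142a251a914aa653e09068442e01028643dc0e272399d0ea763bc84462513c80442413424160d07c20140c0741e0d058240e0501, 0, 512, 0x0, []⟩]

theorem t9_64_66 : jobs 8 S9 b8_64 j9_64_66 = true := by decide +kernel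

noncomputable def j9_64_67 : List Job := [
  ⟨1, 0x6512a964be41229249de0f27a3d9f0fa7e3fc84462513c80442413424160d07c20140c0741e0d058240e0501, 0, 512, 0x0, []⟩]

theorem t9_64_67 : jobs 8 S9 b8_64 j9_64_67 = true := by decide +kernel

noncomputable def j9_64_68 : List Job := [
  ⟨0, 0x6e172ba5daf17abe5fe8142a251a914aa653e09068643e01028442de0f27a3d9f0fa7e3fc84462513c80442413424160d07c20140c0741e0d058240e0501, 0, 512, 0x0, []⟩]

theorem t9_64_68 : jobs 8 S9 b8_64 j9_64_68 = true := by decide +kernel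

theorem d9_64 : Dn 8 S9 b8_64 := dn_of (Js := j9_64_0 ++ (j9_64_1 ++ (j9_64_2 ++ (j9_64_3 ++ (j9_64_4 ++ (j9_64_5 ++ (j9_64_6 ++ (j9_64_7 ++ (j9_64_8 ++ (j9_64_9 ++ (j9_64_10 ++ (j9_64_11 ++ (j9_64_12 ++ (j9_64_13 ++ (j9_64_14 ++ (j9_64_15 ++ (j9_64_16 ++ (j9_64_17 ++ (j9_64_18 ++ (j9_64_19 ++ (j9_64_20 ++ (j9_64_21 ++ (j9_64_22 ++ (j9_64_23 ++ (j9_64_24 ++ (j9_64_25 ++ (j9_64_26 ++ (j9_64_27 ++ (j9_64_28 ++ (j9_64_29 ++ (j9_64_30 ++ (j9_64_31 ++ (j9_64_32 ++ (j9_64_33 ++ (j9_64_34 ++ (j9_64_35 ++ (j9_64_36 ++ (j9_64_37 ++ (j9_64_38 ++ (j9_64_39 ++ (j9_64_40 ++ (j9_64_41 ++ (j9_64_42 ++ (j9_64_43 ++ (j9_64_44 ++ (j9_64_45 ++ (j9_64_46 ++ (j9_64_47 ++ (j9_64_48 ++ (j9_64_49 ++ (j9_64_50 ++ (j9_64_51 ++ (j9_64_52 ++ (j9_64_53 ++ (j9_64_54 ++ (j9_64_55 ++ (j9_64_56 ++ (j9_64_57 ++ (j9_64_58 ++ (j9_64_59 ++ (j9_64_60 ++ (j9_64_61 ++ (j9_64_62 ++ (j9_64_63 ++ (j9_64_64 ++ (j9_64_65 ++ (j9_64_66 ++ (j9_64_67 ++ (j9_64_68 ++ [])))))))))))))))))))))))))))))))))))))))))))))))))))))))))))))))))))))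
  (jobs_append t9_64_0 <| jobs_append t9_64_1 <| jobs_append t9_64_2 <| jobs_append t9_64_3 <| jobs_append t9_64_4 <| jobs_append t9_64_5 <| jobs_append t9_64_6 <| jobs_append t9_64_7 <| jobs_append t9_64_8 <| jobs_append t9_64_9 <| jobs_append t9_64_10 <| jobs_append t9_64_11 <| jobs_append t9_64_12 <| jobs_append t9_64_13 <| jobs_append t9_64_14 <| jobs_append t9_64_15 <| jobs_append t9_64_16 <| jobs_append t9_64_17 <| jobs_append t9_64_18 <| jobs_append t9_64_19 <| jobs_append t9_64_20 <| jobs_append t9_64_21 <| jobs_append t9_64_22 <| jobs_append t9_64_23 <| jobs_append t9_64_24 <| jobs_append t9_64_25 <| jobs_append t9_64_26 <| jobs_append t9_64_27 <| jobs_append t9_64_28 <| jobs_append t9_64_29 <| jobs_append t9_64_30 <| jobs_append t9_64_31 <| jobs_append t9_64_32 <| jobs_append t9_64_33 <| jobs_append t9_64_34 <| jobs_append t9_64_35 <| jobs_append t9_64_36 <| jobs_append t9_64_37 <| jobs_append t9_64_38 <| jobs_append t9_64_39 <| jobs_append t9_64_40 <| jobs_append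 t9_64_41 <| jobs_append t9_64_42 <| jobs_append t9_64_43 <| jobs_append t9_64_44 <| jobs_append t9_64_45 <| jobs_append t9_64_46 <| jobs_append t9_64_47 <| jobs_append t9_64_48 <| jobs_append t9_64_49 <| jobs_append t9_64_50 <| jobs_append t9_64_51 <| jobs_append t9_64_52 <| jobs_append t9_64_53 <| jobs_append t9_64_54 <| jobs_append t9_64_55 <| jobs_append t9_64_56 <| jobs_append t9_64_57 <| jobs_append t9_64_58 <| jobs_append t9_64_59 <| jobs_append t9_64_60 <| jobs_append t9_64_61 <| jobs_append t9_64_62 <| jobs_append t9_64_63 <| jobs_append t9_64_64 <| jobs_append t9_64_65 <| jobs_append t9_64_66 <| jobs_append t9_64_67 <| jobs_append t9_64_68 <| List.forall_mem_nil _) (by decide +kernel)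

end Cfsg.Agent.FS.N.Sw
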