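import Cfsg.Agent.FS.N.Sw.Seg
import Cfsg.Agent.FS.N.G.S9
import Cfsg.Agent.FS.N.G.L.L03

/-! The filter on the pairs for the order 512, part 24 (generated; helper52, project FS) -/

set_option autoImplicit false
set_option maxRecDepth 100000
set_option Elab.async false

namespace Cfsg.Agent.FS.N.Sw

open G

noncomputable def j9_66_0 : List Job := [
  ⟨63, 0x6e172ba5daf17abe5fea152aa55ab15aae57e61329a4da713a9e4fc24160d07c20140c0741e0d058240e0501, 0, 512, 0x0, []⟩]

theorem t9_66_0 : jobs 8 S9 b8_66 j9_66_0 = true := by decide +kernel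

noncomputable def j9_66_1 : List Job := [
  ⟨62, 0x601028241a110a8643c24160d07c20140c0741e0d058240e0501, 0, 512, 0x0, []⟩]

theorem t9_66_1 : jobs 8 S9 b8_66 j9_66_1 = true := by decide +kernel

noncomputable def j9_66_2 : List Job := [
  ⟨61, 0x6e172ba5daf17abe5fea152aa55ab15aae57e61329a4da713a9e4fd24944d27520964c27d08864623d00824422c24160d07c20140c0741e0d058240e0501, 0, 512, 0x0, []⟩]

theorem t9_66_2 : jobs 8 S9 b8_66 j9_66_2 = true := by decide +kernel

noncomputable def j9_66_3 : List Job := [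
  ⟨60, 0x601028241a110a8643d28964c26d20924e27d108a4623d00824221c28160e07c20120c06c1e0d058240e0501, 0, 512, 0x0, []⟩]

theorem t9_66_3 : jobs 8 S9 b8_66 j9_66_3 = true := by decide +kernel

noncomputable def j9_66_4 : List Job := [
  ⟨59, 0x6a152aa55ab15aae57e61329a4da713a9e4fc24160d07c20140c0741e0d058240e0501, 0, 512, 0x0, []⟩]

theorem t9_66_4 : jobs 8 S9 b8_66 j9_66_4 = true := by decide +kernel

noncomputable def j9_66_5 : List Job := [
  ⟨58, 0x6e574bc5fee176bd5f601028241a110a8643c24160d07c20140c0741e0d058240e0501, 0, 512, 0x0, []⟩]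

theorem t9_66_5 : jobs 8 S9 b8_66 j9_66_5 = true := by decide +kernel

noncomputable def j9_66_6 : List Job := [
  ⟨57, 0x6a152aa55ab15aae57e61329a4da713a9e4fd24944d27520964c27d08864623d00824422c24160d07c20140c0741e0d058240e0501, 0, 512, 0x0, []⟩]

theorem t9_66_6 : jobs 8 S9 b8_66 j9_66_6 = true := by decide +kernel

noncomputable def j9_66_7 : List Job := [
  ⟨56, 0x6e574bc5fee176bd5f601028241a110a8643d28964c26d20924e27d108a4623d00824221c28160e07c20120c06c1e0d058240e0501, 0, 512, 0x0, []⟩]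

theorem t9_66_7 : jobs 8 S9 b8_66 j9_66_7 = true := by decide +kernel

noncomputable def j9_66_8 : List Job := [
  ⟨55, 0x68142a251a914aa653e01028241a110a8643de0f27a3d9f0fa7e3fdc0e272399d0ea763bc1e0d058240e0501, 0, 512, 0x0, []⟩]

theorem t9_66_8 : jobs 8 S9 b8_66 j9_66_8 = true := by decide +kernel

noncomputable def j9_66_9 : List Job := [
  ⟨54, 0x68142a251a914aa653e01028241a110a8643c1e0d058240e0501, 0, 512, 0x0, []⟩]

theorem t9_66_9 : jobs 8 S9 b8_66 j9_66_9 = true := by decide +kernel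

noncomputable def j9_66_10 : List Job := [
  ⟨53, 0x68142a251a914aa653e01028241a110a8643c64361d0fc60341c0f44426150bc4024140b41e0d058240e0501, 0, 512, 0x0, []⟩]

theorem t9_66_10 : jobs 8 S9 b8_66 j9_66_10 = true := by decide +kernel

noncomputable def j9_66_11 : List Job := [
  ⟨52, 0x68142a251a914aa653e01028241a110a8643de0f27a3d9f0fa7e3fdc0e272399d0ea763bc64361d0fc60341c0f44426150bc4024140b41e0d058240e0501, 0, 512, 0x0, []⟩]

theorem t9_66_11 : jobs 8 S9 b8_66 j9_66_11 = true := by decide +kernel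

noncomputable def j9_66_12 : List Job := [
  ⟨51, 0x64926964be4122944ae09068442e01028643c64361d0fc60341c0f44426150bc4024140b41e0d058240e0501, 0, 512, 0x0, []⟩]

theorem t9_66_12 : jobs 8 S9 b8_66 j9_66_12 = true := by decide +kernel

noncomputable def j9_66_13 : List Job := [
  ⟨50, 0x64926944ae4122964be09068643e01028442de0f27a3d9f0fa7e3fdc0e272399d0ea763bc64361d0fc60341c0f44426150bc4024140b41e0d058240e0501, 0, 512, 0x0, []⟩]

theorem t9_66_13 : jobs 8 S9 b8_66 j9_66_13 = true := by decide +kernel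

noncomputable def j9_66_14 : List Job := [
  ⟨49, 0x6e172ba5daf17abe5fde0f27a3d9f0fa7e3fdc0e272399d0ea763bc64361d0fc60341c0f44426150bc4024140b41e0d058240e0501, 0, 512, 0x0, []⟩]

theorem t9_66_14 : jobs 8 S9 b8_66 j9_66_14 = true := by decide +kernel

noncomputable def j9_66_15 : List Job := [
  ⟨48, 0x68142a251a914aa653e4926964be4122944ae01028241a110a8643de0f27a3d9f0fa7e3fdc0e272399d0ea763bc64361d0fc60341c0f44426150bc4024140b41e0d058240e0501, 0, 512, 0x0, []⟩]

theorem t9_66_15 : jobs 8 S9 b8_66 j9_66_15 = true := by decide +kernel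

noncomputable def j9_66_16 : List Job := [
  ⟨47, 0x6e172ba5daf17abe5fc64361d0fc60341c0f44426150bc4024140b41e0d058240e0501, 0, 512, 0x0, []⟩]

theorem t9_66_16 : jobs 8 S9 b8_66 j9_66_16 = true := by decide +kernel

noncomputable def j9_66_17 : List Job := [
  ⟨46, 0x68142a251a914aa653e4926944ae4122964be01028241a110a8643c64361d0fc60341c0f44426150bc4024140b41e0d058240e0501, 0, 512, 0x0, []⟩]

theorem t9_66_17 : jobs 8 S9 b8_66 j9_66_17 = true := by decide +kernel

noncomputable def j9_66_18 : List Job := [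
  ⟨45, 0x68142a251a914aa653de0f27a3d9f0fa7e3fdc0e272399d0ea763bc64361d0fc60341c0f44426150bc4024140b41e0d058240e0501, 0, 512, 0x0, []⟩]

theorem t9_66_18 : jobs 8 S9 b8_66 j9_66_18 = true := by decide +kernel

noncomputable def j9_66_19 : List Job := [
  ⟨44, 0x6e172ba5daf17abe5fe41229249a512a964be09068442e01028643de0f27a3d9f0fa7e3fdc0e272399d0ea763bc64361d0fc60341c0f44426150bc4024140b41e0d058240e0501, 0, 512, 0x0, []⟩]

theorem t9_66_19 : jobs 8 S9 b8_66 j9_66_19 = true := by decide +kernel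

noncomputable def j9_66_20 : List Job := [
  ⟨43, 0x68142a251a914aa653c64361d0fc60341c0f44426150bc4024140b41e0d058240e0501, 0, 512, 0x0, []⟩]

theorem t9_66_20 : jobs 8 S9 b8_66 j9_66_20 = true := by decide +kernel

noncomputable def j9_66_21 : List Job := [
  ⟨42, 0x6e172ba5daf17abe5fe41229249a512a964be09068643e01028442c64361d0fc60341c0f44426150bc4024140b41e0d058240e0501, 0, 512, 0x0, []⟩]

theorem t9_66_21 : jobs 8 S9 b8_66 j9_66_21 = true := by decide +kernel

noncomputable def j9_66_22 : List Job := [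
  ⟨41, 0x68142a251a914aa653e01028241a110a8643dc0e272399d0ea763bc1e0d058240e0501, 0, 512, 0x0, []⟩]

theorem t9_66_22 : jobs 8 S9 b8_66 j9_66_22 = true := by decide +kernel

noncomputable def j9_66_23 : List Job := [
  ⟨40, 0x68142a251a914aa653e01028241a110a8643de4f47d3f5e0f67c3fc1e0d058240e0501, 0, 512, 0x0, []⟩]

theorem t9_66_23 : jobs 8 S9 b8_66 j9_66_23 = true := by decide +kernel

noncomputable def j9_66_24 : List Job := [
  ⟨39, 0x6e172ba5daf17abe5fe8142a251a914aa653e41229249a512a964bde0f27a3d9f0fa7e3fc1e0d058240e0501, 0, 512, 0x0, []⟩]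

theorem t9_66_24 : jobs 8 S9 b8_66 j9_66_24 = true := by decide +kernel

noncomputable def j9_66_25 : List Job := [
  ⟨38, 0x609068643e01028442de0f27a3d9f0fa7e3fc1e0d058240e0501, 0, 512, 0x0, []⟩]

theorem t9_66_25 : jobs 8 S9 b8_66 j9_66_25 = true := by decide +kernel

noncomputable def j9_66_26 : List Job := [
  ⟨37, 0x68142a251a914aa653e01028241a110a8643de0f27a3d9f0fa7e3fc64361d0fc60341c0f44426150bc4024140b41e0d058240e0501, 0, 512, 0x0, []⟩]

theorem t9_66_26 : jobs 8 S9 b8_66 j9_66_26 = true := by decide +kernel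

noncomputable def j9_66_27 : List Job := [
  ⟨36, 0x68142a251a914aa653e01028241a110a8643dc8e6743adc0e2763bc64361d0fc60341c0f44426150bc4024140b41e0d058240e0501, 0, 512, 0x0, []⟩]

theorem t9_66_27 : jobs 8 S9 b8_66 j9_66_27 = true := by decide +kernel

noncomputable def j9_66_28 : List Job := [
  ⟨35, 0x68142a251a914aa653e41229249a512a964bdc4e4743bdc0e6753b464361d0fc60341c0f44426150bc4024140b41e0d058240e0501, 0, 272, 0x0, []⟩]

theorem t9_66_28 : jobs 8 S9 b8_66 j9_66_28 = true := by decide +kernel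

noncomputable def j9_66_29 : List Job := [
  ⟨34, 0x6e172ba5daf17abe5fe01028241a110a8643dc4e4743bdc0e6753b464361d0fc60341c0f44426150bc4024140b41e0d058240e0501, 0, 272, 0x0, []⟩]

theorem t9_66_29 : jobs 8 S9 b8_66 j9_66_29 = true := by decide +kernel

noncomputable def j9_66_30 : List Job := [
  ⟨33, 0x64926944ae4122964be09068643e01028442de0f27a3d9f0fa7e3fc64361d0fc60341c0f44426150bc4024140b41e0d058240e0501, 0, 512, 0x0, []⟩]

theorem t9_66_30 : jobs 8 S9 b8_66 j9_66_30 = true := by decide +kernel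

noncomputable def j9_66_31 : List Job := [
  ⟨32, 0x5c4e4743bdc0e6753b464361d0fc60341c0f44426150bc4024140b41e0d058240e0501, 0, 272, 0x0, []⟩]

theorem t9_66_31 : jobs 8 S9 b8_66 j9_66_31 = true := by decide +kernel

noncomputable def j9_66_32 : List Job := [
  ⟨31, 0x6e172ba5daf17abe5fe8142a251a914aa653e41229249a512a964be01028241a110a8643dc4e4743bdc0e6753b464361d0fc60341c0f44426150bc4024140b41e0d058240e0501, 0, 272, 0x0, []⟩]

theorem t9_66_32 : jobs 8 S9 b8_66 j9_66_32 = true := by decide +kernel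

noncomputable def j9_66_33 : List Job := [
  ⟨30, 0x64926944ae4122964be09068643e01028442dc8e6743adc0e2763bc64361d0fc60341c0f44426150bc4024140b41e0d058240e0501, 0, 512, 0x0, []⟩]

theorem t9_66_33 : jobs 8 S9 b8_66 j9_66_33 = true := by decide +kernel

noncomputable def j9_66_34 : List Job := [
  ⟨29, 0x641229249a512a964be01028241a110a8643dc0e272399d0ea763bca4562d17ca0542c17484462513c80442413464361d0fc60341c0f44426150bc4024140b41e0d058240e0501, 242, 270, 0x0, []⟩]

theorem t9_66_34 : jobs 8 S9 b8_66 j9_66_34 = true := by decide +kernel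

noncomputable def j9_66_35 : List Job := [
  ⟨29, 0x641229249a512a964be01028241a110a8643dc0e272399d0ea763bca4562d17ca0542c17484462513c80442413464361d0fc60341c0f44426150bc4024140b41e0d058240e0501, 0, 242, 0x0, []⟩]

theorem t9_66_35 : jobs 8 S9 b8_66 j9_66_35 = true := by decide +kernel

noncomputable def j9_66_36 : List Job := [
  ⟨28, 0x68142a251a914aa653de0f27a3d9f0fa7e3fc64361d0fc60341c0f44426150bc4024140b41e0d058240e0501, 0, 512, 0x0, []⟩]

theorem t9_66_36 : jobs 8 S9 b8_66 j9_66_36 = true := by decide +kernel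

noncomputable def j9_66_37 : List Job := [
  ⟨27, 0x6e172ba5daf17abe5fe41229249a512a964be09068442e01028643de0f27a3d9f0fa7e3fc64361d0fc60341c0f44426150bc4024140b41e0d058240e0501, 0, 512, 0x0, []⟩]

theorem t9_66_37 : jobs 8 S9 b8_66 j9_66_37 = true := by decide +kernel

noncomputable def j9_66_38 : List Job := [
  ⟨26, 0x68142a251a914aa653dc0e272399d0ea763bc64361d0fc60341c0f44426150bc4024140b41e0d058240e0501, 0, 512, 0x0, []⟩]

theorem t9_66_38 : jobs 8 S9 b8_66 j9_66_38 = true := by decide +kernel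

noncomputable def j9_66_39 : List Job := [
  ⟨25, 0x6e172ba5daf17abe5fe41229249a512a964be09068643e01028442dc0e272399d0ea763bc64361d0fc60341c0f44426150bc4024140b41e0d058240e0501, 0, 512, 0x0, []⟩]

theorem t9_66_39 : jobs 8 S9 b8_66 j9_66_39 = true := by decide +kernel

noncomputable def j9_66_40 : List Job := [
  ⟨24, 0x68142a251a914aa653dc8e6743adc0e2763bc64361d0fc60341c0f44426150bc4024140b41e0d058240e0501, 0, 512, 0x0, []⟩]

theorem t9_66_40 : jobs 8 S9 b8_66 j9_66_40 = true := by decide +kernel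

noncomputable def j9_66_41 : List Job := [
  ⟨23, 0x6e172ba5daf17abe5fe41229249a512a964be09068442e01028643dc8e6743adc0e2763bc64361d0fc60341c0f44426150bc4024140b41e0d058240e0501, 0, 512, 0x0, []⟩]

theorem t9_66_41 : jobs 8 S9 b8_66 j9_66_41 = true := by decide +kernel

noncomputable def j9_66_42 : List Job := [
  ⟨22, 0x68142a251a914aa653de4f47c3fde0f67d3f464361d0fc60341c0f44426150bc4024140b41e0d058240e0501, 0, 512, 0x0, []⟩]

theorem t9_66_42 : jobs 8 S9 b8_66 j9_66_42 = true := by decide +kernel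

noncomputable def j9_66_43 : List Job := [
  ⟨21, 0x6e172ba5daf17abe5fe41229249a512a964be09068643e01028442de4f47c3fde0f67d3f464361d0fc60341c0f44426150bc4024140b41e0d058240e0501, 0, 512, 0x0, []⟩]

theorem t9_66_43 : jobs 8 S9 b8_66 j9_66_43 = true := by decide +kernel

noncomputable def j9_66_44 : List Job := [
  ⟨20, 0x6e172ba5daf17abe5fe8142a251a914aa653e41229249a512a964bdc0e272399d0ea763bc4426150bc4024140b41e0d058240e0501, 0, 512, 0x0, []⟩]

theorem t9_66_44 : jobs 8 S9 b8_66 j9_66_44 = true := by decide +kernel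

noncomputable def j9_66_45 : List Job := [
  ⟨19, 0x601028241a110a8643dc0e272399d0ea763bc4426150bc4024140b41e0d058240e0501, 0, 512, 0x0, []⟩]

theorem t9_66_45 : jobs 8 S9 b8_66 j9_66_45 = true := by decide +kernel

noncomputable def j9_66_46 : List Job := [
  ⟨18, 0x6e172ba5daf17abe5fe8142a251a914aa653e41229249a512a964bde4f67c3f5e0f47d3fc4426150bc4024140b41e0d058240e0501, 0, 512, 0x0, []⟩]

theorem t9_66_46 : jobs 8 S9 b8_66 j9_66_46 = true := by decide +kernel

noncomputable def j9_66_47 : List Job := [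
  ⟨17, 0x601028241a110a8643de4f47d3f5e0f67c3fc4426150bc4024140b41e0d058240e0501, 0, 512, 0x0, []⟩]

theorem t9_66_47 : jobs 8 S9 b8_66 j9_66_47 = true := by decide +kernel

noncomputable def j9_66_48 : List Job := [
  ⟨16, 0x641229249a512a964bde4f47c3fde0f67d3f4a4562d17ca0542c17484462513c8044241344426150bc4024140b41e0d058240e0501, 0, 512, 0x0, []⟩]

theorem t9_66_48 : jobs 8 S9 b8_66 j9_66_48 = true := by decide +kernel

noncomputable def j9_66_49 : List Job := [
  ⟨15, 0x6e172ba5daf17abe5fe8142a251a914aa653e01028241a110a8643de4f47c3fde0f67d3f4a4562d17ca0542c17484462513c8044241344426150bc4024140b41e0d058240e0501, 241, 271, 0x0, []⟩]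

theorem t9_66_49 : jobs 8 S9 b8_66 j9_66_49 = true := by decide +kernel

noncomputable def j9_66_50 : List Job := [
  ⟨15, 0x6e172ba5daf17abe5fe8142a251a914aa653e01028241a110a8643de4f47c3fde0f67d3f4a4562d17ca0542c17484462513c8044241344426150bc4024140b41e0d058240e0501, 0, 241, 0x0, []⟩]

theorem t9_66_50 : jobs 8 S9 b8_66 j9_66_50 = true := by decide +kernel

noncomputable def j9_66_51 : List Job := [
  ⟨14, 0x641229249a512a964bdc0e272399d0ea763bca4562d17ca0542c17484462513c8044241344426150bc4024140b41e0d058240e0501, 0, 512, 0x0, []⟩]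

theorem t9_66_51 : jobs 8 S9 b8_66 j9_66_51 = true := by decide +kernel

noncomputable def j9_66_52 : List Job := [
  ⟨13, 0x6e172ba5daf17abe5fe8142a251a914aa653e01028241a110a8643dc0e272399d0ea763bca4562d17ca0542c17484462513c8044241344426150bc4024140b41e0d058240e0501, 0, 512, 0x0, []⟩]

theorem t9_66_52 : jobs 8 S9 b8_66 j9_66_52 = true := by decide +kernel

noncomputable def j9_66_53 : List Job := [
  ⟨12, 0x6914aa653e8142a251dc0e272399d0ea763bc4426150bc4024140b41e0d058240e0501, 0, 512, 0x0, []⟩]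

theorem t9_66_53 : jobs 8 S9 b8_66 j9_66_53 = true := by decide +kernel

noncomputable def j9_66_54 : List Job := [
  ⟨11, 0x6e172ba5daf17abe5fe41229249a512a964be09068442e01028643dc0e272399d0ea763bc4426150bc4024140b41e0d058240e0501, 0, 512, 0x0, []⟩]

theorem t9_66_54 : jobs 8 S9 b8_66 j9_66_54 = true := by decide +kernel

noncomputable def j9_66_55 : List Job := [
  ⟨10, 0x68946a452e8142a653df0fa7e3fde0f27a3dc4426150bc4024140b41e0d058240e0501, 0, 512, 0x0, []⟩]

theorem t9_66_55 : jobs 8 S9 b8_66 j9_66_55 = true := by decide +kernel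

noncomputable def j9_66_56 : List Job := [
  ⟨9, 0x6e172ba5daf17abe5fe41229249a512a964be09068643e01028442de8f67e3fde0f27c3ec4426150bc4024140b41e0d058240e0501, 0, 512, 0x0, []⟩]

theorem t9_66_56 : jobs 8 S9 b8_66 j9_66_56 = true := by decide +kernel

noncomputable def j9_66_57 : List Job := [
  ⟨8, 0x6e172ba5daf17abe5fe8142a251a914aa653e41229249a512a964bde0f27a3d9f0fa7e3fc4426150bc4024140b41e0d058240e0501, 0, 512, 0x0, []⟩]

theorem t9_66_57 : jobs 8 S9 b8_66 j9_66_57 = true := by decide +kernel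

noncomputable def j9_66_58 : List Job := [
  ⟨7, 0x601028241a110a8643de0f27a3d9f0fa7e3fc4426150bc4024140b41e0d058240e0501, 0, 512, 0x0, []⟩]

theorem t9_66_58 : jobs 8 S9 b8_66 j9_66_58 = true := by decide +kernel

noncomputable def j9_66_59 : List Job := [
  ⟨6, 0x6e172ba5daf17abe5fe8142a251a914aa653e41229249a512a964bdc4e4743bdc0e6753b44426150bc4024140b41e0d058240e0501, 0, 512, 0x0, []⟩]

theorem t9_66_59 : jobs 8 S9 b8_66 j9_66_59 = true := by decide +kernel

noncomputable def j9_66_60 : List Job := [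
  ⟨5, 0x601028241a110a8643dc4e4743bdc0e6753b44426150bc4024140b41e0d058240e0501, 0, 512, 0x0, []⟩]

theorem t9_66_60 : jobs 8 S9 b8_66 j9_66_60 = true := by decide +kernel

noncomputable def j9_66_61 : List Job := [
  ⟨4, 0x68142a251a914aa653e01028241a110a8643de4f47d3f5e0f67c3fc4426150bc4024140b41e0d058240e0501, 0, 512, 0x0, []⟩]

theorem t9_66_61 : jobs 8 S9 b8_66 j9_66_61 = true := by decide +kernel

noncomputable def j9_66_62 : List Job := [
  ⟨3, 0x68142a251a914aa653e01028241a110a8643dc0e272399d0ea763bc4426150bc4024140b41e0d058240e0501, 0, 512, 0x0, []⟩]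

theorem t9_66_62 : jobs 8 S9 b8_66 j9_66_62 = true := by decide +kernel

noncomputable def j9_66_63 : List Job := [
  ⟨2, 0x6e976be5fee172bc5ee01028241a110a8643de8f67e3fde0f27c3ec4426150bc4024140b41e0d058240e0501, 0, 512, 0x0, []⟩]

theorem t9_66_63 : jobs 8 S9 b8_66 j9_66_63 = true := by decide +kernel

noncomputable def j9_66_64 : List Job := [
  ⟨1, 0x6e976bc5eee172be5fe01028241a110a8643dc0e272399d0ea763bc4426150bc4024140b41e0d058240e0501, 0, 512, 0x0, []⟩]

theorem t9_66_64 : jobs 8 S9 b8_66 j9_66_64 = true := by decide +kernel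

noncomputable def j9_66_65 : List Job := [
  ⟨0, 0x6e172ba5daf17abe5fe01028241a110a8643dc0e272399d0ea763bca4562d17ca0542c17484462513c8044241344426150bc4024140b41e0d058240e0501, 0, 512, 0x0, []⟩]

theorem t9_66_65 : jobs 8 S9 b8_66 j9_66_65 = true := by decide +kernel

theorem d9_66 : Dn 8 S9 b8_66 := dn_of (Js := j9_66_0 ++ (j9_66_1 ++ (j9_66_2 ++ (j9_66_3 ++ (j9_66_4 ++ (j9_66_5 ++ (j9_66_6 ++ (j9_66_7 ++ (j9_66_8 ++ (j9_66_9 ++ (j9_66_10 ++ (j9_66_11 ++ (j9_66_12 ++ (j9_66_13 ++ (j9_66_14 ++ (j9_66_15 ++ (j9_66_16 ++ (j9_66_17 ++ (j9_66_18 ++ (j9_66_19 ++ (j9_66_20 ++ (j9_66_21 ++ (j9_66_22 ++ (j9_66_23 ++ (j9_66_24 ++ (j9_66_25 ++ (j9_66_26 ++ (j9_66_27 ++ (j9_66_28 ++ (j9_66_29 ++ (j9_66_30 ++ (j9_66_31 ++ (j9_66_32 ++ (j9_66_33 ++ (j9_66_34 ++ (j9_66_35 ++ (j9_66_36 ++ (j9_66_37 ++ (j9_66_38 ++ (j9_66_39 ++ (j9_66_40 ++ (j9_66_41 ++ (j9_66_42 ++ (j9_66_43 ++ (j9_66_44 ++ (j9_66_45 ++ (j9_66_46 ++ (j9_66_47 ++ (j9_66_48 ++ (j9_66_49 ++ (j9_66_50 ++ (j9_66_51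 ++ (j9_66_52 ++ (j9_66_53 ++ (j9_66_54 ++ (j9_66_55 ++ (j9_66_56 ++ (j9_66_57 ++ (j9_66_58 ++ (j9_66_59 ++ (j9_66_60 ++ (j9_66_61 ++ (j9_66_62 ++ (j9_66_63 ++ (j9_66_64 ++ (j9_66_65 ++ []))))))))))))))))))))))))))))))))))))))))))))))))))))))))))))))))))
  (jobs_append t9_66_0 <| jobs_append t9_66_1 <| jobs_append t9_66_2 <| jobs_append t9_66_3 <| jobs_append t9_66_4 <| jobs_append t9_66_5 <| jobs_append t9_66_6 <| jobs_append t9_66_7 <| jobs_append t9_66_8 <| jobs_append t9_66_9 <| jobs_append t9_66_10 <| jobs_append t9_66_11 <| jobs_append t9_66_12 <| jobs_append t9_66_13 <| jobs_append t9_66_14 <| jobs_append t9_66_15 <| jobs_append t9_66_16 <| jobs_append t9_66_17 <| jobs_append t9_66_18 <| jobs_append t9_66_19 <| jobs_append t9_66_20 <| jobs_append t9_66_21 <| jobs_append t9_66_22 <| jobs_append t9_66_23 <| jobs_append t9_66_24 <| jobs_append t9_66_25 <| jobs_append t9_66_26 <| jobs_append t9_66_27 <| jobs_append t9_66_28 <| jobs_append t9_66_29 <| jobs_append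 t9_66_30 <| jobs_append t9_66_31 <| jobs_append t9_66_32 <| jobs_append t9_66_33 <| jobs_append t9_66_34 <| jobs_append t9_66_35 <| jobs_append t9_66_36 <| jobs_append t9_66_37 <| jobs_append t9_66_38 <| jobs_append t9_66_39 <| jobs_append t9_66_40 <| jobs_append t9_66_41 <| jobs_append t9_66_42 <| jobs_append t9_66_43 <| jobs_append t9_66_44 <| jobs_append t9_66_45 <| jobs_append t9_66_46 <| jobs_append t9_66_47 <| jobs_append t9_66_48 <| jobs_append t9_66_49 <| jobs_append t9_66_50 <| jobs_append t9_66_51 <| jobs_append t9_66_52 <| jobs_append t9_66_53 <| jobs_append t9_66_54 <| jobs_append t9_66_55 <| jobs_append t9_66_56 <| jobs_append t9_66_57 <| jobs_append t9_66_58 <| jobs_append t9_66_59 <| jobs_append t9_66_60 <| jobs_append t9_66_61 <| jobs_append t9_66_62 <| jobs_append t9_66_63 <| jobs_append t9_66_64 <| jobs_append t9_66_65 <| List.forall_mem_nil _) (by decide +kernel)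

end Cfsg.Agent.FS.N.Sw
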