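import Cfsg.Agent.FS.N.Sw.Seg
import Cfsg.Agent.FS.N.G.S9
import Cfsg.Agent.FS.N.G.L.L04

/-! The filter on the pairs for the order 512, part 29 (generated; helper52, project FS) -/

set_option autoImplicit false
set_option maxRecDepth 100000
set_option Elab.async false

namespace Cfsg.Agent.FS.N.Sw

open G

noncomputable def j9_73_0 : List Job := [
  ⟨41, 0x6a152aa55ab15aae57d40a25229950aa562bc24160d07c20140c0741e0d058240e0501, 0, 512, 0x0, []⟩]

theorem t9_73_0 : jobs 8 S9 b8_73 j9_73_0 = true := by decide +kernel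

noncomputable def j9_73_1 : List Job := [
  ⟨40, 0x641229249a512a964bd40a25229950aa562bc24160d07c20140c0741e0d058240e0501, 0, 272, 0x0, []⟩]

theorem t9_73_1 : jobs 8 S9 b8_73 j9_73_1 = true := by decide +kernel

noncomputable def j9_73_2 : List Job := [
  ⟨39, 0x641229249a512a964bdc0e272399d0ea763bd80c26231990ca6633d60b25a2d970ba5e2fd20924a259309a4e27d008242219108a4623c24160d07c20140c0741e0d058240e0501, 0, 512, 0x0, []⟩]

theorem t9_73_2 : jobs 8 S9 b8_73 j9_73_2 = true := by decide +kernel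

noncomputable def j9_73_3 : List Job := [
  ⟨38, 0x6a152aa55ab15aae57de0f27a3d9f0fa7e3fd84c46433d80c66533520924a259309a4e27c24160d07c20140c0741e0d058240e0501, 0, 512, 0x0, []⟩]

theorem t9_73_3 : jobs 8 S9 b8_73 j9_73_3 = true := by decide +kernel

noncomputable def j9_73_4 : List Job := [
  ⟨37, 0x6e172ba5daf17abe5fd80c26231990ca6633d20924a259309a4e27c24160d07c20140c0741e0d058240e0501, 0, 512, 0x0, []⟩]

theorem t9_73_4 : jobs 8 S9 b8_73 j9_73_4 = true := by decide +kernel

noncomputable def j9_73_5 : List Job := [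
  ⟨36, 0x6a152aa55ab15aae57d80c26231990ca6633d20924a259309a4e27c24160d07c20140c0741e0d058240e0501, 0, 512, 0x0, []⟩]

theorem t9_73_5 : jobs 8 S9 b8_73 j9_73_5 = true := by decide +kernel

noncomputable def j9_73_6 : List Job := [
  ⟨35, 0x6e172ba5daf17abe5fde0f27a3d9f0fa7e3fd108a4623d00824221c24160d07c20140c0741e0d058240e0501, 0, 512, 0x0, []⟩]

theorem t9_73_6 : jobs 8 S9 b8_73 j9_73_6 = true := by decide +kernel

noncomputable def j9_73_7 : List Job := [
  ⟨34, 0x6a152aa55ab15aae57de0f27a3d9f0fa7e3fd108a4623d00824221c24160d07c20140c0741e0d058240e0501, 0, 512, 0x0, []⟩]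

theorem t9_73_7 : jobs 8 S9 b8_73 j9_73_7 = true := by decide +kernel

noncomputable def j9_73_8 : List Job := [
  ⟨33, 0x6e172ba5daf17abe5fea554ac57ea156ad57580c26231990ca6633d20924a259309a4e27c24160d07c20140c0741e0d058240e0501, 0, 512, 0x0, []⟩]

theorem t9_73_8 : jobs 8 S9 b8_73 j9_73_8 = true := by decide +kernel

noncomputable def j9_73_9 : List Job := [
  ⟨32, 0x6a152aa55ab15aae57de0f27a3d9f0fa7e3fc24160d07c20140c0741e0d058240e0501, 0, 512, 0x0, []⟩]

theorem t9_73_9 : jobs 8 S9 b8_73 j9_73_9 = true := by decide +kernel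

noncomputable def j9_73_10 : List Job := [
  ⟨31, 0x6e172ba5daf17abe5fd84c46433d80c66533424160d07c20140c0741e0d058240e0501, 0, 512, 0x0, []⟩]

theorem t9_73_10 : jobs 8 S9 b8_73 j9_73_10 = true := by decide +kernel

noncomputable def j9_73_11 : List Job := [
  ⟨30, 0x6e172ba5daf17abe5fde0f27a3d9f0fa7e3fd28964c26d20924e27d108a4623d00824221c24160d07c20140c0741e0d058240e0501, 0, 512, 0x0, []⟩]

theorem t9_73_11 : jobs 8 S9 b8_73 j9_73_11 = true := by decide +kernel

noncomputable def j9_73_12 : List Job := [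
  ⟨29, 0x6e172ba5daf17abe5fc24160d07c20140c0741e0d058240e0501, 0, 512, 0x0, []⟩]

theorem t9_73_12 : jobs 8 S9 b8_73 j9_73_12 = true := by decide +kernel

noncomputable def j9_73_13 : List Job := [
  ⟨28, 0x6a152aa55ab15aae57c24160d07c20140c0741e0d058240e0501, 0, 512, 0x0, []⟩]

theorem t9_73_13 : jobs 8 S9 b8_73 j9_73_13 = true := by decide +kernel

noncomputable def j9_73_14 : List Job := [
  ⟨27, 0x6e172ba5daf17abe5fde0f27a3d9f0fa7e3fd80c26231990ca6633d20924a259309a4e27d108a4623d00824221c24160d07c20140c0741e0d058240e0501, 0, 512, 0x0, []⟩]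

theorem t9_73_14 : jobs 8 S9 b8_73 j9_73_14 = true := by decide +kernel

noncomputable def j9_73_15 : List Job := [
  ⟨26, 0x6a152aa55ab15aae57de0f27a3d9f0fa7e3fd80c26231990ca6633d20924a259309a4e27d108a4623d00824221c24160d07c20140c0741e0d058240e0501, 0, 512, 0x0, []⟩]

theorem t9_73_15 : jobs 8 S9 b8_73 j9_73_15 = true := by decide +kernel

noncomputable def j9_73_16 : List Job := [
  ⟨25, 0x6a152aa55ab15aae57c24160d07c20140c0741e0d058240e0501, 0, 512, 0x0, []⟩]

theorem t9_73_16 : jobs 8 S9 b8_73 j9_73_16 = true := by decide +kernel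

noncomputable def j9_73_17 : List Job := [
  ⟨24, 0x6e574bc5fee176bd5f424160d07c20140c0741e0d058240e0501, 0, 512, 0x0, []⟩]

theorem t9_73_17 : jobs 8 S9 b8_73 j9_73_17 = true := by decide +kernel

noncomputable def j9_73_18 : List Job := [
  ⟨23, 0x6e172ba5daf17abe5fea152aa55ab15aae57c24160d07c20140c0741e0d058240e0501, 0, 512, 0x0, []⟩]

theorem t9_73_18 : jobs 8 S9 b8_73 j9_73_18 = true := by decide +kernel

noncomputable def j9_73_19 : List Job := [
  ⟨22, 0x6e172ba5daf17abe5fea554ac57ea156ad57424160d07c20140c0741e0d058240e0501, 0, 512, 0x0, []⟩]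

theorem t9_73_19 : jobs 8 S9 b8_73 j9_73_19 = true := by decide +kernel

noncomputable def j9_73_20 : List Job := [
  ⟨21, 0x424160d07c20140c0741e0d058240e0501, 0, 512, 0x0, []⟩]

theorem t9_73_20 : jobs 8 S9 b8_73 j9_73_20 = true := by decide +kernel

noncomputable def j9_73_21 : List Job := [
  ⟨20, 0x641229249a512a964bd20924a259309a4e27c24160d07c20140c0741e0d058240e0501, 0, 512, 0x0, []⟩]

theorem t9_73_21 : jobs 8 S9 b8_73 j9_73_21 = true := by decide +kernel

noncomputable def j9_73_22 : List Job := [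
  ⟨19, 0x641229249a512a964bde0f27a3d9f0fa7e3fd80c26231990ca6633d08864623d00824422c24160d07c20140c0741e0d058240e0501, 0, 512, 0x0, []⟩]

theorem t9_73_22 : jobs 8 S9 b8_73 j9_73_22 = true := by decide +kernel

noncomputable def j9_73_23 : List Job := [
  ⟨18, 0x641229249a512a964bde0f27a3d9f0fa7e3fd84c46433d80c66533520924a259309a4e27c24160d07c20140c0741e0d058240e0501, 0, 512, 0x0, []⟩]

theorem t9_73_23 : jobs 8 S9 b8_73 j9_73_23 = true := by decide +kernel

noncomputable def j9_73_24 : List Job := [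
  ⟨17, 0x6c162b259ad16ab65be8142a251a914aa653e61329a4da713a9e4fe21128a45a311a8e47e01028241a110a8643de0f27a3d9f0fa7e3fd84c46433d80c66533520924a259309a4e27c24160d07c20140c0741e0d058240e0501, 243, 269, 0x0, []⟩]

theorem t9_73_24 : jobs 8 S9 b8_73 j9_73_24 = true := by decide +kernel

noncomputable def j9_73_25 : List Job := [
  ⟨17, 0x6c162b259ad16ab65be8142a251a914aa653e61329a4da713a9e4fe21128a45a311a8e47e01028241a110a8643de0f27a3d9f0fa7e3fd84c46433d80c66533520924a259309a4e27c24160d07c20140c0741e0d058240e0501, 0, 243, 0x0, []⟩]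

theorem t9_73_25 : jobs 8 S9 b8_73 j9_73_25 = true := by decide +kernel

noncomputable def j9_73_26 : List Job := [
  ⟨16, 0x641229249a512a964bd08864623d00824422c24160d07c20140c0741e0d058240e0501, 0, 512, 0x0, []⟩]

theorem t9_73_26 : jobs 8 S9 b8_73 j9_73_26 = true := by decide +kernel

noncomputable def j9_73_27 : List Job := [
  ⟨15, 0x6c966b45aec162b65be61329a4da713a9e4fd20924a259309a4e27c24160d07c20140c0741e0d058240e0501, 0, 512, 0x0, []⟩]

theorem t9_73_27 : jobs 8 S9 b8_73 j9_73_27 = true := by decide +kernel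

noncomputable def j9_73_28 : List Job := [
  ⟨14, 0x68142a251a914aa653e61329a4da713a9e4fd08864623d00824422c24160d07c20140c0741e0d058240e0501, 0, 512, 0x0, []⟩]

theorem t9_73_28 : jobs 8 S9 b8_73 j9_73_28 = true := by decide +kernel

noncomputable def j9_73_29 : List Job := [
  ⟨13, 0x641229249a512a964bdf0fa7e3fde0f27a3dd20924a259309a4e27c24160d07c20140c0741e0d058240e0501, 0, 512, 0x0, []⟩]

theorem t9_73_29 : jobs 8 S9 b8_73 j9_73_29 = true := by decide +kernel

noncomputable def j9_73_30 : List Job := [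
  ⟨12, 0x641229249a512a964bd80c26231990ca6633d08864623d00824422c24160d07c20140c0741e0d058240e0501, 0, 512, 0x0, []⟩]

theorem t9_73_30 : jobs 8 S9 b8_73 j9_73_30 = true := by decide +kernel

noncomputable def j9_73_31 : List Job := [
  ⟨11, 0x641229249a512a964bd80c26231990ca6633d20924a259309a4e27c24160d07c20140c0741e0d058240e0501, 0, 512, 0x0, []⟩]

theorem t9_73_31 : jobs 8 S9 b8_73 j9_73_31 = true := by decide +kernel

noncomputable def j9_73_32 : List Job := [
  ⟨10, 0x6c162b259ad16ab65be8142a251a914aa653e61329a4da713a9e4fe21128a45a311a8e47e01028241a110a8643d80c26231990ca6633d20924a259309a4e27c24160d07c20140c0741e0d058240e0501, 0, 512, 0x0, []⟩]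

theorem t9_73_32 : jobs 8 S9 b8_73 j9_73_32 = true := by decide +kernel

noncomputable def j9_73_33 : List Job := [
  ⟨9, 0x641229249a512a964bde0f27a3d9f0fa7e3fd08864623d00824422c24160d07c20140c0741e0d058240e0501, 0, 512, 0x0, []⟩]

theorem t9_73_33 : jobs 8 S9 b8_73 j9_73_33 = true := by decide +kernel

noncomputable def j9_73_34 : List Job := [
  ⟨8, 0x6c162b259ad16ab65be8142a251a914aa653e61329a4da713a9e4fe21128a45a311a8e47e01028241a110a8643de0f27a3d9f0fa7e3fd08864623d00824422c24160d07c20140c0741e0d058240e0501, 237, 275, 0x0, []⟩]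

theorem t9_73_34 : jobs 8 S9 b8_73 j9_73_34 = true := by decide +kernel

noncomputable def j9_73_35 : List Job := [
  ⟨8, 0x6c162b259ad16ab65be8142a251a914aa653e61329a4da713a9e4fe21128a45a311a8e47e01028241a110a8643de0f27a3d9f0fa7e3fd08864623d00824422c24160d07c20140c0741e0d058240e0501, 0, 237, 0x0, []⟩]

theorem t9_73_35 : jobs 8 S9 b8_73 j9_73_35 = true := by decide +kernel

noncomputable def j9_73_36 : List Job := [
  ⟨7, 0x6c162b259ad16ab65be914aa653e8142a251e41229249a512a964bd80c26231990ca6633d20924a259309a4e27c24160d07c20140c0741e0d058240e0501, 0, 512, 0x0, []⟩]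

theorem t9_73_36 : jobs 8 S9 b8_73 j9_73_36 = true := by decide +kernel

noncomputable def j9_73_37 : List Job := [
  ⟨6, 0x6c162b259ad16ab65be914aa653e8142a251e41229249a512a964bde0f27a3d9f0fa7e3fd08864623d00824422c24160d07c20140c0741e0d058240e0501, 0, 512, 0x0, []⟩]

theorem t9_73_37 : jobs 8 S9 b8_73 j9_73_37 = true := by decide +kernel

noncomputable def j9_73_38 : List Job := [
  ⟨5, 0x6c966b45aec162b65be61329a4da713a9e4fde0f27a3d9f0fa7e3fd08864623d00824422c24160d07c20140c0741e0d058240e0501, 0, 512, 0x0, []⟩]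

theorem t9_73_38 : jobs 8 S9 b8_73 j9_73_38 = true := by decide +kernel

noncomputable def j9_73_39 : List Job := [
  ⟨4, 0x68142a251a914aa653e41229249a512a964be25148c47e21168d47601028241a110a8643de0f27a3d9f0fa7e3fd08864623d00824422c24160d07c20140c0741e0d058240e0501, 0, 512, 0x0, []⟩]

theorem t9_73_39 : jobs 8 S9 b8_73 j9_73_39 = true := by decide +kernel

noncomputable def j9_73_40 : List Job := [
  ⟨3, 0x68142a251a914aa653e61329a4da713a9e4fd80c26231990ca6633d20924a259309a4e27c24160d07c20140c0741e0d058240e0501, 0, 512, 0x0, []⟩]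

theorem t9_73_40 : jobs 8 S9 b8_73 j9_73_40 = true := by decide +kernel

noncomputable def j9_73_41 : List Job := [
  ⟨2, 0x6c162b259ad16ab65be41229249a512a964be21128a45a311a8e47e110a8643e01028241d80c26231990ca6633d20924a259309a4e27c24160d07c20140c0741e0d058240e0501, 0, 512, 0x0, []⟩]

theorem t9_73_41 : jobs 8 S9 b8_73 j9_73_41 = true := by decide +kernel

noncomputable def j9_73_42 : List Job := [
  ⟨1, 0x68142a251a914aa653e61329a4da713a9e4fde0f27a3d9f0fa7e3fd08864623d00824422c24160d07c20140c0741e0d058240e0501, 0, 512, 0x0, []⟩]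

theorem t9_73_42 : jobs 8 S9 b8_73 j9_73_42 = true := by decide +kernel

noncomputable def j9_73_43 : List Job := [
  ⟨0, 0x641229249a512a964bde0f27a3d9f0fa7e3fc24160d07c20140c0741e0d058240e0501, 0, 512, 0x0, []⟩]

theorem t9_73_43 : jobs 8 S9 b8_73 j9_73_43 = true := by decide +kernel

theorem d9_73 : Dn 8 S9 b8_73 := dn_of (Js := j9_73_0 ++ (j9_73_1 ++ (j9_73_2 ++ (j9_73_3 ++ (j9_73_4 ++ (j9_73_5 ++ (j9_73_6 ++ (j9_73_7 ++ (j9_73_8 ++ (j9_73_9 ++ (j9_73_10 ++ (j9_73_11 ++ (j9_73_12 ++ (j9_73_13 ++ (j9_73_14 ++ (j9_73_15 ++ (j9_73_16 ++ (j9_73_17 ++ (j9_73_18 ++ (j9_73_19 ++ (j9_73_20 ++ (j9_73_21 ++ (j9_73_22 ++ (j9_73_23 ++ (j9_73_24 ++ (j9_73_25 ++ (j9_73_26 ++ (j9_73_27 ++ (j9_73_28 ++ (j9_73_29 ++ (j9_73_30 ++ (j9_73_31 ++ (j9_73_32 ++ (j9_73_33 ++ (j9_73_34 ++ (j9_73_35 ++ (j9_73_36 ++ (j9_73_37 ++ (j9_73_38 ++ (j9_73_39 ++ (j9_73_40 ++ (j9_73_41 ++ (j9_73_42 ++ (j9_73_43 ++ []))))))))))))))))))))))))))))))))))))))))))))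
  (jobs_append t9_73_0 <| jobs_append t9_73_1 <| jobs_append t9_73_2 <| jobs_append t9_73_3 <| jobs_append t9_73_4 <| jobs_append t9_73_5 <| jobs_append t9_73_6 <| jobs_append t9_73_7 <| jobs_append t9_73_8 <| jobs_append t9_73_9 <| jobs_append t9_73_10 <| jobs_append t9_73_11 <| jobs_append t9_73_12 <| jobs_append t9_73_13 <| jobs_append t9_73_14 <| jobs_append t9_73_15 <| jobs_append t9_73_16 <| jobs_append t9_73_17 <| jobs_append t9_73_18 <| jobs_append t9_73_19 <| jobs_append t9_73_20 <| jobs_append t9_73_21 <| jobs_append t9_73_22 <| jobs_append t9_73_23 <| jobs_append t9_73_24 <| jobs_append t9_73_25 <| jobs_append t9_73_26 <| jobs_append t9_73_27 <| jobs_append t9_73_28 <| jobs_append t9_73_29 <| jobs_append t9_73_30 <| jobs_append t9_73_31 <| jobs_append t9_73_32 <| jobs_append t9_73_33 <| jobs_append t9_73_34 <| jobs_append t9_73_35 <| jobs_append t9_73_36 <| jobs_append t9_73_37 <| jobs_append t9_73_38 <| jobs_append t9_73_39 <| jobs_append t9_73_40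 <| jobs_append t9_73_41 <| jobs_append t9_73_42 <| jobs_append t9_73_43 <| List.forall_mem_nil _) (by decide +kernel)

end Cfsg.Agent.FS.N.Sw
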