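import Cfsg.Agent.FS.N.Sw.Seg
import Cfsg.Agent.FS.N.G.S9
import Cfsg.Agent.FS.N.G.L.L04
import Cfsg.Agent.FS.N.G.L.L05
import Cfsg.Agent.FS.N.G.L.L06
import Cfsg.Agent.FS.N.G.L.L07
import Cfsg.Agent.FS.N.G.L.L08
import Cfsg.Agent.FS.N.G.L.L09
import Cfsg.Agent.FS.N.G.L.L10
import Cfsg.Agent.FS.N.G.L.L11
import Cfsg.Agent.FS.N.G.L.L12
import Cfsg.Agent.FS.N.G.L.L13
import Cfsg.Agent.FS.N.G.L.L14

/-! The filter on the pairs for the order 512, part 30 (generated; helper52, project FS) -/

set_option autoImplicit false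
set_option maxRecDepth 100000
set_option Elab.async false

namespace Cfsg.Agent.FS.N.Sw

open G

theorem d9_74 : Dn 8 S9 b8_74 := dn_of (Js := [])
  (List.forall_mem_nil _) (by decide +kernel)

theorem d9_75 : Dn 8 S9 b8_75 := dn_of (Js := [])
  (List.forall_mem_nil _) (by decide +kernel)

theorem d9_76 : Dn 8 S9 b8_76 := dn_of (Js := [])
  (List.forall_mem_nil _) (by decide +kernel)

theorem d9_77 : Dn 8 S9 b8_77 := dn_of (Js := [])
  (List.forall_mem_nil _) (by decide +kernel)

theorem d9_78 : Dn 8 S9 b8_78 := dn_of (Js := [])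
  (List.forall_mem_nil _) (by decide +kernel)

theorem d9_79 : Dn 8 S9 b8_79 := dn_of (Js := [])
  (List.forall_mem_nil _) (by decide +kernel)

theorem d9_80 : Dn 8 S9 b8_80 := dn_of (Js := [])
  (List.forall_mem_nil _) (by decide +kernel)

theorem d9_81 : Dn 8 S9 b8_81 := dn_of (Js := [])
  (List.forall_mem_nil _) (by decide +kernel)

theorem d9_82 : Dn 8 S9 b8_82 := dn_of (Js := [])
  (List.forall_mem_nil _) (by decide +kernel)

theorem d9_83 : Dn 8 S9 b8_83 := dn_of (Js := [])
  (List.forall_mem_nil _) (by decide +kernel)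

theorem d9_84 : Dn 8 S9 b8_84 := dn_of (Js := [])
  (List.forall_mem_nil _) (by decide +kernel)

theorem d9_85 : Dn 8 S9 b8_85 := dn_of (Js := [])
  (List.forall_mem_nil _) (by decide +kernel)

noncomputable def j9_86_0 : List Job := [
  ⟨55, 0x7e9f6fe7ffe1f2fc7efc9e6f67bfc1e2f47ae21128a45a311a8e47e01028241a110a8643c703a1e0fc60321a0dc502a160bc40221209c3e1d0d8642e15098441e0d058240e0501, 0, 9, 0x201000601000801, []⟩]

theorem t9_86_0 : jobs 8 S9 b8_86 j9_86_0 = true := by decide +kernel

noncomputable def j9_86_1 : List Job := [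
  ⟨36, 0x4a4562c174a0542d17c84462413480442513c3e1d0d8642e15098441e0d058240e0501, 0, 5, 0x201000401000601000801000a01, []⟩]

theorem t9_86_1 : jobs 8 S9 b8_86 j9_86_1 = true := by decide +kernel

theorem d9_86 : Dn 8 S9 b8_86 := dn_of (Js := j9_86_0 ++ (j9_86_1 ++ []))
  (jobs_append t9_86_0 <| jobs_append t9_86_1 <| List.forall_mem_nil _) (by decide +kernel)

theorem d9_87 : Dn 8 S9 b8_87 := dn_of (Js := [])
  (List.forall_mem_nil _) (by decide +kernel)

theorem d9_88 : Dn 8 S9 b8_88 := dn_of (Js := [])
  (List.forall_mem_nil _) (by decide +kernel)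

theorem d9_89 : Dn 8 S9 b8_89 := dn_of (Js := [])
  (List.forall_mem_nil _) (by decide +kernel)

theorem d9_90 : Dn 8 S9 b8_90 := dn_of (Js := [])
  (List.forall_mem_nil _) (by decide +kernel)

noncomputable def j9_91_0 : List Job := [
  ⟨13, 0x7e5f4fc7ffe1f6fd7f621128a45a311a8e47e01028241a110a8643ce0723a1d8f07a3e1fcc06232198d06a361bc88462613c80422412c703a1e0fc60321a0dc502a160bc40221209c1e0d058240e0501, 0, 10, 0x601000801, []⟩]

theorem t9_91_0 : jobs 8 S9 b8_91 j9_91_0 = true := by decide +kernel

theorem d9_91 : Dn 8 S9 b8_91 := dn_of (Js := j9_91_0 ++ [])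
  (jobs_append t9_91_0 <| List.forall_mem_nil _) (by decide +kernel)

theorem d9_92 : Dn 8 S9 b8_92 := dn_of (Js := [])
  (List.forall_mem_nil _) (by decide +kernel)

theorem d9_93 : Dn 8 S9 b8_93 := dn_of (Js := [])
  (List.forall_mem_nil _) (by decide +kernel)

theorem d9_94 : Dn 8 S9 b8_94 := dn_of (Js := [])
  (List.forall_mem_nil _) (by decide +kernel)

theorem d9_95 : Dn 8 S9 b8_95 := dn_of (Js := [])
  (List.forall_mem_nil _) (by decide +kernel)

theorem d9_96 : Dn 8 S9 b8_96 := dn_of (Js := [])
  (List.forall_mem_nil _) (by decide +kernel)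

theorem d9_97 : Dn 8 S9 b8_97 := dn_of (Js := [])
  (List.forall_mem_nil _) (by decide +kernel)

theorem d9_98 : Dn 8 S9 b8_98 := dn_of (Js := [])
  (List.forall_mem_nil _) (by decide +kernel)

theorem d9_99 : Dn 8 S9 b8_99 := dn_of (Js := [])
  (List.forall_mem_nil _) (by decide +kernel)

theorem d9_100 : Dn 8 S9 b8_100 := dn_of (Js := [])
  (List.forall_mem_nil _) (by decide +kernel)

theorem d9_101 : Dn 8 S9 b8_101 := dn_of (Js := [])
  (List.forall_mem_nil _) (by decide +kernel)

theorem d9_102 : Dn 8 S9 b8_102 := dn_of (Js := [])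
  (List.forall_mem_nil _) (by decide +kernel)

theorem d9_103 : Dn 8 S9 b8_103 := dn_of (Js := [])
  (List.forall_mem_nil _) (by decide +kernel)

theorem d9_104 : Dn 8 S9 b8_104 := dn_of (Js := [])
  (List.forall_mem_nil _) (by decide +kernel)

theorem d9_105 : Dn 8 S9 b8_105 := dn_of (Js := [])
  (List.forall_mem_nil _) (by decide +kernel)

theorem d9_106 : Dn 8 S9 b8_106 := dn_of (Js := [])
  (List.forall_mem_nil _) (by decide +kernel)

theorem d9_107 : Dn 8 S9 b8_107 := dn_of (Js := [])
  (List.forall_mem_nil _) (by decide +kernel)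

theorem d9_108 : Dn 8 S9 b8_108 := dn_of (Js := [])
  (List.forall_mem_nil _) (by decide +kernel)

theorem d9_109 : Dn 8 S9 b8_109 := dn_of (Js := [])
  (List.forall_mem_nil _) (by decide +kernel)

theorem d9_110 : Dn 8 S9 b8_110 := dn_of (Js := [])
  (List.forall_mem_nil _) (by decide +kernel)

theorem d9_111 : Dn 8 S9 b8_111 := dn_of (Js := [])
  (List.forall_mem_nil _) (by decide +kernel)

theorem d9_112 : Dn 8 S9 b8_112 := dn_of (Js := [])
  (List.forall_mem_nil _) (by decide +kernel)

theorem d9_113 : Dn 8 S9 b8_113 := dn_of (Js := [])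
  (List.forall_mem_nil _) (by decide +kernel)

theorem d9_114 : Dn 8 S9 b8_114 := dn_of (Js := [])
  (List.forall_mem_nil _) (by decide +kernel)

theorem d9_115 : Dn 8 S9 b8_115 := dn_of (Js := [])
  (List.forall_mem_nil _) (by decide +kernel)

noncomputable def j9_116_0 : List Job := [
  ⟨43, 0x7e1f2fa7dbf1fafe7ffc1e2f279bd1eaf67be61329a4da713a9e4fe41229249a512a964bc84442513480462413c68361e0fc60321c0ec4826160bc4022140ac1e0d058240e0501, 0, 7, 0x401, []⟩]

theorem t9_116_0 : jobs 8 S9 b8_116 j9_116_0 = true := by decide +kernel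

theorem d9_116 : Dn 8 S9 b8_116 := dn_of (Js := j9_116_0 ++ [])
  (jobs_append t9_116_0 <| List.forall_mem_nil _) (by decide +kernel)

theorem d9_117 : Dn 8 S9 b8_117 := dn_of (Js := [])
  (List.forall_mem_nil _) (by decide +kernel)

theorem d9_118 : Dn 8 S9 b8_118 := dn_of (Js := [])
  (List.forall_mem_nil _) (by decide +kernel)

theorem d9_119 : Dn 8 S9 b8_119 := dn_of (Js := [])
  (List.forall_mem_nil _) (by decide +kernel)

theorem d9_120 : Dn 8 S9 b8_120 := dn_of (Js := [])
  (List.forall_mem_nil _) (by decide +kernel)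

theorem d9_121 : Dn 8 S9 b8_121 := dn_of (Js := [])
  (List.forall_mem_nil _) (by decide +kernel)

theorem d9_122 : Dn 8 S9 b8_122 := dn_of (Js := [])
  (List.forall_mem_nil _) (by decide +kernel)

theorem d9_123 : Dn 8 S9 b8_123 := dn_of (Js := [])
  (List.forall_mem_nil _) (by decide +kernel)

theorem d9_124 : Dn 8 S9 b8_124 := dn_of (Js := [])
  (List.forall_mem_nil _) (by decide +kernel)

theorem d9_125 : Dn 8 S9 b8_125 := dn_of (Js := [])
  (List.forall_mem_nil _) (by decide +kernel)

theorem d9_126 : Dn 8 S9 b8_126 := dn_of (Js := [])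
  (List.forall_mem_nil _) (by decide +kernel)

theorem d9_127 : Dn 8 S9 b8_127 := dn_of (Js := [])
  (List.forall_mem_nil _) (by decide +kernel)

theorem d9_128 : Dn 8 S9 b8_128 := dn_of (Js := [])
  (List.forall_mem_nil _) (by decide +kernel)

theorem d9_129 : Dn 8 S9 b8_129 := dn_of (Js := [])
  (List.forall_mem_nil _) (by decide +kernel)

theorem d9_130 : Dn 8 S9 b8_130 := dn_of (Js := [])
  (List.forall_mem_nil _) (by decide +kernel)

theorem d9_131 : Dn 8 S9 b8_131 := dn_of (Js := [])
  (List.forall_mem_nil _) (by decide +kernel)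

theorem d9_132 : Dn 8 S9 b8_132 := dn_of (Js := [])
  (List.forall_mem_nil _) (by decide +kernel)

theorem d9_133 : Dn 8 S9 b8_133 := dn_of (Js := [])
  (List.forall_mem_nil _) (by decide +kernel)

theorem d9_134 : Dn 8 S9 b8_134 := dn_of (Js := [])
  (List.forall_mem_nil _) (by decide +kernel)

theorem d9_135 : Dn 8 S9 b8_135 := dn_of (Js := [])
  (List.forall_mem_nil _) (by decide +kernel)

theorem d9_136 : Dn 8 S9 b8_136 := dn_of (Js := [])
  (List.forall_mem_nil _) (by decide +kernel)

theorem d9_137 : Dn 8 S9 b8_137 := dn_of (Js := [])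
  (List.forall_mem_nil _) (by decide +kernel)

theorem d9_138 : Dn 8 S9 b8_138 := dn_of (Js := [])
  (List.forall_mem_nil _) (by decide +kernel)

theorem d9_139 : Dn 8 S9 b8_139 := dn_of (Js := [])
  (List.forall_mem_nil _) (by decide +kernel)

theorem d9_140 : Dn 8 S9 b8_140 := dn_of (Js := [])
  (List.forall_mem_nil _) (by decide +kernel)

theorem d9_141 : Dn 8 S9 b8_141 := dn_of (Js := [])
  (List.forall_mem_nil _) (by decide +kernel)

theorem d9_142 : Dn 8 S9 b8_142 := dn_of (Js := [])
  (List.forall_mem_nil _) (by decide +kernel)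

theorem d9_143 : Dn 8 S9 b8_143 := dn_of (Js := [])
  (List.forall_mem_nil _) (by decide +kernel)

theorem d9_144 : Dn 8 S9 b8_144 := dn_of (Js := [])
  (List.forall_mem_nil _) (by decide +kernel)

theorem d9_145 : Dn 8 S9 b8_145 := dn_of (Js := [])
  (List.forall_mem_nil _) (by decide +kernel)

theorem d9_146 : Dn 8 S9 b8_146 := dn_of (Js := [])
  (List.forall_mem_nil _) (by decide +kernel)

theorem d9_147 : Dn 8 S9 b8_147 := dn_of (Js := [])
  (List.forall_mem_nil _) (by decide +kernel)

theorem d9_148 : Dn 8 S9 b8_148 := dn_of (Js := [])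
  (List.forall_mem_nil _) (by decide +kernel)

theorem d9_149 : Dn 8 S9 b8_149 := dn_of (Js := [])
  (List.forall_mem_nil _) (by decide +kernel)

theorem d9_150 : Dn 8 S9 b8_150 := dn_of (Js := [])
  (List.forall_mem_nil _) (by decide +kernel)

theorem d9_151 : Dn 8 S9 b8_151 := dn_of (Js := [])
  (List.forall_mem_nil _) (by decide +kernel)

theorem d9_152 : Dn 8 S9 b8_152 := dn_of (Js := [])
  (List.forall_mem_nil _) (by decide +kernel)

theorem d9_153 : Dn 8 S9 b8_153 := dn_of (Js := [])
  (List.forall_mem_nil _) (by decide +kernel)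

theorem d9_154 : Dn 8 S9 b8_154 := dn_of (Js := [])
  (List.forall_mem_nil _) (by decide +kernel)

theorem d9_155 : Dn 8 S9 b8_155 := dn_of (Js := [])
  (List.forall_mem_nil _) (by decide +kernel)

theorem d9_156 : Dn 8 S9 b8_156 := dn_of (Js := [])
  (List.forall_mem_nil _) (by decide +kernel)

theorem d9_157 : Dn 8 S9 b8_157 := dn_of (Js := [])
  (List.forall_mem_nil _) (by decide +kernel)

theorem d9_158 : Dn 8 S9 b8_158 := dn_of (Js := [])
  (List.forall_mem_nil _) (by decide +kernel)

theorem d9_159 : Dn 8 S9 b8_159 := dn_of (Js := [])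
  (List.forall_mem_nil _) (by decide +kernel)

theorem d9_160 : Dn 8 S9 b8_160 := dn_of (Js := [])
  (List.forall_mem_nil _) (by decide +kernel)

theorem d9_161 : Dn 8 S9 b8_161 := dn_of (Js := [])
  (List.forall_mem_nil _) (by decide +kernel)

theorem d9_162 : Dn 8 S9 b8_162 := dn_of (Js := [])
  (List.forall_mem_nil _) (by decide +kernel)

theorem d9_163 : Dn 8 S9 b8_163 := dn_of (Js := [])
  (List.forall_mem_nil _) (by decide +kernel)

theorem d9_164 : Dn 8 S9 b8_164 := dn_of (Js := [])
  (List.forall_mem_nil _) (by decide +kernel)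

theorem d9_165 : Dn 8 S9 b8_165 := dn_of (Js := [])
  (List.forall_mem_nil _) (by decide +kernel)

theorem d9_166 : Dn 8 S9 b8_166 := dn_of (Js := [])
  (List.forall_mem_nil _) (by decide +kernel)

theorem d9_167 : Dn 8 S9 b8_167 := dn_of (Js := [])
  (List.forall_mem_nil _) (by decide +kernel)

theorem d9_168 : Dn 8 S9 b8_168 := dn_of (Js := [])
  (List.forall_mem_nil _) (by decide +kernel)

theorem d9_169 : Dn 8 S9 b8_169 := dn_of (Js := [])
  (List.forall_mem_nil _) (by decide +kernel)

theorem d9_170 : Dn 8 S9 b8_170 := dn_of (Js := [])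
  (List.forall_mem_nil _) (by decide +kernel)

theorem d9_171 : Dn 8 S9 b8_171 := dn_of (Js := [])
  (List.forall_mem_nil _) (by decide +kernel)

theorem d9_172 : Dn 8 S9 b8_172 := dn_of (Js := [])
  (List.forall_mem_nil _) (by decide +kernel)

theorem d9_173 : Dn 8 S9 b8_173 := dn_of (Js := [])
  (List.forall_mem_nil _) (by decide +kernel)

theorem d9_174 : Dn 8 S9 b8_174 := dn_of (Js := [])
  (List.forall_mem_nil _) (by decide +kernel)

theorem d9_175 : Dn 8 S9 b8_175 := dn_of (Js := [])
  (List.forall_mem_nil _) (by decide +kernel)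

theorem d9_176 : Dn 8 S9 b8_176 := dn_of (Js := [])
  (List.forall_mem_nil _) (by decide +kernel)

theorem d9_177 : Dn 8 S9 b8_177 := dn_of (Js := [])
  (List.forall_mem_nil _) (by decide +kernel)

theorem d9_178 : Dn 8 S9 b8_178 := dn_of (Js := [])
  (List.forall_mem_nil _) (by decide +kernel)

theorem d9_179 : Dn 8 S9 b8_179 := dn_of (Js := [])
  (List.forall_mem_nil _) (by decide +kernel)

theorem d9_180 : Dn 8 S9 b8_180 := dn_of (Js := [])
  (List.forall_mem_nil _) (by decide +kernel)

theorem d9_181 : Dn 8 S9 b8_181 := dn_of (Js := [])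
  (List.forall_mem_nil _) (by decide +kernel)

theorem d9_182 : Dn 8 S9 b8_182 := dn_of (Js := [])
  (List.forall_mem_nil _) (by decide +kernel)

theorem d9_183 : Dn 8 S9 b8_183 := dn_of (Js := [])
  (List.forall_mem_nil _) (by decide +kernel)

theorem d9_184 : Dn 8 S9 b8_184 := dn_of (Js := [])
  (List.forall_mem_nil _) (by decide +kernel)

theorem d9_185 : Dn 8 S9 b8_185 := dn_of (Js := [])
  (List.forall_mem_nil _) (by decide +kernel)

theorem d9_186 : Dn 8 S9 b8_186 := dn_of (Js := [])
  (List.forall_mem_nil _) (by decide +kernel)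

theorem d9_187 : Dn 8 S9 b8_187 := dn_of (Js := [])
  (List.forall_mem_nil _) (by decide +kernel)

theorem d9_188 : Dn 8 S9 b8_188 := dn_of (Js := [])
  (List.forall_mem_nil _) (by decide +kernel)

theorem d9_189 : Dn 8 S9 b8_189 := dn_of (Js := [])
  (List.forall_mem_nil _) (by decide +kernel)

theorem d9_190 : Dn 8 S9 b8_190 := dn_of (Js := [])
  (List.forall_mem_nil _) (by decide +kernel)

theorem d9_191 : Dn 8 S9 b8_191 := dn_of (Js := [])
  (List.forall_mem_nil _) (by decide +kernel)

theorem d9_192 : Dn 8 S9 b8_192 := dn_of (Js := [])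
  (List.forall_mem_nil _) (by decide +kernel)

theorem d9_193 : Dn 8 S9 b8_193 := dn_of (Js := [])
  (List.forall_mem_nil _) (by decide +kernel)

theorem d9_194 : Dn 8 S9 b8_194 := dn_of (Js := [])
  (List.forall_mem_nil _) (by decide +kernel)

theorem d9_195 : Dn 8 S9 b8_195 := dn_of (Js := [])
  (List.forall_mem_nil _) (by decide +kernel)

theorem d9_196 : Dn 8 S9 b8_196 := dn_of (Js := [])
  (List.forall_mem_nil _) (by decide +kernel)

theorem d9_197 : Dn 8 S9 b8_197 := dn_of (Js := [])
  (List.forall_mem_nil _) (by decide +kernel)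

theorem d9_198 : Dn 8 S9 b8_198 := dn_of (Js := [])
  (List.forall_mem_nil _) (by decide +kernel)

theorem d9_199 : Dn 8 S9 b8_199 := dn_of (Js := [])
  (List.forall_mem_nil _) (by decide +kernel)

theorem d9_200 : Dn 8 S9 b8_200 := dn_of (Js := [])
  (List.forall_mem_nil _) (by decide +kernel)

theorem d9_201 : Dn 8 S9 b8_201 := dn_of (Js := [])
  (List.forall_mem_nil _) (by decide +kernel)

theorem d9_202 : Dn 8 S9 b8_202 := dn_of (Js := [])
  (List.forall_mem_nil _) (by decide +kernel)

theorem d9_203 : Dn 8 S9 b8_203 := dn_of (Js := [])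
  (List.forall_mem_nil _) (by decide +kernel)

theorem d9_204 : Dn 8 S9 b8_204 := dn_of (Js := [])
  (List.forall_mem_nil _) (by decide +kernel)

theorem d9_205 : Dn 8 S9 b8_205 := dn_of (Js := [])
  (List.forall_mem_nil _) (by decide +kernel)

theorem d9_206 : Dn 8 S9 b8_206 := dn_of (Js := [])
  (List.forall_mem_nil _) (by decide +kernel)

theorem d9_207 : Dn 8 S9 b8_207 := dn_of (Js := [])
  (List.forall_mem_nil _) (by decide +kernel)

theorem d9_208 : Dn 8 S9 b8_208 := dn_of (Js := [])
  (List.forall_mem_nil _) (by decide +kernel)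

theorem d9_209 : Dn 8 S9 b8_209 := dn_of (Js := [])
  (List.forall_mem_nil _) (by decide +kernel)

theorem d9_210 : Dn 8 S9 b8_210 := dn_of (Js := [])
  (List.forall_mem_nil _) (by decide +kernel)

theorem d9_211 : Dn 8 S9 b8_211 := dn_of (Js := [])
  (List.forall_mem_nil _) (by decide +kernel)

theorem d9_212 : Dn 8 S9 b8_212 := dn_of (Js := [])
  (List.forall_mem_nil _) (by decide +kernel)

theorem d9_213 : Dn 8 S9 b8_213 := dn_of (Js := [])
  (List.forall_mem_nil _) (by decide +kernel)

theorem d9_214 : Dn 8 S9 b8_214 := dn_of (Js := [])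
  (List.forall_mem_nil _) (by decide +kernel)

theorem d9_215 : Dn 8 S9 b8_215 := dn_of (Js := [])
  (List.forall_mem_nil _) (by decide +kernel)

theorem d9_216 : Dn 8 S9 b8_216 := dn_of (Js := [])
  (List.forall_mem_nil _) (by decide +kernel)

theorem d9_217 : Dn 8 S9 b8_217 := dn_of (Js := [])
  (List.forall_mem_nil _) (by decide +kernel)

theorem d9_218 : Dn 8 S9 b8_218 := dn_of (Js := [])
  (List.forall_mem_nil _) (by decide +kernel)

theorem d9_219 : Dn 8 S9 b8_219 := dn_of (Js := [])
  (List.forall_mem_nil _) (by decide +kernel)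

theorem d9_220 : Dn 8 S9 b8_220 := dn_of (Js := [])
  (List.forall_mem_nil _) (by decide +kernel)

theorem d9_221 : Dn 8 S9 b8_221 := dn_of (Js := [])
  (List.forall_mem_nil _) (by decide +kernel)

theorem d9_222 : Dn 8 S9 b8_222 := dn_of (Js := [])
  (List.forall_mem_nil _) (by decide +kernel)

theorem d9_223 : Dn 8 S9 b8_223 := dn_of (Js := [])
  (List.forall_mem_nil _) (by decide +kernel)

theorem d9_224 : Dn 8 S9 b8_224 := dn_of (Js := [])
  (List.forall_mem_nil _) (by decide +kernel)

theorem d9_225 : Dn 8 S9 b8_225 := dn_of (Js := [])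
  (List.forall_mem_nil _) (by decide +kernel)

theorem d9_226 : Dn 8 S9 b8_226 := dn_of (Js := [])
  (List.forall_mem_nil _) (by decide +kernel)

theorem d9_227 : Dn 8 S9 b8_227 := dn_of (Js := [])
  (List.forall_mem_nil _) (by decide +kernel)

theorem d9_228 : Dn 8 S9 b8_228 := dn_of (Js := [])
  (List.forall_mem_nil _) (by decide +kernel)

theorem d9_229 : Dn 8 S9 b8_229 := dn_of (Js := [])
  (List.forall_mem_nil _) (by decide +kernel)

theorem d9_230 : Dn 8 S9 b8_230 := dn_of (Js := [])
  (List.forall_mem_nil _) (by decide +kernel)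

theorem d9_231 : Dn 8 S9 b8_231 := dn_of (Js := [])
  (List.forall_mem_nil _) (by decide +kernel)

theorem d9_232 : Dn 8 S9 b8_232 := dn_of (Js := [])
  (List.forall_mem_nil _) (by decide +kernel)

theorem d9_233 : Dn 8 S9 b8_233 := dn_of (Js := [])
  (List.forall_mem_nil _) (by decide +kernel)

theorem d9_234 : Dn 8 S9 b8_234 := dn_of (Js := [])
  (List.forall_mem_nil _) (by decide +kernel)

theorem d9_235 : Dn 8 S9 b8_235 := dn_of (Js := [])
  (List.forall_mem_nil _) (by decide +kernel)

theorem d9_236 : Dn 8 S9 b8_236 := dn_of (Js := [])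
  (List.forall_mem_nil _) (by decide +kernel)

theorem d9_237 : Dn 8 S9 b8_237 := dn_of (Js := [])
  (List.forall_mem_nil _) (by decide +kernel)

theorem d9_238 : Dn 8 S9 b8_238 := dn_of (Js := [])
  (List.forall_mem_nil _) (by decide +kernel)

theorem d9_239 : Dn 8 S9 b8_239 := dn_of (Js := [])
  (List.forall_mem_nil _) (by decide +kernel)

theorem d9_240 : Dn 8 S9 b8_240 := dn_of (Js := [])
  (List.forall_mem_nil _) (by decide +kernel)

theorem d9_241 : Dn 8 S9 b8_241 := dn_of (Js := [])
  (List.forall_mem_nil _) (by decide +kernel)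

theorem d9_242 : Dn 8 S9 b8_242 := dn_of (Js := [])
  (List.forall_mem_nil _) (by decide +kernel)

theorem d9_243 : Dn 8 S9 b8_243 := dn_of (Js := [])
  (List.forall_mem_nil _) (by decide +kernel)

theorem d9_244 : Dn 8 S9 b8_244 := dn_of (Js := [])
  (List.forall_mem_nil _) (by decide +kernel)

theorem d9_245 : Dn 8 S9 b8_245 := dn_of (Js := [])
  (List.forall_mem_nil _) (by decide +kernel)

theorem d9_246 : Dn 8 S9 b8_246 := dn_of (Js := [])
  (List.forall_mem_nil _) (by decide +kernel)

theorem d9_247 : Dn 8 S9 b8_247 := dn_of (Js := [])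
  (List.forall_mem_nil _) (by decide +kernel)

theorem d9_248 : Dn 8 S9 b8_248 := dn_of (Js := [])
  (List.forall_mem_nil _) (by decide +kernel)

theorem d9_249 : Dn 8 S9 b8_249 := dn_of (Js := [])
  (List.forall_mem_nil _) (by decide +kernel)

theorem d9_250 : Dn 8 S9 b8_250 := dn_of (Js := [])
  (List.forall_mem_nil _) (by decide +kernel)

theorem d9_251 : Dn 8 S9 b8_251 := dn_of (Js := [])
  (List.forall_mem_nil _) (by decide +kernel)

theorem d9_252 : Dn 8 S9 b8_252 := dn_of (Js := [])
  (List.forall_mem_nil _) (by decide +kernel)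

theorem d9_253 : Dn 8 S9 b8_253 := dn_of (Js := [])
  (List.forall_mem_nil _) (by decide +kernel)

theorem d9_254 : Dn 8 S9 b8_254 := dn_of (Js := [])
  (List.forall_mem_nil _) (by decide +kernel)

theorem d9_255 : Dn 8 S9 b8_255 := dn_of (Js := [])
  (List.forall_mem_nil _) (by decide +kernel)

theorem d9_256 : Dn 8 S9 b8_256 := dn_of (Js := [])
  (List.forall_mem_nil _) (by decide +kernel)

theorem d9_257 : Dn 8 S9 b8_257 := dn_of (Js := [])
  (List.forall_mem_nil _) (by decide +kernel)

theorem d9_258 : Dn 8 S9 b8_258 := dn_of (Js := [])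
  (List.forall_mem_nil _) (by decide +kernel)

theorem d9_259 : Dn 8 S9 b8_259 := dn_of (Js := [])
  (List.forall_mem_nil _) (by decide +kernel)

theorem d9_260 : Dn 8 S9 b8_260 := dn_of (Js := [])
  (List.forall_mem_nil _) (by decide +kernel)

theorem d9_261 : Dn 8 S9 b8_261 := dn_of (Js := [])
  (List.forall_mem_nil _) (by decide +kernel)

theorem d9_262 : Dn 8 S9 b8_262 := dn_of (Js := [])
  (List.forall_mem_nil _) (by decide +kernel)

theorem d9_263 : Dn 8 S9 b8_263 := dn_of (Js := [])
  (List.forall_mem_nil _) (by decide +kernel)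

theorem d9_264 : Dn 8 S9 b8_264 := dn_of (Js := [])
  (List.forall_mem_nil _) (by decide +kernel)

theorem d9_265 : Dn 8 S9 b8_265 := dn_of (Js := [])
  (List.forall_mem_nil _) (by decide +kernel)

theorem d9_266 : Dn 8 S9 b8_266 := dn_of (Js := [])
  (List.forall_mem_nil _) (by decide +kernel)

theorem d9_267 : Dn 8 S9 b8_267 := dn_of (Js := [])
  (List.forall_mem_nil _) (by decide +kernel)

theorem d9_268 : Dn 8 S9 b8_268 := dn_of (Js := [])
  (List.forall_mem_nil _) (by decide +kernel)

theorem d9_269 : Dn 8 S9 b8_269 := dn_of (Js := [])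
  (List.forall_mem_nil _) (by decide +kernel)

theorem d9_270 : Dn 8 S9 b8_270 := dn_of (Js := [])
  (List.forall_mem_nil _) (by decide +kernel)

theorem d9_271 : Dn 8 S9 b8_271 := dn_of (Js := [])
  (List.forall_mem_nil _) (by decide +kernel)

theorem d9_272 : Dn 8 S9 b8_272 := dn_of (Js := [])
  (List.forall_mem_nil _) (by decide +kernel)

theorem d9_273 : Dn 8 S9 b8_273 := dn_of (Js := [])
  (List.forall_mem_nil _) (by decide +kernel)

theorem d9_274 : Dn 8 S9 b8_274 := dn_of (Js := [])
  (List.forall_mem_nil _) (by decide +kernel)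

theorem d9_275 : Dn 8 S9 b8_275 := dn_of (Js := [])
  (List.forall_mem_nil _) (by decide +kernel)

theorem d9_276 : Dn 8 S9 b8_276 := dn_of (Js := [])
  (List.forall_mem_nil _) (by decide +kernel)

theorem d9_277 : Dn 8 S9 b8_277 := dn_of (Js := [])
  (List.forall_mem_nil _) (by decide +kernel)

theorem d9_278 : Dn 8 S9 b8_278 := dn_of (Js := [])
  (List.forall_mem_nil _) (by decide +kernel)

theorem d9_279 : Dn 8 S9 b8_279 := dn_of (Js := [])
  (List.forall_mem_nil _) (by decide +kernel)

theorem d9_280 : Dn 8 S9 b8_280 := dn_of (Js := [])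
  (List.forall_mem_nil _) (by decide +kernel)

theorem d9_281 : Dn 8 S9 b8_281 := dn_of (Js := [])
  (List.forall_mem_nil _) (by decide +kernel)

theorem d9_282 : Dn 8 S9 b8_282 := dn_of (Js := [])
  (List.forall_mem_nil _) (by decide +kernel)

theorem d9_283 : Dn 8 S9 b8_283 := dn_of (Js := [])
  (List.forall_mem_nil _) (by decide +kernel)

theorem d9_284 : Dn 8 S9 b8_284 := dn_of (Js := [])
  (List.forall_mem_nil _) (by decide +kernel)

theorem d9_285 : Dn 8 S9 b8_285 := dn_of (Js := [])
  (List.forall_mem_nil _) (by decide +kernel)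

theorem d9_286 : Dn 8 S9 b8_286 := dn_of (Js := [])
  (List.forall_mem_nil _) (by decide +kernel)

theorem d9_287 : Dn 8 S9 b8_287 := dn_of (Js := [])
  (List.forall_mem_nil _) (by decide +kernel)

theorem d9_288 : Dn 8 S9 b8_288 := dn_of (Js := [])
  (List.forall_mem_nil _) (by decide +kernel)

theorem d9_289 : Dn 8 S9 b8_289 := dn_of (Js := [])
  (List.forall_mem_nil _) (by decide +kernel)

theorem d9_290 : Dn 8 S9 b8_290 := dn_of (Js := [])
  (List.forall_mem_nil _) (by decide +kernel)

theorem d9_291 : Dn 8 S9 b8_291 := dn_of (Js := [])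
  (List.forall_mem_nil _) (by decide +kernel)

theorem d9_292 : Dn 8 S9 b8_292 := dn_of (Js := [])
  (List.forall_mem_nil _) (by decide +kernel)

theorem d9_293 : Dn 8 S9 b8_293 := dn_of (Js := [])
  (List.forall_mem_nil _) (by decide +kernel)

theorem d9_294 : Dn 8 S9 b8_294 := dn_of (Js := [])
  (List.forall_mem_nil _) (by decide +kernel)

theorem d9_295 : Dn 8 S9 b8_295 := dn_of (Js := [])
  (List.forall_mem_nil _) (by decide +kernel)

theorem d9_296 : Dn 8 S9 b8_296 := dn_of (Js := [])
  (List.forall_mem_nil _) (by decide +kernel)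

theorem d9_297 : Dn 8 S9 b8_297 := dn_of (Js := [])
  (List.forall_mem_nil _) (by decide +kernel)

theorem d9_298 : Dn 8 S9 b8_298 := dn_of (Js := [])
  (List.forall_mem_nil _) (by decide +kernel)

theorem d9_299 : Dn 8 S9 b8_299 := dn_of (Js := [])
  (List.forall_mem_nil _) (by decide +kernel)

theorem d9_300 : Dn 8 S9 b8_300 := dn_of (Js := [])
  (List.forall_mem_nil _) (by decide +kernel)

theorem d9_301 : Dn 8 S9 b8_301 := dn_of (Js := [])
  (List.forall_mem_nil _) (by decide +kernel)

theorem d9_302 : Dn 8 S9 b8_302 := dn_of (Js := [])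
  (List.forall_mem_nil _) (by decide +kernel)

theorem d9_303 : Dn 8 S9 b8_303 := dn_of (Js := [])
  (List.forall_mem_nil _) (by decide +kernel)

theorem d9_304 : Dn 8 S9 b8_304 := dn_of (Js := [])
  (List.forall_mem_nil _) (by decide +kernel)

theorem d9_305 : Dn 8 S9 b8_305 := dn_of (Js := [])
  (List.forall_mem_nil _) (by decide +kernel)

theorem d9_306 : Dn 8 S9 b8_306 := dn_of (Js := [])
  (List.forall_mem_nil _) (by decide +kernel)

theorem d9_307 : Dn 8 S9 b8_307 := dn_of (Js := [])
  (List.forall_mem_nil _) (by decide +kernel)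

theorem d9_308 : Dn 8 S9 b8_308 := dn_of (Js := [])
  (List.forall_mem_nil _) (by decide +kernel)

theorem d9_309 : Dn 8 S9 b8_309 := dn_of (Js := [])
  (List.forall_mem_nil _) (by decide +kernel)

theorem d9_310 : Dn 8 S9 b8_310 := dn_of (Js := [])
  (List.forall_mem_nil _) (by decide +kernel)

theorem d9_311 : Dn 8 S9 b8_311 := dn_of (Js := [])
  (List.forall_mem_nil _) (by decide +kernel)

theorem d9_312 : Dn 8 S9 b8_312 := dn_of (Js := [])
  (List.forall_mem_nil _) (by decide +kernel)

theorem d9_313 : Dn 8 S9 b8_313 := dn_of (Js := [])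
  (List.forall_mem_nil _) (by decide +kernel)

theorem d9_314 : Dn 8 S9 b8_314 := dn_of (Js := [])
  (List.forall_mem_nil _) (by decide +kernel)

theorem d9_315 : Dn 8 S9 b8_315 := dn_of (Js := [])
  (List.forall_mem_nil _) (by decide +kernel)

theorem d9_316 : Dn 8 S9 b8_316 := dn_of (Js := [])
  (List.forall_mem_nil _) (by decide +kernel)

theorem d9_317 : Dn 8 S9 b8_317 := dn_of (Js := [])
  (List.forall_mem_nil _) (by decide +kernel)

theorem d9_318 : Dn 8 S9 b8_318 := dn_of (Js := [])
  (List.forall_mem_nil _) (by decide +kernel)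

theorem d9_319 : Dn 8 S9 b8_319 := dn_of (Js := [])
  (List.forall_mem_nil _) (by decide +kernel)

theorem d9_320 : Dn 8 S9 b8_320 := dn_of (Js := [])
  (List.forall_mem_nil _) (by decide +kernel)

theorem d9_321 : Dn 8 S9 b8_321 := dn_of (Js := [])
  (List.forall_mem_nil _) (by decide +kernel)

theorem d9_322 : Dn 8 S9 b8_322 := dn_of (Js := [])
  (List.forall_mem_nil _) (by decide +kernel)

theorem d9_323 : Dn 8 S9 b8_323 := dn_of (Js := [])
  (List.forall_mem_nil _) (by decide +kernel)

theorem d9_324 : Dn 8 S9 b8_324 := dn_of (Js := [])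
  (List.forall_mem_nil _) (by decide +kernel)

theorem d9_325 : Dn 8 S9 b8_325 := dn_of (Js := [])
  (List.forall_mem_nil _) (by decide +kernel)

theorem d9_326 : Dn 8 S9 b8_326 := dn_of (Js := [])
  (List.forall_mem_nil _) (by decide +kernel)

theorem d9_327 : Dn 8 S9 b8_327 := dn_of (Js := [])
  (List.forall_mem_nil _) (by decide +kernel)

theorem d9_328 : Dn 8 S9 b8_328 := dn_of (Js := [])
  (List.forall_mem_nil _) (by decide +kernel)

theorem d9_329 : Dn 8 S9 b8_329 := dn_of (Js := [])
  (List.forall_mem_nil _) (by decide +kernel)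

theorem d9_330 : Dn 8 S9 b8_330 := dn_of (Js := [])
  (List.forall_mem_nil _) (by decide +kernel)

theorem d9_331 : Dn 8 S9 b8_331 := dn_of (Js := [])
  (List.forall_mem_nil _) (by decide +kernel)

theorem d9_332 : Dn 8 S9 b8_332 := dn_of (Js := [])
  (List.forall_mem_nil _) (by decide +kernel)

theorem d9_333 : Dn 8 S9 b8_333 := dn_of (Js := [])
  (List.forall_mem_nil _) (by decide +kernel)

theorem d9_334 : Dn 8 S9 b8_334 := dn_of (Js := [])
  (List.forall_mem_nil _) (by decide +kernel)

theorem d9_335 : Dn 8 S9 b8_335 := dn_of (Js := [])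
  (List.forall_mem_nil _) (by decide +kernel)

theorem d9_336 : Dn 8 S9 b8_336 := dn_of (Js := [])
  (List.forall_mem_nil _) (by decide +kernel)

theorem d9_337 : Dn 8 S9 b8_337 := dn_of (Js := [])
  (List.forall_mem_nil _) (by decide +kernel)

theorem d9_338 : Dn 8 S9 b8_338 := dn_of (Js := [])
  (List.forall_mem_nil _) (by decide +kernel)

theorem d9_339 : Dn 8 S9 b8_339 := dn_of (Js := [])
  (List.forall_mem_nil _) (by decide +kernel)

theorem d9_340 : Dn 8 S9 b8_340 := dn_of (Js := [])
  (List.forall_mem_nil _) (by decide +kernel)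

theorem d9_341 : Dn 8 S9 b8_341 := dn_of (Js := [])
  (List.forall_mem_nil _) (by decide +kernel)

theorem d9_342 : Dn 8 S9 b8_342 := dn_of (Js := [])
  (List.forall_mem_nil _) (by decide +kernel)

theorem d9_343 : Dn 8 S9 b8_343 := dn_of (Js := [])
  (List.forall_mem_nil _) (by decide +kernel)

theorem d9_344 : Dn 8 S9 b8_344 := dn_of (Js := [])
  (List.forall_mem_nil _) (by decide +kernel)

theorem d9_345 : Dn 8 S9 b8_345 := dn_of (Js := [])
  (List.forall_mem_nil _) (by decide +kernel)

theorem d9_346 : Dn 8 S9 b8_346 := dn_of (Js := [])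
  (List.forall_mem_nil _) (by decide +kernel)

theorem d9_347 : Dn 8 S9 b8_347 := dn_of (Js := [])
  (List.forall_mem_nil _) (by decide +kernel)

theorem d9_348 : Dn 8 S9 b8_348 := dn_of (Js := [])
  (List.forall_mem_nil _) (by decide +kernel)

theorem d9_349 : Dn 8 S9 b8_349 := dn_of (Js := [])
  (List.forall_mem_nil _) (by decide +kernel)

theorem d9_350 : Dn 8 S9 b8_350 := dn_of (Js := [])
  (List.forall_mem_nil _) (by decide +kernel)

theorem d9_351 : Dn 8 S9 b8_351 := dn_of (Js := [])
  (List.forall_mem_nil _) (by decide +kernel)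

theorem d9_352 : Dn 8 S9 b8_352 := dn_of (Js := [])
  (List.forall_mem_nil _) (by decide +kernel)

theorem d9_353 : Dn 8 S9 b8_353 := dn_of (Js := [])
  (List.forall_mem_nil _) (by decide +kernel)

theorem d9_354 : Dn 8 S9 b8_354 := dn_of (Js := [])
  (List.forall_mem_nil _) (by decide +kernel)

theorem d9_355 : Dn 8 S9 b8_355 := dn_of (Js := [])
  (List.forall_mem_nil _) (by decide +kernel)

theorem d9_356 : Dn 8 S9 b8_356 := dn_of (Js := [])
  (List.forall_mem_nil _) (by decide +kernel)

theorem d9_357 : Dn 8 S9 b8_357 := dn_of (Js := [])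
  (List.forall_mem_nil _) (by decide +kernel)

theorem d9_358 : Dn 8 S9 b8_358 := dn_of (Js := [])
  (List.forall_mem_nil _) (by decide +kernel)

theorem d9_359 : Dn 8 S9 b8_359 := dn_of (Js := [])
  (List.forall_mem_nil _) (by decide +kernel)

theorem d9_360 : Dn 8 S9 b8_360 := dn_of (Js := [])
  (List.forall_mem_nil _) (by decide +kernel)

theorem d9_361 : Dn 8 S9 b8_361 := dn_of (Js := [])
  (List.forall_mem_nil _) (by decide +kernel)

theorem d9_362 : Dn 8 S9 b8_362 := dn_of (Js := [])
  (List.forall_mem_nil _) (by decide +kernel)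

theorem d9_363 : Dn 8 S9 b8_363 := dn_of (Js := [])
  (List.forall_mem_nil _) (by decide +kernel)

theorem d9_364 : Dn 8 S9 b8_364 := dn_of (Js := [])
  (List.forall_mem_nil _) (by decide +kernel)

theorem d9_365 : Dn 8 S9 b8_365 := dn_of (Js := [])
  (List.forall_mem_nil _) (by decide +kernel)

theorem d9_366 : Dn 8 S9 b8_366 := dn_of (Js := [])
  (List.forall_mem_nil _) (by decide +kernel)

theorem d9_367 : Dn 8 S9 b8_367 := dn_of (Js := [])
  (List.forall_mem_nil _) (by decide +kernel)

theorem d9_368 : Dn 8 S9 b8_368 := dn_of (Js := [])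
  (List.forall_mem_nil _) (by decide +kernel)

theorem d9_369 : Dn 8 S9 b8_369 := dn_of (Js := [])
  (List.forall_mem_nil _) (by decide +kernel)

theorem d9_370 : Dn 8 S9 b8_370 := dn_of (Js := [])
  (List.forall_mem_nil _) (by decide +kernel)

theorem d9_371 : Dn 8 S9 b8_371 := dn_of (Js := [])
  (List.forall_mem_nil _) (by decide +kernel)

theorem d9_372 : Dn 8 S9 b8_372 := dn_of (Js := [])
  (List.forall_mem_nil _) (by decide +kernel)

theorem d9_373 : Dn 8 S9 b8_373 := dn_of (Js := [])
  (List.forall_mem_nil _) (by decide +kernel)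

theorem d9_374 : Dn 8 S9 b8_374 := dn_of (Js := [])
  (List.forall_mem_nil _) (by decide +kernel)

theorem d9_375 : Dn 8 S9 b8_375 := dn_of (Js := [])
  (List.forall_mem_nil _) (by decide +kernel)

theorem d9_376 : Dn 8 S9 b8_376 := dn_of (Js := [])
  (List.forall_mem_nil _) (by decide +kernel)

theorem d9_377 : Dn 8 S9 b8_377 := dn_of (Js := [])
  (List.forall_mem_nil _) (by decide +kernel)

theorem d9_378 : Dn 8 S9 b8_378 := dn_of (Js := [])
  (List.forall_mem_nil _) (by decide +kernel)

theorem d9_379 : Dn 8 S9 b8_379 := dn_of (Js := [])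
  (List.forall_mem_nil _) (by decide +kernel)

theorem d9_380 : Dn 8 S9 b8_380 := dn_of (Js := [])
  (List.forall_mem_nil _) (by decide +kernel)

theorem d9_381 : Dn 8 S9 b8_381 := dn_of (Js := [])
  (List.forall_mem_nil _) (by decide +kernel)

noncomputable def j9_382_0 : List Job := [
  ⟨63, 0x5c4e4743bdc0e6753b484462513c8044241344426150bc4024140b41e0d058240e0501, 0, 52, 0x420c00440800580d, []⟩]

theorem t9_382_0 : jobs 8 S9 b8_382 j9_382_0 = true := by decide +kernel

noncomputable def j9_382_1 : List Job := [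
  ⟨62, 0x5c8e6743adc0e2763bc84462513c8044241344426150bc4024140b41e0d058240e0501, 0, 60, 0x520c00540800680d, []⟩]

theorem t9_382_1 : jobs 8 S9 b8_382 j9_382_1 = true := by decide +kernel

noncomputable def j9_382_2 : List Job := [
  ⟨61, 0x5e0f27a3d9f0fa7e3fc84462513c8044241344426150bc4024140b41e0d058240e0501, 0, 96, 0x8408008a0d00920c009c0c, []⟩]

theorem t9_382_2 : jobs 8 S9 b8_382 j9_382_2 = true := by decide +kernel

noncomputable def j9_382_3 : List Job := [
  ⟨60, 0x5c8e6763bdc0e2743ac84462513c8044241344426150bc4024140b41e0d058240e0501, 0, 40, 0x2a0800360d00460c, []⟩]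

theorem t9_382_3 : jobs 8 S9 b8_382 j9_382_3 = true := by decide +kernel

noncomputable def j9_382_4 : List Job := [
  ⟨59, 0x5e0f27a3d9f0fa7e3fc84462513c8044241344c2f120b4442b100a41e0d058240e0501, 0, 96, 0x8408008a0d008c0800920c009c0c00aa0800ac08, []⟩]

theorem t9_382_4 : jobs 8 S9 b8_382 j9_382_4 = true := by decide +kernel

noncomputable def j9_382_5 : List Job := [
  ⟨58, 0x5c4e4753b5c0e6743bc84462513c8044241344c2f120b4442b100a41e0d058240e0501, 0, 64, 0x4208004608004e0d00560800660d006a0c007608, []⟩]

theorem t9_382_5 : jobs 8 S9 b8_382 j9_382_5 = true := by decide +kernel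

noncomputable def j9_382_6 : List Job := [
  ⟨57, 0x5a0d26a359b0da6e37d60b25a2d970ba5e2fd04864523d00844423488462613c80422412c4826160bc4022140ac1e0d058240e0501, 0, 90, 0x4402, []⟩]

theorem t9_382_6 : jobs 8 S9 b8_382 j9_382_6 = true := by decide +kernel

noncomputable def j9_382_7 : List Job := [
  ⟨56, 0x5a0d26a359b0da6e37d60b25a2d970ba5e2fd04864523d00844423488462613c80422412c4826160bc4022140ac1e0d058240e0501, 0, 102, 0x5402, []⟩]

theorem t9_382_7 : jobs 8 S9 b8_382 j9_382_7 = true := by decide +kernel

noncomputable def j9_382_8 : List Job := [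
  ⟨55, 0x5a0d26a359b0da6e37d44a4542bd40a6552b504864523d00844423488462613c80422412c4826160bc4022140ac1e0d058240e0501, 0, 160, 0x8402, []⟩]

theorem t9_382_8 : jobs 8 S9 b8_382 j9_382_8 = true := by decide +kernel

noncomputable def j9_382_9 : List Job := [
  ⟨54, 0x588c66432d80c26633d48a6542ad40a2562bd148f4423504874021488462613c80422412c4826160bc4022140ac1e0d058240e0501, 0, 72, 0x209000408000a09002a02, []⟩]

theorem t9_382_9 : jobs 8 S9 b8_382 j9_382_9 = true := by decide +kernel

noncomputable def j9_382_10 : List Job := [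
  ⟨53, 0x5a0d26a359b0da6e37d44a6542b540a4552bd04864523d00844423488462613c80422412c582f140ac48271008c1e0d058240e0501, 0, 160, 0x820800840800920900940800c20800c40900d20800d40900e20800e40900f20800f409012208012408013209013409, []⟩]

theorem t9_382_10 : jobs 8 S9 b8_382 j9_382_10 = true := by decide +kernel

noncomputable def j9_382_11 : List Job := [
  ⟨52, 0x588c66432d80c26633d50aa562bd40a25229d148f4423504874021488462613c80422412c582f140ac48271008c1e0d058240e0501, 0, 112, 0x209000408000a09000c08004209004a09005208005a09008208008409008e08009009009a0800a60800c20900ca0800d20800da09, []⟩]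

theorem t9_382_11 : jobs 8 S9 b8_382 j9_382_11 = true := by decide +kernel

noncomputable def j9_382_12 : List Job := [
  ⟨51, 0x5e0f27a3d9f0fa7e3fd08864623d00824422c4426150bc4024140b41e0d058240e0501, 0, 96, 0x8404008a05009205009c04, []⟩]

theorem t9_382_12 : jobs 8 S9 b8_382 j9_382_12 = true := by decide +kernel

noncomputable def j9_382_13 : List Job := [
  ⟨50, 0x5e4f47c3fde0f67d3f5c4e4743bdc0e6753b43e1d0d8642e15098441e0d058240e0501, 0, 75, 0x401000e01002604003004004a01004e04005001005404005801005e01007c01007e04008004008404008809009001009401009601, []⟩]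

theorem t9_382_13 : jobs 8 S9 b8_382 j9_382_13 = true := by decide +kernel

noncomputable def j9_382_14 : List Job := [
  ⟨49, 0x520924a259309a4e27d008242219108a4623c3e1d0d8642e15098441e0d058240e0501, 0, 42, 0x201000c01002801002e01004a08004e05, []⟩]

theorem t9_382_14 : jobs 8 S9 b8_382 j9_382_14 = true := by decide +kernel

noncomputable def j9_382_15 : List Job := [
  ⟨48, 0x43e1d0d8642e15098441e0d058240e0501, 0, 42, 0x201000c01002801003201004a04004e09, []⟩]

theorem t9_382_15 : jobs 8 S9 b8_382 j9_382_15 = true := by decide +kernel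

noncomputable def j9_382_16 : List Job := [
  ⟨47, 0x5e0f27a3d9f0fa7e3fdc0e272399d0ea763bd28964e27d20924c26d08864623d00824422c3e1d0d8642e15098441e0d058240e0501, 0, 75, 0x2608002c08004e01005401005801005e01007c01007e01008001008408008805009001009401009601, []⟩]

theorem t9_382_16 : jobs 8 S9 b8_382 j9_382_16 = true := by decide +kernel

noncomputable def j9_382_17 : List Job := [
  ⟨46, 0x464361d0fc60341c0f44426150bc4024140b43e1d0d8642e15098441e0d058240e0501, 0, 42, 0x2801002e01004a0c004e01, []⟩]

theorem t9_382_17 : jobs 8 S9 b8_382 j9_382_17 = true := by decide +kernel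

noncomputable def j9_382_18 : List Job := [
  ⟨45, 0x5e4f47c3fde0f67d3f5c4e4743bdc0e6753b520924a259309a4e27d008242219108a4623c68361e0fc60321c0ec4826160bc4022140ac3e1d0d8642e15098441e0d058240e0501, 0, 128, 0x2801002e01004a08004e01005801005e01007a01007e08008008008601008808008a08008c01009008009608009801009c01009e0100a40100a60100aa0000ac0100ae0100b21100b40100b81100bc0100c20100c40100c60100cc0100ce0100d00100fa0100fc01, [(84, ⟨1086, 0x800014700028001100000800002000040000100000001, 0x180238a020080101002⟩)]⟩]

theorem t9_382_18 : jobs 8 S9 b8_382 j9_382_18 = true := by decide +kernel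

noncomputable def j9_382_19 : List Job := [
  ⟨44, 0x5e0f27a3d9f0fa7e3fdc0e272399d0ea763bc64361d0fc60341c0f44426150bc4024140b43e1d0d8642e15098441e0d058240e0501, 0, 74, 0x2801003201004a0c004e01005601005801005e01006001006201006401006a01007c01008c01008e01009401, []⟩]

theorem t9_382_19 : jobs 8 S9 b8_382 j9_382_19 = true := by decide +kernel

noncomputable def j9_382_20 : List Job := [
  ⟨43, 0x524964d27d20944c27504864523d00844423468361e0fc60321c0ec4826160bc4022140ac3e1d0d8642e15098441e0d058240e0501, 0, 75, 0x2801002e01004a08004e01007c01007e01008001008201008401008601008801008a01008c01008e01009001009201009401009601, []⟩]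

theorem t9_382_20 : jobs 8 S9 b8_382 j9_382_20 = true := by decide +kernel

noncomputable def j9_382_21 : List Job := [
  ⟨42, 0x5e0f27a3d9f0fa7e3fd08864623d00824422c4426150bc4024140b41e0d058240e0501, 0, 96, 0x8404008a05009205009c04, []⟩]

theorem t9_382_21 : jobs 8 S9 b8_382 j9_382_21 = true := by decide +kernel

noncomputable def j9_382_22 : List Job := [
  ⟨41, 0x5e8f67c3ede0f27e3fdc8e6743adc0e2763bc3e1d0d8642e15098441e0d058240e0501, 0, 77, 0x401000e01002600003001003a01004401004e01005204005401005804005c01006201008001008204008404008804008c09009401009801009a01, [(18, ⟨1082, 0x4080043002520046800840010100204004100000001, 0x184230b034080080808⟩)]⟩]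

theorem t9_382_22 : jobs 8 S9 b8_382 j9_382_22 = true := by decide +kernel

noncomputable def j9_382_23 : List Job := [
  ⟨40, 0x520924a259309a4e27d008242219108a4623c3e1d0d8642e15098441e0d058240e0501, 0, 44, 0x200000801000e01001401002c01003201004e08005205, [(0, ⟨1081, 0x20000410049000140042000010001000020000001, 0x1802208824080100408⟩)]⟩]

theorem t9_382_23 : jobs 8 S9 b8_382 j9_382_23 = true := by decide +kernel

noncomputable def j9_382_24 : List Job := [
  ⟨39, 0x43e1d0d8642e15098441e0d058240e0501, 0, 44, 0x200000c01001601002001002c01003e01004e04005209, [(0, ⟨1080, 0x2200042000ac01180042000010040801040000001, 0x188210b830080080808⟩)]⟩]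

theorem t9_382_24 : jobs 8 S9 b8_382 j9_382_24 = true := by decide +kernel

noncomputable def j9_382_25 : List Job := [
  ⟨38, 0x5e0f27a3d9f0fa7e3fdc0e272399d0ea763bd28964e27d20924c26d08864623d00824422c3e1d0d8642e15098441e0d058240e0501, 0, 77, 0x2600002c01003201003801004e01005201005401005801005c01006601008001008201008401008808008c05009401009801009a01, [(18, ⟨1079, 0x4480045002400004000840010100008000080000001, 0x18c2308020080100408⟩)]⟩]

theorem t9_382_25 : jobs 8 S9 b8_382 j9_382_25 = true := by decide +kernel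

noncomputable def j9_382_26 : List Job := [
  ⟨37, 0x464361d0fc60341c0f44426150bc4024140b43e1d0d8642e15098441e0d058240e0501, 0, 44, 0x200000c01001601002001002c01003201004e0c00520d, [(0, ⟨1076, 0x22800420048000120042000010040800040000001, 0x18a2108024080080808⟩)]⟩]

theorem t9_382_26 : jobs 8 S9 b8_382 j9_382_26 = true := by decide +kernel

noncomputable def j9_382_27 : List Job := [
  ⟨36, 0x5e4f67c3f5e0f47d3fdc4e6743b5c0e4753bd20924a259309a4e27d008242219108a4623c68361e0fc60321c0ec4826160bc4022140ac3e1d0d8642e15098441e0d058240e0501, 0, 134, 0x200000801000e01001401002c01003201004e08005208005c01006401006601006a01006c01007201007a01008401009c0100a00800a20100a60800a80800ac0800b20100b40800b60800ba0100c00100ee0100f00100f20100f40100fa0100fc0100fe01010001010601010801, [(0, ⟨1075, 0x8a0004400124000100010800102000040000100000001, 0x18c2108820080101002⟩)]⟩]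

theorem t9_382_27 : jobs 8 S9 b8_382 j9_382_27 = true := by decide +kernel

noncomputable def j9_382_28 : List Job := [
  ⟨35, 0x5e0f27a3d9f0fa7e3fdc0e272399d0ea763bc64361d0fc60341c0f44426150bc4024140b43e1d0d8642e15098441e0d058240e0501, 0, 80, 0x200000c01001601002001002c01003e01004e0c00520d005c01006601007001007a01008201008401008801008a01008e01009001009601009801009a01009c01, [(0, ⟨1074, 0x4500041000400004800840000100204000100000001, 0x18a2208024080080808⟩)]⟩]

theorem t9_382_28 : jobs 8 S9 b8_382 j9_382_28 = true := by decide +kernel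

noncomputable def j9_382_29 : List Job := [
  ⟨34, 0x524964d27d20944c27504864523d00844423468361e0fc60321c0ec4826160bc4022140ac3e1d0d8642e15098441e0d058240e0501, 0, 77, 0x200000801000e01001401002c01003601004e08005208007e01008001008201008401008601008801008a01008c01008e01009001009201009401009601009a01, [(0, ⟨1073, 0x4600046000480004000840000200208000040000001, 0x18a2308820080101002⟩)]⟩]

theorem t9_382_29 : jobs 8 S9 b8_382 j9_382_29 = true := by decide +kernel

noncomputable def j9_382_30 : List Job := [
  ⟨33, 0x43e1d0d8642e15098441e0d058240e0501, 0, 23, 0x201001401002604002a0d, []⟩]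

theorem t9_382_30 : jobs 8 S9 b8_382 j9_382_30 = true := by decide +kernel

noncomputable def j9_382_31 : List Job := [
  ⟨32, 0x43e1d0d8642e15098441e0d058240e0501, 0, 44, 0x401000a01001a01002c01003e01004001004201004401004601004808004c05005201005401005601005801, []⟩]

theorem t9_382_31 : jobs 8 S9 b8_382 j9_382_31 = true := by decide +kernel

noncomputable def j9_382_32 : List Job := [
  ⟨31, 0x468361e0fc60321c0ec4826160bc4022140ac3e1d0d8642e15098441e0d058240e0501, 0, 75, 0x201001401002801002e01004a08004e01005801005e01007a01007c01007e01008001008201008401008601008801008a01008c01008e01009001009201009601, []⟩]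

theorem t9_382_32 : jobs 8 S9 b8_382 j9_382_32 = true := by decide +kernel

noncomputable def j9_382_33 : List Job := [
  ⟨30, 0x564b45c2fd60b65d2f544a4542bd40a6552b43e1d0d8642e15098441e0d058240e0501, 0, 26, 0x201001401002604002a09, []⟩]

theorem t9_382_33 : jobs 8 S9 b8_382 j9_382_33 = true := by decide +kernel

noncomputable def j9_382_34 : List Job := [
  ⟨29, 0x5e0f27a3d9f0fa7e3fdc0e272399d0ea763bda0d26a359b0da6e37d80c26231990ca6633d28964e27d20924c26d08864623d00824422c3e1d0d8642e15098441e0d058240e0501, 0, 50, 0x1e01002801004201004601004c08005008005c01006001006201, []⟩]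

theorem t9_382_34 : jobs 8 S9 b8_382 j9_382_34 = true := by decide +kernel

noncomputable def j9_382_35 : List Job := [
  ⟨28, 0x43e1d0d8642e15098441e0d058240e0501, 0, 24, 0x201001401002604002a09, []⟩]

theorem t9_382_35 : jobs 8 S9 b8_382 j9_382_35 = true := by decide +kernel

noncomputable def j9_382_36 : List Job := [
  ⟨27, 0x564b65c2f560b45d2fd44a6542b540a4552bd309a4e27d20924a25d108a4623d00824221c3e1d0d8642e15098441e0d058240e0501, 0, 49, 0x201000c01002801002e01004201004408004608004808004c08005005005801005c01005e01, []⟩]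

theorem t9_382_36 : jobs 8 S9 b8_382 j9_382_36 = true := by decide +kernel

noncomputable def j9_382_37 : List Job := [
  ⟨26, 0x564b45d2f560b65c2fd44a4552b540a6542bc3e1d0d8642e15098441e0d058240e0501, 0, 24, 0x201001401002604002a09, []⟩]

theorem t9_382_37 : jobs 8 S9 b8_382 j9_382_37 = true := by decide +kernel

noncomputable def j9_382_38 : List Job := [
  ⟨25, 0x5389f4c26d28974824d188f4422d08874020c3e1d0d8642e15098441e0d058240e0501, 0, 47, 0x1e01002004002205002404002605002801002a04002c05002e04003005004201004401004601004801004a01004c08005005005801005a01005c01005e01, []⟩]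

theorem t9_382_38 : jobs 8 S9 b8_382 j9_382_38 = true := by decide +kernel

noncomputable def j9_382_39 : List Job := [
  ⟨24, 0x564b45d2f560b65c2fd44a4552b540a6542bc64361d0fc60341c0f44426150bc4024140b43e1d0d8642e15098441e0d058240e0501, 0, 49, 0x20100140100260c002a01003201003c0100460100500d00520100560d005801005c01005e01, []⟩]

theorem t9_382_39 : jobs 8 S9 b8_382 j9_382_39 = true := by decide +kernel

noncomputable def j9_382_40 : List Job := [
  ⟨23, 0x5309a4e27d20924a25d108a4623d00824221c68361e0fc60321c0ec4826160bc4022140ac3e1d0d8642e15098441e0d058240e0501, 0, 47, 0x201000c01002608002a01003401003a01004e01005008005209005801005a01, []⟩]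

theorem t9_382_40 : jobs 8 S9 b8_382 j9_382_40 = true := by decide +kernel

noncomputable def j9_382_41 : List Job := [
  ⟨22, 0x464361d0fc60341c0f44426150bc4024140b43e1d0d8642e15098441e0d058240e0501, 0, 24, 0x20100140100260c002a01, []⟩]

theorem t9_382_41 : jobs 8 S9 b8_382 j9_382_41 = true := by decide +kernel

noncomputable def j9_382_42 : List Job := [
  ⟨21, 0x568b65c2ed60b25e2fd48a6542ad40a2562bd349f4c275249748255148f4423504874021468361e0fc60321c0ec4826160bc4022140ac3e1d0d8642e15098441e0d058240e0501, 0, 84, 0x20100040a00080a000c01000e0800120800260a002a01004e01005001005401005801005a01007e01008001008401008601008a01008c01009c01009e0100a201, []⟩]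

theorem t9_382_42 : jobs 8 S9 b8_382 j9_382_42 = true := by decide +kernel

noncomputable def j9_382_43 : List Job := [
  ⟨20, 0x5309a4e27d20924a25d108a4623d00824221c3e1d0d8642e15098441e0d058240e0501, 0, 36, 0x208000c08002608002801002a01002c01002e01003001003201003608003a09003e08004408, []⟩]

theorem t9_382_43 : jobs 8 S9 b8_382 j9_382_43 = true := by decide +kernel

noncomputable def j9_382_44 : List Job := [
  ⟨19, 0x5309a4e27d20924a25d108a4623d00824221ce8763e1fce0723c1ecc866361bcc062341aca8562e17ca0522c16c88462613c80422412c3e1d0d8642e15098441e0d058240e0501, 0, 100, 0x4401004601004801004a01004c00005801005a01006400006800006c09007002007c01007e01008001008409008a01008e00009001009200009400009a01009c00009e0000a00000a60100ac0100ae0000b00000b21400b60100bc0000be0000c800, [(99, ⟨1024, 0x1820004d0001c80047c00214001020008080001000000001, 0x1cd278d0360c0081004⟩), (94, ⟨1021, 0x1840014f0009880006800214001020008080001000000001, 0x1cf258ec300c0081004⟩), (93, ⟨1019, 0x182000440001f80007c00014001020000080001000000001, 0x1c3208c4360c0081004⟩),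 (87, ⟨1017, 0x100000440009180004000210000020008080001000200001, 0x1802089820080081004⟩), (86, ⟨1016, 0x110001460009580044800210001020000080041000000001, 0x188228b828080081004⟩), (79, ⟨1018, 0x194000450001d00006400214001020000080041000000001, 0x1cb218dc3c0c0081004⟩), (78, ⟨1020, 0x184001450009e80044c00214001020008080041000200001, 0x1c7218e02c0c0081004⟩), (77, ⟨1023, 0x188001430009e00004c00014000020000080041000200001, 0x1c7230e82c0c0081004⟩), (73, ⟨1014, 0x1920004c0009f80004800214000020000080041000200001, 0x1c3268f8280c0081004⟩), (72, ⟨1015, 0x1960014f0001f80044400214001020000080001000000001, 0x1c1258e0240c0081004⟩), (70, ⟨1013, 0x1920004c0001f80044800214001020000080041000200001, 0x1c3268f8280c0081004⟩), (51, ⟨1026, 0x1080004a0001480044800010001020000080001000000001, 0x181260a828080081004⟩), (49, ⟨1025, 0x1000014d0001000004c00210000020008080041000200001, 0x180258802c080081004⟩), (37, ⟨1022, 0x114000440009480006400010000020000080001000200001, 0x18c208a834080081004⟩)]⟩]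

theorem t9_382_44 : jobs 8 S9 b8_382 j9_382_44 = true := by decide +kernel

noncomputable def j9_382_45 : List Job := [
  ⟨18, 0x520924a259309a4e27d008242219108a4623cb05a2e17ca0522a15c904a2613c80422211c703a1e0fc60321a0dc502a160bc40221209c3e1d0d8642e15098441e0d058240e0501, 0, 116, 0x2600002c01002e01003001005a03005e03006201006a01006c01006e0100760200780100820100880100a40100a60100a80100ae0100b00100b60000b80100be0100c00100c20100c40100ca0100cc0100d60000d80100dc0000e00100e201, [(109, ⟨1010, 0x850004600126001120010800104000020000100000001, 0x1852309824080200802⟩), (106, ⟨1009, 0x850004600126001120010800104000020000100000001, 0x1852309824080200802⟩), (90, ⟨1008, 0x89000460012e0001e0000800104001020010100000001, 0x189230b83c080200802⟩), (18, ⟨1007, 0x810004000028000140000800004000020000100000001, 0x181200a028080200802⟩)]⟩]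

theorem t9_382_45 : jobs 8 S9 b8_382 j9_382_45 = true := by decide +kernel

noncomputable def j9_382_46 : List Job := [
  ⟨17, 0x43e1d0d8642e15098441e0d058240e0501, 0, 30, 0x200000801001401001e0100280100340400380d, [(0, ⟨991, 0x22c01490008401100002001010000801060000001, 0x18e2609020080180808⟩)]⟩]

theorem t9_382_46 : jobs 8 S9 b8_382 j9_382_46 = true := by decide +kernel

noncomputable def j9_382_47 : List Job := [
  ⟨16, 0x43e1d0d8642e15098441e0d058240e0501, 0, 62, 0x401000a01001001001601002200002801003401003c01003e01004001004201004401004601004a08005008006001006201006401006601006801006a01006c08007005007601007801007a01007c01, [(16, ⟨990, 0x4000140002400045000040000100008000080000001, 0x1802008024080100408⟩)]⟩]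

theorem t9_382_47 : jobs 8 S9 b8_382 j9_382_47 = true := by decide +kernel

noncomputable def j9_382_48 : List Job := [
  ⟨15, 0x4783f1c0ec6837180cc582f140ac48271008c3e1d0d8642e15098441e0d058240e0501, 0, 77, 0x200000801001601001c01004e08005208005a10005c01006009006408006601006a09006e08007210007611007a09007e01008001008201008401008601008801008a01008c01008e01009001009201009408009601009801009a01, [(0, ⟨987, 0x460014b0004c0044000040000200208004040000001, 0x18a2689820080101002⟩)]⟩]

theorem t9_382_48 : jobs 8 S9 b8_382 j9_382_48 = true := by decide +kernel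

noncomputable def j9_382_49 : List Job := [
  ⟨14, 0x568b65c2ed60b25e2fd48a6542ad40a2562bc3e1d0d8642e15098441e0d058240e0501, 0, 105, 0x3000003a01005001005e01006801007e01008e0400980400aa0100b60400ba0900c601, [(23, ⟨980, 0x4000144002420004800040000100004004100000001, 0x1802089024080080808⟩)]⟩]

theorem t9_382_49 : jobs 8 S9 b8_382 j9_382_49 = true := by decide +kernel

noncomputable def j9_382_50 : List Job := [
  ⟨13, 0x5e0f27a3d9f0fa7e3fdc0e272399d0ea763bda0d26a359b0da6e37d80c26231990ca6633d28964e27d20924c26d08864623d00824422c3e1d0d8642e15098441e0d058240e0501, 0, 166, 0x6000006601007201008e0100940100a00100bc0100c00100c20100c60100cc0100d20100d80100da0100de0100e40100fa01010a01010c01011c01011e08012208012e01013c01014001014201014601014c01, [(47, ⟨979, 0x8d0004700132000100010800101000040000200000001, 0x18e238c020080100408⟩)]⟩]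

theorem t9_382_50 : jobs 8 S9 b8_382 j9_382_50 = true := by decide +kernel

noncomputable def j9_382_51 : List Job := [
  ⟨12, 0x43e1d0d8642e15098441e0d058240e0501, 0, 33, 0x1601002001002e01003608003a09004001, []⟩]

theorem t9_382_51 : jobs 8 S9 b8_382 j9_382_51 = true := by decide +kernel

noncomputable def j9_382_52 : List Job := [
  ⟨11, 0x570ba5e2fd60b25a2dd50aa562bd40a25229d309a4e27d20924a25d108a4623d00824221c3e1d0d8642e15098441e0d058240e0501, 0, 68, 0x1608001c08002e01003801003e01004401004e01005001005201005401005601005801005a08005c08005e01006008006208006801006a01006c01006e08007205007801008201008601008801, []⟩]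

theorem t9_382_52 : jobs 8 S9 b8_382 j9_382_52 = true := by decide +kernel

noncomputable def j9_382_53 : List Job := [
  ⟨10, 0x568b65e2fd60b25c2ed48a6562bd40a2542ac3e1d0d8642e15098441e0d058240e0501, 0, 36, 0x1601002001003201003a08003e09004601, []⟩]

theorem t9_382_53 : jobs 8 S9 b8_382 j9_382_53 = true := by decide +kernel

noncomputable def j9_382_54 : List Job := [
  ⟨9, 0x5389f4c26d28974824d188f4422d08874020c3e1d0d8642e15098441e0d058240e0501, 0, 69, 0x3a08003c04003e05004008004204004405004604004805005601006001006201006601006801006c01006e01007004007405007c01008201008601008a01, []⟩]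

theorem t9_382_54 : jobs 8 S9 b8_382 j9_382_54 = true := by decide +kernel

noncomputable def j9_382_55 : List Job := [
  ⟨8, 0x5309a4e27d20924a25d108a4623d00824221c783f1c0ec6837180cc582f140ac48271008c3e1d0d8642e15098441e0d058240e0501, 0, 78, 0x4c08005c10005e01006210006401006808006c10007010007409007801007a01007c01007e01008001008201008408008609008c01008e01009001009208009401009601009a01009c01, []⟩]

theorem t9_382_55 : jobs 8 S9 b8_382 j9_382_55 = true := by decide +kernel

noncomputable def j9_382_56 : List Job := [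
  ⟨7, 0x5309a4e27d20924a25d108a4623d00824221c3e1d0d8642e15098441e0d058240e0501, 0, 114, 0x208000401000609000801000a09000c08000e00001401001a01002c08002e01003008003608003e08005201005e08006209006608006c08008e18009218009a00009e0100a60800a80100aa0800b00100ba0100c20100d40800d80800dc01, [(76, ⟨787, 0x8c0004200034001100000800002001010000400000001, 0x189220c020080081004⟩), (6, ⟨786, 0x8c0004200034000100010800002001010000400000001, 0x189220c020080081004⟩)]⟩]

theorem t9_382_56 : jobs 8 S9 b8_382 j9_382_56 = true := by decide +kernel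

noncomputable def j9_382_57 : List Job := [
  ⟨6, 0x5309a4e27d20924a25d108a4623d00824221ce8763e1fce0723c1ecc866361bcc062341aca8562e17ca0522c16c88462613c80422412c3e1d0d8642e15098441e0d058240e0501, 0, 202, 0x2208002609002a01002c08002e01003201003600003c01004201005401005601005801005a01005c01005e01006001006201006408006a00006c01006e00008e01009201009401009801009c0100a81000aa0100ac1000b00800b40100be0100c00100c20100c40100c80800ce0100d00100fe10010210011200011601011e01012001012201012401012601012801012a08013000013201013400014201014601014a01015001016410016601016810016a10016c01016e10017401017808017e01018001018201018608019001019201019401, [(153, ⟨785, 0x114000400001f80046800210001020000080041000000001, 0x18c200c838080081004⟩), (151, ⟨784, 0x100000430009000044000010000020008080001000000001, 0x1802308020080081004⟩), (136, ⟨781, 0x100000430009000004000010000020000080041000000001, 0x1802308020080081004⟩), (54, ⟨783, 0x114000400001f80006800010001020000080001000000001, 0x18c200c838080081004⟩), (52, ⟨782, 0x112001410001000006800010001020000080001000200001,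 0x18a2108038080081004⟩), (26, ⟨780, 0x106000420001a80004000210001020008080001000000001, 0x186220c820080081004⟩)]⟩]

theorem t9_382_57 : jobs 8 S9 b8_382 j9_382_57 = true := by decide +kernel

noncomputable def j9_382_58 : List Job := [
  ⟨5, 0x520924a259309a4e27d008242219108a4623cb05a2e17ca0522a15c904a2613c80422211c783f1c0ec6837180cc582f140ac48271008c3e1d0d8642e15098441e0d058240e0501, 0, 220, 0x210000601000810000c00001201001801001e01003601006000006201006401006601007404007801007c04008400008800008e01009201009601009a0100be0000c20100ca0100d21000d601010401010a01011410011601011a00011c01012010012411012810012c00013010013411013810013a01013e10014201014401014601014801014e00015001015601015801015a01016010016201016610016a04016c01016e01017004017600017801018001018a01018e01019001019400019601019c01019e0101a21001a40101a81001ae0101b40101b601, [(201, ⟨770, 0x118001400009500004000010001040000100000400000001, 0x18c200a820080200802⟩), (186, ⟨769, 0x11e000460001400044800010001040000100000400000001, 0x18f230a024080200802⟩), (166, ⟨768, 0x11e001460009400044800010001040000100000400000001,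 0x18f230a024080200802⟩), (149, ⟨767, 0x1060014c0001100004000010001040008100000400000001, 0x1832608820080200802⟩), (140, ⟨766, 0x1060014c0001100004000010001040008100000400000001, 0x1832608820080200802⟩), (94, ⟨765, 0x118001400009500004000010001040000100000400000001, 0x18c200a820080200802⟩), (67, ⟨764, 0x11c000440001500004000010000040000100000400000001, 0x18e220a820080200802⟩), (65, ⟨763, 0x11c000440001500004000010000040000100000400000001, 0x18e220a820080200802⟩), (47, ⟨762, 0x1100004c0001300004000010000040008100000400000001, 0x1882609820080200802⟩), (5, ⟨761, 0x100000400009400004800210000040000100040400000001, 0x180200a024080200802⟩)]⟩]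

theorem t9_382_58 : jobs 8 S9 b8_382 j9_382_58 = true := by decide +kernel

noncomputable def j9_382_59 : List Job := [
  ⟨4, 0x43e1d0d8642e15098441e0d058240e0501, 0, 24, 0x204000a04001a04001c04001e04002001002204002605002a04002e00003001, [(22, ⟨659, 0x4380147002620007400840010100008004080080001, 0x187238ec3c080100408⟩)]⟩]

theorem t9_382_59 : jobs 8 S9 b8_382 j9_382_59 = true := by decide +kernel

noncomputable def j9_382_60 : List Job := [
  ⟨3, 0x4e4763d1fce0743c1f4c466351bcc064341b4a4562d17ca0542c17484462513c8044241343e1d0d8642e15098441e0d058240e0501, 0, 55, 0x401000a01001001003201003401003601003801003a01003c01003e04004001004204004601004801004a01004e04005001005204005601006001006201006401006800006a01006c01006e01, [(51, ⟨658, 0x880014500020001100000800001000040010200000001, 0x1882308020080100408⟩)]⟩]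

theorem t9_382_60 : jobs 8 S9 b8_382 j9_382_60 = true := by decide +kernel

noncomputable def j9_382_61 : List Job := [
  ⟨2, 0x4a8562e17ca0522c16c88462613c80422412c783f1c0ec6837180cc582f140ac48271008c3e1d0d8642e15098441e0d058240e0501, 0, 64, 0x2600002a00002e01003008003401003808004000004201004408004601004a00004c01005008005408005809005c08006001006201006401006601006801006a00006c01007201007408007601007a01007c08008001, [(52, ⟨654, 0x8500041000220001e0010800002000040010100100001, 0x183208903c080101002⟩), (36, ⟨653, 0xc70004f00028000100000e00102000040010100000001, 0x1cc248b8200e0101002⟩), (31, ⟨652, 0x83000430002a000100000800002001040010100000001, 0x185228b020080101002⟩), (20, ⟨651, 0x870014700024001180010800102000040010100100001, 0x1872388830080101002⟩), (18, ⟨650, 0x870014700024001180010800102000040010100100001, 0x1872388830080101002⟩)]⟩]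

theorem t9_382_61 : jobs 8 S9 b8_382 j9_382_61 = true := by decide +kernel

theorem d9_382 : Dn 8 S9 b8_382 := dn_of (Js := j9_382_0 ++ (j9_382_1 ++ (j9_382_2 ++ (j9_382_3 ++ (j9_382_4 ++ (j9_382_5 ++ (j9_382_6 ++ (j9_382_7 ++ (j9_382_8 ++ (j9_382_9 ++ (j9_382_10 ++ (j9_382_11 ++ (j9_382_12 ++ (j9_382_13 ++ (j9_382_14 ++ (j9_382_15 ++ (j9_382_16 ++ (j9_382_17 ++ (j9_382_18 ++ (j9_382_19 ++ (j9_382_20 ++ (j9_382_21 ++ (j9_382_22 ++ (j9_382_23 ++ (j9_382_24 ++ (j9_382_25 ++ (j9_382_26 ++ (j9_382_27 ++ (j9_382_28 ++ (j9_382_29 ++ (j9_382_30 ++ (j9_382_31 ++ (j9_382_32 ++ (j9_382_33 ++ (j9_382_34 ++ (j9_382_35 ++ (j9_382_36 ++ (j9_382_37 ++ (j9_382_38 ++ (j9_382_39 ++ (j9_382_40 ++ (j9_382_41 ++ (j9_382_42 ++ (j9_382_43 ++ (j9_382_44 ++ (j9_382_45 ++ (j9_382_46 ++ (j9_382_47 ++ (j9_382_48 ++ (j9_382_49 ++ (j9_382_50 ++ (j9_382_51 ++ (j9_382_52 ++ (j9_382_53 ++ (j9_382_54 ++ (j9_382_55 ++ (j9_382_56 ++ (j9_382_57 ++ (j9_382_58 ++ (j9_382_59 ++ (j9_382_60 ++ (j9_382_61 ++ []))))))))))))))))))))))))))))))))))))))))))))))))))))))))))))))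
  (jobs_append t9_382_0 <| jobs_append t9_382_1 <| jobs_append t9_382_2 <| jobs_append t9_382_3 <| jobs_append t9_382_4 <| jobs_append t9_382_5 <| jobs_append t9_382_6 <| jobs_append t9_382_7 <| jobs_append t9_382_8 <| jobs_append t9_382_9 <| jobs_append t9_382_10 <| jobs_append t9_382_11 <| jobs_append t9_382_12 <| jobs_append t9_382_13 <| jobs_append t9_382_14 <| jobs_append t9_382_15 <| jobs_append t9_382_16 <| jobs_append t9_382_17 <| jobs_append t9_382_18 <| jobs_append t9_382_19 <| jobs_append t9_382_20 <| jobs_append t9_382_21 <| jobs_append t9_382_22 <| jobs_append t9_382_23 <| jobs_append t9_382_24 <| jobs_append t9_382_25 <| jobs_append t9_382_26 <| jobs_append t9_382_27 <| jobs_append t9_382_28 <| jobs_append t9_382_29 <| jobs_append t9_382_30 <| jobs_append t9_382_31 <| jobs_append t9_382_32 <| jobs_append t9_382_33 <| jobs_append t9_382_34 <| jobs_append t9_382_35 <| jobs_append t9_382_36 <| jobs_append t9_382_37 <| jobs_append t9_382_38 <| jobs_append t9_382_39 <| jobs_append t9_382_40 <| jobs_append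 t9_382_41 <| jobs_append t9_382_42 <| jobs_append t9_382_43 <| jobs_append t9_382_44 <| jobs_append t9_382_45 <| jobs_append t9_382_46 <| jobs_append t9_382_47 <| jobs_append t9_382_48 <| jobs_append t9_382_49 <| jobs_append t9_382_50 <| jobs_append t9_382_51 <| jobs_append t9_382_52 <| jobs_append t9_382_53 <| jobs_append t9_382_54 <| jobs_append t9_382_55 <| jobs_append t9_382_56 <| jobs_append t9_382_57 <| jobs_append t9_382_58 <| jobs_append t9_382_59 <| jobs_append t9_382_60 <| jobs_append t9_382_61 <| List.forall_mem_nil _) (by decide +kernel)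

noncomputable def j9_383_0 : List Job := [
  ⟨63, 0x41e0d058240e0501, 0, 14, 0x0, []⟩]

theorem t9_383_0 : jobs 8 S9 b8_383 j9_383_0 = true := by decide +kernel

noncomputable def j9_383_1 : List Job := [
  ⟨62, 0x484462413480442513c4426140b44024150bc1e0d058240e0501, 0, 20, 0x0, []⟩]

theorem t9_383_1 : jobs 8 S9 b8_383 j9_383_1 = true := by decide +kernel

noncomputable def j9_383_2 : List Job := [
  ⟨61, 0x484462413480442513c4426140b44024150bc1e0d058240e0501, 0, 20, 0x0, []⟩]

theorem t9_383_2 : jobs 8 S9 b8_383 j9_383_2 = true := by decide +kernel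

noncomputable def j9_383_3 : List Job := [
  ⟨60, 0x484462413480442513c4426140b44024150bc1e0d058240e0501, 0, 32, 0x0, []⟩]

theorem t9_383_3 : jobs 8 S9 b8_383 j9_383_3 = true := by decide +kernel

noncomputable def j9_383_4 : List Job := [
  ⟨59, 0x484462413480442513c4426140b44024150bc1e0d058240e0501, 0, 14, 0x0, []⟩]

theorem t9_383_4 : jobs 8 S9 b8_383 j9_383_4 = true := by decide +kernel

noncomputable def j9_383_5 : List Job := [
  ⟨58, 0x484462413480442513c4c2d120bc4429100ac1e0d058240e0501, 0, 32, 0x0, []⟩]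

theorem t9_383_5 : jobs 8 S9 b8_383 j9_383_5 = true := by decide +kernel

noncomputable def j9_383_6 : List Job := [
  ⟨57, 0x484462413480442513c4c2d120bc4429100ac1e0d058240e0501, 0, 20, 0x0, []⟩]

theorem t9_383_6 : jobs 8 S9 b8_383 j9_383_6 = true := by decide +kernel

noncomputable def j9_383_7 : List Job := [
  ⟨56, 0x4904a2613c80422211c502a160bc40221209c1e0d058240e0501, 0, 46, 0x5201005401005601005801005a01005c01, []⟩]

theorem t9_383_7 : jobs 8 S9 b8_383 j9_383_7 = true := by decide +kernel

noncomputable def j9_383_8 : List Job := [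
  ⟨55, 0x4904a2613c80422211c502a160bc40221209c1e0d058240e0501, 0, 46, 0x5201005401005601005801005a01005c01, []⟩]

theorem t9_383_8 : jobs 8 S9 b8_383 j9_383_8 = true := by decide +kernel

noncomputable def j9_383_9 : List Job := [
  ⟨54, 0x4904a2613c80422211c502a160bc40221209c1e0d058240e0501, 0, 72, 0x8201008401008601008801008a01008c01008e01009001, []⟩]

theorem t9_383_9 : jobs 8 S9 b8_383 j9_383_9 = true := by decide +kernel

noncomputable def j9_383_10 : List Job := [
  ⟨53, 0x4904a2613c80422211c502a160bc40221209c1e0d058240e0501, 0, 35, 0x3e01004001004201004401004601, []⟩]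

theorem t9_383_10 : jobs 8 S9 b8_383 j9_383_10 = true := by decide +kernel

noncomputable def j9_383_11 : List Job := [
  ⟨52, 0x4904a2613c80422211c582f140ac48271008c1e0d058240e0501, 0, 72, 0x4204004405004a04004c05005204005405005a04005c05006204006405006a04006c05007204007405007a04007c05008201008401008601008801008a01008c01008e01009001, []⟩]

theorem t9_383_11 : jobs 8 S9 b8_383 j9_383_11 = true := by decide +kernel

noncomputable def j9_383_12 : List Job := [
  ⟨51, 0x4904a2613c80422211c582f140ac48271008c1e0d058240e0501, 0, 50, 0x2a04002c05003204003604003805003e04004204004604004805004e04005204005405005a01005c01005e01006001006201006401, []⟩]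

theorem t9_383_12 : jobs 8 S9 b8_383 j9_383_12 = true := by decide +kernel

noncomputable def j9_383_13 : List Job := [
  ⟨50, 0x4502a160bc40221209c1e0d058240e0501, 0, 32, 0x0, []⟩]

theorem t9_383_13 : jobs 8 S9 b8_383 j9_383_13 = true := by decide +kernel

noncomputable def j9_383_14 : List Job := [
  ⟨49, 0x43e1d0d8642e15098441e0d058240e0501, 0, 18, 0x0, []⟩]

theorem t9_383_14 : jobs 8 S9 b8_383 j9_383_14 = true := by decide +kernel

noncomputable def j9_383_15 : List Job := [
  ⟨48, 0x43e1d0d8642e15098441e0d058240e0501, 0, 41, 0x4a01004c01004e01005001005201, []⟩]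

theorem t9_383_15 : jobs 8 S9 b8_383 j9_383_15 = true := by decide +kernel

noncomputable def j9_383_16 : List Job := [
  ⟨47, 0x43e1d0d8642e15098441e0d058240e0501, 0, 18, 0x0, []⟩]

theorem t9_383_16 : jobs 8 S9 b8_383 j9_383_16 = true := by decide +kernel

noncomputable def j9_383_17 : List Job := [
  ⟨46, 0x43e1d0d8642e15098441e0d058240e0501, 0, 41, 0x2801003201004a01004c01004e01005001005201, []⟩]

theorem t9_383_17 : jobs 8 S9 b8_383 j9_383_17 = true := by decide +kernel

noncomputable def j9_383_18 : List Job := [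
  ⟨45, 0x464361c0f460341d0fc4426140b44024150bc3e1d0d8642e15098441e0d058240e0501, 0, 42, 0x4a01004c01004e01005001005201005401, []⟩]

theorem t9_383_18 : jobs 8 S9 b8_383 j9_383_18 = true := by decide +kernel

noncomputable def j9_383_19 : List Job := [
  ⟨44, 0x4703a1e0fc60321a0dc502a160bc40221209c3e1d0d8642e15098441e0d058240e0501, 0, 41, 0x4a01004c01004e01005001005201, []⟩]

theorem t9_383_19 : jobs 8 S9 b8_383 j9_383_19 = true := by decide +kernel

noncomputable def j9_383_20 : List Job := [
  ⟨43, 0x464361c0f460341d0fc4426140b44024150bc3e1d0d8642e15098441e0d058240e0501, 0, 18, 0x0, []⟩]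

theorem t9_383_20 : jobs 8 S9 b8_383 j9_383_20 = true := by decide +kernel

noncomputable def j9_383_21 : List Job := [
  ⟨42, 0x4703a1e0fc60321a0dc502a160bc40221209c3e1d0d8642e15098441e0d058240e0501, 0, 77, 0x2801002e01004a01004c01004e01005001005201005401005601005801005a01005c01005e01006001006201006401006601006a01007401008c01008e01009001009210009401009811, []⟩]

theorem t9_383_21 : jobs 8 S9 b8_383 j9_383_21 = true := by decide +kernel

noncomputable def j9_383_22 : List Job := [
  ⟨41, 0x4502a160bc40221209c1e0d058240e0501, 0, 32, 0x0, []⟩]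

theorem t9_383_22 : jobs 8 S9 b8_383 j9_383_22 = true := by decide +kernel

noncomputable def j9_383_23 : List Job := [
  ⟨40, 0x43e1d0d8642e15098441e0d058240e0501, 0, 18, 0x0, []⟩]

theorem t9_383_23 : jobs 8 S9 b8_383 j9_383_23 = true := by decide +kernel

noncomputable def j9_383_24 : List Job := [
  ⟨39, 0x43e1d0d8642e15098441e0d058240e0501, 0, 41, 0x4a01004c01004e01005001005201, []⟩]

theorem t9_383_24 : jobs 8 S9 b8_383 j9_383_24 = true := by decide +kernel

noncomputable def j9_383_25 : List Job := [
  ⟨38, 0x43e1d0d8642e15098441e0d058240e0501, 0, 18, 0x0, []⟩]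

theorem t9_383_25 : jobs 8 S9 b8_383 j9_383_25 = true := by decide +kernel

noncomputable def j9_383_26 : List Job := [
  ⟨37, 0x43e1d0d8642e15098441e0d058240e0501, 0, 41, 0x2801003201004a01004c01004e01005001005201, []⟩]

theorem t9_383_26 : jobs 8 S9 b8_383 j9_383_26 = true := by decide +kernel

noncomputable def j9_383_27 : List Job := [
  ⟨36, 0x464361c0f460341d0fc4426140b44024150bc3e1d0d8642e15098441e0d058240e0501, 0, 18, 0x0, []⟩]

theorem t9_383_27 : jobs 8 S9 b8_383 j9_383_27 = true := by decide +kernel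

noncomputable def j9_383_28 : List Job := [
  ⟨35, 0x4703a1e0fc60321a0dc502a160bc40221209c3e1d0d8642e15098441e0d058240e0501, 0, 75, 0x4a01004c01004e01005001005201005401005601005801006401006601006801006a01006c01006e01, []⟩]

theorem t9_383_28 : jobs 8 S9 b8_383 j9_383_28 = true := by decide +kernel

noncomputable def j9_383_29 : List Job := [
  ⟨34, 0x464361c0f460341d0fc4426140b44024150bc3e1d0d8642e15098441e0d058240e0501, 0, 44, 0x2801003201003c01004601004e01005001005201005401005601005801, []⟩]

theorem t9_383_29 : jobs 8 S9 b8_383 j9_383_29 = true := by decide +kernel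

noncomputable def j9_383_30 : List Job := [
  ⟨33, 0x4703a1e0fc60321a0dc502a160bc40221209c3e1d0d8642e15098441e0d058240e0501, 0, 41, 0x2801003201004a01004c01004e01005001005201, []⟩]

theorem t9_383_30 : jobs 8 S9 b8_383 j9_383_30 = true := by decide +kernel

noncomputable def j9_383_31 : List Job := [
  ⟨32, 0x43e1d0d8642e15098441e0d058240e0501, 0, 29, 0x1c01002201003201003401003601003801003a01, []⟩]

theorem t9_383_31 : jobs 8 S9 b8_383 j9_383_31 = true := by decide +kernel

noncomputable def j9_383_32 : List Job := [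
  ⟨31, 0x43e1d0d8642e15098441e0d058240e0501, 0, 12, 0x0, []⟩]

theorem t9_383_32 : jobs 8 S9 b8_383 j9_383_32 = true := by decide +kernel

noncomputable def j9_383_33 : List Job := [
  ⟨30, 0x43e1d0d8642e15098441e0d058240e0501, 0, 14, 0x0, []⟩]

theorem t9_383_33 : jobs 8 S9 b8_383 j9_383_33 = true := by decide +kernel

noncomputable def j9_383_34 : List Job := [
  ⟨29, 0x43e1d0d8642e15098441e0d058240e0501, 0, 34, 0x3a01003c01003e01004001004201004401, []⟩]

theorem t9_383_34 : jobs 8 S9 b8_383 j9_383_34 = true := by decide +kernel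

noncomputable def j9_383_35 : List Job := [
  ⟨28, 0x4703a1e0fc60321a0dc502a160bc40221209c3e1d0d8642e15098441e0d058240e0501, 0, 41, 0x2801002e01004a01004c01004e01005001005201, []⟩]

theorem t9_383_35 : jobs 8 S9 b8_383 j9_383_35 = true := by decide +kernel

noncomputable def j9_383_36 : List Job := [
  ⟨27, 0x43e1d0d8642e15098441e0d058240e0501, 0, 33, 0x2001002601003a01003c01003e01004001004201, []⟩]

theorem t9_383_36 : jobs 8 S9 b8_383 j9_383_36 = true := by decide +kernel

noncomputable def j9_383_37 : List Job := [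
  ⟨26, 0x43e1d0d8642e15098441e0d058240e0501, 0, 14, 0x0, []⟩]

theorem t9_383_37 : jobs 8 S9 b8_383 j9_383_37 = true := by decide +kernel

noncomputable def j9_383_38 : List Job := [
  ⟨25, 0x43e1d0d8642e15098441e0d058240e0501, 0, 16, 0x0, []⟩]

theorem t9_383_38 : jobs 8 S9 b8_383 j9_383_38 = true := by decide +kernel

noncomputable def j9_383_39 : List Job := [
  ⟨24, 0x43e1d0d8642e15098441e0d058240e0501, 0, 36, 0x3e01004001004201004401004601004801, []⟩]

theorem t9_383_39 : jobs 8 S9 b8_383 j9_383_39 = true := by decide +kernel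

noncomputable def j9_383_40 : List Job := [
  ⟨23, 0x464361c0f460341d0fc4426140b44024150bc3e1d0d8642e15098441e0d058240e0501, 0, 34, 0x1e01002401003201003c01003e01004001004201004401, []⟩]

theorem t9_383_40 : jobs 8 S9 b8_383 j9_383_40 = true := by decide +kernel

noncomputable def j9_383_41 : List Job := [
  ⟨22, 0x4703a1e0fc60321a0dc502a160bc40221209c3e1d0d8642e15098441e0d058240e0501, 0, 33, 0x2001002601003a01003c01003e01004001004201, []⟩]

theorem t9_383_41 : jobs 8 S9 b8_383 j9_383_41 = true := by decide +kernel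

noncomputable def j9_383_42 : List Job := [
  ⟨21, 0x464361c0f460341d0fc4426140b44024150bc3e1d0d8642e15098441e0d058240e0501, 0, 16, 0x0, []⟩]

theorem t9_383_42 : jobs 8 S9 b8_383 j9_383_42 = true := by decide +kernel

noncomputable def j9_383_43 : List Job := [
  ⟨20, 0x4703a1e0fc60321a0dc502a160bc40221209c3e1d0d8642e15098441e0d058240e0501, 0, 67, 0x3e01004001004201004401004601004801004a01004c01006c01006e01007001007201007401007601008201008401008601, []⟩]

theorem t9_383_43 : jobs 8 S9 b8_383 j9_383_43 = true := by decide +kernel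

noncomputable def j9_383_44 : List Job := [
  ⟨19, 0x43e1d0d8642e15098441e0d058240e0501, 0, 12, 0x0, []⟩]

theorem t9_383_44 : jobs 8 S9 b8_383 j9_383_44 = true := by decide +kernel

noncomputable def j9_383_45 : List Job := [
  ⟨18, 0x4f07a3e1fce0723a1dcd06a361bcc0623219cb05a2e17ca0522a15c904a2613c80422211c3e1d0d8642e15098441e0d058240e0501, 0, 35, 0x1c01002201003201003401003601003801003a01003c01003e00004001004201004400004601, [(33, ⟨1249, 0x4680041000560006c00840000400206004080000001, 0x18f218a834080200406⟩), (30, ⟨1250, 0x4780140002460045000040010400006000080080001, 0x18e2008828080200406⟩)]⟩]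

theorem t9_383_45 : jobs 8 S9 b8_383 j9_383_45 = true := by decide +kernel

noncomputable def j9_383_46 : List Job := [
  ⟨17, 0x4b05a2e17ca0522a15c904a2613c80422211c703a1e0fc60321a0dc502a160bc40221209c3e1d0d8642e15098441e0d058240e0501, 0, 53, 0x2801002e01004a01004c01004e01005001005201005400005601005a11005c01006000006201006601006801, [(47, ⟨1239, 0x468004b000400005800040000400204000040000001, 0x18d258802c080200802⟩), (41, ⟨1238, 0x4300140002500006800840000400004000040080001, 0x186200a034080200802⟩)]⟩]

theorem t9_383_46 : jobs 8 S9 b8_383 j9_383_46 = true := by decide +kernel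

noncomputable def j9_383_47 : List Job := [
  ⟨16, 0x43e1d0d8642e15098441e0d058240e0501, 0, 29, 0x1c01002201002e01003601, []⟩]

theorem t9_383_47 : jobs 8 S9 b8_383 j9_383_47 = true := by decide +kernel

noncomputable def j9_383_48 : List Job := [
  ⟨15, 0x43e1d0d8642e15098441e0d058240e0501, 0, 62, 0x1c01002201002e01003601003e01004401004a01005001005c01005e01006001006201006401006601006801006a01006c01006e01007001007201007401007601007801007a01007c01, []⟩]

theorem t9_383_48 : jobs 8 S9 b8_383 j9_383_48 = true := by decide +kernel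

noncomputable def j9_383_49 : List Job := [
  ⟨14, 0x43e1d0d8642e15098441e0d058240e0501, 0, 31, 0x0, []⟩]

theorem t9_383_49 : jobs 8 S9 b8_383 j9_383_49 = true := by decide +kernel

noncomputable def j9_383_50 : List Job := [
  ⟨13, 0x43e1d0d8642e15098441e0d058240e0501, 0, 62, 0x6001006201006401006601006801006a01007801007a01007c01, []⟩]

theorem t9_383_50 : jobs 8 S9 b8_383 j9_383_50 = true := by decide +kernel

noncomputable def j9_383_51 : List Job := [
  ⟨12, 0x4783f1c0ec6837180cc582f140ac48271008c3e1d0d8642e15098441e0d058240e0501, 0, 75, 0x2801002e01003c01004201005001005814005e11006409006810006c14007015007410007811007c01007e01008001008201008401008601008801008a01008c01008e01009001009201009401009601, []⟩]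

theorem t9_383_51 : jobs 8 S9 b8_383 j9_383_51 = true := by decide +kernel

noncomputable def j9_383_52 : List Job := [
  ⟨11, 0x43e1d0d8642e15098441e0d058240e0501, 0, 12, 0x1601001801, []⟩]

theorem t9_383_52 : jobs 8 S9 b8_383 j9_383_52 = true := by decide +kernel

noncomputable def j9_383_53 : List Job := [
  ⟨10, 0x43e1d0d8642e15098441e0d058240e0501, 0, 31, 0x1801001e01002401002e01003001003201003401003601003801003a01003c01003e01, []⟩]

theorem t9_383_53 : jobs 8 S9 b8_383 j9_383_53 = true := by decide +kernel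

noncomputable def j9_383_54 : List Job := [
  ⟨9, 0x4783f1c0ec6837180cc582f140ac48271008c3e1d0d8642e15098441e0d058240e0501, 0, 37, 0x1e08002001002410002601002a11002e10003215003608003a01003c01003e01004001004201004601004801004a01, []⟩]

theorem t9_383_54 : jobs 8 S9 b8_383 j9_383_54 = true := by decide +kernel

noncomputable def j9_383_55 : List Job := [
  ⟨8, 0x43e1d0d8642e15098441e0d058240e0501, 0, 58, 0x3e10004001004214004401004611004814006604006801006a04006c01, []⟩]

theorem t9_383_55 : jobs 8 S9 b8_383 j9_383_55 = true := by decide +kernel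

noncomputable def j9_383_56 : List Job := [
  ⟨7, 0x4f07a3e1fce0723a1dcd06a361bcc0623219cb05a2e17ca0522a15c904a2613c80422211c3e1d0d8642e15098441e0d058240e0501, 0, 111, 0x3e01004001004201004401004601004801007a01007c01007e01008014008201008410008601008814008a1100a80100aa0100ac0100ae0100b01000b41000b61000ba1000c01000c20100c41000c60100d00100d20100d40100d60100d81000dc10, []⟩]

theorem t9_383_56 : jobs 8 S9 b8_383 j9_383_56 = true := by decide +kernel

noncomputable def j9_383_57 : List Job := [
  ⟨6, 0x4b05a2e17ca0522a15c904a2613c80422211c783f1c0ec6837180cc582f140ac48271008c3e1d0d8642e15098441e0d058240e0501, 0, 121, 0x2801002e01004c01005410005601005810005a01005c11005e01006201006601006a01006e01008810008a01008c01008e11009201009a1000a00800a60800aa1000ae1000b21100b61100ba1000be0100c00100c20100c40100c60100c81000ca0100cc1100d40100d80100da0100dc0100e00100e81000ea0100ee11, []⟩]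

theorem t9_383_57 : jobs 8 S9 b8_383 j9_383_57 = true := by decide +kernel

noncomputable def j9_383_58 : List Job := [
  ⟨5, 0x5e0f27a3d9f0fa7e3fda0d26a359b0da6e37d44a4542bd40a6552b41e0d058240e0501, 0, 52, 0x440800560d005e0c, []⟩]

theorem t9_383_58 : jobs 8 S9 b8_383 j9_383_58 = true := by decide +kernel

noncomputable def j9_383_59 : List Job := [
  ⟨4, 0x5e0f27a3d9f0fa7e3fda0d26a359b0da6e37d48a6542ad40a2562bc1e0d058240e0501, 0, 60, 0x540800660d006e0c, []⟩]

theorem t9_383_59 : jobs 8 S9 b8_383 j9_383_59 = true := by decide +kernel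

noncomputable def j9_383_60 : List Job := [
  ⟨3, 0x5c4e4753b5c0e6743bd84c46533580c66433d48a6562bd40a2542ac1e0d058240e0501, 0, 40, 0x2a0800340c004e0c, []⟩]

theorem t9_383_60 : jobs 8 S9 b8_383 j9_383_60 = true := by decide +kernel

noncomputable def j9_383_61 : List Job := [
  ⟨2, 0x5108a4623d00824221c1e0d058240e0501, 0, 52, 0x4209004408004608004808004a08004c09004e09005008005209005409, []⟩]

theorem t9_383_61 : jobs 8 S9 b8_383 j9_383_61 = true := by decide +kernel

noncomputable def j9_383_62 : List Job := [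
  ⟨1, 0x5108a4623d00824221c1e0d058240e0501, 0, 60, 0x5209005408005608005808005a08005c09005e09006008006209006409, []⟩]

theorem t9_383_62 : jobs 8 S9 b8_383 j9_383_62 = true := by decide +kernel

noncomputable def j9_383_63 : List Job := [
  ⟨0, 0x5188f4422d08874020c1e0d058240e0501, 0, 40, 0x205000404000605000804000a05000c04000e05001005001204001405002a08002c08002e09003009003209003409003609003809003a08003c08, []⟩]

theorem t9_383_63 : jobs 8 S9 b8_383 j9_383_63 = true := by decide +kernel

theorem d9_383 : Dn 8 S9 b8_383 := dn_of (Js := j9_383_0 ++ (j9_383_1 ++ (j9_383_2 ++ (j9_383_3 ++ (j9_383_4 ++ (j9_383_5 ++ (j9_383_6 ++ (j9_383_7 ++ (j9_383_8 ++ (j9_383_9 ++ (j9_383_10 ++ (j9_383_11 ++ (j9_383_12 ++ (j9_383_13 ++ (j9_383_14 ++ (j9_383_15 ++ (j9_383_16 ++ (j9_383_17 ++ (j9_383_18 ++ (j9_383_19 ++ (j9_383_20 ++ (j9_383_21 ++ (j9_383_22 ++ (j9_383_23 ++ (j9_383_24 ++ (j9_383_25 ++ (j9_383_26 ++ (j9_383_27 ++ (j9_383_28 ++ (j9_383_29 ++ (j9_383_30 ++ (j9_383_31 ++ (j9_383_32 ++ (j9_383_33 ++ (j9_383_34 ++ (j9_383_35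 ++ (j9_383_36 ++ (j9_383_37 ++ (j9_383_38 ++ (j9_383_39 ++ (j9_383_40 ++ (j9_383_41 ++ (j9_383_42 ++ (j9_383_43 ++ (j9_383_44 ++ (j9_383_45 ++ (j9_383_46 ++ (j9_383_47 ++ (j9_383_48 ++ (j9_383_49 ++ (j9_383_50 ++ (j9_383_51 ++ (j9_383_52 ++ (j9_383_53 ++ (j9_383_54 ++ (j9_383_55 ++ (j9_383_56 ++ (j9_383_57 ++ (j9_383_58 ++ (j9_383_59 ++ (j9_383_60 ++ (j9_383_61 ++ (j9_383_62 ++ (j9_383_63 ++ []))))))))))))))))))))))))))))))))))))))))))))))))))))))))))))))))
  (jobs_append t9_383_0 <| jobs_append t9_383_1 <| jobs_append t9_383_2 <| jobs_append t9_383_3 <| jobs_append t9_383_4 <| jobs_append t9_383_5 <| jobs_append t9_383_6 <| jobs_append t9_383_7 <| jobs_append t9_383_8 <| jobs_append t9_383_9 <| jobs_append t9_383_10 <| jobs_append t9_383_11 <| jobs_append t9_383_12 <| jobs_append t9_383_13 <| jobs_append t9_383_14 <| jobs_append t9_383_15 <| jobs_append t9_383_16 <| jobs_append t9_383_17 <| jobs_append t9_383_18 <| jobs_append t9_383_19 <| jobs_append t9_383_20 <| jobs_append t9_383_21 <| jobs_append t9_383_22 <|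 jobs_append t9_383_23 <| jobs_append t9_383_24 <| jobs_append t9_383_25 <| jobs_append t9_383_26 <| jobs_append t9_383_27 <| jobs_append t9_383_28 <| jobs_append t9_383_29 <| jobs_append t9_383_30 <| jobs_append t9_383_31 <| jobs_append t9_383_32 <| jobs_append t9_383_33 <| jobs_append t9_383_34 <| jobs_append t9_383_35 <| jobs_append t9_383_36 <| jobs_append t9_383_37 <| jobs_append t9_383_38 <| jobs_append t9_383_39 <| jobs_append t9_383_40 <| jobs_append t9_383_41 <| jobs_append t9_383_42 <| jobs_append t9_383_43 <| jobs_append t9_383_44 <| jobs_append t9_383_45 <| jobs_append t9_383_46 <| jobs_append t9_383_47 <| jobs_append t9_383_48 <| jobs_append t9_383_49 <| jobs_append t9_383_50 <| jobs_append t9_383_51 <| jobs_append t9_383_52 <| jobs_append t9_383_53 <| jobs_append t9_383_54 <| jobs_append t9_383_55 <| jobs_append t9_383_56 <| jobs_append t9_383_57 <| jobs_append t9_383_58 <| jobs_append t9_383_59 <| jobs_append t9_383_60 <| jobs_append t9_383_61 <| jobs_append t9_383_62 <| jobs_append t9_383_63 <| List.forall_mem_nil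 _) (by decide +kernel)

noncomputable def j9_384_0 : List Job := [
  ⟨63, 0x43e1d0d8642e15098441e0d058240e0501, 0, 16, 0x401000a01001e01002001, []⟩]

theorem t9_384_0 : jobs 8 S9 b8_384 j9_384_0 = true := by decide +kernel

noncomputable def j9_384_1 : List Job := [
  ⟨62, 0x43e1d0d8642e15098441e0d058240e0501, 0, 2, 0x201000401, []⟩]

theorem t9_384_1 : jobs 8 S9 b8_384 j9_384_1 = true := by decide +kernel

noncomputable def j9_384_2 : List Job := [
  ⟨61, 0x43e1d0d8642e15098441e0d058240e0501, 0, 2, 0x201000401, []⟩]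

theorem t9_384_2 : jobs 8 S9 b8_384 j9_384_2 = true := by decide +kernel

noncomputable def j9_384_3 : List Job := [
  ⟨60, 0x4703a1e0fc60321a0dc502a160bc40221209c3e1d0d8642e15098441e0d058240e0501, 0, 19, 0x201000801001201001c01002401002601, []⟩]

theorem t9_384_3 : jobs 8 S9 b8_384 j9_384_3 = true := by decide +kernel

noncomputable def j9_384_4 : List Job := [
  ⟨59, 0x4703a1e0fc60321a0dc502a160bc40221209c3e1d0d8642e15098441e0d058240e0501, 0, 18, 0x401000801000e01002201002401, []⟩]

theorem t9_384_4 : jobs 8 S9 b8_384 j9_384_4 = true := by decide +kernel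

noncomputable def j9_384_5 : List Job := [
  ⟨58, 0x4703a1e0fc60321a0dc502a160bc40221209c3e1d0d8642e15098441e0d058240e0501, 0, 16, 0x201000401000a01002001, []⟩]

theorem t9_384_5 : jobs 8 S9 b8_384 j9_384_5 = true := by decide +kernel

noncomputable def j9_384_6 : List Job := [
  ⟨57, 0x4703a1e0fc60321a0dc502a160bc40221209c3e1d0d8642e15098441e0d058240e0501, 0, 16, 0x201000601000c01002001, []⟩]

theorem t9_384_6 : jobs 8 S9 b8_384 j9_384_6 = true := by decide +kernel

noncomputable def j9_384_7 : List Job := [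
  ⟨56, 0x464361c0f460341d0fc4426140b44024150bc3e1d0d8642e15098441e0d058240e0501, 0, 19, 0x401000a01001801002001002201002401002601, []⟩]

theorem t9_384_7 : jobs 8 S9 b8_384 j9_384_7 = true := by decide +kernel

noncomputable def j9_384_8 : List Job := [
  ⟨55, 0x4703a1e0fc60321a0dc502a160bc40221209c3e1d0d8642e15098441e0d058240e0501, 0, 17, 0x201000401000801000e01002201, []⟩]

theorem t9_384_8 : jobs 8 S9 b8_384 j9_384_8 = true := by decide +kernel

noncomputable def j9_384_9 : List Job := [
  ⟨54, 0x464361c0f460341d0fc4426140b44024150bc3e1d0d8642e15098441e0d058240e0501, 0, 17, 0x401000e01001801002001002201, []⟩]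

theorem t9_384_9 : jobs 8 S9 b8_384 j9_384_9 = true := by decide +kernel

noncomputable def j9_384_10 : List Job := [
  ⟨53, 0x4703a1e0fc60321a0dc502a160bc40221209c3e1d0d8642e15098441e0d058240e0501, 0, 16, 0x401000a01001e01002001, []⟩]

theorem t9_384_10 : jobs 8 S9 b8_384 j9_384_10 = true := by decide +kernel

noncomputable def j9_384_11 : List Job := [
  ⟨52, 0x4c866361bcc062341ac88462613c80422412c582f140ac48271008c1e0d058240e0501, 0, 4, 0x0, []⟩]

theorem t9_384_11 : jobs 8 S9 b8_384 j9_384_11 = true := by decide +kernel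

noncomputable def j9_384_12 : List Job := [
  ⟨51, 0x43e1d0d8642e15098441e0d058240e0501, 0, 1, 0x201, []⟩]

theorem t9_384_12 : jobs 8 S9 b8_384 j9_384_12 = true := by decide +kernel

noncomputable def j9_384_13 : List Job := [
  ⟨50, 0x4e0723a1d8f07a3e1fcc06232198d06a361bca0522a158b05a2e17c804222118904a2613c3e1d0d8642e15098441e0d058240e0501, 0, 16, 0x401000a01001a01001e01, []⟩]

theorem t9_384_13 : jobs 8 S9 b8_384 j9_384_13 = true := by decide +kernel

noncomputable def j9_384_14 : List Job := [
  ⟨49, 0x43e1d0d8642e15098441e0d058240e0501, 0, 2, 0x201000401, []⟩]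

theorem t9_384_14 : jobs 8 S9 b8_384 j9_384_14 = true := by decide +kernel

noncomputable def j9_384_15 : List Job := [
  ⟨48, 0x4e0723a1d8f07a3e1fcc06232198d06a361bca0522a158b05a2e17c804222118904a2613c3e1d0d8642e15098441e0d058240e0501, 0, 20, 0x401000a01001401001a01002201002801, []⟩]

theorem t9_384_15 : jobs 8 S9 b8_384 j9_384_15 = true := by decide +kernel

noncomputable def j9_384_16 : List Job := [
  ⟨47, 0x4a8562c16ca0522e17c88462412c80422613c3e1d0d8642e15098441e0d058240e0501, 0, 2, 0x201000401, []⟩]

theorem t9_384_16 : jobs 8 S9 b8_384 j9_384_16 = true := by decide +kernel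

noncomputable def j9_384_17 : List Job := [
  ⟨46, 0x4a8562e17ca0522c16c88462613c80422412c3e1d0d8642e15098441e0d058240e0501, 0, 14, 0x0, []⟩]

theorem t9_384_17 : jobs 8 S9 b8_384 j9_384_17 = true := by decide +kernel

noncomputable def j9_384_18 : List Job := [
  ⟨45, 0x4a8562c16ca0522e17c88462412c80422613c3e1d0d8642e15098441e0d058240e0501, 0, 2, 0x401, []⟩]

theorem t9_384_18 : jobs 8 S9 b8_384 j9_384_18 = true := by decide +kernel

noncomputable def j9_384_19 : List Job := [
  ⟨44, 0x4a8562e17ca0522c16c88462613c80422412c3e1d0d8642e15098441e0d058240e0501, 0, 14, 0x0, []⟩]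

theorem t9_384_19 : jobs 8 S9 b8_384 j9_384_19 = true := by decide +kernel

noncomputable def j9_384_20 : List Job := [
  ⟨43, 0x4a8562e17ca0522c16c88462613c80422412c3e1d0d8642e15098441e0d058240e0501, 0, 4, 0x201000401000601000801, []⟩]

theorem t9_384_20 : jobs 8 S9 b8_384 j9_384_20 = true := by decide +kernel

noncomputable def j9_384_21 : List Job := [
  ⟨42, 0x4a8562e17ca0522c16c88462613c80422412c3e1d0d8642e15098441e0d058240e0501, 0, 2, 0x201000401, []⟩]

theorem t9_384_21 : jobs 8 S9 b8_384 j9_384_21 = true := by decide +kernel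

noncomputable def j9_384_22 : List Job := [
  ⟨41, 0x4a0522a158b05a2e17c804222118904a2613c703a1e0fc60321a0dc502a160bc40221209c3e1d0d8642e15098441e0d058240e0501, 0, 24, 0x401000a01002601002c01, []⟩]

theorem t9_384_22 : jobs 8 S9 b8_384 j9_384_22 = true := by decide +kernel

noncomputable def j9_384_23 : List Job := [
  ⟨40, 0x4a0522a158b05a2e17c804222118904a2613c703a1e0fc60321a0dc502a160bc40221209c3e1d0d8642e15098441e0d058240e0501, 0, 24, 0x401001601002601002801002c01002e01, []⟩]

theorem t9_384_23 : jobs 8 S9 b8_384 j9_384_23 = true := by decide +kernel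

noncomputable def j9_384_24 : List Job := [
  ⟨39, 0x45e2d158a44e25118841e0d058240e0501, 0, 18, 0x2201002401, []⟩]

theorem t9_384_24 : jobs 8 S9 b8_384 j9_384_24 = true := by decide +kernel

noncomputable def j9_384_25 : List Job := [
  ⟨38, 0x43e1d0d8642e15098441e0d058240e0501, 0, 18, 0x401000a01001a01001c01001e01002001002201002401, []⟩]

theorem t9_384_25 : jobs 8 S9 b8_384 j9_384_25 = true := by decide +kernel

noncomputable def j9_384_26 : List Job := [
  ⟨37, 0x43e1d0d8642e15098441e0d058240e0501, 0, 34, 0x401000a01001c01002201002801002e01003a01003c01003e01004001004201004401, []⟩]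

theorem t9_384_26 : jobs 8 S9 b8_384 j9_384_26 = true := by decide +kernel

noncomputable def j9_384_27 : List Job := [
  ⟨36, 0x43e1d0d8642e15098441e0d058240e0501, 0, 20, 0x1a01001c01001e01002001002201002401002601002801, []⟩]

theorem t9_384_27 : jobs 8 S9 b8_384 j9_384_27 = true := by decide +kernel

noncomputable def j9_384_28 : List Job := [
  ⟨35, 0x43e1d0d8642e15098441e0d058240e0501, 0, 34, 0x0, []⟩]

theorem t9_384_28 : jobs 8 S9 b8_384 j9_384_28 = true := by decide +kernel

noncomputable def j9_384_29 : List Job := [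
  ⟨34, 0x43e1d0d8642e15098441e0d058240e0501, 0, 19, 0x401000a01001a01001c01001e01002001002201002401002601, []⟩]

theorem t9_384_29 : jobs 8 S9 b8_384 j9_384_29 = true := by decide +kernel

noncomputable def j9_384_30 : List Job := [
  ⟨33, 0x43e1d0d8642e15098441e0d058240e0501, 0, 34, 0x401000a01001c01002201002801002e01003a01003c01003e01004001004201004401, []⟩]

theorem t9_384_30 : jobs 8 S9 b8_384 j9_384_30 = true := by decide +kernel

noncomputable def j9_384_31 : List Job := [
  ⟨32, 0x43e1d0d8642e15098441e0d058240e0501, 0, 17, 0x1a01001c01001e01002001002201, []⟩]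

theorem t9_384_31 : jobs 8 S9 b8_384 j9_384_31 = true := by decide +kernel

noncomputable def j9_384_32 : List Job := [
  ⟨31, 0x43e1d0d8642e15098441e0d058240e0501, 0, 42, 0x1c01002201002801002e01003401003a01004001004601004c01005201, []⟩]

theorem t9_384_32 : jobs 8 S9 b8_384 j9_384_32 = true := by decide +kernel

noncomputable def j9_384_33 : List Job := [
  ⟨30, 0x43e1d0d8642e15098441e0d058240e0501, 0, 19, 0x1a01001c01001e01002001002201002401002601, []⟩]

theorem t9_384_33 : jobs 8 S9 b8_384 j9_384_33 = true := by decide +kernel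

noncomputable def j9_384_34 : List Job := [
  ⟨29, 0x43e1d0d8642e15098441e0d058240e0501, 0, 36, 0x1c01002201002801002e01003a01003c01003e01004001004201004401004601004801, []⟩]

theorem t9_384_34 : jobs 8 S9 b8_384 j9_384_34 = true := by decide +kernel

noncomputable def j9_384_35 : List Job := [
  ⟨28, 0x43e1d0d8642e15098441e0d058240e0501, 0, 20, 0x2601002801, []⟩]

theorem t9_384_35 : jobs 8 S9 b8_384 j9_384_35 = true := by decide +kernel

noncomputable def j9_384_36 : List Job := [
  ⟨27, 0x43e1d0d8642e15098441e0d058240e0501, 0, 19, 0x401000801000c01001001002201002401002601, []⟩]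

theorem t9_384_36 : jobs 8 S9 b8_384 j9_384_36 = true := by decide +kernel

noncomputable def j9_384_37 : List Job := [
  ⟨26, 0x4783f1c0ec6837180cc582f140ac48271008c3e1d0d8642e15098441e0d058240e0501, 0, 41, 0x401000a01002608002c09003009003608003a09003e08004208004609004a01004c01004e01005001005201, []⟩]

theorem t9_384_37 : jobs 8 S9 b8_384 j9_384_37 = true := by decide +kernel

noncomputable def j9_384_38 : List Job := [
  ⟨25, 0x4783f1c0ec6837180cc582f140ac48271008c3e1d0d8642e15098441e0d058240e0501, 0, 41, 0x401000a0100261c002801002c08003009003201003610003a11003e1000421d004609004a01004c01004e01005001005201, []⟩]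

theorem t9_384_38 : jobs 8 S9 b8_384 j9_384_38 = true := by decide +kernel

noncomputable def j9_384_39 : List Job := [
  ⟨24, 0x4783f1c0ec6837180cc582f140ac48271008c3e1d0d8642e15098441e0d058240e0501, 0, 41, 0x2610002801002c05003004003201003610003a05003e10004210004604004a01004c01004e01005001005201, []⟩]

theorem t9_384_39 : jobs 8 S9 b8_384 j9_384_39 = true := by decide +kernel

noncomputable def j9_384_40 : List Job := [
  ⟨23, 0x4783f1c0ec6837180cc582f140ac48271008c3e1d0d8642e15098441e0d058240e0501, 0, 43, 0x401000801000c01001001002a10002c01003004003201003605003a11003e04004211004610004a05005001, []⟩]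

theorem t9_384_40 : jobs 8 S9 b8_384 j9_384_40 = true := by decide +kernel

noncomputable def j9_384_41 : List Job := [
  ⟨22, 0x4743d1c0fc6435180dc542d140bc44251009c3e1d0d8642e15098441e0d058240e0501, 0, 18, 0x201000401002201002401, []⟩]

theorem t9_384_41 : jobs 8 S9 b8_384 j9_384_41 = true := by decide +kernel

noncomputable def j9_384_42 : List Job := [
  ⟨21, 0x43e1d0d8642e15098441e0d058240e0501, 0, 5, 0x201000401000601000a01, []⟩]

theorem t9_384_42 : jobs 8 S9 b8_384 j9_384_42 = true := by decide +kernel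

noncomputable def j9_384_43 : List Job := [
  ⟨20, 0x43e1d0d8642e15098441e0d058240e0501, 0, 22, 0x401000a01001001001a01001c01001e01002001002201002601002801002a01002c01, []⟩]

theorem t9_384_43 : jobs 8 S9 b8_384 j9_384_43 = true := by decide +kernel

noncomputable def j9_384_44 : List Job := [
  ⟨19, 0x4783f1c0ec6837180cc582f140ac48271008c3e1d0d8642e15098441e0d058240e0501, 0, 23, 0x201000401000610000801000c05000e01001211001610001a04001e11002201002401002801002a01002c01002e01, []⟩]

theorem t9_384_44 : jobs 8 S9 b8_384 j9_384_44 = true := by decide +kernel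

noncomputable def j9_384_45 : List Job := [
  ⟨18, 0x4c866361bcc062341ac88462613c80422412c5e2d158a44e25118841e0d058240e0501, 0, 46, 0x4a01004c01004e01005001005a01005c01, []⟩]

theorem t9_384_45 : jobs 8 S9 b8_384 j9_384_45 = true := by decide +kernel

noncomputable def j9_384_46 : List Job := [
  ⟨17, 0x43e1d0d8642e15098441e0d058240e0501, 0, 31, 0x0, []⟩]

theorem t9_384_46 : jobs 8 S9 b8_384 j9_384_46 = true := by decide +kernel

noncomputable def j9_384_47 : List Job := [
  ⟨16, 0x4e0723a1d8f07a3e1fcc06232198d06a361bca0522a158b05a2e17c804222118904a2613c3e1d0d8642e15098441e0d058240e0501, 0, 67, 0x4201004401008401, []⟩]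

theorem t9_384_47 : jobs 8 S9 b8_384 j9_384_47 = true := by decide +kernel

noncomputable def j9_384_48 : List Job := [
  ⟨15, 0x43e1d0d8642e15098441e0d058240e0501, 0, 29, 0x401000a01003401, []⟩]

theorem t9_384_48 : jobs 8 S9 b8_384 j9_384_48 = true := by decide +kernel

noncomputable def j9_384_49 : List Job := [
  ⟨14, 0x4e0723a1d8f07a3e1fcc06232198d06a361bca0522a158b05a2e17c804222118904a2613c3e1d0d8642e15098441e0d058240e0501, 0, 65, 0x401000a01001001001601002401002a01003c01003e01004001004201006401006801006a01006e01007401007c01008001, []⟩]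

theorem t9_384_49 : jobs 8 S9 b8_384 j9_384_49 = true := by decide +kernel

noncomputable def j9_384_50 : List Job := [
  ⟨13, 0x4a8562c16ca0522e17c88462412c80422613c3e1d0d8642e15098441e0d058240e0501, 0, 47, 0x401000a01001e01002001002401002801002a01002c01002e01003001003401005601, []⟩]

theorem t9_384_50 : jobs 8 S9 b8_384 j9_384_50 = true := by decide +kernel

noncomputable def j9_384_51 : List Job := [
  ⟨12, 0x4a8562e17ca0522c16c88462613c80422412c3e1d0d8642e15098441e0d058240e0501, 0, 65, 0x2401002a01003e01004001004201004401004601004801007401007e01008001008201, []⟩]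

theorem t9_384_51 : jobs 8 S9 b8_384 j9_384_51 = true := by decide +kernel

noncomputable def j9_384_52 : List Job := [
  ⟨11, 0x4a8562c16ca0522e17c88462412c80422613c3e1d0d8642e15098441e0d058240e0501, 0, 49, 0x2001002401002e01003001003201003401003601003801003a01004001004e01005801005c01, []⟩]

theorem t9_384_52 : jobs 8 S9 b8_384 j9_384_52 = true := by decide +kernel

noncomputable def j9_384_53 : List Job := [
  ⟨10, 0x4a8562e17ca0522c16c88462613c80422412c3e1d0d8642e15098441e0d058240e0501, 0, 67, 0x4a01005001005e01006801006a01006c01006e01007001007201007401007801008001008201008401008601, []⟩]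

theorem t9_384_53 : jobs 8 S9 b8_384 j9_384_53 = true := by decide +kernel

noncomputable def j9_384_54 : List Job := [
  ⟨9, 0x4a8562e17ca0522c16c88462613c80422412c3e1d0d8642e15098441e0d058240e0501, 0, 47, 0x4601004801004a01004c01004e01005001005201005c01005e01, []⟩]

theorem t9_384_54 : jobs 8 S9 b8_384 j9_384_54 = true := by decide +kernel

noncomputable def j9_384_55 : List Job := [
  ⟨8, 0x4a8562e17ca0522c16c88462613c80422412c3e1d0d8642e15098441e0d058240e0501, 0, 45, 0x401000a01000e01001401002201002801002c01003201004201004601004e01005001005201005401005601005801005a01, []⟩]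

theorem t9_384_55 : jobs 8 S9 b8_384 j9_384_55 = true := by decide +kernel

noncomputable def j9_384_56 : List Job := [
  ⟨7, 0x4a0522a158b05a2e17c804222118904a2613c783f1c0ec6837180cc582f140ac48271008c3e1d0d8642e15098441e0d058240e0501, 0, 78, 0x401000801000c01001001002a0c00300c00360d003a0d003e0c00420c00460d004a0d005001005801005e01006c01007201008001008401008c01008e01009001009201009801009a01, []⟩]

theorem t9_384_56 : jobs 8 S9 b8_384 j9_384_56 = true := by decide +kernel

noncomputable def j9_384_57 : List Job := [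
  ⟨6, 0x4a0522a158b05a2e17c804222118904a2613c783f1c0ec6837180cc582f140ac48271008c3e1d0d8642e15098441e0d058240e0501, 0, 75, 0x401000a01002618002801002c15003018003201003609003a15003e18004209004618004a01004c01004e01007c01008601008801008a01008c01009201009401, []⟩]

theorem t9_384_57 : jobs 8 S9 b8_384 j9_384_57 = true := by decide +kernel

noncomputable def j9_384_58 : List Job := [
  ⟨5, 0x4743f1c0f46437180d4542f140b44427100943e1d0d8642e15098441e0d058240e0501, 0, 43, 0x4600004801004a00005001005201005401005601, [(36, ⟨1253, 0x4f801470005e0045000850000400202000080080001, 0x19a238b828090200404⟩), (34, ⟨1252, 0x4f801450005a0005000050010400202000080080001, 0x19a230bc28090200404⟩)]⟩]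

theorem t9_384_58 : jobs 8 S9 b8_384 j9_384_58 = true := by decide +kernel

noncomputable def j9_384_59 : List Job := [
  ⟨4, 0x41e0d058240e0501, 0, 20, 0x0, []⟩]

theorem t9_384_59 : jobs 8 S9 b8_384 j9_384_59 = true := by decide +kernel

noncomputable def j9_384_60 : List Job := [
  ⟨3, 0x41e0d058240e0501, 0, 20, 0x0, []⟩]

theorem t9_384_60 : jobs 8 S9 b8_384 j9_384_60 = true := by decide +kernel

noncomputable def j9_384_61 : List Job := [
  ⟨2, 0x41e0d058240e0501, 0, 14, 0x0, []⟩]

theorem t9_384_61 : jobs 8 S9 b8_384 j9_384_61 = true := by decide +kernel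

noncomputable def j9_384_62 : List Job := [
  ⟨1, 0x41e0d058240e0501, 0, 20, 0x0, []⟩]

theorem t9_384_62 : jobs 8 S9 b8_384 j9_384_62 = true := by decide +kernel

noncomputable def j9_384_63 : List Job := [
  ⟨0, 0x41e0d058240e0501, 0, 20, 0x0, []⟩]

theorem t9_384_63 : jobs 8 S9 b8_384 j9_384_63 = true := by decide +kernel

theorem d9_384 : Dn 8 S9 b8_384 := dn_of (Js := j9_384_0 ++ (j9_384_1 ++ (j9_384_2 ++ (j9_384_3 ++ (j9_384_4 ++ (j9_384_5 ++ (j9_384_6 ++ (j9_384_7 ++ (j9_384_8 ++ (j9_384_9 ++ (j9_384_10 ++ (j9_384_11 ++ (j9_384_12 ++ (j9_384_13 ++ (j9_384_14 ++ (j9_384_15 ++ (j9_384_16 ++ (j9_384_17 ++ (j9_384_18 ++ (j9_384_19 ++ (j9_384_20 ++ (j9_384_21 ++ (j9_384_22 ++ (j9_384_23 ++ (j9_384_24 ++ (j9_384_25 ++ (j9_384_26 ++ (j9_384_27 ++ (j9_384_28 ++ (j9_384_29 ++ (j9_384_30 ++ (j9_384_31 ++ (j9_384_32 ++ (j9_384_33 ++ (j9_384_34 ++ (j9_384_35 ++ (j9_384_36 ++ (j9_384_37 ++ (j9_384_38 ++ (j9_384_39 ++ (j9_384_40 ++ (j9_384_41 ++ (j9_384_42 ++ (j9_384_43 ++ (j9_384_44 ++ (j9_384_45 ++ (j9_384_46 ++ (j9_384_47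 ++ (j9_384_48 ++ (j9_384_49 ++ (j9_384_50 ++ (j9_384_51 ++ (j9_384_52 ++ (j9_384_53 ++ (j9_384_54 ++ (j9_384_55 ++ (j9_384_56 ++ (j9_384_57 ++ (j9_384_58 ++ (j9_384_59 ++ (j9_384_60 ++ (j9_384_61 ++ (j9_384_62 ++ (j9_384_63 ++ []))))))))))))))))))))))))))))))))))))))))))))))))))))))))))))))))
  (jobs_append t9_384_0 <| jobs_append t9_384_1 <| jobs_append t9_384_2 <| jobs_append t9_384_3 <| jobs_append t9_384_4 <| jobs_append t9_384_5 <| jobs_append t9_384_6 <| jobs_append t9_384_7 <| jobs_append t9_384_8 <| jobs_append t9_384_9 <| jobs_append t9_384_10 <| jobs_append t9_384_11 <| jobs_append t9_384_12 <| jobs_append t9_384_13 <| jobs_append t9_384_14 <| jobs_append t9_384_15 <| jobs_append t9_384_16 <| jobs_append t9_384_17 <| jobs_append t9_384_18 <| jobs_append t9_384_19 <| jobs_append t9_384_20 <| jobs_append t9_384_21 <| jobs_append t9_384_22 <| jobs_append t9_384_23 <| jobs_append t9_384_24 <| jobs_append t9_384_25 <| jobs_append t9_384_26 <| jobs_append t9_384_27 <| jobs_append t9_384_28 <| jobs_append t9_384_29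 <| jobs_append t9_384_30 <| jobs_append t9_384_31 <| jobs_append t9_384_32 <| jobs_append t9_384_33 <| jobs_append t9_384_34 <| jobs_append t9_384_35 <| jobs_append t9_384_36 <| jobs_append t9_384_37 <| jobs_append t9_384_38 <| jobs_append t9_384_39 <| jobs_append t9_384_40 <| jobs_append t9_384_41 <| jobs_append t9_384_42 <| jobs_append t9_384_43 <| jobs_append t9_384_44 <| jobs_append t9_384_45 <| jobs_append t9_384_46 <| jobs_append t9_384_47 <| jobs_append t9_384_48 <| jobs_append t9_384_49 <| jobs_append t9_384_50 <| jobs_append t9_384_51 <| jobs_append t9_384_52 <| jobs_append t9_384_53 <| jobs_append t9_384_54 <| jobs_append t9_384_55 <| jobs_append t9_384_56 <| jobs_append t9_384_57 <| jobs_append t9_384_58 <| jobs_append t9_384_59 <| jobs_append t9_384_60 <| jobs_append t9_384_61 <| jobs_append t9_384_62 <| jobs_append t9_384_63 <| List.forall_mem_nil _) (by decide +kernel)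

noncomputable def j9_385_0 : List Job := [
  ⟨63, 0x43e1d0d8642e15098441e0d058240e0501, 0, 20, 0x401000a01001001001601, []⟩]

theorem t9_385_0 : jobs 8 S9 b8_385 j9_385_0 = true := by decide +kernel

noncomputable def j9_385_1 : List Job := [
  ⟨62, 0x43e1d0d8642e15098441e0d058240e0501, 0, 18, 0x401000a01, []⟩]

theorem t9_385_1 : jobs 8 S9 b8_385 j9_385_1 = true := by decide +kernel

noncomputable def j9_385_2 : List Job := [
  ⟨61, 0x43e1d0d8642e15098441e0d058240e0501, 0, 20, 0x401000801000c01001001, []⟩]

theorem t9_385_2 : jobs 8 S9 b8_385 j9_385_2 = true := by decide +kernel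

noncomputable def j9_385_3 : List Job := [
  ⟨60, 0x43e1d0d8642e15098441e0d058240e0501, 0, 18, 0x401000a01, []⟩]

theorem t9_385_3 : jobs 8 S9 b8_385 j9_385_3 = true := by decide +kernel

noncomputable def j9_385_4 : List Job := [
  ⟨59, 0x43e1d0d8642e15098441e0d058240e0501, 0, 18, 0x401000e01, []⟩]

theorem t9_385_4 : jobs 8 S9 b8_385 j9_385_4 = true := by decide +kernel

noncomputable def j9_385_5 : List Job := [
  ⟨58, 0x43e1d0d8642e15098441e0d058240e0501, 0, 18, 0x401000a01, []⟩]

theorem t9_385_5 : jobs 8 S9 b8_385 j9_385_5 = true := by decide +kernel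

noncomputable def j9_385_6 : List Job := [
  ⟨57, 0x43e1d0d8642e15098441e0d058240e0501, 0, 18, 0x401000e01, []⟩]

theorem t9_385_6 : jobs 8 S9 b8_385 j9_385_6 = true := by decide +kernel

noncomputable def j9_385_7 : List Job := [
  ⟨56, 0x4e0723a1d8f07a3e1fcc06232198d06a361bca4562d17ca0542c17484462513c8044241343e1d0d8642e15098441e0d058240e0501, 0, 41, 0x2601002a01002e01003001003601, []⟩]

theorem t9_385_7 : jobs 8 S9 b8_385 j9_385_7 = true := by decide +kernel

noncomputable def j9_385_8 : List Job := [
  ⟨55, 0x4e0723a1d8f07a3e1fcc06232198d06a361bca4562d17ca0542c17484462513c8044241343e1d0d8642e15098441e0d058240e0501, 0, 46, 0x2c01003201004001004601005401005a01, []⟩]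

theorem t9_385_8 : jobs 8 S9 b8_385 j9_385_8 = true := by decide +kernel

noncomputable def j9_385_9 : List Job := [
  ⟨54, 0x4e0723a1d8f07a3e1fcc06232198d06a361bca4562d17ca0542c17484462513c8044241343e1d0d8642e15098441e0d058240e0501, 0, 26, 0x2601002801002c00002e01003000, [(23, ⟨1299, 0x21c004d000b400100042001040040400020040001, 0x187270b820080200404⟩), (21, ⟨1298, 0x200004c004b001110042000040040401020040001, 0x180260b024080200404⟩)]⟩]

theorem t9_385_9 : jobs 8 S9 b8_385 j9_385_9 = true := by decide +kernel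

noncomputable def j9_385_10 : List Job := [
  ⟨53, 0x4e0723a1d8f07a3e1fcc06232198d06a361bca4562d17ca0542c17484462513c8044241343e1d0d8642e15098441e0d058240e0501, 0, 82, 0x2a01003001003e01004401005201005601005801005c01008c01008e0100920100940e00960e009801009a0e009c0e, []⟩]

theorem t9_385_10 : jobs 8 S9 b8_385 j9_385_10 = true := by decide +kernel

noncomputable def j9_385_11 : List Job := [
  ⟨52, 0x4e0723a1d8f07a3e1fcc06232198d06a361bca4562d17ca0542c17484462513c8044241343e1d0d8642e15098441e0d058240e0501, 0, 41, 0x2a01002e01, []⟩]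

theorem t9_385_11 : jobs 8 S9 b8_385 j9_385_11 = true := by decide +kernel

noncomputable def j9_385_12 : List Job := [
  ⟨51, 0x4e0723a1d8f07a3e1fcc06232198d06a361bca4562d17ca0542c17484462513c8044241343e1d0d8642e15098441e0d058240e0501, 0, 44, 0x201000801001601001c01004e01005201005401005801, []⟩]

theorem t9_385_12 : jobs 8 S9 b8_385 j9_385_12 = true := by decide +kernel

noncomputable def j9_385_13 : List Job := [
  ⟨50, 0x4e0723a1d8f07a3e1fcc06232198d06a361bca4562d17ca0542c17484462513c8044241343e1d0d8642e15098441e0d058240e0501, 0, 26, 0x2600002801002c01002e01, [(18, ⟨1297, 0x23c004d0008000140002001040000401020000001, 0x18f2708028080200404⟩)]⟩]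

theorem t9_385_13 : jobs 8 S9 b8_385 j9_385_13 = true := by decide +kernel

noncomputable def j9_385_14 : List Job := [
  ⟨49, 0x4e0723a1d8f07a3e1fcc06232198d06a361bca4562d17ca0542c17484462513c8044241343e1d0d8642e15098441e0d058240e0501, 0, 80, 0x401000a01001801001e01002a10003201003408003819006001006218006601006819006a18006c01007019007201008001008601, []⟩]

theorem t9_385_14 : jobs 8 S9 b8_385 j9_385_14 = true := by decide +kernel

noncomputable def j9_385_15 : List Job := [
  ⟨48, 0x4e4743d1f4e0763c1fcc464351b4c066341bc3e1d0d8642e15098441e0d058240e0501, 0, 41, 0x401000a01002601002801002a01002c01002e01, []⟩]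

theorem t9_385_15 : jobs 8 S9 b8_385 j9_385_15 = true := by decide +kernel

noncomputable def j9_385_16 : List Job := [
  ⟨47, 0x4e4743c1fce0763d1f4c464341bcc066351b43e1d0d8642e15098441e0d058240e0501, 0, 18, 0x401000a01, []⟩]

theorem t9_385_16 : jobs 8 S9 b8_385 j9_385_16 = true := by decide +kernel

noncomputable def j9_385_17 : List Job := [
  ⟨46, 0x4a4562d17ca0542c17484462513c8044241343e1d0d8642e15098441e0d058240e0501, 0, 18, 0x0, []⟩]

theorem t9_385_17 : jobs 8 S9 b8_385 j9_385_17 = true := by decide +kernel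

noncomputable def j9_385_18 : List Job := [
  ⟨45, 0x4a4562d17ca0542c17484462513c8044241343e1d0d8642e15098441e0d058240e0501, 0, 24, 0x2601002801002c01002e01003001, []⟩]

theorem t9_385_18 : jobs 8 S9 b8_385 j9_385_18 = true := by decide +kernel

noncomputable def j9_385_19 : List Job := [
  ⟨44, 0x4e4743c1fce0763d1f4c464341bcc066351b43e1d0d8642e15098441e0d058240e0501, 0, 18, 0x401000e01, []⟩]

theorem t9_385_19 : jobs 8 S9 b8_385 j9_385_19 = true := by decide +kernel

noncomputable def j9_385_20 : List Job := [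
  ⟨43, 0x4e4743d1f4e0763c1fcc464351b4c066341bc3e1d0d8642e15098441e0d058240e0501, 0, 43, 0x401000e01001401, []⟩]

theorem t9_385_20 : jobs 8 S9 b8_385 j9_385_20 = true := by decide +kernel

noncomputable def j9_385_21 : List Job := [
  ⟨42, 0x4a4562d17ca0542c17484462513c8044241343e1d0d8642e15098441e0d058240e0501, 0, 18, 0x0, []⟩]

theorem t9_385_21 : jobs 8 S9 b8_385 j9_385_21 = true := by decide +kernel

noncomputable def j9_385_22 : List Job := [
  ⟨41, 0x4a4562d17ca0542c17484462513c8044241343e1d0d8642e15098441e0d058240e0501, 0, 25, 0x2601002801002c01002e01003001003201, []⟩]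

theorem t9_385_22 : jobs 8 S9 b8_385 j9_385_22 = true := by decide +kernel

noncomputable def j9_385_23 : List Job := [
  ⟨40, 0x4e0723a1d8f07a3e1fcc06232198d06a361bc703a1e0fc60321a0dc502a160bc40221209c3e1d0d8642e15098441e0d058240e0501, 0, 46, 0x401000a01002610002801002c10002e01003210003610, []⟩]

theorem t9_385_23 : jobs 8 S9 b8_385 j9_385_23 = true := by decide +kernel

noncomputable def j9_385_24 : List Job := [
  ⟨39, 0x4e0723a1d8f07a3e1fcc06232198d06a361bc703a1e0fc60321a0dc502a160bc40221209c3e1d0d8642e15098441e0d058240e0501, 0, 48, 0x401000a01001001001601002c01003201004e10005001005410005601005a10005e10, []⟩]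

theorem t9_385_24 : jobs 8 S9 b8_385 j9_385_24 = true := by decide +kernel

noncomputable def j9_385_25 : List Job := [
  ⟨38, 0x4e0723a1d8f07a3e1fcc06232198d06a361bc703a1e0fc60321a0dc502a160bc40221209c3e1d0d8642e15098441e0d058240e0501, 0, 30, 0x401000a01002600002801002c00003001003200003401003800003c01, [(27, ⟨1296, 0x2140044004b001150002000040000401020040001, 0x186220b02c080200404⟩), (24, ⟨1295, 0x22000490048c001c0042000040040400020000001, 0x1882508c38080200404⟩), (21, ⟨1294, 0x2040141004b001180042001040000401020040001, 0x182210b030080200404⟩), (18, ⟨1293, 0x220004900484011c0042000040040401020000001, 0x1882508838080200404⟩)]⟩]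

theorem t9_385_25 : jobs 8 S9 b8_385 j9_385_25 = true := by decide +kernel

noncomputable def j9_385_26 : List Job := [
  ⟨37, 0x4e0723a1d8f07a3e1fcc06232198d06a361bc703a1e0fc60321a0dc502a160bc40221209c3e1d0d8642e15098441e0d058240e0501, 0, 108, 0x401000a01001001001601004c01005201005801005e01009401009a0100a00100a601, []⟩]

theorem t9_385_26 : jobs 8 S9 b8_385 j9_385_26 = true := by decide +kernel

noncomputable def j9_385_27 : List Job := [
  ⟨36, 0x4e0723a1d8f07a3e1fcc06232198d06a361bc703a1e0fc60321a0dc502a160bc40221209c3e1d0d8642e15098441e0d058240e0501, 0, 45, 0x401000a01002600002801002c00002e01003201003401003c00003e01004401004601004c00004e01005400005601, [(41, ⟨1292, 0x438004c002420005c00840000600202000080000001, 0x186268882c080280404⟩), (37, ⟨1291, 0x430004f000520007c00840010600202000080000001, 0x184270a83c080280404⟩), (29, ⟨1290, 0x46800400005c0047800040000600202000080000001, 0x18f200b038080280404⟩), (21, ⟨1289, 0x440004b002420047000840000600002000080000001, 0x188258883a080280404⟩), (18, ⟨1288, 0x4400048002420006000840000600002004080080001,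 0x1882408830080280404⟩)]⟩]

theorem t9_385_27 : jobs 8 S9 b8_385 j9_385_27 = true := by decide +kernel

noncomputable def j9_385_28 : List Job := [
  ⟨35, 0x4e0723a1d8f07a3e1fcc06232198d06a361bc703a1e0fc60321a0dc502a160bc40221209c3e1d0d8642e15098441e0d058240e0501, 0, 81, 0x401001601002801003201004a11004c01005011007c10007e01008210008610008801008c10009201009a01009c01, []⟩]

theorem t9_385_28 : jobs 8 S9 b8_385 j9_385_28 = true := by decide +kernel

noncomputable def j9_385_29 : List Job := [
  ⟨34, 0x4e0723a1d8f07a3e1fcc06232198d06a361bc703a1e0fc60321a0dc502a160bc40221209c3e1d0d8642e15098441e0d058240e0501, 0, 57, 0x401000a01002600002801002a01002e01003001003201003801004a01005a10005c01006010006400006601006801006c00007001, [(53, ⟨1287, 0x4280148000420004400040010400202004080080001, 0x1862408824080200404⟩), (49, ⟨1286, 0x420014d002560047400840010400202004080000001, 0x184270ac3c080200404⟩), (18, ⟨1285, 0x428004e002500046400040000400002000080080001, 0x186268a034080200404⟩)]⟩]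

theorem t9_385_29 : jobs 8 S9 b8_385 j9_385_29 = true := by decide +kernel

noncomputable def j9_385_30 : List Job := [
  ⟨33, 0x4e0723a1d8f07a3e1fcc06232198d06a361bc703a1e0fc60321a0dc502a160bc40221209c3e1d0d8642e15098441e0d058240e0501, 0, 59, 0x401000e01001801002201002c01003601005001005800005a01006000006201006801006a01007001007201, [(47, ⟨1284, 0x43001400025a0046400840010400002000080080001, 0x185200b834080200404⟩), (43, ⟨1283, 0x42001400025a0046c00040010400002000080080001, 0x184200b836080200404⟩)]⟩]

theorem t9_385_30 : jobs 8 S9 b8_385 j9_385_30 = true := by decide +kernel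

noncomputable def j9_385_31 : List Job := [
  ⟨32, 0x4a4562d17ca0542c17484462513c804424134703a1e0fc60321a0dc502a160bc40221209c3e1d0d8642e15098441e0d058240e0501, 0, 38, 0x2601002801002a01002c01002e00003001003401003601003801003a01003c00004000004200004801004a01, [(32, ⟨1280, 0x46800460005c0004000040000600202004080080001, 0x18f220b020080280404⟩), (31, ⟨1279, 0x4400042002420047c00840000600202000080000001, 0x188208883c080280404⟩), (29, ⟨1281, 0x4400049000420007800840010600002000080000001, 0x1882508838080280404⟩), (22, ⟨1282, 0x448014e0004e0006400040000600002000080080001, 0x18a2609834080280404⟩)]⟩]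

theorem t9_385_31 : jobs 8 S9 b8_385 j9_385_31 = true := by decide +kernel

noncomputable def j9_385_32 : List Job := [
  ⟨31, 0x4a4562d17ca0542c17484462513c80442413468361c0ec60321e0fc4826140ac4022160bc3e1d0d8642e15098441e0d058240e0501, 0, 75, 0x2c01003201004e10005001005410005601008800008a01008c00008e11009201009401, [(69, ⟨1278, 0x4600048000420006800840010200202004180000001, 0x18d2408838080281004⟩), (67, ⟨1277, 0x4600048000420006800840010200202004180000001, 0x18d2408838080281004⟩)]⟩]

theorem t9_385_32 : jobs 8 S9 b8_385 j9_385_32 = true := by decide +kernel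

noncomputable def j9_385_33 : List Job := [
  ⟨30, 0x4a4562d17ca0542c17484462513c804424134703a1e0fc60321a0dc502a160bc40221209c3e1d0d8642e15098441e0d058240e0501, 0, 53, 0x2801002c00002e01003201003401003601003800003a01004001005201006210006401006810, [(27, ⟨1276, 0x460014d0025a0044400040000400202000080080001, 0x18c270b824080200404⟩), (21, ⟨1275, 0x4600043002420046400040000400202000080000001, 0x18c2188834080200404⟩)]⟩]

theorem t9_385_33 : jobs 8 S9 b8_385 j9_385_33 = true := by decide +kernel

noncomputable def j9_385_34 : List Job := [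
  ⟨29, 0x4a4562d17ca0542c17484462513c804424134703a1e0fc60321a0dc502a160bc40221209c3e1d0d8642e15098441e0d058240e0501, 0, 58, 0x2c01003201005001005601005a01005e01006201006400006801006c01007001007200, [(56, ⟨1274, 0x4400049000420007000040010400202004080080001, 0x1882508838080200404⟩), (49, ⟨1273, 0x4400049000420007000040010400202004080080001, 0x1882508838080200404⟩)]⟩]

theorem t9_385_34 : jobs 8 S9 b8_385 j9_385_34 = true := by decide +kernel

noncomputable def j9_385_35 : List Job := [
  ⟨28, 0x4a4562d17ca0542c17484462513c804424134703a1e0fc60321a0dc502a160bc40221209c3e1d0d8642e15098441e0d058240e0501, 0, 53, 0x2610002c10005601005801005c01005e01006001006201006401006600006801, [(50, ⟨1272, 0x400004f0024e0044400040000600202000080080001, 0x1802709824080280404⟩)]⟩]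

theorem t9_385_35 : jobs 8 S9 b8_385 j9_385_35 = true := by decide +kernel

noncomputable def j9_385_36 : List Job := [
  ⟨27, 0x4a4562d17ca0542c17484462513c80442413468361c0ec60321e0fc4826140ac4022160bc3e1d0d8642e15098441e0d058240e0501, 0, 53, 0x2801003a01004a10004c01005010005401005601005801005a01005c00005e01006200006401006600006801, [(50, ⟨1271, 0x4000048000420044400840000200002004180000001, 0x1802408824080281004⟩), (48, ⟨1269, 0x4580141000400044000040000200202004180000001, 0x18e2108020080281004⟩), (45, ⟨1270, 0x4100040000440004400040010200202004180000001, 0x1842009024080281004⟩)]⟩]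

theorem t9_385_36 : jobs 8 S9 b8_385 j9_385_36 = true := by decide +kernel

noncomputable def j9_385_37 : List Job := [
  ⟨26, 0x4a4562d17ca0542c17484462513c804424134703a1e0fc60321a0dc502a160bc40221209c3e1d0d8642e15098441e0d058240e0501, 0, 35, 0x2600002a01002c01002e01003401003601003800003a01003c01003e01004001004412004601, [(27, ⟨1268, 0x4200044000520044800040000400002004080000001, 0x184220a822080200404⟩), (18, ⟨1267, 0x4300044000520044000040010400002000080000001, 0x185220a820080200404⟩)]⟩]

theorem t9_385_37 : jobs 8 S9 b8_385 j9_385_37 = true := by decide +kernel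

noncomputable def j9_385_38 : List Job := [
  ⟨25, 0x4a8562e17ca0522c16c88462613c80422412c703a1e0fc60321a0dc502a160bc40221209c3e1d0d8642e15098441e0d058240e0501, 0, 101, 0x210000811003218003401003e01005001006010006201006611006801006c08006e01007208007801007e01009a00009c01009e0100a00100a20100a40100a80000aa0100ac0000ae1000b00100b20000b40100b60100b80100ba0100bc0100c00100c20100c61100c80100ca01, [(88, ⟨1266, 0x830014e0012c001100000800104001020000100100001, 0x183270b020080200802⟩), (85, ⟨1265, 0x800004800028000180000800004000020000100000001, 0x180240a030080200802⟩), (83, ⟨1264, 0x800004800028000180000800004000020000100000001, 0x180240a030080200802⟩), (76, ⟨1263, 0x800004800128001180000800004000020000100000001, 0x180240a030080200802⟩)]⟩]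

theorem t9_385_38 : jobs 8 S9 b8_385 j9_385_38 = true := by decide +kernel

noncomputable def j9_385_39 : List Job := [
  ⟨24, 0x4542f140b44427100941e0d058240e0501, 0, 4, 0x0, []⟩]

theorem t9_385_39 : jobs 8 S9 b8_385 j9_385_39 = true := by decide +kernel

noncomputable def j9_385_40 : List Job := [
  ⟨23, 0x43e1d0d8642e15098441e0d058240e0501, 0, 1, 0x201, []⟩]

theorem t9_385_40 : jobs 8 S9 b8_385 j9_385_40 = true := by decide +kernel

noncomputable def j9_385_41 : List Job := [
  ⟨22, 0x43e1d0d8642e15098441e0d058240e0501, 0, 12, 0x401000a01, []⟩]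

theorem t9_385_41 : jobs 8 S9 b8_385 j9_385_41 = true := by decide +kernel

noncomputable def j9_385_42 : List Job := [
  ⟨21, 0x43e1d0d8642e15098441e0d058240e0501, 0, 1, 0x201, []⟩]

theorem t9_385_42 : jobs 8 S9 b8_385 j9_385_42 = true := by decide +kernel

noncomputable def j9_385_43 : List Job := [
  ⟨20, 0x43e1d0d8642e15098441e0d058240e0501, 0, 14, 0x0, []⟩]

theorem t9_385_43 : jobs 8 S9 b8_385 j9_385_43 = true := by decide +kernel

noncomputable def j9_385_44 : List Job := [
  ⟨19, 0x43e1d0d8642e15098441e0d058240e0501, 0, 2, 0x201000401, []⟩]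

theorem t9_385_44 : jobs 8 S9 b8_385 j9_385_44 = true := by decide +kernel

noncomputable def j9_385_45 : List Job := [
  ⟨18, 0x43e1d0d8642e15098441e0d058240e0501, 0, 13, 0x201000801001401, []⟩]

theorem t9_385_45 : jobs 8 S9 b8_385 j9_385_45 = true := by decide +kernel

noncomputable def j9_385_46 : List Job := [
  ⟨17, 0x43e1d0d8642e15098441e0d058240e0501, 0, 2, 0x201000401, []⟩]

theorem t9_385_46 : jobs 8 S9 b8_385 j9_385_46 = true := by decide +kernel

noncomputable def j9_385_47 : List Job := [
  ⟨16, 0x43e1d0d8642e15098441e0d058240e0501, 0, 16, 0x401000a01001401001a01, []⟩]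

theorem t9_385_47 : jobs 8 S9 b8_385 j9_385_47 = true := by decide +kernel

noncomputable def j9_385_48 : List Job := [
  ⟨15, 0x43e1d0d8642e15098441e0d058240e0501, 0, 2, 0x201000401, []⟩]

theorem t9_385_48 : jobs 8 S9 b8_385 j9_385_48 = true := by decide +kernel

noncomputable def j9_385_49 : List Job := [
  ⟨14, 0x43e1d0d8642e15098441e0d058240e0501, 0, 16, 0x401000a01001a01001c01001e01002001, []⟩]

theorem t9_385_49 : jobs 8 S9 b8_385 j9_385_49 = true := by decide +kernel

noncomputable def j9_385_50 : List Job := [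
  ⟨13, 0x4703a1e0fc60321a0dc502a160bc40221209c3e1d0d8642e15098441e0d058240e0501, 0, 18, 0x401000a01, []⟩]

theorem t9_385_50 : jobs 8 S9 b8_385 j9_385_50 = true := by decide +kernel

noncomputable def j9_385_51 : List Job := [
  ⟨12, 0x4703a1e0fc60321a0dc502a160bc40221209c3e1d0d8642e15098441e0d058240e0501, 0, 18, 0x401001601, []⟩]

theorem t9_385_51 : jobs 8 S9 b8_385 j9_385_51 = true := by decide +kernel

noncomputable def j9_385_52 : List Job := [
  ⟨11, 0x4703a1e0fc60321a0dc502a160bc40221209c3e1d0d8642e15098441e0d058240e0501, 0, 18, 0x401000a01, []⟩]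

theorem t9_385_52 : jobs 8 S9 b8_385 j9_385_52 = true := by decide +kernel

noncomputable def j9_385_53 : List Job := [
  ⟨10, 0x4703a1e0fc60321a0dc502a160bc40221209c3e1d0d8642e15098441e0d058240e0501, 0, 18, 0x401000a01, []⟩]

theorem t9_385_53 : jobs 8 S9 b8_385 j9_385_53 = true := by decide +kernel

noncomputable def j9_385_54 : List Job := [
  ⟨9, 0x4542f140b44427100941e0d058240e0501, 0, 24, 0x201000401000601000801000a01000c01000e01001001001201001401001601001801001a01001c01001e01002001002201002401002601002801002a01002c01002e01003001, []⟩]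

theorem t9_385_54 : jobs 8 S9 b8_385 j9_385_54 = true := by decide +kernel

noncomputable def j9_385_55 : List Job := [
  ⟨8, 0x43e1d0d8642e15098441e0d058240e0501, 0, 4, 0x201000401000601000801, []⟩]

theorem t9_385_55 : jobs 8 S9 b8_385 j9_385_55 = true := by decide +kernel

noncomputable def j9_385_56 : List Job := [
  ⟨7, 0x43e1d0d8642e15098441e0d058240e0501, 0, 2, 0x401, []⟩]

theorem t9_385_56 : jobs 8 S9 b8_385 j9_385_56 = true := by decide +kernel

noncomputable def j9_385_57 : List Job := [
  ⟨6, 0x43e1d0d8642e15098441e0d058240e0501, 0, 18, 0x401000a01001e01002201002401, []⟩]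

theorem t9_385_57 : jobs 8 S9 b8_385 j9_385_57 = true := by decide +kernel

noncomputable def j9_385_58 : List Job := [
  ⟨5, 0x43e1d0d8642e15098441e0d058240e0501, 0, 1, 0x201, []⟩]

theorem t9_385_58 : jobs 8 S9 b8_385 j9_385_58 = true := by decide +kernel

noncomputable def j9_385_59 : List Job := [
  ⟨4, 0x43e1d0d8642e15098441e0d058240e0501, 0, 17, 0x201000801001601002001002201, []⟩]

theorem t9_385_59 : jobs 8 S9 b8_385 j9_385_59 = true := by decide +kernel

noncomputable def j9_385_60 : List Job := [
  ⟨3, 0x43e1d0d8642e15098441e0d058240e0501, 0, 2, 0x201000401, []⟩]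

theorem t9_385_60 : jobs 8 S9 b8_385 j9_385_60 = true := by decide +kernel

noncomputable def j9_385_61 : List Job := [
  ⟨2, 0x43e1d0d8642e15098441e0d058240e0501, 0, 17, 0x401000a01001e01002001002201, []⟩]

theorem t9_385_61 : jobs 8 S9 b8_385 j9_385_61 = true := by decide +kernel

noncomputable def j9_385_62 : List Job := [
  ⟨1, 0x43e1d0d8642e15098441e0d058240e0501, 0, 2, 0x201000401, []⟩]

theorem t9_385_62 : jobs 8 S9 b8_385 j9_385_62 = true := by decide +kernel

noncomputable def j9_385_63 : List Job := [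
  ⟨0, 0x43e1d0d8642e15098441e0d058240e0501, 0, 1, 0x201, []⟩]

theorem t9_385_63 : jobs 8 S9 b8_385 j9_385_63 = true := by decide +kernel

theorem d9_385 : Dn 8 S9 b8_385 := dn_of (Js := j9_385_0 ++ (j9_385_1 ++ (j9_385_2 ++ (j9_385_3 ++ (j9_385_4 ++ (j9_385_5 ++ (j9_385_6 ++ (j9_385_7 ++ (j9_385_8 ++ (j9_385_9 ++ (j9_385_10 ++ (j9_385_11 ++ (j9_385_12 ++ (j9_385_13 ++ (j9_385_14 ++ (j9_385_15 ++ (j9_385_16 ++ (j9_385_17 ++ (j9_385_18 ++ (j9_385_19 ++ (j9_385_20 ++ (j9_385_21 ++ (j9_385_22 ++ (j9_385_23 ++ (j9_385_24 ++ (j9_385_25 ++ (j9_385_26 ++ (j9_385_27 ++ (j9_385_28 ++ (j9_385_29 ++ (j9_385_30 ++ (j9_385_31 ++ (j9_385_32 ++ (j9_385_33 ++ (j9_385_34 ++ (j9_385_35 ++ (j9_385_36 ++ (j9_385_37 ++ (j9_385_38 ++ (j9_385_39 ++ (j9_385_40 ++ (j9_385_41 ++ (j9_385_42 ++ (j9_385_43 ++ (j9_385_44 ++ (j9_385_45 ++ (j9_385_46 ++ (j9_385_47 ++ (j9_385_48 ++ (j9_385_49 ++ (j9_385_50 ++ (j9_385_51 ++ (j9_385_52 ++ (j9_385_53 ++ (j9_385_54 ++ (j9_385_55 ++ (j9_385_56 ++ (j9_385_57 ++ (j9_385_58 ++ (j9_385_59 ++ (j9_385_60 ++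 (j9_385_61 ++ (j9_385_62 ++ (j9_385_63 ++ []))))))))))))))))))))))))))))))))))))))))))))))))))))))))))))))))
  (jobs_append t9_385_0 <| jobs_append t9_385_1 <| jobs_append t9_385_2 <| jobs_append t9_385_3 <| jobs_append t9_385_4 <| jobs_append t9_385_5 <| jobs_append t9_385_6 <| jobs_append t9_385_7 <| jobs_append t9_385_8 <| jobs_append t9_385_9 <| jobs_append t9_385_10 <| jobs_append t9_385_11 <| jobs_append t9_385_12 <| jobs_append t9_385_13 <| jobs_append t9_385_14 <| jobs_append t9_385_15 <| jobs_append t9_385_16 <| jobs_append t9_385_17 <| jobs_append t9_385_18 <| jobs_append t9_385_19 <| jobs_append t9_385_20 <| jobs_append t9_385_21 <| jobs_append t9_385_22 <| jobs_append t9_385_23 <| jobs_append t9_385_24 <| jobs_append t9_385_25 <| jobs_append t9_385_26 <| jobs_append t9_385_27 <| jobs_append t9_385_28 <| jobs_append t9_385_29 <| jobs_append t9_385_30 <| jobs_append t9_385_31 <| jobs_append t9_385_32 <| jobs_append t9_385_33 <| jobs_append t9_385_34 <| jobs_append t9_385_35 <| jobs_append t9_385_36 <| jobs_append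 t9_385_37 <| jobs_append t9_385_38 <| jobs_append t9_385_39 <| jobs_append t9_385_40 <| jobs_append t9_385_41 <| jobs_append t9_385_42 <| jobs_append t9_385_43 <| jobs_append t9_385_44 <| jobs_append t9_385_45 <| jobs_append t9_385_46 <| jobs_append t9_385_47 <| jobs_append t9_385_48 <| jobs_append t9_385_49 <| jobs_append t9_385_50 <| jobs_append t9_385_51 <| jobs_append t9_385_52 <| jobs_append t9_385_53 <| jobs_append t9_385_54 <| jobs_append t9_385_55 <| jobs_append t9_385_56 <| jobs_append t9_385_57 <| jobs_append t9_385_58 <| jobs_append t9_385_59 <| jobs_append t9_385_60 <| jobs_append t9_385_61 <| jobs_append t9_385_62 <| jobs_append t9_385_63 <| List.forall_mem_nil _) (by decide +kernel)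

noncomputable def j9_386_0 : List Job := [
  ⟨63, 0x4a0522a158b05a2e17c804222118904a2613c3e1d0d8642e15098441e0d058240e0501, 0, 18, 0x401001601, []⟩]

theorem t9_386_0 : jobs 8 S9 b8_386 j9_386_0 = true := by decide +kernel

noncomputable def j9_386_1 : List Job := [
  ⟨62, 0x43e1d0d8642e15098441e0d058240e0501, 0, 18, 0x401000a01, []⟩]

theorem t9_386_1 : jobs 8 S9 b8_386 j9_386_1 = true := by decide +kernel

noncomputable def j9_386_2 : List Job := [
  ⟨61, 0x43e1d0d8642e15098441e0d058240e0501, 0, 18, 0x401001601, []⟩]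

theorem t9_386_2 : jobs 8 S9 b8_386 j9_386_2 = true := by decide +kernel

noncomputable def j9_386_3 : List Job := [
  ⟨60, 0x4a0522a158b05a2e17c804222118904a2613c3e1d0d8642e15098441e0d058240e0501, 0, 18, 0x401000a01, []⟩]

theorem t9_386_3 : jobs 8 S9 b8_386 j9_386_3 = true := by decide +kernel

noncomputable def j9_386_4 : List Job := [
  ⟨59, 0x4a0522a158b05a2e17c804222118904a2613c3e1d0d8642e15098441e0d058240e0501, 0, 48, 0x401001601002601002c01003201003601003a01003e01004a01004e01005201005601, []⟩]

theorem t9_386_4 : jobs 8 S9 b8_386 j9_386_4 = true := by decide +kernel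

noncomputable def j9_386_5 : List Job := [
  ⟨50, 0x4542f140b44427100941e0d058240e0501, 0, 4, 0x201000401000601000801, []⟩]

theorem t9_386_5 : jobs 8 S9 b8_386 j9_386_5 = true := by decide +kernel

noncomputable def j9_386_6 : List Job := [
  ⟨49, 0x43e1d0d8642e15098441e0d058240e0501, 0, 18, 0x0, []⟩]

theorem t9_386_6 : jobs 8 S9 b8_386 j9_386_6 = true := by decide +kernel

noncomputable def j9_386_7 : List Job := [
  ⟨46, 0x43e1d0d8642e15098441e0d058240e0501, 0, 18, 0x401000e01, []⟩]

theorem t9_386_7 : jobs 8 S9 b8_386 j9_386_7 = true := by decide +kernel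

noncomputable def j9_386_8 : List Job := [
  ⟨45, 0x43e1d0d8642e15098441e0d058240e0501, 0, 18, 0x201000c01, []⟩]

theorem t9_386_8 : jobs 8 S9 b8_386 j9_386_8 = true := by decide +kernel

noncomputable def j9_386_9 : List Job := [
  ⟨42, 0x43e1d0d8642e15098441e0d058240e0501, 0, 18, 0x0, []⟩]

theorem t9_386_9 : jobs 8 S9 b8_386 j9_386_9 = true := by decide +kernel

noncomputable def j9_386_10 : List Job := [
  ⟨40, 0x43e1d0d8642e15098441e0d058240e0501, 0, 20, 0x401000e01001801002201, []⟩]

theorem t9_386_10 : jobs 8 S9 b8_386 j9_386_10 = true := by decide +kernel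

noncomputable def j9_386_11 : List Job := [
  ⟨38, 0x43e1d0d8642e15098441e0d058240e0501, 0, 20, 0x201000c01001601002001, []⟩]

theorem t9_386_11 : jobs 8 S9 b8_386 j9_386_11 = true := by decide +kernel

noncomputable def j9_386_12 : List Job := [
  ⟨36, 0x43e1d0d8642e15098441e0d058240e0501, 0, 20, 0x201000c01001601002001, []⟩]

theorem t9_386_12 : jobs 8 S9 b8_386 j9_386_12 = true := by decide +kernel

noncomputable def j9_386_13 : List Job := [
  ⟨34, 0x43e1d0d8642e15098441e0d058240e0501, 0, 20, 0x401000e01001801002201, []⟩]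

theorem t9_386_13 : jobs 8 S9 b8_386 j9_386_13 = true := by decide +kernel

noncomputable def j9_386_14 : List Job := [
  ⟨32, 0x43e1d0d8642e15098441e0d058240e0501, 0, 3, 0x201000401000601, []⟩]

theorem t9_386_14 : jobs 8 S9 b8_386 j9_386_14 = true := by decide +kernel

noncomputable def j9_386_15 : List Job := [
  ⟨31, 0x43e1d0d8642e15098441e0d058240e0501, 0, 18, 0x401000a01, []⟩]

theorem t9_386_15 : jobs 8 S9 b8_386 j9_386_15 = true := by decide +kernel

noncomputable def j9_386_16 : List Job := [
  ⟨28, 0x43e1d0d8642e15098441e0d058240e0501, 0, 4, 0x201000401000601000801, []⟩]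

theorem t9_386_16 : jobs 8 S9 b8_386 j9_386_16 = true := by decide +kernel

noncomputable def j9_386_17 : List Job := [
  ⟨26, 0x43e1d0d8642e15098441e0d058240e0501, 0, 20, 0x401000a01001001001601, []⟩]

theorem t9_386_17 : jobs 8 S9 b8_386 j9_386_17 = true := by decide +kernel

noncomputable def j9_386_18 : List Job := [
  ⟨25, 0x4703a1e0fc60321a0dc502a160bc40221209c3e1d0d8642e15098441e0d058240e0501, 0, 2, 0x201000401, []⟩]

theorem t9_386_18 : jobs 8 S9 b8_386 j9_386_18 = true := by decide +kernel

noncomputable def j9_386_19 : List Job := [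
  ⟨24, 0x464361c0f460341d0fc4426140b44024150bc3e1d0d8642e15098441e0d058240e0501, 0, 41, 0x401001601002801002e01004a10004c01005010, []⟩]

theorem t9_386_19 : jobs 8 S9 b8_386 j9_386_19 = true := by decide +kernel

noncomputable def j9_386_20 : List Job := [
  ⟨23, 0x4703a1e0fc60321a0dc502a160bc40221209c3e1d0d8642e15098441e0d058240e0501, 0, 23, 0x2601002801002a01002c01002e01, []⟩]

theorem t9_386_20 : jobs 8 S9 b8_386 j9_386_20 = true := by decide +kernel

noncomputable def j9_386_21 : List Job := [
  ⟨22, 0x4703a1e0fc60321a0dc502a160bc40221209c3e1d0d8642e15098441e0d058240e0501, 0, 20, 0x401000a01001001001601, []⟩]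

theorem t9_386_21 : jobs 8 S9 b8_386 j9_386_21 = true := by decide +kernel

noncomputable def j9_386_22 : List Job := [
  ⟨21, 0x4703a1e0fc60321a0dc502a160bc40221209c3e1d0d8642e15098441e0d058240e0501, 0, 25, 0x401000a01002601002801002a01002c01002e01003001003201, []⟩]

theorem t9_386_22 : jobs 8 S9 b8_386 j9_386_22 = true := by decide +kernel

noncomputable def j9_386_23 : List Job := [
  ⟨20, 0x464361c0f460341d0fc4426140b44024150bc3e1d0d8642e15098441e0d058240e0501, 0, 18, 0x401001601, []⟩]

theorem t9_386_23 : jobs 8 S9 b8_386 j9_386_23 = true := by decide +kernel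

noncomputable def j9_386_24 : List Job := [
  ⟨19, 0x4703a1e0fc60321a0dc502a160bc40221209c3e1d0d8642e15098441e0d058240e0501, 0, 2, 0x201000401, []⟩]

theorem t9_386_24 : jobs 8 S9 b8_386 j9_386_24 = true := by decide +kernel

noncomputable def j9_386_25 : List Job := [
  ⟨18, 0x4703a1e0fc60321a0dc502a160bc40221209c3e1d0d8642e15098441e0d058240e0501, 0, 43, 0x401000e01001801002201005001, []⟩]

theorem t9_386_25 : jobs 8 S9 b8_386 j9_386_25 = true := by decide +kernel

noncomputable def j9_386_26 : List Job := [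
  ⟨17, 0x4703a1e0fc60321a0dc502a160bc40221209c3e1d0d8642e15098441e0d058240e0501, 0, 18, 0x401000a01, []⟩]

theorem t9_386_26 : jobs 8 S9 b8_386 j9_386_26 = true := by decide +kernel

noncomputable def j9_386_27 : List Job := [
  ⟨16, 0x464361c0f460341d0fc4426140b44024150bc3e1d0d8642e15098441e0d058240e0501, 0, 24, 0x401000a01002601002801002a01002c01002e01003001, []⟩]

theorem t9_386_27 : jobs 8 S9 b8_386 j9_386_27 = true := by decide +kernel

noncomputable def j9_386_28 : List Job := [
  ⟨15, 0x4703a1e0fc60321a0dc502a160bc40221209c3e1d0d8642e15098441e0d058240e0501, 0, 2, 0x201000401, []⟩]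

theorem t9_386_28 : jobs 8 S9 b8_386 j9_386_28 = true := by decide +kernel

noncomputable def j9_386_29 : List Job := [
  ⟨14, 0x4703a1e0fc60321a0dc502a160bc40221209c3e1d0d8642e15098441e0d058240e0501, 0, 44, 0x401000a01001001001a01, []⟩]

theorem t9_386_29 : jobs 8 S9 b8_386 j9_386_29 = true := by decide +kernel

noncomputable def j9_386_30 : List Job := [
  ⟨13, 0x4703a1e0fc60321a0dc502a160bc40221209c3e1d0d8642e15098441e0d058240e0501, 0, 2, 0x201000401, []⟩]

theorem t9_386_30 : jobs 8 S9 b8_386 j9_386_30 = true := by decide +kernel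

noncomputable def j9_386_31 : List Job := [
  ⟨12, 0x464361c0f460341d0fc4426140b44024150bc3e1d0d8642e15098441e0d058240e0501, 0, 44, 0x401000e01001801002201002c01003e01004e11005001005410005601, []⟩]

theorem t9_386_31 : jobs 8 S9 b8_386 j9_386_31 = true := by decide +kernel

noncomputable def j9_386_32 : List Job := [
  ⟨11, 0x4703a1e0fc60321a0dc502a160bc40221209c3e1d0d8642e15098441e0d058240e0501, 0, 18, 0x0, []⟩]

theorem t9_386_32 : jobs 8 S9 b8_386 j9_386_32 = true := by decide +kernel

noncomputable def j9_386_33 : List Job := [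
  ⟨10, 0x4703a1e0fc60321a0dc502a160bc40221209c3e1d0d8642e15098441e0d058240e0501, 0, 26, 0x401001601002601002801002a01002c01002e01003001003201003401, []⟩]

theorem t9_386_33 : jobs 8 S9 b8_386 j9_386_33 = true := by decide +kernel

noncomputable def j9_386_34 : List Job := [
  ⟨9, 0x4e0723a1d8f07a3e1fc84462513c804424134502a160bc40221209c1e0d058240e0501, 0, 32, 0x0, []⟩]

theorem t9_386_34 : jobs 8 S9 b8_386 j9_386_34 = true := by decide +kernel

noncomputable def j9_386_35 : List Job := [
  ⟨8, 0x4e0723a1d8f07a3e1fc84462513c804424134502a160bc40221209c1e0d058240e0501, 0, 32, 0x0, []⟩]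

theorem t9_386_35 : jobs 8 S9 b8_386 j9_386_35 = true := by decide +kernel

noncomputable def j9_386_36 : List Job := [
  ⟨7, 0x4e0723a1d8f07a3e1fc84462513c804424134502a160bc40221209c1e0d058240e0501, 0, 32, 0x0, []⟩]

theorem t9_386_36 : jobs 8 S9 b8_386 j9_386_36 = true := by decide +kernel

noncomputable def j9_386_37 : List Job := [
  ⟨6, 0x4e0723a1d8f07a3e1fc84462513c804424134502a160bc40221209c1e0d058240e0501, 0, 32, 0x0, []⟩]

theorem t9_386_37 : jobs 8 S9 b8_386 j9_386_37 = true := by decide +kernel

noncomputable def j9_386_38 : List Job := [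
  ⟨5, 0x4c464341bcc066351b484462513c804424134502a160bc40221209c1e0d058240e0501, 0, 32, 0x0, []⟩]

theorem t9_386_38 : jobs 8 S9 b8_386 j9_386_38 = true := by decide +kernel

noncomputable def j9_386_39 : List Job := [
  ⟨4, 0x4c866341acc062361bc8c4f22134844b20124502a160bc40221209c1e0d058240e0501, 0, 24, 0x0, []⟩]

theorem t9_386_39 : jobs 8 S9 b8_386 j9_386_39 = true := by decide +kernel

noncomputable def j9_386_40 : List Job := [
  ⟨3, 0x4c866341acc062361bc8c4f22134844b20124502a160bc40221209c1e0d058240e0501, 0, 24, 0x0, []⟩]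

theorem t9_386_40 : jobs 8 S9 b8_386 j9_386_40 = true := by decide +kernel

noncomputable def j9_386_41 : List Job := [
  ⟨2, 0x4c464351b4c066341bc84462513c804424134582f140ac48271008c1e0d058240e0501, 0, 32, 0x204000405001204001405002204002405003204003405, []⟩]

theorem t9_386_41 : jobs 8 S9 b8_386 j9_386_41 = true := by decide +kernel

noncomputable def j9_386_42 : List Job := [
  ⟨1, 0x4c866361bcc062341ac8c4f22134844b20124582f140ac48271008c1e0d058240e0501, 0, 30, 0x204000405001604001a04001c05002e04003a01003c01, []⟩]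

theorem t9_386_42 : jobs 8 S9 b8_386 j9_386_42 = true := by decide +kernel

noncomputable def j9_386_43 : List Job := [
  ⟨0, 0x43e1d0d8642e15098441e0d058240e0501, 0, 18, 0x401000a01, []⟩]

theorem t9_386_43 : jobs 8 S9 b8_386 j9_386_43 = true := by decide +kernel

theorem d9_386 : Dn 8 S9 b8_386 := dn_of (Js := j9_386_0 ++ (j9_386_1 ++ (j9_386_2 ++ (j9_386_3 ++ (j9_386_4 ++ (j9_386_5 ++ (j9_386_6 ++ (j9_386_7 ++ (j9_386_8 ++ (j9_386_9 ++ (j9_386_10 ++ (j9_386_11 ++ (j9_386_12 ++ (j9_386_13 ++ (j9_386_14 ++ (j9_386_15 ++ (j9_386_16 ++ (j9_386_17 ++ (j9_386_18 ++ (j9_386_19 ++ (j9_386_20 ++ (j9_386_21 ++ (j9_386_22 ++ (j9_386_23 ++ (j9_386_24 ++ (j9_386_25 ++ (j9_386_26 ++ (j9_386_27 ++ (j9_386_28 ++ (j9_386_29 ++ (j9_386_30 ++ (j9_386_31 ++ (j9_386_32 ++ (j9_386_33 ++ (j9_386_34 ++ (j9_386_35 ++ (j9_386_36 ++ (j9_386_37 ++ (j9_386_38 ++ (j9_386_39 ++ (j9_386_40 ++ (j9_386_41 ++ (j9_386_42 ++ (j9_386_43 ++ []))))))))))))))))))))))))))))))))))))))))))))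
  (jobs_append t9_386_0 <| jobs_append t9_386_1 <| jobs_append t9_386_2 <| jobs_append t9_386_3 <| jobs_append t9_386_4 <| jobs_append t9_386_5 <| jobs_append t9_386_6 <| jobs_append t9_386_7 <| jobs_append t9_386_8 <| jobs_append t9_386_9 <| jobs_append t9_386_10 <| jobs_append t9_386_11 <| jobs_append t9_386_12 <| jobs_append t9_386_13 <| jobs_append t9_386_14 <| jobs_append t9_386_15 <| jobs_append t9_386_16 <| jobs_append t9_386_17 <| jobs_append t9_386_18 <| jobs_append t9_386_19 <| jobs_append t9_386_20 <| jobs_append t9_386_21 <| jobs_append t9_386_22 <| jobs_append t9_386_23 <| jobs_append t9_386_24 <| jobs_append t9_386_25 <| jobs_append t9_386_26 <| jobs_append t9_386_27 <| jobs_append t9_386_28 <| jobs_append t9_386_29 <| jobs_append t9_386_30 <| jobs_append t9_386_31 <| jobs_append t9_386_32 <| jobs_append t9_386_33 <| jobs_append t9_386_34 <| jobs_append t9_386_35 <| jobs_append t9_386_36 <| jobs_append t9_386_37 <| jobs_append t9_386_38 <| jobs_append t9_386_39 <| jobs_append t9_386_40 <| jobs_append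 t9_386_41 <| jobs_append t9_386_42 <| jobs_append t9_386_43 <| List.forall_mem_nil _) (by decide +kernel)

noncomputable def j9_387_0 : List Job := [
  ⟨63, 0x43e1d0d8642e15098441e0d058240e0501, 0, 18, 0x401000a01, []⟩]

theorem t9_387_0 : jobs 8 S9 b8_387 j9_387_0 = true := by decide +kernel

noncomputable def j9_387_1 : List Job := [
  ⟨62, 0x4a0522a158b05a2e17c804222118904a2613c3e1d0d8642e15098441e0d058240e0501, 0, 41, 0x401000e01002601002801002a01003201003801, []⟩]

theorem t9_387_1 : jobs 8 S9 b8_387 j9_387_1 = true := by decide +kernel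

noncomputable def j9_387_2 : List Job := [
  ⟨61, 0x4a0522a158b05a2e17c804222118904a2613c3e1d0d8642e15098441e0d058240e0501, 0, 18, 0x0, []⟩]

theorem t9_387_2 : jobs 8 S9 b8_387 j9_387_2 = true := by decide +kernel

noncomputable def j9_387_3 : List Job := [
  ⟨60, 0x43e1d0d8642e15098441e0d058240e0501, 0, 18, 0x0, []⟩]

theorem t9_387_3 : jobs 8 S9 b8_387 j9_387_3 = true := by decide +kernel

noncomputable def j9_387_4 : List Job := [
  ⟨59, 0x43e1d0d8642e15098441e0d058240e0501, 0, 18, 0x401000e01, []⟩]

theorem t9_387_4 : jobs 8 S9 b8_387 j9_387_4 = true := by decide +kernel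

noncomputable def j9_387_5 : List Job := [
  ⟨58, 0x4a0522a158b05a2e17c804222118904a2613c3e1d0d8642e15098441e0d058240e0501, 0, 18, 0x401000a01, []⟩]

theorem t9_387_5 : jobs 8 S9 b8_387 j9_387_5 = true := by decide +kernel

noncomputable def j9_387_6 : List Job := [
  ⟨57, 0x4a0522a158b05a2e17c804222118904a2613c3e1d0d8642e15098441e0d058240e0501, 0, 43, 0x0, []⟩]

theorem t9_387_6 : jobs 8 S9 b8_387 j9_387_6 = true := by decide +kernel

noncomputable def j9_387_7 : List Job := [
  ⟨50, 0x484442513480462413c542d140bc44251009c1e0d058240e0501, 0, 4, 0x201000401000601000801, []⟩]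

theorem t9_387_7 : jobs 8 S9 b8_387 j9_387_7 = true := by decide +kernel

noncomputable def j9_387_8 : List Job := [
  ⟨47, 0x43e1d0d8642e15098441e0d058240e0501, 0, 18, 0x201000801, []⟩]

theorem t9_387_8 : jobs 8 S9 b8_387 j9_387_8 = true := by decide +kernel

noncomputable def j9_387_9 : List Job := [
  ⟨46, 0x43e1d0d8642e15098441e0d058240e0501, 0, 18, 0x401000a01, []⟩]

theorem t9_387_9 : jobs 8 S9 b8_387 j9_387_9 = true := by decide +kernel

noncomputable def j9_387_10 : List Job := [
  ⟨40, 0x4a0522a158b05a2e17c804222118904a2613c3e1d0d8642e15098441e0d058240e0501, 0, 18, 0x0, []⟩]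

theorem t9_387_10 : jobs 8 S9 b8_387 j9_387_10 = true := by decide +kernel

noncomputable def j9_387_11 : List Job := [
  ⟨39, 0x4a0522a158b05a2e17c804222118904a2613c3e1d0d8642e15098441e0d058240e0501, 0, 18, 0x401000e01, []⟩]

theorem t9_387_11 : jobs 8 S9 b8_387 j9_387_11 = true := by decide +kernel

noncomputable def j9_387_12 : List Job := [
  ⟨37, 0x4a4542c17ca0562d17484442413c8046251343e1d0d8642e15098441e0d058240e0501, 0, 4, 0x201000401000601000801, []⟩]

theorem t9_387_12 : jobs 8 S9 b8_387 j9_387_12 = true := by decide +kernel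

noncomputable def j9_387_13 : List Job := [
  ⟨36, 0x4a8562c16ca0522e17c88462412c80422613c3e1d0d8642e15098441e0d058240e0501, 0, 18, 0x201000c01, []⟩]

theorem t9_387_13 : jobs 8 S9 b8_387 j9_387_13 = true := by decide +kernel

noncomputable def j9_387_14 : List Job := [
  ⟨35, 0x4a4542d174a0562c17c84442513480462413c3e1d0d8642e15098441e0d058240e0501, 0, 42, 0x2601002801002a01002c01002e01003001, []⟩]

theorem t9_387_14 : jobs 8 S9 b8_387 j9_387_14 = true := by decide +kernel

noncomputable def j9_387_15 : List Job := [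
  ⟨34, 0x4a8562e17ca0522c16c88462613c80422412c3e1d0d8642e15098441e0d058240e0501, 0, 18, 0x0, []⟩]

theorem t9_387_15 : jobs 8 S9 b8_387 j9_387_15 = true := by decide +kernel

noncomputable def j9_387_16 : List Job := [
  ⟨30, 0x4a0522a158b05a2e17c804222118904a2613c3e1d0d8642e15098441e0d058240e0501, 0, 20, 0x401000a01001001001601, []⟩]

theorem t9_387_16 : jobs 8 S9 b8_387 j9_387_16 = true := by decide +kernel

noncomputable def j9_387_17 : List Job := [
  ⟨27, 0x4a0522a158b05a2e17c804222118904a2613c3e1d0d8642e15098441e0d058240e0501, 0, 20, 0x201000801000e01001401, []⟩]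

theorem t9_387_17 : jobs 8 S9 b8_387 j9_387_17 = true := by decide +kernel

noncomputable def j9_387_18 : List Job := [
  ⟨25, 0x4804222118904a2613c502a160bc40221209c1e0d058240e0501, 0, 32, 0x0, []⟩]

theorem t9_387_18 : jobs 8 S9 b8_387 j9_387_18 = true := by decide +kernel

noncomputable def j9_387_19 : List Job := [
  ⟨24, 0x4804222118904a2613c502a160bc40221209c1e0d058240e0501, 0, 32, 0x0, []⟩]

theorem t9_387_19 : jobs 8 S9 b8_387 j9_387_19 = true := by decide +kernel

noncomputable def j9_387_20 : List Job := [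
  ⟨23, 0x488462613c80422412c502a160bc40221209c1e0d058240e0501, 0, 32, 0x0, []⟩]

theorem t9_387_20 : jobs 8 S9 b8_387 j9_387_20 = true := by decide +kernel

noncomputable def j9_387_21 : List Job := [
  ⟨22, 0x488462613c80422412c502a160bc40221209c1e0d058240e0501, 0, 32, 0x0, []⟩]

theorem t9_387_21 : jobs 8 S9 b8_387 j9_387_21 = true := by decide +kernel

noncomputable def j9_387_22 : List Job := [
  ⟨21, 0x488462613c80422412c502a160bc40221209c1e0d058240e0501, 0, 24, 0x0, []⟩]

theorem t9_387_22 : jobs 8 S9 b8_387 j9_387_22 = true := by decide +kernel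

noncomputable def j9_387_23 : List Job := [
  ⟨20, 0x488462613c80422412c502a160bc40221209c1e0d058240e0501, 0, 24, 0x0, []⟩]

theorem t9_387_23 : jobs 8 S9 b8_387 j9_387_23 = true := by decide +kernel

noncomputable def j9_387_24 : List Job := [
  ⟨19, 0x488462613c80422412c582f140ac48271008c1e0d058240e0501, 0, 30, 0x204000405000a04000c05001204001405001a04001c05002204002405002a04002c05003201003401003601003801003a01003c01, []⟩]

theorem t9_387_24 : jobs 8 S9 b8_387 j9_387_24 = true := by decide +kernel

noncomputable def j9_387_25 : List Job := [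
  ⟨18, 0x43e1d0d8642e15098441e0d058240e0501, 0, 18, 0x401000a01, []⟩]

theorem t9_387_25 : jobs 8 S9 b8_387 j9_387_25 = true := by decide +kernel

noncomputable def j9_387_26 : List Job := [
  ⟨17, 0x43e1d0d8642e15098441e0d058240e0501, 0, 20, 0x401000a01001801001e01, []⟩]

theorem t9_387_26 : jobs 8 S9 b8_387 j9_387_26 = true := by decide +kernel

noncomputable def j9_387_27 : List Job := [
  ⟨16, 0x43e1d0d8642e15098441e0d058240e0501, 0, 41, 0x201000801002801002e01004a01004c01004e01005001005201, []⟩]

theorem t9_387_27 : jobs 8 S9 b8_387 j9_387_27 = true := by decide +kernel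

noncomputable def j9_387_28 : List Job := [
  ⟨15, 0x43e1d0d8642e15098441e0d058240e0501, 0, 43, 0x401000a01002801002e01003c01004201005001, []⟩]

theorem t9_387_28 : jobs 8 S9 b8_387 j9_387_28 = true := by decide +kernel

noncomputable def j9_387_29 : List Job := [
  ⟨14, 0x43e1d0d8642e15098441e0d058240e0501, 0, 18, 0x401000a01, []⟩]

theorem t9_387_29 : jobs 8 S9 b8_387 j9_387_29 = true := by decide +kernel

noncomputable def j9_387_30 : List Job := [
  ⟨13, 0x43e1d0d8642e15098441e0d058240e0501, 0, 18, 0x401001601, []⟩]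

theorem t9_387_30 : jobs 8 S9 b8_387 j9_387_30 = true := by decide +kernel

noncomputable def j9_387_31 : List Job := [
  ⟨12, 0x43e1d0d8642e15098441e0d058240e0501, 0, 18, 0x401000a01, []⟩]

theorem t9_387_31 : jobs 8 S9 b8_387 j9_387_31 = true := by decide +kernel

noncomputable def j9_387_32 : List Job := [
  ⟨11, 0x43e1d0d8642e15098441e0d058240e0501, 0, 18, 0x401001601, []⟩]

theorem t9_387_32 : jobs 8 S9 b8_387 j9_387_32 = true := by decide +kernel

noncomputable def j9_387_33 : List Job := [
  ⟨10, 0x4a0522a158b05a2e17c804222118904a2613c3e1d0d8642e15098441e0d058240e0501, 0, 41, 0x401000a01002601002801002a01003001003601, []⟩]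

theorem t9_387_33 : jobs 8 S9 b8_387 j9_387_33 = true := by decide +kernel

noncomputable def j9_387_34 : List Job := [
  ⟨9, 0x4a0522a158b05a2e17c804222118904a2613c3e1d0d8642e15098441e0d058240e0501, 0, 20, 0x401000801001801001c01, []⟩]

theorem t9_387_34 : jobs 8 S9 b8_387 j9_387_34 = true := by decide +kernel

noncomputable def j9_387_35 : List Job := [
  ⟨8, 0x4a0522a158b05a2e17c804222118904a2613c3e1d0d8642e15098441e0d058240e0501, 0, 18, 0x401000a01, []⟩]

theorem t9_387_35 : jobs 8 S9 b8_387 j9_387_35 = true := by decide +kernel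

noncomputable def j9_387_36 : List Job := [
  ⟨7, 0x4a0522a158b05a2e17c804222118904a2613c3e1d0d8642e15098441e0d058240e0501, 0, 43, 0x401000a01001801001e01002c01, []⟩]

theorem t9_387_36 : jobs 8 S9 b8_387 j9_387_36 = true := by decide +kernel

noncomputable def j9_387_37 : List Job := [
  ⟨6, 0x4a8562c16ca0522e17c88462412c80422613c3e1d0d8642e15098441e0d058240e0501, 0, 41, 0x401000a01002601002809002a08, []⟩]

theorem t9_387_37 : jobs 8 S9 b8_387 j9_387_37 = true := by decide +kernel

noncomputable def j9_387_38 : List Job := [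
  ⟨5, 0x4a8562c16ca0522e17c88462412c80422613c3e1d0d8642e15098441e0d058240e0501, 0, 26, 0x401001601002601002801002a01002c01002e01003001003201003401, []⟩]

theorem t9_387_38 : jobs 8 S9 b8_387 j9_387_38 = true := by decide +kernel

noncomputable def j9_387_39 : List Job := [
  ⟨4, 0x4a8562e17ca0522c16c88462613c80422412c3e1d0d8642e15098441e0d058240e0501, 0, 41, 0x2801002e01004a01004c01004e01005001005201, []⟩]

theorem t9_387_39 : jobs 8 S9 b8_387 j9_387_39 = true := by decide +kernel

noncomputable def j9_387_40 : List Job := [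
  ⟨3, 0x4a8562e17ca0522c16c88462613c80422412c3e1d0d8642e15098441e0d058240e0501, 0, 74, 0x2610002801002a10002c01002e09003001003208003a01004c01005c19005e01006010006218006410006618006801006a08006c08006e01007018007401007a01, []⟩]

theorem t9_387_40 : jobs 8 S9 b8_387 j9_387_40 = true := by decide +kernel

noncomputable def j9_387_41 : List Job := [
  ⟨2, 0x43e1d0d8642e15098441e0d058240e0501, 0, 18, 0x401000a01, []⟩]

theorem t9_387_41 : jobs 8 S9 b8_387 j9_387_41 = true := by decide +kernel

noncomputable def j9_387_42 : List Job := [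
  ⟨1, 0x43e1d0d8642e15098441e0d058240e0501, 0, 18, 0x401001601, []⟩]

theorem t9_387_42 : jobs 8 S9 b8_387 j9_387_42 = true := by decide +kernel

noncomputable def j9_387_43 : List Job := [
  ⟨0, 0x4a0522a158b05a2e17c804222118904a2613c3e1d0d8642e15098441e0d058240e0501, 0, 44, 0x401000a01002601002801002a01002c01003401003a01004801004e01, []⟩]

theorem t9_387_43 : jobs 8 S9 b8_387 j9_387_43 = true := by decide +kernel

theorem d9_387 : Dn 8 S9 b8_387 := dn_of (Js := j9_387_0 ++ (j9_387_1 ++ (j9_387_2 ++ (j9_387_3 ++ (j9_387_4 ++ (j9_387_5 ++ (j9_387_6 ++ (j9_387_7 ++ (j9_387_8 ++ (j9_387_9 ++ (j9_387_10 ++ (j9_387_11 ++ (j9_387_12 ++ (j9_387_13 ++ (j9_387_14 ++ (j9_387_15 ++ (j9_387_16 ++ (j9_387_17 ++ (j9_387_18 ++ (j9_387_19 ++ (j9_387_20 ++ (j9_387_21 ++ (j9_387_22 ++ (j9_387_23 ++ (j9_387_24 ++ (j9_387_25 ++ (j9_387_26 ++ (j9_387_27 ++ (j9_387_28 ++ (j9_387_29 ++ (j9_387_30 ++ (j9_387_31 ++ (j9_387_32 ++ (j9_387_33 ++ (j9_387_34 ++ (j9_387_35 ++ (j9_387_36 ++ (j9_387_37 ++ (j9_387_38 ++ (j9_387_39 ++ (j9_387_40 ++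 (j9_387_41 ++ (j9_387_42 ++ (j9_387_43 ++ []))))))))))))))))))))))))))))))))))))))))))))
  (jobs_append t9_387_0 <| jobs_append t9_387_1 <| jobs_append t9_387_2 <| jobs_append t9_387_3 <| jobs_append t9_387_4 <| jobs_append t9_387_5 <| jobs_append t9_387_6 <| jobs_append t9_387_7 <| jobs_append t9_387_8 <| jobs_append t9_387_9 <| jobs_append t9_387_10 <| jobs_append t9_387_11 <| jobs_append t9_387_12 <| jobs_append t9_387_13 <| jobs_append t9_387_14 <| jobs_append t9_387_15 <| jobs_append t9_387_16 <| jobs_append t9_387_17 <| jobs_append t9_387_18 <| jobs_append t9_387_19 <| jobs_append t9_387_20 <| jobs_append t9_387_21 <| jobs_append t9_387_22 <| jobs_append t9_387_23 <| jobs_append t9_387_24 <| jobs_append t9_387_25 <| jobs_append t9_387_26 <| jobs_append t9_387_27 <| jobs_append t9_387_28 <| jobs_append t9_387_29 <| jobs_append t9_387_30 <| jobs_append t9_387_31 <| jobs_append t9_387_32 <| jobs_append t9_387_33 <| jobs_append t9_387_34 <| jobs_append t9_387_35 <| jobs_append t9_387_36 <| jobs_append t9_387_37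 <| jobs_append t9_387_38 <| jobs_append t9_387_39 <| jobs_append t9_387_40 <| jobs_append t9_387_41 <| jobs_append t9_387_42 <| jobs_append t9_387_43 <| List.forall_mem_nil _) (by decide +kernel)

noncomputable def j9_388_0 : List Job := [
  ⟨50, 0x484442513480462413c542d140bc44251009c1e0d058240e0501, 0, 4, 0x201000401000601000801, []⟩]

theorem t9_388_0 : jobs 8 S9 b8_388 j9_388_0 = true := by decide +kernel

noncomputable def j9_388_1 : List Job := [
  ⟨47, 0x43e1d0d8642e15098441e0d058240e0501, 0, 18, 0x201000801, []⟩]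

theorem t9_388_1 : jobs 8 S9 b8_388 j9_388_1 = true := by decide +kernel

noncomputable def j9_388_2 : List Job := [
  ⟨46, 0x43e1d0d8642e15098441e0d058240e0501, 0, 18, 0x401000a01, []⟩]

theorem t9_388_2 : jobs 8 S9 b8_388 j9_388_2 = true := by decide +kernel

noncomputable def j9_388_3 : List Job := [
  ⟨41, 0x4a0522a158b05a2e17c804222118904a2613c3e1d0d8642e15098441e0d058240e0501, 0, 20, 0x401000a01001001001601, []⟩]

theorem t9_388_3 : jobs 8 S9 b8_388 j9_388_3 = true := by decide +kernel

noncomputable def j9_388_4 : List Job := [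
  ⟨39, 0x4a0522a158b05a2e17c804222118904a2613c3e1d0d8642e15098441e0d058240e0501, 0, 20, 0x201000801000e01001401, []⟩]

theorem t9_388_4 : jobs 8 S9 b8_388 j9_388_4 = true := by decide +kernel

noncomputable def j9_388_5 : List Job := [
  ⟨37, 0x4a4542c17ca0562d17484442413c8046251343e1d0d8642e15098441e0d058240e0501, 0, 20, 0x201000801000e01001401, []⟩]

theorem t9_388_5 : jobs 8 S9 b8_388 j9_388_5 = true := by decide +kernel

noncomputable def j9_388_6 : List Job := [
  ⟨36, 0x4a8562c16ca0522e17c88462412c80422613c3e1d0d8642e15098441e0d058240e0501, 0, 3, 0x201000401000601, []⟩]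

theorem t9_388_6 : jobs 8 S9 b8_388 j9_388_6 = true := by decide +kernel

noncomputable def j9_388_7 : List Job := [
  ⟨35, 0x4a4542d174a0562c17c84442513480462413c3e1d0d8642e15098441e0d058240e0501, 0, 44, 0x401000a01001001001601004e01005001005201005401005601005801, []⟩]

theorem t9_388_7 : jobs 8 S9 b8_388 j9_388_7 = true := by decide +kernel

noncomputable def j9_388_8 : List Job := [
  ⟨34, 0x4a8562e17ca0522c16c88462613c80422412c3e1d0d8642e15098441e0d058240e0501, 0, 18, 0x0, []⟩]

theorem t9_388_8 : jobs 8 S9 b8_388 j9_388_8 = true := by decide +kernel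

noncomputable def j9_388_9 : List Job := [
  ⟨30, 0x4a0522a158b05a2e17c804222118904a2613c3e1d0d8642e15098441e0d058240e0501, 0, 18, 0x0, []⟩]

theorem t9_388_9 : jobs 8 S9 b8_388 j9_388_9 = true := by decide +kernel

noncomputable def j9_388_10 : List Job := [
  ⟨27, 0x4a0522a158b05a2e17c804222118904a2613c3e1d0d8642e15098441e0d058240e0501, 0, 20, 0x401000a01001001001601, []⟩]

theorem t9_388_10 : jobs 8 S9 b8_388 j9_388_10 = true := by decide +kernel

noncomputable def j9_388_11 : List Job := [
  ⟨25, 0x4804222118904a2613c502a160bc40221209c1e0d058240e0501, 0, 32, 0x0, []⟩]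

theorem t9_388_11 : jobs 8 S9 b8_388 j9_388_11 = true := by decide +kernel

noncomputable def j9_388_12 : List Job := [
  ⟨24, 0x4804222118904a2613c502a160bc40221209c1e0d058240e0501, 0, 32, 0x0, []⟩]

theorem t9_388_12 : jobs 8 S9 b8_388 j9_388_12 = true := by decide +kernel

noncomputable def j9_388_13 : List Job := [
  ⟨23, 0x484442513480462413c502a160bc40221209c1e0d058240e0501, 0, 32, 0x0, []⟩]

theorem t9_388_13 : jobs 8 S9 b8_388 j9_388_13 = true := by decide +kernel

noncomputable def j9_388_14 : List Job := [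
  ⟨22, 0x484442513480462413c502a160bc40221209c1e0d058240e0501, 0, 32, 0x0, []⟩]

theorem t9_388_14 : jobs 8 S9 b8_388 j9_388_14 = true := by decide +kernel

noncomputable def j9_388_15 : List Job := [
  ⟨21, 0x4804222118904a2613c502a160bc40221209c1e0d058240e0501, 0, 32, 0x0, []⟩]

theorem t9_388_15 : jobs 8 S9 b8_388 j9_388_15 = true := by decide +kernel

noncomputable def j9_388_16 : List Job := [
  ⟨20, 0x488462613c80422412c502a160bc40221209c1e0d058240e0501, 0, 24, 0x0, []⟩]

theorem t9_388_16 : jobs 8 S9 b8_388 j9_388_16 = true := by decide +kernel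

noncomputable def j9_388_17 : List Job := [
  ⟨19, 0x488462613c80422412c502a160bc40221209c1e0d058240e0501, 0, 24, 0x0, []⟩]

theorem t9_388_17 : jobs 8 S9 b8_388 j9_388_17 = true := by decide +kernel

noncomputable def j9_388_18 : List Job := [
  ⟨18, 0x4804222118904a2613c582f140ac48271008c1e0d058240e0501, 0, 32, 0x204000405000a04000c05001204001405001a04001c05002204002405002a04002c05003204003405003a04003c05, []⟩]

theorem t9_388_18 : jobs 8 S9 b8_388 j9_388_18 = true := by decide +kernel

noncomputable def j9_388_19 : List Job := [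
  ⟨17, 0x488462613c80422412c582f140ac48271008c1e0d058240e0501, 0, 30, 0x201000401000601000801000a04000c05001204001405001a04001c05002204002405002a04002c05003204003405003a01003c01, []⟩]

theorem t9_388_19 : jobs 8 S9 b8_388 j9_388_19 = true := by decide +kernel

noncomputable def j9_388_20 : List Job := [
  ⟨16, 0x43e1d0d8642e15098441e0d058240e0501, 0, 18, 0x0, []⟩]

theorem t9_388_20 : jobs 8 S9 b8_388 j9_388_20 = true := by decide +kernel

noncomputable def j9_388_21 : List Job := [
  ⟨15, 0x43e1d0d8642e15098441e0d058240e0501, 0, 20, 0x401000a01001001001601, []⟩]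

theorem t9_388_21 : jobs 8 S9 b8_388 j9_388_21 = true := by decide +kernel

noncomputable def j9_388_22 : List Job := [
  ⟨14, 0x43e1d0d8642e15098441e0d058240e0501, 0, 41, 0x401000a01002601002801002a01002c01002e01003001003601, []⟩]

theorem t9_388_22 : jobs 8 S9 b8_388 j9_388_22 = true := by decide +kernel

noncomputable def j9_388_23 : List Job := [
  ⟨13, 0x43e1d0d8642e15098441e0d058240e0501, 0, 43, 0x401003601003c01, []⟩]

theorem t9_388_23 : jobs 8 S9 b8_388 j9_388_23 = true := by decide +kernel

noncomputable def j9_388_24 : List Job := [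
  ⟨12, 0x43e1d0d8642e15098441e0d058240e0501, 0, 18, 0x0, []⟩]

theorem t9_388_24 : jobs 8 S9 b8_388 j9_388_24 = true := by decide +kernel

noncomputable def j9_388_25 : List Job := [
  ⟨11, 0x43e1d0d8642e15098441e0d058240e0501, 0, 18, 0x401000e01, []⟩]

theorem t9_388_25 : jobs 8 S9 b8_388 j9_388_25 = true := by decide +kernel

noncomputable def j9_388_26 : List Job := [
  ⟨10, 0x43e1d0d8642e15098441e0d058240e0501, 0, 18, 0x401000a01, []⟩]

theorem t9_388_26 : jobs 8 S9 b8_388 j9_388_26 = true := by decide +kernel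

noncomputable def j9_388_27 : List Job := [
  ⟨9, 0x43e1d0d8642e15098441e0d058240e0501, 0, 18, 0x0, []⟩]

theorem t9_388_27 : jobs 8 S9 b8_388 j9_388_27 = true := by decide +kernel

noncomputable def j9_388_28 : List Job := [
  ⟨8, 0x4a0522a158b05a2e17c804222118904a2613c3e1d0d8642e15098441e0d058240e0501, 0, 18, 0x401000a01, []⟩]

theorem t9_388_28 : jobs 8 S9 b8_388 j9_388_28 = true := by decide +kernel

noncomputable def j9_388_29 : List Job := [
  ⟨7, 0x4a0522a158b05a2e17c804222118904a2613c3e1d0d8642e15098441e0d058240e0501, 0, 46, 0x401000a01001801001e01005401005801, []⟩]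

theorem t9_388_29 : jobs 8 S9 b8_388 j9_388_29 = true := by decide +kernel

noncomputable def j9_388_30 : List Job := [
  ⟨6, 0x4a0522a158b05a2e17c804222118904a2613c3e1d0d8642e15098441e0d058240e0501, 0, 18, 0x0, []⟩]

theorem t9_388_30 : jobs 8 S9 b8_388 j9_388_30 = true := by decide +kernel

noncomputable def j9_388_31 : List Job := [
  ⟨5, 0x4a0522a158b05a2e17c804222118904a2613c3e1d0d8642e15098441e0d058240e0501, 0, 46, 0x401000801000c01001001002a01003001003e01004401005201005401005601005801, []⟩]

theorem t9_388_31 : jobs 8 S9 b8_388 j9_388_31 = true := by decide +kernel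

noncomputable def j9_388_32 : List Job := [
  ⟨4, 0x4a4542c17ca0562d17484442413c8046251343e1d0d8642e15098441e0d058240e0501, 0, 24, 0x401000a01002601002801002a01002c01002e01003001, []⟩]

theorem t9_388_32 : jobs 8 S9 b8_388 j9_388_32 = true := by decide +kernel

noncomputable def j9_388_33 : List Job := [
  ⟨3, 0x4a4542c17ca0562d17484442413c8046251343e1d0d8642e15098441e0d058240e0501, 0, 44, 0x201000801001601001c01004e01005009005201005409, []⟩]

theorem t9_388_33 : jobs 8 S9 b8_388 j9_388_33 = true := by decide +kernel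

noncomputable def j9_388_34 : List Job := [
  ⟨2, 0x4a4542d174a0562c17c84442513480462413c3e1d0d8642e15098441e0d058240e0501, 0, 41, 0x2601002801002a01002c01002e01, []⟩]

theorem t9_388_34 : jobs 8 S9 b8_388 j9_388_34 = true := by decide +kernel

noncomputable def j9_388_35 : List Job := [
  ⟨1, 0x4a4542d174a0562c17c84442513480462413c3e1d0d8642e15098441e0d058240e0501, 0, 76, 0x401000a01001801001e01002a18002c01002e11003018003210003409003601003808003c01004201005e18006001006218006401008e09009001009208009410009601009808, []⟩]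

theorem t9_388_35 : jobs 8 S9 b8_388 j9_388_35 = true := by decide +kernel

noncomputable def j9_388_36 : List Job := [
  ⟨0, 0x43e1d0d8642e15098441e0d058240e0501, 0, 18, 0x0, []⟩]

theorem t9_388_36 : jobs 8 S9 b8_388 j9_388_36 = true := by decide +kernel

theorem d9_388 : Dn 8 S9 b8_388 := dn_of (Js := j9_388_0 ++ (j9_388_1 ++ (j9_388_2 ++ (j9_388_3 ++ (j9_388_4 ++ (j9_388_5 ++ (j9_388_6 ++ (j9_388_7 ++ (j9_388_8 ++ (j9_388_9 ++ (j9_388_10 ++ (j9_388_11 ++ (j9_388_12 ++ (j9_388_13 ++ (j9_388_14 ++ (j9_388_15 ++ (j9_388_16 ++ (j9_388_17 ++ (j9_388_18 ++ (j9_388_19 ++ (j9_388_20 ++ (j9_388_21 ++ (j9_388_22 ++ (j9_388_23 ++ (j9_388_24 ++ (j9_388_25 ++ (j9_388_26 ++ (j9_388_27 ++ (j9_388_28 ++ (j9_388_29 ++ (j9_388_30 ++ (j9_388_31 ++ (j9_388_32 ++ (j9_388_33 ++ (j9_388_34 ++ (j9_388_35 ++ (j9_388_36 ++ [])))))))))))))))))))))))))))))))))))))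
  (jobs_append t9_388_0 <| jobs_append t9_388_1 <| jobs_append t9_388_2 <| jobs_append t9_388_3 <| jobs_append t9_388_4 <| jobs_append t9_388_5 <| jobs_append t9_388_6 <| jobs_append t9_388_7 <| jobs_append t9_388_8 <| jobs_append t9_388_9 <| jobs_append t9_388_10 <| jobs_append t9_388_11 <| jobs_append t9_388_12 <| jobs_append t9_388_13 <| jobs_append t9_388_14 <| jobs_append t9_388_15 <| jobs_append t9_388_16 <| jobs_append t9_388_17 <| jobs_append t9_388_18 <| jobs_append t9_388_19 <| jobs_append t9_388_20 <| jobs_append t9_388_21 <| jobs_append t9_388_22 <| jobs_append t9_388_23 <| jobs_append t9_388_24 <| jobs_append t9_388_25 <| jobs_append t9_388_26 <| jobs_append t9_388_27 <| jobs_append t9_388_28 <| jobs_append t9_388_29 <| jobs_append t9_388_30 <| jobs_append t9_388_31 <| jobs_append t9_388_32 <| jobs_append t9_388_33 <| jobs_append t9_388_34 <| jobs_append t9_388_35 <| jobs_append t9_388_36 <| List.forall_mem_nil _) (by decide +kernel)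

noncomputable def j9_389_0 : List Job := [
  ⟨63, 0x4a4562d17ca0542c17484462513c80442413468361e0fc60321c0ec4826160bc4022140ac3e1d0d8642e15098441e0d058240e0501, 0, 121, 0x208000401000609003008003201003608005e10006001006410006601006a08006c01006e08007008007201007410007801008a01009a01009c01009e0100a20100a80100c40100c60100cc0100d41100d60100da1100dc0100e01100e41100e60100e81100ea1100ee0100f00100f201, []⟩]

theorem t9_389_0 : jobs 8 S9 b8_389 j9_389_0 = true := by decide +kernel

noncomputable def j9_389_1 : List Job := [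
  ⟨62, 0x4a4562d17ca0542c17484462513c80442413468361e0fc60321c0ec4826160bc4022140ac3e1d0d8642e15098441e0d058240e0501, 0, 74, 0x210000401000610000801002e10003001003411003601005e18006001006418006818006a01006c11006e18007010007401007a01, []⟩]

theorem t9_389_1 : jobs 8 S9 b8_389 j9_389_1 = true := by decide +kernel

noncomputable def j9_389_2 : List Job := [
  ⟨61, 0x520924a259309a4e27d008242219108a4623ca4562d17ca0542c17484462513c80442413468361e0fc60321c0ec4826160bc4022140ac3e1d0d8642e15098441e0d058240e0501, 0, 133, 0x218003018003201005e18006001006418006601007210007611008001008a0100a21100a81100ac1000ae0100b21000b60100bc1000be0100c01000c21000c61000c81000ca1000f201010201010401, []⟩]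

theorem t9_389_2 : jobs 8 S9 b8_389 j9_389_2 = true := by decide +kernel

noncomputable def j9_389_3 : List Job := [
  ⟨55, 0x41e0d058240e0501, 0, 3, 0x201000401000601, []⟩]

theorem t9_389_3 : jobs 8 S9 b8_389 j9_389_3 = true := by decide +kernel

noncomputable def j9_389_4 : List Job := [
  ⟨49, 0x41e0d058240e0501, 0, 3, 0x201000401000601, []⟩]

theorem t9_389_4 : jobs 8 S9 b8_389 j9_389_4 = true := by decide +kernel

noncomputable def j9_389_5 : List Job := [
  ⟨43, 0x4c466351bcc064341b484462513c8044241341e0d058240e0501, 0, 3, 0x201000401000601, []⟩]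

theorem t9_389_5 : jobs 8 S9 b8_389 j9_389_5 = true := by decide +kernel

noncomputable def j9_389_6 : List Job := [
  ⟨42, 0x4c06232198d06a361bc84462513c8044241341e0d058240e0501, 0, 32, 0x0, []⟩]

theorem t9_389_6 : jobs 8 S9 b8_389 j9_389_6 = true := by decide +kernel

noncomputable def j9_389_7 : List Job := [
  ⟨41, 0x4c06232198d06a361bc84462513c8044241341e0d058240e0501, 0, 32, 0x0, []⟩]

theorem t9_389_7 : jobs 8 S9 b8_389 j9_389_7 = true := by decide +kernel

noncomputable def j9_389_8 : List Job := [
  ⟨40, 0x4c06232198d06a361bc804222118904a2613c1e0d058240e0501, 0, 20, 0x0, []⟩]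

theorem t9_389_8 : jobs 8 S9 b8_389 j9_389_8 = true := by decide +kernel

noncomputable def j9_389_9 : List Job := [
  ⟨39, 0x4c466341b4c064351bc84462513c8044241341e0d058240e0501, 0, 24, 0x0, []⟩]

theorem t9_389_9 : jobs 8 S9 b8_389 j9_389_9 = true := by decide +kernel

noncomputable def j9_389_10 : List Job := [
  ⟨38, 0x4c06232198d06a361bc804222118904a2613c1e0d058240e0501, 0, 20, 0x0, []⟩]

theorem t9_389_10 : jobs 8 S9 b8_389 j9_389_10 = true := by decide +kernel

noncomputable def j9_389_11 : List Job := [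
  ⟨37, 0x4c466351bcc064341b484462513c8044241341e0d058240e0501, 0, 21, 0x2201002401002601002801002a01, []⟩]

theorem t9_389_11 : jobs 8 S9 b8_389 j9_389_11 = true := by decide +kernel

noncomputable def j9_389_12 : List Job := [
  ⟨34, 0x41e0d058240e0501, 0, 3, 0x201000401000601, []⟩]

theorem t9_389_12 : jobs 8 S9 b8_389 j9_389_12 = true := by decide +kernel

noncomputable def j9_389_13 : List Job := [
  ⟨31, 0x41e0d058240e0501, 0, 3, 0x201000401000601, []⟩]

theorem t9_389_13 : jobs 8 S9 b8_389 j9_389_13 = true := by decide +kernel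

noncomputable def j9_389_14 : List Job := [
  ⟨28, 0x4c466351bcc064341b484462513c8044241341e0d058240e0501, 0, 3, 0x201000401000601, []⟩]

theorem t9_389_14 : jobs 8 S9 b8_389 j9_389_14 = true := by decide +kernel

noncomputable def j9_389_15 : List Job := [
  ⟨27, 0x4c06232198d06a361bc84462513c8044241341e0d058240e0501, 0, 32, 0x0, []⟩]

theorem t9_389_15 : jobs 8 S9 b8_389 j9_389_15 = true := by decide +kernel

noncomputable def j9_389_16 : List Job := [
  ⟨26, 0x4c06232198d06a361bc84462513c8044241341e0d058240e0501, 0, 32, 0x0, []⟩]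

theorem t9_389_16 : jobs 8 S9 b8_389 j9_389_16 = true := by decide +kernel

noncomputable def j9_389_17 : List Job := [
  ⟨25, 0x4c466351bcc064341b484462513c8044241341e0d058240e0501, 0, 23, 0x2601002801002a01002c01002e01, []⟩]

theorem t9_389_17 : jobs 8 S9 b8_389 j9_389_17 = true := by decide +kernel

noncomputable def j9_389_18 : List Job := [
  ⟨19, 0x484462513c8044241341e0d058240e0501, 0, 3, 0x201000401000601, []⟩]

theorem t9_389_18 : jobs 8 S9 b8_389 j9_389_18 = true := by decide +kernel

noncomputable def j9_389_19 : List Job := [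
  ⟨14, 0x484442513480462413c1e0d058240e0501, 0, 2, 0x201000401, []⟩]

theorem t9_389_19 : jobs 8 S9 b8_389 j9_389_19 = true := by decide +kernel

noncomputable def j9_389_20 : List Job := [
  ⟨13, 0x484462513c8044241341e0d058240e0501, 0, 3, 0x201000401000601, []⟩]

theorem t9_389_20 : jobs 8 S9 b8_389 j9_389_20 = true := by decide +kernel

noncomputable def j9_389_21 : List Job := [
  ⟨7, 0x48c4b22124844f201341e0d058240e0501, 0, 3, 0x0, []⟩]

theorem t9_389_21 : jobs 8 S9 b8_389 j9_389_21 = true := by decide +kernel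

noncomputable def j9_389_22 : List Job := [
  ⟨6, 0x488462613c80422412c1e0d058240e0501, 0, 32, 0x0, []⟩]

theorem t9_389_22 : jobs 8 S9 b8_389 j9_389_22 = true := by decide +kernel

noncomputable def j9_389_23 : List Job := [
  ⟨5, 0x488462613c80422412c1e0d058240e0501, 0, 32, 0x0, []⟩]

theorem t9_389_23 : jobs 8 S9 b8_389 j9_389_23 = true := by decide +kernel

noncomputable def j9_389_24 : List Job := [
  ⟨4, 0x488462613c80422412c1e0d058240e0501, 0, 20, 0x0, []⟩]

theorem t9_389_24 : jobs 8 S9 b8_389 j9_389_24 = true := by decide +kernel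

noncomputable def j9_389_25 : List Job := [
  ⟨3, 0x48c4f22134844b201241e0d058240e0501, 0, 24, 0x0, []⟩]

theorem t9_389_25 : jobs 8 S9 b8_389 j9_389_25 = true := by decide +kernel

noncomputable def j9_389_26 : List Job := [
  ⟨2, 0x488462613c80422412c1e0d058240e0501, 0, 20, 0x0, []⟩]

theorem t9_389_26 : jobs 8 S9 b8_389 j9_389_26 = true := by decide +kernel

noncomputable def j9_389_27 : List Job := [
  ⟨1, 0x48c4f22134844b201241e0d058240e0501, 0, 21, 0x2801002a01, []⟩]

theorem t9_389_27 : jobs 8 S9 b8_389 j9_389_27 = true := by decide +kernel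

theorem d9_389 : Dn 8 S9 b8_389 := dn_of (Js := j9_389_0 ++ (j9_389_1 ++ (j9_389_2 ++ (j9_389_3 ++ (j9_389_4 ++ (j9_389_5 ++ (j9_389_6 ++ (j9_389_7 ++ (j9_389_8 ++ (j9_389_9 ++ (j9_389_10 ++ (j9_389_11 ++ (j9_389_12 ++ (j9_389_13 ++ (j9_389_14 ++ (j9_389_15 ++ (j9_389_16 ++ (j9_389_17 ++ (j9_389_18 ++ (j9_389_19 ++ (j9_389_20 ++ (j9_389_21 ++ (j9_389_22 ++ (j9_389_23 ++ (j9_389_24 ++ (j9_389_25 ++ (j9_389_26 ++ (j9_389_27 ++ []))))))))))))))))))))))))))))
  (jobs_append t9_389_0 <| jobs_append t9_389_1 <| jobs_append t9_389_2 <| jobs_append t9_389_3 <| jobs_append t9_389_4 <| jobs_append t9_389_5 <| jobs_append t9_389_6 <| jobs_append t9_389_7 <| jobs_append t9_389_8 <| jobs_append t9_389_9 <| jobs_append t9_389_10 <| jobs_append t9_389_11 <| jobs_append t9_389_12 <| jobs_append t9_389_13 <| jobs_append t9_389_14 <| jobs_append t9_389_15 <| jobs_append t9_389_16 <| jobs_append t9_389_17 <| jobs_append t9_389_18 <| jobs_append t9_389_19 <| jobs_append t9_389_20 <| jobs_append t9_389_21 <| jobs_append t9_389_22 <|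 jobs_append t9_389_23 <| jobs_append t9_389_24 <| jobs_append t9_389_25 <| jobs_append t9_389_26 <| jobs_append t9_389_27 <| List.forall_mem_nil _) (by decide +kernel)

noncomputable def j9_390_0 : List Job := [
  ⟨63, 0x43e1d0d8642e15098441e0d058240e0501, 0, 44, 0x2801002e01003401003a01004e01005001005201005401005601005801, []⟩]

theorem t9_390_0 : jobs 8 S9 b8_390 j9_390_0 = true := by decide +kernel

noncomputable def j9_390_1 : List Job := [
  ⟨62, 0x520924a259309a4e27d008242219108a4623c3e1d0d8642e15098441e0d058240e0501, 0, 41, 0x2801002e01004a01004c01004e01, []⟩]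

theorem t9_390_1 : jobs 8 S9 b8_390 j9_390_1 = true := by decide +kernel

noncomputable def j9_390_2 : List Job := [
  ⟨61, 0x5309a4e27d20924a25d108a4623d00824221c3e1d0d8642e15098441e0d058240e0501, 0, 44, 0x2801002c01003001003401004e10005001005210005401, []⟩]

theorem t9_390_2 : jobs 8 S9 b8_390 j9_390_2 = true := by decide +kernel

noncomputable def j9_390_3 : List Job := [
  ⟨60, 0x4e0723a1d8f07a3e1fcc06232198d06a361bc68361e0fc60321c0ec4826160bc4022140ac3e1d0d8642e15098441e0d058240e0501, 0, 82, 0x401000a01002801002e01003c01004201005001005a01006001006601006c01008014008201008614008801008c14009014009401009601009c01009e0100a00100a201, []⟩]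

theorem t9_390_3 : jobs 8 S9 b8_390 j9_390_3 = true := by decide +kernel

noncomputable def j9_390_4 : List Job := [
  ⟨59, 0x4e0723a1d8f07a3e1fcc06232198d06a361bc68361e0fc60321c0ec4826160bc4022140ac3e1d0d8642e15098441e0d058240e0501, 0, 41, 0x401000a01002801002e01004a01004c01005201, []⟩]

theorem t9_390_4 : jobs 8 S9 b8_390 j9_390_4 = true := by decide +kernel

noncomputable def j9_390_5 : List Job := [
  ⟨58, 0x4e0723a1d8f07a3e1fcc06232198d06a361bc68361e0fc60321c0ec4826160bc4022140ac3e1d0d8642e15098441e0d058240e0501, 0, 41, 0x401000a01004a01004c01005201, []⟩]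

theorem t9_390_5 : jobs 8 S9 b8_390 j9_390_5 = true := by decide +kernel

noncomputable def j9_390_6 : List Job := [
  ⟨57, 0x4e0723a1d8f07a3e1fcc06232198d06a361bc68361e0fc60321c0ec4826160bc4022140ac3e1d0d8642e15098441e0d058240e0501, 0, 78, 0x2c01003201004001004601005401005a01008c01008e01009401009601009801009a01, []⟩]

theorem t9_390_6 : jobs 8 S9 b8_390 j9_390_6 = true := by decide +kernel

noncomputable def j9_390_7 : List Job := [
  ⟨56, 0x5008242219108a4623c4426150bc4024140b41e0d058240e0501, 0, 32, 0x0, []⟩]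

theorem t9_390_7 : jobs 8 S9 b8_390 j9_390_7 = true := by decide +kernel

noncomputable def j9_390_8 : List Job := [
  ⟨55, 0x508864623d00824422c4426150bc4024140b41e0d058240e0501, 0, 32, 0x0, []⟩]

theorem t9_390_8 : jobs 8 S9 b8_390 j9_390_8 = true := by decide +kernel

noncomputable def j9_390_9 : List Job := [
  ⟨54, 0x5008242219108a4623c4426150bc4024140b41e0d058240e0501, 0, 32, 0x0, []⟩]

theorem t9_390_9 : jobs 8 S9 b8_390 j9_390_9 = true := by decide +kernel

noncomputable def j9_390_10 : List Job := [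
  ⟨53, 0x508864623d00824422c4426150bc4024140b41e0d058240e0501, 0, 32, 0x0, []⟩]

theorem t9_390_10 : jobs 8 S9 b8_390 j9_390_10 = true := by decide +kernel

noncomputable def j9_390_11 : List Job := [
  ⟨52, 0x43e1d0d8642e15098441e0d058240e0501, 0, 24, 0x401000a01002601002801002a01002c01002e01003001, []⟩]

theorem t9_390_11 : jobs 8 S9 b8_390 j9_390_11 = true := by decide +kernel

noncomputable def j9_390_12 : List Job := [
  ⟨51, 0x43e1d0d8642e15098441e0d058240e0501, 0, 18, 0x401000a01, []⟩]

theorem t9_390_12 : jobs 8 S9 b8_390 j9_390_12 = true := by decide +kernel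

noncomputable def j9_390_13 : List Job := [
  ⟨50, 0x520924a259309a4e27d008242219108a4623c3e1d0d8642e15098441e0d058240e0501, 0, 45, 0x401000a01004a01004c01004e01005001005201, []⟩]

theorem t9_390_13 : jobs 8 S9 b8_390 j9_390_13 = true := by decide +kernel

noncomputable def j9_390_14 : List Job := [
  ⟨49, 0x43e1d0d8642e15098441e0d058240e0501, 0, 41, 0x401000a01002801002e01004a01004c01004e01005001005201, []⟩]

theorem t9_390_14 : jobs 8 S9 b8_390 j9_390_14 = true := by decide +kernel

noncomputable def j9_390_15 : List Job := [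
  ⟨48, 0x43e1d0d8642e15098441e0d058240e0501, 0, 18, 0x401000a01, []⟩]

theorem t9_390_15 : jobs 8 S9 b8_390 j9_390_15 = true := by decide +kernel

noncomputable def j9_390_16 : List Job := [
  ⟨47, 0x520924a259309a4e27d008242219108a4623c3e1d0d8642e15098441e0d058240e0501, 0, 24, 0x401000a01002601002801002c01, []⟩]

theorem t9_390_16 : jobs 8 S9 b8_390 j9_390_16 = true := by decide +kernel

noncomputable def j9_390_17 : List Job := [
  ⟨46, 0x464361d0fc60341c0f44426150bc4024140b43e1d0d8642e15098441e0d058240e0501, 0, 25, 0x2601002801002a01002c01002e19003001, []⟩]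

theorem t9_390_17 : jobs 8 S9 b8_390 j9_390_17 = true := by decide +kernel

noncomputable def j9_390_18 : List Job := [
  ⟨45, 0x464361d0fc60341c0f44426150bc4024140b43e1d0d8642e15098441e0d058240e0501, 0, 53, 0x2601003801004a01004c01004e01005001005201005401005601005801005a18005c01006001006201006401006601006801, []⟩]

theorem t9_390_18 : jobs 8 S9 b8_390 j9_390_18 = true := by decide +kernel

noncomputable def j9_390_19 : List Job := [
  ⟨44, 0x520924a259309a4e27d008242219108a4623c64361d0fc60341c0f44426150bc4024140b43e1d0d8642e15098441e0d058240e0501, 0, 77, 0x2614002801002c14002e01003215003615003a01003c01004001004201004401004a01005401006e01007001007201007801007e01, []⟩]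

theorem t9_390_19 : jobs 8 S9 b8_390 j9_390_19 = true := by decide +kernel

noncomputable def j9_390_20 : List Job := [
  ⟨43, 0x528964e27d20924c26d08864623d00824422c64361d0fc60341c0f44426150bc4024140b43e1d0d8642e15098441e0d058240e0501, 0, 55, 0x2601002801002c01002e0100300100320000340100360000381c003c00003e01004201005401006601006801006a01006c01006e01, [(29, ⟨1353, 0x4080045002500047800040000100008004180000001, 0x184230a032080100c08⟩), (26, ⟨1352, 0x4280049000420004c00040000100008004180000001, 0x186260902e080100c08⟩), (24, ⟨1351, 0x4280049000420004c00040000100008004180000001, 0x186260902e080100c08⟩)]⟩]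

theorem t9_390_20 : jobs 8 S9 b8_390 j9_390_20 = true := by decide +kernel

noncomputable def j9_390_21 : List Job := [
  ⟨42, 0x464361d0fc60341c0f44426150bc4024140b43e1d0d8642e15098441e0d058240e0501, 0, 42, 0x2801002e01004a01004c01004e01005001005201005401, []⟩]

theorem t9_390_21 : jobs 8 S9 b8_390 j9_390_21 = true := by decide +kernel

noncomputable def j9_390_22 : List Job := [
  ⟨41, 0x464361d0fc60341c0f44426150bc4024140b43e1d0d8642e15098441e0d058240e0501, 0, 18, 0x0, []⟩]

theorem t9_390_22 : jobs 8 S9 b8_390 j9_390_22 = true := by decide +kernel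

noncomputable def j9_390_23 : List Job := [
  ⟨40, 0x520924a259309a4e27d008242219108a4623c64361d0fc60341c0f44426150bc4024140b43e1d0d8642e15098441e0d058240e0501, 0, 42, 0x2601002a01, []⟩]

theorem t9_390_23 : jobs 8 S9 b8_390 j9_390_23 = true := by decide +kernel

noncomputable def j9_390_24 : List Job := [
  ⟨39, 0x5008242219108a4623c4426150bc4024140b41e0d058240e0501, 0, 32, 0x0, []⟩]

theorem t9_390_24 : jobs 8 S9 b8_390 j9_390_24 = true := by decide +kernel

noncomputable def j9_390_25 : List Job := [
  ⟨38, 0x508864623d00824422c4426150bc4024140b41e0d058240e0501, 0, 32, 0x0, []⟩]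

theorem t9_390_25 : jobs 8 S9 b8_390 j9_390_25 = true := by decide +kernel

noncomputable def j9_390_26 : List Job := [
  ⟨37, 0x5008242219108a4623c4426150bc4024140b41e0d058240e0501, 0, 32, 0x0, []⟩]

theorem t9_390_26 : jobs 8 S9 b8_390 j9_390_26 = true := by decide +kernel

noncomputable def j9_390_27 : List Job := [
  ⟨36, 0x508864623d00824422c4426150bc4024140b41e0d058240e0501, 0, 32, 0x0, []⟩]

theorem t9_390_27 : jobs 8 S9 b8_390 j9_390_27 = true := by decide +kernel

noncomputable def j9_390_28 : List Job := [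
  ⟨35, 0x43e1d0d8642e15098441e0d058240e0501, 0, 18, 0x401000e01, []⟩]

theorem t9_390_28 : jobs 8 S9 b8_390 j9_390_28 = true := by decide +kernel

noncomputable def j9_390_29 : List Job := [
  ⟨34, 0x43e1d0d8642e15098441e0d058240e0501, 0, 18, 0x401001601, []⟩]

theorem t9_390_29 : jobs 8 S9 b8_390 j9_390_29 = true := by decide +kernel

noncomputable def j9_390_30 : List Job := [
  ⟨33, 0x528964c26d20924e27d08864422d00824623c3e1d0d8642e15098441e0d058240e0501, 0, 45, 0x401000e01004a10004c01004e10005010005210, []⟩]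

theorem t9_390_30 : jobs 8 S9 b8_390 j9_390_30 = true := by decide +kernel

noncomputable def j9_390_31 : List Job := [
  ⟨32, 0x43e1d0d8642e15098441e0d058240e0501, 0, 41, 0x401000e01002801002e01004a01004c01004e01005001005201, []⟩]

theorem t9_390_31 : jobs 8 S9 b8_390 j9_390_31 = true := by decide +kernel

noncomputable def j9_390_32 : List Job := [
  ⟨31, 0x43e1d0d8642e15098441e0d058240e0501, 0, 18, 0x401001601, []⟩]

theorem t9_390_32 : jobs 8 S9 b8_390 j9_390_32 = true := by decide +kernel

noncomputable def j9_390_33 : List Job := [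
  ⟨30, 0x520924a259309a4e27d008242219108a4623c3e1d0d8642e15098441e0d058240e0501, 0, 18, 0x401000e01, []⟩]

theorem t9_390_33 : jobs 8 S9 b8_390 j9_390_33 = true := by decide +kernel

noncomputable def j9_390_34 : List Job := [
  ⟨29, 0x464361d0fc60341c0f44426150bc4024140b43e1d0d8642e15098441e0d058240e0501, 0, 41, 0x2801002e01004a01004c01004e01005001005201, []⟩]

theorem t9_390_34 : jobs 8 S9 b8_390 j9_390_34 = true := by decide +kernel

noncomputable def j9_390_35 : List Job := [
  ⟨28, 0x464361d0fc60341c0f44426150bc4024140b43e1d0d8642e15098441e0d058240e0501, 0, 25, 0x2601002801002a01002c01002e01003001, []⟩]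

theorem t9_390_35 : jobs 8 S9 b8_390 j9_390_35 = true := by decide +kernel

noncomputable def j9_390_36 : List Job := [
  ⟨27, 0x520924a259309a4e27d008242219108a4623c64361d0fc60341c0f44426150bc4024140b43e1d0d8642e15098441e0d058240e0501, 0, 44, 0x2601002801002a01002c01003201003801003e01004401, []⟩]

theorem t9_390_36 : jobs 8 S9 b8_390 j9_390_36 = true := by decide +kernel

noncomputable def j9_390_37 : List Job := [
  ⟨26, 0x528964e27d20924c26d08864623d00824422c64361d0fc60341c0f44426150bc4024140b43e1d0d8642e15098441e0d058240e0501, 0, 75, 0x2601003001003a01004401004e01005001005201005401005601005801005a10005c01005e10006601006c01008801008a01008c01008e01, []⟩]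

theorem t9_390_37 : jobs 8 S9 b8_390 j9_390_37 = true := by decide +kernel

noncomputable def j9_390_38 : List Job := [
  ⟨25, 0x464361d0fc60341c0f44426150bc4024140b43e1d0d8642e15098441e0d058240e0501, 0, 18, 0x0, []⟩]

theorem t9_390_38 : jobs 8 S9 b8_390 j9_390_38 = true := by decide +kernel

noncomputable def j9_390_39 : List Job := [
  ⟨24, 0x464361d0fc60341c0f44426150bc4024140b43e1d0d8642e15098441e0d058240e0501, 0, 44, 0x2601003001003a01004401004e01005001005201005401005601005801, []⟩]

theorem t9_390_39 : jobs 8 S9 b8_390 j9_390_39 = true := by decide +kernel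

noncomputable def j9_390_40 : List Job := [
  ⟨23, 0x520924a259309a4e27d008242219108a4623c64361d0fc60341c0f44426150bc4024140b43e1d0d8642e15098441e0d058240e0501, 0, 75, 0x2601002a01005401005601005801005a01006001006601006c01007201008801009201009401, []⟩]

theorem t9_390_40 : jobs 8 S9 b8_390 j9_390_40 = true := by decide +kernel

noncomputable def j9_390_41 : List Job := [
  ⟨22, 0x464361d0fc60341c0f44426150bc4024140b43e1d0d8642e15098441e0d058240e0501, 0, 43, 0x0, []⟩]

theorem t9_390_41 : jobs 8 S9 b8_390 j9_390_41 = true := by decide +kernel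

noncomputable def j9_390_42 : List Job := [
  ⟨21, 0x464361d0fc60341c0f44426150bc4024140b43e1d0d8642e15098441e0d058240e0501, 0, 24, 0x2601002801002a01002c01002e01, []⟩]

theorem t9_390_42 : jobs 8 S9 b8_390 j9_390_42 = true := by decide +kernel

noncomputable def j9_390_43 : List Job := [
  ⟨20, 0x5008242219108a4623ce0723a1d8f07a3e1fc804222118904a2613c4426150bc4024140b41e0d058240e0501, 0, 32, 0x0, []⟩]

theorem t9_390_43 : jobs 8 S9 b8_390 j9_390_43 = true := by decide +kernel

noncomputable def j9_390_44 : List Job := [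
  ⟨19, 0x5108a4623d00824221ce0723a1d8f07a3e1fc804222118904a2613c4426150bc4024140b41e0d058240e0501, 0, 32, 0x0, []⟩]

theorem t9_390_44 : jobs 8 S9 b8_390 j9_390_44 = true := by decide +kernel

noncomputable def j9_390_45 : List Job := [
  ⟨18, 0x5008242219108a4623cc464341bcc066351b4904a2613c80422211c4426150bc4024140b41e0d058240e0501, 0, 32, 0x0, []⟩]

theorem t9_390_45 : jobs 8 S9 b8_390 j9_390_45 = true := by decide +kernel

noncomputable def j9_390_46 : List Job := [
  ⟨17, 0x5108a4623d00824221cc464341bcc066351b4904a2613c80422211c4426150bc4024140b41e0d058240e0501, 0, 32, 0x0, []⟩]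

theorem t9_390_46 : jobs 8 S9 b8_390 j9_390_46 = true := by decide +kernel

noncomputable def j9_390_47 : List Job := [
  ⟨16, 0x43e1d0d8642e15098441e0d058240e0501, 0, 18, 0x401000a01, []⟩]

theorem t9_390_47 : jobs 8 S9 b8_390 j9_390_47 = true := by decide +kernel

noncomputable def j9_390_48 : List Job := [
  ⟨15, 0x43e1d0d8642e15098441e0d058240e0501, 0, 18, 0x401000a01, []⟩]

theorem t9_390_48 : jobs 8 S9 b8_390 j9_390_48 = true := by decide +kernel

noncomputable def j9_390_49 : List Job := [
  ⟨14, 0x520924a259309a4e27d008242219108a4623c3e1d0d8642e15098441e0d058240e0501, 0, 18, 0x401000a01, []⟩]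

theorem t9_390_49 : jobs 8 S9 b8_390 j9_390_49 = true := by decide +kernel

noncomputable def j9_390_50 : List Job := [
  ⟨13, 0x5309a4e27d20924a25d108a4623d00824221c3e1d0d8642e15098441e0d058240e0501, 0, 25, 0x401000a01002601002801002a01002c01002e01003001003201, []⟩]

theorem t9_390_50 : jobs 8 S9 b8_390 j9_390_50 = true := by decide +kernel

noncomputable def j9_390_51 : List Job := [
  ⟨12, 0x4e0723a1d8f07a3e1fcc06232198d06a361bca0522a158b05a2e17c804222118904a2613c3e1d0d8642e15098441e0d058240e0501, 0, 41, 0x401000a01002801002e01004c01004e01, []⟩]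

theorem t9_390_51 : jobs 8 S9 b8_390 j9_390_51 = true := by decide +kernel

noncomputable def j9_390_52 : List Job := [
  ⟨11, 0x4e0723a1d8f07a3e1fcc06232198d06a361bca0522a158b05a2e17c804222118904a2613c3e1d0d8642e15098441e0d058240e0501, 0, 18, 0x401000a01, []⟩]

theorem t9_390_52 : jobs 8 S9 b8_390 j9_390_52 = true := by decide +kernel

noncomputable def j9_390_53 : List Job := [
  ⟨10, 0x4a0522a158b05a2e17c804222118904a2613c64361d0fc60341c0f44426150bc4024140b43e1d0d8642e15098441e0d058240e0501, 0, 42, 0x2801002e01004a01004c01004e01005001, []⟩]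

theorem t9_390_53 : jobs 8 S9 b8_390 j9_390_53 = true := by decide +kernel

noncomputable def j9_390_54 : List Job := [
  ⟨9, 0x4a0522a158b05a2e17c804222118904a2613c64361d0fc60341c0f44426150bc4024140b43e1d0d8642e15098441e0d058240e0501, 0, 26, 0x2601002801002c01002e01, []⟩]

theorem t9_390_54 : jobs 8 S9 b8_390 j9_390_54 = true := by decide +kernel

noncomputable def j9_390_55 : List Job := [
  ⟨8, 0x520924a259309a4e27d008242219108a4623ca0522a158b05a2e17c804222118904a2613c64361d0fc60341c0f44426150bc4024140b43e1d0d8642e15098441e0d058240e0501, 0, 61, 0x2600002801002e00003201003401003a01003c01004201004400004a00004e01005001005801005e01, [(36, ⟨1347, 0x470014600242000580004000010000c000100000001, 0x18a2109024080080c08⟩), (33, ⟨1346, 0x470014600242000580004000010000c000100000001, 0x18a2109024080080c08⟩), (22, ⟨1345, 0x42800400004e004400004001010020c000100080001, 0x1852009820080080c08⟩), (18, ⟨1344, 0x42800400004e004400004001010020c000100080001, 0x1852009820080080c08⟩)]⟩]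

theorem t9_390_55 : jobs 8 S9 b8_390 j9_390_55 = true := by decide +kernel

noncomputable def j9_390_56 : List Job := [
  ⟨7, 0x524964c27520944d27d04864423500844523ca0522a158b05a2e17c804222118904a2613c68361e0fc60321c0ec4826160bc4022140ac3e1d0d8642e15098441e0d058240e0501, 0, 113, 0x2801002e01004a10004c01004e10005001005210005410005e00006001006401006801006c01006e01007200007601007a01007c01008400008600008801008a00009000009201009400009a00009c00009e0100a00000a60100b80100ca0100cc0100ce0100d40100d61800da1800de0100e001, [(79, ⟨1338, 0x850004100125000100000800102001050000100100001, 0x1822088820080181002⟩), (77, ⟨1339, 0x850014100125001100010800102001050000100100001, 0x1822088820080181002⟩), (76, ⟨1337, 0x850004100125000100000800102001050000100100001, 0x1822088820080181002⟩), (73, ⟨1335, 0x850014100125001100000800102001050000100100001, 0x1822088820080181002⟩), (71, ⟨1334, 0x850014100125001100000800102001050000100100001, 0x1822088820080181002⟩), (68, ⟨1342, 0x85001470012d001170010800102001050000100000001, 0x182230a82c080181002⟩),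 (66, ⟨1343, 0x850004000025001100010800102000050000100000001, 0x1822008820080181002⟩), (65, ⟨1341, 0x85001470012d001170010800102001050000100000001, 0x182230a82c080181002⟩), (56, ⟨1336, 0x8a0004a00022000120000800002001050000100000001, 0x18c2609028080181002⟩), (46, ⟨1340, 0x890004a00127000180000800002001050010100000001, 0x1892609830080181002⟩)]⟩]

theorem t9_390_56 : jobs 8 S9 b8_390 j9_390_56 = true := by decide +kernel

noncomputable def j9_390_57 : List Job := [
  ⟨6, 0x4a0522a158b05a2e17c804222118904a2613c64361d0fc60341c0f44426150bc4024140b43e1d0d8642e15098441e0d058240e0501, 0, 25, 0x2601002801002c00002e01, [(21, ⟨1333, 0x228014100488001b0002001010040800040040001, 0x18a220883c080080808⟩)]⟩]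

theorem t9_390_57 : jobs 8 S9 b8_390 j9_390_57 = true := by decide +kernel

noncomputable def j9_390_58 : List Job := [
  ⟨5, 0x4a0522a158b05a2e17c804222118904a2613c64361d0fc60341c0f44426150bc4024140b43e1d0d8642e15098441e0d058240e0501, 0, 41, 0x2601003801004a01004c01004e01, []⟩]

theorem t9_390_58 : jobs 8 S9 b8_390 j9_390_58 = true := by decide +kernel

noncomputable def j9_390_59 : List Job := [
  ⟨4, 0x520924a259309a4e27d008242219108a4623ca0522a158b05a2e17c804222118904a2613c64361d0fc60341c0f44426150bc4024140b43e1d0d8642e15098441e0d058240e0501, 0, 83, 0x2601002a01005e01006401008201008401008c01008e01009601009814009c1400a01400a414, []⟩]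

theorem t9_390_59 : jobs 8 S9 b8_390 j9_390_59 = true := by decide +kernel

noncomputable def j9_390_60 : List Job := [
  ⟨3, 0x4a0522a158b05a2e17c804222118904a2613c64361d0fc60341c0f44426150bc4024140b43e1d0d8642e15098441e0d058240e0501, 0, 25, 0x2601002801002c00002e01003001, [(21, ⟨1325, 0x23801470048000100002001010001800040000001, 0x18a2308020080080c08⟩)]⟩]

theorem t9_390_60 : jobs 8 S9 b8_390 j9_390_60 = true := by decide +kernel

noncomputable def j9_390_61 : List Job := [
  ⟨2, 0x4a0522a158b05a2e17c804222118904a2613c64361d0fc60341c0f44426150bc4024140b43e1d0d8642e15098441e0d058240e0501, 0, 43, 0x2c01003e01005001, []⟩]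

theorem t9_390_61 : jobs 8 S9 b8_390 j9_390_61 = true := by decide +kernel

noncomputable def j9_390_62 : List Job := [
  ⟨1, 0x4a0522a158b05a2e17c804222118904a2613c64361d0fc60341c0f44426150bc4024140b43e1d0d8642e15098441e0d058240e0501, 0, 44, 0x0, []⟩]

theorem t9_390_62 : jobs 8 S9 b8_390 j9_390_62 = true := by decide +kernel

noncomputable def j9_390_63 : List Job := [
  ⟨0, 0x4a0522a158b05a2e17c804222118904a2613c64361d0fc60341c0f44426150bc4024140b43e1d0d8642e15098441e0d058240e0501, 0, 26, 0x2601002801002c01002e01, []⟩]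

theorem t9_390_63 : jobs 8 S9 b8_390 j9_390_63 = true := by decide +kernel

theorem d9_390 : Dn 8 S9 b8_390 := dn_of (Js := j9_390_0 ++ (j9_390_1 ++ (j9_390_2 ++ (j9_390_3 ++ (j9_390_4 ++ (j9_390_5 ++ (j9_390_6 ++ (j9_390_7 ++ (j9_390_8 ++ (j9_390_9 ++ (j9_390_10 ++ (j9_390_11 ++ (j9_390_12 ++ (j9_390_13 ++ (j9_390_14 ++ (j9_390_15 ++ (j9_390_16 ++ (j9_390_17 ++ (j9_390_18 ++ (j9_390_19 ++ (j9_390_20 ++ (j9_390_21 ++ (j9_390_22 ++ (j9_390_23 ++ (j9_390_24 ++ (j9_390_25 ++ (j9_390_26 ++ (j9_390_27 ++ (j9_390_28 ++ (j9_390_29 ++ (j9_390_30 ++ (j9_390_31 ++ (j9_390_32 ++ (j9_390_33 ++ (j9_390_34 ++ (j9_390_35 ++ (j9_390_36 ++ (j9_390_37 ++ (j9_390_38 ++ (j9_390_39 ++ (j9_390_40 ++ (j9_390_41 ++ (j9_390_42 ++ (j9_390_43 ++ (j9_390_44 ++ (j9_390_45 ++ (j9_390_46 ++ (j9_390_47 ++ (j9_390_48 ++ (j9_390_49 ++ (j9_390_50 ++ (j9_390_51 ++ (j9_390_52 ++ (j9_390_53 ++ (j9_390_54 ++ (j9_390_55 ++ (j9_390_56 ++ (j9_390_57 ++ (j9_390_58 ++ (j9_390_59 ++ (j9_390_60 ++ (j9_390_61 ++ (j9_390_62 ++ (j9_390_63 ++ []))))))))))))))))))))))))))))))))))))))))))))))))))))))))))))))))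
  (jobs_append t9_390_0 <| jobs_append t9_390_1 <| jobs_append t9_390_2 <| jobs_append t9_390_3 <| jobs_append t9_390_4 <| jobs_append t9_390_5 <| jobs_append t9_390_6 <| jobs_append t9_390_7 <| jobs_append t9_390_8 <| jobs_append t9_390_9 <| jobs_append t9_390_10 <| jobs_append t9_390_11 <| jobs_append t9_390_12 <| jobs_append t9_390_13 <| jobs_append t9_390_14 <| jobs_append t9_390_15 <| jobs_append t9_390_16 <| jobs_append t9_390_17 <| jobs_append t9_390_18 <| jobs_append t9_390_19 <| jobs_append t9_390_20 <| jobs_append t9_390_21 <| jobs_append t9_390_22 <| jobs_append t9_390_23 <| jobs_append t9_390_24 <| jobs_append t9_390_25 <| jobs_append t9_390_26 <| jobs_append t9_390_27 <| jobs_append t9_390_28 <| jobs_append t9_390_29 <| jobs_append t9_390_30 <| jobs_append t9_390_31 <| jobs_append t9_390_32 <| jobs_append t9_390_33 <| jobs_append t9_390_34 <| jobs_append t9_390_35 <| jobs_append t9_390_36 <| jobs_append t9_390_37 <| jobs_append t9_390_38 <| jobs_append t9_390_39 <| jobs_append t9_390_40 <| jobs_append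 t9_390_41 <| jobs_append t9_390_42 <| jobs_append t9_390_43 <| jobs_append t9_390_44 <| jobs_append t9_390_45 <| jobs_append t9_390_46 <| jobs_append t9_390_47 <| jobs_append t9_390_48 <| jobs_append t9_390_49 <| jobs_append t9_390_50 <| jobs_append t9_390_51 <| jobs_append t9_390_52 <| jobs_append t9_390_53 <| jobs_append t9_390_54 <| jobs_append t9_390_55 <| jobs_append t9_390_56 <| jobs_append t9_390_57 <| jobs_append t9_390_58 <| jobs_append t9_390_59 <| jobs_append t9_390_60 <| jobs_append t9_390_61 <| jobs_append t9_390_62 <| jobs_append t9_390_63 <| List.forall_mem_nil _) (by decide +kernel)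

noncomputable def j9_391_0 : List Job := [
  ⟨63, 0x4a0522a158b05a2e17c804222118904a2613c3e1d0d8642e15098441e0d058240e0501, 0, 18, 0x401000a01, []⟩]

theorem t9_391_0 : jobs 8 S9 b8_391 j9_391_0 = true := by decide +kernel

noncomputable def j9_391_1 : List Job := [
  ⟨62, 0x4a0522a158b05a2e17c804222118904a2613c3e1d0d8642e15098441e0d058240e0501, 0, 42, 0x401000a01002801002e01004a01004c01004e01005001, []⟩]

theorem t9_391_1 : jobs 8 S9 b8_391 j9_391_1 = true := by decide +kernel

noncomputable def j9_391_2 : List Job := [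
  ⟨61, 0x4a8562c16ca0522e17c88462412c80422613c3e1d0d8642e15098441e0d058240e0501, 0, 18, 0x401000a01, []⟩]

theorem t9_391_2 : jobs 8 S9 b8_391 j9_391_2 = true := by decide +kernel

noncomputable def j9_391_3 : List Job := [
  ⟨60, 0x4b05a2e17ca0522a15c904a2613c80422211c3e1d0d8642e15098441e0d058240e0501, 0, 42, 0x401000a01002801002e01004a11004c01004e11005001, []⟩]

theorem t9_391_3 : jobs 8 S9 b8_391 j9_391_3 = true := by decide +kernel

noncomputable def j9_391_4 : List Job := [
  ⟨59, 0x43e1d0d8642e15098441e0d058240e0501, 0, 18, 0x0, []⟩]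

theorem t9_391_4 : jobs 8 S9 b8_391 j9_391_4 = true := by decide +kernel

noncomputable def j9_391_5 : List Job := [
  ⟨58, 0x4a0522a158b05a2e17c804222118904a2613c3e1d0d8642e15098441e0d058240e0501, 0, 18, 0x0, []⟩]

theorem t9_391_5 : jobs 8 S9 b8_391 j9_391_5 = true := by decide +kernel

noncomputable def j9_391_6 : List Job := [
  ⟨57, 0x4b05a2e17ca0522a15c904a2613c80422211c3e1d0d8642e15098441e0d058240e0501, 0, 18, 0x0, []⟩]

theorem t9_391_6 : jobs 8 S9 b8_391 j9_391_6 = true := by decide +kernel

noncomputable def j9_391_7 : List Job := [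
  ⟨56, 0x5008242219108a4623c84462413480442513c4826160bc4022140ac1e0d058240e0501, 0, 72, 0x0, []⟩]

theorem t9_391_7 : jobs 8 S9 b8_391 j9_391_7 = true := by decide +kernel

noncomputable def j9_391_8 : List Job := [
  ⟨55, 0x5008242219108a4623c84462413480442513c4826160bc4022140ac1e0d058240e0501, 0, 72, 0x0, []⟩]

theorem t9_391_8 : jobs 8 S9 b8_391 j9_391_8 = true := by decide +kernel

noncomputable def j9_391_9 : List Job := [
  ⟨54, 0x5008242219108a4623c804222118904a2613c4826160bc4022140ac1e0d058240e0501, 0, 50, 0x0, []⟩]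

theorem t9_391_9 : jobs 8 S9 b8_391 j9_391_9 = true := by decide +kernel

noncomputable def j9_391_10 : List Job := [
  ⟨53, 0x5008242219108a4623c904a2613c80422211c4826160bc4022140ac1e0d058240e0501, 0, 72, 0x0, []⟩]

theorem t9_391_10 : jobs 8 S9 b8_391 j9_391_10 = true := by decide +kernel

noncomputable def j9_391_11 : List Job := [
  ⟨52, 0x5108a4623d00824221c904a2613c80422211c4826160bc4022140ac1e0d058240e0501, 0, 50, 0x0, []⟩]

theorem t9_391_11 : jobs 8 S9 b8_391 j9_391_11 = true := by decide +kernel

noncomputable def j9_391_12 : List Job := [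
  ⟨51, 0x5008242219108a4623c804222118904a2613c582f140ac48271008c1e0d058240e0501, 0, 50, 0x3208003409003a08003c09004208004608004809004e08005009005608, []⟩]

theorem t9_391_12 : jobs 8 S9 b8_391 j9_391_12 = true := by decide +kernel

noncomputable def j9_391_13 : List Job := [
  ⟨50, 0x5008242219108a4623c904a2613c80422211c582f140ac48271008c1e0d058240e0501, 0, 72, 0x4208004409004a08004c09005208005409005a08005c09006208006409006a08006c09007208007409007a08007c09, []⟩]

theorem t9_391_13 : jobs 8 S9 b8_391 j9_391_13 = true := by decide +kernel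

noncomputable def j9_391_14 : List Job := [
  ⟨49, 0x4a0522a158b05a2e17c804222118904a2613c3e1d0d8642e15098441e0d058240e0501, 0, 43, 0x401000801000c01001001002c01003201005001, []⟩]

theorem t9_391_14 : jobs 8 S9 b8_391 j9_391_14 = true := by decide +kernel

noncomputable def j9_391_15 : List Job := [
  ⟨48, 0x4a4562c174a0542d17c84462413480442513c3e1d0d8642e15098441e0d058240e0501, 0, 75, 0x401000801000c01001001002c01003201005001005a01006001007c11007e01008011008201008811008a01008c11009201009401, []⟩]

theorem t9_391_15 : jobs 8 S9 b8_391 j9_391_15 = true := by decide +kernel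

noncomputable def j9_391_16 : List Job := [
  ⟨47, 0x4a4562c174a0542d17c84462413480442513c3e1d0d8642e15098441e0d058240e0501, 0, 44, 0x401000801001801001c01005001005601, []⟩]

theorem t9_391_16 : jobs 8 S9 b8_391 j9_391_16 = true := by decide +kernel

noncomputable def j9_391_17 : List Job := [
  ⟨46, 0x4a0522a158b05a2e17c804222118904a2613c3e1d0d8642e15098441e0d058240e0501, 0, 44, 0x0, []⟩]

theorem t9_391_17 : jobs 8 S9 b8_391 j9_391_17 = true := by decide +kernel

noncomputable def j9_391_18 : List Job := [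
  ⟨45, 0x4a0522a158b05a2e17c804222118904a2613c3e1d0d8642e15098441e0d058240e0501, 0, 78, 0x2c01003201005001005801005e01006c01007201008001008401008c01008e01009001009201009801009a01, []⟩]

theorem t9_391_18 : jobs 8 S9 b8_391 j9_391_18 = true := by decide +kernel

noncomputable def j9_391_19 : List Job := [
  ⟨44, 0x4a4562c174a0542d17c84462413480442513c3e1d0d8642e15098441e0d058240e0501, 0, 43, 0x2c01003201005001, []⟩]

theorem t9_391_19 : jobs 8 S9 b8_391 j9_391_19 = true := by decide +kernel

noncomputable def j9_391_20 : List Job := [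
  ⟨43, 0x5008242219108a4623c4426150bc4024140b41e0d058240e0501, 0, 32, 0x0, []⟩]

theorem t9_391_20 : jobs 8 S9 b8_391 j9_391_20 = true := by decide +kernel

noncomputable def j9_391_21 : List Job := [
  ⟨42, 0x508864623d00824422c4426150bc4024140b41e0d058240e0501, 0, 32, 0x0, []⟩]

theorem t9_391_21 : jobs 8 S9 b8_391 j9_391_21 = true := by decide +kernel

noncomputable def j9_391_22 : List Job := [
  ⟨41, 0x5008242219108a4623c4426150bc4024140b41e0d058240e0501, 0, 32, 0x0, []⟩]

theorem t9_391_22 : jobs 8 S9 b8_391 j9_391_22 = true := by decide +kernel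

noncomputable def j9_391_23 : List Job := [
  ⟨40, 0x508864623d00824422c4426150bc4024140b41e0d058240e0501, 0, 32, 0x0, []⟩]

theorem t9_391_23 : jobs 8 S9 b8_391 j9_391_23 = true := by decide +kernel

noncomputable def j9_391_24 : List Job := [
  ⟨39, 0x5008242219108a4623c4426150bc4024140b41e0d058240e0501, 0, 32, 0x0, []⟩]

theorem t9_391_24 : jobs 8 S9 b8_391 j9_391_24 = true := by decide +kernel

noncomputable def j9_391_25 : List Job := [
  ⟨38, 0x508864623d00824422c4426150bc4024140b41e0d058240e0501, 0, 32, 0x0, []⟩]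

theorem t9_391_25 : jobs 8 S9 b8_391 j9_391_25 = true := by decide +kernel

noncomputable def j9_391_26 : List Job := [
  ⟨37, 0x5008242219108a4623c4426150bc4024140b41e0d058240e0501, 0, 32, 0x0, []⟩]

theorem t9_391_26 : jobs 8 S9 b8_391 j9_391_26 = true := by decide +kernel

noncomputable def j9_391_27 : List Job := [
  ⟨36, 0x508864623d00824422c4426150bc4024140b41e0d058240e0501, 0, 32, 0x0, []⟩]

theorem t9_391_27 : jobs 8 S9 b8_391 j9_391_27 = true := by decide +kernel

noncomputable def j9_391_28 : List Job := [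
  ⟨35, 0x5008242219108a4623c4426150bc4024140b41e0d058240e0501, 0, 32, 0x0, []⟩]

theorem t9_391_28 : jobs 8 S9 b8_391 j9_391_28 = true := by decide +kernel

noncomputable def j9_391_29 : List Job := [
  ⟨34, 0x508864623d00824422c4426150bc4024140b41e0d058240e0501, 0, 32, 0x0, []⟩]

theorem t9_391_29 : jobs 8 S9 b8_391 j9_391_29 = true := by decide +kernel

noncomputable def j9_391_30 : List Job := [
  ⟨33, 0x5008242219108a4623c4426150bc4024140b41e0d058240e0501, 0, 32, 0x0, []⟩]

theorem t9_391_30 : jobs 8 S9 b8_391 j9_391_30 = true := by decide +kernel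

noncomputable def j9_391_31 : List Job := [
  ⟨32, 0x508864623d00824422c4426150bc4024140b41e0d058240e0501, 0, 32, 0x0, []⟩]

theorem t9_391_31 : jobs 8 S9 b8_391 j9_391_31 = true := by decide +kernel

noncomputable def j9_391_32 : List Job := [
  ⟨31, 0x5008242219108a4623c4c2f120b4442b100a41e0d058240e0501, 0, 32, 0x0, []⟩]

theorem t9_391_32 : jobs 8 S9 b8_391 j9_391_32 = true := by decide +kernel

noncomputable def j9_391_33 : List Job := [
  ⟨30, 0x508864623d00824422c4c2f120b4442b100a41e0d058240e0501, 0, 32, 0x0, []⟩]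

theorem t9_391_33 : jobs 8 S9 b8_391 j9_391_33 = true := by decide +kernel

noncomputable def j9_391_34 : List Job := [
  ⟨29, 0x5008242219108a4623c4c2f120b4442b100a41e0d058240e0501, 0, 32, 0x0, []⟩]

theorem t9_391_34 : jobs 8 S9 b8_391 j9_391_34 = true := by decide +kernel

noncomputable def j9_391_35 : List Job := [
  ⟨28, 0x43e1d0d8642e15098441e0d058240e0501, 0, 20, 0x401000a01001801001e01, []⟩]

theorem t9_391_35 : jobs 8 S9 b8_391 j9_391_35 = true := by decide +kernel

noncomputable def j9_391_36 : List Job := [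
  ⟨27, 0x43e1d0d8642e15098441e0d058240e0501, 0, 18, 0x401000a01, []⟩]

theorem t9_391_36 : jobs 8 S9 b8_391 j9_391_36 = true := by decide +kernel

noncomputable def j9_391_37 : List Job := [
  ⟨26, 0x528964c26d20924e27d08864422d00824623c3e1d0d8642e15098441e0d058240e0501, 0, 26, 0x401000a01002600002801002a01002c01002e00003001003201003401, [(22, ⟨1385, 0x23c014e000bc00170002001010001800020000001, 0x18e250b82c080180408⟩), (18, ⟨1384, 0x2380149004bc00170002001010001801020040001, 0x18a260b82c080180408⟩)]⟩]

theorem t9_391_37 : jobs 8 S9 b8_391 j9_391_37 = true := by decide +kernel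

noncomputable def j9_391_38 : List Job := [
  ⟨25, 0x43e1d0d8642e15098441e0d058240e0501, 0, 18, 0x401000a01, []⟩]

theorem t9_391_38 : jobs 8 S9 b8_391 j9_391_38 = true := by decide +kernel

noncomputable def j9_391_39 : List Job := [
  ⟨24, 0x43e1d0d8642e15098441e0d058240e0501, 0, 20, 0x401000a01001801001e01, []⟩]

theorem t9_391_39 : jobs 8 S9 b8_391 j9_391_39 = true := by decide +kernel

noncomputable def j9_391_40 : List Job := [
  ⟨23, 0x520924a259309a4e27d008242219108a4623c3e1d0d8642e15098441e0d058240e0501, 0, 26, 0x401000a01002601002801002a01002e01003001003201, []⟩]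

theorem t9_391_40 : jobs 8 S9 b8_391 j9_391_40 = true := by decide +kernel

noncomputable def j9_391_41 : List Job := [
  ⟨22, 0x43e1d0d8642e15098441e0d058240e0501, 0, 44, 0x401000a01001801001e01002c01003201004e01005001005201005401005601005801, []⟩]

theorem t9_391_41 : jobs 8 S9 b8_391 j9_391_41 = true := by decide +kernel

noncomputable def j9_391_42 : List Job := [
  ⟨21, 0x43e1d0d8642e15098441e0d058240e0501, 0, 18, 0x401000a01, []⟩]

theorem t9_391_42 : jobs 8 S9 b8_391 j9_391_42 = true := by decide +kernel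

noncomputable def j9_391_43 : List Job := [
  ⟨20, 0x520924a259309a4e27d008242219108a4623c3e1d0d8642e15098441e0d058240e0501, 0, 20, 0x401000a01001001001601, []⟩]

theorem t9_391_43 : jobs 8 S9 b8_391 j9_391_43 = true := by decide +kernel

noncomputable def j9_391_44 : List Job := [
  ⟨19, 0x43e1d0d8642e15098441e0d058240e0501, 0, 42, 0x401000a01002801002e01004a01004c01004e01005001005201005401, []⟩]

theorem t9_391_44 : jobs 8 S9 b8_391 j9_391_44 = true := by decide +kernel

noncomputable def j9_391_45 : List Job := [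
  ⟨18, 0x43e1d0d8642e15098441e0d058240e0501, 0, 20, 0x401000a01001801001e01, []⟩]

theorem t9_391_45 : jobs 8 S9 b8_391 j9_391_45 = true := by decide +kernel

noncomputable def j9_391_46 : List Job := [
  ⟨17, 0x520924a259309a4e27d008242219108a4623c3e1d0d8642e15098441e0d058240e0501, 0, 18, 0x401000a01, []⟩]

theorem t9_391_46 : jobs 8 S9 b8_391 j9_391_46 = true := by decide +kernel

noncomputable def j9_391_47 : List Job := [
  ⟨16, 0x43e1d0d8642e15098441e0d058240e0501, 0, 18, 0x0, []⟩]

theorem t9_391_47 : jobs 8 S9 b8_391 j9_391_47 = true := by decide +kernel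

noncomputable def j9_391_48 : List Job := [
  ⟨15, 0x43e1d0d8642e15098441e0d058240e0501, 0, 18, 0x0, []⟩]

theorem t9_391_48 : jobs 8 S9 b8_391 j9_391_48 = true := by decide +kernel

noncomputable def j9_391_49 : List Job := [
  ⟨14, 0x43e1d0d8642e15098441e0d058240e0501, 0, 18, 0x0, []⟩]

theorem t9_391_49 : jobs 8 S9 b8_391 j9_391_49 = true := by decide +kernel

noncomputable def j9_391_50 : List Job := [
  ⟨13, 0x43e1d0d8642e15098441e0d058240e0501, 0, 18, 0x0, []⟩]

theorem t9_391_50 : jobs 8 S9 b8_391 j9_391_50 = true := by decide +kernel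

noncomputable def j9_391_51 : List Job := [
  ⟨12, 0x43e1d0d8642e15098441e0d058240e0501, 0, 18, 0x0, []⟩]

theorem t9_391_51 : jobs 8 S9 b8_391 j9_391_51 = true := by decide +kernel

noncomputable def j9_391_52 : List Job := [
  ⟨11, 0x43e1d0d8642e15098441e0d058240e0501, 0, 43, 0x0, []⟩]

theorem t9_391_52 : jobs 8 S9 b8_391 j9_391_52 = true := by decide +kernel

noncomputable def j9_391_53 : List Job := [
  ⟨10, 0x520924a259309a4e27d008242219108a4623c3e1d0d8642e15098441e0d058240e0501, 0, 18, 0x0, []⟩]

theorem t9_391_53 : jobs 8 S9 b8_391 j9_391_53 = true := by decide +kernel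

noncomputable def j9_391_54 : List Job := [
  ⟨9, 0x43e1d0d8642e15098441e0d058240e0501, 0, 18, 0x0, []⟩]

theorem t9_391_54 : jobs 8 S9 b8_391 j9_391_54 = true := by decide +kernel

noncomputable def j9_391_55 : List Job := [
  ⟨8, 0x43e1d0d8642e15098441e0d058240e0501, 0, 43, 0x2801002e01003c01004201005001, []⟩]

theorem t9_391_55 : jobs 8 S9 b8_391 j9_391_55 = true := by decide +kernel

noncomputable def j9_391_56 : List Job := [
  ⟨7, 0x520924a259309a4e27d008242219108a4623c3e1d0d8642e15098441e0d058240e0501, 0, 18, 0x0, []⟩]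

theorem t9_391_56 : jobs 8 S9 b8_391 j9_391_56 = true := by decide +kernel

noncomputable def j9_391_57 : List Job := [
  ⟨6, 0x464361d0fc60341c0f44426150bc4024140b43e1d0d8642e15098441e0d058240e0501, 0, 43, 0x401000a01001801001e01005001, []⟩]

theorem t9_391_57 : jobs 8 S9 b8_391 j9_391_57 = true := by decide +kernel

noncomputable def j9_391_58 : List Job := [
  ⟨5, 0x464361d0fc60341c0f44426150bc4024140b43e1d0d8642e15098441e0d058240e0501, 0, 24, 0x401000a01002601002801002a01002c00002e01, [(21, ⟨1383, 0x22000400008800180002000010040800040000001, 0x1882008830080080808⟩)]⟩]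

theorem t9_391_58 : jobs 8 S9 b8_391 j9_391_58 = true := by decide +kernel

noncomputable def j9_391_59 : List Job := [
  ⟨4, 0x5008242219108a4623ce0723a1d8f07a3e1fc84462513c8044241344826160bc4022140ac1e0d058240e0501, 0, 72, 0x8208008809, []⟩]

theorem t9_391_59 : jobs 8 S9 b8_391 j9_391_59 = true := by decide +kernel

noncomputable def j9_391_60 : List Job := [
  ⟨3, 0x5108a4623d00824221ce0723a1d8f07a3e1fc84462513c8044241344826160bc4022140ac1e0d058240e0501, 0, 72, 0x8208008409008608008809, []⟩]

theorem t9_391_60 : jobs 8 S9 b8_391 j9_391_60 = true := by decide +kernel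

noncomputable def j9_391_61 : List Job := [
  ⟨2, 0x5008242219108a4623cc464341bcc066351b484462513c804424134582f140ac48271008c1e0d058240e0501, 0, 72, 0x4208004409005208005409006208006409007208007409008208008808, []⟩]

theorem t9_391_61 : jobs 8 S9 b8_391 j9_391_61 = true := by decide +kernel

noncomputable def j9_391_62 : List Job := [
  ⟨1, 0x5108a4623d00824221cc464341bcc066351b484462513c804424134582f140ac48271008c1e0d058240e0501, 0, 72, 0x4208004409005208005409006208006409007208007409008208008409008608008809, []⟩]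

theorem t9_391_62 : jobs 8 S9 b8_391 j9_391_62 = true := by decide +kernel

noncomputable def j9_391_63 : List Job := [
  ⟨0, 0x43e1d0d8642e15098441e0d058240e0501, 0, 41, 0x2801002e01004a01004c01004e01005001005201, []⟩]

theorem t9_391_63 : jobs 8 S9 b8_391 j9_391_63 = true := by decide +kernel

theorem d9_391 : Dn 8 S9 b8_391 := dn_of (Js := j9_391_0 ++ (j9_391_1 ++ (j9_391_2 ++ (j9_391_3 ++ (j9_391_4 ++ (j9_391_5 ++ (j9_391_6 ++ (j9_391_7 ++ (j9_391_8 ++ (j9_391_9 ++ (j9_391_10 ++ (j9_391_11 ++ (j9_391_12 ++ (j9_391_13 ++ (j9_391_14 ++ (j9_391_15 ++ (j9_391_16 ++ (j9_391_17 ++ (j9_391_18 ++ (j9_391_19 ++ (j9_391_20 ++ (j9_391_21 ++ (j9_391_22 ++ (j9_391_23 ++ (j9_391_24 ++ (j9_391_25 ++ (j9_391_26 ++ (j9_391_27 ++ (j9_391_28 ++ (j9_391_29 ++ (j9_391_30 ++ (j9_391_31 ++ (j9_391_32 ++ (j9_391_33 ++ (j9_391_34 ++ (j9_391_35 ++ (j9_391_36 ++ (j9_391_37 ++ (j9_391_38 ++ (j9_391_39 ++ (j9_391_40 ++ (j9_391_41 ++ (j9_391_42 ++ (j9_391_43 ++ (j9_391_44 ++ (j9_391_45 ++ (j9_391_46 ++ (j9_391_47 ++ (j9_391_48 ++ (j9_391_49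 ++ (j9_391_50 ++ (j9_391_51 ++ (j9_391_52 ++ (j9_391_53 ++ (j9_391_54 ++ (j9_391_55 ++ (j9_391_56 ++ (j9_391_57 ++ (j9_391_58 ++ (j9_391_59 ++ (j9_391_60 ++ (j9_391_61 ++ (j9_391_62 ++ (j9_391_63 ++ []))))))))))))))))))))))))))))))))))))))))))))))))))))))))))))))))
  (jobs_append t9_391_0 <| jobs_append t9_391_1 <| jobs_append t9_391_2 <| jobs_append t9_391_3 <| jobs_append t9_391_4 <| jobs_append t9_391_5 <| jobs_append t9_391_6 <| jobs_append t9_391_7 <| jobs_append t9_391_8 <| jobs_append t9_391_9 <| jobs_append t9_391_10 <| jobs_append t9_391_11 <| jobs_append t9_391_12 <| jobs_append t9_391_13 <| jobs_append t9_391_14 <| jobs_append t9_391_15 <| jobs_append t9_391_16 <| jobs_append t9_391_17 <| jobs_append t9_391_18 <| jobs_append t9_391_19 <| jobs_append t9_391_20 <| jobs_append t9_391_21 <| jobs_append t9_391_22 <| jobs_append t9_391_23 <| jobs_append t9_391_24 <| jobs_append t9_391_25 <| jobs_append t9_391_26 <| jobs_append t9_391_27 <| jobs_append t9_391_28 <| jobs_append t9_391_29 <| jobs_append t9_391_30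 <| jobs_append t9_391_31 <| jobs_append t9_391_32 <| jobs_append t9_391_33 <| jobs_append t9_391_34 <| jobs_append t9_391_35 <| jobs_append t9_391_36 <| jobs_append t9_391_37 <| jobs_append t9_391_38 <| jobs_append t9_391_39 <| jobs_append t9_391_40 <| jobs_append t9_391_41 <| jobs_append t9_391_42 <| jobs_append t9_391_43 <| jobs_append t9_391_44 <| jobs_append t9_391_45 <| jobs_append t9_391_46 <| jobs_append t9_391_47 <| jobs_append t9_391_48 <| jobs_append t9_391_49 <| jobs_append t9_391_50 <| jobs_append t9_391_51 <| jobs_append t9_391_52 <| jobs_append t9_391_53 <| jobs_append t9_391_54 <| jobs_append t9_391_55 <| jobs_append t9_391_56 <| jobs_append t9_391_57 <| jobs_append t9_391_58 <| jobs_append t9_391_59 <| jobs_append t9_391_60 <| jobs_append t9_391_61 <| jobs_append t9_391_62 <| jobs_append t9_391_63 <| List.forall_mem_nil _) (by decide +kernel)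

end Cfsg.Agent.FS.N.Sw
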