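import Cfsg.Agent.FS.N.Sw.Seg
import Cfsg.Agent.FS.N.G.S9
import Cfsg.Agent.FS.N.G.L.L14

/-! The filter on the pairs for the order 512, part 31 (generated; helper52, project FS) -/

set_option autoImplicit false
set_option maxRecDepth 100000
set_option Elab.async false

namespace Cfsg.Agent.FS.N.Sw

open G

noncomputable def j9_392_0 : List Job := [
  ⟨63, 0x4904a2613c80422211c1e0d058240e0501, 0, 32, 0x0, []⟩]

theorem t9_392_0 : jobs 8 S9 b8_392 j9_392_0 = true := by decide +kernel

noncomputable def j9_392_1 : List Job := [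
  ⟨62, 0x4904a2613c80422211c1e0d058240e0501, 0, 32, 0x0, []⟩]

theorem t9_392_1 : jobs 8 S9 b8_392 j9_392_1 = true := by decide +kernel

noncomputable def j9_392_2 : List Job := [
  ⟨61, 0x4984f2412c88472010c1e0d058240e0501, 0, 32, 0x204000405000604000805000a04000c05000e04001005002204002405002604002805002a04002c05002e04003005, []⟩]

theorem t9_392_2 : jobs 8 S9 b8_392 j9_392_2 = true := by decide +kernel

noncomputable def j9_392_3 : List Job := [
  ⟨60, 0x4904a2613c80422211c1e0d058240e0501, 0, 20, 0x0, []⟩]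

theorem t9_392_3 : jobs 8 S9 b8_392 j9_392_3 = true := by decide +kernel

noncomputable def j9_392_4 : List Job := [
  ⟨59, 0x4904a2613c80422211c1e0d058240e0501, 0, 20, 0x0, []⟩]

theorem t9_392_4 : jobs 8 S9 b8_392 j9_392_4 = true := by decide +kernel

noncomputable def j9_392_5 : List Job := [
  ⟨58, 0x4984f2412c88472010c1e0d058240e0501, 0, 20, 0x204000405000604000805000a04000c04000e05001004001204001405, []⟩]

theorem t9_392_5 : jobs 8 S9 b8_392 j9_392_5 = true := by decide +kernel

noncomputable def j9_392_6 : List Job := [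
  ⟨57, 0x4804222118904a2613c1e0d058240e0501, 0, 32, 0x0, []⟩]

theorem t9_392_6 : jobs 8 S9 b8_392 j9_392_6 = true := by decide +kernel

noncomputable def j9_392_7 : List Job := [
  ⟨56, 0x4804222118904a2613c1e0d058240e0501, 0, 32, 0x0, []⟩]

theorem t9_392_7 : jobs 8 S9 b8_392 j9_392_7 = true := by decide +kernel

noncomputable def j9_392_8 : List Job := [
  ⟨55, 0x488462412c80422613c1e0d058240e0501, 0, 32, 0x0, []⟩]

theorem t9_392_8 : jobs 8 S9 b8_392 j9_392_8 = true := by decide +kernel

noncomputable def j9_392_9 : List Job := [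
  ⟨54, 0x488462613c80422412c1e0d058240e0501, 0, 32, 0x0, []⟩]

theorem t9_392_9 : jobs 8 S9 b8_392 j9_392_9 = true := by decide +kernel

noncomputable def j9_392_10 : List Job := [
  ⟨53, 0x488462412c80422613c1e0d058240e0501, 0, 20, 0x0, []⟩]

theorem t9_392_10 : jobs 8 S9 b8_392 j9_392_10 = true := by decide +kernel

noncomputable def j9_392_11 : List Job := [
  ⟨52, 0x488462412c80422613c1e0d058240e0501, 0, 20, 0x0, []⟩]

theorem t9_392_11 : jobs 8 S9 b8_392 j9_392_11 = true := by decide +kernel

noncomputable def j9_392_12 : List Job := [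
  ⟨51, 0x488462613c80422412c1e0d058240e0501, 0, 20, 0x0, []⟩]

theorem t9_392_12 : jobs 8 S9 b8_392 j9_392_12 = true := by decide +kernel

noncomputable def j9_392_13 : List Job := [
  ⟨50, 0x540a25229950aa562bd08864623d00824422c804222118904a2613c1e0d058240e0501, 0, 32, 0x0, []⟩]

theorem t9_392_13 : jobs 8 S9 b8_392 j9_392_13 = true := by decide +kernel

noncomputable def j9_392_14 : List Job := [
  ⟨49, 0x540a25229950aa562bd08864623d00824422c804222118904a2613c1e0d058240e0501, 0, 32, 0x0, []⟩]

theorem t9_392_14 : jobs 8 S9 b8_392 j9_392_14 = true := by decide +kernel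

noncomputable def j9_392_15 : List Job := [
  ⟨48, 0x540a25229950aa562bd08864623d00824422c88462412c80422613c1e0d058240e0501, 0, 32, 0x0, []⟩]

theorem t9_392_15 : jobs 8 S9 b8_392 j9_392_15 = true := by decide +kernel

noncomputable def j9_392_16 : List Job := [
  ⟨47, 0x540a25229950aa562bd08864623d00824422c88462613c80422412c1e0d058240e0501, 0, 32, 0x0, []⟩]

theorem t9_392_16 : jobs 8 S9 b8_392 j9_392_16 = true := by decide +kernel

noncomputable def j9_392_17 : List Job := [
  ⟨46, 0x540a25229950aa562bd008242219108a4623c88462412c80422613c1e0d058240e0501, 0, 20, 0x0, []⟩]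

theorem t9_392_17 : jobs 8 S9 b8_392 j9_392_17 = true := by decide +kernel

noncomputable def j9_392_18 : List Job := [
  ⟨45, 0x548a6562bd40a2542ad08864623d00824422c88462412c80422613c1e0d058240e0501, 0, 24, 0x2a01002c01002e01003001, []⟩]

theorem t9_392_18 : jobs 8 S9 b8_392 j9_392_18 = true := by decide +kernel

noncomputable def j9_392_19 : List Job := [
  ⟨44, 0x540a25229950aa562bd008242219108a4623c88462613c80422412c1e0d058240e0501, 0, 20, 0x0, []⟩]

theorem t9_392_19 : jobs 8 S9 b8_392 j9_392_19 = true := by decide +kernel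

noncomputable def j9_392_20 : List Job := [
  ⟨43, 0x4904a2613c80422211c1e0d058240e0501, 0, 32, 0x0, []⟩]

theorem t9_392_20 : jobs 8 S9 b8_392 j9_392_20 = true := by decide +kernel

noncomputable def j9_392_21 : List Job := [
  ⟨42, 0x4904a2613c80422211c1e0d058240e0501, 0, 32, 0x0, []⟩]

theorem t9_392_21 : jobs 8 S9 b8_392 j9_392_21 = true := by decide +kernel

noncomputable def j9_392_22 : List Job := [
  ⟨41, 0x4904a2613c80422211c1e0d058240e0501, 0, 32, 0x0, []⟩]

theorem t9_392_22 : jobs 8 S9 b8_392 j9_392_22 = true := by decide +kernel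

noncomputable def j9_392_23 : List Job := [
  ⟨40, 0x4984f2412c88472010c1e0d058240e0501, 0, 32, 0x204000405000604000805000a04000c05000e04001005002204002405002604002805002a04002c05002e04003005, []⟩]

theorem t9_392_23 : jobs 8 S9 b8_392 j9_392_23 = true := by decide +kernel

noncomputable def j9_392_24 : List Job := [
  ⟨39, 0x4904a2613c80422211c1e0d058240e0501, 0, 20, 0x0, []⟩]

theorem t9_392_24 : jobs 8 S9 b8_392 j9_392_24 = true := by decide +kernel

noncomputable def j9_392_25 : List Job := [
  ⟨38, 0x4904a2613c80422211c1e0d058240e0501, 0, 20, 0x0, []⟩]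

theorem t9_392_25 : jobs 8 S9 b8_392 j9_392_25 = true := by decide +kernel

noncomputable def j9_392_26 : List Job := [
  ⟨37, 0x4984f2412c88472010c1e0d058240e0501, 0, 20, 0x204000405000604000805000a04000c05000e04001004001205001404, []⟩]

theorem t9_392_26 : jobs 8 S9 b8_392 j9_392_26 = true := by decide +kernel

noncomputable def j9_392_27 : List Job := [
  ⟨36, 0x5108a4623d00824221c804222118904a2613c4426150bc4024140b41e0d058240e0501, 0, 32, 0x0, []⟩]

theorem t9_392_27 : jobs 8 S9 b8_392 j9_392_27 = true := by decide +kernel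

noncomputable def j9_392_28 : List Job := [
  ⟨35, 0x5008242219108a4623c804222118904a2613c4426150bc4024140b41e0d058240e0501, 0, 32, 0x0, []⟩]

theorem t9_392_28 : jobs 8 S9 b8_392 j9_392_28 = true := by decide +kernel

noncomputable def j9_392_29 : List Job := [
  ⟨34, 0x5108a4623d00824221c88462412c80422613c4426150bc4024140b41e0d058240e0501, 0, 32, 0x0, []⟩]

theorem t9_392_29 : jobs 8 S9 b8_392 j9_392_29 = true := by decide +kernel

noncomputable def j9_392_30 : List Job := [
  ⟨33, 0x5008242219108a4623c904a2613c80422211c4426150bc4024140b41e0d058240e0501, 0, 32, 0x0, []⟩]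

theorem t9_392_30 : jobs 8 S9 b8_392 j9_392_30 = true := by decide +kernel

noncomputable def j9_392_31 : List Job := [
  ⟨32, 0x5008242219108a4623c804222118904a2613c4426150bc4024140b41e0d058240e0501, 0, 20, 0x0, []⟩]

theorem t9_392_31 : jobs 8 S9 b8_392 j9_392_31 = true := by decide +kernel

noncomputable def j9_392_32 : List Job := [
  ⟨31, 0x5008242219108a4623c88462412c80422613c4426150bc4024140b41e0d058240e0501, 0, 32, 0x0, []⟩]

theorem t9_392_32 : jobs 8 S9 b8_392 j9_392_32 = true := by decide +kernel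

noncomputable def j9_392_33 : List Job := [
  ⟨30, 0x5108a4623d00824221c904a2613c80422211c4426150bc4024140b41e0d058240e0501, 0, 20, 0x0, []⟩]

theorem t9_392_33 : jobs 8 S9 b8_392 j9_392_33 = true := by decide +kernel

noncomputable def j9_392_34 : List Job := [
  ⟨29, 0x5008242219108a4623c804222118904a2613c4c2b120a4442f100b41e0d058240e0501, 0, 20, 0x0, []⟩]

theorem t9_392_34 : jobs 8 S9 b8_392 j9_392_34 = true := by decide +kernel

noncomputable def j9_392_35 : List Job := [
  ⟨28, 0x5008242219108a4623c88462412c80422613c4c2b120a4442f100b41e0d058240e0501, 0, 32, 0x0, []⟩]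

theorem t9_392_35 : jobs 8 S9 b8_392 j9_392_35 = true := by decide +kernel

noncomputable def j9_392_36 : List Job := [
  ⟨27, 0x43e1d0d8642e15098441e0d058240e0501, 0, 18, 0x401000e01, []⟩]

theorem t9_392_36 : jobs 8 S9 b8_392 j9_392_36 = true := by decide +kernel

noncomputable def j9_392_37 : List Job := [
  ⟨26, 0x43e1d0d8642e15098441e0d058240e0501, 0, 18, 0x401000a01, []⟩]

theorem t9_392_37 : jobs 8 S9 b8_392 j9_392_37 = true := by decide +kernel

noncomputable def j9_392_38 : List Job := [
  ⟨25, 0x5309a4e27d20924a25d108a4623d00824221c3e1d0d8642e15098441e0d058240e0501, 0, 18, 0x401000e01, []⟩]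

theorem t9_392_38 : jobs 8 S9 b8_392 j9_392_38 = true := by decide +kernel

noncomputable def j9_392_39 : List Job := [
  ⟨24, 0x520924a259309a4e27d008242219108a4623c3e1d0d8642e15098441e0d058240e0501, 0, 18, 0x401000a01, []⟩]

theorem t9_392_39 : jobs 8 S9 b8_392 j9_392_39 = true := by decide +kernel

noncomputable def j9_392_40 : List Job := [
  ⟨23, 0x43e1d0d8642e15098441e0d058240e0501, 0, 18, 0x401000a01, []⟩]

theorem t9_392_40 : jobs 8 S9 b8_392 j9_392_40 = true := by decide +kernel

noncomputable def j9_392_41 : List Job := [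
  ⟨22, 0x43e1d0d8642e15098441e0d058240e0501, 0, 18, 0x401000e01, []⟩]

theorem t9_392_41 : jobs 8 S9 b8_392 j9_392_41 = true := by decide +kernel

noncomputable def j9_392_42 : List Job := [
  ⟨21, 0x4a0522a158b05a2e17c804222118904a2613c3e1d0d8642e15098441e0d058240e0501, 0, 18, 0x401000e01, []⟩]

theorem t9_392_42 : jobs 8 S9 b8_392 j9_392_42 = true := by decide +kernel

noncomputable def j9_392_43 : List Job := [
  ⟨20, 0x520924a259309a4e27d008242219108a4623ca0522a158b05a2e17c804222118904a2613c3e1d0d8642e15098441e0d058240e0501, 0, 18, 0x401000a01, []⟩]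

theorem t9_392_43 : jobs 8 S9 b8_392 j9_392_43 = true := by decide +kernel

noncomputable def j9_392_44 : List Job := [
  ⟨19, 0x4a8562c16ca0522e17c88462412c80422613c3e1d0d8642e15098441e0d058240e0501, 0, 18, 0x401000a01, []⟩]

theorem t9_392_44 : jobs 8 S9 b8_392 j9_392_44 = true := by decide +kernel

noncomputable def j9_392_45 : List Job := [
  ⟨18, 0x5008242219108a4623c804222118904a2613c4826160bc4022140ac1e0d058240e0501, 0, 72, 0x0, []⟩]

theorem t9_392_45 : jobs 8 S9 b8_392 j9_392_45 = true := by decide +kernel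

noncomputable def j9_392_46 : List Job := [
  ⟨17, 0x504864423500844523c804222118904a2613c4826160bc4022140ac1e0d058240e0501, 0, 72, 0x8208008408008608008808, []⟩]

theorem t9_392_46 : jobs 8 S9 b8_392 j9_392_46 = true := by decide +kernel

noncomputable def j9_392_47 : List Job := [
  ⟨16, 0x5008242219108a4623c904a2613c80422211c4826160bc4022140ac1e0d058240e0501, 0, 72, 0x8208008408008a08008c08, []⟩]

theorem t9_392_47 : jobs 8 S9 b8_392 j9_392_47 = true := by decide +kernel

noncomputable def j9_392_48 : List Job := [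
  ⟨15, 0x504864423500844523c904a2613c80422211c4826160bc4022140ac1e0d058240e0501, 0, 72, 0x8208008409008608008809008a08008c09, []⟩]

theorem t9_392_48 : jobs 8 S9 b8_392 j9_392_48 = true := by decide +kernel

noncomputable def j9_392_49 : List Job := [
  ⟨14, 0x5008242219108a4623c804222118904a2613c4826160bc4022140ac1e0d058240e0501, 0, 46, 0x0, []⟩]

theorem t9_392_49 : jobs 8 S9 b8_392 j9_392_49 = true := by decide +kernel

noncomputable def j9_392_50 : List Job := [
  ⟨13, 0x5008242219108a4623c84462413480442513c4826160bc4022140ac1e0d058240e0501, 0, 72, 0x8208008409008a08008c09, []⟩]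

theorem t9_392_50 : jobs 8 S9 b8_392 j9_392_50 = true := by decide +kernel

noncomputable def j9_392_51 : List Job := [
  ⟨12, 0x504864423500844523c84462413480442513c4826160bc4022140ac1e0d058240e0501, 0, 46, 0x5208005408005608005808, []⟩]

theorem t9_392_51 : jobs 8 S9 b8_392 j9_392_51 = true := by decide +kernel

noncomputable def j9_392_52 : List Job := [
  ⟨11, 0x5008242219108a4623c804222118904a2613c582f140ac48271008c1e0d058240e0501, 0, 46, 0x2a08002c09003208003608003809003e08004009004608004809004e08, []⟩]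

theorem t9_392_52 : jobs 8 S9 b8_392 j9_392_52 = true := by decide +kernel

noncomputable def j9_392_53 : List Job := [
  ⟨10, 0x5008242219108a4623c904a2613c80422211c582f140ac48271008c1e0d058240e0501, 0, 72, 0x4208004409004a08004c09005208005409005a08005c09006208006409006a08006c09007208007409007a08007c09008208008409008a08008c09, []⟩]

theorem t9_392_53 : jobs 8 S9 b8_392 j9_392_53 = true := by decide +kernel

noncomputable def j9_392_54 : List Job := [
  ⟨9, 0x520924a259309a4e27d008242219108a4623c3e1d0d8642e15098441e0d058240e0501, 0, 41, 0x401000e01002801003201004a01004c01004e01, []⟩]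

theorem t9_392_54 : jobs 8 S9 b8_392 j9_392_54 = true := by decide +kernel

noncomputable def j9_392_55 : List Job := [
  ⟨8, 0x4b05a2e17ca0522a15c904a2613c80422211c3e1d0d8642e15098441e0d058240e0501, 0, 41, 0x401001601002801002e01004a10004c01004e10, []⟩]

theorem t9_392_55 : jobs 8 S9 b8_392 j9_392_55 = true := by decide +kernel

noncomputable def j9_392_56 : List Job := [
  ⟨7, 0x5008242219108a4623c904a2613c80422211c4426150bc4024140b41e0d058240e0501, 0, 32, 0x0, []⟩]

theorem t9_392_56 : jobs 8 S9 b8_392 j9_392_56 = true := by decide +kernel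

noncomputable def j9_392_57 : List Job := [
  ⟨6, 0x5008242219108a4623c904a2613c80422211c4426150bc4024140b41e0d058240e0501, 0, 32, 0x0, []⟩]

theorem t9_392_57 : jobs 8 S9 b8_392 j9_392_57 = true := by decide +kernel

noncomputable def j9_392_58 : List Job := [
  ⟨5, 0x5008242219108a4623c804222118904a2613c4426150bc4024140b41e0d058240e0501, 0, 24, 0x0, []⟩]

theorem t9_392_58 : jobs 8 S9 b8_392 j9_392_58 = true := by decide +kernel

noncomputable def j9_392_59 : List Job := [
  ⟨4, 0x5008242219108a4623c88462412c80422613c4426150bc4024140b41e0d058240e0501, 0, 32, 0x0, []⟩]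

theorem t9_392_59 : jobs 8 S9 b8_392 j9_392_59 = true := by decide +kernel

noncomputable def j9_392_60 : List Job := [
  ⟨3, 0x5108a4623d00824221c904a2613c80422211c4426150bc4024140b41e0d058240e0501, 0, 24, 0x0, []⟩]

theorem t9_392_60 : jobs 8 S9 b8_392 j9_392_60 = true := by decide +kernel

noncomputable def j9_392_61 : List Job := [
  ⟨2, 0x5008242219108a4623c804222118904a2613c4c2b120a4442f100b41e0d058240e0501, 0, 24, 0x0, []⟩]

theorem t9_392_61 : jobs 8 S9 b8_392 j9_392_61 = true := by decide +kernel

noncomputable def j9_392_62 : List Job := [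
  ⟨1, 0x5008242219108a4623c88462412c80422613c4c2b120a4442f100b41e0d058240e0501, 0, 32, 0x0, []⟩]

theorem t9_392_62 : jobs 8 S9 b8_392 j9_392_62 = true := by decide +kernel

noncomputable def j9_392_63 : List Job := [
  ⟨0, 0x43e1d0d8642e15098441e0d058240e0501, 0, 18, 0x401000a01, []⟩]

theorem t9_392_63 : jobs 8 S9 b8_392 j9_392_63 = true := by decide +kernel

theorem d9_392 : Dn 8 S9 b8_392 := dn_of (Js := j9_392_0 ++ (j9_392_1 ++ (j9_392_2 ++ (j9_392_3 ++ (j9_392_4 ++ (j9_392_5 ++ (j9_392_6 ++ (j9_392_7 ++ (j9_392_8 ++ (j9_392_9 ++ (j9_392_10 ++ (j9_392_11 ++ (j9_392_12 ++ (j9_392_13 ++ (j9_392_14 ++ (j9_392_15 ++ (j9_392_16 ++ (j9_392_17 ++ (j9_392_18 ++ (j9_392_19 ++ (j9_392_20 ++ (j9_392_21 ++ (j9_392_22 ++ (j9_392_23 ++ (j9_392_24 ++ (j9_392_25 ++ (j9_392_26 ++ (j9_392_27 ++ (j9_392_28 ++ (j9_392_29 ++ (j9_392_30 ++ (j9_392_31 ++ (j9_392_32 ++ (j9_392_33 ++ (j9_392_34 ++ (j9_392_35 ++ (j9_392_36 ++ (j9_392_37 ++ (j9_392_38 ++ (j9_392_39 ++ (j9_392_40 ++ (j9_392_41 ++ (j9_392_42 ++ (j9_392_43 ++ (j9_392_44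 ++ (j9_392_45 ++ (j9_392_46 ++ (j9_392_47 ++ (j9_392_48 ++ (j9_392_49 ++ (j9_392_50 ++ (j9_392_51 ++ (j9_392_52 ++ (j9_392_53 ++ (j9_392_54 ++ (j9_392_55 ++ (j9_392_56 ++ (j9_392_57 ++ (j9_392_58 ++ (j9_392_59 ++ (j9_392_60 ++ (j9_392_61 ++ (j9_392_62 ++ (j9_392_63 ++ []))))))))))))))))))))))))))))))))))))))))))))))))))))))))))))))))
  (jobs_append t9_392_0 <| jobs_append t9_392_1 <| jobs_append t9_392_2 <| jobs_append t9_392_3 <| jobs_append t9_392_4 <| jobs_append t9_392_5 <| jobs_append t9_392_6 <| jobs_append t9_392_7 <| jobs_append t9_392_8 <| jobs_append t9_392_9 <| jobs_append t9_392_10 <| jobs_append t9_392_11 <| jobs_append t9_392_12 <| jobs_append t9_392_13 <| jobs_append t9_392_14 <| jobs_append t9_392_15 <| jobs_append t9_392_16 <| jobs_append t9_392_17 <| jobs_append t9_392_18 <| jobs_append t9_392_19 <| jobs_append t9_392_20 <| jobs_append t9_392_21 <| jobs_append t9_392_22 <| jobs_append t9_392_23 <| jobs_append t9_392_24 <| jobs_append t9_392_25 <| jobs_append t9_392_26 <| jobs_append t9_392_27 <|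 jobs_append t9_392_28 <| jobs_append t9_392_29 <| jobs_append t9_392_30 <| jobs_append t9_392_31 <| jobs_append t9_392_32 <| jobs_append t9_392_33 <| jobs_append t9_392_34 <| jobs_append t9_392_35 <| jobs_append t9_392_36 <| jobs_append t9_392_37 <| jobs_append t9_392_38 <| jobs_append t9_392_39 <| jobs_append t9_392_40 <| jobs_append t9_392_41 <| jobs_append t9_392_42 <| jobs_append t9_392_43 <| jobs_append t9_392_44 <| jobs_append t9_392_45 <| jobs_append t9_392_46 <| jobs_append t9_392_47 <| jobs_append t9_392_48 <| jobs_append t9_392_49 <| jobs_append t9_392_50 <| jobs_append t9_392_51 <| jobs_append t9_392_52 <| jobs_append t9_392_53 <| jobs_append t9_392_54 <| jobs_append t9_392_55 <| jobs_append t9_392_56 <| jobs_append t9_392_57 <| jobs_append t9_392_58 <| jobs_append t9_392_59 <| jobs_append t9_392_60 <| jobs_append t9_392_61 <| jobs_append t9_392_62 <| jobs_append t9_392_63 <| List.forall_mem_nil _) (by decide +kernel)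

noncomputable def j9_393_0 : List Job := [
  ⟨60, 0x43e1d0d8642e15098441e0d058240e0501, 0, 3, 0x201000401000601, []⟩]

theorem t9_393_0 : jobs 8 S9 b8_393 j9_393_0 = true := by decide +kernel

noncomputable def j9_393_1 : List Job := [
  ⟨44, 0x464361c0f460341d0fc4426140b44024150bc3e1d0d8642e15098441e0d058240e0501, 0, 3, 0x201000401, []⟩]

theorem t9_393_1 : jobs 8 S9 b8_393 j9_393_1 = true := by decide +kernel

noncomputable def j9_393_2 : List Job := [
  ⟨43, 0x41e0d058240e0501, 0, 32, 0x0, []⟩]

theorem t9_393_2 : jobs 8 S9 b8_393 j9_393_2 = true := by decide +kernel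

noncomputable def j9_393_3 : List Job := [
  ⟨42, 0x41e0d058240e0501, 0, 32, 0x0, []⟩]

theorem t9_393_3 : jobs 8 S9 b8_393 j9_393_3 = true := by decide +kernel

noncomputable def j9_393_4 : List Job := [
  ⟨41, 0x41e0d058240e0501, 0, 20, 0x0, []⟩]

theorem t9_393_4 : jobs 8 S9 b8_393 j9_393_4 = true := by decide +kernel

noncomputable def j9_393_5 : List Job := [
  ⟨40, 0x41e0d058240e0501, 0, 20, 0x0, []⟩]

theorem t9_393_5 : jobs 8 S9 b8_393 j9_393_5 = true := by decide +kernel

noncomputable def j9_393_6 : List Job := [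
  ⟨39, 0x41e0d058240e0501, 0, 14, 0x0, []⟩]

theorem t9_393_6 : jobs 8 S9 b8_393 j9_393_6 = true := by decide +kernel

noncomputable def j9_393_7 : List Job := [
  ⟨38, 0x41e0d058240e0501, 0, 20, 0x0, []⟩]

theorem t9_393_7 : jobs 8 S9 b8_393 j9_393_7 = true := by decide +kernel

noncomputable def j9_393_8 : List Job := [
  ⟨37, 0x4c06232198d06a361bc88462613c80422412c1e0d058240e0501, 0, 32, 0x0, []⟩]

theorem t9_393_8 : jobs 8 S9 b8_393 j9_393_8 = true := by decide +kernel

noncomputable def j9_393_9 : List Job := [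
  ⟨36, 0x4c06232198d06a361bc88462613c80422412c1e0d058240e0501, 0, 32, 0x0, []⟩]

theorem t9_393_9 : jobs 8 S9 b8_393 j9_393_9 = true := by decide +kernel

noncomputable def j9_393_10 : List Job := [
  ⟨35, 0x4c06232198d06a361bc804222118904a2613c1e0d058240e0501, 0, 32, 0x0, []⟩]

theorem t9_393_10 : jobs 8 S9 b8_393 j9_393_10 = true := by decide +kernel

noncomputable def j9_393_11 : List Job := [
  ⟨34, 0x4c464351b4c066341bc88462613c80422412c1e0d058240e0501, 0, 32, 0x0, []⟩]

theorem t9_393_11 : jobs 8 S9 b8_393 j9_393_11 = true := by decide +kernel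

noncomputable def j9_393_12 : List Job := [
  ⟨33, 0x4c06232198d06a361bc88462613c80422412c1e0d058240e0501, 0, 32, 0x0, []⟩]

theorem t9_393_12 : jobs 8 S9 b8_393 j9_393_12 = true := by decide +kernel

noncomputable def j9_393_13 : List Job := [
  ⟨32, 0x4c06232198d06a361bc88462613c80422412c1e0d058240e0501, 0, 32, 0x0, []⟩]

theorem t9_393_13 : jobs 8 S9 b8_393 j9_393_13 = true := by decide +kernel

noncomputable def j9_393_14 : List Job := [
  ⟨31, 0x4c06232198d06a361bc804222118904a2613c1e0d058240e0501, 0, 20, 0x0, []⟩]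

theorem t9_393_14 : jobs 8 S9 b8_393 j9_393_14 = true := by decide +kernel

noncomputable def j9_393_15 : List Job := [
  ⟨30, 0x4c06232198d06a361bc804222118904a2613c1e0d058240e0501, 0, 20, 0x0, []⟩]

theorem t9_393_15 : jobs 8 S9 b8_393 j9_393_15 = true := by decide +kernel

noncomputable def j9_393_16 : List Job := [
  ⟨29, 0x4c866361bcc062341ac88462613c80422412c1e0d058240e0501, 0, 20, 0x0, []⟩]

theorem t9_393_16 : jobs 8 S9 b8_393 j9_393_16 = true := by decide +kernel

noncomputable def j9_393_17 : List Job := [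
  ⟨28, 0x540a25229950aa562bd008242219108a4623cc866361bcc062341ac88462613c80422412c1e0d058240e0501, 0, 50, 0x5204005404005604005804005a04006004006204, []⟩]

theorem t9_393_17 : jobs 8 S9 b8_393 j9_393_17 = true := by decide +kernel

noncomputable def j9_393_18 : List Job := [
  ⟨27, 0x41e0d058240e0501, 0, 20, 0x0, []⟩]

theorem t9_393_18 : jobs 8 S9 b8_393 j9_393_18 = true := by decide +kernel

noncomputable def j9_393_19 : List Job := [
  ⟨26, 0x41e0d058240e0501, 0, 24, 0x0, []⟩]

theorem t9_393_19 : jobs 8 S9 b8_393 j9_393_19 = true := by decide +kernel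

noncomputable def j9_393_20 : List Job := [
  ⟨25, 0x4c06232198d06a361bc88462613c80422412c1e0d058240e0501, 0, 32, 0x0, []⟩]

theorem t9_393_20 : jobs 8 S9 b8_393 j9_393_20 = true := by decide +kernel

noncomputable def j9_393_21 : List Job := [
  ⟨24, 0x4c06232198d06a361bc88462613c80422412c1e0d058240e0501, 0, 32, 0x0, []⟩]

theorem t9_393_21 : jobs 8 S9 b8_393 j9_393_21 = true := by decide +kernel

noncomputable def j9_393_22 : List Job := [
  ⟨23, 0x4c06232198d06a361bc88462613c80422412c1e0d058240e0501, 0, 32, 0x0, []⟩]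

theorem t9_393_22 : jobs 8 S9 b8_393 j9_393_22 = true := by decide +kernel

noncomputable def j9_393_23 : List Job := [
  ⟨22, 0x4c06232198d06a361bc88462613c80422412c1e0d058240e0501, 0, 32, 0x0, []⟩]

theorem t9_393_23 : jobs 8 S9 b8_393 j9_393_23 = true := by decide +kernel

noncomputable def j9_393_24 : List Job := [
  ⟨21, 0x540a25229950aa562bd08864623d00824422cc06232198d06a361bc88462613c80422412c1e0d058240e0501, 0, 40, 0x2a00002c00002e00003005003205003405003605003e00004000004200004405004605004805004a05, [(32, ⟨1399, 0x24400250010400150003800010001000020040001, 0x190121182c0b0100408⟩), (31, ⟨1400, 0x20000440008000140042000010041000020000001, 0x1802108024080100408⟩), (30, ⟨1398, 0x27000250010000110003001010041001020040001, 0x19f10118280a0100408⟩), (22, ⟨1396, 0x27001250010001110043001010041000020040001, 0x19f10118280a0100408⟩), (21, ⟨1397, 0x27000250050001110043000010041001020040001, 0x19f10118280a0100408⟩), (20, ⟨1395, 0x26401210011400110043001010041000020040001, 0x19913110280a0100408⟩)]⟩]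

theorem t9_393_24 : jobs 8 S9 b8_393 j9_393_24 = true := by decide +kernel

noncomputable def j9_393_25 : List Job := [
  ⟨20, 0x4804222118904a2613c1e0d058240e0501, 0, 32, 0x0, []⟩]

theorem t9_393_25 : jobs 8 S9 b8_393 j9_393_25 = true := by decide +kernel

noncomputable def j9_393_26 : List Job := [
  ⟨19, 0x4804222118904a2613c1e0d058240e0501, 0, 32, 0x0, []⟩]

theorem t9_393_26 : jobs 8 S9 b8_393 j9_393_26 = true := by decide +kernel

noncomputable def j9_393_27 : List Job := [
  ⟨18, 0x4804222118904a2613c1e0d058240e0501, 0, 32, 0x0, []⟩]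

theorem t9_393_27 : jobs 8 S9 b8_393 j9_393_27 = true := by decide +kernel

noncomputable def j9_393_28 : List Job := [
  ⟨17, 0x4804222118904a2613c1e0d058240e0501, 0, 32, 0x0, []⟩]

theorem t9_393_28 : jobs 8 S9 b8_393 j9_393_28 = true := by decide +kernel

noncomputable def j9_393_29 : List Job := [
  ⟨16, 0x488462412c80422613c1e0d058240e0501, 0, 32, 0x0, []⟩]

theorem t9_393_29 : jobs 8 S9 b8_393 j9_393_29 = true := by decide +kernel

noncomputable def j9_393_30 : List Job := [
  ⟨15, 0x488462613c80422412c1e0d058240e0501, 0, 32, 0x0, []⟩]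

theorem t9_393_30 : jobs 8 S9 b8_393 j9_393_30 = true := by decide +kernel

noncomputable def j9_393_31 : List Job := [
  ⟨14, 0x488462412c80422613c1e0d058240e0501, 0, 20, 0x0, []⟩]

theorem t9_393_31 : jobs 8 S9 b8_393 j9_393_31 = true := by decide +kernel

noncomputable def j9_393_32 : List Job := [
  ⟨13, 0x488462412c80422613c1e0d058240e0501, 0, 20, 0x0, []⟩]

theorem t9_393_32 : jobs 8 S9 b8_393 j9_393_32 = true := by decide +kernel

noncomputable def j9_393_33 : List Job := [
  ⟨12, 0x488462613c80422412c1e0d058240e0501, 0, 20, 0x0, []⟩]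

theorem t9_393_33 : jobs 8 S9 b8_393 j9_393_33 = true := by decide +kernel

noncomputable def j9_393_34 : List Job := [
  ⟨11, 0x544a4552b540a6542bd008242219108a4623c804222118904a2613c1e0d058240e0501, 0, 32, 0x0, []⟩]

theorem t9_393_34 : jobs 8 S9 b8_393 j9_393_34 = true := by decide +kernel

noncomputable def j9_393_35 : List Job := [
  ⟨10, 0x540a25229950aa562bd08864623d00824422c804222118904a2613c1e0d058240e0501, 0, 32, 0x0, []⟩]

theorem t9_393_35 : jobs 8 S9 b8_393 j9_393_35 = true := by decide +kernel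

noncomputable def j9_393_36 : List Job := [
  ⟨9, 0x540a25229950aa562bd008242219108a4623c804222118904a2613c1e0d058240e0501, 0, 32, 0x0, []⟩]

theorem t9_393_36 : jobs 8 S9 b8_393 j9_393_36 = true := by decide +kernel

noncomputable def j9_393_37 : List Job := [
  ⟨8, 0x544a4552b540a6542bd08864623d00824422c804222118904a2613c1e0d058240e0501, 0, 32, 0x0, []⟩]

theorem t9_393_37 : jobs 8 S9 b8_393 j9_393_37 = true := by decide +kernel

noncomputable def j9_393_38 : List Job := [
  ⟨7, 0x540a25229950aa562bd08864623d00824422c88462412c80422613c1e0d058240e0501, 0, 32, 0x0, []⟩]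

theorem t9_393_38 : jobs 8 S9 b8_393 j9_393_38 = true := by decide +kernel

noncomputable def j9_393_39 : List Job := [
  ⟨6, 0x540a25229950aa562bd08864623d00824422c88462613c80422412c1e0d058240e0501, 0, 32, 0x0, []⟩]

theorem t9_393_39 : jobs 8 S9 b8_393 j9_393_39 = true := by decide +kernel

noncomputable def j9_393_40 : List Job := [
  ⟨5, 0x540a25229950aa562bd008242219108a4623c88462412c80422613c1e0d058240e0501, 0, 20, 0x0, []⟩]

theorem t9_393_40 : jobs 8 S9 b8_393 j9_393_40 = true := by decide +kernel

noncomputable def j9_393_41 : List Job := [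
  ⟨4, 0x548a6562bd40a2542ad08864623d00824422c88462412c80422613c1e0d058240e0501, 0, 24, 0x2a01002c01002e01003001, []⟩]

theorem t9_393_41 : jobs 8 S9 b8_393 j9_393_41 = true := by decide +kernel

noncomputable def j9_393_42 : List Job := [
  ⟨3, 0x540a25229950aa562bd008242219108a4623c88462613c80422412c1e0d058240e0501, 0, 20, 0x0, []⟩]

theorem t9_393_42 : jobs 8 S9 b8_393 j9_393_42 = true := by decide +kernel

noncomputable def j9_393_43 : List Job := [
  ⟨2, 0x4904a2613c80422211c1e0d058240e0501, 0, 32, 0x0, []⟩]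

theorem t9_393_43 : jobs 8 S9 b8_393 j9_393_43 = true := by decide +kernel

noncomputable def j9_393_44 : List Job := [
  ⟨1, 0x4904a2613c80422211c1e0d058240e0501, 0, 32, 0x0, []⟩]

theorem t9_393_44 : jobs 8 S9 b8_393 j9_393_44 = true := by decide +kernel

noncomputable def j9_393_45 : List Job := [
  ⟨0, 0x4904a2613c80422211c1e0d058240e0501, 0, 32, 0x0, []⟩]

theorem t9_393_45 : jobs 8 S9 b8_393 j9_393_45 = true := by decide +kernel

theorem d9_393 : Dn 8 S9 b8_393 := dn_of (Js := j9_393_0 ++ (j9_393_1 ++ (j9_393_2 ++ (j9_393_3 ++ (j9_393_4 ++ (j9_393_5 ++ (j9_393_6 ++ (j9_393_7 ++ (j9_393_8 ++ (j9_393_9 ++ (j9_393_10 ++ (j9_393_11 ++ (j9_393_12 ++ (j9_393_13 ++ (j9_393_14 ++ (j9_393_15 ++ (j9_393_16 ++ (j9_393_17 ++ (j9_393_18 ++ (j9_393_19 ++ (j9_393_20 ++ (j9_393_21 ++ (j9_393_22 ++ (j9_393_23 ++ (j9_393_24 ++ (j9_393_25 ++ (j9_393_26 ++ (j9_393_27 ++ (j9_393_28 ++ (j9_393_29 ++ (j9_393_30 ++ (j9_393_31 ++ (j9_393_32 ++ (j9_393_33 ++ (j9_393_34 ++ (j9_393_35 ++ (j9_393_36 ++ (j9_393_37 ++ (j9_393_38 ++ (j9_393_39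 ++ (j9_393_40 ++ (j9_393_41 ++ (j9_393_42 ++ (j9_393_43 ++ (j9_393_44 ++ (j9_393_45 ++ []))))))))))))))))))))))))))))))))))))))))))))))
  (jobs_append t9_393_0 <| jobs_append t9_393_1 <| jobs_append t9_393_2 <| jobs_append t9_393_3 <| jobs_append t9_393_4 <| jobs_append t9_393_5 <| jobs_append t9_393_6 <| jobs_append t9_393_7 <| jobs_append t9_393_8 <| jobs_append t9_393_9 <| jobs_append t9_393_10 <| jobs_append t9_393_11 <| jobs_append t9_393_12 <| jobs_append t9_393_13 <| jobs_append t9_393_14 <| jobs_append t9_393_15 <| jobs_append t9_393_16 <| jobs_append t9_393_17 <| jobs_append t9_393_18 <| jobs_append t9_393_19 <| jobs_append t9_393_20 <| jobs_append t9_393_21 <| jobs_append t9_393_22 <| jobs_append t9_393_23 <| jobs_append t9_393_24 <| jobs_append t9_393_25 <| jobs_append t9_393_26 <| jobs_append t9_393_27 <| jobs_append t9_393_28 <| jobs_append t9_393_29 <| jobs_append t9_393_30 <| jobs_append t9_393_31 <| jobs_append t9_393_32 <| jobs_append t9_393_33 <| jobs_append t9_393_34 <| jobs_append t9_393_35 <|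 jobs_append t9_393_36 <| jobs_append t9_393_37 <| jobs_append t9_393_38 <| jobs_append t9_393_39 <| jobs_append t9_393_40 <| jobs_append t9_393_41 <| jobs_append t9_393_42 <| jobs_append t9_393_43 <| jobs_append t9_393_44 <| jobs_append t9_393_45 <| List.forall_mem_nil _) (by decide +kernel)

noncomputable def j9_394_0 : List Job := [
  ⟨60, 0x43e1d0d8642e15098441e0d058240e0501, 0, 3, 0x201000401000601, []⟩]

theorem t9_394_0 : jobs 8 S9 b8_394 j9_394_0 = true := by decide +kernel

noncomputable def j9_394_1 : List Job := [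
  ⟨34, 0x520924a259309a4e27d008242219108a4623c3e1d0d8642e15098441e0d058240e0501, 0, 3, 0x201000401, []⟩]

theorem t9_394_1 : jobs 8 S9 b8_394 j9_394_1 = true := by decide +kernel

noncomputable def j9_394_2 : List Job := [
  ⟨32, 0x460321a0d8703a1e0fc402212098502a160bc3e1d0d8642e15098441e0d058240e0501, 0, 3, 0x201000401, []⟩]

theorem t9_394_2 : jobs 8 S9 b8_394 j9_394_2 = true := by decide +kernel

noncomputable def j9_394_3 : List Job := [
  ⟨31, 0x460321a0d8703a1e0fc402212098502a160bc3e1d0d8642e15098441e0d058240e0501, 0, 3, 0x201000401, []⟩]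

theorem t9_394_3 : jobs 8 S9 b8_394 j9_394_3 = true := by decide +kernel

noncomputable def j9_394_4 : List Job := [
  ⟨29, 0x460321a0d8703a1e0fc402212098502a160bc3e1d0d8642e15098441e0d058240e0501, 0, 3, 0x201000401, []⟩]

theorem t9_394_4 : jobs 8 S9 b8_394 j9_394_4 = true := by decide +kernel

noncomputable def j9_394_5 : List Job := [
  ⟨28, 0x4a0522a158b05a2e17c804222118904a2613c60321a0d8703a1e0fc402212098502a160bc3e1d0d8642e15098441e0d058240e0501, 0, 5, 0x201000401, []⟩]

theorem t9_394_5 : jobs 8 S9 b8_394 j9_394_5 = true := by decide +kernel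

noncomputable def j9_394_6 : List Job := [
  ⟨8, 0x41e0d058240e0501, 0, 2, 0x201000401, []⟩]

theorem t9_394_6 : jobs 8 S9 b8_394 j9_394_6 = true := by decide +kernel

theorem d9_394 : Dn 8 S9 b8_394 := dn_of (Js := j9_394_0 ++ (j9_394_1 ++ (j9_394_2 ++ (j9_394_3 ++ (j9_394_4 ++ (j9_394_5 ++ (j9_394_6 ++ [])))))))
  (jobs_append t9_394_0 <| jobs_append t9_394_1 <| jobs_append t9_394_2 <| jobs_append t9_394_3 <| jobs_append t9_394_4 <| jobs_append t9_394_5 <| jobs_append t9_394_6 <| List.forall_mem_nil _) (by decide +kernel)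

noncomputable def j9_395_0 : List Job := [
  ⟨34, 0x4c866361bcc062341ac88462613c80422412c1e0d058240e0501, 0, 2, 0x201000401, []⟩]

theorem t9_395_0 : jobs 8 S9 b8_395 j9_395_0 = true := by decide +kernel

noncomputable def j9_395_1 : List Job := [
  ⟨11, 0x5108a4623d00824221c904a2613c80422211c4426140b44024150bc1e0d058240e0501, 0, 2, 0x201000401, []⟩]

theorem t9_395_1 : jobs 8 S9 b8_395 j9_395_1 = true := by decide +kernel

noncomputable def j9_395_2 : List Job := [
  ⟨4, 0x5108a4623d00824221c904a2613c80422211c4426140b44024150bc1e0d058240e0501, 0, 2, 0x201000401, []⟩]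

theorem t9_395_2 : jobs 8 S9 b8_395 j9_395_2 = true := by decide +kernel

noncomputable def j9_395_3 : List Job := [
  ⟨1, 0x4a0522a158b05a2e17c804222118904a2613c3e1d0d8642e15098441e0d058240e0501, 0, 3, 0x201000401, []⟩]

theorem t9_395_3 : jobs 8 S9 b8_395 j9_395_3 = true := by decide +kernel

theorem d9_395 : Dn 8 S9 b8_395 := dn_of (Js := j9_395_0 ++ (j9_395_1 ++ (j9_395_2 ++ (j9_395_3 ++ []))))
  (jobs_append t9_395_0 <| jobs_append t9_395_1 <| jobs_append t9_395_2 <| jobs_append t9_395_3 <| List.forall_mem_nil _) (by decide +kernel)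

noncomputable def j9_396_0 : List Job := [
  ⟨63, 0x6512a964ba61329a4de41229249a713a9e4fe110a8643a21128a45e01028241a311a8e47c3e1d0d8642e15098441e0d058240e0501, 0, 35, 0x3a01003c01003e01004001004401, []⟩]

theorem t9_396_0 : jobs 8 S9 b8_396 j9_396_0 = true := by decide +kernel

noncomputable def j9_396_1 : List Job := [
  ⟨62, 0x43e1d0d8642e15098441e0d058240e0501, 0, 24, 0x2e01003001, []⟩]

theorem t9_396_1 : jobs 8 S9 b8_396 j9_396_1 = true := by decide +kernel

noncomputable def j9_396_2 : List Job := [
  ⟨61, 0x6110a8643a21128a45e01028241a311a8e47c783f1c0ec6837180cc582f140ac48271008c3e1d0d8642e15098441e0d058240e0501, 0, 38, 0x2c01002e08003209003608003a09004c01, []⟩]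

theorem t9_396_2 : jobs 8 S9 b8_396 j9_396_2 = true := by decide +kernel

noncomputable def j9_396_3 : List Job := [
  ⟨60, 0x605068443221148d47e01048543a25168c4746c3d1a0fc6439180ec4c2d120bc4429100ac3e1d0d8642e15098441e0d058240e0501, 0, 46, 0x4601004801004a01004c01005000005200005401005a01, [(40, ⟨2040, 0x46000590005a0046c00038010c00008004140080001, 0x1842c89c38060102406⟩), (39, ⟨2041, 0x4700148002500005000810000c00208004140000001, 0x18c2309824060102006⟩)]⟩]

theorem t9_396_3 : jobs 8 S9 b8_396 j9_396_3 = true := by decide +kernel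

noncomputable def j9_396_4 : List Job := [
  ⟨59, 0x45c3d160fc5439140ec4c35120dc4431100cc3e1d0d8642e15098441e0d058240e0501, 0, 18, 0x2001002201002401, []⟩]

theorem t9_396_4 : jobs 8 S9 b8_396 j9_396_4 = true := by decide +kernel

noncomputable def j9_396_5 : List Job := [
  ⟨58, 0x43e1d0d8642e15098441e0d058240e0501, 0, 18, 0x2001002201002401, []⟩]

theorem t9_396_5 : jobs 8 S9 b8_396 j9_396_5 = true := by decide +kernel

noncomputable def j9_396_6 : List Job := [
  ⟨57, 0x4c466351b8e4763d1fcc064341b0e0743c1f4844625138a4562d17c804424130a0542c1743e1d0d8642e15098441e0d058240e0501, 0, 26, 0x2401002601002a01002e01003001, []⟩]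

theorem t9_396_6 : jobs 8 S9 b8_396 j9_396_6 = true := by decide +kernel

noncomputable def j9_396_7 : List Job := [
  ⟨56, 0x4884626138a8562e17c804224128a0522c16c5c3d160fc5439140ec4c35120dc4431100cc3e1d0d8642e15098441e0d058240e0501, 0, 31, 0xe01001001002e01003201003600003801003c00, [(29, ⟨2039, 0x268019c00242000540085801010021a004240080001, 0x151410902e050182408⟩), (26, ⟨2038, 0x4e0005d000500045400810010d00010004240080001, 0x191290882c020282006⟩)]⟩]

theorem t9_396_7 : jobs 8 S9 b8_396 j9_396_7 = true := by decide +kernel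

noncomputable def j9_396_8 : List Job := [
  ⟨55, 0x4d46c3c1fcd06e3d1f4c464381dcc066391d43e1d0d8642e15098441e0d058240e0501, 0, 46, 0x210000410000611000810000a10002810002a10004410004603004803004a01004c01004e01005210005810005a01005c01, []⟩]

theorem t9_396_8 : jobs 8 S9 b8_396 j9_396_8 = true := by decide +kernel

noncomputable def j9_396_9 : List Job := [
  ⟨54, 0x64526944b265369c4f64124954ba61349d4fe05068543a25168d47e01048443221148c47588c664329a8d66c36d80c266339a0d26e37d08864623928964e27d00824422920924c26cd46c3c1fcd06e3d1f4c464381dcc066391d43e1d0d8642e15098441e0d058240e0501, 0, 92, 0x210000810004c12005c01006410006a10006c1000880100b401, []⟩]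

theorem t9_396_9 : jobs 8 S9 b8_396 j9_396_9 = true := by decide +kernel

noncomputable def j9_396_10 : List Job := [
  ⟨53, 0x43e1d0d8642e15098441e0d058240e0501, 0, 16, 0x210000409001a10001c10001e10002010, []⟩]

theorem t9_396_10 : jobs 8 S9 b8_396 j9_396_10 = true := by decide +kernel

noncomputable def j9_396_11 : List Job := [
  ⟨52, 0x6110a8643a311a8e47e01028241a21128a45c3e1d0d8642e15098441e0d058240e0501, 0, 34, 0x208001e10002018002601004201, []⟩]

theorem t9_396_11 : jobs 8 S9 b8_396 j9_396_11 = true := by decide +kernel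

noncomputable def j9_396_12 : List Job := [
  ⟨51, 0x5cce87b3e5c8ea7a3edc4ec793f5c0ee783fd0c8e4b27d088c4a275048a4926d008848264582e1e0fc502a1c0ec48261a0dc4022180cc3e1d0d8642e15098441e0d058240e0501, 0, 72, 0x210000604000805000a06000c07002a04002e04003206003607003a01003e01004001006601006801006a10007001007401007810007a0d007c0d, []⟩]

theorem t9_396_12 : jobs 8 S9 b8_396 j9_396_12 = true := by decide +kernel

noncomputable def j9_396_13 : List Job := [
  ⟨50, 0x621128a45a311a8e47e01028241a110a8643dcce87b3e5c8ea7a3edc4ec793f5c0ee783fd0c8e4b27d088c4a275048a4926d008848264582e1e0fc502a1c0ec48261a0dc4022180cc3e1d0d8642e15098441e0d058240e0501, 0, 109, 0x202000a14000e16001200001400001601003814004016004801005001005401005601005801005a01005e01006200008801008c1a00980100a00000a20100a40100a60100a80100ac0100ae0100b20100ba1000bc1d00d60000d801, [(106, ⟨1546, 0x21c0011f0000800017b0004040010200001c00008000000001, 0x1823f08086010701010⟩), (79, ⟨1542, 0x20400043000488001110000100000200040400008000400001, 0x1822309024010401004⟩), (48, ⟨1545,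 0x21c00144000490001160004100000200000400008000000001, 0x18e240a038010401004⟩), (9, ⟨1544, 0x20800146000484000140000100000200040400008000000001, 0x1842608830010401004⟩), (8, ⟨1543, 0x20800146000084000140000100000200040400008000000001, 0x1842608830010401004⟩)]⟩]

theorem t9_396_13 : jobs 8 S9 b8_396 j9_396_13 = true := by decide +kernel

noncomputable def j9_396_14 : List Job := [
  ⟨49, 0x43e1d0d8642e15098441e0d058240e0501, 0, 18, 0x210000408, []⟩]

theorem t9_396_14 : jobs 8 S9 b8_396 j9_396_14 = true := by decide +kernel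

noncomputable def j9_396_15 : List Job := [
  ⟨48, 0x43e1d0d8642e15098441e0d058240e0501, 0, 29, 0xe10001018, []⟩]

theorem t9_396_15 : jobs 8 S9 b8_396 j9_396_15 = true := by decide +kernel

noncomputable def j9_396_16 : List Job := [
  ⟨47, 0x45c37160d45433140c44c3f120f4443b100e43e1d0d8642e15098441e0d058240e0501, 0, 26, 0x208003201003401, []⟩]

theorem t9_396_16 : jobs 8 S9 b8_396 j9_396_16 = true := by decide +kernel

noncomputable def j9_396_17 : List Job := [
  ⟨46, 0x43e1d0d8642e15098441e0d058240e0501, 0, 31, 0x210000411000610002e08003010003210003408003610003a01003c01003e01, []⟩]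

theorem t9_396_17 : jobs 8 S9 b8_396 j9_396_17 = true := by decide +kernel

noncomputable def j9_396_18 : List Job := [
  ⟨45, 0x661329a4da713a9e4fe41229249a512a964be21128a45a311a8e47e01028241a110a8643c3e1d0d8642e15098441e0d058240e0501, 0, 35, 0x208000401003210003601003e08004201004401004601, []⟩]

theorem t9_396_18 : jobs 8 S9 b8_396 j9_396_18 = true := by decide +kernel

noncomputable def j9_396_19 : List Job := [
  ⟨44, 0x43e1d0d8642e15098441e0d058240e0501, 0, 19, 0x210000411000610002210, []⟩]

theorem t9_396_19 : jobs 8 S9 b8_396 j9_396_19 = true := by decide +kernel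

noncomputable def j9_396_20 : List Job := [
  ⟨43, 0x661329a4da713a9e4fe41229249a512a964be21128a45a311a8e47e01028241a110a8643c3e1d0d8642e15098441e0d058240e0501, 0, 42, 0xe08001001004a08, []⟩]

theorem t9_396_20 : jobs 8 S9 b8_396 j9_396_20 = true := by decide +kernel

noncomputable def j9_396_21 : List Job := [
  ⟨42, 0x6110a8643a21128a45e01028241a311a8e47c5c37160d45433140c44c3f120f4443b100e43e1d0d8642e15098441e0d058240e0501, 0, 47, 0x210000610004001004201004400004601004801004a01004c01004e01005001005201005801005c01, [(33, ⟨1518, 0x80000480003d00014001020010d000040010c00100001, 0x180218d82403010200a⟩)]⟩]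

theorem t9_396_21 : jobs 8 S9 b8_396 j9_396_21 = true := by decide +kernel

noncomputable def j9_396_22 : List Job := [
  ⟨41, 0x46c3f1a0f4643b180e44c2f120b4442b100a43e1d0d8642e15098441e0d058240e0501, 0, 40, 0x218, []⟩]

theorem t9_396_22 : jobs 8 S9 b8_396 j9_396_22 = true := by decide +kernel

noncomputable def j9_396_23 : List Job := [
  ⟨40, 0x54cac5b2f548ae5a2fd44a8592e540aa582ed0c8e4b27d088c4a275048a4926d008848264d46c3d1f4d06e3c1fcc464391d4c066381dc944e2d17c904c2c17484462915c804428154783f1c0ec6837180cc582f140ac48271008c3e1d0d8642e15098441e0d058240e0501, 0, 109, 0x210000610000a10000c11004c10005011005410006011006c01007c1000c60100d601, []⟩]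

theorem t9_396_23 : jobs 8 S9 b8_396 j9_396_23 = true := by decide +kernel

noncomputable def j9_396_24 : List Job := [
  ⟨39, 0x4d06a361b8f07a3e1fcc06232198e0723a1dc904a26138b05a2e17c804222118a0522a15c3e1d0d8642e15098441e0d058240e0501, 0, 91, 0x210000411000610000810000a01001a10002010003a10003c10004210004810004a10004c10004e10005010005810008610008810, []⟩]

theorem t9_396_24 : jobs 8 S9 b8_396 j9_396_24 = true := by decide +kernel

noncomputable def j9_396_25 : List Job := [
  ⟨38, 0x548a6562b968b65e2fd40a2542a960b25c2ed08864623928964e27d00824422920924c26cd06a361b8f07a3e1fcc06232198e0723a1dc904a26138b05a2e17c804222118a0522a15c3e1d0d8642e15098441e0d058240e0501, 0, 101, 0x210000401000810000a11000c10002000003410003a1000701000761000ac10, [(15, ⟨1463, 0x9e0015500138001120010400102001010010800000001, 0x1982f8d028010401004⟩)]⟩]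

theorem t9_396_25 : jobs 8 S9 b8_396 j9_396_25 = true := by decide +kernel

noncomputable def j9_396_26 : List Job := [
  ⟨37, 0x609068643a29168e47e01028442a21128c46d108a46239309a4e27d00824221920924a25ca0522a158b05a2e17c804222118904a2613c783f1c0ec6837180cc582f140ac48271008c3e1d0d8642e15098441e0d058240e0501, 0, 90, 0x208000608001e00002001007204007605007a04007e04008208008608008a0100900100980100ae0100b001, [(14, ⟨1460, 0x110001480009600045000210000040000100000400000001, 0x188240b028080200802⟩)]⟩]

theorem t9_396_26 : jobs 8 S9 b8_396 j9_396_26 = true := by decide +kernel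

noncomputable def j9_396_27 : List Job := [
  ⟨36, 0x605068543a25168d47e01048443221148c4745c3f160f4543b140e44c37120d44433100c43e1d0d8642e15098441e0d058240e0501, 0, 100, 0x210000410000610000810000a10002a10002c10002e10003010003210003410003601004c10004e01, []⟩]

theorem t9_396_27 : jobs 8 S9 b8_396 j9_396_27 = true := by decide +kernel

noncomputable def j9_396_28 : List Job := [
  ⟨35, 0x609068643a29168e47e01028442a21128c46d54ae5c2f550ac5d2fd44a6582d540a4592dd148e4d27d108c4c27504864925d008448254e4763c1f4e0743d1fcc466341b4c064351bca4562d17ca0542c17484462513c804424134783f1c0ec6837180cc582f140ac48271008c3e1d0d8642e15098441e0d058240e0501, 121, 137, 0x17404018004019c0101a40101b60101ca0101dc0101f601, []⟩]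

theorem t9_396_28 : jobs 8 S9 b8_396 j9_396_28 = true := by decide +kernel

noncomputable def j9_396_29 : List Job := [
  ⟨35, 0x609068643a29168e47e01028442a21128c46d54ae5c2f550ac5d2fd44a6582d540a4592dd148e4d27d108c4c27504864925d008448254e4763c1f4e0743d1fcc466341b4c064351bca4562d17ca0542c17484462513c804424134783f1c0ec6837180cc582f140ac48271008c3e1d0d8642e15098441e0d058240e0501, 0, 121, 0x200000e04001600001a0000220400400000be04, [(31, ⟨1443, 0x4480014a00026c00005c00084000105000004000404000800001, 0x189250c42c080280802⟩), (12, ⟨1445, 0x4280004800024000004800084000104000004000404000000001, 0x1852408024080200802⟩), (10, ⟨1444, 0x4080005d00024a00004400004800004000004000004000000001, 0x1812e89422090200802⟩), (0, ⟨1442, 0x4480004a00006c00005c00084000105000004000404000800001, 0x189250c42c080280802⟩)]⟩]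

theorem t9_396_29 : jobs 8 S9 b8_396 j9_396_29 = true := by decide +kernel

theorem d9_396 : Dn 8 S9 b8_396 := dn_of (Js := j9_396_0 ++ (j9_396_1 ++ (j9_396_2 ++ (j9_396_3 ++ (j9_396_4 ++ (j9_396_5 ++ (j9_396_6 ++ (j9_396_7 ++ (j9_396_8 ++ (j9_396_9 ++ (j9_396_10 ++ (j9_396_11 ++ (j9_396_12 ++ (j9_396_13 ++ (j9_396_14 ++ (j9_396_15 ++ (j9_396_16 ++ (j9_396_17 ++ (j9_396_18 ++ (j9_396_19 ++ (j9_396_20 ++ (j9_396_21 ++ (j9_396_22 ++ (j9_396_23 ++ (j9_396_24 ++ (j9_396_25 ++ (j9_396_26 ++ (j9_396_27 ++ (j9_396_28 ++ (j9_396_29 ++ []))))))))))))))))))))))))))))))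
  (jobs_append t9_396_0 <| jobs_append t9_396_1 <| jobs_append t9_396_2 <| jobs_append t9_396_3 <| jobs_append t9_396_4 <| jobs_append t9_396_5 <| jobs_append t9_396_6 <| jobs_append t9_396_7 <| jobs_append t9_396_8 <| jobs_append t9_396_9 <| jobs_append t9_396_10 <| jobs_append t9_396_11 <| jobs_append t9_396_12 <| jobs_append t9_396_13 <| jobs_append t9_396_14 <| jobs_append t9_396_15 <| jobs_append t9_396_16 <| jobs_append t9_396_17 <| jobs_append t9_396_18 <| jobs_append t9_396_19 <| jobs_append t9_396_20 <| jobs_append t9_396_21 <| jobs_append t9_396_22 <| jobs_append t9_396_23 <| jobs_append t9_396_24 <| jobs_append t9_396_25 <| jobs_append t9_396_26 <| jobs_append t9_396_27 <| jobs_append t9_396_28 <| jobs_append t9_396_29 <| List.forall_mem_nil _) (by decide +kernel)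

noncomputable def j9_397_0 : List Job := [
  ⟨63, 0x5a4d46d371c0e6743bda0d66c379c4e4753b41e0d058240e0501, 0, 14, 0xc00, [(5, ⟨3330, 0x468050025a005c0040001020c040800001, 0x18e290b82c080180408⟩)]⟩]

theorem t9_397_0 : jobs 8 S9 b8_397 j9_397_0 = true := by decide +kernel

noncomputable def j9_397_1 : List Job := [
  ⟨62, 0x5008242219108a4623940a25229950aa562bc1e0d058240e0501, 0, 8, 0x0, []⟩]

theorem t9_397_1 : jobs 8 S9 b8_397 j9_397_1 = true := by decide +kernel

noncomputable def j9_397_2 : List Job := [
  ⟨61, 0x5008242219108a4623940a25229950aa562bc1e0d058240e0501, 0, 8, 0x0, []⟩]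

theorem t9_397_2 : jobs 8 S9 b8_397 j9_397_2 = true := by decide +kernel

noncomputable def j9_397_3 : List Job := [
  ⟨60, 0x41e0d058240e0501, 0, 8, 0x0, []⟩]

theorem t9_397_3 : jobs 8 S9 b8_397 j9_397_3 = true := by decide +kernel

noncomputable def j9_397_4 : List Job := [
  ⟨59, 0x41e0d058240e0501, 0, 8, 0x0, []⟩]

theorem t9_397_4 : jobs 8 S9 b8_397 j9_397_4 = true := by decide +kernel

noncomputable def j9_397_5 : List Job := [
  ⟨58, 0x5a0d26a359b0da6e379c0e272399d0ea763bd108a4623950aa562bd00824221940a25229c1e0d058240e0501, 0, 14, 0x1c01, []⟩]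

theorem t9_397_5 : jobs 8 S9 b8_397 j9_397_5 = true := by decide +kernel

noncomputable def j9_397_6 : List Job := [
  ⟨57, 0x5a4d46c379c0e6753b5a0d66d371c4e4743bc1e0d058240e0501, 0, 20, 0x40b000602000a0300100b, []⟩]

theorem t9_397_6 : jobs 8 S9 b8_397 j9_397_6 = true := by decide +kernel

noncomputable def j9_397_7 : List Job := [
  ⟨56, 0x5008242219108a4623940a25229950aa562bc1e0d058240e0501, 0, 20, 0x208000402000608000802000a08000c02000e01001002, []⟩]

theorem t9_397_7 : jobs 8 S9 b8_397 j9_397_7 = true := by decide +kernel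

noncomputable def j9_397_8 : List Job := [
  ⟨55, 0x6110a8643a311a8e47a512a964ba61329a4de01028241a21128a45a41229249a713a9e4fd008242219108a4623940a25229950aa562bc1e0d058240e0501, 0, 20, 0x203000402000602000804000a02000c04000e01001004, []⟩]

theorem t9_397_8 : jobs 8 S9 b8_397 j9_397_8 = true := by decide +kernel

noncomputable def j9_397_9 : List Job := [
  ⟨54, 0x41e0d058240e0501, 0, 20, 0x208000402000608000802000a08000c09000e09001002, []⟩]

theorem t9_397_9 : jobs 8 S9 b8_397 j9_397_9 = true := by decide +kernel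

noncomputable def j9_397_10 : List Job := [
  ⟨53, 0x609068643a29168e47a4926964ba61329c4ee01028442a21128c46a4122944aa69369e4fc1e0d058240e0501, 0, 20, 0x208000402000608000802000a08000c02000e09001002, []⟩]

theorem t9_397_10 : jobs 8 S9 b8_397 j9_397_10 = true := by decide +kernel

noncomputable def j9_397_11 : List Job := [
  ⟨52, 0x5a0d26a359b0da6e379c0e272399d0ea763bd108a4623950aa562bd00824221940a25229c1e0d058240e0501, 0, 20, 0x201000402000608000802000a03001002, []⟩]

theorem t9_397_11 : jobs 8 S9 b8_397 j9_397_11 = true := by decide +kernel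

noncomputable def j9_397_12 : List Job := [
  ⟨51, 0x41e0d058240e0501, 0, 8, 0x0, []⟩]

theorem t9_397_12 : jobs 8 S9 b8_397 j9_397_12 = true := by decide +kernel

noncomputable def j9_397_13 : List Job := [
  ⟨50, 0x580c26231990ca66339e0f27a3d9f0fa7e3fd008242219108a4623940a25229950aa562bc1e0d058240e0501, 0, 8, 0x0, []⟩]

theorem t9_397_13 : jobs 8 S9 b8_397 j9_397_13 = true := by decide +kernel

noncomputable def j9_397_14 : List Job := [
  ⟨49, 0x508864422948a6542ad00824623940a2562bc1e0d058240e0501, 0, 8, 0x0, []⟩]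

theorem t9_397_14 : jobs 8 S9 b8_397 j9_397_14 = true := by decide +kernel

noncomputable def j9_397_15 : List Job := [
  ⟨48, 0x508864623948a6562bd00824422940a2542ac1e0d058240e0501, 0, 8, 0x0, []⟩]

theorem t9_397_15 : jobs 8 S9 b8_397 j9_397_15 = true := by decide +kernel

noncomputable def j9_397_16 : List Job := [
  ⟨47, 0x5008242219108a4623940a25229950aa562bc884626138a8562e17c804224128a0522c16c1e0d058240e0501, 0, 20, 0x1208001608, []⟩]

theorem t9_397_16 : jobs 8 S9 b8_397 j9_397_16 = true := by decide +kernel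

noncomputable def j9_397_17 : List Job := [
  ⟨46, 0x5008242219108a4623940a25229950aa562bc884626138a8562e17c804224128a0522c16c1e0d058240e0501, 0, 14, 0x201, []⟩]

theorem t9_397_17 : jobs 8 S9 b8_397 j9_397_17 = true := by decide +kernel

noncomputable def j9_397_18 : List Job := [
  ⟨45, 0x4844625138a4562d17c804424130a0542c1741e0d058240e0501, 0, 8, 0x0, []⟩]

theorem t9_397_18 : jobs 8 S9 b8_397 j9_397_18 = true := by decide +kernel

noncomputable def j9_397_19 : List Job := [
  ⟨44, 0x5108a4623950aa562bd00824221940a25229c1e0d058240e0501, 0, 20, 0x208000409000608000808000a08000c08000e08001009, []⟩]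

theorem t9_397_19 : jobs 8 S9 b8_397 j9_397_19 = true := by decide +kernel

noncomputable def j9_397_20 : List Job := [
  ⟨43, 0x605068543a25168d47a4526954ba61349c4f601048443221148c4724124944b265369d4fd108a4623950aa562bd00824221940a25229c1e0d058240e0501, 0, 20, 0x208000409000608000808000a08000c08000e08001009, []⟩]

theorem t9_397_20 : jobs 8 S9 b8_397 j9_397_20 = true := by decide +kernel

noncomputable def j9_397_21 : List Job := [
  ⟨42, 0x5008242219108a4623940a25229950aa562bc884626138a8562e17c804224128a0522c16c1e0d058240e0501, 0, 20, 0x20800040900060d000808000a01000e08, []⟩]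

theorem t9_397_21 : jobs 8 S9 b8_397 j9_397_21 = true := by decide +kernel

noncomputable def j9_397_22 : List Job := [
  ⟨41, 0x605068543a25168d47a4526954ba61349c4f601048443221148c4724124944b265369d4fd008242219108a4623940a25229950aa562bc904a26138b05a2e17c804222118a0522a15c1e0d058240e0501, 0, 38, 0x1e07003604003805003a09003c04003e01004204, []⟩]

theorem t9_397_22 : jobs 8 S9 b8_397 j9_397_22 = true := by decide +kernel

noncomputable def j9_397_23 : List Job := [
  ⟨40, 0x41e0d058240e0501, 0, 6, 0xc01, []⟩]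

theorem t9_397_23 : jobs 8 S9 b8_397 j9_397_23 = true := by decide +kernel

noncomputable def j9_397_24 : List Job := [
  ⟨39, 0x488462613c80422412c1e0d058240e0501, 0, 14, 0x1601001801001c01, []⟩]

theorem t9_397_24 : jobs 8 S9 b8_397 j9_397_24 = true := by decide +kernel

noncomputable def j9_397_25 : List Job := [
  ⟨38, 0x41e0d058240e0501, 0, 5, 0xa01, []⟩]

theorem t9_397_25 : jobs 8 S9 b8_397 j9_397_25 = true := by decide +kernel

noncomputable def j9_397_26 : List Job := [
  ⟨37, 0x508864623d00824422c1e0d058240e0501, 0, 13, 0x1604, []⟩]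

theorem t9_397_26 : jobs 8 S9 b8_397 j9_397_26 = true := by decide +kernel

noncomputable def j9_397_27 : List Job := [
  ⟨36, 0x45e2d158a44e25118841e0d058240e0501, 0, 51, 0x208000401000601000808000a09001001001208001408001601001c08001e01002008002201002408002601002808002c01002e08003001003201003601003a01003e01004001004201004601004808004c01004e08005201005a01005c08005e01006001006208006601, []⟩]

theorem t9_397_27 : jobs 8 S9 b8_397 j9_397_27 = true := by decide +kernel

noncomputable def j9_397_28 : List Job := [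
  ⟨33, 0x43e1d0d8642e15098441e0d058240e0501, 0, 5, 0x208000401000601000801000a01, []⟩]

theorem t9_397_28 : jobs 8 S9 b8_397 j9_397_28 = true := by decide +kernel

noncomputable def j9_397_29 : List Job := [
  ⟨32, 0x43e1d0d8642e15098441e0d058240e0501, 0, 4, 0x208, []⟩]

theorem t9_397_29 : jobs 8 S9 b8_397 j9_397_29 = true := by decide +kernel

noncomputable def j9_397_30 : List Job := [
  ⟨31, 0x43e1d0d8642e15098441e0d058240e0501, 0, 1, 0x209, []⟩]

theorem t9_397_30 : jobs 8 S9 b8_397 j9_397_30 = true := by decide +kernel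

noncomputable def j9_397_31 : List Job := [
  ⟨30, 0x43e1d0d8642e15098441e0d058240e0501, 0, 1, 0x201, []⟩]

theorem t9_397_31 : jobs 8 S9 b8_397 j9_397_31 = true := by decide +kernel

noncomputable def j9_397_32 : List Job := [
  ⟨29, 0x43e1d0d8642e15098441e0d058240e0501, 0, 1, 0x201, []⟩]

theorem t9_397_32 : jobs 8 S9 b8_397 j9_397_32 = true := by decide +kernel

noncomputable def j9_397_33 : List Job := [
  ⟨28, 0x4582e1a0dc502a180cc48261e0fc40221c0ec3e1d0d8642e15098441e0d058240e0501, 0, 3, 0x601, []⟩]

theorem t9_397_33 : jobs 8 S9 b8_397 j9_397_33 = true := by decide +kernel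

noncomputable def j9_397_34 : List Job := [
  ⟨27, 0x468361c0ec60321e0fc4826140ac4022160bc3e1d0d8642e15098441e0d058240e0501, 0, 4, 0x408000608000801, []⟩]

theorem t9_397_34 : jobs 8 S9 b8_397 j9_397_34 = true := by decide +kernel

noncomputable def j9_397_35 : List Job := [
  ⟨26, 0x43e1d0d8642e15098441e0d058240e0501, 0, 8, 0xe1a001001, []⟩]

theorem t9_397_35 : jobs 8 S9 b8_397 j9_397_35 = true := by decide +kernel

noncomputable def j9_397_36 : List Job := [
  ⟨25, 0x508864422928964c26d00824623920924e27c3e1d0d8642e15098441e0d058240e0501, 0, 8, 0x0, []⟩]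

theorem t9_397_36 : jobs 8 S9 b8_397 j9_397_36 = true := by decide +kernel

noncomputable def j9_397_37 : List Job := [
  ⟨24, 0x43e1d0d8642e15098441e0d058240e0501, 0, 8, 0xe02001001, []⟩]

theorem t9_397_37 : jobs 8 S9 b8_397 j9_397_37 = true := by decide +kernel

noncomputable def j9_397_38 : List Job := [
  ⟨23, 0x508864422920924e27d00824623928964c26c3e1d0d8642e15098441e0d058240e0501, 0, 8, 0x0, []⟩]

theorem t9_397_38 : jobs 8 S9 b8_397 j9_397_38 = true := by decide +kernel

noncomputable def j9_397_39 : List Job := [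
  ⟨22, 0x43e1d0d8642e15098441e0d058240e0501, 0, 15, 0x1601001801001a01, []⟩]

theorem t9_397_39 : jobs 8 S9 b8_397 j9_397_39 = true := by decide +kernel

noncomputable def j9_397_40 : List Job := [
  ⟨21, 0x5c8e6743a9e0f27e3fdc0e2763b9e8f67c3ec3e1d0d8642e15098441e0d058240e0501, 0, 8, 0x0, []⟩]

theorem t9_397_40 : jobs 8 S9 b8_397 j9_397_40 = true := by decide +kernel

noncomputable def j9_397_41 : List Job := [
  ⟨20, 0x609068442a21128e47e01028643a29168c46dc8e6743a9e0f27e3fdc0e2763b9e8f67c3ec3e1d0d8642e15098441e0d058240e0501, 0, 12, 0x1601, []⟩]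

theorem t9_397_41 : jobs 8 S9 b8_397 j9_397_41 = true := by decide +kernel

noncomputable def j9_397_42 : List Job := [
  ⟨19, 0x588c666339a0d26c36d80c264329a8d66e37d44a6542b160b45d2fd40a4552b964b65c2f520924a259309a4e27d008242219108a4623c3e1d0d8642e15098441e0d058240e0501, 0, 12, 0x1201001600001801, [(10, ⟨2306, 0x21c0046004a0001e0040401060042000020040001, 0x18c220882c020280410⟩)]⟩]

theorem t9_397_42 : jobs 8 S9 b8_397 j9_397_42 = true := by decide +kernel

noncomputable def j9_397_43 : List Job := [
  ⟨18, 0x43e1d0d8642e15098441e0d058240e0501, 0, 8, 0x0, []⟩]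

theorem t9_397_43 : jobs 8 S9 b8_397 j9_397_43 = true := by decide +kernel

noncomputable def j9_397_44 : List Job := [
  ⟨17, 0x609068442a21128e47e01028643a29168c46c3e1d0d8642e15098441e0d058240e0501, 0, 12, 0x1201001601, []⟩]

theorem t9_397_44 : jobs 8 S9 b8_397 j9_397_44 = true := by decide +kernel

noncomputable def j9_397_45 : List Job := [
  ⟨16, 0x5389f4c26d28974824d188f4422d08874020c3e1d0d8642e15098441e0d058240e0501, 0, 12, 0x200000401000604000805000a04000c05001600, [(10, ⟨2277, 0x238004d0009000170000400060042001020040001, 0x1862789438020280410⟩), (0, ⟨2276, 0x21801450008800170000401060042001020000001, 0x1842688438020280410⟩)]⟩]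

theorem t9_397_45 : jobs 8 S9 b8_397 j9_397_45 = true := by decide +kernel

noncomputable def j9_397_46 : List Job := [
  ⟨15, 0x68546a553aa556ad57e8144a4532a154ac57609068643a29168e47e01028442a21128c46d20924a259309a4e27d008242219108a4623c502a160b8703a1e0fc40221209860321a0dc3e1d0d8642e15098441e0d058240e0501, 0, 44, 0x2401003201003a01, []⟩]

theorem t9_397_46 : jobs 8 S9 b8_397 j9_397_46 = true := by decide +kernel

noncomputable def j9_397_47 : List Job := [
  ⟨14, 0x43e1d0d8642e15098441e0d058240e0501, 0, 6, 0x0, []⟩]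

theorem t9_397_47 : jobs 8 S9 b8_397 j9_397_47 = true := by decide +kernel

noncomputable def j9_397_48 : List Job := [
  ⟨13, 0x520924a259309a4e27d008242219108a4623c3e1d0d8642e15098441e0d058240e0501, 0, 10, 0x1201001400, [(9, ⟨2257, 0x100004300900005000080003008100020000001, 0x180220803001040080c⟩)]⟩]

theorem t9_397_48 : jobs 8 S9 b8_397 j9_397_48 = true := by decide +kernel

noncomputable def j9_397_49 : List Job := [
  ⟨12, 0x621128a45a311a8e47e01028241a110a8643d20924a259309a4e27d008242219108a4623c3e1d0d8642e15098441e0d058240e0501, 0, 12, 0x200000401001401001608, [(0, ⟨2256, 0x1080084000c801110001000020000c00080040001, 0x148420cc2c01040100c⟩)]⟩]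

theorem t9_397_49 : jobs 8 S9 b8_397 j9_397_49 = true := by decide +kernel

noncomputable def j9_397_50 : List Job := [
  ⟨11, 0x43e1d0d8642e15098441e0d058240e0501, 0, 16, 0x1601001801001a01001c01001e01002001, []⟩]

theorem t9_397_50 : jobs 8 S9 b8_397 j9_397_50 = true := by decide +kernel

noncomputable def j9_397_51 : List Job := [
  ⟨10, 0x43e1d0d8642e15098441e0d058240e0501, 0, 11, 0x1401001601, []⟩]

theorem t9_397_51 : jobs 8 S9 b8_397 j9_397_51 = true := by decide +kernel

noncomputable def j9_397_52 : List Job := [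
  ⟨9, 0x43e1d0d8642e15098441e0d058240e0501, 0, 10, 0x1401, []⟩]

theorem t9_397_52 : jobs 8 S9 b8_397 j9_397_52 = true := by decide +kernel

noncomputable def j9_397_53 : List Job := [
  ⟨8, 0x564b45c2fd60b65d2f544a4542bd40a6552b524964d27d20944c27504864523d008444234703a1e0fc60321a0dc502a160bc40221209c3e1d0d8642e15098441e0d058240e0501, 0, 24, 0x1601001c01002001002401002601002801002a00002c01003001, [(20, ⟨2183, 0x8700044001a7000540010400108000060010500000001, 0x18b24290a0040402812⟩)]⟩]

theorem t9_397_53 : jobs 8 S9 b8_397 j9_397_53 = true := by decide +kernel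

noncomputable def j9_397_54 : List Job := [
  ⟨7, 0x6110a8643a21128a45e01028241a311a8e47c3e1d0d8642e15098441e0d058240e0501, 0, 38, 0x2c01004a01004c01, []⟩]

theorem t9_397_54 : jobs 8 S9 b8_397 j9_397_54 = true := by decide +kernel

noncomputable def j9_397_55 : List Job := [
  ⟨6, 0x6110a8643a21128a45e01028241a311a8e47d48a6562b960b25c2ed40a2542a968b65e2fd20924a259309a4e27d008242219108a4623c3e1d0d8642e15098441e0d058240e0501, 0, 38, 0x0, []⟩]

theorem t9_397_55 : jobs 8 S9 b8_397 j9_397_55 = true := by decide +kernel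

noncomputable def j9_397_56 : List Job := [
  ⟨5, 0x43e1d0d8642e15098441e0d058240e0501, 0, 15, 0x0, []⟩]

theorem t9_397_56 : jobs 8 S9 b8_397 j9_397_56 = true := by decide +kernel

noncomputable def j9_397_57 : List Job := [
  ⟨4, 0x544a6552b960b45c2f540a4542b164b65d2fd04864523920944c27500844423124964d27c3e1d0d8642e15098441e0d058240e0501, 0, 34, 0x2401002801003601004201, []⟩]

theorem t9_397_57 : jobs 8 S9 b8_397 j9_397_57 = true := by decide +kernel

noncomputable def j9_397_58 : List Job := [
  ⟨3, 0x508864623920924c26d00824422928964e27c783f1c0ec6837180cc582f140ac48271008c3e1d0d8642e15098441e0d058240e0501, 0, 38, 0x2e04003210003610003a05003e01004001004601004a01, []⟩]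

theorem t9_397_58 : jobs 8 S9 b8_397 j9_397_58 = true := by decide +kernel

noncomputable def j9_397_59 : List Job := [
  ⟨2, 0x4cc6e3b1fcc86c3a1f4c46a391ecc068381e43e1d0d8642e15098441e0d058240e0501, 0, 24, 0x0, []⟩]

theorem t9_397_59 : jobs 8 S9 b8_397 j9_397_59 = true := by decide +kernel

noncomputable def j9_397_60 : List Job := [
  ⟨1, 0x4cc6a391fcc868381f4c46e3b1ecc06c3a1e43e1d0d8642e15098441e0d058240e0501, 0, 9, 0x0, []⟩]

theorem t9_397_60 : jobs 8 S9 b8_397 j9_397_60 = true := by decide +kernel

noncomputable def j9_397_61 : List Job := [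
  ⟨0, 0x45c3d160fc5439140ec4c35120dc4431100cc3e1d0d8642e15098441e0d058240e0501, 0, 11, 0xe01001001001601, []⟩]

theorem t9_397_61 : jobs 8 S9 b8_397 j9_397_61 = true := by decide +kernel

theorem d9_397 : Dn 8 S9 b8_397 := dn_of (Js := j9_397_0 ++ (j9_397_1 ++ (j9_397_2 ++ (j9_397_3 ++ (j9_397_4 ++ (j9_397_5 ++ (j9_397_6 ++ (j9_397_7 ++ (j9_397_8 ++ (j9_397_9 ++ (j9_397_10 ++ (j9_397_11 ++ (j9_397_12 ++ (j9_397_13 ++ (j9_397_14 ++ (j9_397_15 ++ (j9_397_16 ++ (j9_397_17 ++ (j9_397_18 ++ (j9_397_19 ++ (j9_397_20 ++ (j9_397_21 ++ (j9_397_22 ++ (j9_397_23 ++ (j9_397_24 ++ (j9_397_25 ++ (j9_397_26 ++ (j9_397_27 ++ (j9_397_28 ++ (j9_397_29 ++ (j9_397_30 ++ (j9_397_31 ++ (j9_397_32 ++ (j9_397_33 ++ (j9_397_34 ++ (j9_397_35 ++ (j9_397_36 ++ (j9_397_37 ++ (j9_397_38 ++ (j9_397_39 ++ (j9_397_40 ++ (j9_397_41 ++ (j9_397_42 ++ (j9_397_43 ++ (j9_397_44 ++ (j9_397_45 ++ (j9_397_46 ++ (j9_397_47 ++ (j9_397_48 ++ (j9_397_49 ++ (j9_397_50 ++ (j9_397_51 ++ (j9_397_52 ++ (j9_397_53 ++ (j9_397_54 ++ (j9_397_55 ++ (j9_397_56 ++ (j9_397_57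 ++ (j9_397_58 ++ (j9_397_59 ++ (j9_397_60 ++ (j9_397_61 ++ []))))))))))))))))))))))))))))))))))))))))))))))))))))))))))))))
  (jobs_append t9_397_0 <| jobs_append t9_397_1 <| jobs_append t9_397_2 <| jobs_append t9_397_3 <| jobs_append t9_397_4 <| jobs_append t9_397_5 <| jobs_append t9_397_6 <| jobs_append t9_397_7 <| jobs_append t9_397_8 <| jobs_append t9_397_9 <| jobs_append t9_397_10 <| jobs_append t9_397_11 <| jobs_append t9_397_12 <| jobs_append t9_397_13 <| jobs_append t9_397_14 <| jobs_append t9_397_15 <| jobs_append t9_397_16 <| jobs_append t9_397_17 <| jobs_append t9_397_18 <| jobs_append t9_397_19 <| jobs_append t9_397_20 <| jobs_append t9_397_21 <| jobs_append t9_397_22 <| jobs_append t9_397_23 <| jobs_append t9_397_24 <| jobs_append t9_397_25 <| jobs_append t9_397_26 <| jobs_append t9_397_27 <| jobs_append t9_397_28 <| jobs_append t9_397_29 <| jobs_append t9_397_30 <| jobs_append t9_397_31 <| jobs_append t9_397_32 <| jobs_append t9_397_33 <| jobs_append t9_397_34 <| jobs_append t9_397_35 <| jobs_append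 t9_397_36 <| jobs_append t9_397_37 <| jobs_append t9_397_38 <| jobs_append t9_397_39 <| jobs_append t9_397_40 <| jobs_append t9_397_41 <| jobs_append t9_397_42 <| jobs_append t9_397_43 <| jobs_append t9_397_44 <| jobs_append t9_397_45 <| jobs_append t9_397_46 <| jobs_append t9_397_47 <| jobs_append t9_397_48 <| jobs_append t9_397_49 <| jobs_append t9_397_50 <| jobs_append t9_397_51 <| jobs_append t9_397_52 <| jobs_append t9_397_53 <| jobs_append t9_397_54 <| jobs_append t9_397_55 <| jobs_append t9_397_56 <| jobs_append t9_397_57 <| jobs_append t9_397_58 <| jobs_append t9_397_59 <| jobs_append t9_397_60 <| jobs_append t9_397_61 <| List.forall_mem_nil _) (by decide +kernel)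

noncomputable def j9_398_0 : List Job := [
  ⟨63, 0x661329a4da713a9e4fde4f47d3f5e0f67c3fd64b65d2fd60b45c2f4c866361bcc062341aca8562e17ca0522c16c984f2412c88472010c4c2f120b4442b100a42c1f0a074241b080641e0d058240e0501, 358, 198, 0x2ee0902f80902fa09030409034009034209034c08035609036009037808040a08041001041a01042601042c01042e01043a01044001044801044a01, []⟩]

theorem t9_398_0 : jobs 8 S9 b8_398 j9_398_0 = true := by decide +kernel

noncomputable def j9_398_1 : List Job := [
  ⟨63, 0x661329a4da713a9e4fde4f47d3f5e0f67c3fd64b65d2fd60b45c2f4c866361bcc062341aca8562e17ca0522c16c984f2412c88472010c4c2f120b4442b100a42c1f0a074241b080641e0d058240e0501, 170, 188, 0x17a08018801019e0101ca0801d40801de0901e809021e08022609023008023209023c09025608, []⟩]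

theorem t9_398_1 : jobs 8 S9 b8_398 j9_398_1 = true := by decide +kernel

noncomputable def j9_398_2 : List Job := [
  ⟨63, 0x661329a4da713a9e4fde4f47d3f5e0f67c3fd64b65d2fd60b45c2f4c866361bcc062341aca8562e17ca0522c16c984f2412c88472010c4c2f120b4442b100a42c1f0a074241b080641e0d058240e0501, 0, 170, 0x208000608000808000a08000c08000e09001609001e08002209002408, []⟩]

theorem t9_398_2 : jobs 8 S9 b8_398 j9_398_2 = true := by decide +kernel

noncomputable def j9_398_3 : List Job := [
  ⟨62, 0x641229249a512a964be21128a45a311a8e47e110a8643e01028241de4f47d3f5e0f67c3fd64b65d2fd60b45c2f4c866361bcc062341aca8562e17ca0522c16c984f2412c88472010c4c2f120b4442b100a42c1f0a074241b080641e0d058240e0501, 349, 207, 0x2ea0802f40802fe09030809033e08034609035009035208035c08037608040a08041601042601, []⟩]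

theorem t9_398_3 : jobs 8 S9 b8_398 j9_398_3 = true := by decide +kernel

noncomputable def j9_398_4 : List Job := [
  ⟨62, 0x641229249a512a964be21128a45a311a8e47e110a8643e01028241de4f47d3f5e0f67c3fd64b65d2fd60b45c2f4c866361bcc062341aca8562e17ca0522c16c984f2412c88472010c4c2f120b4442b100a42c1f0a074241b080641e0d058240e0501, 161, 188, 0x17a0801ca0801d40801de0801e809021e08022609023009023209023c08025608, []⟩]

theorem t9_398_4 : jobs 8 S9 b8_398 j9_398_4 = true := by decide +kernel

noncomputable def j9_398_5 : List Job := [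
  ⟨62, 0x641229249a512a964be21128a45a311a8e47e110a8643e01028241de4f47d3f5e0f67c3fd64b65d2fd60b45c2f4c866361bcc062341aca8562e17ca0522c16c984f2412c88472010c4c2f120b4442b100a42c1f0a074241b080641e0d058240e0501, 0, 161, 0x208000600000800002401, [(3, ⟨235, 0x830000400000240000080000100000020001010001040000000001, 0x1862008410100081004⟩), (2, ⟨234, 0x830000400000240000080000100000020001010001040000000001, 0x1862008410100081004⟩)]⟩]

theorem t9_398_5 : jobs 8 S9 b8_398 j9_398_5 = true := by decide +kernel

noncomputable def j9_398_6 : List Job := [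
  ⟨61, 0x661329a4da713a9e4fe01028241a110a8643de4f47d3f5e0f67c3fda4d46d375a0d66c37d64b65d2fd60b45c2f504864523d0084442342c1f0a074241b080641e0d058240e0501, 242, 253, 0x2700802760802840802ae0102b20102b60102be0102c20102c401, []⟩]

theorem t9_398_6 : jobs 8 S9 b8_398 j9_398_6 = true := by decide +kernel

noncomputable def j9_398_7 : List Job := [
  ⟨61, 0x661329a4da713a9e4fe01028241a110a8643de4f47d3f5e0f67c3fda4d46d375a0d66c37d64b65d2fd60b45c2f504864523d0084442342c1f0a074241b080641e0d058240e0501, 0, 242, 0x208000608000808000a08000c08000e08001208001409001809001c09014a08015009015209015808015c08016209, []⟩]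

theorem t9_398_7 : jobs 8 S9 b8_398 j9_398_7 = true := by decide +kernel

noncomputable def j9_398_8 : List Job := [
  ⟨60, 0x661329a4da713a9e4fe01028241a110a8643dc4e4753b5c0e6743bd84c46533580c66433d64b65d2fd60b45c2f504864523d008444234e8763e1fce0723c1ecc866361bcc062341aca8562e17ca0522c16c88462613c80422412c2c1f0a074241b080641e0d058240e0501, 326, 171, 0x2ae0102b00102b60102ba0102bc0102c201, []⟩]

theorem t9_398_8 : jobs 8 S9 b8_398 j9_398_8 = true := by decide +kernel

noncomputable def j9_398_9 : List Job := [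
  ⟨60, 0x661329a4da713a9e4fe01028241a110a8643dc4e4753b5c0e6743bd84c46533580c66433d64b65d2fd60b45c2f504864523d008444234e8763e1fce0723c1ecc866361bcc062341aca8562e17ca0522c16c88462613c80422412c2c1f0a074241b080641e0d058240e0501, 153, 173, 0x14a08027408027a08028808, []⟩]

theorem t9_398_9 : jobs 8 S9 b8_398 j9_398_9 = true := by decide +kernel

noncomputable def j9_398_10 : List Job := [
  ⟨60, 0x661329a4da713a9e4fe01028241a110a8643dc4e4753b5c0e6743bd84c46533580c66433d64b65d2fd60b45c2f504864523d008444234e8763e1fce0723c1ecc866361bcc062341aca8562e17ca0522c16c88462613c80422412c2c1f0a074241b080641e0d058240e0501, 0, 153, 0x208000608000801000a01000c01000e08001208001401001808001c01, []⟩]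

theorem t9_398_10 : jobs 8 S9 b8_398 j9_398_10 = true := by decide +kernel

noncomputable def j9_398_11 : List Job := [
  ⟨59, 0x641229249a512a964be01028241a110a8643de4f47d3f5e0f67c3fd84c46533580c66433d64b65d2fd60b45c2f504864523d008444234a8562e17ca0522c16c984f2412c88472010c2c1f0a074241b080641e0d058240e0501, 185, 231, 0x17408017a08018609019008019209019c0901ac0901b40801b60801be08028a08029408029a0802ac0902b408030c01030e01031201031801031a01031e01, []⟩]

theorem t9_398_11 : jobs 8 S9 b8_398 j9_398_11 = true := by decide +kernel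

noncomputable def j9_398_12 : List Job := [
  ⟨59, 0x641229249a512a964be01028241a110a8643de4f47d3f5e0f67c3fd84c46533580c66433d64b65d2fd60b45c2f504864523d008444234a8562e17ca0522c16c984f2412c88472010c2c1f0a074241b080641e0d058240e0501, 0, 185, 0x208000409000608000808000a08000c08000e09001208001609001a09011a08011e09012409016a08, []⟩]

theorem t9_398_12 : jobs 8 S9 b8_398 j9_398_12 = true := by decide +kernel

noncomputable def j9_398_13 : List Job := [
  ⟨58, 0x564b65d2fd60b45c2f544a6552bd40a4542b524964d27d20944c27504864523d008444234a8562e17ca0522c16c88462613c80422412c3e1d0d8642e15098441e0d058240e0501, 0, 223, 0x208000408000808000a08000c08000e08001008001208001409008e01009201009401009a01009c01011808012008012e08013608013808013a08013c08013e08014008014208014408014608014808014a08014c08014e08, []⟩]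

theorem t9_398_13 : jobs 8 S9 b8_398 j9_398_13 = true := by decide +kernel

noncomputable def j9_398_14 : List Job := [
  ⟨57, 0x661329a4da713a9e4fe41229249a512a964be21128a45a311a8e47e01028241a110a8643d64b65d2fd60b45c2f544a6552bd40a4542b524964d27d20944c27504864523d008444234a8562e17ca0522c16c88462613c80422412c3e1d0d8642e15098441e0d058240e0501, 119, 133, 0x13400015e08016408017008, [(153, ⟨197, 0x9700004d00002c00011700010c0000060000010000040001000001, 0x191250a02c090081404⟩)]⟩]

theorem t9_398_14 : jobs 8 S9 b8_398 j9_398_14 = true := by decide +kernel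

noncomputable def j9_398_15 : List Job := [
  ⟨57, 0x661329a4da713a9e4fe41229249a512a964be21128a45a311a8e47e01028241a110a8643d64b65d2fd60b45c2f544a6552bd40a4542b524964d27d20944c27504864523d008444234a8562e17ca0522c16c88462613c80422412c3e1d0d8642e15098441e0d058240e0501, 0, 119, 0x208000600000a08000c0100a40100a801, [(2, ⟨196, 0x8000005d00012d0000170000090000060000010000040000000001, 0x1802f0a42c0a0081404⟩)]⟩]

theorem t9_398_15 : jobs 8 S9 b8_398 j9_398_15 = true := by decide +kernel

noncomputable def j9_398_16 : List Job := [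
  ⟨56, 0x6311a8e47e21128a45e110a8643e01028241cb85f2c16ca8572814c984f2412c88472010c3e1d0d8642e15098441e0d058240e0501, 0, 177, 0x208000408000608000808000a09000e09001209001408001609001809001a08002008008208008608008c0900900900920800a20900a40800aa0900b20800b60900bc0800c00900c20900c80900ca0800ce0800d00900d80800dc0800e20800e80800ee0800f00900f209011408011609011c09012008012808012a08012c08013009013209014801014c01015001015401015601, []⟩]

theorem t9_398_16 : jobs 8 S9 b8_398 j9_398_16 = true := by decide +kernel

noncomputable def j9_398_17 : List Job := [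
  ⟨55, 0x6311a8e47e21128a45e110a8643e01028241de4f47d3f5e0f67c3fdc4e4753b5c0e6743bda4d46d375a0d66c37d84c46533580c66433d64b65d2fd60b45c2f544a6552bd40a4542b524964d27d20944c27504864523d008444234b85f2c16ca8572814c984f2412c88472010c3e1d0d8642e15098441e0d058240e0501, 148, 147, 0x13409015e0801680801960801c80801e208020e01021201021401022401022a01024c01, []⟩]

theorem t9_398_17 : jobs 8 S9 b8_398 j9_398_17 = true := by decide +kernel

noncomputable def j9_398_18 : List Job := [
  ⟨55, 0x6311a8e47e21128a45e110a8643e01028241de4f47d3f5e0f67c3fdc4e4753b5c0e6743bda4d46d375a0d66c37d84c46533580c66433d64b65d2fd60b45c2f544a6552bd40a4542b524964d27d20944c27504864523d008444234b85f2c16ca8572814c984f2412c88472010c3e1d0d8642e15098441e0d058240e0501, 0, 148, 0x6a08006e08007a08012408012801, []⟩]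

theorem t9_398_18 : jobs 8 S9 b8_398 j9_398_18 = true := by decide +kernel

noncomputable def j9_398_19 : List Job := [
  ⟨54, 0x621128a45a311a8e47e01028241a110a8643de4f47d3f5e0f67c3fdc4e4753b5c0e6743bd24964d27d20944c27504864523d0084442346c3f1a0f4643b180e44c2f120b4442b100a43e1d0d8642e15098441e0d058240e0501, 112, 122, 0x1a60801aa0101b601, []⟩]

theorem t9_398_19 : jobs 8 S9 b8_398 j9_398_19 = true := by decide +kernel

noncomputable def j9_398_20 : List Job := [
  ⟨54, 0x621128a45a311a8e47e01028241a110a8643de4f47d3f5e0f67c3fdc4e4753b5c0e6743bd24964d27d20944c27504864523d0084442346c3f1a0f4643b180e44c2f120b4442b100a43e1d0d8642e15098441e0d058240e0501, 0, 112, 0x209000600000a08000e08001008, [(2, ⟨190, 0x8600004e00012100011500010c0000020000010001040000000001, 0x1852608826090081004⟩)]⟩]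

theorem t9_398_20 : jobs 8 S9 b8_398 j9_398_20 = true := by decide +kernel

noncomputable def j9_398_21 : List Job := [
  ⟨53, 0x621128a45a311a8e47e01028241a110a8643da8d66c36da0d26e37d88c66432d80c26633d28964e27d20924c26d08864623d00824422cf07a3e1fce0723a1dcd06a361bcc0623219cb45f2c174a45728154944f24134844720114783f1c0ec6837180cc582f140ac48271008c3e1d0d8642e15098441e0d058240e0501, 300, 111, 0x25a00026000026e00027600029a09029e0002a80102f001032601, [(334, ⟨184, 0x100000046000012000007800001400000400000100000040000000001, 0x18023090380a0200802⟩), (314, ⟨188, 0x102000046000092000047800021400000400008100000040002000001, 0x18123090380a0200802⟩), (310, ⟨182, 0x100000046000012000007800001400000400000100000040000000001, 0x18023090380a0200802⟩), (303, ⟨186, 0x102000146000092000047c00001600010400008100000040000000001, 0x18123090380b0200802⟩), (300, ⟨183, 0x100000046000012000007800001400000400000100000040000000001, 0x18023090380a0200802⟩)]⟩]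

theorem t9_398_21 : jobs 8 S9 b8_398 j9_398_21 = true := by decide +kernel

noncomputable def j9_398_22 : List Job := [
  ⟨53, 0x621128a45a311a8e47e01028241a110a8643da8d66c36da0d26e37d88c66432d80c26633d28964e27d20924c26d08864623d00824422cf07a3e1fce0723a1dcd06a361bcc0623219cb45f2c174a45728154944f24134844720114783f1c0ec6837180cc582f140ac48271008c3e1d0d8642e15098441e0d058240e0501, 192, 108, 0x19c0201ca0001ce0101da0101fa00020000020a00021000025208025408, [(263, ⟨185, 0x102000146000092000047c00001600010400008100000040000000001, 0x18123090380b0200802⟩), (260, ⟨187, 0x102000046000092000047800021400000400008100000040002000001, 0x18123090380a0200802⟩), (255, ⟨189, 0x100000046000012000007c00001600000400000100000040002000001, 0x18023090380b0200802⟩), (252, ⟨181, 0x100000046000012000007800001400000400000100000040000000001, 0x18023090380a0200802⟩), (228, ⟨180, 0x11000006e000094000044000001000010600000100000040000000001, 0x188320a020080300802⟩)]⟩]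

theorem t9_398_22 : jobs 8 S9 b8_398 j9_398_22 = true := by decide +kernel

noncomputable def j9_398_23 : List Job := [
  ⟨53, 0x621128a45a311a8e47e01028241a110a8643da8d66c36da0d26e37d88c66432d80c26633d28964e27d20924c26d08864623d00824422cf07a3e1fce0723a1dcd06a361bcc0623219cb45f2c174a45728154944f24134844720114783f1c0ec6837180cc582f140ac48271008c3e1d0d8642e15098441e0d058240e0501, 85, 107, 0xe60000f000012602017e00, [(190, ⟨178, 0x100000040000092000004000021800010400000100000040000000001, 0x18020090200c0200802⟩), (119, ⟨179, 0x104000140000093000045000021c00010400000100000040000000001, 0x18220098280e0200802⟩), (114, ⟨177, 0x100000040000092000004000021800010400000100000040000000001, 0x18020090200c0200802⟩)]⟩]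

theorem t9_398_23 : jobs 8 S9 b8_398 j9_398_23 = true := by decide +kernel

noncomputable def j9_398_24 : List Job := [
  ⟨53, 0x621128a45a311a8e47e01028241a110a8643da8d66c36da0d26e37d88c66432d80c26633d28964e27d20924c26d08864623d00824422cf07a3e1fce0723a1dcd06a361bcc0623219cb45f2c174a45728154944f24134844720114783f1c0ec6837180cc582f140ac48271008c3e1d0d8642e15098441e0d058240e0501, 0, 85, 0x600000a01001001, [(2, ⟨176, 0x114000066000015000005000001000000600000100000040002000001, 0x18a370a82c080300802⟩)]⟩]

theorem t9_398_24 : jobs 8 S9 b8_398 j9_398_24 = true := by decide +kernel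

noncomputable def j9_398_25 : List Job := [
  ⟨52, 0x564b65d2fd60b45c2f544a6552bd40a4542b524964d27d20944c27504864523d008444234e8763e1fce0723c1ecc866361bcc062341aca8562e17ca0522c16c88462613c80422412c7e3d1d8e46e35198c45e2d158a44e25118843e1d0d8642e15098441e0d058240e0501, 0, 123, 0x208000401000800000a08000e01004608004e01005808005a01005c01005e0800600800620100640100660800920100940100960100c20100f20100f40100f601, [(3, ⟨150, 0x11200005a000018000006000002000000200000080000100002000001, 0x19a2a0a010180081004⟩)]⟩]

theorem t9_398_25 : jobs 8 S9 b8_398 j9_398_25 = true := by decide +kernel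

noncomputable def j9_398_26 : List Job := [
  ⟨51, 0x588c664329a8d66c36d80c266339a0d26e37d08864623928964e27d00824422920924c26c3e1d0d8642e15098441e0d058240e0501, 0, 75, 0x210000410000611000810000e10002210002411002610002810002a10002c10002e10003011003a10003c10005610005813006201007e10008011008204008810008a10008c01008e01009401, []⟩]

theorem t9_398_26 : jobs 8 S9 b8_398 j9_398_26 = true := by decide +kernel

noncomputable def j9_398_27 : List Job := [
  ⟨50, 0x4d06a361b8f07a3e1fcc06232198e0723a1dc582e1e0fc502a1c0ec48261a0dc4022180cc3e1d0d8642e15098441e0d058240e0501, 0, 78, 0x210000610000a10000c10000e11001000003210003e10006401006601006801008401008810008a05008c04008e01009201009801009a01009c01, [(7, ⟨1658, 0x95000660002a001110010f0000a001090010800000001, 0x19f3789026010781406⟩)]⟩]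

theorem t9_398_27 : jobs 8 S9 b8_398 j9_398_27 = true := by decide +kernel

noncomputable def j9_398_28 : List Job := [
  ⟨49, 0x64d2c994e6492e984ee45289b4f6412a9a4fe25168d47e21148c47605068543e010484434d06a361b8f07a3e1fcc06232198e0723a1dc582e1e0fc502a1c0ec48261a0dc4022180cc3e1d0d8642e15098441e0d058240e0501, 0, 118, 0x200000e10001010001211001400003610004210009814009a1500a00100a80100b00100b40000b60100b80200ba0100c00100c40100c60100c80100cc0100ce0100d80100da0100de0100e00100e20100e60100e801, [(89, ⟨1655, 0x13c00142000970000640000a0010a0000080042000200001, 0x19d228b826010501404⟩), (9, ⟨1657, 0x12a00164000170000440001e0000a0000480042000200001, 0x19f328ac26010781406⟩), (0, ⟨1656, 0x13200064000138000580021e0010a0000480002000200001, 0x198338a434010781406⟩)]⟩]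

theorem t9_398_28 : jobs 8 S9 b8_398 j9_398_28 = true := by decide +kernel

noncomputable def j9_398_29 : List Job := [
  ⟨48, 0x588c664329a8d66c36d80c266339a0d26e37d08864623928964e27d00824422920924c26cd06a361b8f07a3e1fcc06232198e0723a1dc582e1e0fc502a1c0ec48261a0dc4022180cc3e1d0d8642e15098441e0d058240e0501, 0, 85, 0x210000610000a1000100000320000720100961000a001, [(24, ⟨1653, 0x950006000029000130000f0000a001090000800000001, 0x19a318882c010781406⟩), (7, ⟨1654, 0x950006000029001130010f0010a000090010800000001, 0x19a318882c010781406⟩)]⟩]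

theorem t9_398_29 : jobs 8 S9 b8_398 j9_398_29 = true := by decide +kernel

noncomputable def j9_398_30 : List Job := [
  ⟨47, 0x58cca6a36588c86b36d84ce6837580cc6937d28964e27d20924c26d08864623d00824422c944e2d17c904c2c17484462915c804428154582e1e0fc502a1c0ec48261a0dc4022180cc3e1d0d8642e15098441e0d058240e0501, 0, 104, 0x210000610000a00001610004201007201009c01009e0100a80100aa0100b00000b20100b40400b60100b80100ba0100bc0100c40100c60100c80000cc0100ce01, [(99, ⟨1639, 0x12000040000160000640020a0000a0008080002000000001, 0x193200ac26010501404⟩), (87, ⟨1636, 0x10600169000160004400000c001020000480042000000001, 0x187378b420010601006⟩), (4, ⟨1638, 0x10600161000920004400000c001020000480002000200001, 0x187378b020010601006⟩)]⟩]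

theorem t9_398_30 : jobs 8 S9 b8_398 j9_398_30 = true := by decide +kernel

noncomputable def j9_398_31 : List Job := [
  ⟨44, 0x41e0d058240e0501, 0, 8, 0x20b000402000608000808000a09000c09000e0300100a, []⟩]

theorem t9_398_31 : jobs 8 S9 b8_398 j9_398_31 = true := by decide +kernel

noncomputable def j9_398_32 : List Job := [
  ⟨43, 0x5008242219108a4623940a25229950aa562bc1e0d058240e0501, 0, 8, 0x20300040a000603000802, []⟩]

theorem t9_398_32 : jobs 8 S9 b8_398 j9_398_32 = true := by decide +kernel

noncomputable def j9_398_33 : List Job := [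
  ⟨39, 0x5008242219108a4623940a25229950aa562bc1e0d058240e0501, 0, 8, 0x204000405000608000809, []⟩]

theorem t9_398_33 : jobs 8 S9 b8_398 j9_398_33 = true := by decide +kernel

noncomputable def j9_398_34 : List Job := [
  ⟨38, 0x4804222118904a26138a0522a158b05a2e17c1e0d058240e0501, 0, 8, 0x20800060d000a09000e0c, []⟩]

theorem t9_398_34 : jobs 8 S9 b8_398 j9_398_34 = true := by decide +kernel

noncomputable def j9_398_35 : List Job := [
  ⟨37, 0x605068543a25168d47a4526954ba61349c4f601048443221148c4724124944b265369d4fc804222118904a26138a0522a158b05a2e17c1e0d058240e0501, 0, 8, 0x208000608000a0d000e09, []⟩]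

theorem t9_398_35 : jobs 8 S9 b8_398 j9_398_35 = true := by decide +kernel

noncomputable def j9_398_36 : List Job := [
  ⟨34, 0x41e0d058240e0501, 0, 8, 0x203000408000603000802000a03000c02000e09001002, []⟩]

theorem t9_398_36 : jobs 8 S9 b8_398 j9_398_36 = true := by decide +kernel

noncomputable def j9_398_37 : List Job := [
  ⟨33, 0x41e0d058240e0501, 0, 8, 0x204000404000604000805000a04000c05000e09001005, []⟩]

theorem t9_398_37 : jobs 8 S9 b8_398 j9_398_37 = true := by decide +kernel

noncomputable def j9_398_38 : List Job := [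
  ⟨31, 0x41e0d058240e0501, 0, 8, 0x204000408000604000808000a09000c08000e04001009, []⟩]

theorem t9_398_38 : jobs 8 S9 b8_398 j9_398_38 = true := by decide +kernel

noncomputable def j9_398_39 : List Job := [
  ⟨30, 0x41e0d058240e0501, 0, 8, 0x20c00040900060c000808000a05000c05000e08001005, []⟩]

theorem t9_398_39 : jobs 8 S9 b8_398 j9_398_39 = true := by decide +kernel

noncomputable def j9_398_40 : List Job := [
  ⟨29, 0x4904a26138b05a2e17c804222118a0522a15c1e0d058240e0501, 0, 11, 0x20800040d00060d000808000a0d000c09000e0400100d, []⟩]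

theorem t9_398_40 : jobs 8 S9 b8_398 j9_398_40 = true := by decide +kernel

noncomputable def j9_398_41 : List Job := [
  ⟨25, 0x41e0d058240e0501, 0, 8, 0x204000404000604000804000a05000c04000e05001004, []⟩]

theorem t9_398_41 : jobs 8 S9 b8_398 j9_398_41 = true := by decide +kernel

noncomputable def j9_398_42 : List Job := [
  ⟨24, 0x41e0d058240e0501, 0, 8, 0x205000404000604000804000a05000c05000e05001004, []⟩]

theorem t9_398_42 : jobs 8 S9 b8_398 j9_398_42 = true := by decide +kernel

noncomputable def j9_398_43 : List Job := [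
  ⟨23, 0x609068643a29168e47a4926964ba61329c4ee01028442a21128c46a4122944aa69369e4fc1e0d058240e0501, 0, 8, 0x209000402000608000808000a09000c02000e09001008, []⟩]

theorem t9_398_43 : jobs 8 S9 b8_398 j9_398_43 = true := by decide +kernel

noncomputable def j9_398_44 : List Job := [
  ⟨19, 0x4884626138a8562e17c804224128a0522c16c1e0d058240e0501, 0, 1, 0x0, []⟩]

theorem t9_398_44 : jobs 8 S9 b8_398 j9_398_44 = true := by decide +kernel

noncomputable def j9_398_45 : List Job := [
  ⟨18, 0x41e0d058240e0501, 0, 8, 0x204000404000604000804000a05000c04000e04001005, []⟩]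

theorem t9_398_45 : jobs 8 S9 b8_398 j9_398_45 = true := by decide +kernel

noncomputable def j9_398_46 : List Job := [
  ⟨17, 0x605068543a25168d47a4526954ba61349c4f601048443221148c4724124944b265369d4fc1e0d058240e0501, 0, 8, 0x204000408000604000808000a04000c08000e04001009, []⟩]

theorem t9_398_46 : jobs 8 S9 b8_398 j9_398_46 = true := by decide +kernel

noncomputable def j9_398_47 : List Job := [
  ⟨16, 0x5008242219108a4623940a25229950aa562bc1e0d058240e0501, 0, 4, 0x0, []⟩]

theorem t9_398_47 : jobs 8 S9 b8_398 j9_398_47 = true := by decide +kernel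

noncomputable def j9_398_48 : List Job := [
  ⟨15, 0x5008242219108a4623940a25229950aa562bc1e0d058240e0501, 0, 4, 0x0, []⟩]

theorem t9_398_48 : jobs 8 S9 b8_398 j9_398_48 = true := by decide +kernel

noncomputable def j9_398_49 : List Job := [
  ⟨14, 0x41e0d058240e0501, 0, 4, 0x0, []⟩]

theorem t9_398_49 : jobs 8 S9 b8_398 j9_398_49 = true := by decide +kernel

noncomputable def j9_398_50 : List Job := [
  ⟨13, 0x41e0d058240e0501, 0, 4, 0x0, []⟩]

theorem t9_398_50 : jobs 8 S9 b8_398 j9_398_50 = true := by decide +kernel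

noncomputable def j9_398_51 : List Job := [
  ⟨12, 0x5008242219108a4623940a25229950aa562bc1e0d058240e0501, 0, 8, 0x20a00040200060a000802000a0a000c02000e01001001, []⟩]

theorem t9_398_51 : jobs 8 S9 b8_398 j9_398_51 = true := by decide +kernel

noncomputable def j9_398_52 : List Job := [
  ⟨11, 0x5008242219108a4623940a25229950aa562bc1e0d058240e0501, 0, 8, 0x203000402000602000808000a02000c08000e01001002, []⟩]

theorem t9_398_52 : jobs 8 S9 b8_398 j9_398_52 = true := by decide +kernel

noncomputable def j9_398_53 : List Job := [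
  ⟨10, 0x41e0d058240e0501, 0, 8, 0x204000404000604000804000a04000c05000e05001004, []⟩]

theorem t9_398_53 : jobs 8 S9 b8_398 j9_398_53 = true := by decide +kernel

noncomputable def j9_398_54 : List Job := [
  ⟨9, 0x41e0d058240e0501, 0, 8, 0x204000404000604000804000a04000c05000e05001004, []⟩]

theorem t9_398_54 : jobs 8 S9 b8_398 j9_398_54 = true := by decide +kernel

noncomputable def j9_398_55 : List Job := [
  ⟨8, 0x508864422948a6542ad00824623940a2562bc1e0d058240e0501, 0, 4, 0x0, []⟩]

theorem t9_398_55 : jobs 8 S9 b8_398 j9_398_55 = true := by decide +kernel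

noncomputable def j9_398_56 : List Job := [
  ⟨7, 0x508864623948a6562bd00824422940a2542ac1e0d058240e0501, 0, 4, 0x0, []⟩]

theorem t9_398_56 : jobs 8 S9 b8_398 j9_398_56 = true := by decide +kernel

noncomputable def j9_398_57 : List Job := [
  ⟨6, 0x5008242219108a4623940a25229950aa562bc884624128a8562c16c804226138a0522e17c1e0d058240e0501, 0, 12, 0x20c00060c, []⟩]

theorem t9_398_57 : jobs 8 S9 b8_398 j9_398_57 = true := by decide +kernel

noncomputable def j9_398_58 : List Job := [
  ⟨5, 0x41e0d058240e0501, 0, 8, 0x204000405000604000804000a05000c05000e04001005, []⟩]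

theorem t9_398_58 : jobs 8 S9 b8_398 j9_398_58 = true := by decide +kernel

noncomputable def j9_398_59 : List Job := [
  ⟨4, 0x580c26231990ca66339e0f27a3d9f0fa7e3fd008242219108a4623940a25229950aa562bc1e0d058240e0501, 0, 8, 0x204000805, []⟩]

theorem t9_398_59 : jobs 8 S9 b8_398 j9_398_59 = true := by decide +kernel

noncomputable def j9_398_60 : List Job := [
  ⟨3, 0x508864422948a6542ad00824623940a2562bc1e0d058240e0501, 0, 8, 0x204000405000604000804000a04000c04000e04001005, []⟩]

theorem t9_398_60 : jobs 8 S9 b8_398 j9_398_60 = true := by decide +kernel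

noncomputable def j9_398_61 : List Job := [
  ⟨2, 0x508864623948a6562bd00824422940a2542ac1e0d058240e0501, 0, 8, 0x204000405000604000804000a04000c04000e04001005, []⟩]

theorem t9_398_61 : jobs 8 S9 b8_398 j9_398_61 = true := by decide +kernel

noncomputable def j9_398_62 : List Job := [
  ⟨1, 0x5008242219108a4623940a25229950aa562bc904a26138b05a2e17c804222118a0522a15c1e0d058240e0501, 0, 14, 0x20400040500060d000804000a01000e04001401001806001c06, []⟩]

theorem t9_398_62 : jobs 8 S9 b8_398 j9_398_62 = true := by decide +kernel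

noncomputable def j9_398_63 : List Job := [
  ⟨0, 0x4904a26138b05a2e17c804222118a0522a15c1e0d058240e0501, 0, 8, 0x204000605000a05000e05, []⟩]

theorem t9_398_63 : jobs 8 S9 b8_398 j9_398_63 = true := by decide +kernel

theorem d9_398 : Dn 8 S9 b8_398 := dn_of (Js := j9_398_0 ++ (j9_398_1 ++ (j9_398_2 ++ (j9_398_3 ++ (j9_398_4 ++ (j9_398_5 ++ (j9_398_6 ++ (j9_398_7 ++ (j9_398_8 ++ (j9_398_9 ++ (j9_398_10 ++ (j9_398_11 ++ (j9_398_12 ++ (j9_398_13 ++ (j9_398_14 ++ (j9_398_15 ++ (j9_398_16 ++ (j9_398_17 ++ (j9_398_18 ++ (j9_398_19 ++ (j9_398_20 ++ (j9_398_21 ++ (j9_398_22 ++ (j9_398_23 ++ (j9_398_24 ++ (j9_398_25 ++ (j9_398_26 ++ (j9_398_27 ++ (j9_398_28 ++ (j9_398_29 ++ (j9_398_30 ++ (j9_398_31 ++ (j9_398_32 ++ (j9_398_33 ++ (j9_398_34 ++ (j9_398_35 ++ (j9_398_36 ++ (j9_398_37 ++ (j9_398_38 ++ (j9_398_39 ++ (j9_398_40 ++ (j9_398_41 ++ (j9_398_42 ++ (j9_398_43 ++ (j9_398_44 ++ (j9_398_45 ++ (j9_398_46 ++ (j9_398_47 ++ (j9_398_48 ++ (j9_398_49 ++ (j9_398_50 ++ (j9_398_51 ++ (j9_398_52 ++ (j9_398_53 ++ (j9_398_54 ++ (j9_398_55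 ++ (j9_398_56 ++ (j9_398_57 ++ (j9_398_58 ++ (j9_398_59 ++ (j9_398_60 ++ (j9_398_61 ++ (j9_398_62 ++ (j9_398_63 ++ []))))))))))))))))))))))))))))))))))))))))))))))))))))))))))))))))
  (jobs_append t9_398_0 <| jobs_append t9_398_1 <| jobs_append t9_398_2 <| jobs_append t9_398_3 <| jobs_append t9_398_4 <| jobs_append t9_398_5 <| jobs_append t9_398_6 <| jobs_append t9_398_7 <| jobs_append t9_398_8 <| jobs_append t9_398_9 <| jobs_append t9_398_10 <| jobs_append t9_398_11 <| jobs_append t9_398_12 <| jobs_append t9_398_13 <| jobs_append t9_398_14 <| jobs_append t9_398_15 <| jobs_append t9_398_16 <| jobs_append t9_398_17 <| jobs_append t9_398_18 <| jobs_append t9_398_19 <| jobs_append t9_398_20 <| jobs_append t9_398_21 <| jobs_append t9_398_22 <| jobs_append t9_398_23 <| jobs_append t9_398_24 <| jobs_append t9_398_25 <| jobs_append t9_398_26 <| jobs_append t9_398_27 <| jobs_append t9_398_28 <| jobs_append t9_398_29 <| jobs_append t9_398_30 <| jobs_append t9_398_31 <| jobs_append t9_398_32 <| jobs_append t9_398_33 <| jobs_append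 t9_398_34 <| jobs_append t9_398_35 <| jobs_append t9_398_36 <| jobs_append t9_398_37 <| jobs_append t9_398_38 <| jobs_append t9_398_39 <| jobs_append t9_398_40 <| jobs_append t9_398_41 <| jobs_append t9_398_42 <| jobs_append t9_398_43 <| jobs_append t9_398_44 <| jobs_append t9_398_45 <| jobs_append t9_398_46 <| jobs_append t9_398_47 <| jobs_append t9_398_48 <| jobs_append t9_398_49 <| jobs_append t9_398_50 <| jobs_append t9_398_51 <| jobs_append t9_398_52 <| jobs_append t9_398_53 <| jobs_append t9_398_54 <| jobs_append t9_398_55 <| jobs_append t9_398_56 <| jobs_append t9_398_57 <| jobs_append t9_398_58 <| jobs_append t9_398_59 <| jobs_append t9_398_60 <| jobs_append t9_398_61 <| jobs_append t9_398_62 <| jobs_append t9_398_63 <| List.forall_mem_nil _) (by decide +kernel)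

noncomputable def j9_399_0 : List Job := [
  ⟨63, 0x665369c4f661349d4fe4526944b64124954bd309a4e27d20924a25d108a4623d00824221c3e1d0d8642e15098441e0d058240e0501, 0, 111, 0x0, []⟩]

theorem t9_399_0 : jobs 8 S9 b8_399 j9_399_0 = true := by decide +kernel

noncomputable def j9_399_1 : List Job := [
  ⟨62, 0x665369c4f661349d4fe4526944b64124954bd309a4e27d20924a25d108a4623d00824221ce8763e1fce0723c1ecc866361bcc062341aca8562e17ca0522c16c88462613c80422412c3e1d0d8642e15098441e0d058240e0501, 0, 130, 0xfa0000fc0100fe00010200, [(128, ⟨278, 0x8300014a0000370001100001080001020001010001040001000001, 0x186260d820080081004⟩), (126, ⟨279, 0x8d0001490001270000160001080001020001010001040000000001, 0x18b2509c2a080081004⟩), (124, ⟨277, 0x8600014a00012d0001140000080001020000010000040001000001, 0x185260ac22080081004⟩)]⟩]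

theorem t9_399_1 : jobs 8 S9 b8_399 j9_399_1 = true := by decide +kernel

noncomputable def j9_399_2 : List Job := [
  ⟨61, 0x6311a8e47e21128a45e110a8643e01028241d309a4e27d20924a25d108a4623d00824221ce8763e1fce0723c1ecc866361bcc062341aca8562e17ca0522c16c88462613c80422412c3e1d0d8642e15098441e0d058240e0501, 0, 116, 0x6a01006c01006e01007001007201007401007601007801007a01007c0100e20100e40100e60100e801, []⟩]

theorem t9_399_2 : jobs 8 S9 b8_399 j9_399_2 = true := by decide +kernel

noncomputable def j9_399_3 : List Job := [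
  ⟨60, 0x560b25a2d970ba5e2fd40a25229950aa562bd20924a259309a4e27d008242219108a4623ca8562e17ca0522c16c88462613c80422412c3e1d0d8642e15098441e0d058240e0501, 0, 130, 0x0, []⟩]

theorem t9_399_3 : jobs 8 S9 b8_399 j9_399_3 = true := by decide +kernel

noncomputable def j9_399_4 : List Job := [
  ⟨59, 0x4b85f2c16ca8572814c984f2412c88472010c3e1d0d8642e15098441e0d058240e0501, 0, 91, 0x5808005c04006208006408006809006e0900720d007604007809007c08008208008409009e08, []⟩]

theorem t9_399_4 : jobs 8 S9 b8_399 j9_399_4 = true := by decide +kernel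

noncomputable def j9_399_5 : List Job := [
  ⟨58, 0x560b25a2d970ba5e2fd40a25229950aa562bd20924a259309a4e27d008242219108a4623cb85f2c16ca8572814c984f2412c88472010c3e1d0d8642e15098441e0d058240e0501, 0, 133, 0x7e08008208008808008a08009008009209009a09009c0900a20900a60500a80900ac0800b20800b40900b80400d80800de0800e00400e209, []⟩]

theorem t9_399_5 : jobs 8 S9 b8_399 j9_399_5 = true := by decide +kernel

noncomputable def j9_399_6 : List Job := [
  ⟨57, 0x6311a8e47e21128a45e110a8643e01028241d24964c27520944d27d04864423500844523ca8562e17ca0522c16c88462613c80422412c3e1d0d8642e15098441e0d058240e0501, 0, 147, 0x0, []⟩]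

theorem t9_399_6 : jobs 8 S9 b8_399 j9_399_6 = true := by decide +kernel

noncomputable def j9_399_7 : List Job := [
  ⟨56, 0x661329a4da713a9e4fe41229249a512a964bd20924a259309a4e27d008242219108a4623ca8562e17ca0522c16c88462613c80422412c6c3f1a0f4643b180e44c2f120b4442b100a43e1d0d8642e15098441e0d058240e0501, 0, 147, 0x0, []⟩]

theorem t9_399_7 : jobs 8 S9 b8_399 j9_399_7 = true := by decide +kernel

noncomputable def j9_399_8 : List Job := [
  ⟨55, 0x564b65c2f560b45d2fd44a6542b540a4552bd309a4e27d20924a25d108a4623d00824221ca8562e17ca0522c16c88462613c80422412c6c3f1a0f4643b180e44c2f120b4442b100a43e1d0d8642e15098441e0d058240e0501, 0, 144, 0x0, []⟩]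

theorem t9_399_8 : jobs 8 S9 b8_399 j9_399_8 = true := by decide +kernel

noncomputable def j9_399_9 : List Job := [
  ⟨54, 0x621128a45a311a8e47e01028241a110a8643d20924a259309a4e27d008242219108a4623c6c3f1a0f4643b180e44c2f120b4442b100a43e1d0d8642e15098441e0d058240e0501, 0, 114, 0x0, []⟩]

theorem t9_399_9 : jobs 8 S9 b8_399 j9_399_9 = true := by decide +kernel

noncomputable def j9_399_10 : List Job := [
  ⟨53, 0x621128a45a311a8e47e01028241a110a8643d20924a259309a4e27d008242219108a4623cf07a3e1fce0723a1dcd06a361bcc0623219cb05a2e17ca0522a15c904a2613c80422211c743d1c0fc6435180dc542d140bc44251009c3e1d0d8642e15098441e0d058240e0501, 0, 122, 0x0, []⟩]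

theorem t9_399_10 : jobs 8 S9 b8_399 j9_399_10 = true := by decide +kernel

noncomputable def j9_399_11 : List Job := [
  ⟨52, 0x621128a45a311a8e47e01028241a110a8643c6c3f1a0f4643b180e44c2f120b4442b100a43e1d0d8642e15098441e0d058240e0501, 0, 151, 0x0, []⟩]

theorem t9_399_11 : jobs 8 S9 b8_399 j9_399_11 = true := by decide +kernel

noncomputable def j9_399_12 : List Job := [
  ⟨51, 0x621128a45a311a8e47e01028241a110a8643d68b65c2ed60b25e2fd48a6542ad40a2562bd309a4e27d20924a25d108a4623d00824221c6c3f1a0f4643b180e44c2f120b4442b100a43e1d0d8642e15098441e0d058240e0501, 0, 160, 0x0, []⟩]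

theorem t9_399_12 : jobs 8 S9 b8_399 j9_399_12 = true := by decide +kernel

noncomputable def j9_399_13 : List Job := [
  ⟨50, 0x661329a4da713a9e4fe41229249a512a964be21128a45a311a8e47ce4763d1fce0743c1f4c466351bcc064341b4a4562d17ca0542c1741e0d058240e0501, 0, 74, 0x0, []⟩]

theorem t9_399_13 : jobs 8 S9 b8_399 j9_399_13 = true := by decide +kernel

noncomputable def j9_399_14 : List Job := [
  ⟨49, 0x609068442e01028643ce4763d1fce0743c1f4c466351bcc064341b4a4562d17ca0542c1741e0d058240e0501, 0, 74, 0x0, []⟩]

theorem t9_399_14 : jobs 8 S9 b8_399 j9_399_14 = true := by decide +kernel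

noncomputable def j9_399_15 : List Job := [
  ⟨48, 0x661329a4da713a9e4fe41229249a512a964be21128a45a311a8e47ce4763d1fce0743c1f4c466351bcc064341b4a4562d17ca0542c1741e0d058240e0501, 0, 74, 0x0, []⟩]

theorem t9_399_15 : jobs 8 S9 b8_399 j9_399_15 = true := by decide +kernel

noncomputable def j9_399_16 : List Job := [
  ⟨47, 0x609068643e01028442ce4763d1fce0743c1f4c466351bcc064341b4a4562d17ca0542c1741e0d058240e0501, 0, 74, 0x0, []⟩]

theorem t9_399_16 : jobs 8 S9 b8_399 j9_399_16 = true := by decide +kernel

noncomputable def j9_399_17 : List Job := [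
  ⟨46, 0x661329a4da713a9e4fe41229249a512a964be21128a45a311a8e47c8c4b22124844f201341e0d058240e0501, 0, 74, 0x0, []⟩]

theorem t9_399_17 : jobs 8 S9 b8_399 j9_399_17 = true := by decide +kernel

noncomputable def j9_399_18 : List Job := [
  ⟨45, 0x609068442e01028643c8c4b22124844f201341e0d058240e0501, 0, 74, 0x0, []⟩]

theorem t9_399_18 : jobs 8 S9 b8_399 j9_399_18 = true := by decide +kernel

noncomputable def j9_399_19 : List Job := [
  ⟨44, 0x661329a4da713a9e4fe41229249a512a964be21128a45a311a8e47c944f241348447201141e0d058240e0501, 0, 74, 0x0, []⟩]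

theorem t9_399_19 : jobs 8 S9 b8_399 j9_399_19 = true := by decide +kernel

noncomputable def j9_399_20 : List Job := [
  ⟨43, 0x609068643e01028442c8c4f22134844b201241e0d058240e0501, 0, 74, 0x0, []⟩]

theorem t9_399_20 : jobs 8 S9 b8_399 j9_399_20 = true := by decide +kernel

noncomputable def j9_399_21 : List Job := [
  ⟨42, 0x661329a4da713a9e4fce4763d1fce0743c1f44c2f120b4442b100a42c1f0a074241b080641e0d058240e0501, 0, 168, 0x0, []⟩]

theorem t9_399_21 : jobs 8 S9 b8_399 j9_399_21 = true := by decide +kernel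

noncomputable def j9_399_22 : List Job := [
  ⟨41, 0x641229249a512a964be21128a45a311a8e47e09068442e01028643ce4763d1fce0743c1f4542f140b4442710094341f0c0742417080541e0d058240e0501, 0, 168, 0x0, []⟩]

theorem t9_399_22 : jobs 8 S9 b8_399 j9_399_22 = true := by decide +kernel

noncomputable def j9_399_23 : List Job := [
  ⟨40, 0x661329a4da713a9e4fce4763d1fce0743c1f44c2f120b4442b100a42c1f0a074241b080641e0d058240e0501, 0, 168, 0x0, []⟩]

theorem t9_399_23 : jobs 8 S9 b8_399 j9_399_23 = true := by decide +kernel

noncomputable def j9_399_24 : List Job := [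
  ⟨39, 0x641229249a512a964be21128a45a311a8e47e09068643e01028442ce4763d1fce0743c1f4542f140b4442710094341f0c0742417080541e0d058240e0501, 0, 168, 0x0, []⟩]

theorem t9_399_24 : jobs 8 S9 b8_399 j9_399_24 = true := by decide +kernel

noncomputable def j9_399_25 : List Job := [
  ⟨38, 0x661329a4da713a9e4fcc466351bcc064341b4a4562d17ca0542c1748c4b22124844f201344c2f120b4442b100a42c1f0a074241b080641e0d058240e0501, 0, 168, 0x0, []⟩]

theorem t9_399_25 : jobs 8 S9 b8_399 j9_399_25 = true := by decide +kernel

noncomputable def j9_399_26 : List Job := [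
  ⟨37, 0x641229249a512a964be21128a45a311a8e47e110a8643e01028241cc866361bcc062341aca8562e17ca0522c16c984f2412c88472010c4c2d120bc4429100ac2c1d0a07c24190806c1e0d058240e0501, 0, 168, 0x0, []⟩]

theorem t9_399_26 : jobs 8 S9 b8_399 j9_399_26 = true := by decide +kernel

noncomputable def j9_399_27 : List Job := [
  ⟨36, 0x661329a4da713a9e4fcc466351bcc064341b4a4562d17ca0542c174944f241348447201144c2f120b4442b100a42c1f0a074241b080641e0d058240e0501, 0, 168, 0x0, []⟩]

theorem t9_399_27 : jobs 8 S9 b8_399 j9_399_27 = true := by decide +kernel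

noncomputable def j9_399_28 : List Job := [
  ⟨35, 0x641229249a512a964be21128a45a311a8e47e05068543e010484434c866361bcc062341aca8562e17ca0522c16c8c4f22134844b20124582f140ac48271008c381f0c06c28170804c1e0d058240e0501, 175, 193, 0x16008016208016408016604016808017009018408019e0d01b40801b60901b80801ba0901bc0d01be0801c00901c208020209020409020609020805020a09020c05020e09021008021208021408021608021808021a08021c08021e0c022009, []⟩]

theorem t9_399_28 : jobs 8 S9 b8_399 j9_399_28 = true := by decide +kernel

noncomputable def j9_399_29 : List Job := [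
  ⟨35, 0x641229249a512a964be21128a45a311a8e47e05068543e010484434c866361bcc062341aca8562e17ca0522c16c8c4f22134844b20124582f140ac48271008c381f0c06c28170804c1e0d058240e0501, 0, 175, 0x15208015408015608015808015a08015c08015e08, []⟩]

theorem t9_399_29 : jobs 8 S9 b8_399 j9_399_29 = true := by decide +kernel

noncomputable def j9_399_30 : List Job := [
  ⟨34, 0x661329a4da713a9e4fe21128a45a311a8e47ce4763d1fce0743c1f484462513c8044241342c1f0a074241b080641e0d058240e0501, 0, 108, 0x0, []⟩]

theorem t9_399_30 : jobs 8 S9 b8_399 j9_399_30 = true := by decide +kernel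

noncomputable def j9_399_31 : List Job := [
  ⟨33, 0x641229249a512a964be01028241a110a8643ce4763d1fce0743c1f484462513c804424134341f0c0742417080541e0d058240e0501, 0, 108, 0x0, []⟩]

theorem t9_399_31 : jobs 8 S9 b8_399 j9_399_31 = true := by decide +kernel

noncomputable def j9_399_32 : List Job := [
  ⟨32, 0x661329a4da713a9e4fe01028241a110a8643ce4763d1fce0743c1f484462513c804424134341f0c0742417080541e0d058240e0501, 0, 168, 0x0, []⟩]

theorem t9_399_32 : jobs 8 S9 b8_399 j9_399_32 = true := by decide +kernel

noncomputable def j9_399_33 : List Job := [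
  ⟨31, 0x4e4763d1fce0743c1f484462513c8044241342c1f0a074241b080641e0d058240e0501, 0, 104, 0x0, []⟩]

theorem t9_399_33 : jobs 8 S9 b8_399 j9_399_33 = true := by decide +kernel

noncomputable def j9_399_34 : List Job := [
  ⟨30, 0x661329a4da713a9e4fe41229249a512a964be21128a45a311a8e47e01028241a110a8643ce4763d1fce0743c1f484462513c804424134341f0c0742417080541e0d058240e0501, 0, 104, 0x0, []⟩]

theorem t9_399_34 : jobs 8 S9 b8_399 j9_399_34 = true := by decide +kernel

noncomputable def j9_399_35 : List Job := [
  ⟨29, 0x4e4763d1fce0743c1f484462513c8044241342c1f0a074241b080641e0d058240e0501, 0, 104, 0x0, []⟩]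

theorem t9_399_35 : jobs 8 S9 b8_399 j9_399_35 = true := by decide +kernel

noncomputable def j9_399_36 : List Job := [
  ⟨28, 0x661329a4da713a9e4fe41229249a512a964be21128a45a311a8e47e01028241a110a8643ce4763d1fce0743c1f484462513c804424134341f0c0742417080541e0d058240e0501, 0, 104, 0x0, []⟩]

theorem t9_399_36 : jobs 8 S9 b8_399 j9_399_36 = true := by decide +kernel

noncomputable def j9_399_37 : List Job := [
  ⟨27, 0x629168c46e21128e47e09068643e01028442ce4763d1fce0743c1f484462513c804424134341f0c0742417080541e0d058240e0501, 0, 160, 0x0, []⟩]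

theorem t9_399_37 : jobs 8 S9 b8_399 j9_399_37 = true := by decide +kernel

noncomputable def j9_399_38 : List Job := [
  ⟨26, 0x661329a4da713a9e4fe01028241a110a8643c341f0c0742417080541e0d058240e0501, 0, 112, 0x0, []⟩]

theorem t9_399_38 : jobs 8 S9 b8_399 j9_399_38 = true := by decide +kernel

noncomputable def j9_399_39 : List Job := [
  ⟨25, 0x661329a4da713a9e4fe01028241a110a8643ce4763d1fce0743c1f4c466351bcc064341b4a4562d17ca0542c17484462513c804424134341f0c0742417080541e0d058240e0501, 0, 112, 0x0, []⟩]

theorem t9_399_39 : jobs 8 S9 b8_399 j9_399_39 = true := by decide +kernel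

noncomputable def j9_399_40 : List Job := [
  ⟨24, 0x641229249a512a964be01028241a110a8643ca4562d17ca0542c1748c4f22134844b20124341f0c0742417080541e0d058240e0501, 0, 112, 0x0, []⟩]

theorem t9_399_40 : jobs 8 S9 b8_399 j9_399_40 = true := by decide +kernel

noncomputable def j9_399_41 : List Job := [
  ⟨23, 0x641229249a512a964be01028241a110a8643ca8562e17ca0522c16c88462613c80422412c783f1c0ec6837180cc582f140ac48271008c381f0c06c28170804c1e0d058240e0501, 0, 168, 0x0, []⟩]

theorem t9_399_41 : jobs 8 S9 b8_399 j9_399_41 = true := by decide +kernel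

noncomputable def j9_399_42 : List Job := [
  ⟨22, 0x661329a4da713a9e4fe01028241a110a8643c341f0c0742417080541e0d058240e0501, 0, 112, 0x0, []⟩]

theorem t9_399_42 : jobs 8 S9 b8_399 j9_399_42 = true := by decide +kernel

noncomputable def j9_399_43 : List Job := [
  ⟨21, 0x661329a4da713a9e4fe01028241a110a8643ce4763d1fce0743c1f4c466351bcc064341b4a4562d17ca0542c17484462513c804424134341f0c0742417080541e0d058240e0501, 0, 112, 0x0, []⟩]

theorem t9_399_43 : jobs 8 S9 b8_399 j9_399_43 = true := by decide +kernel

noncomputable def j9_399_44 : List Job := [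
  ⟨20, 0x641229249a512a964be01028241a110a8643ca8562e17ca0522c16c88462613c80422412c783f1c0ec6837180cc582f140ac48271008c381f0c06c28170804c1e0d058240e0501, 0, 168, 0x0, []⟩]

theorem t9_399_44 : jobs 8 S9 b8_399 j9_399_44 = true := by decide +kernel

noncomputable def j9_399_45 : List Job := [
  ⟨19, 0x4a4562d17ca0542c17484462513c8044241343e1d0d8642e15098441e0d058240e0501, 0, 51, 0x0, []⟩]

theorem t9_399_45 : jobs 8 S9 b8_399 j9_399_45 = true := by decide +kernel

noncomputable def j9_399_46 : List Job := [
  ⟨18, 0x661329a4da713a9e4fe41229249a512a964be21128a45a311a8e47e01028241a110a8643ca4562d17ca0542c17484462513c8044241343e1d0d8642e15098441e0d058240e0501, 0, 59, 0x0, []⟩]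

theorem t9_399_46 : jobs 8 S9 b8_399 j9_399_46 = true := by decide +kernel

noncomputable def j9_399_47 : List Job := [
  ⟨17, 0x629168c46e21128e47e09068442e01028643cac5b2a164a45f281748c4b22124844f201343e1d0d8642e15098441e0d058240e0501, 0, 58, 0x0, []⟩]

theorem t9_399_47 : jobs 8 S9 b8_399 j9_399_47 = true := by decide +kernel

noncomputable def j9_399_48 : List Job := [
  ⟨16, 0x629168e47e21128c46e09068643e01028442cac5f2a174a45b281648c4f22134844b201243e1d0d8642e15098441e0d058240e0501, 0, 107, 0x0, []⟩]

theorem t9_399_48 : jobs 8 S9 b8_399 j9_399_48 = true := by decide +kernel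

noncomputable def j9_399_49 : List Job := [
  ⟨15, 0x4a4562d17ca0542c17484462513c8044241343e1d0d8642e15098441e0d058240e0501, 0, 40, 0x0, []⟩]

theorem t9_399_49 : jobs 8 S9 b8_399 j9_399_49 = true := by decide +kernel

noncomputable def j9_399_50 : List Job := [
  ⟨14, 0x661329a4da713a9e4fe41229249a512a964be21128a45a311a8e47e01028241a110a8643ca4562d17ca0542c17484462513c8044241343e1d0d8642e15098441e0d058240e0501, 0, 48, 0x0, []⟩]

theorem t9_399_50 : jobs 8 S9 b8_399 j9_399_50 = true := by decide +kernel

noncomputable def j9_399_51 : List Job := [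
  ⟨13, 0x4b45f2c174a45728154944f241348447201143e1d0d8642e15098441e0d058240e0501, 0, 40, 0x0, []⟩]

theorem t9_399_51 : jobs 8 S9 b8_399 j9_399_51 = true := by decide +kernel

noncomputable def j9_399_52 : List Job := [
  ⟨12, 0x661329a4da713a9e4fe41229249a512a964be21128a45a311a8e47e01028241a110a8643cac5f2a174a45b281648c4f22134844b201243e1d0d8642e15098441e0d058240e0501, 0, 120, 0x0, []⟩]

theorem t9_399_52 : jobs 8 S9 b8_399 j9_399_52 = true := by decide +kernel

noncomputable def j9_399_53 : List Job := [
  ⟨11, 0x629168e47e21128c46e09068643e01028442ca4562d17ca0542c17484462513c8044241343e1d0d8642e15098441e0d058240e0501, 0, 63, 0x0, []⟩]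

theorem t9_399_53 : jobs 8 S9 b8_399 j9_399_53 = true := by decide +kernel

noncomputable def j9_399_54 : List Job := [
  ⟨10, 0x621128a45a311a8e47e01028241a110a8643c743f1c0f46437180d4542f140b44427100943e1d0d8642e15098441e0d058240e0501, 0, 63, 0x0, []⟩]

theorem t9_399_54 : jobs 8 S9 b8_399 j9_399_54 = true := by decide +kernel

noncomputable def j9_399_55 : List Job := [
  ⟨9, 0x621128a45a311a8e47e01028241a110a8643ce8763e1fce0723c1ecc866361bcc062341acac5f2a174a45b281648c4f22134844b20124783f1c0ec6837180cc582f140ac48271008c3e1d0d8642e15098441e0d058240e0501, 64, 89, 0x860400900000960000d20400d40400e00000e40500ec00010805011200, [(136, ⟨272, 0x4100004e00024200046800006000102000008000404000000001, 0x184260843c0a0101002⟩), (117, ⟨275, 0x4300006000004c00005000007000006000008000004000000001, 0x18432090240c0101802⟩), (111, ⟨271, 0x4100004e00024200046800006000102000008000404000000001, 0x184260843c0a0101002⟩), (74, ⟨273, 0x4180014f00024000006c00086800102000008000004000000001, 0x185260803c0b0101002⟩), (71, ⟨274, 0x4300006000004c00005000007000006000008000004000000001,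 0x18432090240c0101802⟩)]⟩]

theorem t9_399_55 : jobs 8 S9 b8_399 j9_399_55 = true := by decide +kernel

noncomputable def j9_399_56 : List Job := [
  ⟨9, 0x621128a45a311a8e47e01028241a110a8643ce8763e1fce0723c1ecc866361bcc062341acac5f2a174a45b281648c4f22134844b20124783f1c0ec6837180cc582f140ac48271008c3e1d0d8642e15098441e0d058240e0501, 0, 64, 0x8004, []⟩]

theorem t9_399_56 : jobs 8 S9 b8_399 j9_399_56 = true := by decide +kernel

noncomputable def j9_399_57 : List Job := [
  ⟨8, 0x47e3d1d8e46e35198c45e2d158a44e25118843e1d0d8642e15098441e0d058240e0501, 0, 23, 0x2401002601002801002a01002c01002e01, []⟩]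

theorem t9_399_57 : jobs 8 S9 b8_399 j9_399_57 = true := by decide +kernel

noncomputable def j9_399_58 : List Job := [
  ⟨7, 0x47e3d1d8e46e35198c45e2d158a44e25118843e1d0d8642e15098441e0d058240e0501, 0, 42, 0x0, []⟩]

theorem t9_399_58 : jobs 8 S9 b8_399 j9_399_58 = true := by decide +kernel

noncomputable def j9_399_59 : List Job := [
  ⟨6, 0x4e4763d1fce0743c1f4c466351bcc064341b4a4562d17ca0542c17484462513c8044241347e3d1d8e46e35198c45e2d158a44e25118843e1d0d8642e15098441e0d058240e0501, 0, 54, 0x5e01006001006201006401, []⟩]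

theorem t9_399_59 : jobs 8 S9 b8_399 j9_399_59 = true := by decide +kernel

noncomputable def j9_399_60 : List Job := [
  ⟨5, 0x661329a4da713a9e4fe41229249a512a964be21128a45a311a8e47de4f47d3f5e0f67c3fdc4e4753b5c0e6743bda4d46d375a0d66c37d04864523d00844423488462613c80422412c1e0d058240e0501, 0, 244, 0x208000608000a08000c08001409010608010a09010c01011001011601011a01012001012e08014801015201, []⟩]

theorem t9_399_60 : jobs 8 S9 b8_399 j9_399_60 = true := by decide +kernel

noncomputable def j9_399_61 : List Job := [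
  ⟨4, 0x6110a8643e01028241de4f47d3f5e0f67c3fdc4e4753b5c0e6743bda4d46d375a0d66c37d04864523d00844423488462613c80422412c1e0d058240e0501, 0, 244, 0x208000408000609000809000a09000c08000e08001008001209001409010608010808010a01010c01010e01011001011201011401011601011801011a01011c01011e01012001012201012e08013209013601013801014001014201014a01, []⟩]

theorem t9_399_61 : jobs 8 S9 b8_399 j9_399_61 = true := by decide +kernel

noncomputable def j9_399_62 : List Job := [
  ⟨3, 0x661329a4da713a9e4fe41229249a512a964be21128a45a311a8e47de4f47d3f5e0f67c3fdc4e4753b5c0e6743bda4d46d375a0d66c37d64b65d2fd60b45c2f544a6552bd40a4542b524964d27d20944c274984f2412c88472010c1e0d058240e0501, 0, 244, 0x208000601000a08000c0100140100aa0800ae0900b00100b40100ba0100be0100c40100d20800da0800e00800e409010808016209016609016c09017409017a0901c20801dc0101e601, []⟩]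

theorem t9_399_62 : jobs 8 S9 b8_399 j9_399_62 = true := by decide +kernel

noncomputable def j9_399_63 : List Job := [
  ⟨2, 0x6110a8643e01028241de4f47d3f5e0f67c3fdc4e4753b5c0e6743bda4d46d375a0d66c37d64b65d2fd60b45c2f544a6552bd40a4542b524964d27d20944c274984f2412c88472010c1e0d058240e0501, 0, 244, 0x208000408000609000809000a09000c01000e0100100100120100140100aa0800ac0800ae0100b00100b20100b40100b60100b80100ba0100bc0100be0100c00100c20100c40100c60100d20800da0800e00800e409010808014a08015208015809015c0801800901c20801c60901ca0101cc0101d40101d60101de01, []⟩]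

theorem t9_399_63 : jobs 8 S9 b8_399 j9_399_63 = true := by decide +kernel

noncomputable def j9_399_64 : List Job := [
  ⟨1, 0x661329a4da713a9e4fde4f47d3f5e0f67c3fd44a6552bd40a4542b524964d27d20944c27504864523d008444234c866361bcc062341aca8562e17ca0522c16c88462613c80422412c4c2f120b4442b100a42c1f0a074241b080641e0d058240e0501, 356, 200, 0x2ca0102d60102dc0102de0102ea0102f00102f80102fa01, []⟩]

theorem t9_399_64 : jobs 8 S9 b8_399 j9_399_64 = true := by decide +kernel

noncomputable def j9_399_65 : List Job := [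
  ⟨1, 0x661329a4da713a9e4fde4f47d3f5e0f67c3fd44a6552bd40a4542b524964d27d20944c27504864523d008444234c866361bcc062341aca8562e17ca0522c16c88462613c80422412c4c2f120b4442b100a42c1f0a074241b080641e0d058240e0501, 168, 188, 0x26a08027801028e0102ba0802c001, []⟩]

theorem t9_399_65 : jobs 8 S9 b8_399 j9_399_65 = true := by decide +kernel

noncomputable def j9_399_66 : List Job := [
  ⟨1, 0x661329a4da713a9e4fde4f47d3f5e0f67c3fd44a6552bd40a4542b524964d27d20944c27504864523d008444234c866361bcc062341aca8562e17ca0522c16c88462613c80422412c4c2f120b4442b100a42c1f0a074241b080641e0d058240e0501, 0, 168, 0x208000601000801000a01000c01000e09001601001e08002201002401, []⟩]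

theorem t9_399_66 : jobs 8 S9 b8_399 j9_399_66 = true := by decide +kernel

noncomputable def j9_399_67 : List Job := [
  ⟨0, 0x641229249a512a964be21128a45a311a8e47e05068543e010484435e8f67c3ede0f27e3fd48a6562bd40a2542ad28964e27d20924c26d08864623d00824422cd06a361bcc0623219cb05a2e17ca0522a15c904a2613c80422211c582f140ac48271008c381f0c06c28170804c1e0d058240e0501, 356, 200, 0x2d601, []⟩]

theorem t9_399_67 : jobs 8 S9 b8_399 j9_399_67 = true := by decide +kernel

noncomputable def j9_399_68 : List Job := [
  ⟨0, 0x641229249a512a964be21128a45a311a8e47e05068543e010484435e8f67c3ede0f27e3fd48a6562bd40a2542ad28964e27d20924c26d08864623d00824422cd06a361bcc0623219cb05a2e17ca0522a15c904a2613c80422211c582f140ac48271008c381f0c06c28170804c1e0d058240e0501, 169, 187, 0x26a0202ba0202c601, []⟩]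

theorem t9_399_68 : jobs 8 S9 b8_399 j9_399_68 = true := by decide +kernel

noncomputable def j9_399_69 : List Job := [
  ⟨0, 0x641229249a512a964be21128a45a311a8e47e05068543e010484435e8f67c3ede0f27e3fd48a6562bd40a2542ad28964e27d20924c26d08864623d00824422cd06a361bcc0623219cb05a2e17ca0522a15c904a2613c80422211c582f140ac48271008c381f0c06c28170804c1e0d058240e0501, 0, 169, 0x202000600000800002401, [(3, ⟨237, 0x840000400000200000080000100000040000020001010000000001, 0x1842008010100200802⟩), (2, ⟨236, 0x840000400000200000080000100000040000020001010000000001, 0x1842008010100200802⟩)]⟩]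

theorem t9_399_69 : jobs 8 S9 b8_399 j9_399_69 = true := by decide +kernel

theorem d9_399 : Dn 8 S9 b8_399 := dn_of (Js := j9_399_0 ++ (j9_399_1 ++ (j9_399_2 ++ (j9_399_3 ++ (j9_399_4 ++ (j9_399_5 ++ (j9_399_6 ++ (j9_399_7 ++ (j9_399_8 ++ (j9_399_9 ++ (j9_399_10 ++ (j9_399_11 ++ (j9_399_12 ++ (j9_399_13 ++ (j9_399_14 ++ (j9_399_15 ++ (j9_399_16 ++ (j9_399_17 ++ (j9_399_18 ++ (j9_399_19 ++ (j9_399_20 ++ (j9_399_21 ++ (j9_399_22 ++ (j9_399_23 ++ (j9_399_24 ++ (j9_399_25 ++ (j9_399_26 ++ (j9_399_27 ++ (j9_399_28 ++ (j9_399_29 ++ (j9_399_30 ++ (j9_399_31 ++ (j9_399_32 ++ (j9_399_33 ++ (j9_399_34 ++ (j9_399_35 ++ (j9_399_36 ++ (j9_399_37 ++ (j9_399_38 ++ (j9_399_39 ++ (j9_399_40 ++ (j9_399_41 ++ (j9_399_42 ++ (j9_399_43 ++ (j9_399_44 ++ (j9_399_45 ++ (j9_399_46 ++ (j9_399_47 ++ (j9_399_48 ++ (j9_399_49 ++ (j9_399_50 ++ (j9_399_51 ++ (j9_399_52 ++ (j9_399_53 ++ (j9_399_54 ++ (j9_399_55 ++ (j9_399_56 ++ (j9_399_57 ++ (j9_399_58 ++ (j9_399_59 ++ (j9_399_60 ++ (j9_399_61 ++ (j9_399_62 ++ (j9_399_63 ++ (j9_399_64 ++ (j9_399_65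 ++ (j9_399_66 ++ (j9_399_67 ++ (j9_399_68 ++ (j9_399_69 ++ []))))))))))))))))))))))))))))))))))))))))))))))))))))))))))))))))))))))
  (jobs_append t9_399_0 <| jobs_append t9_399_1 <| jobs_append t9_399_2 <| jobs_append t9_399_3 <| jobs_append t9_399_4 <| jobs_append t9_399_5 <| jobs_append t9_399_6 <| jobs_append t9_399_7 <| jobs_append t9_399_8 <| jobs_append t9_399_9 <| jobs_append t9_399_10 <| jobs_append t9_399_11 <| jobs_append t9_399_12 <| jobs_append t9_399_13 <| jobs_append t9_399_14 <| jobs_append t9_399_15 <| jobs_append t9_399_16 <| jobs_append t9_399_17 <| jobs_append t9_399_18 <| jobs_append t9_399_19 <| jobs_append t9_399_20 <| jobs_append t9_399_21 <| jobs_append t9_399_22 <| jobs_append t9_399_23 <| jobs_append t9_399_24 <| jobs_append t9_399_25 <| jobs_append t9_399_26 <| jobs_append t9_399_27 <| jobs_append t9_399_28 <| jobs_append t9_399_29 <| jobs_append t9_399_30 <| jobs_append t9_399_31 <| jobs_append t9_399_32 <| jobs_append t9_399_33 <| jobs_append t9_399_34 <| jobs_append t9_399_35 <| jobs_append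 t9_399_36 <| jobs_append t9_399_37 <| jobs_append t9_399_38 <| jobs_append t9_399_39 <| jobs_append t9_399_40 <| jobs_append t9_399_41 <| jobs_append t9_399_42 <| jobs_append t9_399_43 <| jobs_append t9_399_44 <| jobs_append t9_399_45 <| jobs_append t9_399_46 <| jobs_append t9_399_47 <| jobs_append t9_399_48 <| jobs_append t9_399_49 <| jobs_append t9_399_50 <| jobs_append t9_399_51 <| jobs_append t9_399_52 <| jobs_append t9_399_53 <| jobs_append t9_399_54 <| jobs_append t9_399_55 <| jobs_append t9_399_56 <| jobs_append t9_399_57 <| jobs_append t9_399_58 <| jobs_append t9_399_59 <| jobs_append t9_399_60 <| jobs_append t9_399_61 <| jobs_append t9_399_62 <| jobs_append t9_399_63 <| jobs_append t9_399_64 <| jobs_append t9_399_65 <| jobs_append t9_399_66 <| jobs_append t9_399_67 <| jobs_append t9_399_68 <| jobs_append t9_399_69 <| List.forall_mem_nil _) (by decide +kernel)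

end Cfsg.Agent.FS.N.Sw
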