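import Cfsg.Agent.FS.N.Sw.Seg
import Cfsg.Agent.FS.N.G.S9
import Cfsg.Agent.FS.N.G.L.L15

/-! The filter on the pairs for the order 512, part 35 (generated; helper52, project FS) -/

set_option autoImplicit false
set_option maxRecDepth 100000
set_option Elab.async false

namespace Cfsg.Agent.FS.N.Sw

open G

noncomputable def j9_407_0 : List Job := [
  ⟨63, 0x6e172ba5daf17abe5fec162b259ad16ab65be09068643e01028442c4426150bc4024140b41e0d058240e0501, 0, 168, 0x0, []⟩]

theorem t9_407_0 : jobs 8 S9 b8_407 j9_407_0 = true := by decide +kernel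

noncomputable def j9_407_1 : List Job := [
  ⟨62, 0x6e172ba5daf17abe5fec162b259ad16ab65be21128a45a311a8e47c4426150bc4024140b41e0d058240e0501, 0, 168, 0x0, []⟩]

theorem t9_407_1 : jobs 8 S9 b8_407 j9_407_1 = true := by decide +kernel

noncomputable def j9_407_2 : List Job := [
  ⟨61, 0x6110a8643e01028241c4426150bc4024140b41e0d058240e0501, 0, 168, 0x0, []⟩]

theorem t9_407_2 : jobs 8 S9 b8_407 j9_407_2 = true := by decide +kernel

noncomputable def j9_407_3 : List Job := [
  ⟨60, 0x6e172ba5daf17abe5fec162b259ad16ab65be21128a45a311a8e47c4426150bc4024140b41e0d058240e0501, 0, 168, 0x0, []⟩]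

theorem t9_407_3 : jobs 8 S9 b8_407 j9_407_3 = true := by decide +kernel

noncomputable def j9_407_4 : List Job := [
  ⟨59, 0x609068643e01028442c4426150bc4024140b41e0d058240e0501, 0, 168, 0x0, []⟩]

theorem t9_407_4 : jobs 8 S9 b8_407 j9_407_4 = true := by decide +kernel

noncomputable def j9_407_5 : List Job := [
  ⟨58, 0x6e172ba5daf17abe5fec162b259ad16ab65be21128a45a311a8e47c4c2b120a4442f100b41e0d058240e0501, 0, 168, 0x0, []⟩]

theorem t9_407_5 : jobs 8 S9 b8_407 j9_407_5 = true := by decide +kernel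

noncomputable def j9_407_6 : List Job := [
  ⟨57, 0x609068442e01028643c4c2b120a4442f100b41e0d058240e0501, 0, 168, 0x0, []⟩]

theorem t9_407_6 : jobs 8 S9 b8_407 j9_407_6 = true := by decide +kernel

noncomputable def j9_407_7 : List Job := [
  ⟨56, 0x6e172ba5daf17abe5fec162b259ad16ab65be21128a45a311a8e47c542f140b44427100941e0d058240e0501, 0, 168, 0x0, []⟩]

theorem t9_407_7 : jobs 8 S9 b8_407 j9_407_7 = true := by decide +kernel

noncomputable def j9_407_8 : List Job := [
  ⟨55, 0x609068643e01028442c4c2f120b4442b100a41e0d058240e0501, 0, 168, 0x0, []⟩]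

theorem t9_407_8 : jobs 8 S9 b8_407 j9_407_8 = true := by decide +kernel

noncomputable def j9_407_9 : List Job := [
  ⟨54, 0x621128a45a311a8e47c4c2b120a4442f100b41e0d058240e0501, 0, 168, 0x0, []⟩]

theorem t9_407_9 : jobs 8 S9 b8_407 j9_407_9 = true := by decide +kernel

noncomputable def j9_407_10 : List Job := [
  ⟨53, 0x6e172ba5daf17abe5fec162b259ad16ab65be110a8643e01028241c542f140b44427100941e0d058240e0501, 0, 168, 0x0, []⟩]

theorem t9_407_10 : jobs 8 S9 b8_407 j9_407_10 = true := by decide +kernel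

noncomputable def j9_407_11 : List Job := [
  ⟨52, 0x621128a45a311a8e47c542f140b44427100941e0d058240e0501, 0, 168, 0x0, []⟩]

theorem t9_407_11 : jobs 8 S9 b8_407 j9_407_11 = true := by decide +kernel

noncomputable def j9_407_12 : List Job := [
  ⟨51, 0x6e172ba5daf17abe5fec162b259ad16ab65be09068643e01028442c4c2f120b4442b100a41e0d058240e0501, 0, 368, 0x0, []⟩]

theorem t9_407_12 : jobs 8 S9 b8_407 j9_407_12 = true := by decide +kernel

noncomputable def j9_407_13 : List Job := [
  ⟨50, 0x44426150bc4024140b41e0d058240e0501, 0, 168, 0x0, []⟩]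

theorem t9_407_13 : jobs 8 S9 b8_407 j9_407_13 = true := by decide +kernel

noncomputable def j9_407_14 : List Job := [
  ⟨49, 0x6e172ba5daf17abe5fec162b259ad16ab65be21128a45a311a8e47e01028241a110a8643c4426150bc4024140b41e0d058240e0501, 0, 168, 0x0, []⟩]

theorem t9_407_14 : jobs 8 S9 b8_407 j9_407_14 = true := by decide +kernel

noncomputable def j9_407_15 : List Job := [
  ⟨48, 0x6e172ba5daf17abe5fec162b259ad16ab65bc4426150bc4024140b41e0d058240e0501, 0, 168, 0x0, []⟩]

theorem t9_407_15 : jobs 8 S9 b8_407 j9_407_15 = true := by decide +kernel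

noncomputable def j9_407_16 : List Job := [
  ⟨47, 0x621128a45a311a8e47e01028241a110a8643c4426150bc4024140b41e0d058240e0501, 0, 168, 0x0, []⟩]

theorem t9_407_16 : jobs 8 S9 b8_407 j9_407_16 = true := by decide +kernel

noncomputable def j9_407_17 : List Job := [
  ⟨46, 0x621128a45a311a8e47e01028241a110a8643c4426150bc4024140b41e0d058240e0501, 0, 112, 0x0, []⟩]

theorem t9_407_17 : jobs 8 S9 b8_407 j9_407_17 = true := by decide +kernel

noncomputable def j9_407_18 : List Job := [
  ⟨45, 0x6e172ba5daf17abe5fe01028241a110a8643c4426150bc4024140b41e0d058240e0501, 0, 108, 0x0, []⟩]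

theorem t9_407_18 : jobs 8 S9 b8_407 j9_407_18 = true := by decide +kernel

noncomputable def j9_407_19 : List Job := [
  ⟨44, 0x6e172ba5daf17abe5fe01028241a110a8643c4c2f120b4442b100a41e0d058240e0501, 0, 112, 0x0, []⟩]

theorem t9_407_19 : jobs 8 S9 b8_407 j9_407_19 = true := by decide +kernel

noncomputable def j9_407_20 : List Job := [
  ⟨43, 0x44426150bc4024140b41e0d058240e0501, 0, 148, 0x0, []⟩]

theorem t9_407_20 : jobs 8 S9 b8_407 j9_407_20 = true := by decide +kernel

noncomputable def j9_407_21 : List Job := [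
  ⟨42, 0x6e172ba5daf17abe5fec162b259ad16ab65be21128a45a311a8e47e01028241a110a8643c4426150bc4024140b41e0d058240e0501, 0, 148, 0x0, []⟩]

theorem t9_407_21 : jobs 8 S9 b8_407 j9_407_21 = true := by decide +kernel

noncomputable def j9_407_22 : List Job := [
  ⟨41, 0x621128a45a311a8e47e01028241a110a8643c4426150bc4024140b41e0d058240e0501, 0, 112, 0x0, []⟩]

theorem t9_407_22 : jobs 8 S9 b8_407 j9_407_22 = true := by decide +kernel

noncomputable def j9_407_23 : List Job := [
  ⟨40, 0x6e172ba5daf17abe5fe21128a45a311a8e47c4426150bc4024140b42c1f0a074241b080641e0d058240e0501, 0, 288, 0x0, []⟩]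

theorem t9_407_23 : jobs 8 S9 b8_407 j9_407_23 = true := by decide +kernel

noncomputable def j9_407_24 : List Job := [
  ⟨39, 0x6c162b259ad16ab65be01028241a110a8643c4826160bc4022140ac2c1d0a07c24190806c1e0d058240e0501, 0, 288, 0x0, []⟩]

theorem t9_407_24 : jobs 8 S9 b8_407 j9_407_24 = true := by decide +kernel

noncomputable def j9_407_25 : List Job := [
  ⟨38, 0x6e172ba5daf17abe5fe01028241a110a8643c4426150bc4024140b42c1b0a064241f080741e0d058240e0501, 0, 288, 0x0, []⟩]

theorem t9_407_25 : jobs 8 S9 b8_407 j9_407_25 = true := by decide +kernel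

noncomputable def j9_407_26 : List Job := [
  ⟨37, 0x6e172ba5daf17abe5fe01028241a110a8643c4826160bc4022140ac381f0c06c28170804c1e0d058240e0501, 0, 288, 0x0, []⟩]

theorem t9_407_26 : jobs 8 S9 b8_407 j9_407_26 = true := by decide +kernel

noncomputable def j9_407_27 : List Job := [
  ⟨36, 0x6e172ba5daf17abe5fe21128a45a311a8e47c4426150bc4024140b42c1f0a074241b080641e0d058240e0501, 0, 168, 0x0, []⟩]

theorem t9_407_27 : jobs 8 S9 b8_407 j9_407_27 = true := by decide +kernel

noncomputable def j9_407_28 : List Job := [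
  ⟨35, 0x6c162b259ad16ab65be01028241a110a8643c4426150bc4024140b42c1b0a064241f080741e0d058240e0501, 0, 168, 0x0, []⟩]

theorem t9_407_28 : jobs 8 S9 b8_407 j9_407_28 = true := by decide +kernel

noncomputable def j9_407_29 : List Job := [
  ⟨34, 0x6e172ba5daf17abe5fe21128a45a311a8e47c4426150bc4024140b42c1f0a074241b080641e0d058240e0501, 0, 168, 0x0, []⟩]

theorem t9_407_29 : jobs 8 S9 b8_407 j9_407_29 = true := by decide +kernel

noncomputable def j9_407_30 : List Job := [
  ⟨33, 0x6c162b259ad16ab65be01028241a110a8643c4826160bc4022140ac381f0c06c28170804c1e0d058240e0501, 0, 402, 0x1520801560c015a09015e09016204016608016a08016e09017208017608017a09017e0801820801860c018a09018e09019205019609019a09019e0c01a20901a60801aa0401ae0901b20801b60901ba0c01be0901c20901c60501ca0501ce0901d20901d60901da0901de0801e20801e60c01ea0901ee0901f20401f60401fa0901fe0902020c02060c020a09020e09021209021609021a09021e09022208022609022a08022e08023205023609023a08023e08024209024608024a04024e04025204025608025a05025e0902620902660c026a08026e08027209027609027a08027e0902820902860d028a08028e09029205029608029a09029e0802a20902a60902aa0802ae0802b20902b60d02ba0902be0802c20902c60902ca0402ce0802d20902d60902da0802de0902e20802e60802ea0802ee0902f20102f40102f60102f80102fa01031001031201031401,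 []⟩]

theorem t9_407_30 : jobs 8 S9 b8_407 j9_407_30 = true := by decide +kernel

noncomputable def j9_407_31 : List Job := [
  ⟨32, 0x44426150bc4024140b42c1f0a074241b080641e0d058240e0501, 0, 288, 0x0, []⟩]

theorem t9_407_31 : jobs 8 S9 b8_407 j9_407_31 = true := by decide +kernel

noncomputable def j9_407_32 : List Job := [
  ⟨31, 0x6e172ba5daf17abe5fec564b55b6c166b45be21128a45a311a8e47e05068543e0104844344826160bc4022140ac2c1d0a07c24190806c1e0d058240e0501, 0, 288, 0x0, []⟩]

theorem t9_407_32 : jobs 8 S9 b8_407 j9_407_32 = true := by decide +kernel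

noncomputable def j9_407_33 : List Job := [
  ⟨30, 0x629168e47e21128c46e01028241a110a8643c4426150bc4024140b42c1b0a064241f080741e0d058240e0501, 0, 288, 0x0, []⟩]

theorem t9_407_33 : jobs 8 S9 b8_407 j9_407_33 = true := by decide +kernel

noncomputable def j9_407_34 : List Job := [
  ⟨29, 0x625168c47621148d47e01028241a110a8643c4826160bc4022140ac381f0c06c28170804c1e0d058240e0501, 0, 288, 0x0, []⟩]

theorem t9_407_34 : jobs 8 S9 b8_407 j9_407_34 = true := by decide +kernel

noncomputable def j9_407_35 : List Job := [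
  ⟨28, 0x44426150bc4024140b42c1f0a074241b080641e0d058240e0501, 0, 168, 0x0, []⟩]

theorem t9_407_35 : jobs 8 S9 b8_407 j9_407_35 = true := by decide +kernel

noncomputable def j9_407_36 : List Job := [
  ⟨27, 0x6e172ba5daf17abe5fed16ab65bec162b259e21128a45a311a8e47e110a8643e01028241c4426150bc4024140b42c1b0a064241f080741e0d058240e0501, 0, 168, 0x0, []⟩]

theorem t9_407_36 : jobs 8 S9 b8_407 j9_407_36 = true := by decide +kernel

noncomputable def j9_407_37 : List Job := [
  ⟨26, 0x44426150bc4024140b42c1f0a074241b080641e0d058240e0501, 0, 168, 0x0, []⟩]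

theorem t9_407_37 : jobs 8 S9 b8_407 j9_407_37 = true := by decide +kernel

noncomputable def j9_407_38 : List Job := [
  ⟨25, 0x6e172ba5daf17abe5fec566b55bec164b45b621128a45a311a8e47e05068543e0104844344826160bc4022140ac381f0c06c28170804c1e0d058240e0501, 0, 402, 0x15208015a09016a08017205018609018e0901a20901ba0c01ce0901d60901ea0c01f204020608020e09021e05023208023a05024609024e09025e04027208027a08028a09029209029e0802a60502b20902ba0402ca0802d20902de0402e60802f20102f801030001030401030c01031401031c01032201, []⟩]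

theorem t9_407_38 : jobs 8 S9 b8_407 j9_407_38 = true := by decide +kernel

noncomputable def j9_407_39 : List Job := [
  ⟨24, 0x6c162b259ad16ab65bc4426150bc4024140b42c1f0a074241b080641e0d058240e0501, 0, 288, 0x0, []⟩]

theorem t9_407_39 : jobs 8 S9 b8_407 j9_407_39 = true := by decide +kernel

noncomputable def j9_407_40 : List Job := [
  ⟨23, 0x6e172ba5daf17abe5fe21128a45a311a8e47e01028241a110a8643c4426150bc4024140b42c1b0a064241f080741e0d058240e0501, 0, 288, 0x0, []⟩]

theorem t9_407_40 : jobs 8 S9 b8_407 j9_407_40 = true := by decide +kernel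

noncomputable def j9_407_41 : List Job := [
  ⟨22, 0x6c162b259ad16ab65bc4426150bc4024140b42c1f0a074241b080641e0d058240e0501, 0, 288, 0x0, []⟩]

theorem t9_407_41 : jobs 8 S9 b8_407 j9_407_41 = true := by decide +kernel

noncomputable def j9_407_42 : List Job := [
  ⟨21, 0x6e172ba5daf17abe5fe21128a45a311a8e47e01028241a110a8643c4826160bc4022140ac381f0c06c28170804c1e0d058240e0501, 0, 288, 0x0, []⟩]

theorem t9_407_42 : jobs 8 S9 b8_407 j9_407_42 = true := by decide +kernel

noncomputable def j9_407_43 : List Job := [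
  ⟨20, 0x6c162b259ad16ab65bc2c1f0a074241b080641e0d058240e0501, 0, 288, 0x0, []⟩]

theorem t9_407_43 : jobs 8 S9 b8_407 j9_407_43 = true := by decide +kernel

noncomputable def j9_407_44 : List Job := [
  ⟨19, 0x6e172ba5daf17abe5fe21128a45a311a8e47e110a8643e01028241c2c1b0a064241f080741e0d058240e0501, 0, 288, 0x0, []⟩]

theorem t9_407_44 : jobs 8 S9 b8_407 j9_407_44 = true := by decide +kernel

noncomputable def j9_407_45 : List Job := [
  ⟨18, 0x6c162b259ad16ab65bc2c1f0a074241b080641e0d058240e0501, 0, 288, 0x0, []⟩]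

theorem t9_407_45 : jobs 8 S9 b8_407 j9_407_45 = true := by decide +kernel

noncomputable def j9_407_46 : List Job := [
  ⟨17, 0x6e172ba5daf17abe5fe21128a45a311a8e47e09068643e01028442c341f0c0742417080541e0d058240e0501, 0, 288, 0x0, []⟩]

theorem t9_407_46 : jobs 8 S9 b8_407 j9_407_46 = true := by decide +kernel

noncomputable def j9_407_47 : List Job := [
  ⟨16, 0x6e172ba5daf17abe5fc64361d0fc60341c0f44c2b120a4442f100b42c1f0a074241b080641e0d058240e0501, 0, 288, 0x0, []⟩]

theorem t9_407_47 : jobs 8 S9 b8_407 j9_407_47 = true := by decide +kernel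

noncomputable def j9_407_48 : List Job := [
  ⟨15, 0x6c162b259ad16ab65be21128a45a311a8e47e110a8643e01028241c64361d0fc60341c0f4542f140b44427100942c1b0a064241f080741e0d058240e0501, 0, 288, 0x0, []⟩]

theorem t9_407_48 : jobs 8 S9 b8_407 j9_407_48 = true := by decide +kernel

noncomputable def j9_407_49 : List Job := [
  ⟨14, 0x6e172ba5daf17abe5fc64361d0fc60341c0f4542f140b44427100942c1f0a074241b080641e0d058240e0501, 0, 288, 0x0, []⟩]

theorem t9_407_49 : jobs 8 S9 b8_407 j9_407_49 = true := by decide +kernel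

noncomputable def j9_407_50 : List Job := [
  ⟨13, 0x6c162b259ad16ab65be21128a45a311a8e47e05068543e01048443468361e0fc60321c0ec4c2f120b4442b100a4381f0c06c28170804c1e0d058240e0501, 315, 333, 0x27a09028209029e0902b20802ba0902ce0c02d60402ea0902f209030e0c032208032a08033e05035209035a09036e04038208038a09039e0403a60d03ba0903c20903de0503f20903fa09040e05041609042a09043205044e04046208046a08047e0c049209049a0904ae08, []⟩]

theorem t9_407_50 : jobs 8 S9 b8_407 j9_407_50 = true := by decide +kernel

noncomputable def j9_407_51 : List Job := [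
  ⟨13, 0x6c162b259ad16ab65be21128a45a311a8e47e05068543e01048443468361e0fc60321c0ec4c2f120b4442b100a4381f0c06c28170804c1e0d058240e0501, 0, 315, 0x24208024a09025e08026605, []⟩]

theorem t9_407_51 : jobs 8 S9 b8_407 j9_407_51 = true := by decide +kernel

noncomputable def j9_407_52 : List Job := [
  ⟨12, 0x6e172ba5daf17abe5fe01028241a110a8643c2c1b0a064241f080741e0d058240e0501, 0, 112, 0x0, []⟩]

theorem t9_407_52 : jobs 8 S9 b8_407 j9_407_52 = true := by decide +kernel

noncomputable def j9_407_53 : List Job := [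
  ⟨11, 0x6e172ba5daf17abe5fe01028241a110a8643c341f0c0742417080541e0d058240e0501, 0, 112, 0x0, []⟩]

theorem t9_407_53 : jobs 8 S9 b8_407 j9_407_53 = true := by decide +kernel

noncomputable def j9_407_54 : List Job := [
  ⟨10, 0x6e574bc5fee176bd5f6c564b45bec166b55b43e1d0d8642e15098441e0d058240e0501, 0, 117, 0xda0400dc0500de0500e40500ea04, []⟩]

theorem t9_407_54 : jobs 8 S9 b8_407 j9_407_54 = true := by decide +kernel

noncomputable def j9_407_55 : List Job := [
  ⟨9, 0x621128a45a311a8e47e01028241a110a8643c3e1d0d8642e15098441e0d058240e0501, 0, 63, 0x0, []⟩]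

theorem t9_407_55 : jobs 8 S9 b8_407 j9_407_55 = true := by decide +kernel

noncomputable def j9_407_56 : List Job := [
  ⟨8, 0x625168d47e21148c47605068543e01048443468361e0fc60321c0ec4826160bc4022140ac3e1d0d8642e15098441e0d058240e0501, 0, 118, 0xce0100d00100d20100d40100d60100d80100da0100dc0100de0100e00100e20100e40100e60100e80100ea0100ec01, []⟩]

theorem t9_407_56 : jobs 8 S9 b8_407 j9_407_56 = true := by decide +kernel

noncomputable def j9_407_57 : List Job := [
  ⟨7, 0x5e0f27a3d9f0fa7e3fda0d26a359b0da6e37d80c26231990ca6633d60b25a2d970ba5e2fd40a25229950aa562bd20924a259309a4e27c1e0d058240e0501, 0, 116, 0x0, []⟩]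

theorem t9_407_57 : jobs 8 S9 b8_407 j9_407_57 = true := by decide +kernel

noncomputable def j9_407_58 : List Job := [
  ⟨6, 0x6e172ba5daf17abe5fec162b259ad16ab65be21128a45a311a8e47e01028241a110a8643de0f27a3d9f0fa7e3fda0d26a359b0da6e37d80c26231990ca6633d60b25a2d970ba5e2fd40a25229950aa562bd20924a259309a4e27c1e0d058240e0501, 0, 116, 0x0, []⟩]

theorem t9_407_58 : jobs 8 S9 b8_407 j9_407_58 = true := by decide +kernel

noncomputable def j9_407_59 : List Job := [
  ⟨5, 0x5c8e6743adc0e2763bd08864422d00824623c1e0d058240e0501, 0, 116, 0x0, []⟩]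

theorem t9_407_59 : jobs 8 S9 b8_407 j9_407_59 = true := by decide +kernel

noncomputable def j9_407_60 : List Job := [
  ⟨4, 0x6e172ba5daf17abe5fec162b259ad16ab65be21128a45a311a8e47e01028241a110a8643dc8e6743adc0e2763bd08864422d00824623c1e0d058240e0501, 0, 116, 0x0, []⟩]

theorem t9_407_60 : jobs 8 S9 b8_407 j9_407_60 = true := by decide +kernel

noncomputable def j9_407_61 : List Job := [
  ⟨3, 0x621128a45a311a8e47e01028241a110a8643de0f27a3d9f0fa7e3fda0d26a359b0da6e37d80c26231990ca6633d60b25a2d970ba5e2fd40a25229950aa562bd20924a259309a4e27c1e0d058240e0501, 0, 168, 0x0, []⟩]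

theorem t9_407_61 : jobs 8 S9 b8_407 j9_407_61 = true := by decide +kernel

noncomputable def j9_407_62 : List Job := [
  ⟨2, 0x621128a45a311a8e47e01028241a110a8643dc4e4743bdc0e6753b508864422d00824623c1e0d058240e0501, 0, 168, 0x0, []⟩]

theorem t9_407_62 : jobs 8 S9 b8_407 j9_407_62 = true := by decide +kernel

noncomputable def j9_407_63 : List Job := [
  ⟨1, 0x5e0f27a3d9f0fa7e3fda0d26a359b0da6e37d80c26231990ca6633d108a4623d00824221c1e0d058240e0501, 0, 192, 0x0, []⟩]

theorem t9_407_63 : jobs 8 S9 b8_407 j9_407_63 = true := by decide +kernel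

noncomputable def j9_407_64 : List Job := [
  ⟨0, 0x6e172ba5daf17abe5fec162b259ad16ab65be21128a45a311a8e47e01028241a110a8643de0f27a3d9f0fa7e3fda0d26a359b0da6e37d80c26231990ca6633d08864623d00824422c1e0d058240e0501, 0, 192, 0x0, []⟩]

theorem t9_407_64 : jobs 8 S9 b8_407 j9_407_64 = true := by decide +kernel

theorem d9_407 : Dn 8 S9 b8_407 := dn_of (Js := j9_407_0 ++ (j9_407_1 ++ (j9_407_2 ++ (j9_407_3 ++ (j9_407_4 ++ (j9_407_5 ++ (j9_407_6 ++ (j9_407_7 ++ (j9_407_8 ++ (j9_407_9 ++ (j9_407_10 ++ (j9_407_11 ++ (j9_407_12 ++ (j9_407_13 ++ (j9_407_14 ++ (j9_407_15 ++ (j9_407_16 ++ (j9_407_17 ++ (j9_407_18 ++ (j9_407_19 ++ (j9_407_20 ++ (j9_407_21 ++ (j9_407_22 ++ (j9_407_23 ++ (j9_407_24 ++ (j9_407_25 ++ (j9_407_26 ++ (j9_407_27 ++ (j9_407_28 ++ (j9_407_29 ++ (j9_407_30 ++ (j9_407_31 ++ (j9_407_32 ++ (j9_407_33 ++ (j9_407_34 ++ (j9_407_35 ++ (j9_407_36 ++ (j9_407_37 ++ (j9_407_38 ++ (j9_407_39 ++ (j9_407_40 ++ (j9_407_41 ++ (j9_407_42 ++ (j9_407_43 ++ (j9_407_44 ++ (j9_407_45 ++ (j9_407_46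 ++ (j9_407_47 ++ (j9_407_48 ++ (j9_407_49 ++ (j9_407_50 ++ (j9_407_51 ++ (j9_407_52 ++ (j9_407_53 ++ (j9_407_54 ++ (j9_407_55 ++ (j9_407_56 ++ (j9_407_57 ++ (j9_407_58 ++ (j9_407_59 ++ (j9_407_60 ++ (j9_407_61 ++ (j9_407_62 ++ (j9_407_63 ++ (j9_407_64 ++ [])))))))))))))))))))))))))))))))))))))))))))))))))))))))))))))))))
  (jobs_append t9_407_0 <| jobs_append t9_407_1 <| jobs_append t9_407_2 <| jobs_append t9_407_3 <| jobs_append t9_407_4 <| jobs_append t9_407_5 <| jobs_append t9_407_6 <| jobs_append t9_407_7 <| jobs_append t9_407_8 <| jobs_append t9_407_9 <| jobs_append t9_407_10 <| jobs_append t9_407_11 <| jobs_append t9_407_12 <| jobs_append t9_407_13 <| jobs_append t9_407_14 <| jobs_append t9_407_15 <| jobs_append t9_407_16 <| jobs_append t9_407_17 <| jobs_append t9_407_18 <| jobs_append t9_407_19 <| jobs_append t9_407_20 <| jobs_append t9_407_21 <| jobs_append t9_407_22 <| jobs_append t9_407_23 <| jobs_append t9_407_24 <| jobs_append t9_407_25 <| jobs_append t9_407_26 <| jobs_append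 t9_407_27 <| jobs_append t9_407_28 <| jobs_append t9_407_29 <| jobs_append t9_407_30 <| jobs_append t9_407_31 <| jobs_append t9_407_32 <| jobs_append t9_407_33 <| jobs_append t9_407_34 <| jobs_append t9_407_35 <| jobs_append t9_407_36 <| jobs_append t9_407_37 <| jobs_append t9_407_38 <| jobs_append t9_407_39 <| jobs_append t9_407_40 <| jobs_append t9_407_41 <| jobs_append t9_407_42 <| jobs_append t9_407_43 <| jobs_append t9_407_44 <| jobs_append t9_407_45 <| jobs_append t9_407_46 <| jobs_append t9_407_47 <| jobs_append t9_407_48 <| jobs_append t9_407_49 <| jobs_append t9_407_50 <| jobs_append t9_407_51 <| jobs_append t9_407_52 <| jobs_append t9_407_53 <| jobs_append t9_407_54 <| jobs_append t9_407_55 <| jobs_append t9_407_56 <| jobs_append t9_407_57 <| jobs_append t9_407_58 <| jobs_append t9_407_59 <| jobs_append t9_407_60 <| jobs_append t9_407_61 <| jobs_append t9_407_62 <| jobs_append t9_407_63 <| jobs_append t9_407_64 <| List.forall_mem_nil _) (by decide +kernel)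

noncomputable def j9_408_0 : List Job := [
  ⟨63, 0x6c162b259ad16ab65be01028241a110a8643d24944c27d20964d275008242219108a4623c4826160bc4022140ac381f0c06c28170804c1e0d058240e0501, 0, 288, 0x0, []⟩]

theorem t9_408_0 : jobs 8 S9 b8_408 j9_408_0 = true := by decide +kernel

noncomputable def j9_408_1 : List Job := [
  ⟨62, 0x6e172ba5daf17abe5fe01028241a110a8643c4426150bc4024140b42c1f0a074241b080641e0d058240e0501, 0, 288, 0x0, []⟩]

theorem t9_408_1 : jobs 8 S9 b8_408 j9_408_1 = true := by decide +kernel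

noncomputable def j9_408_2 : List Job := [
  ⟨61, 0x6e172ba5daf17abe5fe01028241a110a8643de0f27a3d9f0fa7e3fdc4e4753b5c0e6743bd20924a259309a4e27d04864523d0084442344826160bc4022140ac381f0c06c28170804c1e0d058240e0501, 0, 288, 0x0, []⟩]

theorem t9_408_2 : jobs 8 S9 b8_408 j9_408_2 = true := by decide +kernel

noncomputable def j9_408_3 : List Job := [
  ⟨60, 0x6e172ba5daf17abe5fe21128a45a311a8e47c4426150bc4024140b42c1f0a074241b080641e0d058240e0501, 0, 176, 0x0, []⟩]

theorem t9_408_3 : jobs 8 S9 b8_408 j9_408_3 = true := by decide +kernel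

noncomputable def j9_408_4 : List Job := [
  ⟨59, 0x6c162b259ad16ab65be01028241a110a8643c4426150bc4024140b42c1f0a074241b080641e0d058240e0501, 0, 176, 0x0, []⟩]

theorem t9_408_4 : jobs 8 S9 b8_408 j9_408_4 = true := by decide +kernel

noncomputable def j9_408_5 : List Job := [
  ⟨58, 0x6e172ba5daf17abe5fe21128a45a311a8e47de0f27a3d9f0fa7e3fdd0ea763bdc0e27239d20924a259309a4e27d108a4623d00824221c4426150bc4024140b42c1f0a074241b080641e0d058240e0501, 0, 176, 0x0, []⟩]

theorem t9_408_5 : jobs 8 S9 b8_408 j9_408_5 = true := by decide +kernel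

noncomputable def j9_408_6 : List Job := [
  ⟨57, 0x6c162b259ad16ab65be01028241a110a8643de0f27a3d9f0fa7e3fdc4e6753bdc0e4743b520924a259309a4e27d04864523d0084442344826160bc4022140ac381f0c06c28170804c1e0d058240e0501, 218, 194, 0x1ca0401de0801ea0801f609020209021a08021e09022a09023609024609024a09025608025e08026e09027209028208028a0802960d02b20502ca0902ce0802de0902e20802ee0902f608030201030801032001, []⟩]

theorem t9_408_6 : jobs 8 S9 b8_408 j9_408_6 = true := by decide +kernel

noncomputable def j9_408_7 : List Job := [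
  ⟨57, 0x6c162b259ad16ab65be01028241a110a8643de0f27a3d9f0fa7e3fdc4e6753bdc0e4743b520924a259309a4e27d04864523d0084442344826160bc4022140ac381f0c06c28170804c1e0d058240e0501, 0, 218, 0x16208016a09017a08017e0d019a08019e0801ae09, []⟩]

theorem t9_408_7 : jobs 8 S9 b8_408 j9_408_7 = true := by decide +kernel

noncomputable def j9_408_8 : List Job := [
  ⟨56, 0x629168c46e21128e47e01028241a110a8643c4426150bc4024140b42c1f0a074241b080641e0d058240e0501, 0, 288, 0x0, []⟩]

theorem t9_408_8 : jobs 8 S9 b8_408 j9_408_8 = true := by decide +kernel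

noncomputable def j9_408_9 : List Job := [
  ⟨55, 0x625168c47621148d47e01028241a110a8643de0f27a3d9f0fa7e3fdc4e4753b5c0e6743bd20924a259309a4e27d04864523d0084442344826160bc4022140ac381f0c06c28170804c1e0d058240e0501, 0, 288, 0x0, []⟩]

theorem t9_408_9 : jobs 8 S9 b8_408 j9_408_9 = true := by decide +kernel

noncomputable def j9_408_10 : List Job := [
  ⟨54, 0x44426150bc4024140b42c1f0a074241b080641e0d058240e0501, 0, 106, 0x0, []⟩]

theorem t9_408_10 : jobs 8 S9 b8_408 j9_408_10 = true := by decide +kernel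

noncomputable def j9_408_11 : List Job := [
  ⟨53, 0x5e0f27a3d9f0fa7e3fdd0ea763bdc0e27239d20924a259309a4e27d108a4623d00824221c4426150bc4024140b42c1f0a074241b080641e0d058240e0501, 0, 176, 0x0, []⟩]

theorem t9_408_11 : jobs 8 S9 b8_408 j9_408_11 = true := by decide +kernel

noncomputable def j9_408_12 : List Job := [
  ⟨52, 0x6e172ba5daf17abe5fec566b55bec164b45b621128a45a311a8e47e05068543e010484435e0f27a3d9f0fa7e3fdc4e6753bdc0e4743b520924a259309a4e27d04864523d0084442344826160bc4022140ac381f0c06c28170804c1e0d058240e0501, 0, 249, 0xd60800ea08013204014604016e0801820401ae0901be0401ce0101d80101ec01, []⟩]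

theorem t9_408_12 : jobs 8 S9 b8_408 j9_408_12 = true := by decide +kernel

noncomputable def j9_408_13 : List Job := [
  ⟨51, 0x6e172ba5daf17abe5fdc0e272399d0ea763bc2c1f0a074241b080641e0d058240e0501, 0, 272, 0x0, []⟩]

theorem t9_408_13 : jobs 8 S9 b8_408 j9_408_13 = true := by decide +kernel

noncomputable def j9_408_14 : List Job := [
  ⟨50, 0x6c162b259ad16ab65be21128a45a311a8e47e09068442e01028643de0f27a3d9f0fa7e3fd20924a259309a4e27d08864623d00824422c341f0c0742417080541e0d058240e0501, 0, 272, 0x0, []⟩]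

theorem t9_408_14 : jobs 8 S9 b8_408 j9_408_14 = true := by decide +kernel

noncomputable def j9_408_15 : List Job := [
  ⟨49, 0x6c162b259ad16ab65bde0f27a3d9f0fa7e3fc64361d0fc60341c0f44426150bc4024140b42c1f0a074241b080641e0d058240e0501, 0, 272, 0x0, []⟩]

theorem t9_408_15 : jobs 8 S9 b8_408 j9_408_15 = true := by decide +kernel

noncomputable def j9_408_16 : List Job := [
  ⟨48, 0x6e172ba5daf17abe5fe21128a45a311a8e47e110a8643e01028241dc0e272399d0ea763bd20924a259309a4e27d04864523d00844423468361e0fc60321c0ec4826160bc4022140ac2c1d0a07c24190806c1e0d058240e0501, 0, 272, 0x0, []⟩]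

theorem t9_408_16 : jobs 8 S9 b8_408 j9_408_16 = true := by decide +kernel

noncomputable def j9_408_17 : List Job := [
  ⟨47, 0x6e172ba5daf17abe5fe01028241a110a8643de0f27a3d9f0fa7e3fd008242219108a4623c341f0c0742417080541e0d058240e0501, 0, 108, 0x0, []⟩]

theorem t9_408_17 : jobs 8 S9 b8_408 j9_408_17 = true := by decide +kernel

noncomputable def j9_408_18 : List Job := [
  ⟨46, 0x6c162b259ad16ab65be01028241a110a8643de0f27a3d9f0fa7e3fd008242219108a4623c341f0c0742417080541e0d058240e0501, 0, 106, 0x0, []⟩]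

theorem t9_408_18 : jobs 8 S9 b8_408 j9_408_18 = true := by decide +kernel

noncomputable def j9_408_19 : List Job := [
  ⟨45, 0x6c162b259ad16ab65be01028241a110a8643de0f27a3d9f0fa7e3fd008242219108a4623c341f0c0742417080541e0d058240e0501, 0, 106, 0x0, []⟩]

theorem t9_408_19 : jobs 8 S9 b8_408 j9_408_19 = true := by decide +kernel

noncomputable def j9_408_20 : List Job := [
  ⟨44, 0x6e172ba5daf17abe5fe01028241a110a8643de0f27a3d9f0fa7e3fd008242219108a4623c341f0c0742417080541e0d058240e0501, 0, 132, 0x0, []⟩]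

theorem t9_408_20 : jobs 8 S9 b8_408 j9_408_20 = true := by decide +kernel

noncomputable def j9_408_21 : List Job := [
  ⟨43, 0x6e574bc5fee176bd5f6c564b45bec166b55b621128a45a311a8e47e01028241a110a8643de0f27a3d9f0fa7e3fdc0e272399d0ea763bc64361d0fc60341c0f44426150bc4024140b43e1d0d8642e15098441e0d058240e0501, 0, 125, 0xda0100e20100f401, []⟩]

theorem t9_408_21 : jobs 8 S9 b8_408 j9_408_21 = true := by decide +kernel

noncomputable def j9_408_22 : List Job := [
  ⟨42, 0x41e0d058240e0501, 0, 104, 0x0, []⟩]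

theorem t9_408_22 : jobs 8 S9 b8_408 j9_408_22 = true := by decide +kernel

noncomputable def j9_408_23 : List Job := [
  ⟨41, 0x6e172ba5daf17abe5fec162b259ad16ab65be21128a45a311a8e47e01028241a110a8643c1e0d058240e0501, 0, 104, 0x0, []⟩]

theorem t9_408_23 : jobs 8 S9 b8_408 j9_408_23 = true := by decide +kernel

noncomputable def j9_408_24 : List Job := [
  ⟨40, 0x41e0d058240e0501, 0, 104, 0x0, []⟩]

theorem t9_408_24 : jobs 8 S9 b8_408 j9_408_24 = true := by decide +kernel

noncomputable def j9_408_25 : List Job := [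
  ⟨39, 0x6e172ba5daf17abe5fec162b259ad16ab65be21128a45a311a8e47e01028241a110a8643c1e0d058240e0501, 0, 104, 0x0, []⟩]

theorem t9_408_25 : jobs 8 S9 b8_408 j9_408_25 = true := by decide +kernel

noncomputable def j9_408_26 : List Job := [
  ⟨38, 0x621128a45a311a8e47e01028241a110a8643c1e0d058240e0501, 0, 168, 0x0, []⟩]

theorem t9_408_26 : jobs 8 S9 b8_408 j9_408_26 = true := by decide +kernel

noncomputable def j9_408_27 : List Job := [
  ⟨37, 0x621128a45a311a8e47e01028241a110a8643c1e0d058240e0501, 0, 168, 0x0, []⟩]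

theorem t9_408_27 : jobs 8 S9 b8_408 j9_408_27 = true := by decide +kernel

noncomputable def j9_408_28 : List Job := [
  ⟨36, 0x41e0d058240e0501, 0, 168, 0x0, []⟩]

theorem t9_408_28 : jobs 8 S9 b8_408 j9_408_28 = true := by decide +kernel

noncomputable def j9_408_29 : List Job := [
  ⟨35, 0x6e172ba5daf17abe5fec162b259ad16ab65be21128a45a311a8e47e01028241a110a8643c1e0d058240e0501, 0, 168, 0x0, []⟩]

theorem t9_408_29 : jobs 8 S9 b8_408 j9_408_29 = true := by decide +kernel

noncomputable def j9_408_30 : List Job := [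
  ⟨34, 0x464361d0fc60341c0f44426150bc4024140b41e0d058240e0501, 0, 168, 0x0, []⟩]

theorem t9_408_30 : jobs 8 S9 b8_408 j9_408_30 = true := by decide +kernel

noncomputable def j9_408_31 : List Job := [
  ⟨33, 0x6e172ba5daf17abe5fec162b259ad16ab65be21128a45a311a8e47e01028241a110a8643c64361d0fc60341c0f44426150bc4024140b41e0d058240e0501, 0, 168, 0x0, []⟩]

theorem t9_408_31 : jobs 8 S9 b8_408 j9_408_31 = true := by decide +kernel

noncomputable def j9_408_32 : List Job := [
  ⟨32, 0x621128a45a311a8e47e01028241a110a8643c64361d0fc60341c0f44426150bc4024140b41e0d058240e0501, 0, 168, 0x0, []⟩]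

theorem t9_408_32 : jobs 8 S9 b8_408 j9_408_32 = true := by decide +kernel

noncomputable def j9_408_33 : List Job := [
  ⟨31, 0x621128a45a311a8e47e01028241a110a8643c64361d0fc60341c0f44426150bc4024140b41e0d058240e0501, 0, 168, 0x0, []⟩]

theorem t9_408_33 : jobs 8 S9 b8_408 j9_408_33 = true := by decide +kernel

noncomputable def j9_408_34 : List Job := [
  ⟨30, 0x464361d0fc60341c0f44426150bc4024140b41e0d058240e0501, 0, 104, 0x0, []⟩]

theorem t9_408_34 : jobs 8 S9 b8_408 j9_408_34 = true := by decide +kernel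

noncomputable def j9_408_35 : List Job := [
  ⟨29, 0x6e172ba5daf17abe5fec162b259ad16ab65be21128a45a311a8e47e01028241a110a8643c64361d0fc60341c0f44426150bc4024140b41e0d058240e0501, 0, 104, 0x0, []⟩]

theorem t9_408_35 : jobs 8 S9 b8_408 j9_408_35 = true := by decide +kernel

noncomputable def j9_408_36 : List Job := [
  ⟨28, 0x464361d0fc60341c0f44426150bc4024140b41e0d058240e0501, 0, 104, 0x0, []⟩]

theorem t9_408_36 : jobs 8 S9 b8_408 j9_408_36 = true := by decide +kernel

noncomputable def j9_408_37 : List Job := [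
  ⟨27, 0x6e172ba5daf17abe5fec162b259ad16ab65be21128a45a311a8e47e01028241a110a8643c64361d0fc60341c0f44426150bc4024140b41e0d058240e0501, 0, 248, 0x1c40101ca0101e40101e801, []⟩]

theorem t9_408_37 : jobs 8 S9 b8_408 j9_408_37 = true := by decide +kernel

noncomputable def j9_408_38 : List Job := [
  ⟨26, 0x6f17abe5fee172ba5de311a8e47e21128a45c1e0d058240e0501, 0, 108, 0x0, []⟩]

theorem t9_408_38 : jobs 8 S9 b8_408 j9_408_38 = true := by decide +kernel

noncomputable def j9_408_39 : List Job := [
  ⟨25, 0x6c162b259ad16ab65be01028241a110a8643c1e0d058240e0501, 0, 108, 0x0, []⟩]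

theorem t9_408_39 : jobs 8 S9 b8_408 j9_408_39 = true := by decide +kernel

noncomputable def j9_408_40 : List Job := [
  ⟨24, 0x6e976bc5eee172be5fe29168c46e21128e47c1e0d058240e0501, 0, 108, 0x0, []⟩]

theorem t9_408_40 : jobs 8 S9 b8_408 j9_408_40 = true := by decide +kernel

noncomputable def j9_408_41 : List Job := [
  ⟨23, 0x6c162b259ad16ab65be01028241a110a8643c1e0d058240e0501, 0, 108, 0x0, []⟩]

theorem t9_408_41 : jobs 8 S9 b8_408 j9_408_41 = true := by decide +kernel

noncomputable def j9_408_42 : List Job := [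
  ⟨22, 0x6e172ba5daf17abe5fe110a8643e01028241c1e0d058240e0501, 0, 176, 0x0, []⟩]

theorem t9_408_42 : jobs 8 S9 b8_408 j9_408_42 = true := by decide +kernel

noncomputable def j9_408_43 : List Job := [
  ⟨21, 0x6e172ba5daf17abe5fe09068643e01028442c1e0d058240e0501, 0, 176, 0x0, []⟩]

theorem t9_408_43 : jobs 8 S9 b8_408 j9_408_43 = true := by decide +kernel

noncomputable def j9_408_44 : List Job := [
  ⟨20, 0x6e574bc5fee176bd5f629168c46e21128e47c1e0d058240e0501, 0, 168, 0x0, []⟩]

theorem t9_408_44 : jobs 8 S9 b8_408 j9_408_44 = true := by decide +kernel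

noncomputable def j9_408_45 : List Job := [
  ⟨19, 0x6c162b259ad16ab65be01028241a110a8643c1e0d058240e0501, 0, 168, 0x0, []⟩]

theorem t9_408_45 : jobs 8 S9 b8_408 j9_408_45 = true := by decide +kernel

noncomputable def j9_408_46 : List Job := [
  ⟨18, 0x6e172ba5daf17abe5fe21128a45a311a8e47c64361d0fc60341c0f44426150bc4024140b41e0d058240e0501, 0, 168, 0x0, []⟩]

theorem t9_408_46 : jobs 8 S9 b8_408 j9_408_46 = true := by decide +kernel

noncomputable def j9_408_47 : List Job := [
  ⟨17, 0x6c564b55b6c166b45be09068643e01028442c64361d0fc60341c0f44426150bc4024140b41e0d058240e0501, 0, 168, 0x0, []⟩]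

theorem t9_408_47 : jobs 8 S9 b8_408 j9_408_47 = true := by decide +kernel

noncomputable def j9_408_48 : List Job := [
  ⟨16, 0x6e574bd5f6e176bc5fe01028241a110a8643c64361d0fc60341c0f44426150bc4024140b41e0d058240e0501, 0, 176, 0x0, []⟩]

theorem t9_408_48 : jobs 8 S9 b8_408 j9_408_48 = true := by decide +kernel

noncomputable def j9_408_49 : List Job := [
  ⟨15, 0x6e574bc5fee176bd5f601028241a110a8643c64361d0fc60341c0f44426150bc4024140b41e0d058240e0501, 0, 176, 0x0, []⟩]

theorem t9_408_49 : jobs 8 S9 b8_408 j9_408_49 = true := by decide +kernel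

noncomputable def j9_408_50 : List Job := [
  ⟨14, 0x6e172ba5daf17abe5fe21128a45a311a8e47c64361d0fc60341c0f44426150bc4024140b41e0d058240e0501, 0, 108, 0x0, []⟩]

theorem t9_408_50 : jobs 8 S9 b8_408 j9_408_50 = true := by decide +kernel

noncomputable def j9_408_51 : List Job := [
  ⟨13, 0x6d16ab65bec162b259e110a8643e01028241c64361d0fc60341c0f44426150bc4024140b41e0d058240e0501, 0, 108, 0x0, []⟩]

theorem t9_408_51 : jobs 8 S9 b8_408 j9_408_51 = true := by decide +kernel

noncomputable def j9_408_52 : List Job := [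
  ⟨12, 0x6e172ba5daf17abe5fe21128a45a311a8e47c64361d0fc60341c0f44426150bc4024140b41e0d058240e0501, 0, 108, 0x0, []⟩]

theorem t9_408_52 : jobs 8 S9 b8_408 j9_408_52 = true := by decide +kernel

noncomputable def j9_408_53 : List Job := [
  ⟨11, 0x6c966b65bec162b45ae09068643e01028442c64361d0fc60341c0f44426150bc4024140b41e0d058240e0501, 0, 250, 0x1ca0101cc0101ce0101d00101d20101d40101d60101d80101da0101dc0101de0101e00101e20101e40101e60101e80101ea0101ec0101ee0101f00101f20101f401, []⟩]

theorem t9_408_53 : jobs 8 S9 b8_408 j9_408_53 = true := by decide +kernel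

noncomputable def j9_408_54 : List Job := [
  ⟨10, 0x621128a45a311a8e47c1e0d058240e0501, 0, 168, 0x0, []⟩]

theorem t9_408_54 : jobs 8 S9 b8_408 j9_408_54 = true := by decide +kernel

noncomputable def j9_408_55 : List Job := [
  ⟨9, 0x6e172ba5daf17abe5fec162b259ad16ab65be01028241a110a8643c1e0d058240e0501, 0, 168, 0x0, []⟩]

theorem t9_408_55 : jobs 8 S9 b8_408 j9_408_55 = true := by decide +kernel

noncomputable def j9_408_56 : List Job := [
  ⟨8, 0x621128a45a311a8e47c1e0d058240e0501, 0, 168, 0x0, []⟩]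

theorem t9_408_56 : jobs 8 S9 b8_408 j9_408_56 = true := by decide +kernel

noncomputable def j9_408_57 : List Job := [
  ⟨7, 0x6e172ba5daf17abe5fec162b259ad16ab65be01028241a110a8643c1e0d058240e0501, 0, 168, 0x0, []⟩]

theorem t9_408_57 : jobs 8 S9 b8_408 j9_408_57 = true := by decide +kernel

noncomputable def j9_408_58 : List Job := [
  ⟨6, 0x6e172ba5daf17abe5fec162b259ad16ab65be21128a45a311a8e47c64361d0fc60341c0f44426150bc4024140b41e0d058240e0501, 0, 168, 0x0, []⟩]

theorem t9_408_58 : jobs 8 S9 b8_408 j9_408_58 = true := by decide +kernel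

noncomputable def j9_408_59 : List Job := [
  ⟨5, 0x601028241a110a8643c64361d0fc60341c0f44426150bc4024140b41e0d058240e0501, 0, 168, 0x0, []⟩]

theorem t9_408_59 : jobs 8 S9 b8_408 j9_408_59 = true := by decide +kernel

noncomputable def j9_408_60 : List Job := [
  ⟨4, 0x6e172ba5daf17abe5fec162b259ad16ab65be21128a45a311a8e47c64361d0fc60341c0f44426150bc4024140b41e0d058240e0501, 0, 168, 0x0, []⟩]

theorem t9_408_60 : jobs 8 S9 b8_408 j9_408_60 = true := by decide +kernel

noncomputable def j9_408_61 : List Job := [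
  ⟨3, 0x601028241a110a8643c64361d0fc60341c0f44426150bc4024140b41e0d058240e0501, 0, 168, 0x0, []⟩]

theorem t9_408_61 : jobs 8 S9 b8_408 j9_408_61 = true := by decide +kernel

noncomputable def j9_408_62 : List Job := [
  ⟨2, 0x621128a45a311a8e47c4426150bc4024140b41e0d058240e0501, 0, 168, 0x0, []⟩]

theorem t9_408_62 : jobs 8 S9 b8_408 j9_408_62 = true := by decide +kernel

noncomputable def j9_408_63 : List Job := [
  ⟨1, 0x6e172ba5daf17abe5fec162b259ad16ab65be09068442e01028643c4426150bc4024140b41e0d058240e0501, 0, 168, 0x0, []⟩]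

theorem t9_408_63 : jobs 8 S9 b8_408 j9_408_63 = true := by decide +kernel

noncomputable def j9_408_64 : List Job := [
  ⟨0, 0x621128a45a311a8e47c4426150bc4024140b41e0d058240e0501, 0, 168, 0x0, []⟩]

theorem t9_408_64 : jobs 8 S9 b8_408 j9_408_64 = true := by decide +kernel

theorem d9_408 : Dn 8 S9 b8_408 := dn_of (Js := j9_408_0 ++ (j9_408_1 ++ (j9_408_2 ++ (j9_408_3 ++ (j9_408_4 ++ (j9_408_5 ++ (j9_408_6 ++ (j9_408_7 ++ (j9_408_8 ++ (j9_408_9 ++ (j9_408_10 ++ (j9_408_11 ++ (j9_408_12 ++ (j9_408_13 ++ (j9_408_14 ++ (j9_408_15 ++ (j9_408_16 ++ (j9_408_17 ++ (j9_408_18 ++ (j9_408_19 ++ (j9_408_20 ++ (j9_408_21 ++ (j9_408_22 ++ (j9_408_23 ++ (j9_408_24 ++ (j9_408_25 ++ (j9_408_26 ++ (j9_408_27 ++ (j9_408_28 ++ (j9_408_29 ++ (j9_408_30 ++ (j9_408_31 ++ (j9_408_32 ++ (j9_408_33 ++ (j9_408_34 ++ (j9_408_35 ++ (j9_408_36 ++ (j9_408_37 ++ (j9_408_38 ++ (j9_408_39 ++ (j9_408_40 ++ (j9_408_41 ++ (j9_408_42 ++ (j9_408_43 ++ (j9_408_44 ++ (j9_408_45 ++ (j9_408_46 ++ (j9_408_47 ++ (j9_408_48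 ++ (j9_408_49 ++ (j9_408_50 ++ (j9_408_51 ++ (j9_408_52 ++ (j9_408_53 ++ (j9_408_54 ++ (j9_408_55 ++ (j9_408_56 ++ (j9_408_57 ++ (j9_408_58 ++ (j9_408_59 ++ (j9_408_60 ++ (j9_408_61 ++ (j9_408_62 ++ (j9_408_63 ++ (j9_408_64 ++ [])))))))))))))))))))))))))))))))))))))))))))))))))))))))))))))))))
  (jobs_append t9_408_0 <| jobs_append t9_408_1 <| jobs_append t9_408_2 <| jobs_append t9_408_3 <| jobs_append t9_408_4 <| jobs_append t9_408_5 <| jobs_append t9_408_6 <| jobs_append t9_408_7 <| jobs_append t9_408_8 <| jobs_append t9_408_9 <| jobs_append t9_408_10 <| jobs_append t9_408_11 <| jobs_append t9_408_12 <| jobs_append t9_408_13 <| jobs_append t9_408_14 <| jobs_append t9_408_15 <| jobs_append t9_408_16 <| jobs_append t9_408_17 <| jobs_append t9_408_18 <| jobs_append t9_408_19 <| jobs_append t9_408_20 <| jobs_append t9_408_21 <| jobs_append t9_408_22 <| jobs_append t9_408_23 <| jobs_append t9_408_24 <| jobs_append t9_408_25 <| jobs_append t9_408_26 <| jobs_append t9_408_27 <| jobs_append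 t9_408_28 <| jobs_append t9_408_29 <| jobs_append t9_408_30 <| jobs_append t9_408_31 <| jobs_append t9_408_32 <| jobs_append t9_408_33 <| jobs_append t9_408_34 <| jobs_append t9_408_35 <| jobs_append t9_408_36 <| jobs_append t9_408_37 <| jobs_append t9_408_38 <| jobs_append t9_408_39 <| jobs_append t9_408_40 <| jobs_append t9_408_41 <| jobs_append t9_408_42 <| jobs_append t9_408_43 <| jobs_append t9_408_44 <| jobs_append t9_408_45 <| jobs_append t9_408_46 <| jobs_append t9_408_47 <| jobs_append t9_408_48 <| jobs_append t9_408_49 <| jobs_append t9_408_50 <| jobs_append t9_408_51 <| jobs_append t9_408_52 <| jobs_append t9_408_53 <| jobs_append t9_408_54 <| jobs_append t9_408_55 <| jobs_append t9_408_56 <| jobs_append t9_408_57 <| jobs_append t9_408_58 <| jobs_append t9_408_59 <| jobs_append t9_408_60 <| jobs_append t9_408_61 <| jobs_append t9_408_62 <| jobs_append t9_408_63 <| jobs_append t9_408_64 <| List.forall_mem_nil _) (by decide +kernel)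

end Cfsg.Agent.FS.N.Sw
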