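import Cfsg.Agent.FS.N.Sw.Seg
import Cfsg.Agent.FS.N.G.S9
import Cfsg.Agent.FS.N.G.L.L15

/-! The filter on the pairs for the order 512, part 38 (generated; helper52, project FS) -/

set_option autoImplicit false
set_option maxRecDepth 100000
set_option Elab.async false

namespace Cfsg.Agent.FS.N.Sw

open G

noncomputable def j9_413_0 : List Job := [
  ⟨63, 0x6e172ba5daf17abe5fea152aa55ab15aae57e41229249a512a964be01028241a110a8643dc0e272399d0ea763bc24160d07c20140c0741e0d058240e0501, 0, 288, 0x0, []⟩]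

theorem t9_413_0 : jobs 8 S9 b8_413 j9_413_0 = true := by decide +kernel

noncomputable def j9_413_1 : List Job := [
  ⟨62, 0x5e0f27a3d9f0fa7e3fd20924a259309a4e27d108a4623d00824221c24160d07c20140c0741e0d058240e0501, 0, 288, 0x0, []⟩]

theorem t9_413_1 : jobs 8 S9 b8_413 j9_413_1 = true := by decide +kernel

noncomputable def j9_413_2 : List Job := [
  ⟨61, 0x6e172ba5daf17abe5fea152aa55ab15aae57e41229249a512a964be01028241a110a8643de0f27a3d9f0fa7e3fd20924a259309a4e27d08864623d00824422c24160d07c20140c0741e0d058240e0501, 0, 288, 0x0, []⟩]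

theorem t9_413_2 : jobs 8 S9 b8_413 j9_413_2 = true := by decide +kernel

noncomputable def j9_413_3 : List Job := [
  ⟨60, 0x6e172ba5daf17abe5fea152aa55ab15aae57dc0e272399d0ea763bc24160d07c20140c0741e0d058240e0501, 0, 288, 0x0, []⟩]

theorem t9_413_3 : jobs 8 S9 b8_413 j9_413_3 = true := by decide +kernel

noncomputable def j9_413_4 : List Job := [
  ⟨59, 0x641229249a512a964be01028241a110a8643dc0e272399d0ea763bc24160d07c20140c0741e0d058240e0501, 0, 288, 0x0, []⟩]

theorem t9_413_4 : jobs 8 S9 b8_413 j9_413_4 = true := by decide +kernel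

noncomputable def j9_413_5 : List Job := [
  ⟨58, 0x6e172ba5daf17abe5fea152aa55ab15aae57de0f27a3d9f0fa7e3fd20924a259309a4e27d108a4623d00824221c24160d07c20140c0741e0d058240e0501, 0, 288, 0x0, []⟩]

theorem t9_413_5 : jobs 8 S9 b8_413 j9_413_5 = true := by decide +kernel

noncomputable def j9_413_6 : List Job := [
  ⟨57, 0x641229249a512a964be01028241a110a8643de0f27a3d9f0fa7e3fd20924a259309a4e27d08864623d00824422c24160d07c20140c0741e0d058240e0501, 0, 288, 0x0, []⟩]

theorem t9_413_6 : jobs 8 S9 b8_413 j9_413_6 = true := by decide +kernel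

noncomputable def j9_413_7 : List Job := [
  ⟨56, 0x6a152aa55ab15aae57e01028241a110a8643dc0e272399d0ea763bd008242219108a4623c24160d07c20140c0741e0d058240e0501, 0, 168, 0x0, []⟩]

theorem t9_413_7 : jobs 8 S9 b8_413 j9_413_7 = true := by decide +kernel

noncomputable def j9_413_8 : List Job := [
  ⟨55, 0x6c162b259ad16ab65be8946a653e8142a452dc4e6743b5c0e4753bda0d26a359b0da6e37c1e0d058240e0501, 0, 168, 0x0, []⟩]

theorem t9_413_8 : jobs 8 S9 b8_413 j9_413_8 = true := by decide +kernel

noncomputable def j9_413_9 : List Job := [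
  ⟨54, 0x6e576bc5f6e174bd5fea152aa55ab15aae57e61329a4da713a9e4fe41229249a512a964bde0f27a3d9f0fa7e3fd88c66633d80c26432d60b25a2d970ba5e2fd40a25229950aa562bc1e0d058240e0501, 0, 168, 0x0, []⟩]

theorem t9_413_9 : jobs 8 S9 b8_413 j9_413_9 = true := by decide +kernel

noncomputable def j9_413_10 : List Job := [
  ⟨53, 0x6c162b259ad16ab65bea152aa55ab15aae57e61329a4da713a9e4fe41229249a512a964bde0f27a3d9f0fa7e3fda0d26a359b0da6e37c1e0d058240e0501, 0, 184, 0x0, []⟩]

theorem t9_413_10 : jobs 8 S9 b8_413 j9_413_10 = true := by decide +kernel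

noncomputable def j9_413_11 : List Job := [
  ⟨52, 0x6e576bc5f6e174bd5fe914aa653e8142a251de0f27a3d9f0fa7e3fda0d26a359b0da6e37c1e0d058240e0501, 0, 176, 0x0, []⟩]

theorem t9_413_11 : jobs 8 S9 b8_413 j9_413_11 = true := by decide +kernel

noncomputable def j9_413_12 : List Job := [
  ⟨51, 0x6c162b259ad16ab65bea152aa55ab15aae57e61329a4da713a9e4fe41229249a512a964bdc4e6743b5c0e4753bd90ca6633d80c26231d60b25a2d970ba5e2fd40a25229950aa562bc1e0d058240e0501, 0, 192, 0x0, []⟩]

theorem t9_413_12 : jobs 8 S9 b8_413 j9_413_12 = true := by decide +kernel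

noncomputable def j9_413_13 : List Job := [
  ⟨50, 0x6e574bc5fee176bd5f68946a452e8142a653dc4e4753b5c0e6743bd88c66633d80c26432d60b25a2d970ba5e2fd40a25229950aa562bc1e0d058240e0501, 0, 184, 0x0, []⟩]

theorem t9_413_13 : jobs 8 S9 b8_413 j9_413_13 = true := by decide +kernel

noncomputable def j9_413_14 : List Job := [
  ⟨49, 0x6e172ba5daf17abe5fea152aa55ab15aae57e61329a4da713a9e4fe41229249a512a964bde0f27a3d9f0fa7e3fda0d26a359b0da6e37d60b25a2d970ba5e2fd40a25229950aa562bc1e0d058240e0501, 0, 68, 0x0, []⟩]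

theorem t9_413_14 : jobs 8 S9 b8_413 j9_413_14 = true := by decide +kernel

noncomputable def j9_413_15 : List Job := [
  ⟨48, 0x6e172ba5daf17abe5fea152aa55ab15aae57e61329a4da713a9e4fe41229249a512a964bde0f27a3d9f0fa7e3fdc0e272399d0ea763bda0d26a359b0da6e37d80c26231990ca6633d64b65c2f560b45d2fc1e0d058240e0501, 0, 102, 0x0, []⟩]

theorem t9_413_15 : jobs 8 S9 b8_413 j9_413_15 = true := by decide +kernel

noncomputable def j9_413_16 : List Job := [
  ⟨47, 0x641229249a512a964bd40a25229950aa562bc1e0d058240e0501, 0, 86, 0x0, []⟩]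

theorem t9_413_16 : jobs 8 S9 b8_413 j9_413_16 = true := by decide +kernel

noncomputable def j9_413_17 : List Job := [
  ⟨46, 0x641229249a512a964bde0f27a3d9f0fa7e3fdc0e272399d0ea763bda0d26a359b0da6e37d80c26231990ca6633d60b25a2d970ba5e2fc1e0d058240e0501, 0, 152, 0x0, []⟩]

theorem t9_413_17 : jobs 8 S9 b8_413 j9_413_17 = true := by decide +kernel

noncomputable def j9_413_18 : List Job := [
  ⟨45, 0x6e172ba5daf17abe5fec162b259ad16ab65bea152aa55ab15aae57e8142a251a914aa653e61329a4da713a9e4fde0f27a3d9f0fa7e3fdc0e272399d0ea763bda0d26a359b0da6e37d80c26231990ca6633d60b25a2d970ba5e2fc1e0d058240e0501, 0, 86, 0x0, []⟩]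

theorem t9_413_18 : jobs 8 S9 b8_413 j9_413_18 = true := by decide +kernel

noncomputable def j9_413_19 : List Job := [
  ⟨44, 0x6e172ba5daf17abe5fec162b259ad16ab65be713a9e4fe61329a4dda0d26a359b0da6e37d80c26231990ca6633d48a6562bd40a2542ac1e0d058240e0501, 0, 148, 0x0, []⟩]

theorem t9_413_19 : jobs 8 S9 b8_413 j9_413_19 = true := by decide +kernel

noncomputable def j9_413_20 : List Job := [
  ⟨43, 0x6e172ba5daf17abe5fec162b259ad16ab65be61329a4da713a9e4fe41229249a512a964bde0f27a3d9f0fa7e3fdc0e272399d0ea763bda0d26a359b0da6e37d80c26231990ca6633c1e0d058240e0501, 0, 94, 0x0, []⟩]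

theorem t9_413_20 : jobs 8 S9 b8_413 j9_413_20 = true := by decide +kernel

noncomputable def j9_413_21 : List Job := [
  ⟨42, 0x6e172ba5daf17abe5fec162b259ad16ab65be61329a4da713a9e4fe41229249a512a964bd60b25a2d970ba5e2fd40a25229950aa562bc1e0d058240e0501, 0, 168, 0x0, []⟩]

theorem t9_413_21 : jobs 8 S9 b8_413 j9_413_21 = true := by decide +kernel

noncomputable def j9_413_22 : List Job := [
  ⟨41, 0x6a152aa55ab15aae57e8142a251a914aa653d60b25a2d970ba5e2fd40a25229950aa562bc1e0d058240e0501, 0, 94, 0x0, []⟩]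

theorem t9_413_22 : jobs 8 S9 b8_413 j9_413_22 = true := by decide +kernel

noncomputable def j9_413_23 : List Job := [
  ⟨40, 0x661329a4da713a9e4fdc0e272399d0ea763bda0d26a359b0da6e37d60b25a2d970ba5e2fd40a25229950aa562bc2c1b0a064241f080741e0d058240e0501, 0, 272, 0x0, []⟩]

theorem t9_413_23 : jobs 8 S9 b8_413 j9_413_23 = true := by decide +kernel

noncomputable def j9_413_24 : List Job := [
  ⟨39, 0x6e172ba5daf17abe5fec564b55b6c166b45bea152aa55ab15aae57e8946a653e8142a452e41229249a512a964bdc0e272399d0ea763bda0d26a359b0da6e37d60b25a2d970ba5e2fd40a25229950aa562bc2c1b0a064241f080741e0d058240e0501, 0, 272, 0x0, []⟩]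

theorem t9_413_24 : jobs 8 S9 b8_413 j9_413_24 = true := by decide +kernel

noncomputable def j9_413_25 : List Job := [
  ⟨38, 0x661329a4da713a9e4fde0f27a3d9f0fa7e3fd80c26231990ca6633c2c1b0a064241f080741e0d058240e0501, 0, 272, 0x0, []⟩]

theorem t9_413_25 : jobs 8 S9 b8_413 j9_413_25 = true := by decide +kernel

noncomputable def j9_413_26 : List Job := [
  ⟨37, 0x6e172ba5daf17abe5fec564b55b6c166b45bea152aa55ab15aae57e8546a553e8144a453641229249a512a964bde0f27a3d9f0fa7e3fd80c26231990ca6633c381f0c06c28170804c1e0d058240e0501, 0, 272, 0x0, []⟩]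

theorem t9_413_26 : jobs 8 S9 b8_413 j9_413_26 = true := by decide +kernel

noncomputable def j9_413_27 : List Job := [
  ⟨36, 0x6e172ba5daf17abe5fea152aa55ab15aae57e41229249a512a964bda4d66c375a0d46d37d90ca6633d80c26231d60b25a2d970ba5e2fd40a25229950aa562bc2c1b0a064241f080741e0d058240e0501, 0, 288, 0x0, []⟩]

theorem t9_413_27 : jobs 8 S9 b8_413 j9_413_27 = true := by decide +kernel

noncomputable def j9_413_28 : List Job := [
  ⟨35, 0x6e172ba5daf17abe5fea152aa55ab15aae57e41229249a512a964bde0f27a3d9f0fa7e3fdc0e272399d0ea763bc2c1b0a064241f080741e0d058240e0501, 0, 288, 0x0, []⟩]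

theorem t9_413_28 : jobs 8 S9 b8_413 j9_413_28 = true := by decide +kernel

noncomputable def j9_413_29 : List Job := [
  ⟨34, 0x6e574bd5f6e176bc5fe8946a653e8142a452e61329a4da713a9e4fe41229249a512a964bc1e0d058240e0501, 0, 168, 0x0, []⟩]

theorem t9_413_29 : jobs 8 S9 b8_413 j9_413_29 = true := by decide +kernel

noncomputable def j9_413_30 : List Job := [
  ⟨33, 0x6c162b259ad16ab65bea152aa55ab15aae57c1e0d058240e0501, 0, 160, 0x0, []⟩]

theorem t9_413_30 : jobs 8 S9 b8_413 j9_413_30 = true := by decide +kernel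

noncomputable def j9_413_31 : List Job := [
  ⟨32, 0x6e574bd5f6e176bc5fe8946a653e8142a452e61329a4da713a9e4fe41229249a512a964bd28964c26d20924e27d08864422d00824623c1e0d058240e0501, 0, 176, 0x0, []⟩]

theorem t9_413_31 : jobs 8 S9 b8_413 j9_413_31 = true := by decide +kernel

noncomputable def j9_413_32 : List Job := [
  ⟨31, 0x6c162b259ad16ab65bea152aa55ab15aae57d28964c26d20924e27d08864422d00824623c1e0d058240e0501, 0, 168, 0x0, []⟩]

theorem t9_413_32 : jobs 8 S9 b8_413 j9_413_32 = true := by decide +kernel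

noncomputable def j9_413_33 : List Job := [
  ⟨30, 0x6c162b259ad16ab65bea152aa55ab15aae57e61329a4da713a9e4fe41229249a512a964bc1e0d058240e0501, 0, 168, 0x0, []⟩]

theorem t9_413_33 : jobs 8 S9 b8_413 j9_413_33 = true := by decide +kernel

noncomputable def j9_413_34 : List Job := [
  ⟨29, 0x6e574bc5fee176bd5f68946a452e8142a653c1e0d058240e0501, 0, 160, 0x0, []⟩]

theorem t9_413_34 : jobs 8 S9 b8_413 j9_413_34 = true := by decide +kernel

noncomputable def j9_413_35 : List Job := [
  ⟨28, 0x6c162b259ad16ab65bea152aa55ab15aae57e61329a4da713a9e4fe41229249a512a964bd28964c26d20924e27d08864422d00824623c1e0d058240e0501, 0, 176, 0x0, []⟩]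

theorem t9_413_35 : jobs 8 S9 b8_413 j9_413_35 = true := by decide +kernel

noncomputable def j9_413_36 : List Job := [
  ⟨27, 0x6e574bc5fee176bd5f68946a452e8142a653d309a4e27d20924a25d108a4623d00824221c1e0d058240e0501, 0, 168, 0x0, []⟩]

theorem t9_413_36 : jobs 8 S9 b8_413 j9_413_36 = true := by decide +kernel

noncomputable def j9_413_37 : List Job := [
  ⟨26, 0x6e172ba5daf17abe5fea152aa55ab15aae57e61329a4da713a9e4fe41229249a512a964bc1e0d058240e0501, 0, 94, 0x0, []⟩]

theorem t9_413_37 : jobs 8 S9 b8_413 j9_413_37 = true := by decide +kernel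

noncomputable def j9_413_38 : List Job := [
  ⟨25, 0x6d16ab65bec162b259e914aa653e8142a251d28964c26d20924e27d08864422d00824623c1e0d058240e0501, 0, 94, 0x0, []⟩]

theorem t9_413_38 : jobs 8 S9 b8_413 j9_413_38 = true := by decide +kernel

noncomputable def j9_413_39 : List Job := [
  ⟨24, 0x6e172ba5daf17abe5fec162b259ad16ab65bea152aa55ab15aae57e8142a251a914aa653e65349d4f661369c4fc1e0d058240e0501, 0, 102, 0x0, []⟩]

theorem t9_413_39 : jobs 8 S9 b8_413 j9_413_39 = true := by decide +kernel

noncomputable def j9_413_40 : List Job := [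
  ⟨23, 0x6e172ba5daf17abe5fea152aa55ab15aae57e61329a4da713a9e4fe41229249a512a964bd188f4422d08874020c1e0d058240e0501, 0, 102, 0x204000404000605000805000a05000c05000e0d00100400120d00140800160d001808001a05001c04001e0400200500220400240500260c002804002a0c002c05002e09003004003205003409003605003804003a09003c05003e09004005004205004409004604004809004a05004c0c004e05005004005204005404005605005804005a05005c05005e0400600d006208006405006604, []⟩]

theorem t9_413_40 : jobs 8 S9 b8_413 j9_413_40 = true := by decide +kernel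

noncomputable def j9_413_41 : List Job := [
  ⟨22, 0x641229249a512a964bd309a4e27d20924a25c1e0d058240e0501, 0, 152, 0x0, []⟩]

theorem t9_413_41 : jobs 8 S9 b8_413 j9_413_41 = true := by decide +kernel

noncomputable def j9_413_42 : List Job := [
  ⟨21, 0x6e172ba5daf17abe5fec162b259ad16ab65bea152aa55ab15aae57e8142a251a914aa653e61329a4da713a9e4fd309a4e27d20924a25c1e0d058240e0501, 0, 152, 0x0, []⟩]

theorem t9_413_42 : jobs 8 S9 b8_413 j9_413_42 = true := by decide +kernel

noncomputable def j9_413_43 : List Job := [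
  ⟨20, 0x641229249a512a964bd188f4422d08874020c1e0d058240e0501, 0, 152, 0x20c00040d00060c00080d000a09000c09000e0500100400120d001404001605001804001a09001c09001e0900200500220400240c00260d002808002a09002c0c002e0900300400320d003409003605003805003a04003c0c003e0d004009004209004405004604004805004a04004c09004e0c005004005208005405005604005809005a09005c08005e0400600800620c00640d00660d006809006a05006c05006e0c007009007205007408007608007805007a09007c08007e0d00800800820c00840d008605008809008a09008c04008e0800900c00920c00940c00960d00980d, []⟩]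

theorem t9_413_43 : jobs 8 S9 b8_413 j9_413_43 = true := by decide +kernel

noncomputable def j9_413_44 : List Job := [
  ⟨19, 0x6e172ba5daf17abe5fec162b259ad16ab65bea152aa55ab15aae57e8142a251a914aa653e61329a4da713a9e4fd188f4422d08874020c1e0d058240e0501, 0, 152, 0x204000405000608000809000a08000c08000e0800100800120900140c00160800180d001a0c001c08001e0800200400220500240d002605002804002a0d002c04002e0c00300d00320900340800360d003808003a0d003c08003e0500400800420d00440800460800480d004a08004c0d004e0d00500800520d005409005605005804005a0c005c08005e0c00600c00620400640400660d006809006a09006c0d006e0d00700800720400740c00760c007805007a0c007c04007e0900800d008204008405008608008805008a04008c05008e0c00900c009208009409009604009804, []⟩]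

theorem t9_413_44 : jobs 8 S9 b8_413 j9_413_44 = true := by decide +kernel

noncomputable def j9_413_45 : List Job := [
  ⟨18, 0x6e172ba5daf17abe5fec162b259ad16ab65be61329a4da713a9e4fe41229249a512a964bc1e0d058240e0501, 0, 168, 0x0, []⟩]

theorem t9_413_45 : jobs 8 S9 b8_413 j9_413_45 = true := by decide +kernel

noncomputable def j9_413_46 : List Job := [
  ⟨17, 0x6a152aa55ab15aae57e8142a251a914aa653c1e0d058240e0501, 0, 168, 0x0, []⟩]

theorem t9_413_46 : jobs 8 S9 b8_413 j9_413_46 = true := by decide +kernel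

noncomputable def j9_413_47 : List Job := [
  ⟨16, 0x6e172ba5daf17abe5fec162b259ad16ab65be61329a4da713a9e4fe41229249a512a964bd28964c26d20924e27d08864422d00824623c1e0d058240e0501, 0, 168, 0x0, []⟩]

theorem t9_413_47 : jobs 8 S9 b8_413 j9_413_47 = true := by decide +kernel

noncomputable def j9_413_48 : List Job := [
  ⟨15, 0x6a152aa55ab15aae57e8142a251a914aa653d309a4e27d20924a25d108a4623d00824221c1e0d058240e0501, 0, 168, 0x0, []⟩]

theorem t9_413_48 : jobs 8 S9 b8_413 j9_413_48 = true := by decide +kernel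

noncomputable def j9_413_49 : List Job := [
  ⟨14, 0x6c162b259ad16ab65bea152aa55ab15aae57e61329a4da713a9e4fe41229249a512a964bd309a4e27d20924a25c341f0c0742417080541e0d058240e0501, 0, 272, 0x0, []⟩]

theorem t9_413_49 : jobs 8 S9 b8_413 j9_413_49 = true := by decide +kernel

noncomputable def j9_413_50 : List Job := [
  ⟨13, 0x6e172ba5daf17abe5fe8142a251a914aa653d309a4e27d20924a25c341f0c0742417080541e0d058240e0501, 0, 272, 0x0, []⟩]

theorem t9_413_50 : jobs 8 S9 b8_413 j9_413_50 = true := by decide +kernel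

noncomputable def j9_413_51 : List Job := [
  ⟨12, 0x6c162b259ad16ab65bea152aa55ab15aae57e61329a4da713a9e4fe41229249a512a964bd08864422d00824623c2c1b0a064241f080741e0d058240e0501, 0, 272, 0x0, []⟩]

theorem t9_413_51 : jobs 8 S9 b8_413 j9_413_51 = true := by decide +kernel

noncomputable def j9_413_52 : List Job := [
  ⟨11, 0x6e172ba5daf17abe5fe8142a251a914aa653d108a4623d00824221c381f0c06c28170804c1e0d058240e0501, 0, 272, 0x0, []⟩]

theorem t9_413_52 : jobs 8 S9 b8_413 j9_413_52 = true := by decide +kernel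

noncomputable def j9_413_53 : List Job := [
  ⟨10, 0x661329a4da713a9e4fc341f0c0742417080541e0d058240e0501, 0, 272, 0x0, []⟩]

theorem t9_413_53 : jobs 8 S9 b8_413 j9_413_53 = true := by decide +kernel

noncomputable def j9_413_54 : List Job := [
  ⟨9, 0x6e172ba5daf17abe5fec564b55b6c166b45bea152aa55ab15aae57e8946a653e8142a452e41229249a512a964bc341f0c0742417080541e0d058240e0501, 0, 272, 0x0, []⟩]

theorem t9_413_54 : jobs 8 S9 b8_413 j9_413_54 = true := by decide +kernel

noncomputable def j9_413_55 : List Job := [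
  ⟨8, 0x661329a4da713a9e4fd28964c26d20924e27d08864422d00824623c2c1b0a064241f080741e0d058240e0501, 0, 272, 0x0, []⟩]

theorem t9_413_55 : jobs 8 S9 b8_413 j9_413_55 = true := by decide +kernel

noncomputable def j9_413_56 : List Job := [
  ⟨7, 0x6e172ba5daf17abe5fec564b55b6c166b45bea152aa55ab15aae57e8546a553e8144a453641229249a512a964bd309a4e27d20924a25d108a4623d00824221c381f0c06c28170804c1e0d058240e0501, 0, 272, 0x0, []⟩]

theorem t9_413_56 : jobs 8 S9 b8_413 j9_413_56 = true := by decide +kernel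

noncomputable def j9_413_57 : List Job := [
  ⟨6, 0x6a554ad576a156ac57e8946a653e8142a452e61329a4da713a9e4fe41229249a512a964bd08864422d00824623c2c1b0a064241f080741e0d058240e0501, 0, 288, 0x0, []⟩]

theorem t9_413_57 : jobs 8 S9 b8_413 j9_413_57 = true := by decide +kernel

noncomputable def j9_413_58 : List Job := [
  ⟨5, 0x6e172ba5daf17abe5fec162b259ad16ab65bd08864422d00824623c2c1b0a064241f080741e0d058240e0501, 0, 288, 0x0, []⟩]

theorem t9_413_58 : jobs 8 S9 b8_413 j9_413_58 = true := by decide +kernel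

noncomputable def j9_413_59 : List Job := [
  ⟨4, 0x6e172ba5daf17abe5fea152aa55ab15aae57e41229249a512a964bc341f0c0742417080541e0d058240e0501, 0, 288, 0x0, []⟩]

theorem t9_413_59 : jobs 8 S9 b8_413 j9_413_59 = true := by decide +kernel

noncomputable def j9_413_60 : List Job := [
  ⟨3, 0x6e172ba5daf17abe5fea152aa55ab15aae57e41229249a512a964bd28964c26d20924e27d08864422d00824623c2c1b0a064241f080741e0d058240e0501, 0, 288, 0x0, []⟩]

theorem t9_413_60 : jobs 8 S9 b8_413 j9_413_60 = true := by decide +kernel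

noncomputable def j9_413_61 : List Job := [
  ⟨2, 0x41e0d058240e0501, 0, 148, 0x0, []⟩]

theorem t9_413_61 : jobs 8 S9 b8_413 j9_413_61 = true := by decide +kernel

noncomputable def j9_413_62 : List Job := [
  ⟨1, 0x6311a8e47e21128a45e110a8643e01028241d309a4e27d20924a25d108a4623d00824221c1e0d058240e0501, 0, 148, 0x0, []⟩]

theorem t9_413_62 : jobs 8 S9 b8_413 j9_413_62 = true := by decide +kernel

noncomputable def j9_413_63 : List Job := [
  ⟨0, 0x41e0d058240e0501, 0, 160, 0x0, []⟩]

theorem t9_413_63 : jobs 8 S9 b8_413 j9_413_63 = true := by decide +kernel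

theorem d9_413 : Dn 8 S9 b8_413 := dn_of (Js := j9_413_0 ++ (j9_413_1 ++ (j9_413_2 ++ (j9_413_3 ++ (j9_413_4 ++ (j9_413_5 ++ (j9_413_6 ++ (j9_413_7 ++ (j9_413_8 ++ (j9_413_9 ++ (j9_413_10 ++ (j9_413_11 ++ (j9_413_12 ++ (j9_413_13 ++ (j9_413_14 ++ (j9_413_15 ++ (j9_413_16 ++ (j9_413_17 ++ (j9_413_18 ++ (j9_413_19 ++ (j9_413_20 ++ (j9_413_21 ++ (j9_413_22 ++ (j9_413_23 ++ (j9_413_24 ++ (j9_413_25 ++ (j9_413_26 ++ (j9_413_27 ++ (j9_413_28 ++ (j9_413_29 ++ (j9_413_30 ++ (j9_413_31 ++ (j9_413_32 ++ (j9_413_33 ++ (j9_413_34 ++ (j9_413_35 ++ (j9_413_36 ++ (j9_413_37 ++ (j9_413_38 ++ (j9_413_39 ++ (j9_413_40 ++ (j9_413_41 ++ (j9_413_42 ++ (j9_413_43 ++ (j9_413_44 ++ (j9_413_45 ++ (j9_413_46 ++ (j9_413_47 ++ (j9_413_48 ++ (j9_413_49 ++ (j9_413_50 ++ (j9_413_51 ++ (j9_413_52 ++ (j9_413_53 ++ (j9_413_54 ++ (j9_413_55 ++ (j9_413_56 ++ (j9_413_57 ++ (j9_413_58 ++ (j9_413_59 ++ (j9_413_60 ++ (j9_413_61 ++ (j9_413_62 ++ (j9_413_63 ++ []))))))))))))))))))))))))))))))))))))))))))))))))))))))))))))))))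
  (jobs_append t9_413_0 <| jobs_append t9_413_1 <| jobs_append t9_413_2 <| jobs_append t9_413_3 <| jobs_append t9_413_4 <| jobs_append t9_413_5 <| jobs_append t9_413_6 <| jobs_append t9_413_7 <| jobs_append t9_413_8 <| jobs_append t9_413_9 <| jobs_append t9_413_10 <| jobs_append t9_413_11 <| jobs_append t9_413_12 <| jobs_append t9_413_13 <| jobs_append t9_413_14 <| jobs_append t9_413_15 <| jobs_append t9_413_16 <| jobs_append t9_413_17 <| jobs_append t9_413_18 <| jobs_append t9_413_19 <| jobs_append t9_413_20 <| jobs_append t9_413_21 <| jobs_append t9_413_22 <| jobs_append t9_413_23 <| jobs_append t9_413_24 <| jobs_append t9_413_25 <| jobs_append t9_413_26 <| jobs_append t9_413_27 <| jobs_append t9_413_28 <| jobs_append t9_413_29 <| jobs_append t9_413_30 <| jobs_append t9_413_31 <| jobs_append t9_413_32 <| jobs_append t9_413_33 <| jobs_append t9_413_34 <| jobs_append t9_413_35 <| jobs_append t9_413_36 <| jobs_append t9_413_37 <| jobs_append t9_413_38 <| jobs_append t9_413_39 <| jobs_append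 t9_413_40 <| jobs_append t9_413_41 <| jobs_append t9_413_42 <| jobs_append t9_413_43 <| jobs_append t9_413_44 <| jobs_append t9_413_45 <| jobs_append t9_413_46 <| jobs_append t9_413_47 <| jobs_append t9_413_48 <| jobs_append t9_413_49 <| jobs_append t9_413_50 <| jobs_append t9_413_51 <| jobs_append t9_413_52 <| jobs_append t9_413_53 <| jobs_append t9_413_54 <| jobs_append t9_413_55 <| jobs_append t9_413_56 <| jobs_append t9_413_57 <| jobs_append t9_413_58 <| jobs_append t9_413_59 <| jobs_append t9_413_60 <| jobs_append t9_413_61 <| jobs_append t9_413_62 <| jobs_append t9_413_63 <| List.forall_mem_nil _) (by decide +kernel)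

noncomputable def j9_414_0 : List Job := [
  ⟨63, 0x6110a8643e01028241de0f27a3d9f0fa7e3fdc0e272399d0ea763bc64361d0fc60341c0f41e0d058240e0501, 0, 288, 0x0, []⟩]

theorem t9_414_0 : jobs 8 S9 b8_414 j9_414_0 = true := by decide +kernel

noncomputable def j9_414_1 : List Job := [
  ⟨62, 0x6e172ba5daf17abe5fea152aa55ab15aae57e41229249a512a964bd20924a259309a4e27d008242219108a4623c64361d0fc60341c0f41e0d058240e0501, 0, 288, 0x0, []⟩]

theorem t9_414_1 : jobs 8 S9 b8_414 j9_414_1 = true := by decide +kernel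

noncomputable def j9_414_2 : List Job := [
  ⟨61, 0x609068643e01028442d20924a259309a4e27d008242219108a4623c64361d0fc60341c0f41e0d058240e0501, 0, 288, 0x0, []⟩]

theorem t9_414_2 : jobs 8 S9 b8_414 j9_414_2 = true := by decide +kernel

noncomputable def j9_414_3 : List Job := [
  ⟨60, 0x6e172ba5daf17abe5fea152aa55ab15aae57e41229249a512a964bc64361d0fc60341c0f41e0d058240e0501, 0, 288, 0x0, []⟩]

theorem t9_414_3 : jobs 8 S9 b8_414 j9_414_3 = true := by decide +kernel

noncomputable def j9_414_4 : List Job := [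
  ⟨59, 0x6110a8643e01028241c64361d0fc60341c0f41e0d058240e0501, 0, 288, 0x0, []⟩]

theorem t9_414_4 : jobs 8 S9 b8_414 j9_414_4 = true := by decide +kernel

noncomputable def j9_414_5 : List Job := [
  ⟨58, 0x6e172ba5daf17abe5fea152aa55ab15aae57e41229249a512a964bde0f27a3d9f0fa7e3fdc0e272399d0ea763bd20924a259309a4e27d008242219108a4623c64361d0fc60341c0f41e0d058240e0501, 0, 288, 0x0, []⟩]

theorem t9_414_5 : jobs 8 S9 b8_414 j9_414_5 = true := by decide +kernel

noncomputable def j9_414_6 : List Job := [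
  ⟨57, 0x609068643e01028442de0f27a3d9f0fa7e3fdc0e272399d0ea763bd20924a259309a4e27d008242219108a4623c64361d0fc60341c0f41e0d058240e0501, 0, 288, 0x0, []⟩]

theorem t9_414_6 : jobs 8 S9 b8_414 j9_414_6 = true := by decide +kernel

noncomputable def j9_414_7 : List Job := [
  ⟨56, 0x641229249a512a964be01028241a110a8643dc0e272399d0ea763bd20924a259309a4e27c64361d0fc60341c0f424160d07c20140c0741e0d058240e0501, 0, 288, 0x0, []⟩]

theorem t9_414_7 : jobs 8 S9 b8_414 j9_414_7 = true := by decide +kernel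

noncomputable def j9_414_8 : List Job := [
  ⟨55, 0x641229249a512a964be01028241a110a8643de0f27a3d9f0fa7e3fd008242219108a4623c64361d0fc60341c0f424160d07c20140c0741e0d058240e0501, 0, 288, 0x0, []⟩]

theorem t9_414_8 : jobs 8 S9 b8_414 j9_414_8 = true := by decide +kernel

noncomputable def j9_414_9 : List Job := [
  ⟨54, 0x5c0e272399d0ea763bd008242219108a4623c64361d0fc60341c0f424160d07c20140c0741e0d058240e0501, 0, 288, 0x0, []⟩]

theorem t9_414_9 : jobs 8 S9 b8_414 j9_414_9 = true := by decide +kernel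

noncomputable def j9_414_10 : List Job := [
  ⟨53, 0x6e172ba5daf17abe5fea152aa55ab15aae57e41229249a512a964be01028241a110a8643dc0e272399d0ea763bd008242219108a4623c64361d0fc60341c0f424160d07c20140c0741e0d058240e0501, 0, 288, 0x0, []⟩]

theorem t9_414_10 : jobs 8 S9 b8_414 j9_414_10 = true := by decide +kernel

noncomputable def j9_414_11 : List Job := [
  ⟨52, 0x6a956ac56ea152ae57e01028241a110a8643dc0e272399d0ea763bd20924a259309a4e27c64361d0fc60341c0f424160d07c20140c0741e0d058240e0501, 0, 288, 0x0, []⟩]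

theorem t9_414_11 : jobs 8 S9 b8_414 j9_414_11 = true := by decide +kernel

noncomputable def j9_414_12 : List Job := [
  ⟨51, 0x6a956ac56ea152ae57e01028241a110a8643de0f27a3d9f0fa7e3fd008242219108a4623c64361d0fc60341c0f424160d07c20140c0741e0d058240e0501, 0, 288, 0x0, []⟩]

theorem t9_414_12 : jobs 8 S9 b8_414 j9_414_12 = true := by decide +kernel

noncomputable def j9_414_13 : List Job := [
  ⟨50, 0x6a152aa55ab15aae57e41229249a512a964bdc0e272399d0ea763bd008242219108a4623c64361d0fc60341c0f424160d07c20140c0741e0d058240e0501, 0, 288, 0x0, []⟩]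

theorem t9_414_13 : jobs 8 S9 b8_414 j9_414_13 = true := by decide +kernel

noncomputable def j9_414_14 : List Job := [
  ⟨49, 0x6e574bd5f6e176bc5fe09068643e01028442dc0e272399d0ea763bd008242219108a4623c64361d0fc60341c0f424160d07c20140c0741e0d058240e0501, 0, 288, 0x0, []⟩]

theorem t9_414_14 : jobs 8 S9 b8_414 j9_414_14 = true := by decide +kernel

noncomputable def j9_414_15 : List Job := [
  ⟨48, 0x641229249a512a964bde0f27a3d9f0fa7e3fd20924a259309a4e27c64361d0fc60341c0f424160d07c20140c0741e0d058240e0501, 0, 288, 0x0, []⟩]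

theorem t9_414_15 : jobs 8 S9 b8_414 j9_414_15 = true := by decide +kernel

noncomputable def j9_414_16 : List Job := [
  ⟨47, 0x6e172ba5daf17abe5fea152aa55ab15aae57e01028241a110a8643de0f27a3d9f0fa7e3fd20924a259309a4e27c64361d0fc60341c0f424160d07c20140c0741e0d058240e0501, 0, 288, 0x0, []⟩]

theorem t9_414_16 : jobs 8 S9 b8_414 j9_414_16 = true := by decide +kernel

noncomputable def j9_414_17 : List Job := [
  ⟨46, 0x641229249a512a964bdc0e272399d0ea763bd008242219108a4623c64361d0fc60341c0f424160d07c20140c0741e0d058240e0501, 0, 288, 0x0, []⟩]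

theorem t9_414_17 : jobs 8 S9 b8_414 j9_414_17 = true := by decide +kernel

noncomputable def j9_414_18 : List Job := [
  ⟨45, 0x6e172ba5daf17abe5fea152aa55ab15aae57e01028241a110a8643dc0e272399d0ea763bd008242219108a4623c64361d0fc60341c0f424160d07c20140c0741e0d058240e0501, 0, 288, 0x0, []⟩]

theorem t9_414_18 : jobs 8 S9 b8_414 j9_414_18 = true := by decide +kernel

noncomputable def j9_414_19 : List Job := [
  ⟨44, 0x6a152aa55ab15aae57e01028241a110a8643dc0e272399d0ea763bd20924a259309a4e27c4426150bc4024140b424160d07c20140c0741e0d058240e0501, 0, 288, 0x0, []⟩]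

theorem t9_414_19 : jobs 8 S9 b8_414 j9_414_19 = true := by decide +kernel

noncomputable def j9_414_20 : List Job := [
  ⟨43, 0x6a152aa55ab15aae57e01028241a110a8643de0f27a3d9f0fa7e3fd008242219108a4623c4826160bc4022140ac28160e07c20120c06c1e0d058240e0501, 0, 288, 0x0, []⟩]

theorem t9_414_20 : jobs 8 S9 b8_414 j9_414_20 = true := by decide +kernel

noncomputable def j9_414_21 : List Job := [
  ⟨42, 0x524944c27d20964d275008242219108a4623c64361d0fc60341c0f424160d07c20140c0741e0d058240e0501, 0, 288, 0x0, []⟩]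

theorem t9_414_21 : jobs 8 S9 b8_414 j9_414_21 = true := by decide +kernel

noncomputable def j9_414_22 : List Job := [
  ⟨41, 0x6e172ba5daf17abe5fea152aa55ab15aae57e41229249a512a964be01028241a110a8643d24944c27d20964d275008242219108a4623c64361d0fc60341c0f424160d07c20140c0741e0d058240e0501, 0, 288, 0x0, []⟩]

theorem t9_414_22 : jobs 8 S9 b8_414 j9_414_22 = true := by decide +kernel

noncomputable def j9_414_23 : List Job := [
  ⟨40, 0x641229249a512a964be01028241a110a8643c64361d0fc60341c0f424160d07c20140c0741e0d058240e0501, 0, 288, 0x0, []⟩]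

theorem t9_414_23 : jobs 8 S9 b8_414 j9_414_23 = true := by decide +kernel

noncomputable def j9_414_24 : List Job := [
  ⟨39, 0x641229249a512a964be01028241a110a8643de4f47d3f5e0f67c3fdc0e272399d0ea763bd20924a259309a4e27d08864623d00824422c64361d0fc60341c0f424160d07c20140c0741e0d058240e0501, 0, 288, 0x0, []⟩]

theorem t9_414_24 : jobs 8 S9 b8_414 j9_414_24 = true := by decide +kernel

noncomputable def j9_414_25 : List Job := [
  ⟨38, 0x6a152aa55ab15aae57e41229249a512a964bd24944c27d20964d275008242219108a4623c64361d0fc60341c0f424160d07c20140c0741e0d058240e0501, 0, 288, 0x0, []⟩]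

theorem t9_414_25 : jobs 8 S9 b8_414 j9_414_25 = true := by decide +kernel

noncomputable def j9_414_26 : List Job := [
  ⟨37, 0x6e574bd5f6e176bc5fe09068643e01028442d24944c27d20964d275008242219108a4623c64361d0fc60341c0f424160d07c20140c0741e0d058240e0501, 0, 288, 0x0, []⟩]

theorem t9_414_26 : jobs 8 S9 b8_414 j9_414_26 = true := by decide +kernel

noncomputable def j9_414_27 : List Job := [
  ⟨36, 0x6a956ac56ea152ae57e01028241a110a8643c64361d0fc60341c0f424160d07c20140c0741e0d058240e0501, 0, 288, 0x0, []⟩]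

theorem t9_414_27 : jobs 8 S9 b8_414 j9_414_27 = true := by decide +kernel

noncomputable def j9_414_28 : List Job := [
  ⟨35, 0x6a956ac56ea152ae57e01028241a110a8643de4f47d3f5e0f67c3fdc0e272399d0ea763bd20924a259309a4e27d08864623d00824422c64361d0fc60341c0f424160d07c20140c0741e0d058240e0501, 0, 288, 0x0, []⟩]

theorem t9_414_28 : jobs 8 S9 b8_414 j9_414_28 = true := by decide +kernel

noncomputable def j9_414_29 : List Job := [
  ⟨34, 0x641229249a512a964bc64361d0fc60341c0f424160d07c20140c0741e0d058240e0501, 0, 288, 0x0, []⟩]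

theorem t9_414_29 : jobs 8 S9 b8_414 j9_414_29 = true := by decide +kernel

noncomputable def j9_414_30 : List Job := [
  ⟨33, 0x6e172ba5daf17abe5fea152aa55ab15aae57e01028241a110a8643c64361d0fc60341c0f424160d07c20140c0741e0d058240e0501, 0, 288, 0x0, []⟩]

theorem t9_414_30 : jobs 8 S9 b8_414 j9_414_30 = true := by decide +kernel

noncomputable def j9_414_31 : List Job := [
  ⟨32, 0x641229249a512a964bde8f67c3ede0f27e3fdc0e272399d0ea763bd24944c27d20964d275008242219108a4623c64361d0fc60341c0f424160d07c20140c0741e0d058240e0501, 0, 288, 0x0, []⟩]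

theorem t9_414_31 : jobs 8 S9 b8_414 j9_414_31 = true := by decide +kernel

noncomputable def j9_414_32 : List Job := [
  ⟨31, 0x6e172ba5daf17abe5fea152aa55ab15aae57e01028241a110a8643de8f67c3ede0f27e3fdc0e272399d0ea763bd24944c27d20964d275008242219108a4623c64361d0fc60341c0f424160d07c20140c0741e0d058240e0501, 0, 288, 0x0, []⟩]

theorem t9_414_32 : jobs 8 S9 b8_414 j9_414_32 = true := by decide +kernel

noncomputable def j9_414_33 : List Job := [
  ⟨30, 0x6a152aa55ab15aae57e01028241a110a8643c4426150bc4024140b424160d07c20140c0741e0d058240e0501, 0, 288, 0x0, []⟩]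

theorem t9_414_33 : jobs 8 S9 b8_414 j9_414_33 = true := by decide +kernel

noncomputable def j9_414_34 : List Job := [
  ⟨29, 0x6a152aa55ab15aae57e01028241a110a8643de0f27a3d9f0fa7e3fdc4e6743b5c0e4753bd24944c27d20964d275008242219108a4623c4826160bc4022140ac28160e07c20120c06c1e0d058240e0501, 0, 288, 0x0, []⟩]

theorem t9_414_34 : jobs 8 S9 b8_414 j9_414_34 = true := by decide +kernel

noncomputable def j9_414_35 : List Job := [
  ⟨28, 0x6a152aa55ab15aae57e41229249a512a964bd20924a259309a4e27d108a4623d00824221c4426150bc4024140b424160d07c20140c0741e0d058240e0501, 0, 288, 0x0, []⟩]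

theorem t9_414_35 : jobs 8 S9 b8_414 j9_414_35 = true := by decide +kernel

noncomputable def j9_414_36 : List Job := [
  ⟨27, 0x6e172ba5daf17abe5fe01028241a110a8643d20924a259309a4e27d04864523d0084442344826160bc4022140ac28160e07c20120c06c1e0d058240e0501, 0, 288, 0x0, []⟩]

theorem t9_414_36 : jobs 8 S9 b8_414 j9_414_36 = true := by decide +kernel

noncomputable def j9_414_37 : List Job := [
  ⟨26, 0x520924a259309a4e27d108a4623d00824221c4426150bc4024140b424160d07c20140c0741e0d058240e0501, 0, 288, 0x0, []⟩]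

theorem t9_414_37 : jobs 8 S9 b8_414 j9_414_37 = true := by decide +kernel

noncomputable def j9_414_38 : List Job := [
  ⟨25, 0x6e172ba5daf17abe5fea556ac576a154ad57e4524944be4126954b601028241a110a8643d20924a259309a4e27d04864523d0084442344826160bc4022140ac28160e07c20120c06c1e0d058240e0501, 0, 288, 0x0, []⟩]

theorem t9_414_38 : jobs 8 S9 b8_414 j9_414_38 = true := by decide +kernel

noncomputable def j9_414_39 : List Job := [
  ⟨24, 0x5c0e272399d0ea763bc64361d0fc60341c0f424160d07c20140c0741e0d058240e0501, 0, 288, 0x0, []⟩]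

theorem t9_414_39 : jobs 8 S9 b8_414 j9_414_39 = true := by decide +kernel

noncomputable def j9_414_40 : List Job := [
  ⟨23, 0x6e172ba5daf17abe5fea152aa55ab15aae57e41229249a512a964be01028241a110a8643dc0e272399d0ea763bc64361d0fc60341c0f424160d07c20140c0741e0d058240e0501, 0, 288, 0x0, []⟩]

theorem t9_414_40 : jobs 8 S9 b8_414 j9_414_40 = true := by decide +kernel

noncomputable def j9_414_41 : List Job := [
  ⟨22, 0x5e0f27a3d9f0fa7e3fd20924a259309a4e27d008242219108a4623c64361d0fc60341c0f424160d07c20140c0741e0d058240e0501, 0, 288, 0x0, []⟩]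

theorem t9_414_41 : jobs 8 S9 b8_414 j9_414_41 = true := by decide +kernel

noncomputable def j9_414_42 : List Job := [
  ⟨21, 0x6e172ba5daf17abe5fea152aa55ab15aae57e41229249a512a964be01028241a110a8643de0f27a3d9f0fa7e3fd20924a259309a4e27d008242219108a4623c64361d0fc60341c0f424160d07c20140c0741e0d058240e0501, 0, 288, 0x0, []⟩]

theorem t9_414_42 : jobs 8 S9 b8_414 j9_414_42 = true := by decide +kernel

noncomputable def j9_414_43 : List Job := [
  ⟨20, 0x6e172ba5daf17abe5fe41229249a512a964bdc0e272399d0ea763bc64361d0fc60341c0f424160d07c20140c0741e0d058240e0501, 0, 288, 0x0, []⟩]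

theorem t9_414_43 : jobs 8 S9 b8_414 j9_414_43 = true := by decide +kernel

noncomputable def j9_414_44 : List Job := [
  ⟨19, 0x6a556ac576a154ad57e110a8643e01028241dc0e272399d0ea763bc64361d0fc60341c0f424160d07c20140c0741e0d058240e0501, 0, 288, 0x0, []⟩]

theorem t9_414_44 : jobs 8 S9 b8_414 j9_414_44 = true := by decide +kernel

noncomputable def j9_414_45 : List Job := [
  ⟨18, 0x6e172ba5daf17abe5fe41229249a512a964bde0f27a3d9f0fa7e3fd20924a259309a4e27d008242219108a4623c64361d0fc60341c0f424160d07c20140c0741e0d058240e0501, 0, 288, 0x0, []⟩]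

theorem t9_414_45 : jobs 8 S9 b8_414 j9_414_45 = true := by decide +kernel

noncomputable def j9_414_46 : List Job := [
  ⟨17, 0x6a554ad576a156ac57e09068643e01028442de0f27a3d9f0fa7e3fd20924a259309a4e27d008242219108a4623c64361d0fc60341c0f424160d07c20140c0741e0d058240e0501, 0, 288, 0x0, []⟩]

theorem t9_414_46 : jobs 8 S9 b8_414 j9_414_46 = true := by decide +kernel

noncomputable def j9_414_47 : List Job := [
  ⟨16, 0x6e172ba5daf17abe5fe41229249a512a964bde0f27a3d9f0fa7e3fc4426150bc4024140b424160d07c20140c0741e0d058240e0501, 0, 288, 0x0, []⟩]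

theorem t9_414_47 : jobs 8 S9 b8_414 j9_414_47 = true := by decide +kernel

noncomputable def j9_414_48 : List Job := [
  ⟨15, 0x6a152aa55ab15aae57e01028241a110a8643de0f27a3d9f0fa7e3fc4426150bc4024140b424160d07c20140c0741e0d058240e0501, 0, 288, 0x0, []⟩]

theorem t9_414_48 : jobs 8 S9 b8_414 j9_414_48 = true := by decide +kernel

noncomputable def j9_414_49 : List Job := [
  ⟨14, 0x6e172ba5daf17abe5fe41229249a512a964bdc0e272399d0ea763bd20924a259309a4e27d008242219108a4623c4426150bc4024140b424160d07c20140c0741e0d058240e0501, 0, 288, 0x0, []⟩]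

theorem t9_414_49 : jobs 8 S9 b8_414 j9_414_49 = true := by decide +kernel

noncomputable def j9_414_50 : List Job := [
  ⟨13, 0x6a152aa55ab15aae57e01028241a110a8643dc0e272399d0ea763bd20924a259309a4e27d008242219108a4623c4826160bc4022140ac28160e07c20120c06c1e0d058240e0501, 0, 288, 0x0, []⟩]

theorem t9_414_50 : jobs 8 S9 b8_414 j9_414_50 = true := by decide +kernel

noncomputable def j9_414_51 : List Job := [
  ⟨12, 0x5e0f27a3d9f0fa7e3fc4426150bc4024140b424160d07c20140c0741e0d058240e0501, 0, 288, 0x0, []⟩]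

theorem t9_414_51 : jobs 8 S9 b8_414 j9_414_51 = true := by decide +kernel

noncomputable def j9_414_52 : List Job := [
  ⟨11, 0x6e172ba5daf17abe5fea556ac576a154ad57e41229249a512a964be110a8643e01028241de0f27a3d9f0fa7e3fc4426150bc4024140b424160d07c20140c0741e0d058240e0501, 0, 288, 0x0, []⟩]

theorem t9_414_52 : jobs 8 S9 b8_414 j9_414_52 = true := by decide +kernel

noncomputable def j9_414_53 : List Job := [
  ⟨10, 0x5c0e272399d0ea763bd20924a259309a4e27d008242219108a4623c4426150bc4024140b424160d07c20140c0741e0d058240e0501, 0, 288, 0x0, []⟩]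

theorem t9_414_53 : jobs 8 S9 b8_414 j9_414_53 = true := by decide +kernel

noncomputable def j9_414_54 : List Job := [
  ⟨9, 0x6e172ba5daf17abe5fea554ad576a156ac57e41229249a512a964be05068543e010484435c0e272399d0ea763bd20924a259309a4e27d008242219108a4623c4826160bc4022140ac28160e07c20120c06c1e0d058240e0501, 0, 288, 0x0, []⟩]

theorem t9_414_54 : jobs 8 S9 b8_414 j9_414_54 = true := by decide +kernel

noncomputable def j9_414_55 : List Job := [
  ⟨8, 0x6e172ba5daf17abe5fea152aa55ab15aae57de0f27a3d9f0fa7e3fc24160d07c20140c0741e0d058240e0501, 0, 288, 0x0, []⟩]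

theorem t9_414_55 : jobs 8 S9 b8_414 j9_414_55 = true := by decide +kernel

noncomputable def j9_414_56 : List Job := [
  ⟨7, 0x641229249a512a964be01028241a110a8643de0f27a3d9f0fa7e3fc24160d07c20140c0741e0d058240e0501, 0, 288, 0x0, []⟩]

theorem t9_414_56 : jobs 8 S9 b8_414 j9_414_56 = true := by decide +kernel

noncomputable def j9_414_57 : List Job := [
  ⟨6, 0x6e172ba5daf17abe5fea152aa55ab15aae57dc0e272399d0ea763bd20924a259309a4e27d08864422d00824623c24160d07c20140c0741e0d058240e0501, 0, 288, 0x0, []⟩]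

theorem t9_414_57 : jobs 8 S9 b8_414 j9_414_57 = true := by decide +kernel

noncomputable def j9_414_58 : List Job := [
  ⟨5, 0x641229249a512a964be01028241a110a8643dc0e272399d0ea763bd20924a259309a4e27d08864422d00824623c24160d07c20140c0741e0d058240e0501, 0, 288, 0x0, []⟩]

theorem t9_414_58 : jobs 8 S9 b8_414 j9_414_58 = true := by decide +kernel

noncomputable def j9_414_59 : List Job := [
  ⟨4, 0x5e0f27a3d9f0fa7e3fc24160d07c20140c0741e0d058240e0501, 0, 288, 0x0, []⟩]

theorem t9_414_59 : jobs 8 S9 b8_414 j9_414_59 = true := by decide +kernel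

noncomputable def j9_414_60 : List Job := [
  ⟨3, 0x6e172ba5daf17abe5fea152aa55ab15aae57e41229249a512a964be01028241a110a8643de0f27a3d9f0fa7e3fc24160d07c20140c0741e0d058240e0501, 0, 288, 0x0, []⟩]

theorem t9_414_60 : jobs 8 S9 b8_414 j9_414_60 = true := by decide +kernel

noncomputable def j9_414_61 : List Job := [
  ⟨2, 0x5c0e272399d0ea763bd20924a259309a4e27d08864422d00824623c24160d07c20140c0741e0d058240e0501, 0, 288, 0x0, []⟩]

theorem t9_414_61 : jobs 8 S9 b8_414 j9_414_61 = true := by decide +kernel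

noncomputable def j9_414_62 : List Job := [
  ⟨1, 0x6e172ba5daf17abe5fea152aa55ab15aae57e41229249a512a964be01028241a110a8643dc0e272399d0ea763bd20924a259309a4e27d08864422d00824623c24160d07c20140c0741e0d058240e0501, 0, 288, 0x0, []⟩]

theorem t9_414_62 : jobs 8 S9 b8_414 j9_414_62 = true := by decide +kernel

noncomputable def j9_414_63 : List Job := [
  ⟨0, 0x5c0e272399d0ea763bc24160d07c20140c0741e0d058240e0501, 0, 288, 0x0, []⟩]

theorem t9_414_63 : jobs 8 S9 b8_414 j9_414_63 = true := by decide +kernel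

theorem d9_414 : Dn 8 S9 b8_414 := dn_of (Js := j9_414_0 ++ (j9_414_1 ++ (j9_414_2 ++ (j9_414_3 ++ (j9_414_4 ++ (j9_414_5 ++ (j9_414_6 ++ (j9_414_7 ++ (j9_414_8 ++ (j9_414_9 ++ (j9_414_10 ++ (j9_414_11 ++ (j9_414_12 ++ (j9_414_13 ++ (j9_414_14 ++ (j9_414_15 ++ (j9_414_16 ++ (j9_414_17 ++ (j9_414_18 ++ (j9_414_19 ++ (j9_414_20 ++ (j9_414_21 ++ (j9_414_22 ++ (j9_414_23 ++ (j9_414_24 ++ (j9_414_25 ++ (j9_414_26 ++ (j9_414_27 ++ (j9_414_28 ++ (j9_414_29 ++ (j9_414_30 ++ (j9_414_31 ++ (j9_414_32 ++ (j9_414_33 ++ (j9_414_34 ++ (j9_414_35 ++ (j9_414_36 ++ (j9_414_37 ++ (j9_414_38 ++ (j9_414_39 ++ (j9_414_40 ++ (j9_414_41 ++ (j9_414_42 ++ (j9_414_43 ++ (j9_414_44 ++ (j9_414_45 ++ (j9_414_46 ++ (j9_414_47 ++ (j9_414_48 ++ (j9_414_49 ++ (j9_414_50 ++ (j9_414_51 ++ (j9_414_52 ++ (j9_414_53 ++ (j9_414_54 ++ (j9_414_55 ++ (j9_414_56 ++ (j9_414_57 ++ (j9_414_58 ++ (j9_414_59 ++ (j9_414_60 ++ (j9_414_61 ++ (j9_414_62 ++ (j9_414_63 ++ []))))))))))))))))))))))))))))))))))))))))))))))))))))))))))))))))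
  (jobs_append t9_414_0 <| jobs_append t9_414_1 <| jobs_append t9_414_2 <| jobs_append t9_414_3 <| jobs_append t9_414_4 <| jobs_append t9_414_5 <| jobs_append t9_414_6 <| jobs_append t9_414_7 <| jobs_append t9_414_8 <| jobs_append t9_414_9 <| jobs_append t9_414_10 <| jobs_append t9_414_11 <| jobs_append t9_414_12 <| jobs_append t9_414_13 <| jobs_append t9_414_14 <| jobs_append t9_414_15 <| jobs_append t9_414_16 <| jobs_append t9_414_17 <| jobs_append t9_414_18 <| jobs_append t9_414_19 <| jobs_append t9_414_20 <| jobs_append t9_414_21 <| jobs_append t9_414_22 <| jobs_append t9_414_23 <| jobs_append t9_414_24 <| jobs_append t9_414_25 <| jobs_append t9_414_26 <| jobs_append t9_414_27 <| jobs_append t9_414_28 <| jobs_append t9_414_29 <| jobs_append t9_414_30 <| jobs_append t9_414_31 <| jobs_append t9_414_32 <| jobs_append t9_414_33 <| jobs_append t9_414_34 <| jobs_append t9_414_35 <| jobs_append t9_414_36 <| jobs_append t9_414_37 <| jobs_append t9_414_38 <| jobs_append t9_414_39 <| jobs_append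 t9_414_40 <| jobs_append t9_414_41 <| jobs_append t9_414_42 <| jobs_append t9_414_43 <| jobs_append t9_414_44 <| jobs_append t9_414_45 <| jobs_append t9_414_46 <| jobs_append t9_414_47 <| jobs_append t9_414_48 <| jobs_append t9_414_49 <| jobs_append t9_414_50 <| jobs_append t9_414_51 <| jobs_append t9_414_52 <| jobs_append t9_414_53 <| jobs_append t9_414_54 <| jobs_append t9_414_55 <| jobs_append t9_414_56 <| jobs_append t9_414_57 <| jobs_append t9_414_58 <| jobs_append t9_414_59 <| jobs_append t9_414_60 <| jobs_append t9_414_61 <| jobs_append t9_414_62 <| jobs_append t9_414_63 <| List.forall_mem_nil _) (by decide +kernel)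

end Cfsg.Agent.FS.N.Sw
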