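import Cfsg.Agent.FS.N.Sw.Seg
import Cfsg.Agent.FS.N.G.S9
import Cfsg.Agent.FS.N.G.L.L15

/-! The filter on the pairs for the order 512, part 40 (generated; helper52, project FS) -/

set_option autoImplicit false
set_option maxRecDepth 100000
set_option Elab.async false

namespace Cfsg.Agent.FS.N.Sw

open G

noncomputable def j9_417_0 : List Job := [
  ⟨63, 0x524944d27520964c27d08864623d00824422c1e0d058240e0501, 0, 272, 0x0, []⟩]

theorem t9_417_0 : jobs 8 S9 b8_417 j9_417_0 = true := by decide +kernel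

noncomputable def j9_417_1 : List Job := [
  ⟨62, 0x6e172ba5daf17abe5fea152aa55ab15aae57e61329a4da713a9e4fe01028241a110a8643d24964c27520944d27d108a4623d00824221c1e0d058240e0501, 0, 272, 0x0, []⟩]

theorem t9_417_1 : jobs 8 S9 b8_417 j9_417_1 = true := by decide +kernel

noncomputable def j9_417_2 : List Job := [
  ⟨61, 0x6e172ba5daf17abe5fea152aa55ab15aae57d08864623d00824422c1e0d058240e0501, 0, 272, 0x0, []⟩]

theorem t9_417_2 : jobs 8 S9 b8_417 j9_417_2 = true := by decide +kernel

noncomputable def j9_417_3 : List Job := [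
  ⟨60, 0x661329a4da713a9e4fe01028241a110a8643d108a4623d00824221c1e0d058240e0501, 0, 272, 0x0, []⟩]

theorem t9_417_3 : jobs 8 S9 b8_417 j9_417_3 = true := by decide +kernel

noncomputable def j9_417_4 : List Job := [
  ⟨59, 0x508864623d00824422c1e0d058240e0501, 0, 272, 0x0, []⟩]

theorem t9_417_4 : jobs 8 S9 b8_417 j9_417_4 = true := by decide +kernel

noncomputable def j9_417_5 : List Job := [
  ⟨58, 0x6e172ba5daf17abe5fea152aa55ab15aae57e61329a4da713a9e4fe01028241a110a8643d108a4623d00824221c1e0d058240e0501, 0, 272, 0x0, []⟩]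

theorem t9_417_5 : jobs 8 S9 b8_417 j9_417_5 = true := by decide +kernel

noncomputable def j9_417_6 : List Job := [
  ⟨57, 0x524944d27520964c27c1e0d058240e0501, 0, 140, 0x0, []⟩]

theorem t9_417_6 : jobs 8 S9 b8_417 j9_417_6 = true := by decide +kernel

noncomputable def j9_417_7 : List Job := [
  ⟨56, 0x6e172ba5daf17abe5fea152aa55ab15aae57e61329a4da713a9e4fe01028241a110a8643d24944d27520964c27c1e0d058240e0501, 0, 140, 0x0, []⟩]

theorem t9_417_7 : jobs 8 S9 b8_417 j9_417_7 = true := by decide +kernel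

noncomputable def j9_417_8 : List Job := [
  ⟨55, 0x5188f4422d08874020c1e0d058240e0501, 0, 140, 0x20800040500060c000809000a08000c0c000e0800100400120900140400160900180d001a09001c0d001e0d00200400220c002408002609002805002a09002c05002e0900300400320900340d003604003804003a0c003c04003e0c00400400420900440d00460d004804004a05004c0d004e08005004005205005405005605005805005a04005c09005e0500600900620c00640800660d00680c006a04006c09006e0c00700c00720d007405007604007809007a09007c05007e0400800c00820800840500860c00880c008a0d008c09, []⟩]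

theorem t9_417_8 : jobs 8 S9 b8_417 j9_417_8 = true := by decide +kernel

noncomputable def j9_417_9 : List Job := [
  ⟨54, 0x6e172ba5daf17abe5fea152aa55ab15aae57e61329a4da713a9e4fe01028241a110a8643d188f4422d08874020c1e0d058240e0501, 0, 140, 0x20800040500060d000805000a04000c0d000e0400100d00120500140c00160800180c001a09001c09001e0400200500220400240900260400280c002a04002c05002e0500300400320500340c00360500380c003a0d003c05003e0d00400500420400440500460400480d004a05004c05004e05005004005205005404005605005804005a05005c04005e04006005006204006404006605006805006a04006c05006e05007004007204007404007605007804007a05007c04007e09008005010204010405010604010805010a08010c04, []⟩]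

theorem t9_417_9 : jobs 8 S9 b8_417 j9_417_9 = true := by decide +kernel

noncomputable def j9_417_10 : List Job := [
  ⟨53, 0x6110a8643e01028241d08864422d00824623c1e0d058240e0501, 0, 272, 0x0, []⟩]

theorem t9_417_10 : jobs 8 S9 b8_417 j9_417_10 = true := by decide +kernel

noncomputable def j9_417_11 : List Job := [
  ⟨52, 0x6512a964be41229249c1e0d058240e0501, 0, 272, 0x0, []⟩]

theorem t9_417_11 : jobs 8 S9 b8_417 j9_417_11 = true := by decide +kernel

noncomputable def j9_417_12 : List Job := [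
  ⟨51, 0x6e172ba5daf17abe5fe8142a251a914aa653e01028241a110a8643c1e0d058240e0501, 0, 272, 0x0, []⟩]

theorem t9_417_12 : jobs 8 S9 b8_417 j9_417_12 = true := by decide +kernel

noncomputable def j9_417_13 : List Job := [
  ⟨50, 0x64926944ae4122964bde0f27a3d9f0fa7e3fdc0e272399d0ea763bc1e0d058240e0501, 0, 272, 0x0, []⟩]

theorem t9_417_13 : jobs 8 S9 b8_417 j9_417_13 = true := by decide +kernel

noncomputable def j9_417_14 : List Job := [
  ⟨49, 0x6e172ba5daf17abe5fe8142a251a914aa653e01028241a110a8643de0f27a3d9f0fa7e3fdc0e272399d0ea763bc1e0d058240e0501, 0, 272, 0x0, []⟩]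

theorem t9_417_14 : jobs 8 S9 b8_417 j9_417_14 = true := by decide +kernel

noncomputable def j9_417_15 : List Job := [
  ⟨48, 0x68142a251a914aa653e41229249a512a964bc64361d0fc60341c0f44426150bc4024140b41e0d058240e0501, 0, 272, 0x0, []⟩]

theorem t9_417_15 : jobs 8 S9 b8_417 j9_417_15 = true := by decide +kernel

noncomputable def j9_417_16 : List Job := [
  ⟨47, 0x6e172ba5daf17abe5fe01028241a110a8643c64361d0fc60341c0f44426150bc4024140b41e0d058240e0501, 0, 272, 0x0, []⟩]

theorem t9_417_16 : jobs 8 S9 b8_417 j9_417_16 = true := by decide +kernel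

noncomputable def j9_417_17 : List Job := [
  ⟨46, 0x68142a251a914aa653e41229249a512a964bde0f27a3d9f0fa7e3fdc0e272399d0ea763bc64361d0fc60341c0f44426150bc4024140b41e0d058240e0501, 0, 272, 0x0, []⟩]

theorem t9_417_17 : jobs 8 S9 b8_417 j9_417_17 = true := by decide +kernel

noncomputable def j9_417_18 : List Job := [
  ⟨45, 0x6e172ba5daf17abe5fe01028241a110a8643de0f27a3d9f0fa7e3fdc0e272399d0ea763bc64361d0fc60341c0f44426150bc4024140b41e0d058240e0501, 0, 272, 0x0, []⟩]

theorem t9_417_18 : jobs 8 S9 b8_417 j9_417_18 = true := by decide +kernel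

noncomputable def j9_417_19 : List Job := [
  ⟨44, 0x464361d0fc60341c0f44426150bc4024140b41e0d058240e0501, 0, 272, 0x0, []⟩]

theorem t9_417_19 : jobs 8 S9 b8_417 j9_417_19 = true := by decide +kernel

noncomputable def j9_417_20 : List Job := [
  ⟨43, 0x6e172ba5daf17abe5fe8142a251a914aa653e41229249a512a964be01028241a110a8643c64361d0fc60341c0f44426150bc4024140b41e0d058240e0501, 0, 272, 0x0, []⟩]

theorem t9_417_20 : jobs 8 S9 b8_417 j9_417_20 = true := by decide +kernel

noncomputable def j9_417_21 : List Job := [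
  ⟨42, 0x5e0f27a3d9f0fa7e3fdc0e272399d0ea763bc64361d0fc60341c0f44426150bc4024140b41e0d058240e0501, 0, 272, 0x0, []⟩]

theorem t9_417_21 : jobs 8 S9 b8_417 j9_417_21 = true := by decide +kernel

noncomputable def j9_417_22 : List Job := [
  ⟨41, 0x6e172ba5daf17abe5fe8142a251a914aa653e41229249a512a964be01028241a110a8643de0f27a3d9f0fa7e3fdc0e272399d0ea763bc64361d0fc60341c0f44426150bc4024140b41e0d058240e0501, 0, 272, 0x0, []⟩]

theorem t9_417_22 : jobs 8 S9 b8_417 j9_417_22 = true := by decide +kernel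

noncomputable def j9_417_23 : List Job := [
  ⟨40, 0x641229249a512a964be01028241a110a8643ca4562d17ca0542c17484462513c80442413464361d0fc60341c0f44426150bc4024140b41e0d058240e0501, 0, 272, 0x0, []⟩]

theorem t9_417_23 : jobs 8 S9 b8_417 j9_417_23 = true := by decide +kernel

noncomputable def j9_417_24 : List Job := [
  ⟨39, 0x6e574bd5f6e176bc5fe09068643e01028442dc0e272399d0ea763bc1e0d058240e0501, 0, 272, 0x0, []⟩]

theorem t9_417_24 : jobs 8 S9 b8_417 j9_417_24 = true := by decide +kernel

noncomputable def j9_417_25 : List Job := [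
  ⟨38, 0x68142a251a914aa653e41229249a512a964bde0f27a3d9f0fa7e3fc64361d0fc60341c0f44426150bc4024140b41e0d058240e0501, 0, 272, 0x0, []⟩]

theorem t9_417_25 : jobs 8 S9 b8_417 j9_417_25 = true := by decide +kernel

noncomputable def j9_417_26 : List Job := [
  ⟨37, 0x6e172ba5daf17abe5fe01028241a110a8643de0f27a3d9f0fa7e3fc64361d0fc60341c0f44426150bc4024140b41e0d058240e0501, 0, 272, 0x0, []⟩]

theorem t9_417_26 : jobs 8 S9 b8_417 j9_417_26 = true := by decide +kernel

noncomputable def j9_417_27 : List Job := [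
  ⟨36, 0x5e0f27a3d9f0fa7e3fc64361d0fc60341c0f44426150bc4024140b41e0d058240e0501, 0, 272, 0x0, []⟩]

theorem t9_417_27 : jobs 8 S9 b8_417 j9_417_27 = true := by decide +kernel

noncomputable def j9_417_28 : List Job := [
  ⟨35, 0x6e172ba5daf17abe5fe8142a251a914aa653e41229249a512a964be01028241a110a8643de0f27a3d9f0fa7e3fc64361d0fc60341c0f44426150bc4024140b41e0d058240e0501, 0, 272, 0x0, []⟩]

theorem t9_417_28 : jobs 8 S9 b8_417 j9_417_28 = true := by decide +kernel

noncomputable def j9_417_29 : List Job := [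
  ⟨34, 0x6e172ba5daf17abe5fde0f27a3d9f0fa7e3fca4562d17ca0542c17484462513c80442413464361d0fc60341c0f44426150bc4024140b41e0d058240e0501, 0, 272, 0x0, []⟩]

theorem t9_417_29 : jobs 8 S9 b8_417 j9_417_29 = true := by decide +kernel

noncomputable def j9_417_30 : List Job := [
  ⟨33, 0x5f0fa7e3fde0f27a3dc4426150bc4024140b41e0d058240e0501, 0, 272, 0x0, []⟩]

theorem t9_417_30 : jobs 8 S9 b8_417 j9_417_30 = true := by decide +kernel

noncomputable def j9_417_31 : List Job := [
  ⟨32, 0x6e172ba5daf17abe5fe8142a251a914aa653e41229249a512a964be01028241a110a8643de8f67e3fde0f27c3ec4426150bc4024140b41e0d058240e0501, 0, 272, 0x0, []⟩]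

theorem t9_417_31 : jobs 8 S9 b8_417 j9_417_31 = true := by decide +kernel

noncomputable def j9_417_32 : List Job := [
  ⟨31, 0x5c0e272399d0ea763bc4426150bc4024140b41e0d058240e0501, 0, 272, 0x0, []⟩]

theorem t9_417_32 : jobs 8 S9 b8_417 j9_417_32 = true := by decide +kernel

noncomputable def j9_417_33 : List Job := [
  ⟨30, 0x6e172ba5daf17abe5fe8142a251a914aa653e41229249a512a964be01028241a110a8643dc0e272399d0ea763bc4426150bc4024140b41e0d058240e0501, 0, 272, 0x0, []⟩]

theorem t9_417_33 : jobs 8 S9 b8_417 j9_417_33 = true := by decide +kernel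

noncomputable def j9_417_34 : List Job := [
  ⟨29, 0x6e172ba5daf17abe5fe8142a251a914aa653de4f67c3f5e0f47d3fc4426150bc4024140b41e0d058240e0501, 0, 272, 0x0, []⟩]

theorem t9_417_34 : jobs 8 S9 b8_417 j9_417_34 = true := by decide +kernel

noncomputable def j9_417_35 : List Job := [
  ⟨28, 0x64524944be4126954b609068442e01028643de4f47d3f5e0f67c3fc4426150bc4024140b41e0d058240e0501, 0, 272, 0x0, []⟩]

theorem t9_417_35 : jobs 8 S9 b8_417 j9_417_35 = true := by decide +kernel

noncomputable def j9_417_36 : List Job := [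
  ⟨27, 0x6e172ba5daf17abe5fe8142a251a914aa653dc0e272399d0ea763bc4426150bc4024140b41e0d058240e0501, 0, 272, 0x0, []⟩]

theorem t9_417_36 : jobs 8 S9 b8_417 j9_417_36 = true := by decide +kernel

noncomputable def j9_417_37 : List Job := [
  ⟨26, 0x64524954b64126944be09068643e01028442dc0e272399d0ea763bc4426150bc4024140b41e0d058240e0501, 0, 272, 0x0, []⟩]

theorem t9_417_37 : jobs 8 S9 b8_417 j9_417_37 = true := by decide +kernel

noncomputable def j9_417_38 : List Job := [
  ⟨25, 0x44426150bc4024140b41e0d058240e0501, 0, 272, 0x0, []⟩]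

theorem t9_417_38 : jobs 8 S9 b8_417 j9_417_38 = true := by decide +kernel

noncomputable def j9_417_39 : List Job := [
  ⟨24, 0x6e172ba5daf17abe5fe8142a251a914aa653e41229249a512a964be01028241a110a8643c4426150bc4024140b41e0d058240e0501, 0, 272, 0x0, []⟩]

theorem t9_417_39 : jobs 8 S9 b8_417 j9_417_39 = true := by decide +kernel

noncomputable def j9_417_40 : List Job := [
  ⟨23, 0x5e0f27a3d9f0fa7e3fdc0e272399d0ea763bc4426150bc4024140b41e0d058240e0501, 0, 272, 0x0, []⟩]

theorem t9_417_40 : jobs 8 S9 b8_417 j9_417_40 = true := by decide +kernel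

noncomputable def j9_417_41 : List Job := [
  ⟨22, 0x6e172ba5daf17abe5fe8142a251a914aa653e41229249a512a964be01028241a110a8643de0f27a3d9f0fa7e3fdc0e272399d0ea763bc4426150bc4024140b41e0d058240e0501, 0, 272, 0x0, []⟩]

theorem t9_417_41 : jobs 8 S9 b8_417 j9_417_41 = true := by decide +kernel

noncomputable def j9_417_42 : List Job := [
  ⟨21, 0x6e172ba5daf17abe5fe8142a251a914aa653c4426150bc4024140b41e0d058240e0501, 0, 272, 0x0, []⟩]

theorem t9_417_42 : jobs 8 S9 b8_417 j9_417_42 = true := by decide +kernel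

noncomputable def j9_417_43 : List Job := [
  ⟨20, 0x64524944be4126954b609068442e01028643c4426150bc4024140b41e0d058240e0501, 0, 272, 0x0, []⟩]

theorem t9_417_43 : jobs 8 S9 b8_417 j9_417_43 = true := by decide +kernel

noncomputable def j9_417_44 : List Job := [
  ⟨19, 0x6e172ba5daf17abe5fe8142a251a914aa653de0f27a3d9f0fa7e3fdc0e272399d0ea763bc4426150bc4024140b41e0d058240e0501, 0, 272, 0x0, []⟩]

theorem t9_417_44 : jobs 8 S9 b8_417 j9_417_44 = true := by decide +kernel

noncomputable def j9_417_45 : List Job := [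
  ⟨18, 0x64524954b64126944be09068643e01028442de0f27a3d9f0fa7e3fdc0e272399d0ea763bc4426150bc4024140b41e0d058240e0501, 0, 272, 0x0, []⟩]

theorem t9_417_45 : jobs 8 S9 b8_417 j9_417_45 = true := by decide +kernel

noncomputable def j9_417_46 : List Job := [
  ⟨17, 0x601028241a110a8643c88462613c80422412c4826160bc4022140ac28160e07c20120c06c1e0d058240e0501, 0, 272, 0x0, []⟩]

theorem t9_417_46 : jobs 8 S9 b8_417 j9_417_46 = true := by decide +kernel

noncomputable def j9_417_47 : List Job := [
  ⟨16, 0x601028241a110a8643de0f27a3d9f0fa7e3fdc0e272399d0ea763bc88462613c80422412c4826160bc4022140ac28160e07c20120c06c1e0d058240e0501, 0, 272, 0x0, []⟩]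

theorem t9_417_47 : jobs 8 S9 b8_417 j9_417_47 = true := by decide +kernel

noncomputable def j9_417_48 : List Job := [
  ⟨15, 0x6e574bc5fee176bd5f484462513c8044241344426150bc4024140b424160d07c20140c0741e0d058240e0501, 0, 272, 0x0, []⟩]

theorem t9_417_48 : jobs 8 S9 b8_417 j9_417_48 = true := by decide +kernel

noncomputable def j9_417_49 : List Job := [
  ⟨14, 0x6e576bc5f6e174bd5fde0f27a3d9f0fa7e3fdc0e272399d0ea763bc84462513c8044241344426150bc4024140b424160d07c20140c0741e0d058240e0501, 0, 272, 0x0, []⟩]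

theorem t9_417_49 : jobs 8 S9 b8_417 j9_417_49 = true := by decide +kernel

noncomputable def j9_417_50 : List Job := [
  ⟨13, 0x68142a251a914aa653e41229249a512a964bde0f27a3d9f0fa7e3fdc0e272399d0ea763bc84462513c8044241344426150bc4024140b424160d07c20140c0741e0d058240e0501, 0, 272, 0x0, []⟩]

theorem t9_417_50 : jobs 8 S9 b8_417 j9_417_50 = true := by decide +kernel

noncomputable def j9_417_51 : List Job := [
  ⟨12, 0x68142a251a914aa653e41229249a512a964bc84462513c8044241344426150bc4024140b424160d07c20140c0741e0d058240e0501, 0, 272, 0x0, []⟩]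

theorem t9_417_51 : jobs 8 S9 b8_417 j9_417_51 = true := by decide +kernel

noncomputable def j9_417_52 : List Job := [
  ⟨11, 0x5e0f27a3d9f0fa7e3fdc0e272399d0ea763bc84462513c8044241344426150bc4024140b424160d07c20140c0741e0d058240e0501, 0, 272, 0x0, []⟩]

theorem t9_417_52 : jobs 8 S9 b8_417 j9_417_52 = true := by decide +kernel

noncomputable def j9_417_53 : List Job := [
  ⟨10, 0x484462513c8044241344426150bc4024140b424160d07c20140c0741e0d058240e0501, 0, 272, 0x0, []⟩]

theorem t9_417_53 : jobs 8 S9 b8_417 j9_417_53 = true := by decide +kernel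

noncomputable def j9_417_54 : List Job := [
  ⟨9, 0x6e172ba5daf17abe5fe01028241a110a8643c88462613c80422412c68361e0fc60321c0ec4826160bc4022140ac28160e07c20120c06c1e0d058240e0501, 0, 272, 0x0, []⟩]

theorem t9_417_54 : jobs 8 S9 b8_417 j9_417_54 = true := by decide +kernel

noncomputable def j9_417_55 : List Job := [
  ⟨8, 0x68142a251a914aa653e01028241a110a8643c88462613c80422412c68361e0fc60321c0ec4826160bc4022140ac28160e07c20120c06c1e0d058240e0501, 0, 272, 0x0, []⟩]

theorem t9_417_55 : jobs 8 S9 b8_417 j9_417_55 = true := by decide +kernel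

noncomputable def j9_417_56 : List Job := [
  ⟨7, 0x68142a251a914aa653dc0e272399d0ea763bc84462513c80442413464361d0fc60341c0f44426150bc4024140b424160d07c20140c0741e0d058240e0501, 0, 272, 0x0, []⟩]

theorem t9_417_56 : jobs 8 S9 b8_417 j9_417_56 = true := by decide +kernel

noncomputable def j9_417_57 : List Job := [
  ⟨6, 0x6e172ba5daf17abe5fde0f27a3d9f0fa7e3fc84462513c80442413464361d0fc60341c0f44426150bc4024140b424160d07c20140c0741e0d058240e0501, 0, 272, 0x0, []⟩]

theorem t9_417_57 : jobs 8 S9 b8_417 j9_417_57 = true := by decide +kernel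

noncomputable def j9_417_58 : List Job := [
  ⟨5, 0x64526944b64124954bd88c66432d80c26633d50aa562bd40a25229c1e0d058240e0501, 0, 272, 0x0, []⟩]

theorem t9_417_58 : jobs 8 S9 b8_417 j9_417_58 = true := by decide +kernel

noncomputable def j9_417_59 : List Job := [
  ⟨4, 0x6e172ba5daf17abe5fe8142a251a914aa653e01028241a110a8643d88c66432d80c26633d50aa562bd40a25229c1e0d058240e0501, 0, 272, 0x0, []⟩]

theorem t9_417_59 : jobs 8 S9 b8_417 j9_417_59 = true := by decide +kernel

noncomputable def j9_417_60 : List Job := [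
  ⟨3, 0x64526944b64124954bda0d26a359b0da6e37d60b25a2d970ba5e2fd24944d27520964c27d04864523d0084442341e0d058240e0501, 0, 272, 0x0, []⟩]

theorem t9_417_60 : jobs 8 S9 b8_417 j9_417_60 = true := by decide +kernel

noncomputable def j9_417_61 : List Job := [
  ⟨2, 0x6e172ba5daf17abe5fe8142a251a914aa653e01028241a110a8643da0d26a359b0da6e37d60b25a2d970ba5e2fd24944d27520964c27d04864523d0084442341e0d058240e0501, 0, 272, 0x0, []⟩]

theorem t9_417_61 : jobs 8 S9 b8_417 j9_417_61 = true := by decide +kernel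

noncomputable def j9_417_62 : List Job := [
  ⟨1, 0x68142a251a914aa653e41229249a512a964bd90ca6633d80c26231d60b25a2d970ba5e2fc68361e0fc60321c0ec4826160bc4022140ac1e0d058240e0501, 0, 288, 0x0, []⟩]

theorem t9_417_62 : jobs 8 S9 b8_417 j9_417_62 = true := by decide +kernel

noncomputable def j9_417_63 : List Job := [
  ⟨0, 0x6e172ba5daf17abe5fe01028241a110a8643d90ca6633d80c26231d60b25a2d970ba5e2fc68361e0fc60321c0ec4826160bc4022140ac1e0d058240e0501, 0, 288, 0x0, []⟩]

theorem t9_417_63 : jobs 8 S9 b8_417 j9_417_63 = true := by decide +kernel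

theorem d9_417 : Dn 8 S9 b8_417 := dn_of (Js := j9_417_0 ++ (j9_417_1 ++ (j9_417_2 ++ (j9_417_3 ++ (j9_417_4 ++ (j9_417_5 ++ (j9_417_6 ++ (j9_417_7 ++ (j9_417_8 ++ (j9_417_9 ++ (j9_417_10 ++ (j9_417_11 ++ (j9_417_12 ++ (j9_417_13 ++ (j9_417_14 ++ (j9_417_15 ++ (j9_417_16 ++ (j9_417_17 ++ (j9_417_18 ++ (j9_417_19 ++ (j9_417_20 ++ (j9_417_21 ++ (j9_417_22 ++ (j9_417_23 ++ (j9_417_24 ++ (j9_417_25 ++ (j9_417_26 ++ (j9_417_27 ++ (j9_417_28 ++ (j9_417_29 ++ (j9_417_30 ++ (j9_417_31 ++ (j9_417_32 ++ (j9_417_33 ++ (j9_417_34 ++ (j9_417_35 ++ (j9_417_36 ++ (j9_417_37 ++ (j9_417_38 ++ (j9_417_39 ++ (j9_417_40 ++ (j9_417_41 ++ (j9_417_42 ++ (j9_417_43 ++ (j9_417_44 ++ (j9_417_45 ++ (j9_417_46 ++ (j9_417_47 ++ (j9_417_48 ++ (j9_417_49 ++ (j9_417_50 ++ (j9_417_51 ++ (j9_417_52 ++ (j9_417_53 ++ (j9_417_54 ++ (j9_417_55 ++ (j9_417_56 ++ (j9_417_57 ++ (j9_417_58 ++ (j9_417_59 ++ (j9_417_60 ++ (j9_417_61 ++ (j9_417_62 ++ (j9_417_63 ++ []))))))))))))))))))))))))))))))))))))))))))))))))))))))))))))))))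
  (jobs_append t9_417_0 <| jobs_append t9_417_1 <| jobs_append t9_417_2 <| jobs_append t9_417_3 <| jobs_append t9_417_4 <| jobs_append t9_417_5 <| jobs_append t9_417_6 <| jobs_append t9_417_7 <| jobs_append t9_417_8 <| jobs_append t9_417_9 <| jobs_append t9_417_10 <| jobs_append t9_417_11 <| jobs_append t9_417_12 <| jobs_append t9_417_13 <| jobs_append t9_417_14 <| jobs_append t9_417_15 <| jobs_append t9_417_16 <| jobs_append t9_417_17 <| jobs_append t9_417_18 <| jobs_append t9_417_19 <| jobs_append t9_417_20 <| jobs_append t9_417_21 <| jobs_append t9_417_22 <| jobs_append t9_417_23 <| jobs_append t9_417_24 <| jobs_append t9_417_25 <| jobs_append t9_417_26 <| jobs_append t9_417_27 <| jobs_append t9_417_28 <| jobs_append t9_417_29 <| jobs_append t9_417_30 <| jobs_append t9_417_31 <| jobs_append t9_417_32 <| jobs_append t9_417_33 <| jobs_append t9_417_34 <| jobs_append t9_417_35 <| jobs_append t9_417_36 <| jobs_append t9_417_37 <| jobs_append t9_417_38 <| jobs_append t9_417_39 <| jobs_append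 t9_417_40 <| jobs_append t9_417_41 <| jobs_append t9_417_42 <| jobs_append t9_417_43 <| jobs_append t9_417_44 <| jobs_append t9_417_45 <| jobs_append t9_417_46 <| jobs_append t9_417_47 <| jobs_append t9_417_48 <| jobs_append t9_417_49 <| jobs_append t9_417_50 <| jobs_append t9_417_51 <| jobs_append t9_417_52 <| jobs_append t9_417_53 <| jobs_append t9_417_54 <| jobs_append t9_417_55 <| jobs_append t9_417_56 <| jobs_append t9_417_57 <| jobs_append t9_417_58 <| jobs_append t9_417_59 <| jobs_append t9_417_60 <| jobs_append t9_417_61 <| jobs_append t9_417_62 <| jobs_append t9_417_63 <| List.forall_mem_nil _) (by decide +kernel)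

noncomputable def j9_418_0 : List Job := [
  ⟨60, 0x6e172ba5daf17abe5fea152aa55ab15aae57d60b25a2d970ba5e2fd008242219108a4623c1e0d058240e0501, 0, 140, 0x0, []⟩]

theorem t9_418_0 : jobs 8 S9 b8_418 j9_418_0 = true := by decide +kernel

noncomputable def j9_418_1 : List Job := [
  ⟨59, 0x41e0d058240e0501, 0, 80, 0x0, []⟩]

theorem t9_418_1 : jobs 8 S9 b8_418 j9_418_1 = true := by decide +kernel

noncomputable def j9_418_2 : List Job := [
  ⟨58, 0x5e0f27a3d9f0fa7e3fda0d26a359b0da6e37d60b25a2d970ba5e2fd008242219108a4623c1e0d058240e0501, 0, 140, 0x0, []⟩]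

theorem t9_418_2 : jobs 8 S9 b8_418 j9_418_2 = true := by decide +kernel

noncomputable def j9_418_3 : List Job := [
  ⟨57, 0x6e172ba5daf17abe5fea152aa55ab15aae57e61329a4da713a9e4fe01028241a110a8643de0f27a3d9f0fa7e3fda0d26a359b0da6e37d60b25a2d970ba5e2fd008242219108a4623c1e0d058240e0501, 0, 80, 0x0, []⟩]

theorem t9_418_3 : jobs 8 S9 b8_418 j9_418_3 = true := by decide +kernel

noncomputable def j9_418_4 : List Job := [
  ⟨56, 0x6e172ba5daf17abe5fe41229249a512a964bd80c26231990ca6633d008242219108a4623c1e0d058240e0501, 0, 152, 0x0, []⟩]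

theorem t9_418_4 : jobs 8 S9 b8_418 j9_418_4 = true := by decide +kernel

noncomputable def j9_418_5 : List Job := [
  ⟨55, 0x68142a251a914aa653e01028241a110a8643d80c26231990ca6633d008242219108a4623c1e0d058240e0501, 0, 152, 0x0, []⟩]

theorem t9_418_5 : jobs 8 S9 b8_418 j9_418_5 = true := by decide +kernel

noncomputable def j9_418_6 : List Job := [
  ⟨54, 0x6e172ba5daf17abe5fe41229249a512a964bd80c26231990ca6633d008242219108a4623c68361e0fc60321c0ec4826160bc4022140ac1e0d058240e0501, 0, 152, 0x0, []⟩]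

theorem t9_418_6 : jobs 8 S9 b8_418 j9_418_6 = true := by decide +kernel

noncomputable def j9_418_7 : List Job := [
  ⟨53, 0x68142a251a914aa653e01028241a110a8643d80c26231990ca6633d008242219108a4623c68361e0fc60321c0ec4826160bc4022140ac1e0d058240e0501, 0, 152, 0x0, []⟩]

theorem t9_418_7 : jobs 8 S9 b8_418 j9_418_7 = true := by decide +kernel

noncomputable def j9_418_8 : List Job := [
  ⟨52, 0x68142a251a914aa653e41229249a512a964bde0f27a3d9f0fa7e3fd008242219108a4623c68361e0fc60321c0ec4826160bc4022140ac1e0d058240e0501, 0, 152, 0x0, []⟩]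

theorem t9_418_8 : jobs 8 S9 b8_418 j9_418_8 = true := by decide +kernel

noncomputable def j9_418_9 : List Job := [
  ⟨51, 0x68142a251a914aa653e01028241a110a8643c68361e0fc60321c0ec4826160bc4022140ac1e0d058240e0501, 0, 272, 0x0, []⟩]

theorem t9_418_9 : jobs 8 S9 b8_418 j9_418_9 = true := by decide +kernel

noncomputable def j9_418_10 : List Job := [
  ⟨50, 0x68142a251a914aa653e01028241a110a8643de0f27a3d9f0fa7e3fd80c26231990ca6633d40a25229950aa562bd008242219108a4623c68361e0fc60321c0ec4826160bc4022140ac1e0d058240e0501, 0, 272, 0x0, []⟩]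

theorem t9_418_10 : jobs 8 S9 b8_418 j9_418_10 = true := by decide +kernel

noncomputable def j9_418_11 : List Job := [
  ⟨49, 0x468361e0fc60321c0ec4826160bc4022140ac1e0d058240e0501, 0, 92, 0x0, []⟩]

theorem t9_418_11 : jobs 8 S9 b8_418 j9_418_11 = true := by decide +kernel

noncomputable def j9_418_12 : List Job := [
  ⟨48, 0x5e0f27a3d9f0fa7e3fd80c26231990ca6633d40a25229950aa562bd008242219108a4623c68361e0fc60321c0ec4826160bc4022140ac1e0d058240e0501, 0, 152, 0x0, []⟩]

theorem t9_418_12 : jobs 8 S9 b8_418 j9_418_12 = true := by decide +kernel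

noncomputable def j9_418_13 : List Job := [
  ⟨47, 0x6e172ba5daf17abe5fe8142a251a914aa653e41229249a512a964be01028241a110a8643de0f27a3d9f0fa7e3fd80c26231990ca6633d40a25229950aa562bd008242219108a4623c68361e0fc60321c0ec4826160bc4022140ac1e0d058240e0501, 0, 92, 0x0, []⟩]

theorem t9_418_13 : jobs 8 S9 b8_418 j9_418_13 = true := by decide +kernel

noncomputable def j9_418_14 : List Job := [
  ⟨46, 0x550aa562bd40a25229d04864423500844523c68361e0fc60321c0ec4826160bc4022140ac1e0d058240e0501, 0, 272, 0x0, []⟩]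

theorem t9_418_14 : jobs 8 S9 b8_418 j9_418_14 = true := by decide +kernel

noncomputable def j9_418_15 : List Job := [
  ⟨45, 0x6e172ba5daf17abe5fe8142a251a914aa653e41229249a512a964be01028241a110a8643d50aa562bd40a25229d04864423500844523c68361e0fc60321c0ec4826160bc4022140ac1e0d058240e0501, 0, 272, 0x0, []⟩]

theorem t9_418_15 : jobs 8 S9 b8_418 j9_418_15 = true := by decide +kernel

noncomputable def j9_418_16 : List Job := [
  ⟨44, 0x6e576bc5f6e174bd5fe914aa653e8142a251d50aa562bd40a25229d04864423500844523c68361e0fc60321c0ec4826160bc4022140ac1e0d058240e0501, 0, 152, 0x0, []⟩]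

theorem t9_418_16 : jobs 8 S9 b8_418 j9_418_16 = true := by decide +kernel

noncomputable def j9_418_17 : List Job := [
  ⟨43, 0x6512a964be41229249e05068443601048543d50aa562bd40a25229d04864423500844523c68361e0fc60321c0ec4826160bc4022140ac1e0d058240e0501, 0, 152, 0x0, []⟩]

theorem t9_418_17 : jobs 8 S9 b8_418 j9_418_17 = true := by decide +kernel

noncomputable def j9_418_18 : List Job := [
  ⟨42, 0x6e172ba5daf17abe5fe8142a251a914aa653d40a25229950aa562bd008242219108a4623ca8562e17ca0522c16c88462613c80422412c68361e0fc60321c0ec4826160bc4022140ac1e0d058240e0501, 0, 152, 0x0, []⟩]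

theorem t9_418_18 : jobs 8 S9 b8_418 j9_418_18 = true := by decide +kernel

noncomputable def j9_418_19 : List Job := [
  ⟨41, 0x601028241a110a8643d80c26231990ca6633c68361e0fc60321c0ec4826160bc4022140ac1e0d058240e0501, 0, 272, 0x0, []⟩]

theorem t9_418_19 : jobs 8 S9 b8_418 j9_418_19 = true := by decide +kernel

noncomputable def j9_418_20 : List Job := [
  ⟨40, 0x6e172ba5daf17abe5fe8546a45368144a553e41229249a512a964bde0f27a3d9f0fa7e3fd40a25229950aa562bd108a4623d00824221c68361e0fc60321c0ec4826160bc4022140ac1e0d058240e0501, 0, 272, 0x0, []⟩]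

theorem t9_418_20 : jobs 8 S9 b8_418 j9_418_20 = true := by decide +kernel

noncomputable def j9_418_21 : List Job := [
  ⟨39, 0x6e172ba5daf17abe5fd80c26231990ca6633c68361e0fc60321c0ec4826160bc4022140ac1e0d058240e0501, 0, 272, 0x0, []⟩]

theorem t9_418_21 : jobs 8 S9 b8_418 j9_418_21 = true := by decide +kernel

noncomputable def j9_418_22 : List Job := [
  ⟨38, 0x68142a251a914aa653e4526944b64124954be01028241a110a8643de0f27a3d9f0fa7e3fd40a25229950aa562bd108a4623d00824221c68361e0fc60321c0ec4826160bc4022140ac1e0d058240e0501, 0, 272, 0x0, []⟩]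

theorem t9_418_22 : jobs 8 S9 b8_418 j9_418_22 = true := by decide +kernel

noncomputable def j9_418_23 : List Job := [
  ⟨37, 0x6e172ba5daf17abe5fe8142a251a914aa653d40a25229950aa562bd008242219108a4623c88462613c80422412c28160e07c20120c06c1e0d058240e0501, 0, 272, 0x0, []⟩]

theorem t9_418_23 : jobs 8 S9 b8_418 j9_418_23 = true := by decide +kernel

noncomputable def j9_418_24 : List Job := [
  ⟨36, 0x488462613c80422412c28160e07c20120c06c1e0d058240e0501, 0, 152, 0x0, []⟩]

theorem t9_418_24 : jobs 8 S9 b8_418 j9_418_24 = true := by decide +kernel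

noncomputable def j9_418_25 : List Job := [
  ⟨35, 0x5e0f27a3d9f0fa7e3fd80c26231990ca6633d40a25229950aa562bd008242219108a4623c88462613c80422412c28160e07c20120c06c1e0d058240e0501, 0, 272, 0x0, []⟩]

theorem t9_418_25 : jobs 8 S9 b8_418 j9_418_25 = true := by decide +kernel

noncomputable def j9_418_26 : List Job := [
  ⟨34, 0x6e172ba5daf17abe5fe8142a251a914aa653e41229249a512a964be01028241a110a8643de0f27a3d9f0fa7e3fd80c26231990ca6633d40a25229950aa562bd008242219108a4623c88462613c80422412c28160e07c20120c06c1e0d058240e0501, 0, 152, 0x0, []⟩]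

theorem t9_418_26 : jobs 8 S9 b8_418 j9_418_26 = true := by decide +kernel

noncomputable def j9_418_27 : List Job := [
  ⟨33, 0x5e0f27a3d9f0fa7e3fd40a25229950aa562bc88462613c80422412c28160e07c20120c06c1e0d058240e0501, 0, 272, 0x0, []⟩]

theorem t9_418_27 : jobs 8 S9 b8_418 j9_418_27 = true := by decide +kernel

noncomputable def j9_418_28 : List Job := [
  ⟨32, 0x6e172ba5daf17abe5fe8142a251a914aa653e41229249a512a964be01028241a110a8643de0f27a3d9f0fa7e3fd40a25229950aa562bc88462613c80422412c28160e07c20120c06c1e0d058240e0501, 0, 272, 0x0, []⟩]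

theorem t9_418_28 : jobs 8 S9 b8_418 j9_418_28 = true := by decide +kernel

noncomputable def j9_418_29 : List Job := [
  ⟨31, 0x590ca6633d80c26231d04864423500844523c88462613c80422412c28160e07c20120c06c1e0d058240e0501, 0, 272, 0x0, []⟩]

theorem t9_418_29 : jobs 8 S9 b8_418 j9_418_29 = true := by decide +kernel

noncomputable def j9_418_30 : List Job := [
  ⟨30, 0x6e172ba5daf17abe5fe8142a251a914aa653e41229249a512a964be01028241a110a8643d90ca6633d80c26231d04864423500844523c88462613c80422412c28160e07c20120c06c1e0d058240e0501, 0, 272, 0x0, []⟩]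

theorem t9_418_30 : jobs 8 S9 b8_418 j9_418_30 = true := by decide +kernel

noncomputable def j9_418_31 : List Job := [
  ⟨29, 0x68142a251a914aa653e4526944b64124954bdf0fa7e3fde0f27a3dd008242219108a4623c88462613c80422412c28160e07c20120c06c1e0d058240e0501, 0, 272, 0x0, []⟩]

theorem t9_418_31 : jobs 8 S9 b8_418 j9_418_31 = true := by decide +kernel

noncomputable def j9_418_32 : List Job := [
  ⟨28, 0x6e172ba5daf17abe5fe41229249a512a964bde0f27a3d9f0fa7e3fd40a25229950aa562bc88462613c80422412c28160e07c20120c06c1e0d058240e0501, 0, 152, 0x0, []⟩]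

theorem t9_418_32 : jobs 8 S9 b8_418 j9_418_32 = true := by decide +kernel

noncomputable def j9_418_33 : List Job := [
  ⟨27, 0x6e172ba5daf17abe5fe41229249a512a964bd90ca6633d80c26231d04864423500844523c88462613c80422412c28160e07c20120c06c1e0d058240e0501, 0, 272, 0x0, []⟩]

theorem t9_418_33 : jobs 8 S9 b8_418 j9_418_33 = true := by decide +kernel

noncomputable def j9_418_34 : List Job := [
  ⟨26, 0x6914aa653e8142a251e05068443601048543d90ca6633d80c26231d04864423500844523c88462613c80422412c28160e07c20120c06c1e0d058240e0501, 0, 152, 0x0, []⟩]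

theorem t9_418_34 : jobs 8 S9 b8_418 j9_418_34 = true := by decide +kernel

noncomputable def j9_418_35 : List Job := [
  ⟨25, 0x6e172ba5daf17abe5fe41229249a512a964be01028241a110a8643de0f27a3d9f0fa7e3fd80c26231990ca6633d40a25229950aa562bc88462613c80422412c28160e07c20120c06c1e0d058240e0501, 0, 272, 0x0, []⟩]

theorem t9_418_35 : jobs 8 S9 b8_418 j9_418_35 = true := by decide +kernel

noncomputable def j9_418_36 : List Job := [
  ⟨24, 0x68142a251a914aa653d008242219108a4623c88462613c80422412c28160e07c20120c06c1e0d058240e0501, 0, 272, 0x0, []⟩]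

theorem t9_418_36 : jobs 8 S9 b8_418 j9_418_36 = true := by decide +kernel

noncomputable def j9_418_37 : List Job := [
  ⟨23, 0x6e574bc5fee176bd5f548a6542ad40a2562bc88462613c80422412c28160e07c20120c06c1e0d058240e0501, 0, 272, 0x0, []⟩]

theorem t9_418_37 : jobs 8 S9 b8_418 j9_418_37 = true := by decide +kernel

noncomputable def j9_418_38 : List Job := [
  ⟨22, 0x68546a45368144a553e41229249a512a964be01028241a110a8643de0f27a3d9f0fa7e3fd80c26231990ca6633d108a4623d00824221c88462613c80422412c28160e07c20120c06c1e0d058240e0501, 0, 272, 0x0, []⟩]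

theorem t9_418_38 : jobs 8 S9 b8_418 j9_418_38 = true := by decide +kernel

noncomputable def j9_418_39 : List Job := [
  ⟨21, 0x6e172ba5daf17abe5fe01028241a110a8643de0f27a3d9f0fa7e3fd40a25229950aa562bc88462613c80422412c68361e0fc60321c0ec4826160bc4022140ac28160e07c20120c06c1e0d058240e0501, 132, 140, 0x0, []⟩]

theorem t9_418_39 : jobs 8 S9 b8_418 j9_418_39 = true := by decide +kernel

noncomputable def j9_418_40 : List Job := [
  ⟨21, 0x6e172ba5daf17abe5fe01028241a110a8643de0f27a3d9f0fa7e3fd40a25229950aa562bc88462613c80422412c68361e0fc60321c0ec4826160bc4022140ac28160e07c20120c06c1e0d058240e0501, 0, 132, 0x0, []⟩]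

theorem t9_418_40 : jobs 8 S9 b8_418 j9_418_40 = true := by decide +kernel

noncomputable def j9_418_41 : List Job := [
  ⟨20, 0x6e172ba5daf17abe5fe41229249a512a964bde0f27a3d9f0fa7e3fd40a25229950aa562bc88462613c80422412c68361e0fc60321c0ec4826160bc4022140ac28160e07c20120c06c1e0d058240e0501, 0, 152, 0x0, []⟩]

theorem t9_418_41 : jobs 8 S9 b8_418 j9_418_41 = true := by decide +kernel

noncomputable def j9_418_42 : List Job := [
  ⟨19, 0x6e172ba5daf17abe5fe41229249a512a964bd80c26231990ca6633d008242219108a4623c88462613c80422412c68361e0fc60321c0ec4826160bc4022140ac28160e07c20120c06c1e0d058240e0501, 130, 142, 0x0, []⟩]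

theorem t9_418_42 : jobs 8 S9 b8_418 j9_418_42 = true := by decide +kernel

noncomputable def j9_418_43 : List Job := [
  ⟨19, 0x6e172ba5daf17abe5fe41229249a512a964bd80c26231990ca6633d008242219108a4623c88462613c80422412c68361e0fc60321c0ec4826160bc4022140ac28160e07c20120c06c1e0d058240e0501, 0, 130, 0x0, []⟩]

theorem t9_418_43 : jobs 8 S9 b8_418 j9_418_43 = true := by decide +kernel

noncomputable def j9_418_44 : List Job := [
  ⟨18, 0x6a152aa55ab15aae57e01028241a110a8643de0f27a3d9f0fa7e3fda0d26a359b0da6e37d60b25a2d970ba5e2fd40a25229950aa562bc1e0d058240e0501, 0, 272, 0x0, []⟩]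

theorem t9_418_44 : jobs 8 S9 b8_418 j9_418_44 = true := by decide +kernel

noncomputable def j9_418_45 : List Job := [
  ⟨17, 0x6e172ba5daf17abe5fea152aa55ab15aae57dd0ea763bdc0e27239da0d26a359b0da6e37c1e0d058240e0501, 0, 288, 0x0, []⟩]

theorem t9_418_45 : jobs 8 S9 b8_418 j9_418_45 = true := by decide +kernel

noncomputable def j9_418_46 : List Job := [
  ⟨16, 0x661329a4da713a9e4fe01028241a110a8643dc8e6763bdc0e2743ada0d26a359b0da6e37c1e0d058240e0501, 0, 288, 0x0, []⟩]

theorem t9_418_46 : jobs 8 S9 b8_418 j9_418_46 = true := by decide +kernel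

noncomputable def j9_418_47 : List Job := [
  ⟨15, 0x6e172ba5daf17abe5fea152aa55ab15aae57de0f27a3d9f0fa7e3fd84c46433d80c66533560b25a2d970ba5e2fd40a25229950aa562bc1e0d058240e0501, 0, 288, 0x0, []⟩]

theorem t9_418_47 : jobs 8 S9 b8_418 j9_418_47 = true := by decide +kernel

noncomputable def j9_418_48 : List Job := [
  ⟨14, 0x661329a4da713a9e4fe01028241a110a8643de0f27a3d9f0fa7e3fd84c46433d80c66533560b25a2d970ba5e2fd40a25229950aa562bc1e0d058240e0501, 0, 288, 0x0, []⟩]

theorem t9_418_48 : jobs 8 S9 b8_418 j9_418_48 = true := by decide +kernel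

noncomputable def j9_418_49 : List Job := [
  ⟨13, 0x5c4e6743b5c0e4753bda0d26a359b0da6e37c1e0d058240e0501, 0, 288, 0x0, []⟩]

theorem t9_418_49 : jobs 8 S9 b8_418 j9_418_49 = true := by decide +kernel

noncomputable def j9_418_50 : List Job := [
  ⟨12, 0x6e172ba5daf17abe5fea152aa55ab15aae57e61329a4da713a9e4fe01028241a110a8643dc4e4753b5c0e6743bda0d26a359b0da6e37c1e0d058240e0501, 0, 288, 0x0, []⟩]

theorem t9_418_50 : jobs 8 S9 b8_418 j9_418_50 = true := by decide +kernel

noncomputable def j9_418_51 : List Job := [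
  ⟨11, 0x5e0f27a3d9f0fa7e3fd88c66432d80c26633d60b25a2d970ba5e2fd40a25229950aa562bc1e0d058240e0501, 0, 288, 0x0, []⟩]

theorem t9_418_51 : jobs 8 S9 b8_418 j9_418_51 = true := by decide +kernel

noncomputable def j9_418_52 : List Job := [
  ⟨10, 0x6e172ba5daf17abe5fea152aa55ab15aae57e61329a4da713a9e4fe01028241a110a8643de0f27a3d9f0fa7e3fd88c66432d80c26633d60b25a2d970ba5e2fd40a25229950aa562bc1e0d058240e0501, 0, 288, 0x0, []⟩]

theorem t9_418_52 : jobs 8 S9 b8_418 j9_418_52 = true := by decide +kernel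

noncomputable def j9_418_53 : List Job := [
  ⟨9, 0x661329a4da713a9e4fe01028241a110a8643d40a25229950aa562bc1e0d058240e0501, 0, 272, 0x0, []⟩]

theorem t9_418_53 : jobs 8 S9 b8_418 j9_418_53 = true := by decide +kernel

noncomputable def j9_418_54 : List Job := [
  ⟨8, 0x661329a4da713a9e4fe01028241a110a8643de0f27a3d9f0fa7e3fdc0e272399d0ea763bda0d26a359b0da6e37d80c26231990ca6633d60b25a2d970ba5e2fc1e0d058240e0501, 0, 272, 0x0, []⟩]

theorem t9_418_54 : jobs 8 S9 b8_418 j9_418_54 = true := by decide +kernel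

noncomputable def j9_418_55 : List Job := [
  ⟨7, 0x6e172ba5daf17abe5fea152aa55ab15aae57e61329a4da713a9e4fde0f27a3d9f0fa7e3fdc0e272399d0ea763bd60b25a2d970ba5e2fc1e0d058240e0501, 0, 272, 0x0, []⟩]

theorem t9_418_55 : jobs 8 S9 b8_418 j9_418_55 = true := by decide +kernel

noncomputable def j9_418_56 : List Job := [
  ⟨6, 0x6a152aa55ab15aae57e01028241a110a8643c1e0d058240e0501, 0, 272, 0x0, []⟩]

theorem t9_418_56 : jobs 8 S9 b8_418 j9_418_56 = true := by decide +kernel

noncomputable def j9_418_57 : List Job := [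
  ⟨5, 0x6e172ba5daf17abe5fea152aa55ab15aae57c1e0d058240e0501, 0, 272, 0x0, []⟩]

theorem t9_418_57 : jobs 8 S9 b8_418 j9_418_57 = true := by decide +kernel

noncomputable def j9_418_58 : List Job := [
  ⟨4, 0x661329a4da713a9e4fe01028241a110a8643c1e0d058240e0501, 0, 272, 0x0, []⟩]

theorem t9_418_58 : jobs 8 S9 b8_418 j9_418_58 = true := by decide +kernel

noncomputable def j9_418_59 : List Job := [
  ⟨3, 0x6e172ba5daf17abe5fea152aa55ab15aae57d24944d27520964c27d08864623d00824422c1e0d058240e0501, 0, 272, 0x0, []⟩]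

theorem t9_418_59 : jobs 8 S9 b8_418 j9_418_59 = true := by decide +kernel

noncomputable def j9_418_60 : List Job := [
  ⟨2, 0x661329a4da713a9e4fe01028241a110a8643d24964c27520944d27d108a4623d00824221c1e0d058240e0501, 0, 272, 0x0, []⟩]

theorem t9_418_60 : jobs 8 S9 b8_418 j9_418_60 = true := by decide +kernel

noncomputable def j9_418_61 : List Job := [
  ⟨1, 0x41e0d058240e0501, 0, 272, 0x0, []⟩]

theorem t9_418_61 : jobs 8 S9 b8_418 j9_418_61 = true := by decide +kernel

noncomputable def j9_418_62 : List Job := [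
  ⟨0, 0x6e172ba5daf17abe5fea152aa55ab15aae57e61329a4da713a9e4fe01028241a110a8643c1e0d058240e0501, 0, 272, 0x0, []⟩]

theorem t9_418_62 : jobs 8 S9 b8_418 j9_418_62 = true := by decide +kernel

theorem d9_418 : Dn 8 S9 b8_418 := dn_of (Js := j9_418_0 ++ (j9_418_1 ++ (j9_418_2 ++ (j9_418_3 ++ (j9_418_4 ++ (j9_418_5 ++ (j9_418_6 ++ (j9_418_7 ++ (j9_418_8 ++ (j9_418_9 ++ (j9_418_10 ++ (j9_418_11 ++ (j9_418_12 ++ (j9_418_13 ++ (j9_418_14 ++ (j9_418_15 ++ (j9_418_16 ++ (j9_418_17 ++ (j9_418_18 ++ (j9_418_19 ++ (j9_418_20 ++ (j9_418_21 ++ (j9_418_22 ++ (j9_418_23 ++ (j9_418_24 ++ (j9_418_25 ++ (j9_418_26 ++ (j9_418_27 ++ (j9_418_28 ++ (j9_418_29 ++ (j9_418_30 ++ (j9_418_31 ++ (j9_418_32 ++ (j9_418_33 ++ (j9_418_34 ++ (j9_418_35 ++ (j9_418_36 ++ (j9_418_37 ++ (j9_418_38 ++ (j9_418_39 ++ (j9_418_40 ++ (j9_418_41 ++ (j9_418_42 ++ (j9_418_43 ++ (j9_418_44 ++ (j9_418_45 ++ (j9_418_46 ++ (j9_418_47 ++ (j9_418_48 ++ (j9_418_49 ++ (j9_418_50 ++ (j9_418_51 ++ (j9_418_52 ++ (j9_418_53 ++ (j9_418_54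 ++ (j9_418_55 ++ (j9_418_56 ++ (j9_418_57 ++ (j9_418_58 ++ (j9_418_59 ++ (j9_418_60 ++ (j9_418_61 ++ (j9_418_62 ++ [])))))))))))))))))))))))))))))))))))))))))))))))))))))))))))))))
  (jobs_append t9_418_0 <| jobs_append t9_418_1 <| jobs_append t9_418_2 <| jobs_append t9_418_3 <| jobs_append t9_418_4 <| jobs_append t9_418_5 <| jobs_append t9_418_6 <| jobs_append t9_418_7 <| jobs_append t9_418_8 <| jobs_append t9_418_9 <| jobs_append t9_418_10 <| jobs_append t9_418_11 <| jobs_append t9_418_12 <| jobs_append t9_418_13 <| jobs_append t9_418_14 <| jobs_append t9_418_15 <| jobs_append t9_418_16 <| jobs_append t9_418_17 <| jobs_append t9_418_18 <| jobs_append t9_418_19 <| jobs_append t9_418_20 <| jobs_append t9_418_21 <| jobs_append t9_418_22 <| jobs_append t9_418_23 <| jobs_append t9_418_24 <| jobs_append t9_418_25 <| jobs_append t9_418_26 <| jobs_append t9_418_27 <| jobs_append t9_418_28 <| jobs_append t9_418_29 <| jobs_append t9_418_30 <| jobs_append t9_418_31 <| jobs_append t9_418_32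 <| jobs_append t9_418_33 <| jobs_append t9_418_34 <| jobs_append t9_418_35 <| jobs_append t9_418_36 <| jobs_append t9_418_37 <| jobs_append t9_418_38 <| jobs_append t9_418_39 <| jobs_append t9_418_40 <| jobs_append t9_418_41 <| jobs_append t9_418_42 <| jobs_append t9_418_43 <| jobs_append t9_418_44 <| jobs_append t9_418_45 <| jobs_append t9_418_46 <| jobs_append t9_418_47 <| jobs_append t9_418_48 <| jobs_append t9_418_49 <| jobs_append t9_418_50 <| jobs_append t9_418_51 <| jobs_append t9_418_52 <| jobs_append t9_418_53 <| jobs_append t9_418_54 <| jobs_append t9_418_55 <| jobs_append t9_418_56 <| jobs_append t9_418_57 <| jobs_append t9_418_58 <| jobs_append t9_418_59 <| jobs_append t9_418_60 <| jobs_append t9_418_61 <| jobs_append t9_418_62 <| List.forall_mem_nil _) (by decide +kernel)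

end Cfsg.Agent.FS.N.Sw
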