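import Cfsg.Agent.FS.N.Sw.Seg
import Cfsg.Agent.FS.N.G.S9
import Cfsg.Agent.FS.N.G.L.L17

/-! The filter on the pairs for the order 512, part 42 (generated; helper52, project FS) -/

set_option autoImplicit false
set_option maxRecDepth 100000
set_option Elab.async false

namespace Cfsg.Agent.FS.N.Sw

open G

noncomputable def j9_454_0 : List Job := [
  ⟨63, 0x6e172ba5daf17abe5fe01028241a110a8643d64b65c2f560b45d2fd44a6542b540a4552bd309a4e27d20924a25d108a4623d00824221c341f0c0742417080541e0d058240e0501, 0, 120, 0x0, []⟩]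

theorem t9_454_0 : jobs 8 S9 b8_454 j9_454_0 = true := by decide +kernel

noncomputable def j9_454_1 : List Job := [
  ⟨62, 0x6e172ba5daf17abe5fe01028241a110a8643c2c1f0a074241b080641e0d058240e0501, 0, 112, 0x0, []⟩]

theorem t9_454_1 : jobs 8 S9 b8_454 j9_454_1 = true := by decide +kernel

noncomputable def j9_454_2 : List Job := [
  ⟨61, 0x6e172ba5daf17abe5fe01028241a110a8643d64b65c2f560b45d2fd44a6542b540a4552bd309a4e27d20924a25d108a4623d00824221c341f0c0742417080541e0d058240e0501, 0, 120, 0x0, []⟩]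

theorem t9_454_2 : jobs 8 S9 b8_454 j9_454_2 = true := by decide +kernel

noncomputable def j9_454_3 : List Job := [
  ⟨60, 0x43e1d0d8642e15098441e0d058240e0501, 0, 40, 0x0, []⟩]

theorem t9_454_3 : jobs 8 S9 b8_454 j9_454_3 = true := by decide +kernel

noncomputable def j9_454_4 : List Job := [
  ⟨59, 0x6e172ba5daf17abe5fec162b259ad16ab65be21128a45a311a8e47e01028241a110a8643c3e1d0d8642e15098441e0d058240e0501, 0, 48, 0x0, []⟩]

theorem t9_454_4 : jobs 8 S9 b8_454 j9_454_4 = true := by decide +kernel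

noncomputable def j9_454_5 : List Job := [
  ⟨58, 0x564b45d2f560b65c2fd44a4552b540a6542bd28964e27d20924c26d08864623d00824422c3e1d0d8642e15098441e0d058240e0501, 0, 48, 0x0, []⟩]

theorem t9_454_5 : jobs 8 S9 b8_454 j9_454_5 = true := by decide +kernel

noncomputable def j9_454_6 : List Job := [
  ⟨57, 0x6e172ba5daf17abe5fec162b259ad16ab65be21128a45a311a8e47e01028241a110a8643d64b65c2f560b45d2fd44a6542b540a4552bd309a4e27d20924a25d108a4623d00824221c3e1d0d8642e15098441e0d058240e0501, 0, 62, 0x7401007801, []⟩]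

theorem t9_454_6 : jobs 8 S9 b8_454 j9_454_6 = true := by decide +kernel

noncomputable def j9_454_7 : List Job := [
  ⟨56, 0x6a152aa55ab15aae57e8142a251a914aa653d20924a259309a4e27d008242219108a4623ce8763e1fce0723c1ec88462613c80422412c4826160bc4022140ac1e0d058240e0501, 0, 94, 0x0, []⟩]

theorem t9_454_7 : jobs 8 S9 b8_454 j9_454_7 = true := by decide +kernel

noncomputable def j9_454_8 : List Job := [
  ⟨55, 0x4e8763e1fce0723c1ec88462613c80422412c4826160bc4022140ac1e0d058240e0501, 0, 60, 0x0, []⟩]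

theorem t9_454_8 : jobs 8 S9 b8_454 j9_454_8 = true := by decide +kernel

noncomputable def j9_454_9 : List Job := [
  ⟨54, 0x560b25a2d970ba5e2fd40a25229950aa562bd20924a259309a4e27d008242219108a4623ce8763e1fce0723c1ec88462613c80422412c4826160bc4022140ac1e0d058240e0501, 0, 100, 0x0, []⟩]

theorem t9_454_9 : jobs 8 S9 b8_454 j9_454_9 = true := by decide +kernel

noncomputable def j9_454_10 : List Job := [
  ⟨53, 0x6a152aa55ab15aae57e8142a251a914aa653e21128a45a311a8e47e01028241a110a8643d60b25a2d970ba5e2fd40a25229950aa562bd20924a259309a4e27d008242219108a4623ce8763e1fce0723c1ec88462613c80422412c4826160bc4022140ac1e0d058240e0501, 0, 60, 0x0, []⟩]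

theorem t9_454_10 : jobs 8 S9 b8_454 j9_454_10 = true := by decide +kernel

noncomputable def j9_454_11 : List Job := [
  ⟨52, 0x621128a45a311a8e47e01028241a110a8643d20924a259309a4e27d008242219108a4623cc866361bcc062341ac88462613c80422412c4826160bc4022140ac1e0d058240e0501, 0, 94, 0x0, []⟩]

theorem t9_454_11 : jobs 8 S9 b8_454 j9_454_11 = true := by decide +kernel

noncomputable def j9_454_12 : List Job := [
  ⟨51, 0x621128a45a311a8e47e01028241a110a8643cd86f341acc8673018c88462613c80422412c4c2d120bc4429100ac1e0d058240e0501, 0, 112, 0x0, []⟩]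

theorem t9_454_12 : jobs 8 S9 b8_454 j9_454_12 = true := by decide +kernel

noncomputable def j9_454_13 : List Job := [
  ⟨50, 0x621128a45a311a8e47e01028241a110a8643d60b25a2d970ba5e2fd40a25229950aa562bd20924a259309a4e27d008242219108a4623cd86f341acc8673018c88462613c80422412c4c2d120bc4429100ac1e0d058240e0501, 0, 120, 0x0, []⟩]

theorem t9_454_13 : jobs 8 S9 b8_454 j9_454_13 = true := by decide +kernel

noncomputable def j9_454_14 : List Job := [
  ⟨49, 0x560b25a2d970ba5e2fd40a25229950aa562bd20924a259309a4e27d008242219108a4623cc866361bcc062341ac984f2412c88472010c4c2d120bc4429100ac1e0d058240e0501, 0, 86, 0x0, []⟩]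

theorem t9_454_14 : jobs 8 S9 b8_454 j9_454_14 = true := by decide +kernel

noncomputable def j9_454_15 : List Job := [
  ⟨48, 0x621128a45a311a8e47e01028241a110a8643cc866361bcc062341ac88462613c80422412c582f140ac48271008c1e0d058240e0501, 0, 108, 0x0, []⟩]

theorem t9_454_15 : jobs 8 S9 b8_454 j9_454_15 = true := by decide +kernel

noncomputable def j9_454_16 : List Job := [
  ⟨47, 0x621128a45a311a8e47e01028241a110a8643d60b25a2d970ba5e2fd40a25229950aa562bd20924a259309a4e27d008242219108a4623cc866361bcc062341ac88462613c80422412c582f140ac48271008c1e0d058240e0501, 0, 116, 0x0, []⟩]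

theorem t9_454_16 : jobs 8 S9 b8_454 j9_454_16 = true := by decide +kernel

noncomputable def j9_454_17 : List Job := [
  ⟨46, 0x560b25a2d970ba5e2fd008242219108a4623cc866361bcc062341ac984f2412c88472010c4826160bc4022140ac1e0d058240e0501, 0, 112, 0x0, []⟩]

theorem t9_454_17 : jobs 8 S9 b8_454 j9_454_17 = true := by decide +kernel

noncomputable def j9_454_18 : List Job := [
  ⟨45, 0x6a152aa55ab15aae57e8142a251a914aa653e21128a45a311a8e47e01028241a110a8643d60b25a2d970ba5e2fd008242219108a4623cc866361bcc062341ac984f2412c88472010c4826160bc4022140ac1e0d058240e0501, 0, 120, 0x0, []⟩]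

theorem t9_454_18 : jobs 8 S9 b8_454 j9_454_18 = true := by decide +kernel

noncomputable def j9_454_19 : List Job := [
  ⟨44, 0x548a6542ad40a2562bd108a4623d00824221cc866361bcc062341ac984f2412c88472010c4c2d120bc4429100ac1e0d058240e0501, 0, 112, 0x0, []⟩]

theorem t9_454_19 : jobs 8 S9 b8_454 j9_454_19 = true := by decide +kernel

noncomputable def j9_454_20 : List Job := [
  ⟨43, 0x6a152aa55ab15aae57e8142a251a914aa653e21128a45a311a8e47e01028241a110a8643d48a6542ad40a2562bd108a4623d00824221cc866361bcc062341ac984f2412c88472010c4c2d120bc4429100ac1e0d058240e0501, 0, 120, 0x0, []⟩]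

theorem t9_454_20 : jobs 8 S9 b8_454 j9_454_20 = true := by decide +kernel

noncomputable def j9_454_21 : List Job := [
  ⟨42, 0x6a152aa55ab15aae57e01028241a110a8643d48a6542ad40a2562bd108a4623d00824221cd86f341acc8673018c88462613c80422412c4c2d120bc4429100ac1e0d058240e0501, 0, 176, 0x0, []⟩]

theorem t9_454_21 : jobs 8 S9 b8_454 j9_454_21 = true := by decide +kernel

noncomputable def j9_454_22 : List Job := [
  ⟨41, 0x6a152aa55ab15aae57e01028241a110a8643d40a25229950aa562bd008242219108a4623c68361e0fc60321c0ec582f140ac48271008c2c1f0a074241b080641e0d058240e0501, 0, 176, 0x0, []⟩]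

theorem t9_454_22 : jobs 8 S9 b8_454 j9_454_22 = true := by decide +kernel

noncomputable def j9_454_23 : List Job := [
  ⟨40, 0x6a152aa55ab15aae57e01028241a110a8643d28964c26d20924e27d108a4623d00824221c2c1f0a074241b080641e0d058240e0501, 0, 168, 0x0, []⟩]

theorem t9_454_23 : jobs 8 S9 b8_454 j9_454_23 = true := by decide +kernel

noncomputable def j9_454_24 : List Job := [
  ⟨39, 0x68142a251a914aa653e01028241a110a8643d28964c26d20924e27d108a4623d00824221ce8763e1fce0723c1ecc866361bcc062341aca8562e17ca0522c16c88462613c80422412c2c1f0a074241b080641e0d058240e0501, 0, 168, 0x0, []⟩]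

theorem t9_454_24 : jobs 8 S9 b8_454 j9_454_24 = true := by decide +kernel

noncomputable def j9_454_25 : List Job := [
  ⟨38, 0x6a152aa55ab15aae57e01028241a110a8643cec7d3a1fce479381ecc866361bcc062341ac2c1f0a074241b080641e0d058240e0501, 0, 112, 0x0, []⟩]

theorem t9_454_25 : jobs 8 S9 b8_454 j9_454_25 = true := by decide +kernel

noncomputable def j9_454_26 : List Job := [
  ⟨37, 0x6a152aa55ab15aae57e01028241a110a8643d60b25a2d970ba5e2fd40a25229950aa562bd20924a259309a4e27d008242219108a4623cec7d3a1fce479381ecc866361bcc062341ac2c1f0a074241b080641e0d058240e0501, 0, 120, 0x0, []⟩]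

theorem t9_454_26 : jobs 8 S9 b8_454 j9_454_26 = true := by decide +kernel

noncomputable def j9_454_27 : List Job := [
  ⟨36, 0x68142a251a914aa653e01028241a110a8643ca8562e17ca0522c16c984f2412c88472010c2c1f0a074241b080641e0d058240e0501, 0, 112, 0x0, []⟩]

theorem t9_454_27 : jobs 8 S9 b8_454 j9_454_27 = true := by decide +kernel

noncomputable def j9_454_28 : List Job := [
  ⟨35, 0x68142a251a914aa653e01028241a110a8643d60b25a2d970ba5e2fd40a25229950aa562bd20924a259309a4e27d008242219108a4623ca8562e17ca0522c16c984f2412c88472010c2c1f0a074241b080641e0d058240e0501, 0, 120, 0x0, []⟩]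

theorem t9_454_28 : jobs 8 S9 b8_454 j9_454_28 = true := by decide +kernel

noncomputable def j9_454_29 : List Job := [
  ⟨34, 0x6a152aa55ab15aae57e01028241a110a8643d28964c26d20924e27d108a4623d00824221ce8763e1fce0723c1ecd86f341acc8673018c2c1f0a074241b080641e0d058240e0501, 0, 168, 0x0, []⟩]

theorem t9_454_29 : jobs 8 S9 b8_454 j9_454_29 = true := by decide +kernel

noncomputable def j9_454_30 : List Job := [
  ⟨33, 0x68142a251a914aa653e01028241a110a8643d28964c26d20924e27d108a4623d00824221ca8562e17ca0522c16c984f2412c88472010c2c1f0a074241b080641e0d058240e0501, 0, 168, 0x0, []⟩]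

theorem t9_454_30 : jobs 8 S9 b8_454 j9_454_30 = true := by decide +kernel

noncomputable def j9_454_31 : List Job := [
  ⟨32, 0x6a152aa55ab15aae57e01028241a110a8643d20924a259309a4e27d008242219108a4623ce8763e1fce0723c1ecc866361bcc062341ac68361e0fc60321c0ec4826160bc4022140ac2c1f0a074241b080641e0d058240e0501, 0, 168, 0x0, []⟩]

theorem t9_454_31 : jobs 8 S9 b8_454 j9_454_31 = true := by decide +kernel

noncomputable def j9_454_32 : List Job := [
  ⟨31, 0x68142a251a914aa653e01028241a110a8643d20924a259309a4e27d008242219108a4623cb05a2e17ca0522a15c904a2613c80422211c703a1e0fc60321a0dc502a160bc40221209c381f0c06c28170804c1e0d058240e0501, 0, 168, 0x0, []⟩]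

theorem t9_454_32 : jobs 8 S9 b8_454 j9_454_32 = true := by decide +kernel

noncomputable def j9_454_33 : List Job := [
  ⟨30, 0x6a152aa55ab15aae57e01028241a110a8643d20924a259309a4e27d008242219108a4623c68361e0fc60321c0ec4826160bc4022140ac2c1f0a074241b080641e0d058240e0501, 0, 168, 0x0, []⟩]

theorem t9_454_33 : jobs 8 S9 b8_454 j9_454_33 = true := by decide +kernel

noncomputable def j9_454_34 : List Job := [
  ⟨29, 0x6a152aa55ab15aae57e01028241a110a8643c6c3d1a0fc6439180ec582f140ac48271008c2c1f0a074241b080641e0d058240e0501, 0, 112, 0x0, []⟩]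

theorem t9_454_34 : jobs 8 S9 b8_454 j9_454_34 = true := by decide +kernel

noncomputable def j9_454_35 : List Job := [
  ⟨28, 0x6a152aa55ab15aae57e01028241a110a8643d68b65c2ed60b25e2fd50aa562bd40a25229d28964c26d20924e27d108a4623d00824221c6c3d1a0fc6439180ec582f140ac48271008c2c1f0a074241b080641e0d058240e0501, 0, 120, 0x0, []⟩]

theorem t9_454_35 : jobs 8 S9 b8_454 j9_454_35 = true := by decide +kernel

noncomputable def j9_454_36 : List Job := [
  ⟨27, 0x560b25a2d970ba5e2fd40a25229950aa562bd20924a259309a4e27d008242219108a4623ce8763e1fce0723c1ecc866361bcc062341ac3e1d0d8642e15098441e0d058240e0501, 0, 48, 0x0, []⟩]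

theorem t9_454_36 : jobs 8 S9 b8_454 j9_454_36 = true := by decide +kernel

noncomputable def j9_454_37 : List Job := [
  ⟨26, 0x42c1b0a064241f080741e0d058240e0501, 0, 64, 0x0, []⟩]

theorem t9_454_37 : jobs 8 S9 b8_454 j9_454_37 = true := by decide +kernel

noncomputable def j9_454_38 : List Job := [
  ⟨25, 0x42c1b0a064241f080741e0d058240e0501, 0, 68, 0x0, []⟩]

theorem t9_454_38 : jobs 8 S9 b8_454 j9_454_38 = true := by decide +kernel

noncomputable def j9_454_39 : List Job := [
  ⟨24, 0x4341f0c0742417080541e0d058240e0501, 0, 68, 0x0, []⟩]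

theorem t9_454_39 : jobs 8 S9 b8_454 j9_454_39 = true := by decide +kernel

noncomputable def j9_454_40 : List Job := [
  ⟨23, 0x4341f0c0742417080541e0d058240e0501, 0, 72, 0x0, []⟩]

theorem t9_454_40 : jobs 8 S9 b8_454 j9_454_40 = true := by decide +kernel

noncomputable def j9_454_41 : List Job := [
  ⟨22, 0x4341f0c0742417080541e0d058240e0501, 0, 84, 0x0, []⟩]

theorem t9_454_41 : jobs 8 S9 b8_454 j9_454_41 = true := by decide +kernel

noncomputable def j9_454_42 : List Job := [
  ⟨21, 0x4783f1c0ec6837180cc582f140ac48271008c381f0c06c28170804c1e0d058240e0501, 0, 108, 0x0, []⟩]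

theorem t9_454_42 : jobs 8 S9 b8_454 j9_454_42 = true := by decide +kernel

noncomputable def j9_454_43 : List Job := [
  ⟨20, 0x4783f1c0ec6837180cc582f140ac48271008c381f0c06c28170804c1e0d058240e0501, 0, 54, 0x0, []⟩]

theorem t9_454_43 : jobs 8 S9 b8_454 j9_454_43 = true := by decide +kernel

noncomputable def j9_454_44 : List Job := [
  ⟨19, 0x43e1d0d8642e15098441e0d058240e0501, 0, 28, 0x0, []⟩]

theorem t9_454_44 : jobs 8 S9 b8_454 j9_454_44 = true := by decide +kernel

noncomputable def j9_454_45 : List Job := [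
  ⟨18, 0x43e1d0d8642e15098441e0d058240e0501, 0, 39, 0x0, []⟩]

theorem t9_454_45 : jobs 8 S9 b8_454 j9_454_45 = true := by decide +kernel

noncomputable def j9_454_46 : List Job := [
  ⟨17, 0x46c3d1a0fc6439180ec4c2d120bc4429100ac3e1d0d8642e15098441e0d058240e0501, 0, 43, 0x0, []⟩]

theorem t9_454_46 : jobs 8 S9 b8_454 j9_454_46 = true := by decide +kernel

noncomputable def j9_454_47 : List Job := [
  ⟨16, 0x5c0e272399d0ea763bd80c26231990ca6633d60b25a2d970ba5e2fd008242219108a4623c2c1b0a064241f080741e0d058240e0501, 0, 76, 0x0, []⟩]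

theorem t9_454_47 : jobs 8 S9 b8_454 j9_454_47 = true := by decide +kernel

noncomputable def j9_454_48 : List Job := [
  ⟨15, 0x5c0e272399d0ea763bd80c26231990ca6633d60b25a2d970ba5e2fd008242219108a4623c341f0c0742417080541e0d058240e0501, 0, 76, 0x0, []⟩]

theorem t9_454_48 : jobs 8 S9 b8_454 j9_454_48 = true := by decide +kernel

noncomputable def j9_454_49 : List Job := [
  ⟨14, 0x5e0f27a3d9f0fa7e3fd80c26231990ca6633d60b25a2d970ba5e2fd008242219108a4623c341f0c0742417080541e0d058240e0501, 0, 86, 0x0, []⟩]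

theorem t9_454_49 : jobs 8 S9 b8_454 j9_454_49 = true := by decide +kernel

noncomputable def j9_454_50 : List Job := [
  ⟨13, 0x5e0f27a3d9f0fa7e3fd80c26231990ca6633d60b25a2d970ba5e2fd008242219108a4623c341f0c0742417080541e0d058240e0501, 0, 96, 0x0, []⟩]

theorem t9_454_50 : jobs 8 S9 b8_454 j9_454_50 = true := by decide +kernel

noncomputable def j9_454_51 : List Job := [
  ⟨12, 0x5e0f27a3d9f0fa7e3fd80c26231990ca6633d40a25229950aa562bd008242219108a4623c783f1c0ec6837180cc582f140ac48271008c381f0c06c28170804c1e0d058240e0501, 0, 116, 0x0, []⟩]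

theorem t9_454_51 : jobs 8 S9 b8_454 j9_454_51 = true := by decide +kernel

noncomputable def j9_454_52 : List Job := [
  ⟨11, 0x564b45c2fd60b65d2f548a6542ad40a2562bc341f0c0742417080541e0d058240e0501, 0, 75, 0x0, []⟩]

theorem t9_454_52 : jobs 8 S9 b8_454 j9_454_52 = true := by decide +kernel

noncomputable def j9_454_53 : List Job := [
  ⟨10, 0x5e0f27a3d9f0fa7e3fdc0e272399d0ea763bda0d26a359b0da6e37d80c26231990ca6633d24944d27520964c27d08864623d00824422c341f0c0742417080541e0d058240e0501, 0, 87, 0x0, []⟩]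

theorem t9_454_53 : jobs 8 S9 b8_454 j9_454_53 = true := by decide +kernel

noncomputable def j9_454_54 : List Job := [
  ⟨9, 0x5a4d46d375a0d66c37d88c66633d80c26432d24944d27520964c27d08864623d00824422c341f0c0742417080541e0d058240e0501, 0, 96, 0x0, []⟩]

theorem t9_454_54 : jobs 8 S9 b8_454 j9_454_54 = true := by decide +kernel

noncomputable def j9_454_55 : List Job := [
  ⟨8, 0x5a0d26a359b0da6e37d80c26231990ca6633d20924a259309a4e27d008242219108a4623c783f1c0ec6837180cc582f140ac48271008c381f0c06c28170804c1e0d058240e0501, 0, 96, 0x0, []⟩]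

theorem t9_454_55 : jobs 8 S9 b8_454 j9_454_55 = true := by decide +kernel

noncomputable def j9_454_56 : List Job := [
  ⟨7, 0x560b25a2d970ba5e2fd40a25229950aa562bd20924a259309a4e27d008242219108a4623c3e1d0d8642e15098441e0d058240e0501, 0, 47, 0x0, []⟩]

theorem t9_454_56 : jobs 8 S9 b8_454 j9_454_56 = true := by decide +kernel

noncomputable def j9_454_57 : List Job := [
  ⟨6, 0x5a4d46d375a0d66c37d84c46533580c66433d28964e27d20924c26d08864623d00824422c3e1d0d8642e15098441e0d058240e0501, 0, 54, 0x0, []⟩]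

theorem t9_454_57 : jobs 8 S9 b8_454 j9_454_57 = true := by decide +kernel

noncomputable def j9_454_58 : List Job := [
  ⟨5, 0x5a0d26a359b0da6e37d80c26231990ca6633d20924a259309a4e27d008242219108a4623c6c3d1a0fc6439180ec4c2d120bc4429100ac3e1d0d8642e15098441e0d058240e0501, 0, 49, 0x0, []⟩]

theorem t9_454_58 : jobs 8 S9 b8_454 j9_454_58 = true := by decide +kernel

noncomputable def j9_454_59 : List Job := [
  ⟨4, 0x568b65c2ed60b25e2fd48a6542ad40a2562bd309a4e27d20924a25d108a4623d00824221c6c3d1a0fc6439180ec4c2d120bc4429100ac3e1d0d8642e15098441e0d058240e0501, 0, 49, 0x0, []⟩]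

theorem t9_454_59 : jobs 8 S9 b8_454 j9_454_59 = true := by decide +kernel

noncomputable def j9_454_60 : List Job := [
  ⟨3, 0x6c162b259ad16ab65be8142a251a914aa653e61329a4da713a9e4fe01028241a110a8643d64b45c2fd60b65d2f548a6542ad40a2562bc2c1f0a074241b080641e0d058240e0501, 0, 331, 0x0, []⟩]

theorem t9_454_60 : jobs 8 S9 b8_454 j9_454_60 = true := by decide +kernel

noncomputable def j9_454_61 : List Job := [
  ⟨2, 0x6c162b259ad16ab65be8142a251a914aa653e61329a4da713a9e4fe01028241a110a8643de0f27a3d9f0fa7e3fdc0e272399d0ea763bda0d26a359b0da6e37d80c26231990ca6633d24944d27520964c27d08864623d00824422c341f0c0742417080541e0d058240e0501, 170, 181, 0x0, []⟩]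

theorem t9_454_61 : jobs 8 S9 b8_454 j9_454_61 = true := by decide +kernel

noncomputable def j9_454_62 : List Job := [
  ⟨2, 0x6c162b259ad16ab65be8142a251a914aa653e61329a4da713a9e4fe01028241a110a8643de0f27a3d9f0fa7e3fdc0e272399d0ea763bda0d26a359b0da6e37d80c26231990ca6633d24944d27520964c27d08864623d00824422c341f0c0742417080541e0d058240e0501, 0, 170, 0x0, []⟩]

theorem t9_454_62 : jobs 8 S9 b8_454 j9_454_62 = true := by decide +kernel

noncomputable def j9_454_63 : List Job := [
  ⟨1, 0x6e172ba5daf17abe5fe8142a251a914aa653e61329a4da713a9e4fe01028241a110a8643da4d46d375a0d66c37d88c66633d80c26432d24944d27520964c27d08864623d00824422c341f0c0742417080541e0d058240e0501, 0, 332, 0x0, []⟩]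

theorem t9_454_63 : jobs 8 S9 b8_454 j9_454_63 = true := by decide +kernel

noncomputable def j9_454_64 : List Job := [
  ⟨0, 0x6c162b259ad16ab65be8142a251a914aa653e41229249a512a964be01028241a110a8643da0d26a359b0da6e37d80c26231990ca6633d20924a259309a4e27d008242219108a4623c783f1c0ec6837180cc582f140ac48271008c381f0c06c28170804c1e0d058240e0501, 0, 196, 0x0, []⟩]

theorem t9_454_64 : jobs 8 S9 b8_454 j9_454_64 = true := by decide +kernel

theorem d9_454 : Dn 8 S9 b8_454 := dn_of (Js := j9_454_0 ++ (j9_454_1 ++ (j9_454_2 ++ (j9_454_3 ++ (j9_454_4 ++ (j9_454_5 ++ (j9_454_6 ++ (j9_454_7 ++ (j9_454_8 ++ (j9_454_9 ++ (j9_454_10 ++ (j9_454_11 ++ (j9_454_12 ++ (j9_454_13 ++ (j9_454_14 ++ (j9_454_15 ++ (j9_454_16 ++ (j9_454_17 ++ (j9_454_18 ++ (j9_454_19 ++ (j9_454_20 ++ (j9_454_21 ++ (j9_454_22 ++ (j9_454_23 ++ (j9_454_24 ++ (j9_454_25 ++ (j9_454_26 ++ (j9_454_27 ++ (j9_454_28 ++ (j9_454_29 ++ (j9_454_30 ++ (j9_454_31 ++ (j9_454_32 ++ (j9_454_33 ++ (j9_454_34 ++ (j9_454_35 ++ (j9_454_36 ++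 (j9_454_37 ++ (j9_454_38 ++ (j9_454_39 ++ (j9_454_40 ++ (j9_454_41 ++ (j9_454_42 ++ (j9_454_43 ++ (j9_454_44 ++ (j9_454_45 ++ (j9_454_46 ++ (j9_454_47 ++ (j9_454_48 ++ (j9_454_49 ++ (j9_454_50 ++ (j9_454_51 ++ (j9_454_52 ++ (j9_454_53 ++ (j9_454_54 ++ (j9_454_55 ++ (j9_454_56 ++ (j9_454_57 ++ (j9_454_58 ++ (j9_454_59 ++ (j9_454_60 ++ (j9_454_61 ++ (j9_454_62 ++ (j9_454_63 ++ (j9_454_64 ++ [])))))))))))))))))))))))))))))))))))))))))))))))))))))))))))))))))
  (jobs_append t9_454_0 <| jobs_append t9_454_1 <| jobs_append t9_454_2 <| jobs_append t9_454_3 <| jobs_append t9_454_4 <| jobs_append t9_454_5 <| jobs_append t9_454_6 <| jobs_append t9_454_7 <| jobs_append t9_454_8 <| jobs_append t9_454_9 <| jobs_append t9_454_10 <| jobs_append t9_454_11 <| jobs_append t9_454_12 <| jobs_append t9_454_13 <| jobs_append t9_454_14 <| jobs_append t9_454_15 <| jobs_append t9_454_16 <| jobs_append t9_454_17 <| jobs_append t9_454_18 <| jobs_append t9_454_19 <| jobs_append t9_454_20 <| jobs_append t9_454_21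 <| jobs_append t9_454_22 <| jobs_append t9_454_23 <| jobs_append t9_454_24 <| jobs_append t9_454_25 <| jobs_append t9_454_26 <| jobs_append t9_454_27 <| jobs_append t9_454_28 <| jobs_append t9_454_29 <| jobs_append t9_454_30 <| jobs_append t9_454_31 <| jobs_append t9_454_32 <| jobs_append t9_454_33 <| jobs_append t9_454_34 <| jobs_append t9_454_35 <| jobs_append t9_454_36 <| jobs_append t9_454_37 <| jobs_append t9_454_38 <| jobs_append t9_454_39 <| jobs_append t9_454_40 <| jobs_append t9_454_41 <| jobs_append t9_454_42 <| jobs_append t9_454_43 <| jobs_append t9_454_44 <| jobs_append t9_454_45 <| jobs_append t9_454_46 <| jobs_append t9_454_47 <| jobs_append t9_454_48 <| jobs_append t9_454_49 <| jobs_append t9_454_50 <| jobs_append t9_454_51 <| jobs_append t9_454_52 <| jobs_append t9_454_53 <| jobs_append t9_454_54 <| jobs_append t9_454_55 <| jobs_append t9_454_56 <| jobs_append t9_454_57 <| jobs_append t9_454_58 <| jobs_append t9_454_59 <| jobs_append t9_454_60 <| jobs_append t9_454_61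 <| jobs_append t9_454_62 <| jobs_append t9_454_63 <| jobs_append t9_454_64 <| List.forall_mem_nil _) (by decide +kernel)

noncomputable def j9_455_0 : List Job := [
  ⟨63, 0x621128a45a311a8e47e01028241a110a8643c542f140b44427100941e0d058240e0501, 0, 82, 0x0, []⟩]

theorem t9_455_0 : jobs 8 S9 b8_455 j9_455_0 = true := by decide +kernel

noncomputable def j9_455_1 : List Job := [
  ⟨62, 0x6e172ba5daf17abe5fe01028241a110a8643da0d26a359b0da6e37d80c26231990ca6633d20924a259309a4e27d008242219108a4623c4426150bc4024140b41e0d058240e0501, 0, 120, 0x0, []⟩]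

theorem t9_455_1 : jobs 8 S9 b8_455 j9_455_1 = true := by decide +kernel

noncomputable def j9_455_2 : List Job := [
  ⟨61, 0x6e172ba5daf17abe5fe01028241a110a8643c542f140b44427100941e0d058240e0501, 0, 82, 0x0, []⟩]

theorem t9_455_2 : jobs 8 S9 b8_455 j9_455_2 = true := by decide +kernel

noncomputable def j9_455_3 : List Job := [
  ⟨60, 0x5c0e272399d0ea763bda0d26a359b0da6e37d60b25a2d970ba5e2fd008242219108a4623c4426150bc4024140b41e0d058240e0501, 0, 86, 0x0, []⟩]

theorem t9_455_3 : jobs 8 S9 b8_455 j9_455_3 = true := by decide +kernel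

noncomputable def j9_455_4 : List Job := [
  ⟨59, 0x6e172ba5daf17abe5fec162b259ad16ab65be21128a45a311a8e47e01028241a110a8643dc0e272399d0ea763bda0d26a359b0da6e37d60b25a2d970ba5e2fd008242219108a4623c4426150bc4024140b41e0d058240e0501, 0, 98, 0x0, []⟩]

theorem t9_455_4 : jobs 8 S9 b8_455 j9_455_4 = true := by decide +kernel

noncomputable def j9_455_5 : List Job := [
  ⟨58, 0x621128a45a311a8e47e01028241a110a8643de0f27a3d9f0fa7e3fd80c26231990ca6633d60b25a2d970ba5e2fd008242219108a4623c4426150bc4024140b41e0d058240e0501, 0, 120, 0x0, []⟩]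

theorem t9_455_5 : jobs 8 S9 b8_455 j9_455_5 = true := by decide +kernel

noncomputable def j9_455_6 : List Job := [
  ⟨57, 0x6e172ba5daf17abe5fec162b259ad16ab65be21128a45a311a8e47e01028241a110a8643de0f27a3d9f0fa7e3fd80c26231990ca6633d60b25a2d970ba5e2fd008242219108a4623c4426150bc4024140b41e0d058240e0501, 0, 56, 0x0, []⟩]

theorem t9_455_6 : jobs 8 S9 b8_455 j9_455_6 = true := by decide +kernel

noncomputable def j9_455_7 : List Job := [
  ⟨56, 0x6e172ba5daf17abe5fe01028241a110a8643dc0e272399d0ea763bda0d26a359b0da6e37d60b25a2d970ba5e2fd008242219108a4623c4426150bc4024140b41e0d058240e0501, 0, 120, 0x0, []⟩]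

theorem t9_455_7 : jobs 8 S9 b8_455 j9_455_7 = true := by decide +kernel

noncomputable def j9_455_8 : List Job := [
  ⟨55, 0x6e172ba5daf17abe5fe01028241a110a8643de0f27a3d9f0fa7e3fd80c26231990ca6633d60b25a2d970ba5e2fd008242219108a4623c4426150bc4024140b41e0d058240e0501, 0, 120, 0x0, []⟩]

theorem t9_455_8 : jobs 8 S9 b8_455 j9_455_8 = true := by decide +kernel

noncomputable def j9_455_9 : List Job := [
  ⟨54, 0x6c162b259ad16ab65be01028241a110a8643dc0e272399d0ea763bda0d26a359b0da6e37d60b25a2d970ba5e2fd008242219108a4623c341f0c0742417080541e0d058240e0501, 0, 120, 0x0, []⟩]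

theorem t9_455_9 : jobs 8 S9 b8_455 j9_455_9 = true := by decide +kernel

noncomputable def j9_455_10 : List Job := [
  ⟨53, 0x6c162b259ad16ab65be01028241a110a8643de0f27a3d9f0fa7e3fd80c26231990ca6633d60b25a2d970ba5e2fd008242219108a4623c341f0c0742417080541e0d058240e0501, 0, 120, 0x0, []⟩]

theorem t9_455_10 : jobs 8 S9 b8_455 j9_455_10 = true := by decide +kernel

noncomputable def j9_455_11 : List Job := [
  ⟨52, 0x6e976bc5eee172be5fec564b45bec166b55b5c0e272399d0ea763bd80c26231990ca6633d60b25a2d970ba5e2fd008242219108a4623c2c1f0a074241b080641e0d058240e0501, 0, 120, 0x0, []⟩]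

theorem t9_455_11 : jobs 8 S9 b8_455 j9_455_11 = true := by decide +kernel

noncomputable def j9_455_12 : List Job := [
  ⟨51, 0x621128a45a311a8e47e01028241a110a8643dc0e272399d0ea763bd80c26231990ca6633d60b25a2d970ba5e2fd008242219108a4623c341f0c0742417080541e0d058240e0501, 0, 120, 0x0, []⟩]

theorem t9_455_12 : jobs 8 S9 b8_455 j9_455_12 = true := by decide +kernel

noncomputable def j9_455_13 : List Job := [
  ⟨50, 0x5c0e272399d0ea763bd80c26231990ca6633d60b25a2d970ba5e2fd008242219108a4623c2c1f0a074241b080641e0d058240e0501, 0, 108, 0x0, []⟩]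

theorem t9_455_13 : jobs 8 S9 b8_455 j9_455_13 = true := by decide +kernel

noncomputable def j9_455_14 : List Job := [
  ⟨49, 0x6e172ba5daf17abe5fec162b259ad16ab65be25148d47621168c47e09068643e01028442dc0e272399d0ea763bd80c26231990ca6633d60b25a2d970ba5e2fd008242219108a4623c341f0c0742417080541e0d058240e0501, 0, 132, 0x0, []⟩]

theorem t9_455_14 : jobs 8 S9 b8_455 j9_455_14 = true := by decide +kernel

noncomputable def j9_455_15 : List Job := [
  ⟨48, 0x621128a45a311a8e47e01028241a110a8643dc0e272399d0ea763bda0d26a359b0da6e37d60b25a2d970ba5e2fd008242219108a4623c341f0c0742417080541e0d058240e0501, 0, 120, 0x0, []⟩]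

theorem t9_455_15 : jobs 8 S9 b8_455 j9_455_15 = true := by decide +kernel

noncomputable def j9_455_16 : List Job := [
  ⟨47, 0x5e0f27a3d9f0fa7e3fd80c26231990ca6633d60b25a2d970ba5e2fd008242219108a4623c2c1f0a074241b080641e0d058240e0501, 0, 86, 0x0, []⟩]

theorem t9_455_16 : jobs 8 S9 b8_455 j9_455_16 = true := by decide +kernel

noncomputable def j9_455_17 : List Job := [
  ⟨46, 0x6e172ba5daf17abe5fec162b259ad16ab65be21128a45a311a8e47e01028241a110a8643de0f27a3d9f0fa7e3fd80c26231990ca6633d60b25a2d970ba5e2fd008242219108a4623c341f0c0742417080541e0d058240e0501, 0, 98, 0x0, []⟩]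

theorem t9_455_17 : jobs 8 S9 b8_455 j9_455_17 = true := by decide +kernel

noncomputable def j9_455_18 : List Job := [
  ⟨45, 0x5e0f27a3d9f0fa7e3fd80c26231990ca6633d40a25229950aa562bd008242219108a4623c64361d0fc60341c0f44426150bc4024140b42c1f0a074241b080641e0d058240e0501, 0, 108, 0x0, []⟩]

theorem t9_455_18 : jobs 8 S9 b8_455 j9_455_18 = true := by decide +kernel

noncomputable def j9_455_19 : List Job := [
  ⟨44, 0x6e576bc5f6e174bd5fec564b45bec166b55b621128a45a311a8e47e01028241a110a8643de0f27a3d9f0fa7e3fd80c26231990ca6633d40a25229950aa562bd008242219108a4623c68361e0fc60321c0ec4826160bc4022140ac381f0c06c28170804c1e0d058240e0501, 0, 132, 0x0, []⟩]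

theorem t9_455_19 : jobs 8 S9 b8_455 j9_455_19 = true := by decide +kernel

noncomputable def j9_455_20 : List Job := [
  ⟨43, 0x6e172ba5daf17abe5fec162b259ad16ab65bde0f27a3d9f0fa7e3fd80c26231990ca6633d40a25229950aa562bd008242219108a4623c64361d0fc60341c0f44426150bc4024140b42c1f0a074241b080641e0d058240e0501, 0, 120, 0x0, []⟩]

theorem t9_455_20 : jobs 8 S9 b8_455 j9_455_20 = true := by decide +kernel

noncomputable def j9_455_21 : List Job := [
  ⟨42, 0x625148d47621168c47e05068543e010484435e0f27a3d9f0fa7e3fd80c26231990ca6633d40a25229950aa562bd008242219108a4623c68361e0fc60321c0ec4826160bc4022140ac381f0c06c28170804c1e0d058240e0501, 0, 120, 0x0, []⟩]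

theorem t9_455_21 : jobs 8 S9 b8_455 j9_455_21 = true := by decide +kernel

noncomputable def j9_455_22 : List Job := [
  ⟨41, 0x6c162b259ad16ab65be01028241a110a8643d68b65c2ed60b25e2fd44a4542bd40a6552b42c1f0a074241b080641e0d058240e0501, 0, 176, 0x0, []⟩]

theorem t9_455_22 : jobs 8 S9 b8_455 j9_455_22 = true := by decide +kernel

noncomputable def j9_455_23 : List Job := [
  ⟨40, 0x6c162b259ad16ab65be01028241a110a8643de0f27a3d9f0fa7e3fdc0e272399d0ea763bda0d26a359b0da6e37d80c26231990ca6633d24944d27520964c27d08864623d00824422c341f0c0742417080541e0d058240e0501, 0, 192, 0x0, []⟩]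

theorem t9_455_23 : jobs 8 S9 b8_455 j9_455_23 = true := by decide +kernel

noncomputable def j9_455_24 : List Job := [
  ⟨39, 0x6e172ba5daf17abe5fe01028241a110a8643d60b25a2d970ba5e2fd40a25229950aa562bd20924a259309a4e27d008242219108a4623c341f0c0742417080541e0d058240e0501, 0, 120, 0x0, []⟩]

theorem t9_455_24 : jobs 8 S9 b8_455 j9_455_24 = true := by decide +kernel

noncomputable def j9_455_25 : List Job := [
  ⟨38, 0x6e172ba5daf17abe5fe01028241a110a8643c2c1f0a074241b080641e0d058240e0501, 0, 82, 0x0, []⟩]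

theorem t9_455_25 : jobs 8 S9 b8_455 j9_455_25 = true := by decide +kernel

noncomputable def j9_455_26 : List Job := [
  ⟨37, 0x6e172ba5daf17abe5fe01028241a110a8643de0f27a3d9f0fa7e3fdc0e272399d0ea763bda0d26a359b0da6e37d80c26231990ca6633d60b25a2d970ba5e2fd40a25229950aa562bd20924a259309a4e27d008242219108a4623c341f0c0742417080541e0d058240e0501, 0, 90, 0x0, []⟩]

theorem t9_455_26 : jobs 8 S9 b8_455 j9_455_26 = true := by decide +kernel

noncomputable def j9_455_27 : List Job := [
  ⟨36, 0x6e172ba5daf17abe5fe01028241a110a8643de0f27a3d9f0fa7e3fdc0e272399d0ea763bc64361d0fc60341c0f44426150bc4024140b42c1f0a074241b080641e0d058240e0501, 0, 176, 0x0, []⟩]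

theorem t9_455_27 : jobs 8 S9 b8_455 j9_455_27 = true := by decide +kernel

noncomputable def j9_455_28 : List Job := [
  ⟨35, 0x6e172ba5daf17abe5fe01028241a110a8643da0d26a359b0da6e37d80c26231990ca6633d64b65c2f560b45d2fd44a4542bd40a6552b524944d27520964c27d04864523d00844423468361e0fc60321c0ec4826160bc4022140ac381f0c06c28170804c1e0d058240e0501, 0, 192, 0x0, []⟩]

theorem t9_455_28 : jobs 8 S9 b8_455 j9_455_28 = true := by decide +kernel

noncomputable def j9_455_29 : List Job := [
  ⟨34, 0x621128a45a311a8e47e01028241a110a8643c3e1d0d8642e15098441e0d058240e0501, 0, 48, 0x0, []⟩]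

theorem t9_455_29 : jobs 8 S9 b8_455 j9_455_29 = true := by decide +kernel

noncomputable def j9_455_30 : List Job := [
  ⟨33, 0x6e172ba5daf17abe5fec162b259ad16ab65be21128a45a311a8e47e01028241a110a8643d60b25a2d970ba5e2fd40a25229950aa562bd20924a259309a4e27d008242219108a4623c3e1d0d8642e15098441e0d058240e0501, 0, 33, 0x0, []⟩]

theorem t9_455_30 : jobs 8 S9 b8_455 j9_455_30 = true := by decide +kernel

noncomputable def j9_455_31 : List Job := [
  ⟨32, 0x621128a45a311a8e47e01028241a110a8643c542f140b44427100941e0d058240e0501, 0, 112, 0x0, []⟩]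

theorem t9_455_31 : jobs 8 S9 b8_455 j9_455_31 = true := by decide +kernel

noncomputable def j9_455_32 : List Job := [
  ⟨31, 0x621128a45a311a8e47e01028241a110a8643d64b65c2f560b45d2fd44a6542b540a4552bd309a4e27d20924a25d108a4623d00824221c4c2f120b4442b100a41e0d058240e0501, 0, 120, 0x0, []⟩]

theorem t9_455_32 : jobs 8 S9 b8_455 j9_455_32 = true := by decide +kernel

noncomputable def j9_455_33 : List Job := [
  ⟨30, 0x4542f140b44427100941e0d058240e0501, 0, 74, 0x0, []⟩]

theorem t9_455_33 : jobs 8 S9 b8_455 j9_455_33 = true := by decide +kernel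

noncomputable def j9_455_34 : List Job := [
  ⟨29, 0x6e172ba5daf17abe5fec162b259ad16ab65be21128a45a311a8e47e01028241a110a8643c542f140b44427100941e0d058240e0501, 0, 86, 0x0, []⟩]

theorem t9_455_34 : jobs 8 S9 b8_455 j9_455_34 = true := by decide +kernel

noncomputable def j9_455_35 : List Job := [
  ⟨28, 0x564b45d2f560b65c2fd44a4552b540a6542bd28964e27d20924c26d08864623d00824422c542f140b44427100941e0d058240e0501, 0, 86, 0x0, []⟩]

theorem t9_455_35 : jobs 8 S9 b8_455 j9_455_35 = true := by decide +kernel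

noncomputable def j9_455_36 : List Job := [
  ⟨27, 0x6e172ba5daf17abe5fec162b259ad16ab65be21128a45a311a8e47e01028241a110a8643d64b65c2f560b45d2fd44a6542b540a4552bd309a4e27d20924a25d108a4623d00824221c4c2f120b4442b100a41e0d058240e0501, 0, 105, 0xc60100cc0100ce01, []⟩]

theorem t9_455_36 : jobs 8 S9 b8_455 j9_455_36 = true := by decide +kernel

noncomputable def j9_455_37 : List Job := [
  ⟨26, 0x621128a45a311a8e47e01028241a110a8643c542f140b44427100941e0d058240e0501, 0, 108, 0x0, []⟩]

theorem t9_455_37 : jobs 8 S9 b8_455 j9_455_37 = true := by decide +kernel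

noncomputable def j9_455_38 : List Job := [
  ⟨25, 0x621128a45a311a8e47e01028241a110a8643d64b65c2f560b45d2fd44a6542b540a4552bd309a4e27d20924a25d108a4623d00824221c4c2f120b4442b100a41e0d058240e0501, 0, 116, 0x0, []⟩]

theorem t9_455_38 : jobs 8 S9 b8_455 j9_455_38 = true := by decide +kernel

noncomputable def j9_455_39 : List Job := [
  ⟨24, 0x6e172ba5daf17abe5fe01028241a110a8643c542f140b44427100941e0d058240e0501, 0, 112, 0x0, []⟩]

theorem t9_455_39 : jobs 8 S9 b8_455 j9_455_39 = true := by decide +kernel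

noncomputable def j9_455_40 : List Job := [
  ⟨23, 0x6e172ba5daf17abe5fe01028241a110a8643d64b65c2f560b45d2fd44a6542b540a4552bd309a4e27d20924a25d108a4623d00824221c4c2f120b4442b100a41e0d058240e0501, 0, 120, 0x0, []⟩]

theorem t9_455_40 : jobs 8 S9 b8_455 j9_455_40 = true := by decide +kernel

noncomputable def j9_455_41 : List Job := [
  ⟨22, 0x564b45d2f560b65c2fd08864623d00824422c4426150bc4024140b41e0d058240e0501, 0, 112, 0x0, []⟩]

theorem t9_455_41 : jobs 8 S9 b8_455 j9_455_41 = true := by decide +kernel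

noncomputable def j9_455_42 : List Job := [
  ⟨21, 0x6e172ba5daf17abe5fec162b259ad16ab65be21128a45a311a8e47e01028241a110a8643d64b65c2f560b45d2fd108a4623d00824221c4426150bc4024140b41e0d058240e0501, 0, 120, 0x0, []⟩]

theorem t9_455_42 : jobs 8 S9 b8_455 j9_455_42 = true := by decide +kernel

noncomputable def j9_455_43 : List Job := [
  ⟨20, 0x544a4552b540a6542bd08864623d00824422c542f140b44427100941e0d058240e0501, 0, 112, 0x0, []⟩]

theorem t9_455_43 : jobs 8 S9 b8_455 j9_455_43 = true := by decide +kernel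

noncomputable def j9_455_44 : List Job := [
  ⟨19, 0x6e172ba5daf17abe5fec162b259ad16ab65be21128a45a311a8e47e01028241a110a8643d44a6542b540a4552bd108a4623d00824221c4c2f120b4442b100a41e0d058240e0501, 0, 120, 0x0, []⟩]

theorem t9_455_44 : jobs 8 S9 b8_455 j9_455_44 = true := by decide +kernel

noncomputable def j9_455_45 : List Job := [
  ⟨18, 0x6e172ba5daf17abe5fe01028241a110a8643d64b65c2f560b45d2fd108a4623d00824221c4426150bc4024140b41e0d058240e0501, 0, 168, 0x0, []⟩]

theorem t9_455_45 : jobs 8 S9 b8_455 j9_455_45 = true := by decide +kernel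

noncomputable def j9_455_46 : List Job := [
  ⟨17, 0x6e172ba5daf17abe5fe01028241a110a8643d44a6542b540a4552bd108a4623d00824221c4c2f120b4442b100a41e0d058240e0501, 0, 176, 0x0, []⟩]

theorem t9_455_46 : jobs 8 S9 b8_455 j9_455_46 = true := by decide +kernel

noncomputable def j9_455_47 : List Job := [
  ⟨16, 0x6e172ba5daf17abe5fe01028241a110a8643d64b65c2f560b45d2fd108a4623d00824221c341f0c0742417080541e0d058240e0501, 0, 168, 0x0, []⟩]

theorem t9_455_47 : jobs 8 S9 b8_455 j9_455_47 = true := by decide +kernel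

noncomputable def j9_455_48 : List Job := [
  ⟨15, 0x6e172ba5daf17abe5fe01028241a110a8643d64b65c2f560b45d2fd108a4623d00824221c341f0c0742417080541e0d058240e0501, 0, 176, 0x0, []⟩]

theorem t9_455_48 : jobs 8 S9 b8_455 j9_455_48 = true := by decide +kernel

noncomputable def j9_455_49 : List Job := [
  ⟨14, 0x6e574bc5fee176bd5f6c966b45aec162b65bd64b45d2f560b65c2fd08864623d00824422c2c1f0a074241b080641e0d058240e0501, 0, 168, 0x0, []⟩]

theorem t9_455_49 : jobs 8 S9 b8_455 j9_455_49 = true := by decide +kernel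

noncomputable def j9_455_50 : List Job := [
  ⟨13, 0x621128a45a311a8e47e01028241a110a8643d64b65c2f560b45d2fd108a4623d00824221c341f0c0742417080541e0d058240e0501, 0, 168, 0x0, []⟩]

theorem t9_455_50 : jobs 8 S9 b8_455 j9_455_50 = true := by decide +kernel

noncomputable def j9_455_51 : List Job := [
  ⟨12, 0x564b45d2f560b65c2fd08864623d00824422c2c1f0a074241b080641e0d058240e0501, 0, 160, 0x0, []⟩]

theorem t9_455_51 : jobs 8 S9 b8_455 j9_455_51 = true := by decide +kernel

noncomputable def j9_455_52 : List Job := [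
  ⟨11, 0x6e172ba5daf17abe5fec162b259ad16ab65be25148d47621168c47e09068643e01028442d64b65c2f560b45d2fd108a4623d00824221c341f0c0742417080541e0d058240e0501, 0, 176, 0x0, []⟩]

theorem t9_455_52 : jobs 8 S9 b8_455 j9_455_52 = true := by decide +kernel

noncomputable def j9_455_53 : List Job := [
  ⟨10, 0x621128a45a311a8e47e01028241a110a8643d64b65c2f560b45d2fd108a4623d00824221c341f0c0742417080541e0d058240e0501, 0, 168, 0x0, []⟩]

theorem t9_455_53 : jobs 8 S9 b8_455 j9_455_53 = true := by decide +kernel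

noncomputable def j9_455_54 : List Job := [
  ⟨9, 0x564b45d2f560b65c2fd08864623d00824422c2c1f0a074241b080641e0d058240e0501, 0, 112, 0x0, []⟩]

theorem t9_455_54 : jobs 8 S9 b8_455 j9_455_54 = true := by decide +kernel

noncomputable def j9_455_55 : List Job := [
  ⟨8, 0x6e574bc5fee176bd5f6c966b45aec162b65be25148c47e21168d47609068442e01028643d64b65c2f560b45d2fd108a4623d00824221c341f0c0742417080541e0d058240e0501, 0, 128, 0x201000401000601000801000a01000c01000e01001001, []⟩]

theorem t9_455_55 : jobs 8 S9 b8_455 j9_455_55 = true := by decide +kernel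

noncomputable def j9_455_56 : List Job := [
  ⟨7, 0x564b45d2f560b65c2fd08864623d00824422c2c1f0a074241b080641e0d058240e0501, 0, 112, 0x0, []⟩]

theorem t9_455_56 : jobs 8 S9 b8_455 j9_455_56 = true := by decide +kernel

noncomputable def j9_455_57 : List Job := [
  ⟨6, 0x6e172ba5daf17abe5fec162b259ad16ab65be21128a45a311a8e47e01028241a110a8643d64b65c2f560b45d2fd108a4623d00824221c341f0c0742417080541e0d058240e0501, 0, 120, 0x0, []⟩]

theorem t9_455_57 : jobs 8 S9 b8_455 j9_455_57 = true := by decide +kernel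

noncomputable def j9_455_58 : List Job := [
  ⟨5, 0x625148d47621168c47e09068643e01028442d64b65c2f560b45d2fd108a4623d00824221c341f0c0742417080541e0d058240e0501, 0, 168, 0x0, []⟩]

theorem t9_455_58 : jobs 8 S9 b8_455 j9_455_58 = true := by decide +kernel

noncomputable def j9_455_59 : List Job := [
  ⟨4, 0x544a4552b540a6542bd08864623d00824422c64361d0fc60341c0f44426150bc4024140b42c1f0a074241b080641e0d058240e0501, 0, 160, 0x0, []⟩]

theorem t9_455_59 : jobs 8 S9 b8_455 j9_455_59 = true := by decide +kernel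

noncomputable def j9_455_60 : List Job := [
  ⟨3, 0x6e574bc5fee176bd5f6c566b45b6c164b55be21128a45a311a8e47e01028241a110a8643d48a6542ad40a2562bd108a4623d00824221c68361e0fc60321c0ec4826160bc4022140ac381f0c06c28170804c1e0d058240e0501, 0, 176, 0x0, []⟩]

theorem t9_455_60 : jobs 8 S9 b8_455 j9_455_60 = true := by decide +kernel

noncomputable def j9_455_61 : List Job := [
  ⟨2, 0x6e172ba5daf17abe5fec162b259ad16ab65bd44a4552b540a6542bd08864623d00824422c64361d0fc60341c0f44426150bc4024140b42c1f0a074241b080641e0d058240e0501, 0, 168, 0x0, []⟩]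

theorem t9_455_61 : jobs 8 S9 b8_455 j9_455_61 = true := by decide +kernel

noncomputable def j9_455_62 : List Job := [
  ⟨1, 0x625148d47621168c47e05068543e01048443548a6542ad40a2562bd108a4623d00824221c68361e0fc60321c0ec4826160bc4022140ac381f0c06c28170804c1e0d058240e0501, 0, 168, 0x0, []⟩]

theorem t9_455_62 : jobs 8 S9 b8_455 j9_455_62 = true := by decide +kernel

noncomputable def j9_455_63 : List Job := [
  ⟨0, 0x6e172ba5daf17abe5fe01028241a110a8643c2c1f0a074241b080641e0d058240e0501, 0, 112, 0x0, []⟩]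

theorem t9_455_63 : jobs 8 S9 b8_455 j9_455_63 = true := by decide +kernel

theorem d9_455 : Dn 8 S9 b8_455 := dn_of (Js := j9_455_0 ++ (j9_455_1 ++ (j9_455_2 ++ (j9_455_3 ++ (j9_455_4 ++ (j9_455_5 ++ (j9_455_6 ++ (j9_455_7 ++ (j9_455_8 ++ (j9_455_9 ++ (j9_455_10 ++ (j9_455_11 ++ (j9_455_12 ++ (j9_455_13 ++ (j9_455_14 ++ (j9_455_15 ++ (j9_455_16 ++ (j9_455_17 ++ (j9_455_18 ++ (j9_455_19 ++ (j9_455_20 ++ (j9_455_21 ++ (j9_455_22 ++ (j9_455_23 ++ (j9_455_24 ++ (j9_455_25 ++ (j9_455_26 ++ (j9_455_27 ++ (j9_455_28 ++ (j9_455_29 ++ (j9_455_30 ++ (j9_455_31 ++ (j9_455_32 ++ (j9_455_33 ++ (j9_455_34 ++ (j9_455_35 ++ (j9_455_36 ++ (j9_455_37 ++ (j9_455_38 ++ (j9_455_39 ++ (j9_455_40 ++ (j9_455_41 ++ (j9_455_42 ++ (j9_455_43 ++ (j9_455_44 ++ (j9_455_45 ++ (j9_455_46 ++ (j9_455_47 ++ (j9_455_48 ++ (j9_455_49 ++ (j9_455_50 ++ (j9_455_51 ++ (j9_455_52 ++ (j9_455_53 ++ (j9_455_54 ++ (j9_455_55 ++ (j9_455_56 ++ (j9_455_57 ++ (j9_455_58 ++ (j9_455_59 ++ (j9_455_60 ++ (j9_455_61 ++ (j9_455_62 ++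 (j9_455_63 ++ []))))))))))))))))))))))))))))))))))))))))))))))))))))))))))))))))
  (jobs_append t9_455_0 <| jobs_append t9_455_1 <| jobs_append t9_455_2 <| jobs_append t9_455_3 <| jobs_append t9_455_4 <| jobs_append t9_455_5 <| jobs_append t9_455_6 <| jobs_append t9_455_7 <| jobs_append t9_455_8 <| jobs_append t9_455_9 <| jobs_append t9_455_10 <| jobs_append t9_455_11 <| jobs_append t9_455_12 <| jobs_append t9_455_13 <| jobs_append t9_455_14 <| jobs_append t9_455_15 <| jobs_append t9_455_16 <| jobs_append t9_455_17 <| jobs_append t9_455_18 <| jobs_append t9_455_19 <| jobs_append t9_455_20 <| jobs_append t9_455_21 <| jobs_append t9_455_22 <| jobs_append t9_455_23 <| jobs_append t9_455_24 <| jobs_append t9_455_25 <| jobs_append t9_455_26 <| jobs_append t9_455_27 <| jobs_append t9_455_28 <| jobs_append t9_455_29 <| jobs_append t9_455_30 <| jobs_append t9_455_31 <| jobs_append t9_455_32 <| jobs_append t9_455_33 <| jobs_append t9_455_34 <| jobs_append t9_455_35 <| jobs_append t9_455_36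 <| jobs_append t9_455_37 <| jobs_append t9_455_38 <| jobs_append t9_455_39 <| jobs_append t9_455_40 <| jobs_append t9_455_41 <| jobs_append t9_455_42 <| jobs_append t9_455_43 <| jobs_append t9_455_44 <| jobs_append t9_455_45 <| jobs_append t9_455_46 <| jobs_append t9_455_47 <| jobs_append t9_455_48 <| jobs_append t9_455_49 <| jobs_append t9_455_50 <| jobs_append t9_455_51 <| jobs_append t9_455_52 <| jobs_append t9_455_53 <| jobs_append t9_455_54 <| jobs_append t9_455_55 <| jobs_append t9_455_56 <| jobs_append t9_455_57 <| jobs_append t9_455_58 <| jobs_append t9_455_59 <| jobs_append t9_455_60 <| jobs_append t9_455_61 <| jobs_append t9_455_62 <| jobs_append t9_455_63 <| List.forall_mem_nil _) (by decide +kernel)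

end Cfsg.Agent.FS.N.Sw
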