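import Cfsg.Agent.FS.N.Sw.Seg
import Cfsg.Agent.FS.N.G.S9
import Cfsg.Agent.FS.N.G.L.L19

/-! The filter on the pairs for the order 512, part 47 (generated; helper52, project FS) -/

set_option autoImplicit false
set_option maxRecDepth 100000
set_option Elab.async false

namespace Cfsg.Agent.FS.N.Sw

open G

noncomputable def j9_490_0 : List Job := [
  ⟨63, 0x4c466341b4c064351bc84462513c804424134502a160bc44251009c140f040340e0501, 0, 56, 0x0, []⟩]

theorem t9_490_0 : jobs 8 S9 b8_490 j9_490_0 = true := by decide +kernel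

noncomputable def j9_490_1 : List Job := [
  ⟨62, 0x601028241a110a8643a21128a45a311a8e47cc464341bcc066351b484442513480462413c502a160bc48271008c140d0403c0e0501, 0, 76, 0x0, []⟩]

theorem t9_490_1 : jobs 8 S9 b8_490 j9_490_1 = true := by decide +kernel

noncomputable def j9_490_2 : List Job := [
  ⟨61, 0x4502a160bc48271008c140f040340e0501, 0, 56, 0x0, []⟩]

theorem t9_490_2 : jobs 8 S9 b8_490 j9_490_2 = true := by decide +kernel

noncomputable def j9_490_3 : List Job := [
  ⟨60, 0x605068543a25168c47601048443221148d47c502a160bc442710094180f0402c0e0501, 0, 90, 0x7205007401007605007801007a05007c01007e01008004008201008401008605008805008a01008c05008e01009005009201009404009601009801009a05009c05009e0100a00400a20100a40100a60400a80400aa0100ac0400ae0100b00500b20500b405, []⟩]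

theorem t9_490_3 : jobs 8 S9 b8_490 j9_490_3 = true := by decide +kernel

noncomputable def j9_490_4 : List Job := [
  ⟨59, 0x4c466341b4c064351bc84462513c804424134502a160bc48271008c140f040340e0501, 0, 56, 0x0, []⟩]

theorem t9_490_4 : jobs 8 S9 b8_490 j9_490_4 = true := by decide +kernel

noncomputable def j9_490_5 : List Job := [
  ⟨58, 0x605068543a25168c47601048443221148d47cc866341acc062361bc88462613c80422412c502a160bc442710094180f0402c0e0501, 0, 94, 0x200000a00001401001a0000200100260000a40500a60100a80100ae0100b60400bc04, [(18, ⟨2002, 0x410005a0006c0004000040000600004000040080001, 0x1822c0d020080300802⟩), (12, ⟨2001, 0x410005a0006c0004000040000600004000040080001, 0x1822c0d020080300802⟩), (4, ⟨2003, 0x420007f0004c0044400860000400004004040080001, 0x1843f898220c0200802⟩), (0, ⟨2000, 0x410005a0006c0004000040000600004000040080001, 0x1822c0d020080300802⟩)]⟩]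

theorem t9_490_5 : jobs 8 S9 b8_490 j9_490_5 = true := by decide +kernel

noncomputable def j9_490_6 : List Job := [
  ⟨57, 0x540a25229960b25a2dd108a46239309a4e27c84462513c80442413440221209c0e0501, 0, 96, 0x0, []⟩]

theorem t9_490_6 : jobs 8 S9 b8_490 j9_490_6 = true := by decide +kernel

noncomputable def j9_490_7 : List Job := [
  ⟨56, 0x601028241a110a8643a21128a45a311a8e47d40a25229960b25a2dd108a46239309a4e27c84462513c80442413440221209c0e0501, 0, 96, 0x0, []⟩]

theorem t9_490_7 : jobs 8 S9 b8_490 j9_490_7 = true := by decide +kernel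

noncomputable def j9_490_8 : List Job := [
  ⟨55, 0x5d0ea763b9e0f27a3ddc0e272399f0fa7e3fd90ca66339a0d26a35d80c262319b0da6e37d50aa562b970ba5e2fd00824221920924a25c84462513c80442413440221209c0e0501, 0, 96, 0x0, []⟩]

theorem t9_490_8 : jobs 8 S9 b8_490 j9_490_8 = true := by decide +kernel

noncomputable def j9_490_9 : List Job := [
  ⟨54, 0x601028241a110a8643a21128a45a311a8e47dd0ea763b9e0f27a3ddc0e272399f0fa7e3fd90ca66339a0d26a35d80c262319b0da6e37d50aa562b970ba5e2fd00824221920924a25c88462613c80422412c40221209c0e0501, 0, 96, 0x0, []⟩]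

theorem t9_490_9 : jobs 8 S9 b8_490 j9_490_9 = true := by decide +kernel

noncomputable def j9_490_10 : List Job := [
  ⟨53, 0x540a25229960b25a2dd108a46239309a4e27c84462513c80442413440221209c0e0501, 0, 96, 0x0, []⟩]

theorem t9_490_10 : jobs 8 S9 b8_490 j9_490_10 = true := by decide +kernel

noncomputable def j9_490_11 : List Job := [
  ⟨52, 0x601028241a110a8643a21128a45a311a8e47d40a25229960b25a2dd108a46239309a4e27c84462513c80442413440221209c0e0501, 0, 96, 0x0, []⟩]

theorem t9_490_11 : jobs 8 S9 b8_490 j9_490_11 = true := by decide +kernel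

noncomputable def j9_490_12 : List Job := [
  ⟨51, 0x5d0ea763b9e0f27a3ddc0e272399f0fa7e3fd90ca66339a0d26a35d80c262319b0da6e37d50aa562b970ba5e2fd00824221920924a25c84462513c80442413440221209c0e0501, 0, 96, 0x0, []⟩]

theorem t9_490_12 : jobs 8 S9 b8_490 j9_490_12 = true := by decide +kernel

noncomputable def j9_490_13 : List Job := [
  ⟨50, 0x601028241a110a8643a21128a45a311a8e47dd0ea763b9e0f27a3ddc0e272399f0fa7e3fd90ca66339a0d26a35d80c262319b0da6e37d50aa562b970ba5e2fd00824221920924a25c88462613c80422412c40221209c0e0501, 0, 96, 0x0, []⟩]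

theorem t9_490_13 : jobs 8 S9 b8_490 j9_490_13 = true := by decide +kernel

noncomputable def j9_490_14 : List Job := [
  ⟨49, 0x590ca66339a0d26a35d80c262319b0da6e37d40a25229960b25a2dd08864a25d00824824c84462513c80442413440221209c0e0501, 0, 128, 0xa04000c05001a04001c05008a04008c05009a04009c05, []⟩]

theorem t9_490_14 : jobs 8 S9 b8_490 j9_490_14 = true := by decide +kernel

noncomputable def j9_490_15 : List Job := [
  ⟨48, 0x601028241a110a8643a21128a45a311a8e47d90ca66339a0d26a35d80c262319b0da6e37d40a25229960b25a2dd04864925d00844825488462613c80422412c40221209c0e0501, 0, 128, 0xa02000c03001a02001c03008a02008c03009a02009c03, []⟩]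

theorem t9_490_15 : jobs 8 S9 b8_490 j9_490_15 = true := by decide +kernel

noncomputable def j9_490_16 : List Job := [
  ⟨47, 0x590ca66339a0d26a35d80c262319b0da6e37d40a25229960b25a2dd08864a25d00824824c84462513c80442413440221209c0e0501, 0, 128, 0xa04000c05001a04001c05008a04008c05009a04009c05, []⟩]

theorem t9_490_16 : jobs 8 S9 b8_490 j9_490_16 = true := by decide +kernel

noncomputable def j9_490_17 : List Job := [
  ⟨46, 0x601028241a110a8643a21128a45a311a8e47d90ca66339a0d26a35d80c262319b0da6e37d40a25229960b25a2dd04864925d00844825488462613c80422412c40221209c0e0501, 0, 128, 0xa02000c03001a02001c03008a02008c03009a02009c03, []⟩]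

theorem t9_490_17 : jobs 8 S9 b8_490 j9_490_17 = true := by decide +kernel

noncomputable def j9_490_18 : List Job := [
  ⟨45, 0x5d0ea763b9e0f27a3ddc0e272399f0fa7e3fd50aa562b970ba5e2fd00824221920924a25c40221209c0e0501, 0, 80, 0x0, []⟩]

theorem t9_490_18 : jobs 8 S9 b8_490 j9_490_18 = true := by decide +kernel

noncomputable def j9_490_19 : List Job := [
  ⟨44, 0x601028241a110a8643a21128a45a311a8e47dd0ea763b9e0f27a3ddc0e272399f0fa7e3fd50aa562b970ba5e2fd00824221920924a25c40221209c0e0501, 0, 80, 0x0, []⟩]

theorem t9_490_19 : jobs 8 S9 b8_490 j9_490_19 = true := by decide +kernel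

noncomputable def j9_490_20 : List Job := [
  ⟨43, 0x590ca66339a0d26a35d80c262319b0da6e37d50aa562b970ba5e2fd00824221920924a25cc466341b4c064351bc84462513c80442413440221209c0e0501, 0, 80, 0x0, []⟩]

theorem t9_490_20 : jobs 8 S9 b8_490 j9_490_20 = true := by decide +kernel

noncomputable def j9_490_21 : List Job := [
  ⟨42, 0x601028241a110a8643a21128a45a311a8e47d90ca66339a0d26a35d80c262319b0da6e37d50aa562b970ba5e2fd00824221920924a25cc866341acc062361bc88462613c80422412c40221209c0e0501, 0, 80, 0x0, []⟩]

theorem t9_490_21 : jobs 8 S9 b8_490 j9_490_21 = true := by decide +kernel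

noncomputable def j9_490_22 : List Job := [
  ⟨41, 0x5d0ea763b9e0f27a3ddc0e272399f0fa7e3fd50aa562b970ba5e2fd00824221920924a25c40221209c0e0501, 0, 80, 0x0, []⟩]

theorem t9_490_22 : jobs 8 S9 b8_490 j9_490_22 = true := by decide +kernel

noncomputable def j9_490_23 : List Job := [
  ⟨40, 0x601028241a110a8643a21128a45a311a8e47dd0ea763b9e0f27a3ddc0e272399f0fa7e3fd50aa562b970ba5e2fd00824221920924a25c40221209c0e0501, 0, 80, 0x0, []⟩]

theorem t9_490_23 : jobs 8 S9 b8_490 j9_490_23 = true := by decide +kernel

noncomputable def j9_490_24 : List Job := [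
  ⟨39, 0x590ca66339a0d26a35d80c262319b0da6e37d50aa562b970ba5e2fd00824221920924a25cc466341b4c064351bc84462513c80442413440221209c0e0501, 0, 80, 0x0, []⟩]

theorem t9_490_24 : jobs 8 S9 b8_490 j9_490_24 = true := by decide +kernel

noncomputable def j9_490_25 : List Job := [
  ⟨38, 0x601028241a110a8643a21128a45a311a8e47d90ca66339a0d26a35d80c262319b0da6e37d50aa562b970ba5e2fd00824221920924a25cc866341acc062361bc88462613c80422412c40221209c0e0501, 0, 80, 0x0, []⟩]

theorem t9_490_25 : jobs 8 S9 b8_490 j9_490_25 = true := by decide +kernel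

noncomputable def j9_490_26 : List Job := [
  ⟨37, 0x5d0ea763b9e0f27a3ddc0e272399f0fa7e3fd90ca66339a0d26a35d80c262319b0da6e37d50aa562b970ba5e2fd108a46239309a4e27c44251009c0e0501, 0, 72, 0x0, []⟩]

theorem t9_490_26 : jobs 8 S9 b8_490 j9_490_26 = true := by decide +kernel

noncomputable def j9_490_27 : List Job := [
  ⟨36, 0x601028241a110a8643a21128a45a311a8e47dd0ea763b9e0f27a3ddc0e272399f0fa7e3fd90ca66339a0d26a35d80c262319b0da6e37d50aa562b970ba5e2fd108a46239309a4e27c44251009c0e0501, 0, 72, 0x0, []⟩]

theorem t9_490_27 : jobs 8 S9 b8_490 j9_490_27 = true := by decide +kernel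

noncomputable def j9_490_28 : List Job := [
  ⟨35, 0x548a6582cd40a25a2dd08864a25d00824824c44251009c0e0501, 0, 72, 0x2a02007205, []⟩]

theorem t9_490_28 : jobs 8 S9 b8_490 j9_490_28 = true := by decide +kernel

noncomputable def j9_490_29 : List Job := [
  ⟨34, 0x601028241a110a8643a21128a45a311a8e47d48a6582cd40a25a2dd08864a25d00824824c44251009c0e0501, 0, 72, 0x2a02007202, []⟩]

theorem t9_490_29 : jobs 8 S9 b8_490 j9_490_29 = true := by decide +kernel

noncomputable def j9_490_30 : List Job := [
  ⟨33, 0x550aa562b970ba5e2fd108a46239309a4e27cc466341b4c064351bc84462513c80442413444251009c0e0501, 0, 72, 0x3a04008206, []⟩]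

theorem t9_490_30 : jobs 8 S9 b8_490 j9_490_30 = true := by decide +kernel

noncomputable def j9_490_31 : List Job := [
  ⟨32, 0x601028241a110a8643a21128a45a311a8e47d50aa562b970ba5e2fd108a46239309a4e27cc466341b4c064351bc84462513c80442413444251009c0e0501, 0, 72, 0x3a04008202, []⟩]

theorem t9_490_31 : jobs 8 S9 b8_490 j9_490_31 = true := by decide +kernel

noncomputable def j9_490_32 : List Job := [
  ⟨31, 0x5d0ea763b9e0f27a3dd90ca66339a0d26a35d50aa562b970ba5e2fd00824221920924a25c140f040340e0501, 0, 56, 0x0, []⟩]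

theorem t9_490_32 : jobs 8 S9 b8_490 j9_490_32 = true := by decide +kernel

noncomputable def j9_490_33 : List Job := [
  ⟨30, 0x601028241a110a8643a21128a45a311a8e47dd0ea763b9e0f27a3dd90ca66339a0d26a35d50aa562b970ba5e2fd00824221920924a25c140f040340e0501, 0, 56, 0x0, []⟩]

theorem t9_490_33 : jobs 8 S9 b8_490 j9_490_33 = true := by decide +kernel

noncomputable def j9_490_34 : List Job := [
  ⟨29, 0x5c0e272399f0fa7e3fd80c262319b0da6e37d50aa562b970ba5e2fd00824221920924a25cc466341b4c064351bc84462513c804424134140f040340e0501, 0, 56, 0x0, []⟩]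

theorem t9_490_34 : jobs 8 S9 b8_490 j9_490_34 = true := by decide +kernel

noncomputable def j9_490_35 : List Job := [
  ⟨28, 0x601028241a110a8643a21128a45a311a8e47dc0e272399f0fa7e3fd80c262319b0da6e37d50aa562b970ba5e2fd00824221920924a25cc466341b4c064351bc84462513c804424134140f040340e0501, 0, 56, 0x0, []⟩]

theorem t9_490_35 : jobs 8 S9 b8_490 j9_490_35 = true := by decide +kernel

noncomputable def j9_490_36 : List Job := [
  ⟨27, 0x5d0ea763b9e0f27a3dd90ca66339a0d26a35d50aa562b970ba5e2fd00824221920924a25c140f040340e0501, 0, 56, 0x0, []⟩]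

theorem t9_490_36 : jobs 8 S9 b8_490 j9_490_36 = true := by decide +kernel

noncomputable def j9_490_37 : List Job := [
  ⟨26, 0x609068643a29168c46e01028442a21128e47dd0ea763b9e0f27a3dd90ca66339a0d26a35d50aa562b970ba5e2fd00824221920924a25c140f040340e0501, 0, 67, 0x8001, []⟩]

theorem t9_490_37 : jobs 8 S9 b8_490 j9_490_37 = true := by decide +kernel

noncomputable def j9_490_38 : List Job := [
  ⟨25, 0x5c0e272399f0fa7e3fd80c262319b0da6e37d50aa562b970ba5e2fd00824221920924a25cc466341b4c064351bc84462513c804424134140f040340e0501, 0, 56, 0x0, []⟩]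

theorem t9_490_38 : jobs 8 S9 b8_490 j9_490_38 = true := by decide +kernel

noncomputable def j9_490_39 : List Job := [
  ⟨24, 0x609068643a29168c46e01028442a21128e47dc0e272399f0fa7e3fd80c262319b0da6e37d50aa562b970ba5e2fd00824221920924a25cc466341b4c064351bc84462513c804424134140f040340e0501, 0, 83, 0x9e01, []⟩]

theorem t9_490_39 : jobs 8 S9 b8_490 j9_490_39 = true := by decide +kernel

noncomputable def j9_490_40 : List Job := [
  ⟨23, 0x5d0ea763b9e0f27a3dd80c262319b0da6e37d50aa562b970ba5e2fd00824221920924a25c84462513c804424134140f040340e0501, 0, 80, 0x204000405001204001405, []⟩]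

theorem t9_490_40 : jobs 8 S9 b8_490 j9_490_40 = true := by decide +kernel

noncomputable def j9_490_41 : List Job := [
  ⟨22, 0x601028241a110a8643a21128a45a311a8e47dd0ea763b9e0f27a3dd80c262319b0da6e37d50aa562b970ba5e2fd00824221920924a25c84462513c804424134140f040340e0501, 0, 80, 0x204000a04005204005a04, []⟩]

theorem t9_490_41 : jobs 8 S9 b8_490 j9_490_41 = true := by decide +kernel

noncomputable def j9_490_42 : List Job := [
  ⟨21, 0x5d0ea763b9e0f27a3dd80c262319b0da6e37d50aa562b970ba5e2fd00824221920924a25c84462513c804424134140f040340e0501, 0, 80, 0x204000405001204001405, []⟩]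

theorem t9_490_42 : jobs 8 S9 b8_490 j9_490_42 = true := by decide +kernel

noncomputable def j9_490_43 : List Job := [
  ⟨20, 0x609068643a29168c46e01028442a21128e47dd0ea763b9e0f27a3dd80c262319b0da6e37d50aa562b970ba5e2fd00824221920924a25c84462513c804424134140f040340e0501, 0, 94, 0x20400040500520400540500a20100a80100aa0100b40100b80100ba01, []⟩]

theorem t9_490_43 : jobs 8 S9 b8_490 j9_490_43 = true := by decide +kernel

noncomputable def j9_490_44 : List Job := [
  ⟨19, 0x5d0ea763b9e0f27a3dd80c262319b0da6e37d40a25229960b25a2dd00824221920924a25c84462513c804424134502a160bc40221209c140f040340e0501, 0, 80, 0x0, []⟩]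

theorem t9_490_44 : jobs 8 S9 b8_490 j9_490_44 = true := by decide +kernel

noncomputable def j9_490_45 : List Job := [
  ⟨18, 0x601028241a110a8643a21128a45a311a8e47dd0ea763b9e0f27a3dd80c262319b0da6e37d40a25229960b25a2dd00824221920924a25c84442513480462413c502a160bc40221209c140d0403c0e0501, 0, 80, 0x0, []⟩]

theorem t9_490_45 : jobs 8 S9 b8_490 j9_490_45 = true := by decide +kernel

noncomputable def j9_490_46 : List Job := [
  ⟨17, 0x5d0ea763b9e0f27a3dd80c262319b0da6e37d40a25229960b25a2dd00824221920924a25c84462513c804424134502a160bc40221209c140f040340e0501, 0, 80, 0x0, []⟩]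

theorem t9_490_46 : jobs 8 S9 b8_490 j9_490_46 = true := by decide +kernel

noncomputable def j9_490_47 : List Job := [
  ⟨16, 0x605068543a25168c47601048443221148d47dd0ea763b9e0f27a3dd80c262319b0da6e37d40a25229960b25a2dd00824221920924a25c88462613c80422412c502a160bc40221209c180f0402c0e0501, 0, 128, 0xa20400a40400a60500a80400aa0100b40500b80500ba0400bc0500be0400c00500c60400cc0100ce0500d20400d60100e80400ee0100f801, []⟩]

theorem t9_490_47 : jobs 8 S9 b8_490 j9_490_47 = true := by decide +kernel

noncomputable def j9_490_48 : List Job := [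
  ⟨15, 0x5d0ea763b9e0f27a3dd90ca66339a0d26a35d40a25229960b25a2dd00824221920924a25c502a160bc44251009c140f040340e0501, 0, 56, 0x0, []⟩]

theorem t9_490_48 : jobs 8 S9 b8_490 j9_490_48 = true := by decide +kernel

noncomputable def j9_490_49 : List Job := [
  ⟨14, 0x601028241a110a8643a21128a45a311a8e47dd0ea763b9e0f27a3dd90ca66339a0d26a35d40a25229960b25a2dd00824221920924a25c502a160bc44251009c140f040340e0501, 0, 60, 0x0, []⟩]

theorem t9_490_49 : jobs 8 S9 b8_490 j9_490_49 = true := by decide +kernel

noncomputable def j9_490_50 : List Job := [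
  ⟨13, 0x5c0e272399f0fa7e3fd80c262319b0da6e37d40a25229960b25a2dd00824221920924a25cc466341b4c064351bc84462513c804424134502a160bc44251009c140f040340e0501, 0, 56, 0x200001200, [(8, ⟨1997, 0x2440020005c4011100410000d0040001020040401, 0x49038100210c8400401⟩), (0, ⟨1948, 0x240017e0052c01110003001090000401030000400, 0x592129f621048600601⟩)]⟩]

theorem t9_490_50 : jobs 8 S9 b8_490 j9_490_50 = true := by decide +kernel

noncomputable def j9_490_51 : List Job := [
  ⟨12, 0x601028241a110a8643a21128a45a311a8e47dc0e272399f0fa7e3fd80c262319b0da6e37d40a25229960b25a2dd00824221920924a25cc464341bcc066351b484442513480462413c502a160bc48271008c140d0403c0e0501, 0, 76, 0x200000e00004e00005a00, [(44, ⟨1997, 0x214006d004d400100003800050040801030040001, 0x1843f0d0200d0380806⟩), (38, ⟨1969, 0x218016f0056000100003800080000801010000800, 0x58c9a5f020040600202⟩), (6, ⟨1996, 0x214006d004d400100003800050040801030040001, 0x1843f0d0200d0380806⟩), (0, ⟨1947, 0x218016f0056000100003800080000801010000800, 0x58c9a5f020040600202⟩)]⟩]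

theorem t9_490_51 : jobs 8 S9 b8_490 j9_490_51 = true := by decide +kernel

noncomputable def j9_490_52 : List Job := [
  ⟨11, 0x5d0ea763b9e0f27a3dd90ca66339a0d26a35d40a25229960b25a2dd00824221920924a25c502a160bc48271008c140f040340e0501, 0, 56, 0x0, []⟩]

theorem t9_490_52 : jobs 8 S9 b8_490 j9_490_52 = true := by decide +kernel

noncomputable def j9_490_53 : List Job := [
  ⟨10, 0x609068643a29168c46e01028442a21128e47dd0ea763b9e0f27a3dd90ca66339a0d26a35d40a25229960b25a2dd00824221920924a25c502a160bc48271008c140f040340e0501, 0, 90, 0x7203007401007602007a03007c01007e02008200008802008c02009003009201009801009a0300a40100aa0100ac02, [(64, ⟨1995, 0x4080174002660004800878000500202004080080001, 0x182320c8220d0300404⟩)]⟩]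

theorem t9_490_53 : jobs 8 S9 b8_490 j9_490_53 = true := by decide +kernel

noncomputable def j9_490_54 : List Job := [
  ⟨9, 0x5c0e272399f0fa7e3fd80c262319b0da6e37d40a25229960b25a2dd00824221920924a25cc466341b4c064351bc84462513c804424134502a160bc48271008c140f040340e0501, 0, 56, 0x200001200, [(8, ⟨1967, 0x200003100580001000014010e0000001020040401, 0x48038542200d8440401⟩), (0, ⟨1945, 0x23400300010000110001c010b0000001020000400, 0x48c10142210584c0401⟩)]⟩]

theorem t9_490_54 : jobs 8 S9 b8_490 j9_490_54 = true := by decide +kernel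

noncomputable def j9_490_55 : List Job := [
  ⟨8, 0x605068543a25168c47601048443221148d47dc0e272399f0fa7e3fd80c262319b0da6e37d40a25229960b25a2dd00824221920924a25cc866341acc062361bc88462613c80422412c502a160bc442710094180f0402c0e0501, 0, 94, 0x200000601000801000a00000c01001a00002001002200002800006000009800009e0100a201, [(75, ⟨1994, 0x430016f0026c0044000070000600004000040000001, 0x1843f0d0200c0300802⟩), (47, ⟨1964, 0x4100020000800004800020000800000004040001000, 0x4809010021040400202⟩), (19, ⟨1942, 0x4100020000800004800020000800000004040001000, 0x4809010021040400202⟩), (16, ⟨1991, 0x430016f0006e0004400870000600204004040080001, 0x1843f0d0220c0300802⟩), (12, ⟨1992, 0x430004a0004c0004800058000400004000040080001, 0x18625898240b0200802⟩), (4, ⟨1993, 0x430004a0004c0004800058000400004000040080001, 0x18625898240b0200802⟩), (0, ⟨1990, 0x430016f0006e0004400870000600204004040080001, 0x1843f0d0220c0300802⟩)]⟩]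

theorem t9_490_55 : jobs 8 S9 b8_490 j9_490_55 = true := by decide +kernel

noncomputable def j9_490_56 : List Job := [
  ⟨7, 0x5108a46239309a4e27d00824221920924a25c804222118904a2613c48271008c0e0501, 0, 128, 0x1e07003e06005e04007e02009e0400be0200de0500fe06, []⟩]

theorem t9_490_56 : jobs 8 S9 b8_490 j9_490_56 = true := by decide +kernel

noncomputable def j9_490_57 : List Job := [
  ⟨6, 0x5108a46239309a4e27d00824221920924a25c804222118904a2613c44251009c0e0501, 0, 96, 0xe05002e04004e04006e0400880200980200a80400b805, []⟩]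

theorem t9_490_57 : jobs 8 S9 b8_490 j9_490_57 = true := by decide +kernel

noncomputable def j9_490_58 : List Job := [
  ⟨5, 0x5108a46239309a4e27d00824221920924a25c804222118904a2613c48271008c0e0501, 0, 96, 0xe07002e06004e06006e0200880700980200a80600b805, []⟩]

theorem t9_490_58 : jobs 8 S9 b8_490 j9_490_58 = true := by decide +kernel

noncomputable def j9_490_59 : List Job := [
  ⟨4, 0x4804222118904a2613c48271008c0e0501, 0, 96, 0x0, []⟩]

theorem t9_490_59 : jobs 8 S9 b8_490 j9_490_59 = true := by decide +kernel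

noncomputable def j9_490_60 : List Job := [
  ⟨3, 0x550aa562b970ba5e2fd40a25229960b25a2dd108a46239309a4e27d00824221920924a25c804222118904a2613c48271008c0e0501, 0, 96, 0x0, []⟩]

theorem t9_490_60 : jobs 8 S9 b8_490 j9_490_60 = true := by decide +kernel

noncomputable def j9_490_61 : List Job := [
  ⟨2, 0x4804222118904a2613c48271008c0e0501, 0, 72, 0x0, []⟩]

theorem t9_490_61 : jobs 8 S9 b8_490 j9_490_61 = true := by decide +kernel

noncomputable def j9_490_62 : List Job := [
  ⟨1, 0x4804222118904a2613c48271008c0e0501, 0, 72, 0x0, []⟩]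

theorem t9_490_62 : jobs 8 S9 b8_490 j9_490_62 = true := by decide +kernel

noncomputable def j9_490_63 : List Job := [
  ⟨0, 0x550aa562b970ba5e2fd40a25229960b25a2dd108a46239309a4e27d00824221920924a25c804222118904a2613c44251009c0e0501, 0, 72, 0x0, []⟩]

theorem t9_490_63 : jobs 8 S9 b8_490 j9_490_63 = true := by decide +kernel

theorem d9_490 : Dn 8 S9 b8_490 := dn_of (Js := j9_490_0 ++ (j9_490_1 ++ (j9_490_2 ++ (j9_490_3 ++ (j9_490_4 ++ (j9_490_5 ++ (j9_490_6 ++ (j9_490_7 ++ (j9_490_8 ++ (j9_490_9 ++ (j9_490_10 ++ (j9_490_11 ++ (j9_490_12 ++ (j9_490_13 ++ (j9_490_14 ++ (j9_490_15 ++ (j9_490_16 ++ (j9_490_17 ++ (j9_490_18 ++ (j9_490_19 ++ (j9_490_20 ++ (j9_490_21 ++ (j9_490_22 ++ (j9_490_23 ++ (j9_490_24 ++ (j9_490_25 ++ (j9_490_26 ++ (j9_490_27 ++ (j9_490_28 ++ (j9_490_29 ++ (j9_490_30 ++ (j9_490_31 ++ (j9_490_32 ++ (j9_490_33 ++ (j9_490_34 ++ (j9_490_35 ++ (j9_490_36 ++ (j9_490_37 ++ (j9_490_38 ++ (j9_490_39 ++ (j9_490_40 ++ (j9_490_41 ++ (j9_490_42 ++ (j9_490_43 ++ (j9_490_44 ++ (j9_490_45 ++ (j9_490_46 ++ (j9_490_47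 ++ (j9_490_48 ++ (j9_490_49 ++ (j9_490_50 ++ (j9_490_51 ++ (j9_490_52 ++ (j9_490_53 ++ (j9_490_54 ++ (j9_490_55 ++ (j9_490_56 ++ (j9_490_57 ++ (j9_490_58 ++ (j9_490_59 ++ (j9_490_60 ++ (j9_490_61 ++ (j9_490_62 ++ (j9_490_63 ++ []))))))))))))))))))))))))))))))))))))))))))))))))))))))))))))))))
  (jobs_append t9_490_0 <| jobs_append t9_490_1 <| jobs_append t9_490_2 <| jobs_append t9_490_3 <| jobs_append t9_490_4 <| jobs_append t9_490_5 <| jobs_append t9_490_6 <| jobs_append t9_490_7 <| jobs_append t9_490_8 <| jobs_append t9_490_9 <| jobs_append t9_490_10 <| jobs_append t9_490_11 <| jobs_append t9_490_12 <| jobs_append t9_490_13 <| jobs_append t9_490_14 <| jobs_append t9_490_15 <| jobs_append t9_490_16 <| jobs_append t9_490_17 <| jobs_append t9_490_18 <| jobs_append t9_490_19 <| jobs_append t9_490_20 <| jobs_append t9_490_21 <| jobs_append t9_490_22 <| jobs_append t9_490_23 <| jobs_append t9_490_24 <| jobs_append t9_490_25 <| jobs_append t9_490_26 <| jobs_append t9_490_27 <| jobs_append t9_490_28 <| jobs_append t9_490_29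 <| jobs_append t9_490_30 <| jobs_append t9_490_31 <| jobs_append t9_490_32 <| jobs_append t9_490_33 <| jobs_append t9_490_34 <| jobs_append t9_490_35 <| jobs_append t9_490_36 <| jobs_append t9_490_37 <| jobs_append t9_490_38 <| jobs_append t9_490_39 <| jobs_append t9_490_40 <| jobs_append t9_490_41 <| jobs_append t9_490_42 <| jobs_append t9_490_43 <| jobs_append t9_490_44 <| jobs_append t9_490_45 <| jobs_append t9_490_46 <| jobs_append t9_490_47 <| jobs_append t9_490_48 <| jobs_append t9_490_49 <| jobs_append t9_490_50 <| jobs_append t9_490_51 <| jobs_append t9_490_52 <| jobs_append t9_490_53 <| jobs_append t9_490_54 <| jobs_append t9_490_55 <| jobs_append t9_490_56 <| jobs_append t9_490_57 <| jobs_append t9_490_58 <| jobs_append t9_490_59 <| jobs_append t9_490_60 <| jobs_append t9_490_61 <| jobs_append t9_490_62 <| jobs_append t9_490_63 <| List.forall_mem_nil _) (by decide +kernel)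

noncomputable def j9_491_0 : List Job := [
  ⟨63, 0x550aa562b970ba5e2fd00824221920924a25cc06232198d06a361bc804222118904a2613c140f040340e0501, 0, 112, 0x0, []⟩]

theorem t9_491_0 : jobs 8 S9 b8_491 j9_491_0 = true := by decide +kernel

noncomputable def j9_491_1 : List Job := [
  ⟨62, 0x601028241a110a8643a21128a45a311a8e47d50aa562b970ba5e2fd00824221920924a25cc06232198d06a361bc804222118904a2613c140f040340e0501, 0, 112, 0x0, []⟩]

theorem t9_491_1 : jobs 8 S9 b8_491 j9_491_1 = true := by decide +kernel

noncomputable def j9_491_2 : List Job := [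
  ⟨61, 0x550aa562b970ba5e2fd00824221920924a25c140f040340e0501, 0, 112, 0x0, []⟩]

theorem t9_491_2 : jobs 8 S9 b8_491 j9_491_2 = true := by decide +kernel

noncomputable def j9_491_3 : List Job := [
  ⟨60, 0x609068643a29168c46e01028442a21128e47d50aa562b970ba5e2fd00824221920924a25c140f040340e0501, 0, 112, 0x0, []⟩]

theorem t9_491_3 : jobs 8 S9 b8_491 j9_491_3 = true := by decide +kernel

noncomputable def j9_491_4 : List Job := [
  ⟨59, 0x550aa562b970ba5e2fd00824221920924a25cc06232198d06a361bc804222118904a2613c140f040340e0501, 0, 112, 0x0, []⟩]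

theorem t9_491_4 : jobs 8 S9 b8_491 j9_491_4 = true := by decide +kernel

noncomputable def j9_491_5 : List Job := [
  ⟨58, 0x609068643a29168c46e01028442a21128e47d50aa562b970ba5e2fd00824221920924a25cc06232198d06a361bc804222118904a2613c140f040340e0501, 0, 112, 0x0, []⟩]

theorem t9_491_5 : jobs 8 S9 b8_491 j9_491_5 = true := by decide +kernel

noncomputable def j9_491_6 : List Job := [
  ⟨57, 0x550aa562b970ba5e2fd00824221920924a25c804222118904a2613c140f040340e0501, 0, 160, 0x0, []⟩]

theorem t9_491_6 : jobs 8 S9 b8_491 j9_491_6 = true := by decide +kernel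

noncomputable def j9_491_7 : List Job := [
  ⟨56, 0x601028241a110a8643a21128a45a311a8e47d50aa562b970ba5e2fd00824221920924a25c804222118904a2613c140f040340e0501, 0, 160, 0x0, []⟩]

theorem t9_491_7 : jobs 8 S9 b8_491 j9_491_7 = true := by decide +kernel

noncomputable def j9_491_8 : List Job := [
  ⟨55, 0x550aa562b970ba5e2fd00824221920924a25c804222118904a2613c140f040340e0501, 0, 160, 0x0, []⟩]

theorem t9_491_8 : jobs 8 S9 b8_491 j9_491_8 = true := by decide +kernel

noncomputable def j9_491_9 : List Job := [
  ⟨54, 0x609068643a29168c46e01028442a21128e47d50aa562b970ba5e2fd00824221920924a25c804222118904a2613c140f040340e0501, 0, 160, 0x0, []⟩]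

theorem t9_491_9 : jobs 8 S9 b8_491 j9_491_9 = true := by decide +kernel

noncomputable def j9_491_10 : List Job := [
  ⟨53, 0x540a25229960b25a2dd00824221920924a25c804222118904a2613c502a160bc40221209c140f040340e0501, 0, 160, 0x0, []⟩]

theorem t9_491_10 : jobs 8 S9 b8_491 j9_491_10 = true := by decide +kernel

noncomputable def j9_491_11 : List Job := [
  ⟨52, 0x601028241a110a8643a21128a45a311a8e47d40a25229960b25a2dd00824221920924a25c804222118904a2613c502a160bc40221209c140d0403c0e0501, 0, 160, 0x0, []⟩]

theorem t9_491_11 : jobs 8 S9 b8_491 j9_491_11 = true := by decide +kernel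

noncomputable def j9_491_12 : List Job := [
  ⟨51, 0x540a25229960b25a2dd00824221920924a25c804222118904a2613c502a160bc40221209c140f040340e0501, 0, 160, 0x0, []⟩]

theorem t9_491_12 : jobs 8 S9 b8_491 j9_491_12 = true := by decide +kernel

noncomputable def j9_491_13 : List Job := [
  ⟨50, 0x605068543a25168c47601048443221148d47d40a25229960b25a2dd00824221920924a25c804222118904a2613c502a160bc40221209c180f0402c0e0501, 0, 240, 0x14205014404014604014805014a04014c04014e04015005015204015605015c05016005016205016404016605016805016a04016c05017004017804017a04017c04017e04018005018a04018c05019a04019c04019e0401a00401a20401a60501b80501ba0401bc0501c004, []⟩]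

theorem t9_491_13 : jobs 8 S9 b8_491 j9_491_13 = true := by decide +kernel

noncomputable def j9_491_14 : List Job := [
  ⟨49, 0x540a25229960b25a2dd00824221920924a25c502a160bc44251009c140f040340e0501, 0, 112, 0x0, []⟩]

theorem t9_491_14 : jobs 8 S9 b8_491 j9_491_14 = true := by decide +kernel

noncomputable def j9_491_15 : List Job := [
  ⟨48, 0x601028241a110a8643a21128a45a311a8e47d40a25229960b25a2dd00824221920924a25c502a160bc44251009c140f040340e0501, 0, 112, 0x0, []⟩]

theorem t9_491_15 : jobs 8 S9 b8_491 j9_491_15 = true := by decide +kernel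

noncomputable def j9_491_16 : List Job := [
  ⟨47, 0x540a25229960b25a2dd00824221920924a25cc06232198d06a361bc804222118904a2613c502a160bc44251009c140f040340e0501, 0, 112, 0x0, []⟩]

theorem t9_491_16 : jobs 8 S9 b8_491 j9_491_16 = true := by decide +kernel

noncomputable def j9_491_17 : List Job := [
  ⟨46, 0x601028241a110a8643a21128a45a311a8e47d40a25229960b25a2dd00824221920924a25cc06232198d06a361bc804222118904a2613c502a160bc48271008c140d0403c0e0501, 0, 112, 0x0, []⟩]

theorem t9_491_17 : jobs 8 S9 b8_491 j9_491_17 = true := by decide +kernel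

noncomputable def j9_491_18 : List Job := [
  ⟨45, 0x540a25229960b25a2dd00824221920924a25c502a160bc48271008c140f040340e0501, 0, 112, 0x0, []⟩]

theorem t9_491_18 : jobs 8 S9 b8_491 j9_491_18 = true := by decide +kernel

noncomputable def j9_491_19 : List Job := [
  ⟨44, 0x609068643a29168c46e01028442a21128e47d40a25229960b25a2dd00824221920924a25c502a160bc48271008c140f040340e0501, 0, 168, 0xe20300e40100e60200e80100ea0300ec0100ee0300f00100f20200f40100f60200f80100fa0200fc0100fe03010001010201010402010601010803010a02011002011603011802011a03011c01011e01012001012203012401012601012801012a02012c01012e02013001013201013401013602013801013a01013c02013e01, []⟩]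

theorem t9_491_19 : jobs 8 S9 b8_491 j9_491_19 = true := by decide +kernel

noncomputable def j9_491_20 : List Job := [
  ⟨43, 0x540a25229960b25a2dd00824221920924a25cc06232198d06a361bc804222118904a2613c502a160bc48271008c140f040340e0501, 0, 112, 0x0, []⟩]

theorem t9_491_20 : jobs 8 S9 b8_491 j9_491_20 = true := by decide +kernel

noncomputable def j9_491_21 : List Job := [
  ⟨42, 0x605068543a25168c47601048443221148d47d40a25229960b25a2dd00824221920924a25cc06232198d06a361bc804222118904a2613c502a160bc442710094180f0402c0e0501, 0, 168, 0x200000601000801000a00000c01000e01001001001205001801001a01001e00002201002401002800003600011a04011e04012001012201012404012801013005013601013a01, [(26, ⟨2007, 0x468015b0026e0004000058010700004000040080001, 0x18f2d0d0200b0380802⟩), (19, ⟨2005, 0x468015b0026e0004000058010700004000040080001, 0x18f2d0d0200b0380802⟩), (14, ⟨2006, 0x468015b0026e0004000058010700004000040080001, 0x18f2d0d0200b0380802⟩), (4, ⟨2008, 0x420014b002480004800058010400004000040080001, 0x18425090240b0200802⟩), (0, ⟨2004, 0x468015b0026e0004000058010700004000040080001,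 0x18f2d0d0200b0380802⟩)]⟩]

theorem t9_491_21 : jobs 8 S9 b8_491 j9_491_21 = true := by decide +kernel

noncomputable def j9_491_22 : List Job := [
  ⟨41, 0x484462513c80442413440221209c0e0501, 0, 96, 0x0, []⟩]

theorem t9_491_22 : jobs 8 S9 b8_491 j9_491_22 = true := by decide +kernel

noncomputable def j9_491_23 : List Job := [
  ⟨40, 0x601028241a110a8643a21128a45a311a8e47c84442513480462413c40221209c0e0501, 0, 96, 0x0, []⟩]

theorem t9_491_23 : jobs 8 S9 b8_491 j9_491_23 = true := by decide +kernel

noncomputable def j9_491_24 : List Job := [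
  ⟨39, 0x484462513c80442413440221209c0e0501, 0, 96, 0x0, []⟩]

theorem t9_491_24 : jobs 8 S9 b8_491 j9_491_24 = true := by decide +kernel

noncomputable def j9_491_25 : List Job := [
  ⟨38, 0x601028241a110a8643a21128a45a311a8e47c88462613c80422412c40221209c0e0501, 0, 96, 0x0, []⟩]

theorem t9_491_25 : jobs 8 S9 b8_491 j9_491_25 = true := by decide +kernel

noncomputable def j9_491_26 : List Job := [
  ⟨37, 0x484462513c80442413440221209c0e0501, 0, 96, 0x0, []⟩]

theorem t9_491_26 : jobs 8 S9 b8_491 j9_491_26 = true := by decide +kernel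

noncomputable def j9_491_27 : List Job := [
  ⟨36, 0x601028241a110a8643a21128a45a311a8e47c84442513480462413c40221209c0e0501, 0, 96, 0x0, []⟩]

theorem t9_491_27 : jobs 8 S9 b8_491 j9_491_27 = true := by decide +kernel

noncomputable def j9_491_28 : List Job := [
  ⟨35, 0x484462513c80442413440221209c0e0501, 0, 96, 0x0, []⟩]

theorem t9_491_28 : jobs 8 S9 b8_491 j9_491_28 = true := by decide +kernel

noncomputable def j9_491_29 : List Job := [
  ⟨34, 0x601028241a110a8643a21128a45a311a8e47c88462613c80422412c40221209c0e0501, 0, 96, 0x0, []⟩]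

theorem t9_491_29 : jobs 8 S9 b8_491 j9_491_29 = true := by decide +kernel

noncomputable def j9_491_30 : List Job := [
  ⟨33, 0x484462513c80442413440221209c0e0501, 0, 128, 0x0, []⟩]

theorem t9_491_30 : jobs 8 S9 b8_491 j9_491_30 = true := by decide +kernel

noncomputable def j9_491_31 : List Job := [
  ⟨32, 0x601028241a110a8643a21128a45a311a8e47c88462613c80422412c40221209c0e0501, 0, 128, 0x0, []⟩]

theorem t9_491_31 : jobs 8 S9 b8_491 j9_491_31 = true := by decide +kernel

noncomputable def j9_491_32 : List Job := [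
  ⟨31, 0x484462513c80442413440221209c0e0501, 0, 128, 0x0, []⟩]

theorem t9_491_32 : jobs 8 S9 b8_491 j9_491_32 = true := by decide +kernel

noncomputable def j9_491_33 : List Job := [
  ⟨30, 0x601028241a110a8643a21128a45a311a8e47c88462613c80422412c40221209c0e0501, 0, 128, 0x0, []⟩]

theorem t9_491_33 : jobs 8 S9 b8_491 j9_491_33 = true := by decide +kernel

noncomputable def j9_491_34 : List Job := [
  ⟨29, 0x440221209c0e0501, 0, 80, 0x0, []⟩]

theorem t9_491_34 : jobs 8 S9 b8_491 j9_491_34 = true := by decide +kernel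

noncomputable def j9_491_35 : List Job := [
  ⟨28, 0x601028241a110a8643a21128a45a311a8e47c40221209c0e0501, 0, 80, 0x0, []⟩]

theorem t9_491_35 : jobs 8 S9 b8_491 j9_491_35 = true := by decide +kernel

noncomputable def j9_491_36 : List Job := [
  ⟨27, 0x4c466341b4c064351bc84462513c80442413440221209c0e0501, 0, 80, 0x0, []⟩]

theorem t9_491_36 : jobs 8 S9 b8_491 j9_491_36 = true := by decide +kernel

noncomputable def j9_491_37 : List Job := [
  ⟨26, 0x601028241a110a8643a21128a45a311a8e47cc866341acc062361bc88462613c80422412c40221209c0e0501, 0, 80, 0x0, []⟩]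

theorem t9_491_37 : jobs 8 S9 b8_491 j9_491_37 = true := by decide +kernel

noncomputable def j9_491_38 : List Job := [
  ⟨25, 0x440221209c0e0501, 0, 80, 0x0, []⟩]

theorem t9_491_38 : jobs 8 S9 b8_491 j9_491_38 = true := by decide +kernel

noncomputable def j9_491_39 : List Job := [
  ⟨24, 0x601028241a110a8643a21128a45a311a8e47c40221209c0e0501, 0, 80, 0x0, []⟩]

theorem t9_491_39 : jobs 8 S9 b8_491 j9_491_39 = true := by decide +kernel

noncomputable def j9_491_40 : List Job := [
  ⟨23, 0x4c466341b4c064351bc84462513c80442413440221209c0e0501, 0, 80, 0x0, []⟩]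

theorem t9_491_40 : jobs 8 S9 b8_491 j9_491_40 = true := by decide +kernel

noncomputable def j9_491_41 : List Job := [
  ⟨22, 0x601028241a110a8643a21128a45a311a8e47cc866341acc062361bc88462613c80422412c40221209c0e0501, 0, 80, 0x0, []⟩]

theorem t9_491_41 : jobs 8 S9 b8_491 j9_491_41 = true := by decide +kernel

noncomputable def j9_491_42 : List Job := [
  ⟨21, 0x448271008c0e0501, 0, 72, 0x2a05007204, []⟩]

theorem t9_491_42 : jobs 8 S9 b8_491 j9_491_42 = true := by decide +kernel

noncomputable def j9_491_43 : List Job := [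
  ⟨20, 0x601028241a110a8643a21128a45a311a8e47c4427100940e0501, 0, 72, 0x2a02007202, []⟩]

theorem t9_491_43 : jobs 8 S9 b8_491 j9_491_43 = true := by decide +kernel

noncomputable def j9_491_44 : List Job := [
  ⟨19, 0x4c466341b4c064351bc84462513c80442413448271008c0e0501, 0, 72, 0x0, []⟩]

theorem t9_491_44 : jobs 8 S9 b8_491 j9_491_44 = true := by decide +kernel

noncomputable def j9_491_45 : List Job := [
  ⟨18, 0x601028241a110a8643a21128a45a311a8e47cc464341bcc066351b484442513480462413c4427100940e0501, 0, 72, 0x0, []⟩]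

theorem t9_491_45 : jobs 8 S9 b8_491 j9_491_45 = true := by decide +kernel

noncomputable def j9_491_46 : List Job := [
  ⟨17, 0x4140f040340e0501, 0, 56, 0x0, []⟩]

theorem t9_491_46 : jobs 8 S9 b8_491 j9_491_46 = true := by decide +kernel

noncomputable def j9_491_47 : List Job := [
  ⟨16, 0x601028241a110a8643a21128a45a311a8e47c180f0402c0e0501, 0, 56, 0x0, []⟩]

theorem t9_491_47 : jobs 8 S9 b8_491 j9_491_47 = true := by decide +kernel

noncomputable def j9_491_48 : List Job := [
  ⟨15, 0x4c466341b4c064351bc84462513c804424134140f040340e0501, 0, 56, 0x0, []⟩]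

theorem t9_491_48 : jobs 8 S9 b8_491 j9_491_48 = true := by decide +kernel

noncomputable def j9_491_49 : List Job := [
  ⟨14, 0x601028241a110a8643a21128a45a311a8e47cc866341acc062361bc88462613c80422412c180f0402c0e0501, 0, 56, 0x0, []⟩]

theorem t9_491_49 : jobs 8 S9 b8_491 j9_491_49 = true := by decide +kernel

noncomputable def j9_491_50 : List Job := [
  ⟨13, 0x4140f040340e0501, 0, 56, 0x0, []⟩]

theorem t9_491_50 : jobs 8 S9 b8_491 j9_491_50 = true := by decide +kernel

noncomputable def j9_491_51 : List Job := [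
  ⟨12, 0x605068543a25168c47601048443221148d47c180f0402c0e0501, 0, 60, 0x0, []⟩]

theorem t9_491_51 : jobs 8 S9 b8_491 j9_491_51 = true := by decide +kernel

noncomputable def j9_491_52 : List Job := [
  ⟨11, 0x4c466341b4c064351bc84462513c804424134140f040340e0501, 0, 56, 0x0, []⟩]

theorem t9_491_52 : jobs 8 S9 b8_491 j9_491_52 = true := by decide +kernel

noncomputable def j9_491_53 : List Job := [
  ⟨10, 0x605068543a25168c47601048443221148d47cc866341acc062361bc88462613c80422412c180f0402c0e0501, 0, 76, 0x0, []⟩]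

theorem t9_491_53 : jobs 8 S9 b8_491 j9_491_53 = true := by decide +kernel

noncomputable def j9_491_54 : List Job := [
  ⟨9, 0x484462513c804424134140f040340e0501, 0, 80, 0x0, []⟩]

theorem t9_491_54 : jobs 8 S9 b8_491 j9_491_54 = true := by decide +kernel

noncomputable def j9_491_55 : List Job := [
  ⟨8, 0x601028241a110a8643a21128a45a311a8e47c88462613c80422412c180f0402c0e0501, 0, 80, 0x0, []⟩]

theorem t9_491_55 : jobs 8 S9 b8_491 j9_491_55 = true := by decide +kernel

noncomputable def j9_491_56 : List Job := [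
  ⟨7, 0x484462513c804424134140f040340e0501, 0, 80, 0x0, []⟩]

theorem t9_491_56 : jobs 8 S9 b8_491 j9_491_56 = true := by decide +kernel

noncomputable def j9_491_57 : List Job := [
  ⟨6, 0x605068543a25168c47601048443221148d47c88462613c80422412c180f0402c0e0501, 0, 80, 0x0, []⟩]

theorem t9_491_57 : jobs 8 S9 b8_491 j9_491_57 = true := by decide +kernel

noncomputable def j9_491_58 : List Job := [
  ⟨5, 0x484462513c804424134502a160bc40221209c140f040340e0501, 0, 80, 0x0, []⟩]

theorem t9_491_58 : jobs 8 S9 b8_491 j9_491_58 = true := by decide +kernel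

noncomputable def j9_491_59 : List Job := [
  ⟨4, 0x601028241a110a8643a21128a45a311a8e47c84442513480462413c502a160bc40221209c140d0403c0e0501, 0, 80, 0x0, []⟩]

theorem t9_491_59 : jobs 8 S9 b8_491 j9_491_59 = true := by decide +kernel

noncomputable def j9_491_60 : List Job := [
  ⟨3, 0x484462513c804424134502a160bc40221209c140f040340e0501, 0, 80, 0x0, []⟩]

theorem t9_491_60 : jobs 8 S9 b8_491 j9_491_60 = true := by decide +kernel

noncomputable def j9_491_61 : List Job := [
  ⟨2, 0x605068543a25168c47601048443221148d47c88462613c80422412c502a160bc40221209c180f0402c0e0501, 0, 128, 0xa20400a40400a60400a80500aa0400ac0400ae0500b80400ba0500c80400ca0400ce0100d20400d80100dc0100e00100e40100e80400ec0500ee0100f40100f80400fa01010005, []⟩]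

theorem t9_491_61 : jobs 8 S9 b8_491 j9_491_61 = true := by decide +kernel

noncomputable def j9_491_62 : List Job := [
  ⟨1, 0x4502a160bc44251009c140f040340e0501, 0, 56, 0x0, []⟩]

theorem t9_491_62 : jobs 8 S9 b8_491 j9_491_62 = true := by decide +kernel

noncomputable def j9_491_63 : List Job := [
  ⟨0, 0x601028241a110a8643a21128a45a311a8e47c502a160bc44251009c180f0402c0e0501, 0, 60, 0x0, []⟩]

theorem t9_491_63 : jobs 8 S9 b8_491 j9_491_63 = true := by decide +kernel

theorem d9_491 : Dn 8 S9 b8_491 := dn_of (Js := j9_491_0 ++ (j9_491_1 ++ (j9_491_2 ++ (j9_491_3 ++ (j9_491_4 ++ (j9_491_5 ++ (j9_491_6 ++ (j9_491_7 ++ (j9_491_8 ++ (j9_491_9 ++ (j9_491_10 ++ (j9_491_11 ++ (j9_491_12 ++ (j9_491_13 ++ (j9_491_14 ++ (j9_491_15 ++ (j9_491_16 ++ (j9_491_17 ++ (j9_491_18 ++ (j9_491_19 ++ (j9_491_20 ++ (j9_491_21 ++ (j9_491_22 ++ (j9_491_23 ++ (j9_491_24 ++ (j9_491_25 ++ (j9_491_26 ++ (j9_491_27 ++ (j9_491_28 ++ (j9_491_29 ++ (j9_491_30 ++ (j9_491_31 ++ (j9_491_32 ++ (j9_491_33 ++ (j9_491_34 ++ (j9_491_35 ++ (j9_491_36 ++ (j9_491_37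 ++ (j9_491_38 ++ (j9_491_39 ++ (j9_491_40 ++ (j9_491_41 ++ (j9_491_42 ++ (j9_491_43 ++ (j9_491_44 ++ (j9_491_45 ++ (j9_491_46 ++ (j9_491_47 ++ (j9_491_48 ++ (j9_491_49 ++ (j9_491_50 ++ (j9_491_51 ++ (j9_491_52 ++ (j9_491_53 ++ (j9_491_54 ++ (j9_491_55 ++ (j9_491_56 ++ (j9_491_57 ++ (j9_491_58 ++ (j9_491_59 ++ (j9_491_60 ++ (j9_491_61 ++ (j9_491_62 ++ (j9_491_63 ++ []))))))))))))))))))))))))))))))))))))))))))))))))))))))))))))))))
  (jobs_append t9_491_0 <| jobs_append t9_491_1 <| jobs_append t9_491_2 <| jobs_append t9_491_3 <| jobs_append t9_491_4 <| jobs_append t9_491_5 <| jobs_append t9_491_6 <| jobs_append t9_491_7 <| jobs_append t9_491_8 <| jobs_append t9_491_9 <| jobs_append t9_491_10 <| jobs_append t9_491_11 <| jobs_append t9_491_12 <| jobs_append t9_491_13 <| jobs_append t9_491_14 <| jobs_append t9_491_15 <| jobs_append t9_491_16 <| jobs_append t9_491_17 <| jobs_append t9_491_18 <| jobs_append t9_491_19 <| jobs_append t9_491_20 <| jobs_append t9_491_21 <| jobs_append t9_491_22 <| jobs_append t9_491_23 <| jobs_append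 t9_491_24 <| jobs_append t9_491_25 <| jobs_append t9_491_26 <| jobs_append t9_491_27 <| jobs_append t9_491_28 <| jobs_append t9_491_29 <| jobs_append t9_491_30 <| jobs_append t9_491_31 <| jobs_append t9_491_32 <| jobs_append t9_491_33 <| jobs_append t9_491_34 <| jobs_append t9_491_35 <| jobs_append t9_491_36 <| jobs_append t9_491_37 <| jobs_append t9_491_38 <| jobs_append t9_491_39 <| jobs_append t9_491_40 <| jobs_append t9_491_41 <| jobs_append t9_491_42 <| jobs_append t9_491_43 <| jobs_append t9_491_44 <| jobs_append t9_491_45 <| jobs_append t9_491_46 <| jobs_append t9_491_47 <| jobs_append t9_491_48 <| jobs_append t9_491_49 <| jobs_append t9_491_50 <| jobs_append t9_491_51 <| jobs_append t9_491_52 <| jobs_append t9_491_53 <| jobs_append t9_491_54 <| jobs_append t9_491_55 <| jobs_append t9_491_56 <| jobs_append t9_491_57 <| jobs_append t9_491_58 <| jobs_append t9_491_59 <| jobs_append t9_491_60 <| jobs_append t9_491_61 <| jobs_append t9_491_62 <| jobs_append t9_491_63 <| List.forall_mem_nil _) (by decide +kernel)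

noncomputable def j9_492_0 : List Job := [
  ⟨63, 0x609068643a29168c46e01028442a21128e47d90ca66339a0d26a35d00824221920924a25c140f040340e0501, 0, 128, 0x0, []⟩]

theorem t9_492_0 : jobs 8 S9 b8_492 j9_492_0 = true := by decide +kernel

noncomputable def j9_492_1 : List Job := [
  ⟨62, 0x609068643a29168c46e01028442a21128e47d80c262319b0da6e37d00824221920924a25cc06232198d06a361bc84462513c804424134140f040340e0501, 0, 128, 0x206000407008206008407, []⟩]

theorem t9_492_1 : jobs 8 S9 b8_492 j9_492_1 = true := by decide +kernel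

noncomputable def j9_492_2 : List Job := [
  ⟨61, 0x590ca66339a0d26a35d00824221920924a25cc06232198d06a361bc140f040340e0501, 0, 96, 0x0, []⟩]

theorem t9_492_2 : jobs 8 S9 b8_492 j9_492_2 = true := by decide +kernel

noncomputable def j9_492_3 : List Job := [
  ⟨60, 0x641229249a512a964ba61329a4da713a9e4fe01028241a110a8643a21128a45a311a8e47d90ca66339a0d26a35d00824221920924a25cc06232198d06a361bc140f040340e0501, 0, 96, 0x0, []⟩]

theorem t9_492_3 : jobs 8 S9 b8_492 j9_492_3 = true := by decide +kernel

noncomputable def j9_492_4 : List Job := [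
  ⟨59, 0x580c262319b0da6e37d00824221920924a25c84462513c804424134140f040340e0501, 0, 96, 0x0, []⟩]

theorem t9_492_4 : jobs 8 S9 b8_492 j9_492_4 = true := by decide +kernel

noncomputable def j9_492_5 : List Job := [
  ⟨58, 0x641229249a512a964ba61329a4da713a9e4fe01028241a110a8643a21128a45a311a8e47d80c262319b0da6e37d00824221920924a25c84462513c804424134140f040340e0501, 0, 96, 0x0, []⟩]

theorem t9_492_5 : jobs 8 S9 b8_492 j9_492_5 = true := by decide +kernel

noncomputable def j9_492_6 : List Job := [
  ⟨57, 0x609068643a29168c46e01028442a21128e47d90ca66339a0d26a35d00824221920924a25cc06232198d06a361bc140f040340e0501, 0, 128, 0x0, []⟩]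

theorem t9_492_6 : jobs 8 S9 b8_492 j9_492_6 = true := by decide +kernel

noncomputable def j9_492_7 : List Job := [
  ⟨56, 0x609068643a29168c46e01028442a21128e47d80c262319b0da6e37d00824221920924a25c84462513c804424134140f040340e0501, 0, 128, 0x0, []⟩]

theorem t9_492_7 : jobs 8 S9 b8_492 j9_492_7 = true := by decide +kernel

noncomputable def j9_492_8 : List Job := [
  ⟨55, 0x601028241a110a8643a21128a45a311a8e47d90ca66339a0d26a35d00824221920924a25cc06232198d06a361bc502a160bc40221209c140f040340e0501, 0, 128, 0x0, []⟩]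

theorem t9_492_8 : jobs 8 S9 b8_492 j9_492_8 = true := by decide +kernel

noncomputable def j9_492_9 : List Job := [
  ⟨54, 0x601028241a110a8643a21128a45a311a8e47d80c262319b0da6e37d00824221920924a25c88462613c80422412c502a160bc40221209c180f0402c0e0501, 0, 128, 0x204000a04008204008a04, []⟩]

theorem t9_492_9 : jobs 8 S9 b8_492 j9_492_9 = true := by decide +kernel

noncomputable def j9_492_10 : List Job := [
  ⟨53, 0x590ca66339a0d26a35d00824221920924a25cc06232198d06a361bc502a160bc40221209c140f040340e0501, 0, 96, 0x0, []⟩]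

theorem t9_492_10 : jobs 8 S9 b8_492 j9_492_10 = true := by decide +kernel

noncomputable def j9_492_11 : List Job := [
  ⟨52, 0x64926944aa69369e4fe4122964ba61329c4ee09068643a29168c46e01028442a21128e47d90ca66339a0d26a35d00824221920924a25cc06232198d06a361bc502a160bc40221209c140f040340e0501, 0, 168, 0xc20200c80300ca0300d00300d20200d40200d60200d80300da0200dc0300de0200e00100e40300e60200ec0200ee0200f40200f60200fc0200fe02010202010a03011202011402012202012403012603012802012e02013602, []⟩]

theorem t9_492_11 : jobs 8 S9 b8_492 j9_492_11 = true := by decide +kernel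

noncomputable def j9_492_12 : List Job := [
  ⟨51, 0x580c262319b0da6e37d00824221920924a25c84462513c804424134502a160bc40221209c140f040340e0501, 0, 96, 0x202000403001203, []⟩]

theorem t9_492_12 : jobs 8 S9 b8_492 j9_492_12 = true := by decide +kernel

noncomputable def j9_492_13 : List Job := [
  ⟨50, 0x64526944b265369d4fe4124954ba61349c4f605068543a25168c47601048443221148d47d80c262319b0da6e37d00824221920924a25c88462613c80422412c502a160bc40221209c180f0402c0e0501, 0, 168, 0x20400040500820400c20500c40400c60400c80400da0400dc0500de0400e00500e20500e40400e60400e80500ea0400ec0500ee0100f00100f20500f40400f60400f804010404010604010805010c04011e04012204012605012a04012e04013204013605, []⟩]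

theorem t9_492_13 : jobs 8 S9 b8_492 j9_492_13 = true := by decide +kernel

noncomputable def j9_492_14 : List Job := [
  ⟨49, 0x601028241a110a8643a21128a45a311a8e47d90ca66339a0d26a35d00824221920924a25c502a160bc40221209c140f040340e0501, 0, 128, 0x0, []⟩]

theorem t9_492_14 : jobs 8 S9 b8_492 j9_492_14 = true := by decide +kernel

noncomputable def j9_492_15 : List Job := [
  ⟨48, 0x601028241a110a8643a21128a45a311a8e47d80c262319b0da6e37d00824221920924a25cc06232198d06a361bc88462613c80422412c502a160bc40221209c180f0402c0e0501, 0, 128, 0x0, []⟩]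

theorem t9_492_15 : jobs 8 S9 b8_492 j9_492_15 = true := by decide +kernel

noncomputable def j9_492_16 : List Job := [
  ⟨47, 0x590ca66339a0d26a35d00824221920924a25c542d140bc48271008c140f040340e0501, 0, 96, 0x0, []⟩]

theorem t9_492_16 : jobs 8 S9 b8_492 j9_492_16 = true := by decide +kernel

noncomputable def j9_492_17 : List Job := [
  ⟨46, 0x64926964ba69369c4ee4122944aa61329e4fe09068643a29168c46e01028442a21128e47d90ca66339a0d26a35d00824221920924a25c542d140bc48271008c140f040340e0501, 0, 168, 0xc20300c40100c60200c80100ca0300cc0100ce0300d00300d20200d40100d60200d80100da0200dc0100de0200e00100e20200e40100e60200e80100ea0200ec0100ee0300f00200f20200f60200fa0200fe02010203010401010602010803010a01010c01010e01011001011201011401011601011801011a02011c01011e01012001012201012401012601012801012a02012c01012e01013001013202013401013601013801, []⟩]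

theorem t9_492_17 : jobs 8 S9 b8_492 j9_492_17 = true := by decide +kernel

noncomputable def j9_492_18 : List Job := [
  ⟨45, 0x580c262319b0da6e37d00824221920924a25cc06232198d06a361bc84462513c804424134542d140bc48271008c140f040340e0501, 0, 104, 0x0, []⟩]

theorem t9_492_18 : jobs 8 S9 b8_492 j9_492_18 = true := by decide +kernel

noncomputable def j9_492_19 : List Job := [
  ⟨44, 0x64526954ba65369c4f64124944b261349d4fe05068543a25168c47601048443221148d47d80c262319b0da6e37d00824221920924a25cc06232198d06a361bc88462613c80422412c542d140bc442710094180f0402c0e0501, 0, 200, 0x200000401000600000801000a01000c00001201001a01001e00002201002401002600002a01002c01002e01003001003201003601003a00014201014405014604014801014a01014c01015e04016401016601016c01017001017201017804, [(28, ⟨2010, 0x4c00143002420004800040010500204000040000001, 0x1982188424080280802⟩), (18, ⟨2012, 0x468016d0004e0044800868010500004004040080001, 0x18a36898240c0280802⟩), (14, ⟨2011, 0x4c00143002420004800040010500204000040000001, 0x1982188424080280802⟩), (5, ⟨2014, 0x468016d0004e0044800868010500004004040080001,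 0x18a36898240c0280802⟩), (2, ⟨2013, 0x468016d0004e0044800868010500004004040080001, 0x18a36898240c0280802⟩), (0, ⟨2009, 0x4c00143002420004800040010500204000040000001, 0x1982188424080280802⟩)]⟩]

theorem t9_492_19 : jobs 8 S9 b8_492 j9_492_19 = true := by decide +kernel

noncomputable def j9_492_20 : List Job := [
  ⟨43, 0x5108a46239309a4e27d00824221920924a25c804222118904a2613c40221209c0e0501, 0, 128, 0x0, []⟩]

theorem t9_492_20 : jobs 8 S9 b8_492 j9_492_20 = true := by decide +kernel

noncomputable def j9_492_21 : List Job := [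
  ⟨42, 0x601028241a110a8643a21128a45a311a8e47d108a46239309a4e27d00824221920924a25c804222118904a2613c40221209c0e0501, 0, 128, 0x0, []⟩]

theorem t9_492_21 : jobs 8 S9 b8_492 j9_492_21 = true := by decide +kernel

noncomputable def j9_492_22 : List Job := [
  ⟨41, 0x5108a46239309a4e27d00824221920924a25c804222118904a2613c40221209c0e0501, 0, 128, 0x0, []⟩]

theorem t9_492_22 : jobs 8 S9 b8_492 j9_492_22 = true := by decide +kernel

noncomputable def j9_492_23 : List Job := [
  ⟨40, 0x601028241a110a8643a21128a45a311a8e47d108a46239309a4e27d00824221920924a25c804222118904a2613c40221209c0e0501, 0, 128, 0x0, []⟩]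

theorem t9_492_23 : jobs 8 S9 b8_492 j9_492_23 = true := by decide +kernel

noncomputable def j9_492_24 : List Job := [
  ⟨39, 0x4804222118904a2613c40221209c0e0501, 0, 96, 0x0, []⟩]

theorem t9_492_24 : jobs 8 S9 b8_492 j9_492_24 = true := by decide +kernel

noncomputable def j9_492_25 : List Job := [
  ⟨38, 0x601028241a110a8643a21128a45a311a8e47c804222118904a2613c40221209c0e0501, 0, 96, 0x0, []⟩]

theorem t9_492_25 : jobs 8 S9 b8_492 j9_492_25 = true := by decide +kernel

noncomputable def j9_492_26 : List Job := [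
  ⟨37, 0x550aa562b970ba5e2fd40a25229960b25a2dd108a46239309a4e27d00824221920924a25c804222118904a2613c40221209c0e0501, 0, 96, 0x0, []⟩]

theorem t9_492_26 : jobs 8 S9 b8_492 j9_492_26 = true := by decide +kernel

noncomputable def j9_492_27 : List Job := [
  ⟨36, 0x601028241a110a8643a21128a45a311a8e47d50aa562b970ba5e2fd40a25229960b25a2dd108a46239309a4e27d00824221920924a25c804222118904a2613c40221209c0e0501, 0, 96, 0x0, []⟩]

theorem t9_492_27 : jobs 8 S9 b8_492 j9_492_27 = true := by decide +kernel

noncomputable def j9_492_28 : List Job := [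
  ⟨35, 0x4804222118904a2613c40221209c0e0501, 0, 96, 0x0, []⟩]

theorem t9_492_28 : jobs 8 S9 b8_492 j9_492_28 = true := by decide +kernel

noncomputable def j9_492_29 : List Job := [
  ⟨34, 0x601028241a110a8643a21128a45a311a8e47c804222118904a2613c40221209c0e0501, 0, 96, 0x0, []⟩]

theorem t9_492_29 : jobs 8 S9 b8_492 j9_492_29 = true := by decide +kernel

noncomputable def j9_492_30 : List Job := [
  ⟨33, 0x550aa562b970ba5e2fd40a25229960b25a2dd108a46239309a4e27d00824221920924a25c804222118904a2613c40221209c0e0501, 0, 96, 0x0, []⟩]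

theorem t9_492_30 : jobs 8 S9 b8_492 j9_492_30 = true := by decide +kernel

noncomputable def j9_492_31 : List Job := [
  ⟨32, 0x601028241a110a8643a21128a45a311a8e47d50aa562b970ba5e2fd40a25229960b25a2dd108a46239309a4e27d00824221920924a25c804222118904a2613c40221209c0e0501, 0, 96, 0x0, []⟩]

theorem t9_492_31 : jobs 8 S9 b8_492 j9_492_31 = true := by decide +kernel

noncomputable def j9_492_32 : List Job := [
  ⟨31, 0x5108a46239309a4e27d00824221920924a25c40221209c0e0501, 0, 80, 0x0, []⟩]

theorem t9_492_32 : jobs 8 S9 b8_492 j9_492_32 = true := by decide +kernel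

noncomputable def j9_492_33 : List Job := [
  ⟨30, 0x601028241a110a8643a21128a45a311a8e47d108a46239309a4e27d00824221920924a25c40221209c0e0501, 0, 80, 0x0, []⟩]

theorem t9_492_33 : jobs 8 S9 b8_492 j9_492_33 = true := by decide +kernel

noncomputable def j9_492_34 : List Job := [
  ⟨29, 0x5108a46239309a4e27d00824221920924a25cc06232198d06a361bc804222118904a2613c40221209c0e0501, 0, 80, 0x0, []⟩]

theorem t9_492_34 : jobs 8 S9 b8_492 j9_492_34 = true := by decide +kernel

noncomputable def j9_492_35 : List Job := [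
  ⟨28, 0x601028241a110a8643a21128a45a311a8e47d108a46239309a4e27d00824221920924a25cc06232198d06a361bc804222118904a2613c40221209c0e0501, 0, 80, 0x0, []⟩]

theorem t9_492_35 : jobs 8 S9 b8_492 j9_492_35 = true := by decide +kernel

noncomputable def j9_492_36 : List Job := [
  ⟨27, 0x5108a46239309a4e27d00824221920924a25c40221209c0e0501, 0, 80, 0x0, []⟩]

theorem t9_492_36 : jobs 8 S9 b8_492 j9_492_36 = true := by decide +kernel

noncomputable def j9_492_37 : List Job := [
  ⟨26, 0x601028241a110a8643a21128a45a311a8e47d108a46239309a4e27d00824221920924a25c40221209c0e0501, 0, 80, 0x0, []⟩]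

theorem t9_492_37 : jobs 8 S9 b8_492 j9_492_37 = true := by decide +kernel

noncomputable def j9_492_38 : List Job := [
  ⟨25, 0x5108a46239309a4e27d00824221920924a25cc06232198d06a361bc804222118904a2613c40221209c0e0501, 0, 80, 0x0, []⟩]

theorem t9_492_38 : jobs 8 S9 b8_492 j9_492_38 = true := by decide +kernel

noncomputable def j9_492_39 : List Job := [
  ⟨24, 0x601028241a110a8643a21128a45a311a8e47d108a46239309a4e27d00824221920924a25cc06232198d06a361bc804222118904a2613c40221209c0e0501, 0, 80, 0x0, []⟩]

theorem t9_492_39 : jobs 8 S9 b8_492 j9_492_39 = true := by decide +kernel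

noncomputable def j9_492_40 : List Job := [
  ⟨23, 0x540a25229960b25a2dd108a46239309a4e27c804222118904a2613c40221209c0e0501, 0, 96, 0x0, []⟩]

theorem t9_492_40 : jobs 8 S9 b8_492 j9_492_40 = true := by decide +kernel

noncomputable def j9_492_41 : List Job := [
  ⟨22, 0x601028241a110a8643a21128a45a311a8e47d40a25229960b25a2dd108a46239309a4e27c804222118904a2613c40221209c0e0501, 0, 96, 0x0, []⟩]

theorem t9_492_41 : jobs 8 S9 b8_492 j9_492_41 = true := by decide +kernel

noncomputable def j9_492_42 : List Job := [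
  ⟨21, 0x550aa562b970ba5e2fd00824221920924a25c804222118904a2613c40221209c0e0501, 0, 96, 0x0, []⟩]

theorem t9_492_42 : jobs 8 S9 b8_492 j9_492_42 = true := by decide +kernel

noncomputable def j9_492_43 : List Job := [
  ⟨20, 0x601028241a110a8643a21128a45a311a8e47d50aa562b970ba5e2fd00824221920924a25c804222118904a2613c40221209c0e0501, 0, 96, 0x0, []⟩]

theorem t9_492_43 : jobs 8 S9 b8_492 j9_492_43 = true := by decide +kernel

noncomputable def j9_492_44 : List Job := [
  ⟨19, 0x540a25229960b25a2dd108a46239309a4e27c804222118904a2613c40221209c0e0501, 0, 96, 0x0, []⟩]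

theorem t9_492_44 : jobs 8 S9 b8_492 j9_492_44 = true := by decide +kernel

noncomputable def j9_492_45 : List Job := [
  ⟨18, 0x601028241a110a8643a21128a45a311a8e47d40a25229960b25a2dd108a46239309a4e27c804222118904a2613c40221209c0e0501, 0, 96, 0x0, []⟩]

theorem t9_492_45 : jobs 8 S9 b8_492 j9_492_45 = true := by decide +kernel

noncomputable def j9_492_46 : List Job := [
  ⟨17, 0x550aa562b970ba5e2fd00824221920924a25c804222118904a2613c40221209c0e0501, 0, 96, 0x0, []⟩]

theorem t9_492_46 : jobs 8 S9 b8_492 j9_492_46 = true := by decide +kernel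

noncomputable def j9_492_47 : List Job := [
  ⟨16, 0x601028241a110a8643a21128a45a311a8e47d50aa562b970ba5e2fd00824221920924a25c804222118904a2613c40221209c0e0501, 0, 96, 0x0, []⟩]

theorem t9_492_47 : jobs 8 S9 b8_492 j9_492_47 = true := by decide +kernel

noncomputable def j9_492_48 : List Job := [
  ⟨15, 0x540a25229960b25a2dd08864a25d00824824c804222118904a2613c40221209c0e0501, 0, 128, 0x0, []⟩]

theorem t9_492_48 : jobs 8 S9 b8_492 j9_492_48 = true := by decide +kernel

noncomputable def j9_492_49 : List Job := [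
  ⟨14, 0x601028241a110a8643a21128a45a311a8e47d40a25229960b25a2dd04864925d008448254804222118904a2613c40221209c0e0501, 0, 128, 0x0, []⟩]

theorem t9_492_49 : jobs 8 S9 b8_492 j9_492_49 = true := by decide +kernel

noncomputable def j9_492_50 : List Job := [
  ⟨13, 0x540a25229960b25a2dd08864a25d00824824c804222118904a2613c40221209c0e0501, 0, 128, 0x0, []⟩]

theorem t9_492_50 : jobs 8 S9 b8_492 j9_492_50 = true := by decide +kernel

noncomputable def j9_492_51 : List Job := [
  ⟨12, 0x601028241a110a8643a21128a45a311a8e47d40a25229960b25a2dd04864925d008448254804222118904a2613c40221209c0e0501, 0, 128, 0x0, []⟩]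

theorem t9_492_51 : jobs 8 S9 b8_492 j9_492_51 = true := by decide +kernel

noncomputable def j9_492_52 : List Job := [
  ⟨11, 0x550aa562b970ba5e2fd00824221920924a25c40221209c0e0501, 0, 80, 0x0, []⟩]

theorem t9_492_52 : jobs 8 S9 b8_492 j9_492_52 = true := by decide +kernel

noncomputable def j9_492_53 : List Job := [
  ⟨10, 0x601028241a110a8643a21128a45a311a8e47d50aa562b970ba5e2fd00824221920924a25c40221209c0e0501, 0, 80, 0x0, []⟩]

theorem t9_492_53 : jobs 8 S9 b8_492 j9_492_53 = true := by decide +kernel

noncomputable def j9_492_54 : List Job := [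
  ⟨9, 0x550aa562b970ba5e2fd00824221920924a25cc06232198d06a361bc804222118904a2613c40221209c0e0501, 0, 80, 0x0, []⟩]

theorem t9_492_54 : jobs 8 S9 b8_492 j9_492_54 = true := by decide +kernel

noncomputable def j9_492_55 : List Job := [
  ⟨8, 0x601028241a110a8643a21128a45a311a8e47d50aa562b970ba5e2fd00824221920924a25cc06232198d06a361bc804222118904a2613c40221209c0e0501, 0, 80, 0x0, []⟩]

theorem t9_492_55 : jobs 8 S9 b8_492 j9_492_55 = true := by decide +kernel

noncomputable def j9_492_56 : List Job := [
  ⟨7, 0x550aa562b970ba5e2fd00824221920924a25c40221209c0e0501, 0, 80, 0x0, []⟩]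

theorem t9_492_56 : jobs 8 S9 b8_492 j9_492_56 = true := by decide +kernel

noncomputable def j9_492_57 : List Job := [
  ⟨6, 0x601028241a110a8643a21128a45a311a8e47d50aa562b970ba5e2fd00824221920924a25c40221209c0e0501, 0, 80, 0x0, []⟩]

theorem t9_492_57 : jobs 8 S9 b8_492 j9_492_57 = true := by decide +kernel

noncomputable def j9_492_58 : List Job := [
  ⟨5, 0x550aa562b970ba5e2fd00824221920924a25cc06232198d06a361bc804222118904a2613c40221209c0e0501, 0, 80, 0x0, []⟩]

theorem t9_492_58 : jobs 8 S9 b8_492 j9_492_58 = true := by decide +kernel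

noncomputable def j9_492_59 : List Job := [
  ⟨4, 0x601028241a110a8643a21128a45a311a8e47d50aa562b970ba5e2fd00824221920924a25cc06232198d06a361bc804222118904a2613c40221209c0e0501, 0, 80, 0x0, []⟩]

theorem t9_492_59 : jobs 8 S9 b8_492 j9_492_59 = true := by decide +kernel

noncomputable def j9_492_60 : List Job := [
  ⟨3, 0x550aa562b970ba5e2fd108a46239309a4e27c44251009c0e0501, 0, 72, 0x4605008e04, []⟩]

theorem t9_492_60 : jobs 8 S9 b8_492 j9_492_60 = true := by decide +kernel

noncomputable def j9_492_61 : List Job := [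
  ⟨2, 0x601028241a110a8643a21128a45a311a8e47d50aa562b970ba5e2fd108a46239309a4e27c44251009c0e0501, 0, 72, 0x4604008e04, []⟩]

theorem t9_492_61 : jobs 8 S9 b8_492 j9_492_61 = true := by decide +kernel

noncomputable def j9_492_62 : List Job := [
  ⟨1, 0x550aa562b970ba5e2fd00824221920924a25c140f040340e0501, 0, 112, 0x0, []⟩]

theorem t9_492_62 : jobs 8 S9 b8_492 j9_492_62 = true := by decide +kernel

noncomputable def j9_492_63 : List Job := [
  ⟨0, 0x601028241a110a8643a21128a45a311a8e47d50aa562b970ba5e2fd00824221920924a25c140f040340e0501, 0, 112, 0x0, []⟩]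

theorem t9_492_63 : jobs 8 S9 b8_492 j9_492_63 = true := by decide +kernel

theorem d9_492 : Dn 8 S9 b8_492 := dn_of (Js := j9_492_0 ++ (j9_492_1 ++ (j9_492_2 ++ (j9_492_3 ++ (j9_492_4 ++ (j9_492_5 ++ (j9_492_6 ++ (j9_492_7 ++ (j9_492_8 ++ (j9_492_9 ++ (j9_492_10 ++ (j9_492_11 ++ (j9_492_12 ++ (j9_492_13 ++ (j9_492_14 ++ (j9_492_15 ++ (j9_492_16 ++ (j9_492_17 ++ (j9_492_18 ++ (j9_492_19 ++ (j9_492_20 ++ (j9_492_21 ++ (j9_492_22 ++ (j9_492_23 ++ (j9_492_24 ++ (j9_492_25 ++ (j9_492_26 ++ (j9_492_27 ++ (j9_492_28 ++ (j9_492_29 ++ (j9_492_30 ++ (j9_492_31 ++ (j9_492_32 ++ (j9_492_33 ++ (j9_492_34 ++ (j9_492_35 ++ (j9_492_36 ++ (j9_492_37 ++ (j9_492_38 ++ (j9_492_39 ++ (j9_492_40 ++ (j9_492_41 ++ (j9_492_42 ++ (j9_492_43 ++ (j9_492_44 ++ (j9_492_45 ++ (j9_492_46 ++ (j9_492_47 ++ (j9_492_48 ++ (j9_492_49 ++ (j9_492_50 ++ (j9_492_51 ++ (j9_492_52 ++ (j9_492_53 ++ (j9_492_54 ++ (j9_492_55 ++ (j9_492_56 ++ (j9_492_57 ++ (j9_492_58 ++ (j9_492_59 ++ (j9_492_60 ++ (j9_492_61 ++ (j9_492_62 ++ (j9_492_63 ++ []))))))))))))))))))))))))))))))))))))))))))))))))))))))))))))))))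
  (jobs_append t9_492_0 <| jobs_append t9_492_1 <| jobs_append t9_492_2 <| jobs_append t9_492_3 <| jobs_append t9_492_4 <| jobs_append t9_492_5 <| jobs_append t9_492_6 <| jobs_append t9_492_7 <| jobs_append t9_492_8 <| jobs_append t9_492_9 <| jobs_append t9_492_10 <| jobs_append t9_492_11 <| jobs_append t9_492_12 <| jobs_append t9_492_13 <| jobs_append t9_492_14 <| jobs_append t9_492_15 <| jobs_append t9_492_16 <| jobs_append t9_492_17 <| jobs_append t9_492_18 <| jobs_append t9_492_19 <| jobs_append t9_492_20 <| jobs_append t9_492_21 <| jobs_append t9_492_22 <| jobs_append t9_492_23 <| jobs_append t9_492_24 <| jobs_append t9_492_25 <| jobs_append t9_492_26 <| jobs_append t9_492_27 <| jobs_append t9_492_28 <| jobs_append t9_492_29 <| jobs_append t9_492_30 <| jobs_append t9_492_31 <| jobs_append t9_492_32 <| jobs_append t9_492_33 <| jobs_append t9_492_34 <| jobs_append t9_492_35 <| jobs_append t9_492_36 <| jobs_append t9_492_37 <| jobs_append t9_492_38 <| jobs_append t9_492_39 <| jobs_append t9_492_40 <| jobs_append t9_492_41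 <| jobs_append t9_492_42 <| jobs_append t9_492_43 <| jobs_append t9_492_44 <| jobs_append t9_492_45 <| jobs_append t9_492_46 <| jobs_append t9_492_47 <| jobs_append t9_492_48 <| jobs_append t9_492_49 <| jobs_append t9_492_50 <| jobs_append t9_492_51 <| jobs_append t9_492_52 <| jobs_append t9_492_53 <| jobs_append t9_492_54 <| jobs_append t9_492_55 <| jobs_append t9_492_56 <| jobs_append t9_492_57 <| jobs_append t9_492_58 <| jobs_append t9_492_59 <| jobs_append t9_492_60 <| jobs_append t9_492_61 <| jobs_append t9_492_62 <| jobs_append t9_492_63 <| List.forall_mem_nil _) (by decide +kernel)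

noncomputable def j9_493_0 : List Job := [
  ⟨63, 0x5108a46239309a4e27cc06232198d06a361bc88462613c80422412c44251009c0e0501, 0, 96, 0xa06004a0500860200a604, []⟩]

theorem t9_493_0 : jobs 8 S9 b8_493 j9_493_0 = true := by decide +kernel

noncomputable def j9_493_1 : List Job := [
  ⟨62, 0x590ca66339a0d26a35d80c262319b0da6e37d00824221920924a25cc06232198d06a361bc84442513480462413c4427100940e0501, 0, 96, 0xa04004a03, []⟩]

theorem t9_493_1 : jobs 8 S9 b8_493 j9_493_1 = true := by decide +kernel

noncomputable def j9_493_2 : List Job := [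
  ⟨61, 0x590ca66339a0d26a35d80c262319b0da6e37d00824221920924a25cc06232198d06a361bc88462613c80422412c44251009c0e0501, 0, 96, 0xa04004a0400860500a606, []⟩]

theorem t9_493_2 : jobs 8 S9 b8_493 j9_493_2 = true := by decide +kernel

noncomputable def j9_493_3 : List Job := [
  ⟨60, 0x590ca66339a0d26a35d00824221920924a25c180f0402c0e0501, 0, 96, 0x0, []⟩]

theorem t9_493_3 : jobs 8 S9 b8_493 j9_493_3 = true := by decide +kernel

noncomputable def j9_493_4 : List Job := [
  ⟨59, 0x590ca66339a0d26a35d00824221920924a25c180f0402c0e0501, 0, 96, 0x0, []⟩]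

theorem t9_493_4 : jobs 8 S9 b8_493 j9_493_4 = true := by decide +kernel

noncomputable def j9_493_5 : List Job := [
  ⟨58, 0x580c262319b0da6e37d00824221920924a25cc06232198d06a361bc88462613c80422412c180f0402c0e0501, 0, 120, 0x204000405000e0400100500a20400a805, []⟩]

theorem t9_493_5 : jobs 8 S9 b8_493 j9_493_5 = true := by decide +kernel

noncomputable def j9_493_6 : List Job := [
  ⟨57, 0x580c262319b0da6e37d00824221920924a25cc06232198d06a361bc88462613c80422412c180f0402c0e0501, 0, 104, 0x206000407001006001207, []⟩]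

theorem t9_493_6 : jobs 8 S9 b8_493 j9_493_6 = true := by decide +kernel

noncomputable def j9_493_7 : List Job := [
  ⟨56, 0x590ca66339a0d26a35d00824221920924a25c180f0402c0e0501, 0, 128, 0x0, []⟩]

theorem t9_493_7 : jobs 8 S9 b8_493 j9_493_7 = true := by decide +kernel

noncomputable def j9_493_8 : List Job := [
  ⟨55, 0x580c262319b0da6e37d00824221920924a25cc06232198d06a361bc88462613c80422412c180f0402c0e0501, 0, 128, 0x206000407001206001407, []⟩]

theorem t9_493_8 : jobs 8 S9 b8_493 j9_493_8 = true := by decide +kernel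

noncomputable def j9_493_9 : List Job := [
  ⟨54, 0x590ca66339a0d26a35d00824221920924a25cc06232198d06a361bc180f0402c0e0501, 0, 96, 0x0, []⟩]

theorem t9_493_9 : jobs 8 S9 b8_493 j9_493_9 = true := by decide +kernel

noncomputable def j9_493_10 : List Job := [
  ⟨53, 0x590ca66339a0d26a35d00824221920924a25cc06232198d06a361bc180f0402c0e0501, 0, 96, 0x0, []⟩]

theorem t9_493_10 : jobs 8 S9 b8_493 j9_493_10 = true := by decide +kernel

noncomputable def j9_493_11 : List Job := [
  ⟨52, 0x580c262319b0da6e37d00824221920924a25c88462613c80422412c180f0402c0e0501, 0, 96, 0x0, []⟩]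

theorem t9_493_11 : jobs 8 S9 b8_493 j9_493_11 = true := by decide +kernel

noncomputable def j9_493_12 : List Job := [
  ⟨51, 0x580c262319b0da6e37d00824221920924a25c88462613c80422412c180f0402c0e0501, 0, 96, 0x0, []⟩]

theorem t9_493_12 : jobs 8 S9 b8_493 j9_493_12 = true := by decide +kernel

noncomputable def j9_493_13 : List Job := [
  ⟨50, 0x590ca66339a0d26a35d00824221920924a25cc06232198d06a361bc180f0402c0e0501, 0, 128, 0x0, []⟩]

theorem t9_493_13 : jobs 8 S9 b8_493 j9_493_13 = true := by decide +kernel

noncomputable def j9_493_14 : List Job := [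
  ⟨49, 0x580c262319b0da6e37d00824221920924a25c88462613c80422412c180f0402c0e0501, 0, 128, 0x0, []⟩]

theorem t9_493_14 : jobs 8 S9 b8_493 j9_493_14 = true := by decide +kernel

noncomputable def j9_493_15 : List Job := [
  ⟨48, 0x590ca66339a0d26a35d00824221920924a25cc06232198d06a361bc502a160bc40221209c180f0402c0e0501, 0, 128, 0x0, []⟩]

theorem t9_493_15 : jobs 8 S9 b8_493 j9_493_15 = true := by decide +kernel

noncomputable def j9_493_16 : List Job := [
  ⟨47, 0x580c262319b0da6e37d00824221920924a25c88462613c80422412c502a160bc40221209c180f0402c0e0501, 0, 128, 0x204000405001204001405, []⟩]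

theorem t9_493_16 : jobs 8 S9 b8_493 j9_493_16 = true := by decide +kernel

noncomputable def j9_493_17 : List Job := [
  ⟨46, 0x590ca66339a0d26a35d00824221920924a25cc06232198d06a361bc502a160bc40221209c180f0402c0e0501, 0, 96, 0x0, []⟩]

theorem t9_493_17 : jobs 8 S9 b8_493 j9_493_17 = true := by decide +kernel

noncomputable def j9_493_18 : List Job := [
  ⟨45, 0x590ca66339a0d26a35d00824221920924a25cc06232198d06a361bc502a160bc40221209c180f0402c0e0501, 0, 168, 0xc20400c40100c60100c80500ca0500cc0100ce0100d00500d20400d40400d60400d80500da0400dc0500de0400e00400e20100e40500e60400e80100ea0100ec0400ee0400f00100f20100f40400f60400f80100fa0100fc0400fe04010001010204010a05011204011404012204012405012605012804012e04013604, []⟩]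

theorem t9_493_18 : jobs 8 S9 b8_493 j9_493_18 = true := by decide +kernel

noncomputable def j9_493_19 : List Job := [
  ⟨44, 0x580c262319b0da6e37d00824221920924a25c84442513480462413c502a160bc40221209c140d0403c0e0501, 0, 96, 0x202000403008202, []⟩]

theorem t9_493_19 : jobs 8 S9 b8_493 j9_493_19 = true := by decide +kernel

noncomputable def j9_493_20 : List Job := [
  ⟨43, 0x580c262319b0da6e37d00824221920924a25c88462613c80422412c502a160bc40221209c180f0402c0e0501, 0, 168, 0x20400040500120500c20500c40400c60400c80400ca0100cc0100ce0100d00100d20100d40100d60100d80100da0400dc0500de0400e00500e20500e40400e60400e80500ea0400ec0500ee0400f00500f20500f40400f60400f80400fa0100fc0100fe01010001010404010604010805010c04011e04012204012605012a04012e04013204013605, []⟩]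

theorem t9_493_20 : jobs 8 S9 b8_493 j9_493_20 = true := by decide +kernel

noncomputable def j9_493_21 : List Job := [
  ⟨42, 0x590ca66339a0d26a35d00824221920924a25c502a160bc40221209c180f0402c0e0501, 0, 128, 0x0, []⟩]

theorem t9_493_21 : jobs 8 S9 b8_493 j9_493_21 = true := by decide +kernel

noncomputable def j9_493_22 : List Job := [
  ⟨41, 0x580c262319b0da6e37d00824221920924a25cc06232198d06a361bc88462613c80422412c502a160bc40221209c180f0402c0e0501, 0, 128, 0x0, []⟩]

theorem t9_493_22 : jobs 8 S9 b8_493 j9_493_22 = true := by decide +kernel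

noncomputable def j9_493_23 : List Job := [
  ⟨40, 0x590ca66339a0d26a35d00824221920924a25c542f140b444251009c180f0402c0e0501, 0, 96, 0x0, []⟩]

theorem t9_493_23 : jobs 8 S9 b8_493 j9_493_23 = true := by decide +kernel

noncomputable def j9_493_24 : List Job := [
  ⟨39, 0x590ca66339a0d26a35d00824221920924a25c542d140bc442710094180f0402c0e0501, 0, 168, 0xc20500c40500c60400c80500ca0500cc0400ce0500d00500d20400d40500d60400d80400da0400dc0400de0400e00400e20400e40400e60400e80400ea0400ec0500ee0500f00400f20400f40100f60400f80100fa0400fc0100fe04010001010205010401010604010805010a01010c01010e01011001011201011401011601011801011a04011c01011e01012001012201012401012601012801012a04012c01012e01013001013204013401013601013801, []⟩]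

theorem t9_493_24 : jobs 8 S9 b8_493 j9_493_24 = true := by decide +kernel

noncomputable def j9_493_25 : List Job := [
  ⟨38, 0x580c262319b0da6e37d00824221920924a25cc06232198d06a361bc84442513480462413c542f140b448271008c140d0403c0e0501, 0, 120, 0x0, []⟩]

theorem t9_493_25 : jobs 8 S9 b8_493 j9_493_25 = true := by decide +kernel

noncomputable def j9_493_26 : List Job := [
  ⟨37, 0x580c262319b0da6e37d00824221920924a25cc06232198d06a361bc88462613c80422412c542d140bc442710094180f0402c0e0501, 0, 184, 0x200000401000600000801000a04000c00001204001a05001e00002204002401002600002a05002c01002e01003001003204003604003a00003e04004001004204004401004a04004e04012201012405012604012801012a01012c01013e04014401014601014c01015001015201015804, [(28, ⟨2016, 0x440004a0004e0004800040000500004000040080001, 0x18a2409824080280802⟩), (18, ⟨2018, 0x488016d002480004000068010400004004040080001, 0x19137890200d0200802⟩), (14, ⟨2017, 0x440004a0004e0004800040000500004000040080001, 0x18a2409824080280802⟩), (5, ⟨2020, 0x440004a0004e0004800040000500004000040080001,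 0x18a2409824080280802⟩), (2, ⟨2019, 0x440004a0004e0004800040000500004000040080001, 0x18a2409824080280802⟩), (0, ⟨2015, 0x440004a0004e0004800040000500004000040080001, 0x18a2409824080280802⟩)]⟩]

theorem t9_493_26 : jobs 8 S9 b8_493 j9_493_26 = true := by decide +kernel

noncomputable def j9_493_27 : List Job := [
  ⟨36, 0x601028241a110a8643a21128a45a311a8e47d90ca66339a0d26a35d80c262319b0da6e37d108a46239309a4e27cc06232198d06a361bc40221209c0e0501, 0, 128, 0x0, []⟩]

theorem t9_493_27 : jobs 8 S9 b8_493 j9_493_27 = true := by decide +kernel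

noncomputable def j9_493_28 : List Job := [
  ⟨35, 0x601028241a110a8643a21128a45a311a8e47d00824221920924a25cc06232198d06a361bc40221209c0e0501, 0, 128, 0x0, []⟩]

theorem t9_493_28 : jobs 8 S9 b8_493 j9_493_28 = true := by decide +kernel

noncomputable def j9_493_29 : List Job := [
  ⟨34, 0x601028241a110a8643a21128a45a311a8e47d108a46239309a4e27c84462513c80442413440221209c0e0501, 0, 128, 0x0, []⟩]

theorem t9_493_29 : jobs 8 S9 b8_493 j9_493_29 = true := by decide +kernel

noncomputable def j9_493_30 : List Job := [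
  ⟨33, 0x601028241a110a8643a21128a45a311a8e47d90ca66339a0d26a35d80c262319b0da6e37d00824221920924a25c88462613c80422412c40221209c0e0501, 0, 128, 0x0, []⟩]

theorem t9_493_30 : jobs 8 S9 b8_493 j9_493_30 = true := by decide +kernel

noncomputable def j9_493_31 : List Job := [
  ⟨32, 0x590ca66339a0d26a35d80c262319b0da6e37d108a46239309a4e27cc06232198d06a361bc40221209c0e0501, 0, 96, 0x0, []⟩]

theorem t9_493_31 : jobs 8 S9 b8_493 j9_493_31 = true := by decide +kernel

noncomputable def j9_493_32 : List Job := [
  ⟨31, 0x641229249a512a964ba61329a4da713a9e4fe01028241a110a8643a21128a45a311a8e47d90ca66339a0d26a35d80c262319b0da6e37d108a46239309a4e27cc06232198d06a361bc40221209c0e0501, 0, 96, 0x0, []⟩]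

theorem t9_493_32 : jobs 8 S9 b8_493 j9_493_32 = true := by decide +kernel

noncomputable def j9_493_33 : List Job := [
  ⟨30, 0x500824221920924a25cc06232198d06a361bc40221209c0e0501, 0, 96, 0x0, []⟩]

theorem t9_493_33 : jobs 8 S9 b8_493 j9_493_33 = true := by decide +kernel

noncomputable def j9_493_34 : List Job := [
  ⟨29, 0x641229249a512a964ba61329a4da713a9e4fe01028241a110a8643a21128a45a311a8e47d00824221920924a25cc06232198d06a361bc40221209c0e0501, 0, 96, 0x0, []⟩]

theorem t9_493_34 : jobs 8 S9 b8_493 j9_493_34 = true := by decide +kernel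

noncomputable def j9_493_35 : List Job := [
  ⟨28, 0x5108a46239309a4e27c84462513c80442413440221209c0e0501, 0, 96, 0x0, []⟩]

theorem t9_493_35 : jobs 8 S9 b8_493 j9_493_35 = true := by decide +kernel

noncomputable def j9_493_36 : List Job := [
  ⟨27, 0x641229249a512a964ba61329a4da713a9e4fe01028241a110a8643a21128a45a311a8e47d108a46239309a4e27c84462513c80442413440221209c0e0501, 0, 96, 0x0, []⟩]

theorem t9_493_36 : jobs 8 S9 b8_493 j9_493_36 = true := by decide +kernel

noncomputable def j9_493_37 : List Job := [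
  ⟨26, 0x590ca66339a0d26a35d80c262319b0da6e37d00824221920924a25c84462513c80442413440221209c0e0501, 0, 96, 0x0, []⟩]

theorem t9_493_37 : jobs 8 S9 b8_493 j9_493_37 = true := by decide +kernel

noncomputable def j9_493_38 : List Job := [
  ⟨25, 0x641229249a512a964ba61329a4da713a9e4fe01028241a110a8643a21128a45a311a8e47d90ca66339a0d26a35d80c262319b0da6e37d00824221920924a25c88462613c80422412c40221209c0e0501, 0, 96, 0x0, []⟩]

theorem t9_493_38 : jobs 8 S9 b8_493 j9_493_38 = true := by decide +kernel

noncomputable def j9_493_39 : List Job := [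
  ⟨24, 0x601028241a110a8643a21128a45a311a8e47d90ca66339a0d26a35d80c262319b0da6e37d108a46239309a4e27cc06232198d06a361bc40221209c0e0501, 0, 128, 0x0, []⟩]

theorem t9_493_39 : jobs 8 S9 b8_493 j9_493_39 = true := by decide +kernel

noncomputable def j9_493_40 : List Job := [
  ⟨23, 0x601028241a110a8643a21128a45a311a8e47d08864a25d00824824cc06232198d06a361bc40221209c0e0501, 0, 128, 0x0, []⟩]

theorem t9_493_40 : jobs 8 S9 b8_493 j9_493_40 = true := by decide +kernel

noncomputable def j9_493_41 : List Job := [
  ⟨22, 0x601028241a110a8643a21128a45a311a8e47d108a46239309a4e27c84462513c80442413440221209c0e0501, 0, 128, 0x0, []⟩]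

theorem t9_493_41 : jobs 8 S9 b8_493 j9_493_41 = true := by decide +kernel

noncomputable def j9_493_42 : List Job := [
  ⟨21, 0x601028241a110a8643a21128a45a311a8e47d90ca66339a0d26a35d80c262319b0da6e37d04864925d00844825488462613c80422412c40221209c0e0501, 0, 128, 0xe06001007001e06002007008e06009007009e0600a007, []⟩]

theorem t9_493_42 : jobs 8 S9 b8_493 j9_493_42 = true := by decide +kernel

noncomputable def j9_493_43 : List Job := [
  ⟨20, 0x590ca66339a0d26a35d80c262319b0da6e37d108a46239309a4e27cc06232198d06a361bc40221209c0e0501, 0, 96, 0x0, []⟩]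

theorem t9_493_43 : jobs 8 S9 b8_493 j9_493_43 = true := by decide +kernel

noncomputable def j9_493_44 : List Job := [
  ⟨19, 0x508864a25d00824824cc06232198d06a361bc40221209c0e0501, 0, 96, 0x0, []⟩]

theorem t9_493_44 : jobs 8 S9 b8_493 j9_493_44 = true := by decide +kernel

noncomputable def j9_493_45 : List Job := [
  ⟨18, 0x5108a46239309a4e27c84462513c80442413440221209c0e0501, 0, 96, 0x0, []⟩]

theorem t9_493_45 : jobs 8 S9 b8_493 j9_493_45 = true := by decide +kernel

noncomputable def j9_493_46 : List Job := [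
  ⟨17, 0x641229249a512a964ba61329a4da713a9e4fe01028241a110a8643a21128a45a311a8e47d108a46239309a4e27c84462513c80442413440221209c0e0501, 0, 96, 0x0, []⟩]

theorem t9_493_46 : jobs 8 S9 b8_493 j9_493_46 = true := by decide +kernel

noncomputable def j9_493_47 : List Job := [
  ⟨16, 0x590ca66339a0d26a35d80c262319b0da6e37d08864a25d00824824c84462513c80442413440221209c0e0501, 0, 96, 0xe06001007001e06002007008806009007, []⟩]

theorem t9_493_47 : jobs 8 S9 b8_493 j9_493_47 = true := by decide +kernel

noncomputable def j9_493_48 : List Job := [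
  ⟨15, 0x601028241a110a8643a21128a45a311a8e47d90ca66339a0d26a35d80c262319b0da6e37d108a46239309a4e27c40221209c0e0501, 0, 128, 0x0, []⟩]

theorem t9_493_48 : jobs 8 S9 b8_493 j9_493_48 = true := by decide +kernel

noncomputable def j9_493_49 : List Job := [
  ⟨14, 0x601028241a110a8643a21128a45a311a8e47d00824221920924a25c40221209c0e0501, 0, 128, 0x0, []⟩]

theorem t9_493_49 : jobs 8 S9 b8_493 j9_493_49 = true := by decide +kernel

noncomputable def j9_493_50 : List Job := [
  ⟨13, 0x601028241a110a8643a21128a45a311a8e47d108a46239309a4e27cc06232198d06a361bc84462513c80442413440221209c0e0501, 0, 128, 0x0, []⟩]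

theorem t9_493_50 : jobs 8 S9 b8_493 j9_493_50 = true := by decide +kernel

noncomputable def j9_493_51 : List Job := [
  ⟨12, 0x601028241a110a8643a21128a45a311a8e47d90ca66339a0d26a35d80c262319b0da6e37d00824221920924a25cc06232198d06a361bc88462613c80422412c40221209c0e0501, 0, 128, 0x0, []⟩]

theorem t9_493_51 : jobs 8 S9 b8_493 j9_493_51 = true := by decide +kernel

noncomputable def j9_493_52 : List Job := [
  ⟨11, 0x590ca66339a0d26a35d80c262319b0da6e37d108a46239309a4e27c44251009c0e0501, 0, 96, 0x2a06006a0500960600b606, []⟩]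

theorem t9_493_52 : jobs 8 S9 b8_493 j9_493_52 = true := by decide +kernel

noncomputable def j9_493_53 : List Job := [
  ⟨10, 0x641229249a512a964ba61329a4da713a9e4fe01028241a110a8643a21128a45a311a8e47d90ca66339a0d26a35d80c262319b0da6e37d108a46239309a4e27c44251009c0e0501, 0, 96, 0x2a06006a05, []⟩]

theorem t9_493_53 : jobs 8 S9 b8_493 j9_493_53 = true := by decide +kernel

noncomputable def j9_493_54 : List Job := [
  ⟨9, 0x500824221920924a25c44251009c0e0501, 0, 96, 0x2a05006a0500960400b604, []⟩]

theorem t9_493_54 : jobs 8 S9 b8_493 j9_493_54 = true := by decide +kernel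

noncomputable def j9_493_55 : List Job := [
  ⟨8, 0x641229249a512a964ba61329a4da713a9e4fe01028241a110a8643a21128a45a311a8e47d00824221920924a25c44251009c0e0501, 0, 96, 0x2a04006a06, []⟩]

theorem t9_493_55 : jobs 8 S9 b8_493 j9_493_55 = true := by decide +kernel

noncomputable def j9_493_56 : List Job := [
  ⟨7, 0x5108a46239309a4e27cc06232198d06a361bc84462513c80442413444251009c0e0501, 0, 96, 0xa03004a0400860400a604, []⟩]

theorem t9_493_56 : jobs 8 S9 b8_493 j9_493_56 = true := by decide +kernel

noncomputable def j9_493_57 : List Job := [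
  ⟨6, 0x641229249a512a964ba61329a4da713a9e4fe01028241a110a8643a21128a45a311a8e47d108a46239309a4e27cc06232198d06a361bc84462513c80442413444251009c0e0501, 0, 96, 0xa04004a06, []⟩]

theorem t9_493_57 : jobs 8 S9 b8_493 j9_493_57 = true := by decide +kernel

noncomputable def j9_493_58 : List Job := [
  ⟨5, 0x590ca66339a0d26a35d80c262319b0da6e37d00824221920924a25cc06232198d06a361bc84462513c80442413444251009c0e0501, 0, 96, 0xa04004a0400860500a605, []⟩]

theorem t9_493_58 : jobs 8 S9 b8_493 j9_493_58 = true := by decide +kernel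

noncomputable def j9_493_59 : List Job := [
  ⟨4, 0x641229249a512a964ba61329a4da713a9e4fe01028241a110a8643a21128a45a311a8e47d90ca66339a0d26a35d80c262319b0da6e37d00824221920924a25cc06232198d06a361bc88462613c80422412c44251009c0e0501, 0, 96, 0xa02004a04, []⟩]

theorem t9_493_59 : jobs 8 S9 b8_493 j9_493_59 = true := by decide +kernel

noncomputable def j9_493_60 : List Job := [
  ⟨3, 0x590ca66339a0d26a35d00824221920924a25c140f040340e0501, 0, 96, 0x0, []⟩]

theorem t9_493_60 : jobs 8 S9 b8_493 j9_493_60 = true := by decide +kernel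

noncomputable def j9_493_61 : List Job := [
  ⟨2, 0x641229249a512a964ba61329a4da713a9e4fe01028241a110a8643a21128a45a311a8e47d90ca66339a0d26a35d00824221920924a25c140f040340e0501, 0, 96, 0x0, []⟩]

theorem t9_493_61 : jobs 8 S9 b8_493 j9_493_61 = true := by decide +kernel

noncomputable def j9_493_62 : List Job := [
  ⟨1, 0x580c262319b0da6e37d00824221920924a25cc06232198d06a361bc84462513c804424134140f040340e0501, 0, 104, 0x206000407001006001207, []⟩]

theorem t9_493_62 : jobs 8 S9 b8_493 j9_493_62 = true := by decide +kernel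

noncomputable def j9_493_63 : List Job := [
  ⟨0, 0x641229249a512a964ba61329a4da713a9e4fe01028241a110a8643a21128a45a311a8e47d80c262319b0da6e37d00824221920924a25cc06232198d06a361bc84462513c804424134140f040340e0501, 0, 120, 0x206000407000e0600100700a20600a807, []⟩]

theorem t9_493_63 : jobs 8 S9 b8_493 j9_493_63 = true := by decide +kernel

theorem d9_493 : Dn 8 S9 b8_493 := dn_of (Js := j9_493_0 ++ (j9_493_1 ++ (j9_493_2 ++ (j9_493_3 ++ (j9_493_4 ++ (j9_493_5 ++ (j9_493_6 ++ (j9_493_7 ++ (j9_493_8 ++ (j9_493_9 ++ (j9_493_10 ++ (j9_493_11 ++ (j9_493_12 ++ (j9_493_13 ++ (j9_493_14 ++ (j9_493_15 ++ (j9_493_16 ++ (j9_493_17 ++ (j9_493_18 ++ (j9_493_19 ++ (j9_493_20 ++ (j9_493_21 ++ (j9_493_22 ++ (j9_493_23 ++ (j9_493_24 ++ (j9_493_25 ++ (j9_493_26 ++ (j9_493_27 ++ (j9_493_28 ++ (j9_493_29 ++ (j9_493_30 ++ (j9_493_31 ++ (j9_493_32 ++ (j9_493_33 ++ (j9_493_34 ++ (j9_493_35 ++ (j9_493_36 ++ (j9_493_37 ++ (j9_493_38 ++ (j9_493_39 ++ (j9_493_40 ++ (j9_493_41 ++ (j9_493_42 ++ (j9_493_43 ++ (j9_493_44 ++ (j9_493_45 ++ (j9_493_46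 ++ (j9_493_47 ++ (j9_493_48 ++ (j9_493_49 ++ (j9_493_50 ++ (j9_493_51 ++ (j9_493_52 ++ (j9_493_53 ++ (j9_493_54 ++ (j9_493_55 ++ (j9_493_56 ++ (j9_493_57 ++ (j9_493_58 ++ (j9_493_59 ++ (j9_493_60 ++ (j9_493_61 ++ (j9_493_62 ++ (j9_493_63 ++ []))))))))))))))))))))))))))))))))))))))))))))))))))))))))))))))))
  (jobs_append t9_493_0 <| jobs_append t9_493_1 <| jobs_append t9_493_2 <| jobs_append t9_493_3 <| jobs_append t9_493_4 <| jobs_append t9_493_5 <| jobs_append t9_493_6 <| jobs_append t9_493_7 <| jobs_append t9_493_8 <| jobs_append t9_493_9 <| jobs_append t9_493_10 <| jobs_append t9_493_11 <| jobs_append t9_493_12 <| jobs_append t9_493_13 <| jobs_append t9_493_14 <| jobs_append t9_493_15 <| jobs_append t9_493_16 <| jobs_append t9_493_17 <| jobs_append t9_493_18 <| jobs_append t9_493_19 <| jobs_append t9_493_20 <| jobs_append t9_493_21 <| jobs_append t9_493_22 <| jobs_append t9_493_23 <| jobs_append t9_493_24 <| jobs_append t9_493_25 <| jobs_append t9_493_26 <| jobs_append t9_493_27 <| jobs_append t9_493_28 <| jobs_append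 t9_493_29 <| jobs_append t9_493_30 <| jobs_append t9_493_31 <| jobs_append t9_493_32 <| jobs_append t9_493_33 <| jobs_append t9_493_34 <| jobs_append t9_493_35 <| jobs_append t9_493_36 <| jobs_append t9_493_37 <| jobs_append t9_493_38 <| jobs_append t9_493_39 <| jobs_append t9_493_40 <| jobs_append t9_493_41 <| jobs_append t9_493_42 <| jobs_append t9_493_43 <| jobs_append t9_493_44 <| jobs_append t9_493_45 <| jobs_append t9_493_46 <| jobs_append t9_493_47 <| jobs_append t9_493_48 <| jobs_append t9_493_49 <| jobs_append t9_493_50 <| jobs_append t9_493_51 <| jobs_append t9_493_52 <| jobs_append t9_493_53 <| jobs_append t9_493_54 <| jobs_append t9_493_55 <| jobs_append t9_493_56 <| jobs_append t9_493_57 <| jobs_append t9_493_58 <| jobs_append t9_493_59 <| jobs_append t9_493_60 <| jobs_append t9_493_61 <| jobs_append t9_493_62 <| jobs_append t9_493_63 <| List.forall_mem_nil _) (by decide +kernel)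

noncomputable def j9_494_0 : List Job := [
  ⟨63, 0x500824221920924a25c40221209c0e0501, 0, 128, 0x0, []⟩]

theorem t9_494_0 : jobs 8 S9 b8_494 j9_494_0 = true := by decide +kernel

noncomputable def j9_494_1 : List Job := [
  ⟨62, 0x601028241a110a8643a21128a45a311a8e47d00824221920924a25c40221209c0e0501, 0, 128, 0x0, []⟩]

theorem t9_494_1 : jobs 8 S9 b8_494 j9_494_1 = true := by decide +kernel

noncomputable def j9_494_2 : List Job := [
  ⟨61, 0x5108a46239309a4e27cc06232198d06a361bc84462513c80442413440221209c0e0501, 0, 128, 0x0, []⟩]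

theorem t9_494_2 : jobs 8 S9 b8_494 j9_494_2 = true := by decide +kernel

noncomputable def j9_494_3 : List Job := [
  ⟨60, 0x601028241a110a8643a21128a45a311a8e47d108a46239309a4e27cc06232198d06a361bc84462513c80442413440221209c0e0501, 0, 128, 0x0, []⟩]

theorem t9_494_3 : jobs 8 S9 b8_494 j9_494_3 = true := by decide +kernel

noncomputable def j9_494_4 : List Job := [
  ⟨59, 0x590ca66339a0d26a35d80c262319b0da6e37d00824221920924a25cc06232198d06a361bc84462513c80442413440221209c0e0501, 0, 128, 0x0, []⟩]

theorem t9_494_4 : jobs 8 S9 b8_494 j9_494_4 = true := by decide +kernel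

noncomputable def j9_494_5 : List Job := [
  ⟨58, 0x601028241a110a8643a21128a45a311a8e47d90ca66339a0d26a35d80c262319b0da6e37d00824221920924a25cc06232198d06a361bc88462613c80422412c40221209c0e0501, 0, 128, 0x0, []⟩]

theorem t9_494_5 : jobs 8 S9 b8_494 j9_494_5 = true := by decide +kernel

noncomputable def j9_494_6 : List Job := [
  ⟨57, 0x590ca66339a0d26a35d00824221920924a25c140f040340e0501, 0, 128, 0x0, []⟩]

theorem t9_494_6 : jobs 8 S9 b8_494 j9_494_6 = true := by decide +kernel

noncomputable def j9_494_7 : List Job := [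
  ⟨56, 0x601028241a110a8643a21128a45a311a8e47d90ca66339a0d26a35d00824221920924a25c140f040340e0501, 0, 128, 0x0, []⟩]

theorem t9_494_7 : jobs 8 S9 b8_494 j9_494_7 = true := by decide +kernel

noncomputable def j9_494_8 : List Job := [
  ⟨55, 0x580c262319b0da6e37d00824221920924a25cc06232198d06a361bc84462513c804424134140f040340e0501, 0, 128, 0x206000407001206001407, []⟩]

theorem t9_494_8 : jobs 8 S9 b8_494 j9_494_8 = true := by decide +kernel

noncomputable def j9_494_9 : List Job := [
  ⟨54, 0x601028241a110a8643a21128a45a311a8e47d80c262319b0da6e37d00824221920924a25cc06232198d06a361bc84462513c804424134140f040340e0501, 0, 128, 0x206000407008206008407, []⟩]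

theorem t9_494_9 : jobs 8 S9 b8_494 j9_494_9 = true := by decide +kernel

noncomputable def j9_494_10 : List Job := [
  ⟨53, 0x590ca66339a0d26a35d00824221920924a25c140f040340e0501, 0, 128, 0x0, []⟩]

theorem t9_494_10 : jobs 8 S9 b8_494 j9_494_10 = true := by decide +kernel

noncomputable def j9_494_11 : List Job := [
  ⟨52, 0x609068643a29168c46e01028442a21128e47d90ca66339a0d26a35d00824221920924a25c140f040340e0501, 0, 128, 0x0, []⟩]

theorem t9_494_11 : jobs 8 S9 b8_494 j9_494_11 = true := by decide +kernel

noncomputable def j9_494_12 : List Job := [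
  ⟨51, 0x580c262319b0da6e37d00824221920924a25cc06232198d06a361bc84462513c804424134140f040340e0501, 0, 128, 0x206000407001206001407, []⟩]

theorem t9_494_12 : jobs 8 S9 b8_494 j9_494_12 = true := by decide +kernel

noncomputable def j9_494_13 : List Job := [
  ⟨50, 0x609068643a29168c46e01028442a21128e47d80c262319b0da6e37d00824221920924a25cc06232198d06a361bc84462513c804424134140f040340e0501, 0, 160, 0x206000407000e0600100700a20600a40700ae0600b007, []⟩]

theorem t9_494_13 : jobs 8 S9 b8_494 j9_494_13 = true := by decide +kernel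

noncomputable def j9_494_14 : List Job := [
  ⟨49, 0x590ca66339a0d26a35d00824221920924a25cc06232198d06a361bc140f040340e0501, 0, 128, 0x0, []⟩]

theorem t9_494_14 : jobs 8 S9 b8_494 j9_494_14 = true := by decide +kernel

noncomputable def j9_494_15 : List Job := [
  ⟨48, 0x601028241a110a8643a21128a45a311a8e47d90ca66339a0d26a35d00824221920924a25cc06232198d06a361bc140f040340e0501, 0, 128, 0x0, []⟩]

theorem t9_494_15 : jobs 8 S9 b8_494 j9_494_15 = true := by decide +kernel

noncomputable def j9_494_16 : List Job := [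
  ⟨47, 0x580c262319b0da6e37d00824221920924a25c84462513c804424134140f040340e0501, 0, 128, 0x0, []⟩]

theorem t9_494_16 : jobs 8 S9 b8_494 j9_494_16 = true := by decide +kernel

noncomputable def j9_494_17 : List Job := [
  ⟨46, 0x601028241a110a8643a21128a45a311a8e47d80c262319b0da6e37d00824221920924a25c84462513c804424134140f040340e0501, 0, 128, 0x0, []⟩]

theorem t9_494_17 : jobs 8 S9 b8_494 j9_494_17 = true := by decide +kernel

noncomputable def j9_494_18 : List Job := [
  ⟨45, 0x590ca66339a0d26a35d00824221920924a25cc06232198d06a361bc140f040340e0501, 0, 128, 0x0, []⟩]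

theorem t9_494_18 : jobs 8 S9 b8_494 j9_494_18 = true := by decide +kernel

noncomputable def j9_494_19 : List Job := [
  ⟨44, 0x609068643a29168c46e01028442a21128e47d90ca66339a0d26a35d00824221920924a25cc06232198d06a361bc140f040340e0501, 0, 128, 0x0, []⟩]

theorem t9_494_19 : jobs 8 S9 b8_494 j9_494_19 = true := by decide +kernel

noncomputable def j9_494_20 : List Job := [
  ⟨43, 0x580c262319b0da6e37d00824221920924a25c84462513c804424134140f040340e0501, 0, 128, 0x0, []⟩]

theorem t9_494_20 : jobs 8 S9 b8_494 j9_494_20 = true := by decide +kernel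

noncomputable def j9_494_21 : List Job := [
  ⟨42, 0x609068643a29168c46e01028442a21128e47d80c262319b0da6e37d00824221920924a25c84462513c804424134140f040340e0501, 0, 128, 0x0, []⟩]

theorem t9_494_21 : jobs 8 S9 b8_494 j9_494_21 = true := by decide +kernel

noncomputable def j9_494_22 : List Job := [
  ⟨41, 0x590ca66339a0d26a35d00824221920924a25cc06232198d06a361bc502a160bc40221209c140f040340e0501, 0, 128, 0x0, []⟩]

theorem t9_494_22 : jobs 8 S9 b8_494 j9_494_22 = true := by decide +kernel

noncomputable def j9_494_23 : List Job := [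
  ⟨40, 0x601028241a110a8643a21128a45a311a8e47d90ca66339a0d26a35d00824221920924a25cc06232198d06a361bc502a160bc40221209c140f040340e0501, 0, 128, 0x0, []⟩]

theorem t9_494_23 : jobs 8 S9 b8_494 j9_494_23 = true := by decide +kernel

noncomputable def j9_494_24 : List Job := [
  ⟨39, 0x580c262319b0da6e37d00824221920924a25c84462513c804424134502a160bc40221209c140f040340e0501, 0, 128, 0x202000403001202001403, []⟩]

theorem t9_494_24 : jobs 8 S9 b8_494 j9_494_24 = true := by decide +kernel

noncomputable def j9_494_25 : List Job := [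
  ⟨38, 0x601028241a110a8643a21128a45a311a8e47d80c262319b0da6e37d00824221920924a25c84442513480462413c502a160bc40221209c140d0403c0e0501, 0, 128, 0x204000405008204008405, []⟩]

theorem t9_494_25 : jobs 8 S9 b8_494 j9_494_25 = true := by decide +kernel

noncomputable def j9_494_26 : List Job := [
  ⟨37, 0x590ca66339a0d26a35d00824221920924a25cc06232198d06a361bc502a160bc40221209c140f040340e0501, 0, 128, 0x0, []⟩]

theorem t9_494_26 : jobs 8 S9 b8_494 j9_494_26 = true := by decide +kernel

noncomputable def j9_494_27 : List Job := [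
  ⟨36, 0x609068643a29168c46e01028442a21128e47d90ca66339a0d26a35d00824221920924a25cc06232198d06a361bc502a160bc40221209c140f040340e0501, 0, 200, 0x10202010803010a03011003011202011402011602011803011a02011c02011e02012002012403012602012c02012e02013402013602013c02013e02014202014a03015202015402016202016403016603016802016e02017602, []⟩]

theorem t9_494_27 : jobs 8 S9 b8_494 j9_494_27 = true := by decide +kernel

noncomputable def j9_494_28 : List Job := [
  ⟨35, 0x580c262319b0da6e37d00824221920924a25c84462513c804424134502a160bc40221209c140f040340e0501, 0, 128, 0x202000403001202001403, []⟩]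

theorem t9_494_28 : jobs 8 S9 b8_494 j9_494_28 = true := by decide +kernel

noncomputable def j9_494_29 : List Job := [
  ⟨34, 0x605068543a25168c47601048443221148d47d80c262319b0da6e37d00824221920924a25c88462613c80422412c502a160bc40221209c180f0402c0e0501, 0, 200, 0x204000a04008204008a04010205010404010604010804011a04011c05011e04012005012205012404012604012805012a04012c05012e04013005013205013404013604013804014404014604014805014c04015e04016204016605016a04016e04017204017605, []⟩]

theorem t9_494_29 : jobs 8 S9 b8_494 j9_494_29 = true := by decide +kernel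

noncomputable def j9_494_30 : List Job := [
  ⟨33, 0x590ca66339a0d26a35d00824221920924a25c542d140bc40221209c140f040340e0501, 0, 128, 0x0, []⟩]

theorem t9_494_30 : jobs 8 S9 b8_494 j9_494_30 = true := by decide +kernel

noncomputable def j9_494_31 : List Job := [
  ⟨32, 0x601028241a110a8643a21128a45a311a8e47d90ca66339a0d26a35d00824221920924a25c542d140bc40221209c140f040340e0501, 0, 128, 0x0, []⟩]

theorem t9_494_31 : jobs 8 S9 b8_494 j9_494_31 = true := by decide +kernel

noncomputable def j9_494_32 : List Job := [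
  ⟨31, 0x580c262319b0da6e37d00824221920924a25cc06232198d06a361bc84462513c804424134542d140bc40221209c140f040340e0501, 0, 128, 0x0, []⟩]

theorem t9_494_32 : jobs 8 S9 b8_494 j9_494_32 = true := by decide +kernel

noncomputable def j9_494_33 : List Job := [
  ⟨30, 0x601028241a110a8643a21128a45a311a8e47d80c262319b0da6e37d00824221920924a25cc06232198d06a361bc84442513480462413c582f140ac40221209c140d0403c0e0501, 0, 160, 0x0, []⟩]

theorem t9_494_33 : jobs 8 S9 b8_494 j9_494_33 = true := by decide +kernel

noncomputable def j9_494_34 : List Job := [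
  ⟨29, 0x590ca66339a0d26a35d00824221920924a25c502a160bc48271008c140f040340e0501, 0, 128, 0x0, []⟩]

theorem t9_494_34 : jobs 8 S9 b8_494 j9_494_34 = true := by decide +kernel

noncomputable def j9_494_35 : List Job := [
  ⟨28, 0x609068643a29168c46e01028442a21128e47d90ca66339a0d26a35d00824221920924a25c502a160bc48271008c140f040340e0501, 0, 200, 0x10203010401010602010801010a03010c01010e03011003011202011401011602011801011a02011c01011e02012001012202012401012602012801012a02012c01012e03013002013202013602013a02013e02014203014401014602014803014a01014c01014e01015001015201015401015601015801015a02015c01015e01016001016201016401016601016801016a02016c01016e01017001017202017401017601017801, []⟩]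

theorem t9_494_35 : jobs 8 S9 b8_494 j9_494_35 = true := by decide +kernel

noncomputable def j9_494_36 : List Job := [
  ⟨27, 0x580c262319b0da6e37d00824221920924a25cc06232198d06a361bc84462513c804424134502a160bc48271008c140f040340e0501, 0, 128, 0x0, []⟩]

theorem t9_494_36 : jobs 8 S9 b8_494 j9_494_36 = true := by decide +kernel

noncomputable def j9_494_37 : List Job := [
  ⟨26, 0x605068543a25168c47601048443221148d47d80c262319b0da6e37d00824221920924a25cc06232198d06a361bc88462613c80422412c502a160bc442710094180f0402c0e0501, 0, 208, 0x200000401000600000801000a01000c00001201001a01001e00002201002401002600002a01002c01002e01003001003201003601003a00015201015405015604015801015a01015c01016e04017401017601017c01018001018201018804, [(28, ⟨2022, 0x410004b002480004000050010400004000040080001, 0x18225890200a0200802⟩), (18, ⟨2024, 0x478016e0024e0044c00068000500004004040080001, 0x18837098260c0280802⟩), (14, ⟨2023, 0x410004b002480004000050010400004000040080001, 0x18225890200a0200802⟩), (5, ⟨2026, 0x478016e0024e0044c00068000500004004040080001,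 0x18837098260c0280802⟩), (2, ⟨2025, 0x478016e0024e0044c00068000500004004040080001, 0x18837098260c0280802⟩), (0, ⟨2021, 0x410004b002480004000050010400004000040080001, 0x18225890200a0200802⟩)]⟩]

theorem t9_494_37 : jobs 8 S9 b8_494 j9_494_37 = true := by decide +kernel

noncomputable def j9_494_38 : List Job := [
  ⟨25, 0x590ca66339a0d26a35d80c262319b0da6e37d108a46239309a4e27cc06232198d06a361bc40221209c0e0501, 0, 128, 0x0, []⟩]

theorem t9_494_38 : jobs 8 S9 b8_494 j9_494_38 = true := by decide +kernel

noncomputable def j9_494_39 : List Job := [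
  ⟨24, 0x500824221920924a25cc06232198d06a361bc40221209c0e0501, 0, 128, 0x0, []⟩]

theorem t9_494_39 : jobs 8 S9 b8_494 j9_494_39 = true := by decide +kernel

noncomputable def j9_494_40 : List Job := [
  ⟨23, 0x5108a46239309a4e27c88462613c80422412c40221209c0e0501, 0, 128, 0x0, []⟩]

theorem t9_494_40 : jobs 8 S9 b8_494 j9_494_40 = true := by decide +kernel

noncomputable def j9_494_41 : List Job := [
  ⟨22, 0x590ca66339a0d26a35d80c262319b0da6e37d00824221920924a25c88462613c80422412c40221209c0e0501, 0, 128, 0x0, []⟩]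

theorem t9_494_41 : jobs 8 S9 b8_494 j9_494_41 = true := by decide +kernel

noncomputable def j9_494_42 : List Job := [
  ⟨21, 0x590ca66339a0d26a35d80c262319b0da6e37d108a46239309a4e27cc06232198d06a361bc40221209c0e0501, 0, 96, 0x0, []⟩]

theorem t9_494_42 : jobs 8 S9 b8_494 j9_494_42 = true := by decide +kernel

noncomputable def j9_494_43 : List Job := [
  ⟨20, 0x590ca66339a0d26a35d80c262319b0da6e37d108a46239309a4e27cc06232198d06a361bc40221209c0e0501, 0, 96, 0x0, []⟩]

theorem t9_494_43 : jobs 8 S9 b8_494 j9_494_43 = true := by decide +kernel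

noncomputable def j9_494_44 : List Job := [
  ⟨19, 0x500824221920924a25cc06232198d06a361bc40221209c0e0501, 0, 96, 0x0, []⟩]

theorem t9_494_44 : jobs 8 S9 b8_494 j9_494_44 = true := by decide +kernel

noncomputable def j9_494_45 : List Job := [
  ⟨18, 0x500824221920924a25cc06232198d06a361bc40221209c0e0501, 0, 96, 0x0, []⟩]

theorem t9_494_45 : jobs 8 S9 b8_494 j9_494_45 = true := by decide +kernel

noncomputable def j9_494_46 : List Job := [
  ⟨17, 0x5108a46239309a4e27c88462613c80422412c40221209c0e0501, 0, 96, 0x0, []⟩]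

theorem t9_494_46 : jobs 8 S9 b8_494 j9_494_46 = true := by decide +kernel

noncomputable def j9_494_47 : List Job := [
  ⟨16, 0x5108a46239309a4e27c88462613c80422412c40221209c0e0501, 0, 96, 0x0, []⟩]

theorem t9_494_47 : jobs 8 S9 b8_494 j9_494_47 = true := by decide +kernel

noncomputable def j9_494_48 : List Job := [
  ⟨15, 0x590ca66339a0d26a35d80c262319b0da6e37d00824221920924a25c84442513480462413c40221209c0e0501, 0, 96, 0x0, []⟩]

theorem t9_494_48 : jobs 8 S9 b8_494 j9_494_48 = true := by decide +kernel

noncomputable def j9_494_49 : List Job := [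
  ⟨14, 0x590ca66339a0d26a35d80c262319b0da6e37d00824221920924a25c88462613c80422412c40221209c0e0501, 0, 96, 0x0, []⟩]

theorem t9_494_49 : jobs 8 S9 b8_494 j9_494_49 = true := by decide +kernel

noncomputable def j9_494_50 : List Job := [
  ⟨13, 0x590ca66339a0d26a35d80c262319b0da6e37d108a46239309a4e27cc06232198d06a361bc40221209c0e0501, 0, 128, 0x0, []⟩]

theorem t9_494_50 : jobs 8 S9 b8_494 j9_494_50 = true := by decide +kernel

noncomputable def j9_494_51 : List Job := [
  ⟨12, 0x504864925d008448254c06232198d06a361bc40221209c0e0501, 0, 128, 0x0, []⟩]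

theorem t9_494_51 : jobs 8 S9 b8_494 j9_494_51 = true := by decide +kernel

noncomputable def j9_494_52 : List Job := [
  ⟨11, 0x5108a46239309a4e27c88462613c80422412c40221209c0e0501, 0, 128, 0x0, []⟩]

theorem t9_494_52 : jobs 8 S9 b8_494 j9_494_52 = true := by decide +kernel

noncomputable def j9_494_53 : List Job := [
  ⟨10, 0x590ca66339a0d26a35d80c262319b0da6e37d04864925d00844825488462613c80422412c40221209c0e0501, 0, 128, 0xe06001007001e06002007008e06009007009e0600a007, []⟩]

theorem t9_494_53 : jobs 8 S9 b8_494 j9_494_53 = true := by decide +kernel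

noncomputable def j9_494_54 : List Job := [
  ⟨9, 0x5108a46239309a4e27c88462613c80422412c40221209c0e0501, 0, 96, 0x0, []⟩]

theorem t9_494_54 : jobs 8 S9 b8_494 j9_494_54 = true := by decide +kernel

noncomputable def j9_494_55 : List Job := [
  ⟨8, 0x590ca66339a0d26a35d80c262319b0da6e37d108a46239309a4e27c40221209c0e0501, 0, 128, 0x0, []⟩]

theorem t9_494_55 : jobs 8 S9 b8_494 j9_494_55 = true := by decide +kernel

noncomputable def j9_494_56 : List Job := [
  ⟨7, 0x500824221920924a25c40221209c0e0501, 0, 128, 0x0, []⟩]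

theorem t9_494_56 : jobs 8 S9 b8_494 j9_494_56 = true := by decide +kernel

noncomputable def j9_494_57 : List Job := [
  ⟨6, 0x5108a46239309a4e27cc06232198d06a361bc88462613c80422412c40221209c0e0501, 0, 128, 0x0, []⟩]

theorem t9_494_57 : jobs 8 S9 b8_494 j9_494_57 = true := by decide +kernel

noncomputable def j9_494_58 : List Job := [
  ⟨5, 0x590ca66339a0d26a35d80c262319b0da6e37d00824221920924a25cc06232198d06a361bc88462613c80422412c40221209c0e0501, 0, 128, 0x0, []⟩]

theorem t9_494_58 : jobs 8 S9 b8_494 j9_494_58 = true := by decide +kernel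

noncomputable def j9_494_59 : List Job := [
  ⟨4, 0x590ca66339a0d26a35d80c262319b0da6e37d108a46239309a4e27c4427100940e0501, 0, 96, 0x2a04006a03, []⟩]

theorem t9_494_59 : jobs 8 S9 b8_494 j9_494_59 = true := by decide +kernel

noncomputable def j9_494_60 : List Job := [
  ⟨3, 0x590ca66339a0d26a35d80c262319b0da6e37d108a46239309a4e27c44251009c0e0501, 0, 96, 0x2a02006a0300960400b603, []⟩]

theorem t9_494_60 : jobs 8 S9 b8_494 j9_494_60 = true := by decide +kernel

noncomputable def j9_494_61 : List Job := [
  ⟨2, 0x500824221920924a25c4427100940e0501, 0, 96, 0x2a02006a04, []⟩]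

theorem t9_494_61 : jobs 8 S9 b8_494 j9_494_61 = true := by decide +kernel

noncomputable def j9_494_62 : List Job := [
  ⟨1, 0x500824221920924a25c44251009c0e0501, 0, 96, 0x2a02006a0600960200b604, []⟩]

theorem t9_494_62 : jobs 8 S9 b8_494 j9_494_62 = true := by decide +kernel

noncomputable def j9_494_63 : List Job := [
  ⟨0, 0x5108a46239309a4e27cc06232198d06a361bc88462613c80422412c4427100940e0501, 0, 96, 0xa06004a04, []⟩]

theorem t9_494_63 : jobs 8 S9 b8_494 j9_494_63 = true := by decide +kernel

theorem d9_494 : Dn 8 S9 b8_494 := dn_of (Js := j9_494_0 ++ (j9_494_1 ++ (j9_494_2 ++ (j9_494_3 ++ (j9_494_4 ++ (j9_494_5 ++ (j9_494_6 ++ (j9_494_7 ++ (j9_494_8 ++ (j9_494_9 ++ (j9_494_10 ++ (j9_494_11 ++ (j9_494_12 ++ (j9_494_13 ++ (j9_494_14 ++ (j9_494_15 ++ (j9_494_16 ++ (j9_494_17 ++ (j9_494_18 ++ (j9_494_19 ++ (j9_494_20 ++ (j9_494_21 ++ (j9_494_22 ++ (j9_494_23 ++ (j9_494_24 ++ (j9_494_25 ++ (j9_494_26 ++ (j9_494_27 ++ (j9_494_28 ++ (j9_494_29 ++ (j9_494_30 ++ (j9_494_31 ++ (j9_494_32 ++ (j9_494_33 ++ (j9_494_34 ++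 (j9_494_35 ++ (j9_494_36 ++ (j9_494_37 ++ (j9_494_38 ++ (j9_494_39 ++ (j9_494_40 ++ (j9_494_41 ++ (j9_494_42 ++ (j9_494_43 ++ (j9_494_44 ++ (j9_494_45 ++ (j9_494_46 ++ (j9_494_47 ++ (j9_494_48 ++ (j9_494_49 ++ (j9_494_50 ++ (j9_494_51 ++ (j9_494_52 ++ (j9_494_53 ++ (j9_494_54 ++ (j9_494_55 ++ (j9_494_56 ++ (j9_494_57 ++ (j9_494_58 ++ (j9_494_59 ++ (j9_494_60 ++ (j9_494_61 ++ (j9_494_62 ++ (j9_494_63 ++ []))))))))))))))))))))))))))))))))))))))))))))))))))))))))))))))))
  (jobs_append t9_494_0 <| jobs_append t9_494_1 <| jobs_append t9_494_2 <| jobs_append t9_494_3 <| jobs_append t9_494_4 <| jobs_append t9_494_5 <| jobs_append t9_494_6 <| jobs_append t9_494_7 <| jobs_append t9_494_8 <| jobs_append t9_494_9 <| jobs_append t9_494_10 <| jobs_append t9_494_11 <| jobs_append t9_494_12 <| jobs_append t9_494_13 <| jobs_append t9_494_14 <| jobs_append t9_494_15 <| jobs_append t9_494_16 <| jobs_append t9_494_17 <| jobs_append t9_494_18 <| jobs_append t9_494_19 <| jobs_append t9_494_20 <| jobs_append t9_494_21 <| jobs_append t9_494_22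 <| jobs_append t9_494_23 <| jobs_append t9_494_24 <| jobs_append t9_494_25 <| jobs_append t9_494_26 <| jobs_append t9_494_27 <| jobs_append t9_494_28 <| jobs_append t9_494_29 <| jobs_append t9_494_30 <| jobs_append t9_494_31 <| jobs_append t9_494_32 <| jobs_append t9_494_33 <| jobs_append t9_494_34 <| jobs_append t9_494_35 <| jobs_append t9_494_36 <| jobs_append t9_494_37 <| jobs_append t9_494_38 <| jobs_append t9_494_39 <| jobs_append t9_494_40 <| jobs_append t9_494_41 <| jobs_append t9_494_42 <| jobs_append t9_494_43 <| jobs_append t9_494_44 <| jobs_append t9_494_45 <| jobs_append t9_494_46 <| jobs_append t9_494_47 <| jobs_append t9_494_48 <| jobs_append t9_494_49 <| jobs_append t9_494_50 <| jobs_append t9_494_51 <| jobs_append t9_494_52 <| jobs_append t9_494_53 <| jobs_append t9_494_54 <| jobs_append t9_494_55 <| jobs_append t9_494_56 <| jobs_append t9_494_57 <| jobs_append t9_494_58 <| jobs_append t9_494_59 <| jobs_append t9_494_60 <| jobs_append t9_494_61 <| jobs_append t9_494_62 <| jobs_append t9_494_63 <| List.forall_mem_nil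 _) (by decide +kernel)

noncomputable def j9_495_0 : List Job := [
  ⟨63, 0x641229249a512a964ba61329a4da713a9e4fe01028241a110a8643a21128a45a311a8e47d90ca66339a0d26a35c804222118904a2613c48271008c0e0501, 0, 96, 0x604002602004605006604, []⟩]

theorem t9_495_0 : jobs 8 S9 b8_495 j9_495_0 = true := by decide +kernel

noncomputable def j9_495_1 : List Job := [
  ⟨62, 0x580c262319b0da6e37d50aa562b970ba5e2fd40a25229960b25a2dd108a46239309a4e27d00824221920924a25c804222118904a2613c48271008c0e0501, 0, 96, 0xa01000c01000e01001001001a01001c01001e01002001008601008801008e01009001, []⟩]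

theorem t9_495_1 : jobs 8 S9 b8_495 j9_495_1 = true := by decide +kernel

noncomputable def j9_495_2 : List Job := [
  ⟨61, 0x601028241a110a8643a21128a45a311a8e47d40a25229960b25a2dd108a46239309a4e27c804222118904a2613c40221209c0e0501, 0, 128, 0x0, []⟩]

theorem t9_495_2 : jobs 8 S9 b8_495 j9_495_2 = true := by decide +kernel

noncomputable def j9_495_3 : List Job := [
  ⟨60, 0x601028241a110a8643a21128a45a311a8e47d90ca66339a0d26a35d80c262319b0da6e37d50aa562b970ba5e2fd00824221920924a25c804222118904a2613c40221209c0e0501, 0, 128, 0x201000401000e01001001001201001401001e01002001008201008401008e01009001009201009401009e0100a001, []⟩]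

theorem t9_495_3 : jobs 8 S9 b8_495 j9_495_3 = true := by decide +kernel

noncomputable def j9_495_4 : List Job := [
  ⟨59, 0x540a25229960b25a2dd108a46239309a4e27c804222118904a2613c40221209c0e0501, 0, 96, 0x0, []⟩]

theorem t9_495_4 : jobs 8 S9 b8_495 j9_495_4 = true := by decide +kernel

noncomputable def j9_495_5 : List Job := [
  ⟨58, 0x641229249a512a964ba61329a4da713a9e4fe01028241a110a8643a21128a45a311a8e47d40a25229960b25a2dd108a46239309a4e27c804222118904a2613c40221209c0e0501, 0, 96, 0x0, []⟩]

theorem t9_495_5 : jobs 8 S9 b8_495 j9_495_5 = true := by decide +kernel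

noncomputable def j9_495_6 : List Job := [
  ⟨57, 0x590ca66339a0d26a35d80c262319b0da6e37d50aa562b970ba5e2fd00824221920924a25c804222118904a2613c40221209c0e0501, 0, 96, 0x201000401000e01001001001201001401001e01002001008201008801008a01009001, []⟩]

theorem t9_495_6 : jobs 8 S9 b8_495 j9_495_6 = true := by decide +kernel

noncomputable def j9_495_7 : List Job := [
  ⟨56, 0x641229249a512a964ba61329a4da713a9e4fe01028241a110a8643a21128a45a311a8e47d90ca66339a0d26a35d80c262319b0da6e37d50aa562b970ba5e2fd00824221920924a25c804222118904a2613c40221209c0e0501, 0, 96, 0x201000401000e01001001001201001401001e01002001008201008801008a01009001, []⟩]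

theorem t9_495_7 : jobs 8 S9 b8_495 j9_495_7 = true := by decide +kernel

noncomputable def j9_495_8 : List Job := [
  ⟨55, 0x601028241a110a8643a21128a45a311a8e47d90ca66339a0d26a35d80c262319b0da6e37d40a25229960b25a2dd108a46239309a4e27c40221209c0e0501, 0, 80, 0x0, []⟩]

theorem t9_495_8 : jobs 8 S9 b8_495 j9_495_8 = true := by decide +kernel

noncomputable def j9_495_9 : List Job := [
  ⟨54, 0x601028241a110a8643a21128a45a311a8e47d50aa562b970ba5e2fd00824221920924a25c40221209c0e0501, 0, 80, 0x0, []⟩]

theorem t9_495_9 : jobs 8 S9 b8_495 j9_495_9 = true := by decide +kernel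

noncomputable def j9_495_10 : List Job := [
  ⟨53, 0x601028241a110a8643a21128a45a311a8e47d40a25229960b25a2dd108a46239309a4e27ce0723a1d8f07a3e1fc804222118904a2613c40221209c0e0501, 0, 80, 0x0, []⟩]

theorem t9_495_10 : jobs 8 S9 b8_495 j9_495_10 = true := by decide +kernel

noncomputable def j9_495_11 : List Job := [
  ⟨52, 0x601028241a110a8643a21128a45a311a8e47d90ca66339a0d26a35d80c262319b0da6e37d50aa562b970ba5e2fd00824221920924a25ce0723a1d8f07a3e1fc804222118904a2613c40221209c0e0501, 0, 80, 0x601000801000a01000c01001601001801001a01001c01005601005801005a01005c01006601006801006a01006c01, []⟩]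

theorem t9_495_11 : jobs 8 S9 b8_495 j9_495_11 = true := by decide +kernel

noncomputable def j9_495_12 : List Job := [
  ⟨51, 0x590ca66339a0d26a35d80c262319b0da6e37d40a25229960b25a2dd108a46239309a4e27c40221209c0e0501, 0, 60, 0x0, []⟩]

theorem t9_495_12 : jobs 8 S9 b8_495 j9_495_12 = true := by decide +kernel

noncomputable def j9_495_13 : List Job := [
  ⟨50, 0x641229249a512a964ba61329a4da713a9e4fe01028241a110a8643a21128a45a311a8e47d90ca66339a0d26a35d80c262319b0da6e37d40a25229960b25a2dd108a46239309a4e27c40221209c0e0501, 0, 60, 0x0, []⟩]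

theorem t9_495_13 : jobs 8 S9 b8_495 j9_495_13 = true := by decide +kernel

noncomputable def j9_495_14 : List Job := [
  ⟨49, 0x550aa562b970ba5e2fd00824221920924a25c40221209c0e0501, 0, 60, 0x0, []⟩]

theorem t9_495_14 : jobs 8 S9 b8_495 j9_495_14 = true := by decide +kernel

noncomputable def j9_495_15 : List Job := [
  ⟨48, 0x641229249a512a964ba61329a4da713a9e4fe01028241a110a8643a21128a45a311a8e47d50aa562b970ba5e2fd00824221920924a25c40221209c0e0501, 0, 60, 0x0, []⟩]

theorem t9_495_15 : jobs 8 S9 b8_495 j9_495_15 = true := by decide +kernel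

noncomputable def j9_495_16 : List Job := [
  ⟨47, 0x540a25229960b25a2dd108a46239309a4e27ce0723a1d8f07a3e1fc804222118904a2613c40221209c0e0501, 0, 60, 0x0, []⟩]

theorem t9_495_16 : jobs 8 S9 b8_495 j9_495_16 = true := by decide +kernel

noncomputable def j9_495_17 : List Job := [
  ⟨46, 0x590ca66339a0d26a35d80c262319b0da6e37d50aa562b970ba5e2fd00824221920924a25ce0723a1d8f07a3e1fc804222118904a2613c40221209c0e0501, 0, 60, 0x601000801000a01000c01001601001801001a01001c01005401005601005c01005e01, []⟩]

theorem t9_495_17 : jobs 8 S9 b8_495 j9_495_17 = true := by decide +kernel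

noncomputable def j9_495_18 : List Job := [
  ⟨45, 0x580c262319b0da6e37d50aa562b970ba5e2fd00824221920924a25c804222118904a2613c140f040340e0501, 0, 192, 0xa01000c01001a01001c01010601010e01, []⟩]

theorem t9_495_18 : jobs 8 S9 b8_495 j9_495_18 = true := by decide +kernel

noncomputable def j9_495_19 : List Job := [
  ⟨44, 0x641229249a512a964ba61329a4da713a9e4fe01028241a110a8643a21128a45a311a8e47d80c262319b0da6e37d50aa562b970ba5e2fd00824221920924a25c804222118904a2613c140f040340e0501, 0, 192, 0xa01000c01001a01001c01010601010e01, []⟩]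

theorem t9_495_19 : jobs 8 S9 b8_495 j9_495_19 = true := by decide +kernel

noncomputable def j9_495_20 : List Job := [
  ⟨43, 0x609068643a29168c46e01028442a21128e47d80c262319b0da6e37d50aa562b970ba5e2fd00824221920924a25c804222118904a2613c140f040340e0501, 0, 256, 0xa01000c01001a01001c01010a01010c01011a01011c01, []⟩]

theorem t9_495_20 : jobs 8 S9 b8_495 j9_495_20 = true := by decide +kernel

noncomputable def j9_495_21 : List Job := [
  ⟨42, 0x590ca66339a0d26a35d50aa562b970ba5e2fd00824221920924a25c140f040340e0501, 0, 120, 0x0, []⟩]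

theorem t9_495_21 : jobs 8 S9 b8_495 j9_495_21 = true := by decide +kernel

noncomputable def j9_495_22 : List Job := [
  ⟨41, 0x641229249a512a964ba61329a4da713a9e4fe01028241a110a8643a21128a45a311a8e47d90ca66339a0d26a35d50aa562b970ba5e2fd00824221920924a25c140f040340e0501, 0, 120, 0x0, []⟩]

theorem t9_495_22 : jobs 8 S9 b8_495 j9_495_22 = true := by decide +kernel

noncomputable def j9_495_23 : List Job := [
  ⟨40, 0x580c262319b0da6e37d50aa562b970ba5e2fd00824221920924a25ce0723a1d8f07a3e1fc804222118904a2613c140f040340e0501, 0, 120, 0xe01001001001e0100200100a80100b001, []⟩]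

theorem t9_495_23 : jobs 8 S9 b8_495 j9_495_23 = true := by decide +kernel

noncomputable def j9_495_24 : List Job := [
  ⟨39, 0x641229249a512a964ba61329a4da713a9e4fe01028241a110a8643a21128a45a311a8e47d80c262319b0da6e37d50aa562b970ba5e2fd00824221920924a25ce0723a1d8f07a3e1fc804222118904a2613c140f040340e0501, 0, 120, 0xe01001001001e0100200100a80100b001, []⟩]

theorem t9_495_24 : jobs 8 S9 b8_495 j9_495_24 = true := by decide +kernel

noncomputable def j9_495_25 : List Job := [
  ⟨38, 0x609068643a29168c46e01028442a21128e47d90ca66339a0d26a35d50aa562b970ba5e2fd00824221920924a25c140f040340e0501, 0, 160, 0x0, []⟩]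

theorem t9_495_25 : jobs 8 S9 b8_495 j9_495_25 = true := by decide +kernel

noncomputable def j9_495_26 : List Job := [
  ⟨37, 0x609068643a29168c46e01028442a21128e47d80c262319b0da6e37d50aa562b970ba5e2fd00824221920924a25ce0723a1d8f07a3e1fc804222118904a2613c140f040340e0501, 0, 160, 0xe01001001001e0100200100ae0100b00100be0100c001, []⟩]

theorem t9_495_26 : jobs 8 S9 b8_495 j9_495_26 = true := by decide +kernel

noncomputable def j9_495_27 : List Job := [
  ⟨36, 0x601028241a110a8643a21128a45a311a8e47d90ca66339a0d26a35d40a25229960b25a2dd00824221920924a25c502a160bc40221209c140f040340e0501, 0, 160, 0x0, []⟩]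

theorem t9_495_27 : jobs 8 S9 b8_495 j9_495_27 = true := by decide +kernel

noncomputable def j9_495_28 : List Job := [
  ⟨35, 0x601028241a110a8643a21128a45a311a8e47d80c262319b0da6e37d40a25229960b25a2dd00824221920924a25ce0723a1d8f07a3e1fc804222118904a2613c502a160bc40221209c180f0402c0e0501, 0, 160, 0xa01000c01001a01001c0100aa0100ac0100ba0100bc01, []⟩]

theorem t9_495_28 : jobs 8 S9 b8_495 j9_495_28 = true := by decide +kernel

noncomputable def j9_495_29 : List Job := [
  ⟨34, 0x590ca66339a0d26a35d40a25229960b25a2dd00824221920924a25c502a160bc44251009c140f040340e0501, 0, 120, 0x0, []⟩]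

theorem t9_495_29 : jobs 8 S9 b8_495 j9_495_29 = true := by decide +kernel

noncomputable def j9_495_30 : List Job := [
  ⟨33, 0x64926944aa69369e4fe4122964ba61329c4ee09068643a29168c46e01028442a21128e47d90ca66339a0d26a35d40a25229960b25a2dd00824221920924a25c502a160bc44251009c140f040340e0501, 0, 200, 0xf40100f80100fa0100fe01010202010601010c01011001011402011a03011e01012201012402012801012a01012c01012e03013003013e02014001014a01014c01014e01015003015201015401015601015801016201016402016601017401017601017801017a01017c01018e01, []⟩]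

theorem t9_495_30 : jobs 8 S9 b8_495 j9_495_30 = true := by decide +kernel

noncomputable def j9_495_31 : List Job := [
  ⟨32, 0x580c262319b0da6e37d40a25229960b25a2dd00824221920924a25ce0723a1d8f07a3e1fc804222118904a2613c502a160bc44251009c140f040340e0501, 0, 120, 0xa01000c01001a01001c0100a60100ae01, []⟩]

theorem t9_495_31 : jobs 8 S9 b8_495 j9_495_31 = true := by decide +kernel

noncomputable def j9_495_32 : List Job := [
  ⟨31, 0x64526944b265369d4fe4124954ba61349c4f605068543a25168c47601048443221148d47d80c262319b0da6e37d40a25229960b25a2dd00824221920924a25ce0723a1d8f07a3e1fc804222118904a2613c502a160bc48271008c140d0403c0e0501, 0, 200, 0xa01000c01001a01001c0100a60100ae0100f20400f40100fe05010005011404011a05014204014c01014e05015001016404, []⟩]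

theorem t9_495_32 : jobs 8 S9 b8_495 j9_495_32 = true := by decide +kernel

noncomputable def j9_495_33 : List Job := [
  ⟨30, 0x601028241a110a8643a21128a45a311a8e47d80c262319b0da6e37d40a25229960b25a2dd00824221920924a25c804222118904a2613c502a160bc40221209c180f0402c0e0501, 0, 256, 0xe01001001001e01002001010e01011001011e01012001, []⟩]

theorem t9_495_33 : jobs 8 S9 b8_495 j9_495_33 = true := by decide +kernel

noncomputable def j9_495_34 : List Job := [
  ⟨29, 0x580c262319b0da6e37d40a25229960b25a2dd00824221920924a25c804222118904a2613c502a160bc48271008c140f040340e0501, 0, 192, 0xe01001001001e01002001010801011001, []⟩]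

theorem t9_495_34 : jobs 8 S9 b8_495 j9_495_34 = true := by decide +kernel

noncomputable def j9_495_35 : List Job := [
  ⟨28, 0x64526954ba65369c4f64124944b261349d4fe05068543a25168c47601048443221148d47d80c262319b0da6e37d40a25229960b25a2dd00824221920924a25c804222118904a2613c502a160bc442710094180f0402c0e0501, 0, 320, 0x401000801000a05000c01000e04001001001205001601002204002605002a04002c01002e05003001003204003605003a05003c01003e04004001004a01004e01005a01005e01006201006401006601006801006a04006e01008e01009001009e0100a001018801019001020204020401020601020801020a01020c05020e04021001022204022601022c05023001023204023601023c04024001026401026804026a01026e01, []⟩]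

theorem t9_495_35 : jobs 8 S9 b8_495 j9_495_35 = true := by decide +kernel

noncomputable def j9_495_36 : List Job := [
  ⟨27, 0x590ca66339a0d26a35d80c262319b0da6e37d108a46239309a4e27cc06232198d06a361bc40221209c0e0501, 0, 128, 0x0, []⟩]

theorem t9_495_36 : jobs 8 S9 b8_495 j9_495_36 = true := by decide +kernel

noncomputable def j9_495_37 : List Job := [
  ⟨26, 0x601028241a110a8643a21128a45a311a8e47d90ca66339a0d26a35d80c262319b0da6e37d108a46239309a4e27cc06232198d06a361bc40221209c0e0501, 0, 128, 0x0, []⟩]

theorem t9_495_37 : jobs 8 S9 b8_495 j9_495_37 = true := by decide +kernel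

noncomputable def j9_495_38 : List Job := [
  ⟨25, 0x500824221920924a25cc06232198d06a361bc40221209c0e0501, 0, 128, 0x0, []⟩]

theorem t9_495_38 : jobs 8 S9 b8_495 j9_495_38 = true := by decide +kernel

noncomputable def j9_495_39 : List Job := [
  ⟨24, 0x601028241a110a8643a21128a45a311a8e47d00824221920924a25cc06232198d06a361bc40221209c0e0501, 0, 128, 0x0, []⟩]

theorem t9_495_39 : jobs 8 S9 b8_495 j9_495_39 = true := by decide +kernel

noncomputable def j9_495_40 : List Job := [
  ⟨23, 0x5108a46239309a4e27c84462513c80442413440221209c0e0501, 0, 128, 0x0, []⟩]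

theorem t9_495_40 : jobs 8 S9 b8_495 j9_495_40 = true := by decide +kernel

noncomputable def j9_495_41 : List Job := [
  ⟨22, 0x601028241a110a8643a21128a45a311a8e47d108a46239309a4e27c84462513c80442413440221209c0e0501, 0, 128, 0x0, []⟩]

theorem t9_495_41 : jobs 8 S9 b8_495 j9_495_41 = true := by decide +kernel

noncomputable def j9_495_42 : List Job := [
  ⟨21, 0x590ca66339a0d26a35d80c262319b0da6e37d00824221920924a25c84462513c80442413440221209c0e0501, 0, 128, 0x0, []⟩]

theorem t9_495_42 : jobs 8 S9 b8_495 j9_495_42 = true := by decide +kernel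

noncomputable def j9_495_43 : List Job := [
  ⟨20, 0x601028241a110a8643a21128a45a311a8e47d90ca66339a0d26a35d80c262319b0da6e37d00824221920924a25c88462613c80422412c40221209c0e0501, 0, 128, 0x0, []⟩]

theorem t9_495_43 : jobs 8 S9 b8_495 j9_495_43 = true := by decide +kernel

noncomputable def j9_495_44 : List Job := [
  ⟨19, 0x590ca66339a0d26a35d80c262319b0da6e37d108a46239309a4e27cc06232198d06a361bc40221209c0e0501, 0, 128, 0x0, []⟩]

theorem t9_495_44 : jobs 8 S9 b8_495 j9_495_44 = true := by decide +kernel

noncomputable def j9_495_45 : List Job := [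
  ⟨18, 0x601028241a110a8643a21128a45a311a8e47d90ca66339a0d26a35d80c262319b0da6e37d108a46239309a4e27cc06232198d06a361bc40221209c0e0501, 0, 128, 0x0, []⟩]

theorem t9_495_45 : jobs 8 S9 b8_495 j9_495_45 = true := by decide +kernel

noncomputable def j9_495_46 : List Job := [
  ⟨17, 0x500824221920924a25cc06232198d06a361bc40221209c0e0501, 0, 128, 0x0, []⟩]

theorem t9_495_46 : jobs 8 S9 b8_495 j9_495_46 = true := by decide +kernel

noncomputable def j9_495_47 : List Job := [
  ⟨16, 0x601028241a110a8643a21128a45a311a8e47d00824221920924a25cc06232198d06a361bc40221209c0e0501, 0, 128, 0x0, []⟩]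

theorem t9_495_47 : jobs 8 S9 b8_495 j9_495_47 = true := by decide +kernel

noncomputable def j9_495_48 : List Job := [
  ⟨15, 0x5108a46239309a4e27c84462513c80442413440221209c0e0501, 0, 128, 0x0, []⟩]

theorem t9_495_48 : jobs 8 S9 b8_495 j9_495_48 = true := by decide +kernel

noncomputable def j9_495_49 : List Job := [
  ⟨14, 0x601028241a110a8643a21128a45a311a8e47d108a46239309a4e27c84462513c80442413440221209c0e0501, 0, 128, 0x0, []⟩]

theorem t9_495_49 : jobs 8 S9 b8_495 j9_495_49 = true := by decide +kernel

noncomputable def j9_495_50 : List Job := [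
  ⟨13, 0x590ca66339a0d26a35d80c262319b0da6e37d00824221920924a25c84462513c80442413440221209c0e0501, 0, 128, 0x0, []⟩]

theorem t9_495_50 : jobs 8 S9 b8_495 j9_495_50 = true := by decide +kernel

noncomputable def j9_495_51 : List Job := [
  ⟨12, 0x601028241a110a8643a21128a45a311a8e47d90ca66339a0d26a35d80c262319b0da6e37d00824221920924a25c88462613c80422412c40221209c0e0501, 0, 128, 0x0, []⟩]

theorem t9_495_51 : jobs 8 S9 b8_495 j9_495_51 = true := by decide +kernel

noncomputable def j9_495_52 : List Job := [
  ⟨11, 0x5108a46239309a4e27c84462513c80442413440221209c0e0501, 0, 128, 0x0, []⟩]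

theorem t9_495_52 : jobs 8 S9 b8_495 j9_495_52 = true := by decide +kernel

noncomputable def j9_495_53 : List Job := [
  ⟨10, 0x601028241a110a8643a21128a45a311a8e47d108a46239309a4e27c84462513c80442413440221209c0e0501, 0, 128, 0x0, []⟩]

theorem t9_495_53 : jobs 8 S9 b8_495 j9_495_53 = true := by decide +kernel

noncomputable def j9_495_54 : List Job := [
  ⟨9, 0x590ca66339a0d26a35d80c262319b0da6e37d108a46239309a4e27c44251009c0e0501, 0, 128, 0x3a04007a0600ba0200fa05, []⟩]

theorem t9_495_54 : jobs 8 S9 b8_495 j9_495_54 = true := by decide +kernel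

noncomputable def j9_495_55 : List Job := [
  ⟨8, 0x601028241a110a8643a21128a45a311a8e47d90ca66339a0d26a35d80c262319b0da6e37d108a46239309a4e27c44251009c0e0501, 0, 128, 0x3a06007a0200ba0600fa04, []⟩]

theorem t9_495_55 : jobs 8 S9 b8_495 j9_495_55 = true := by decide +kernel

noncomputable def j9_495_56 : List Job := [
  ⟨7, 0x500824221920924a25c44251009c0e0501, 0, 128, 0x3a05007a0200ba0400fa04, []⟩]

theorem t9_495_56 : jobs 8 S9 b8_495 j9_495_56 = true := by decide +kernel

noncomputable def j9_495_57 : List Job := [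
  ⟨6, 0x601028241a110a8643a21128a45a311a8e47d00824221920924a25c44251009c0e0501, 0, 128, 0x3a04007a0600ba0200fa06, []⟩]

theorem t9_495_57 : jobs 8 S9 b8_495 j9_495_57 = true := by decide +kernel

noncomputable def j9_495_58 : List Job := [
  ⟨5, 0x5108a46239309a4e27cc06232198d06a361bc84462513c80442413444251009c0e0501, 0, 128, 0x1a04005a02009a0600da04, []⟩]

theorem t9_495_58 : jobs 8 S9 b8_495 j9_495_58 = true := by decide +kernel

noncomputable def j9_495_59 : List Job := [
  ⟨4, 0x601028241a110a8643a21128a45a311a8e47d108a46239309a4e27cc06232198d06a361bc84462513c80442413444251009c0e0501, 0, 128, 0x1a04005a06009a0200da04, []⟩]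

theorem t9_495_59 : jobs 8 S9 b8_495 j9_495_59 = true := by decide +kernel

noncomputable def j9_495_60 : List Job := [
  ⟨3, 0x590ca66339a0d26a35d80c262319b0da6e37d00824221920924a25cc06232198d06a361bc84462513c80442413444251009c0e0501, 0, 128, 0x1a04005a06009a0200da04, []⟩]

theorem t9_495_60 : jobs 8 S9 b8_495 j9_495_60 = true := by decide +kernel

noncomputable def j9_495_61 : List Job := [
  ⟨2, 0x601028241a110a8643a21128a45a311a8e47d90ca66339a0d26a35d80c262319b0da6e37d00824221920924a25cc06232198d06a361bc88462613c80422412c44251009c0e0501, 0, 128, 0x1a02005a04009a0600da02, []⟩]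

theorem t9_495_61 : jobs 8 S9 b8_495 j9_495_61 = true := by decide +kernel

noncomputable def j9_495_62 : List Job := [
  ⟨1, 0x590ca66339a0d26a35d80c262319b0da6e37d108a46239309a4e27c40221209c0e0501, 0, 128, 0x0, []⟩]

theorem t9_495_62 : jobs 8 S9 b8_495 j9_495_62 = true := by decide +kernel

noncomputable def j9_495_63 : List Job := [
  ⟨0, 0x601028241a110a8643a21128a45a311a8e47d90ca66339a0d26a35d80c262319b0da6e37d108a46239309a4e27c40221209c0e0501, 0, 128, 0x0, []⟩]

theorem t9_495_63 : jobs 8 S9 b8_495 j9_495_63 = true := by decide +kernel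

theorem d9_495 : Dn 8 S9 b8_495 := dn_of (Js := j9_495_0 ++ (j9_495_1 ++ (j9_495_2 ++ (j9_495_3 ++ (j9_495_4 ++ (j9_495_5 ++ (j9_495_6 ++ (j9_495_7 ++ (j9_495_8 ++ (j9_495_9 ++ (j9_495_10 ++ (j9_495_11 ++ (j9_495_12 ++ (j9_495_13 ++ (j9_495_14 ++ (j9_495_15 ++ (j9_495_16 ++ (j9_495_17 ++ (j9_495_18 ++ (j9_495_19 ++ (j9_495_20 ++ (j9_495_21 ++ (j9_495_22 ++ (j9_495_23 ++ (j9_495_24 ++ (j9_495_25 ++ (j9_495_26 ++ (j9_495_27 ++ (j9_495_28 ++ (j9_495_29 ++ (j9_495_30 ++ (j9_495_31 ++ (j9_495_32 ++ (j9_495_33 ++ (j9_495_34 ++ (j9_495_35 ++ (j9_495_36 ++ (j9_495_37 ++ (j9_495_38 ++ (j9_495_39 ++ (j9_495_40 ++ (j9_495_41 ++ (j9_495_42 ++ (j9_495_43 ++ (j9_495_44 ++ (j9_495_45 ++ (j9_495_46 ++ (j9_495_47 ++ (j9_495_48 ++ (j9_495_49 ++ (j9_495_50 ++ (j9_495_51 ++ (j9_495_52 ++ (j9_495_53 ++ (j9_495_54 ++ (j9_495_55 ++ (j9_495_56 ++ (j9_495_57 ++ (j9_495_58 ++ (j9_495_59 ++ (j9_495_60 ++ (j9_495_61 ++ (j9_495_62 ++ (j9_495_63 ++ []))))))))))))))))))))))))))))))))))))))))))))))))))))))))))))))))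
  (jobs_append t9_495_0 <| jobs_append t9_495_1 <| jobs_append t9_495_2 <| jobs_append t9_495_3 <| jobs_append t9_495_4 <| jobs_append t9_495_5 <| jobs_append t9_495_6 <| jobs_append t9_495_7 <| jobs_append t9_495_8 <| jobs_append t9_495_9 <| jobs_append t9_495_10 <| jobs_append t9_495_11 <| jobs_append t9_495_12 <| jobs_append t9_495_13 <| jobs_append t9_495_14 <| jobs_append t9_495_15 <| jobs_append t9_495_16 <| jobs_append t9_495_17 <| jobs_append t9_495_18 <| jobs_append t9_495_19 <| jobs_append t9_495_20 <| jobs_append t9_495_21 <| jobs_append t9_495_22 <| jobs_append t9_495_23 <| jobs_append t9_495_24 <| jobs_append t9_495_25 <| jobs_append t9_495_26 <| jobs_append t9_495_27 <| jobs_append t9_495_28 <| jobs_append t9_495_29 <| jobs_append t9_495_30 <| jobs_append t9_495_31 <| jobs_append t9_495_32 <| jobs_append t9_495_33 <| jobs_append t9_495_34 <| jobs_append t9_495_35 <| jobs_append t9_495_36 <| jobs_append t9_495_37 <| jobs_append t9_495_38 <| jobs_append t9_495_39 <| jobs_append t9_495_40 <| jobs_append t9_495_41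 <| jobs_append t9_495_42 <| jobs_append t9_495_43 <| jobs_append t9_495_44 <| jobs_append t9_495_45 <| jobs_append t9_495_46 <| jobs_append t9_495_47 <| jobs_append t9_495_48 <| jobs_append t9_495_49 <| jobs_append t9_495_50 <| jobs_append t9_495_51 <| jobs_append t9_495_52 <| jobs_append t9_495_53 <| jobs_append t9_495_54 <| jobs_append t9_495_55 <| jobs_append t9_495_56 <| jobs_append t9_495_57 <| jobs_append t9_495_58 <| jobs_append t9_495_59 <| jobs_append t9_495_60 <| jobs_append t9_495_61 <| jobs_append t9_495_62 <| jobs_append t9_495_63 <| List.forall_mem_nil _) (by decide +kernel)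

end Cfsg.Agent.FS.N.Sw
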