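import Cfsg.Agent.FS.N.Sw.Seg
import Cfsg.Agent.FS.N.G.S9
import Cfsg.Agent.FS.N.G.L.L19

/-! The filter on the pairs for the order 512, part 48 (generated; helper52, project FS) -/

set_option autoImplicit false
set_option maxRecDepth 100000
set_option Elab.async false

namespace Cfsg.Agent.FS.N.Sw

open G

noncomputable def j9_496_0 : List Job := [
  ⟨63, 0x641229249a512a964ba61329a4da713a9e4fe01028241a110a8643a21128a45a311a8e47dc0e272399f0fa7e3fc804222118904a2613c180f0402c0e0501, 0, 192, 0x0, []⟩]

theorem t9_496_0 : jobs 8 S9 b8_496 j9_496_0 = true := by decide +kernel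

noncomputable def j9_496_1 : List Job := [
  ⟨62, 0x605068543a25168c47601048443221148d47dc0e272399f0fa7e3fc804222118904a2613c180f0402c0e0501, 0, 256, 0x0, []⟩]

theorem t9_496_1 : jobs 8 S9 b8_496 j9_496_1 = true := by decide +kernel

noncomputable def j9_496_2 : List Job := [
  ⟨61, 0x5c0e272399f0fa7e3fc140f040340e0501, 0, 120, 0x0, []⟩]

theorem t9_496_2 : jobs 8 S9 b8_496 j9_496_2 = true := by decide +kernel

noncomputable def j9_496_3 : List Job := [
  ⟨60, 0x641229249a512a964ba61329a4da713a9e4fe01028241a110a8643a21128a45a311a8e47dc0e272399f0fa7e3fc180f0402c0e0501, 0, 120, 0x0, []⟩]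

theorem t9_496_3 : jobs 8 S9 b8_496 j9_496_3 = true := by decide +kernel

noncomputable def j9_496_4 : List Job := [
  ⟨59, 0x5d0ea763b9e0f27a3dce0723a1d8f07a3e1fc804222118904a2613c140f040340e0501, 0, 120, 0x0, []⟩]

theorem t9_496_4 : jobs 8 S9 b8_496 j9_496_4 = true := by decide +kernel

noncomputable def j9_496_5 : List Job := [
  ⟨58, 0x641229249a512a964ba61329a4da713a9e4fe01028241a110a8643a21128a45a311a8e47dd0ea763b9e0f27a3dce0723a1d8f07a3e1fc804222118904a2613c180f0402c0e0501, 0, 120, 0x0, []⟩]

theorem t9_496_5 : jobs 8 S9 b8_496 j9_496_5 = true := by decide +kernel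

noncomputable def j9_496_6 : List Job := [
  ⟨57, 0x605068543a25168c47601048443221148d47dc0e272399f0fa7e3fc180f0402c0e0501, 0, 160, 0x0, []⟩]

theorem t9_496_6 : jobs 8 S9 b8_496 j9_496_6 = true := by decide +kernel

noncomputable def j9_496_7 : List Job := [
  ⟨56, 0x605068543a25168c47601048443221148d47dd0ea763b9e0f27a3dce0723a1d8f07a3e1fc804222118904a2613c180f0402c0e0501, 0, 160, 0x0, []⟩]

theorem t9_496_7 : jobs 8 S9 b8_496 j9_496_7 = true := by decide +kernel

noncomputable def j9_496_8 : List Job := [
  ⟨55, 0x601028241a110a8643a21128a45a311a8e47dc0e272399f0fa7e3fc502a160bc40221209c180f0402c0e0501, 0, 160, 0x0, []⟩]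

theorem t9_496_8 : jobs 8 S9 b8_496 j9_496_8 = true := by decide +kernel

noncomputable def j9_496_9 : List Job := [
  ⟨54, 0x601028241a110a8643a21128a45a311a8e47dd0ea763b9e0f27a3dce0723a1d8f07a3e1fc804222118904a2613c502a160bc40221209c180f0402c0e0501, 0, 160, 0x0, []⟩]

theorem t9_496_9 : jobs 8 S9 b8_496 j9_496_9 = true := by decide +kernel

noncomputable def j9_496_10 : List Job := [
  ⟨53, 0x5c0e272399f0fa7e3fc502a160bc44251009c140f040340e0501, 0, 120, 0x0, []⟩]

theorem t9_496_10 : jobs 8 S9 b8_496 j9_496_10 = true := by decide +kernel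

noncomputable def j9_496_11 : List Job := [
  ⟨52, 0x64526944b265369d4fe4124954ba61349c4f605068543a25168c47601048443221148d47dc0e272399f0fa7e3fc502a160bc44251009c180f0402c0e0501, 0, 200, 0xf40500f60400fa04010004010204010804010c04010e04011604011a04011c04011e04012004012404012a05012e05013405013805013a05014004014604014805014a04014c05015204015404015e04016004016205016c04017004017205017404017604017a05018005018405018605018a05018c05, []⟩]

theorem t9_496_11 : jobs 8 S9 b8_496 j9_496_11 = true := by decide +kernel

noncomputable def j9_496_12 : List Job := [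
  ⟨51, 0x5d0ea763b9e0f27a3dce0723a1d8f07a3e1fc804222118904a2613c502a160bc44251009c140f040340e0501, 0, 120, 0x0, []⟩]

theorem t9_496_12 : jobs 8 S9 b8_496 j9_496_12 = true := by decide +kernel

noncomputable def j9_496_13 : List Job := [
  ⟨50, 0x64526944b265369d4fe4124954ba61349c4f605068543a25168c47601048443221148d47dd0ea763b9e0f27a3dce0723a1d8f07a3e1fc804222118904a2613c502a160bc48271008c140d0403c0e0501, 0, 200, 0xf20400f40100f60100f801010a01010c01010e01011001011804011a05011c05011e01012004012201012e01013005013201013401013a04014001014204014604014c01015004015805015a01015e01016201016601016801016c01017004018205018401018805018a01018c01, []⟩]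

theorem t9_496_13 : jobs 8 S9 b8_496 j9_496_13 = true := by decide +kernel

noncomputable def j9_496_14 : List Job := [
  ⟨49, 0x601028241a110a8643a21128a45a311a8e47dc0e272399f0fa7e3fc804222118904a2613c502a160bc40221209c180f0402c0e0501, 0, 256, 0x0, []⟩]

theorem t9_496_14 : jobs 8 S9 b8_496 j9_496_14 = true := by decide +kernel

noncomputable def j9_496_15 : List Job := [
  ⟨48, 0x5c0e272399f0fa7e3fc804222118904a2613c502a160bc48271008c140f040340e0501, 0, 192, 0x0, []⟩]

theorem t9_496_15 : jobs 8 S9 b8_496 j9_496_15 = true := by decide +kernel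

noncomputable def j9_496_16 : List Job := [
  ⟨47, 0x64526954ba65369c4f64124944b261349d4fe05068543a25168c47601048443221148d47dc0e272399f0fa7e3fc804222118904a2613c502a160bc442710094180f0402c0e0501, 0, 320, 0x401000601000801000a04000c01001004001204001401001601001a01001e01002001002204002401002801002c01002e01003004003204003604003801003a01003c01003e01004201004401004801004c01004e05005001005201005601005801005a01005c01005e01006401006605006801006a01006c01007001007201007401007605007a05007e05008001020204020401020601020801020a04020c01020e04021001021401021601021a05022001022204022401022601022805022a04022c01022e01023001023204023805023c01023e04024201024401024601024801024a04024c01024e01025001025201025801025c01025e01026201026401026601026801026a04026c01026e01027001027401027601027a05028001, []⟩]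

theorem t9_496_16 : jobs 8 S9 b8_496 j9_496_16 = true := by decide +kernel

noncomputable def j9_496_17 : List Job := [
  ⟨46, 0x590ca66339a0d26a35d108a46239309a4e27d00824221920924a25c40221209c0e0501, 0, 128, 0x0, []⟩]

theorem t9_496_17 : jobs 8 S9 b8_496 j9_496_17 = true := by decide +kernel

noncomputable def j9_496_18 : List Job := [
  ⟨45, 0x580c262319b0da6e37d108a46239309a4e27d00824221920924a25ce0723a1d8f07a3e1fc804222118904a2613c40221209c0e0501, 0, 128, 0x201000401000601000801001201001401001601001801008201008401008601008801009201009401009601009801, []⟩]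

theorem t9_496_18 : jobs 8 S9 b8_496 j9_496_18 = true := by decide +kernel

noncomputable def j9_496_19 : List Job := [
  ⟨44, 0x590ca66339a0d26a35d108a46239309a4e27d00824221920924a25c40221209c0e0501, 0, 96, 0x0, []⟩]

theorem t9_496_19 : jobs 8 S9 b8_496 j9_496_19 = true := by decide +kernel

noncomputable def j9_496_20 : List Job := [
  ⟨43, 0x590ca66339a0d26a35d108a46239309a4e27d00824221920924a25c40221209c0e0501, 0, 96, 0x0, []⟩]

theorem t9_496_20 : jobs 8 S9 b8_496 j9_496_20 = true := by decide +kernel

noncomputable def j9_496_21 : List Job := [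
  ⟨42, 0x590ca66339a0d26a35c804222118904a2613c40221209c0e0501, 0, 128, 0x0, []⟩]

theorem t9_496_21 : jobs 8 S9 b8_496 j9_496_21 = true := by decide +kernel

noncomputable def j9_496_22 : List Job := [
  ⟨41, 0x580c262319b0da6e37d50aa562b970ba5e2fd40a25229960b25a2dd108a46239309a4e27d00824221920924a25c804222118904a2613c40221209c0e0501, 0, 128, 0xa01000c01000e01001001001a01001c01001e01002001008a01008c01008e01009001009a01009c01009e0100a001, []⟩]

theorem t9_496_22 : jobs 8 S9 b8_496 j9_496_22 = true := by decide +kernel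

noncomputable def j9_496_23 : List Job := [
  ⟨40, 0x590ca66339a0d26a35c804222118904a2613c44251009c0e0501, 0, 96, 0x60600260600460300660200840200940600a40600b402, []⟩]

theorem t9_496_23 : jobs 8 S9 b8_496 j9_496_23 = true := by decide +kernel

noncomputable def j9_496_24 : List Job := [
  ⟨39, 0x590ca66339a0d26a35c804222118904a2613c4427100940e0501, 0, 96, 0x602002603004603006603, []⟩]

theorem t9_496_24 : jobs 8 S9 b8_496 j9_496_24 = true := by decide +kernel

noncomputable def j9_496_25 : List Job := [
  ⟨38, 0x540a25229960b25a2dd108a46239309a4e27c804222118904a2613c40221209c0e0501, 0, 128, 0x0, []⟩]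

theorem t9_496_25 : jobs 8 S9 b8_496 j9_496_25 = true := by decide +kernel

noncomputable def j9_496_26 : List Job := [
  ⟨37, 0x590ca66339a0d26a35d80c262319b0da6e37d50aa562b970ba5e2fd00824221920924a25c804222118904a2613c40221209c0e0501, 0, 128, 0x201000401000e01001001001201001401001e01002001008201008401008e01009001009201009401009e0100a001, []⟩]

theorem t9_496_26 : jobs 8 S9 b8_496 j9_496_26 = true := by decide +kernel

noncomputable def j9_496_27 : List Job := [
  ⟨36, 0x540a25229960b25a2dd108a46239309a4e27c804222118904a2613c40221209c0e0501, 0, 96, 0x0, []⟩]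

theorem t9_496_27 : jobs 8 S9 b8_496 j9_496_27 = true := by decide +kernel

noncomputable def j9_496_28 : List Job := [
  ⟨35, 0x540a25229960b25a2dd108a46239309a4e27c804222118904a2613c40221209c0e0501, 0, 96, 0x0, []⟩]

theorem t9_496_28 : jobs 8 S9 b8_496 j9_496_28 = true := by decide +kernel

noncomputable def j9_496_29 : List Job := [
  ⟨34, 0x590ca66339a0d26a35d80c262319b0da6e37d50aa562b970ba5e2fd00824221920924a25c804222118904a2613c40221209c0e0501, 0, 96, 0x201000401000e01001001001201001401001e01002001008201008801008a01009001, []⟩]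

theorem t9_496_29 : jobs 8 S9 b8_496 j9_496_29 = true := by decide +kernel

noncomputable def j9_496_30 : List Job := [
  ⟨33, 0x590ca66339a0d26a35d80c262319b0da6e37d40a25229960b25a2dd108a46239309a4e27c40221209c0e0501, 0, 80, 0x0, []⟩]

theorem t9_496_30 : jobs 8 S9 b8_496 j9_496_30 = true := by decide +kernel

noncomputable def j9_496_31 : List Job := [
  ⟨32, 0x550aa562b970ba5e2fd00824221920924a25c40221209c0e0501, 0, 80, 0x0, []⟩]

theorem t9_496_31 : jobs 8 S9 b8_496 j9_496_31 = true := by decide +kernel

noncomputable def j9_496_32 : List Job := [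
  ⟨31, 0x540a25229960b25a2dd108a46239309a4e27ce0723a1d8f07a3e1fc804222118904a2613c40221209c0e0501, 0, 80, 0x0, []⟩]

theorem t9_496_32 : jobs 8 S9 b8_496 j9_496_32 = true := by decide +kernel

noncomputable def j9_496_33 : List Job := [
  ⟨30, 0x590ca66339a0d26a35d80c262319b0da6e37d50aa562b970ba5e2fd00824221920924a25ce0723a1d8f07a3e1fc804222118904a2613c40221209c0e0501, 0, 80, 0x601000801000a01000c01001601001801001a01001c01005601005801005a01005c01006601006801006a01006c01, []⟩]

theorem t9_496_33 : jobs 8 S9 b8_496 j9_496_33 = true := by decide +kernel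

noncomputable def j9_496_34 : List Job := [
  ⟨29, 0x590ca66339a0d26a35d80c262319b0da6e37d40a25229960b25a2dd108a46239309a4e27c40221209c0e0501, 0, 60, 0x0, []⟩]

theorem t9_496_34 : jobs 8 S9 b8_496 j9_496_34 = true := by decide +kernel

noncomputable def j9_496_35 : List Job := [
  ⟨28, 0x590ca66339a0d26a35d80c262319b0da6e37d40a25229960b25a2dd108a46239309a4e27c40221209c0e0501, 0, 60, 0x0, []⟩]

theorem t9_496_35 : jobs 8 S9 b8_496 j9_496_35 = true := by decide +kernel

noncomputable def j9_496_36 : List Job := [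
  ⟨27, 0x550aa562b970ba5e2fd00824221920924a25c40221209c0e0501, 0, 60, 0x0, []⟩]

theorem t9_496_36 : jobs 8 S9 b8_496 j9_496_36 = true := by decide +kernel

noncomputable def j9_496_37 : List Job := [
  ⟨26, 0x550aa562b970ba5e2fd00824221920924a25c40221209c0e0501, 0, 60, 0x0, []⟩]

theorem t9_496_37 : jobs 8 S9 b8_496 j9_496_37 = true := by decide +kernel

noncomputable def j9_496_38 : List Job := [
  ⟨25, 0x580c262319b0da6e37d50aa562b970ba5e2fd00824221920924a25c804222118904a2613c180f0402c0e0501, 0, 192, 0xa01000c01001a01001c01010601010e01, []⟩]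

theorem t9_496_38 : jobs 8 S9 b8_496 j9_496_38 = true := by decide +kernel

noncomputable def j9_496_39 : List Job := [
  ⟨24, 0x580c262319b0da6e37d50aa562b970ba5e2fd00824221920924a25c804222118904a2613c180f0402c0e0501, 0, 192, 0xa01000c01001a01001c01010601010e01, []⟩]

theorem t9_496_39 : jobs 8 S9 b8_496 j9_496_39 = true := by decide +kernel

noncomputable def j9_496_40 : List Job := [
  ⟨23, 0x580c262319b0da6e37d50aa562b970ba5e2fd00824221920924a25c804222118904a2613c180f0402c0e0501, 0, 256, 0xa01000c01001a01001c01010a01010c01011a01011c01, []⟩]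

theorem t9_496_40 : jobs 8 S9 b8_496 j9_496_40 = true := by decide +kernel

noncomputable def j9_496_41 : List Job := [
  ⟨22, 0x590ca66339a0d26a35d50aa562b970ba5e2fd00824221920924a25c180f0402c0e0501, 0, 120, 0x0, []⟩]

theorem t9_496_41 : jobs 8 S9 b8_496 j9_496_41 = true := by decide +kernel

noncomputable def j9_496_42 : List Job := [
  ⟨21, 0x590ca66339a0d26a35d50aa562b970ba5e2fd00824221920924a25c180f0402c0e0501, 0, 120, 0x0, []⟩]

theorem t9_496_42 : jobs 8 S9 b8_496 j9_496_42 = true := by decide +kernel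

noncomputable def j9_496_43 : List Job := [
  ⟨20, 0x580c262319b0da6e37d50aa562b970ba5e2fd00824221920924a25ce0723a1d8f07a3e1fc804222118904a2613c180f0402c0e0501, 0, 120, 0xe01001001001e0100200100a80100b001, []⟩]

theorem t9_496_43 : jobs 8 S9 b8_496 j9_496_43 = true := by decide +kernel

noncomputable def j9_496_44 : List Job := [
  ⟨19, 0x580c262319b0da6e37d50aa562b970ba5e2fd00824221920924a25ce0723a1d8f07a3e1fc804222118904a2613c180f0402c0e0501, 0, 120, 0xe01001001001e0100200100a80100b001, []⟩]

theorem t9_496_44 : jobs 8 S9 b8_496 j9_496_44 = true := by decide +kernel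

noncomputable def j9_496_45 : List Job := [
  ⟨18, 0x590ca66339a0d26a35d50aa562b970ba5e2fd00824221920924a25c180f0402c0e0501, 0, 160, 0x0, []⟩]

theorem t9_496_45 : jobs 8 S9 b8_496 j9_496_45 = true := by decide +kernel

noncomputable def j9_496_46 : List Job := [
  ⟨17, 0x580c262319b0da6e37d50aa562b970ba5e2fd00824221920924a25ce0723a1d8f07a3e1fc804222118904a2613c180f0402c0e0501, 0, 160, 0xe01001001001e0100200100ae0100b00100be0100c001, []⟩]

theorem t9_496_46 : jobs 8 S9 b8_496 j9_496_46 = true := by decide +kernel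

noncomputable def j9_496_47 : List Job := [
  ⟨16, 0x590ca66339a0d26a35d40a25229960b25a2dd00824221920924a25c502a160bc40221209c180f0402c0e0501, 0, 160, 0x0, []⟩]

theorem t9_496_47 : jobs 8 S9 b8_496 j9_496_47 = true := by decide +kernel

noncomputable def j9_496_48 : List Job := [
  ⟨15, 0x580c262319b0da6e37d40a25229960b25a2dd00824221920924a25ce0723a1d8f07a3e1fc804222118904a2613c502a160bc40221209c180f0402c0e0501, 0, 160, 0xa01000c01001a01001c0100aa0100ac0100ba0100bc01, []⟩]

theorem t9_496_48 : jobs 8 S9 b8_496 j9_496_48 = true := by decide +kernel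

noncomputable def j9_496_49 : List Job := [
  ⟨14, 0x590ca66339a0d26a35d40a25229960b25a2dd00824221920924a25c502a160bc442710094180f0402c0e0501, 0, 120, 0x0, []⟩]

theorem t9_496_49 : jobs 8 S9 b8_496 j9_496_49 = true := by decide +kernel

noncomputable def j9_496_50 : List Job := [
  ⟨13, 0x590ca66339a0d26a35d40a25229960b25a2dd00824221920924a25c502a160bc44251009c180f0402c0e0501, 0, 200, 0xf20500f40100f60400f80100fa0400fe05010205010604010a05010c01010e05011001011404011805011a05011c04011e01012005012201012405012804012a01012c01012e05013005013e04014001014205014604014a05014c01014e05015005015205015401015604015801015a05015e05016201016404016601016805016c04017005017405017601017804017a01017c01018e01, []⟩]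

theorem t9_496_50 : jobs 8 S9 b8_496 j9_496_50 = true := by decide +kernel

noncomputable def j9_496_51 : List Job := [
  ⟨12, 0x580c262319b0da6e37d40a25229960b25a2dd00824221920924a25ce0723a1d8f07a3e1fc804222118904a2613c502a160bc442710094140d0403c0e0501, 0, 120, 0xa01000c01001a01001c0100a60100ae01, []⟩]

theorem t9_496_51 : jobs 8 S9 b8_496 j9_496_51 = true := by decide +kernel

noncomputable def j9_496_52 : List Job := [
  ⟨11, 0x580c262319b0da6e37d40a25229960b25a2dd00824221920924a25ce0723a1d8f07a3e1fc804222118904a2613c502a160bc48271008c140d0403c0e0501, 0, 200, 0xa01000c01001a01001c0100a60100ae0100f20400f40100f60500fa0400fe05010005010204010605010a05010e05011405011804011a05011c04012004012404012805014204014605014a04014c01014e05015001015204015605015a04015e05016404016805016c04017004017404017805, []⟩]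

theorem t9_496_52 : jobs 8 S9 b8_496 j9_496_52 = true := by decide +kernel

noncomputable def j9_496_53 : List Job := [
  ⟨10, 0x580c262319b0da6e37d40a25229960b25a2dd00824221920924a25c804222118904a2613c502a160bc40221209c180f0402c0e0501, 0, 256, 0xe01001001001e01002001010e01011001011e01012001, []⟩]

theorem t9_496_53 : jobs 8 S9 b8_496 j9_496_53 = true := by decide +kernel

noncomputable def j9_496_54 : List Job := [
  ⟨9, 0x580c262319b0da6e37d40a25229960b25a2dd00824221920924a25c804222118904a2613c502a160bc48271008c140d0403c0e0501, 0, 192, 0xe01001001001e01002001010801011001, []⟩]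

theorem t9_496_54 : jobs 8 S9 b8_496 j9_496_54 = true := by decide +kernel

noncomputable def j9_496_55 : List Job := [
  ⟨8, 0x580c262319b0da6e37d40a25229960b25a2dd00824221920924a25c804222118904a2613c502a160bc442710094180f0402c0e0501, 0, 320, 0x401000801000a05000c01000e04001001001205001604002204002605002a04002c01002e05003001003204003605003a05003c01003e04004001004a01004e01005a01005e01006201006401006601006801006a04006e01008e01009001009e0100a001018801019001020205020401020601020801020a01020c05020e04021001022204022601022c05023001023204023601023c04024001026401026804026a01026e01, []⟩]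

theorem t9_496_55 : jobs 8 S9 b8_496 j9_496_55 = true := by decide +kernel

noncomputable def j9_496_56 : List Job := [
  ⟨7, 0x601028241a110a8643a21128a45a311a8e47d90ca66339a0d26a35d108a46239309a4e27d00824221920924a25c40221209c0e0501, 0, 128, 0x0, []⟩]

theorem t9_496_56 : jobs 8 S9 b8_496 j9_496_56 = true := by decide +kernel

noncomputable def j9_496_57 : List Job := [
  ⟨6, 0x601028241a110a8643a21128a45a311a8e47d80c262319b0da6e37d108a46239309a4e27d00824221920924a25ce0723a1d8f07a3e1fc804222118904a2613c40221209c0e0501, 0, 128, 0x201000401000601000801001201001401001601001801008201008401008601008801009201009401009601009801, []⟩]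

theorem t9_496_57 : jobs 8 S9 b8_496 j9_496_57 = true := by decide +kernel

noncomputable def j9_496_58 : List Job := [
  ⟨5, 0x590ca66339a0d26a35d108a46239309a4e27d00824221920924a25c40221209c0e0501, 0, 96, 0x0, []⟩]

theorem t9_496_58 : jobs 8 S9 b8_496 j9_496_58 = true := by decide +kernel

noncomputable def j9_496_59 : List Job := [
  ⟨4, 0x641229249a512a964ba61329a4da713a9e4fe01028241a110a8643a21128a45a311a8e47d90ca66339a0d26a35d108a46239309a4e27d00824221920924a25c40221209c0e0501, 0, 96, 0x0, []⟩]

theorem t9_496_59 : jobs 8 S9 b8_496 j9_496_59 = true := by decide +kernel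

noncomputable def j9_496_60 : List Job := [
  ⟨3, 0x580c262319b0da6e37d108a46239309a4e27d00824221920924a25ce0723a1d8f07a3e1fc804222118904a2613c40221209c0e0501, 0, 96, 0x201000401000601000801001201001401001601001801008201008401008a01008c01, []⟩]

theorem t9_496_60 : jobs 8 S9 b8_496 j9_496_60 = true := by decide +kernel

noncomputable def j9_496_61 : List Job := [
  ⟨2, 0x601028241a110a8643a21128a45a311a8e47d90ca66339a0d26a35c804222118904a2613c40221209c0e0501, 0, 128, 0x0, []⟩]

theorem t9_496_61 : jobs 8 S9 b8_496 j9_496_61 = true := by decide +kernel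

noncomputable def j9_496_62 : List Job := [
  ⟨1, 0x601028241a110a8643a21128a45a311a8e47d80c262319b0da6e37d50aa562b970ba5e2fd40a25229960b25a2dd108a46239309a4e27d00824221920924a25c804222118904a2613c40221209c0e0501, 0, 128, 0xa01000c01000e01001001001a01001c01001e01002001008a01008c01008e01009001009a01009c01009e0100a001, []⟩]

theorem t9_496_62 : jobs 8 S9 b8_496 j9_496_62 = true := by decide +kernel

noncomputable def j9_496_63 : List Job := [
  ⟨0, 0x590ca66339a0d26a35c804222118904a2613c48271008c0e0501, 0, 96, 0x60400260200460500660400840400940200a40400b402, []⟩]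

theorem t9_496_63 : jobs 8 S9 b8_496 j9_496_63 = true := by decide +kernel

theorem d9_496 : Dn 8 S9 b8_496 := dn_of (Js := j9_496_0 ++ (j9_496_1 ++ (j9_496_2 ++ (j9_496_3 ++ (j9_496_4 ++ (j9_496_5 ++ (j9_496_6 ++ (j9_496_7 ++ (j9_496_8 ++ (j9_496_9 ++ (j9_496_10 ++ (j9_496_11 ++ (j9_496_12 ++ (j9_496_13 ++ (j9_496_14 ++ (j9_496_15 ++ (j9_496_16 ++ (j9_496_17 ++ (j9_496_18 ++ (j9_496_19 ++ (j9_496_20 ++ (j9_496_21 ++ (j9_496_22 ++ (j9_496_23 ++ (j9_496_24 ++ (j9_496_25 ++ (j9_496_26 ++ (j9_496_27 ++ (j9_496_28 ++ (j9_496_29 ++ (j9_496_30 ++ (j9_496_31 ++ (j9_496_32 ++ (j9_496_33 ++ (j9_496_34 ++ (j9_496_35 ++ (j9_496_36 ++ (j9_496_37 ++ (j9_496_38 ++ (j9_496_39 ++ (j9_496_40 ++ (j9_496_41 ++ (j9_496_42 ++ (j9_496_43 ++ (j9_496_44 ++ (j9_496_45 ++ (j9_496_46 ++ (j9_496_47 ++ (j9_496_48 ++ (j9_496_49 ++ (j9_496_50 ++ (j9_496_51 ++ (j9_496_52 ++ (j9_496_53 ++ (j9_496_54 ++ (j9_496_55 ++ (j9_496_56 ++ (j9_496_57 ++ (j9_496_58 ++ (j9_496_59 ++ (j9_496_60 ++ (j9_496_61 ++ (j9_496_62 ++ (j9_496_63 ++ []))))))))))))))))))))))))))))))))))))))))))))))))))))))))))))))))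
  (jobs_append t9_496_0 <| jobs_append t9_496_1 <| jobs_append t9_496_2 <| jobs_append t9_496_3 <| jobs_append t9_496_4 <| jobs_append t9_496_5 <| jobs_append t9_496_6 <| jobs_append t9_496_7 <| jobs_append t9_496_8 <| jobs_append t9_496_9 <| jobs_append t9_496_10 <| jobs_append t9_496_11 <| jobs_append t9_496_12 <| jobs_append t9_496_13 <| jobs_append t9_496_14 <| jobs_append t9_496_15 <| jobs_append t9_496_16 <| jobs_append t9_496_17 <| jobs_append t9_496_18 <| jobs_append t9_496_19 <| jobs_append t9_496_20 <| jobs_append t9_496_21 <| jobs_append t9_496_22 <| jobs_append t9_496_23 <| jobs_append t9_496_24 <| jobs_append t9_496_25 <| jobs_append t9_496_26 <| jobs_append t9_496_27 <| jobs_append t9_496_28 <| jobs_append t9_496_29 <| jobs_append t9_496_30 <| jobs_append t9_496_31 <| jobs_append t9_496_32 <| jobs_append t9_496_33 <| jobs_append t9_496_34 <| jobs_append t9_496_35 <| jobs_append t9_496_36 <| jobs_append t9_496_37 <| jobs_append t9_496_38 <| jobs_append t9_496_39 <| jobs_append t9_496_40 <| jobs_append t9_496_41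 <| jobs_append t9_496_42 <| jobs_append t9_496_43 <| jobs_append t9_496_44 <| jobs_append t9_496_45 <| jobs_append t9_496_46 <| jobs_append t9_496_47 <| jobs_append t9_496_48 <| jobs_append t9_496_49 <| jobs_append t9_496_50 <| jobs_append t9_496_51 <| jobs_append t9_496_52 <| jobs_append t9_496_53 <| jobs_append t9_496_54 <| jobs_append t9_496_55 <| jobs_append t9_496_56 <| jobs_append t9_496_57 <| jobs_append t9_496_58 <| jobs_append t9_496_59 <| jobs_append t9_496_60 <| jobs_append t9_496_61 <| jobs_append t9_496_62 <| jobs_append t9_496_63 <| List.forall_mem_nil _) (by decide +kernel)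

noncomputable def j9_497_0 : List Job := [
  ⟨63, 0x580c262319b0da6e37d50aa562b970ba5e2fd00824221920924a25ce0723a1d8f07a3e1fc804222118904a2613c140f040340e0501, 0, 160, 0xe01001001001e0100200100ae0100b00100be0100c001, []⟩]

theorem t9_497_0 : jobs 8 S9 b8_497 j9_497_0 = true := by decide +kernel

noncomputable def j9_497_1 : List Job := [
  ⟨62, 0x601028241a110a8643a21128a45a311a8e47d80c262319b0da6e37d50aa562b970ba5e2fd00824221920924a25ce0723a1d8f07a3e1fc804222118904a2613c140f040340e0501, 0, 160, 0xe01001001001e0100200100ae0100b00100be0100c001, []⟩]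

theorem t9_497_1 : jobs 8 S9 b8_497 j9_497_1 = true := by decide +kernel

noncomputable def j9_497_2 : List Job := [
  ⟨61, 0x590ca66339a0d26a35d50aa562b970ba5e2fd00824221920924a25c140f040340e0501, 0, 160, 0x0, []⟩]

theorem t9_497_2 : jobs 8 S9 b8_497 j9_497_2 = true := by decide +kernel

noncomputable def j9_497_3 : List Job := [
  ⟨60, 0x609068643a29168c46e01028442a21128e47d90ca66339a0d26a35d50aa562b970ba5e2fd00824221920924a25c140f040340e0501, 0, 160, 0x0, []⟩]

theorem t9_497_3 : jobs 8 S9 b8_497 j9_497_3 = true := by decide +kernel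

noncomputable def j9_497_4 : List Job := [
  ⟨59, 0x580c262319b0da6e37d50aa562b970ba5e2fd00824221920924a25ce0723a1d8f07a3e1fc804222118904a2613c140f040340e0501, 0, 160, 0xe01001001001e0100200100ae0100b00100be0100c001, []⟩]

theorem t9_497_4 : jobs 8 S9 b8_497 j9_497_4 = true := by decide +kernel

noncomputable def j9_497_5 : List Job := [
  ⟨58, 0x609068643a29168c46e01028442a21128e47d80c262319b0da6e37d50aa562b970ba5e2fd00824221920924a25ce0723a1d8f07a3e1fc804222118904a2613c140f040340e0501, 0, 160, 0xe01001001001e0100200100ae0100b00100be0100c001, []⟩]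

theorem t9_497_5 : jobs 8 S9 b8_497 j9_497_5 = true := by decide +kernel

noncomputable def j9_497_6 : List Job := [
  ⟨57, 0x590ca66339a0d26a35d40a25229960b25a2dd00824221920924a25c502a160bc44251009c140f040340e0501, 0, 160, 0x0, []⟩]

theorem t9_497_6 : jobs 8 S9 b8_497 j9_497_6 = true := by decide +kernel

noncomputable def j9_497_7 : List Job := [
  ⟨56, 0x601028241a110a8643a21128a45a311a8e47d90ca66339a0d26a35d40a25229960b25a2dd00824221920924a25c502a160bc44251009c140f040340e0501, 0, 160, 0x0, []⟩]

theorem t9_497_7 : jobs 8 S9 b8_497 j9_497_7 = true := by decide +kernel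

noncomputable def j9_497_8 : List Job := [
  ⟨55, 0x580c262319b0da6e37d40a25229960b25a2dd00824221920924a25ce0723a1d8f07a3e1fc804222118904a2613c502a160bc44251009c140f040340e0501, 0, 160, 0xa01000c01001a01001c0100aa0100ac0100ba0100bc01, []⟩]

theorem t9_497_8 : jobs 8 S9 b8_497 j9_497_8 = true := by decide +kernel

noncomputable def j9_497_9 : List Job := [
  ⟨54, 0x601028241a110a8643a21128a45a311a8e47d80c262319b0da6e37d40a25229960b25a2dd00824221920924a25ce0723a1d8f07a3e1fc804222118904a2613c502a160bc48271008c140d0403c0e0501, 0, 160, 0xa01000c01001a01001c0100aa0100ac0100ba0100bc01, []⟩]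

theorem t9_497_9 : jobs 8 S9 b8_497 j9_497_9 = true := by decide +kernel

noncomputable def j9_497_10 : List Job := [
  ⟨53, 0x590ca66339a0d26a35d40a25229960b25a2dd00824221920924a25c502a160bc40221209c140f040340e0501, 0, 160, 0x0, []⟩]

theorem t9_497_10 : jobs 8 S9 b8_497 j9_497_10 = true := by decide +kernel

noncomputable def j9_497_11 : List Job := [
  ⟨52, 0x609068643a29168c46e01028442a21128e47d90ca66339a0d26a35d40a25229960b25a2dd00824221920924a25c502a160bc40221209c140f040340e0501, 0, 240, 0x14401014801014a01014e01015202015601015c01016001016402016a03016e01017201017403017801017a01017c01017e03018002018e02019001019a01019c01019e0101a00301a20101a40101a60101a80101b20101b40201b60101c40101c60101c80101ca0101cc0101de01, []⟩]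

theorem t9_497_11 : jobs 8 S9 b8_497 j9_497_11 = true := by decide +kernel

noncomputable def j9_497_12 : List Job := [
  ⟨51, 0x580c262319b0da6e37d40a25229960b25a2dd00824221920924a25ce0723a1d8f07a3e1fc804222118904a2613c502a160bc40221209c140f040340e0501, 0, 160, 0xa01000c01001a01001c0100aa0100ac0100ba0100bc01, []⟩]

theorem t9_497_12 : jobs 8 S9 b8_497 j9_497_12 = true := by decide +kernel

noncomputable def j9_497_13 : List Job := [
  ⟨50, 0x605068543a25168c47601048443221148d47d80c262319b0da6e37d40a25229960b25a2dd00824221920924a25ce0723a1d8f07a3e1fc804222118904a2613c502a160bc40221209c140d0403c0e0501, 0, 240, 0xa01000c01001a01001c0100aa0100ac0100ba0100bc01014204014401014e05015005016405016a05019204019c01019e0501a00101b404, []⟩]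

theorem t9_497_13 : jobs 8 S9 b8_497 j9_497_13 = true := by decide +kernel

noncomputable def j9_497_14 : List Job := [
  ⟨49, 0x580c262319b0da6e37d40a25229960b25a2dd00824221920924a25c804222118904a2613c502a160bc40221209c140f040340e0501, 0, 256, 0xe01001001001e01002001010e01011001011e01012001, []⟩]

theorem t9_497_14 : jobs 8 S9 b8_497 j9_497_14 = true := by decide +kernel

noncomputable def j9_497_15 : List Job := [
  ⟨48, 0x601028241a110a8643a21128a45a311a8e47d80c262319b0da6e37d40a25229960b25a2dd00824221920924a25c804222118904a2613c502a160bc40221209c140d0403c0e0501, 0, 256, 0xe01001001001e01002001010e01011001011e01012001, []⟩]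

theorem t9_497_15 : jobs 8 S9 b8_497 j9_497_15 = true := by decide +kernel

noncomputable def j9_497_16 : List Job := [
  ⟨47, 0x580c262319b0da6e37d40a25229960b25a2dd00824221920924a25c804222118904a2613c502a160bc48271008c140f040340e0501, 0, 256, 0xe01001001001e01002001010e01011001011e01012001, []⟩]

theorem t9_497_16 : jobs 8 S9 b8_497 j9_497_16 = true := by decide +kernel

noncomputable def j9_497_17 : List Job := [
  ⟨46, 0x605068543a25168c47601048443221148d47d80c262319b0da6e37d40a25229960b25a2dd00824221920924a25c804222118904a2613c502a160bc442710094180f0402c0e0501, 0, 384, 0x401000801000a05000c01000e04001001001205001604002204002605002a04002c01002e05003001003204003605003a05003c01003e04004001004a01004e01005a01005e01006201006401006601006801006a05006e01008e01009001009e0100a001018e01019001019e0101a001028204028401028601028801028a01028c05028e0402900102a20402a60102ac0502b00102b20402b60102bc0402c00102e40102e80402ea0102ee01, []⟩]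

theorem t9_497_17 : jobs 8 S9 b8_497 j9_497_17 = true := by decide +kernel

noncomputable def j9_497_18 : List Job := [
  ⟨45, 0x5d0ea763b9e0f27a3dc40221209c0e0501, 0, 128, 0x0, []⟩]

theorem t9_497_18 : jobs 8 S9 b8_497 j9_497_18 = true := by decide +kernel

noncomputable def j9_497_19 : List Job := [
  ⟨44, 0x5c0e272399f0fa7e3fce0723a1d8f07a3e1fc804222118904a2613c40221209c0e0501, 0, 128, 0x0, []⟩]

theorem t9_497_19 : jobs 8 S9 b8_497 j9_497_19 = true := by decide +kernel

noncomputable def j9_497_20 : List Job := [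
  ⟨43, 0x5d0ea763b9e0f27a3dc804222118904a2613c40221209c0e0501, 0, 128, 0x0, []⟩]

theorem t9_497_20 : jobs 8 S9 b8_497 j9_497_20 = true := by decide +kernel

noncomputable def j9_497_21 : List Job := [
  ⟨42, 0x5c0e272399f0fa7e3fc804222118904a2613c40221209c0e0501, 0, 128, 0x0, []⟩]

theorem t9_497_21 : jobs 8 S9 b8_497 j9_497_21 = true := by decide +kernel

noncomputable def j9_497_22 : List Job := [
  ⟨41, 0x4804222118904a2613c40221209c0e0501, 0, 128, 0x0, []⟩]

theorem t9_497_22 : jobs 8 S9 b8_497 j9_497_22 = true := by decide +kernel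

noncomputable def j9_497_23 : List Job := [
  ⟨40, 0x5d0ea763b9e0f27a3ddc0e272399f0fa7e3fc804222118904a2613c40221209c0e0501, 0, 128, 0x0, []⟩]

theorem t9_497_23 : jobs 8 S9 b8_497 j9_497_23 = true := by decide +kernel

noncomputable def j9_497_24 : List Job := [
  ⟨39, 0x4804222118904a2613c40221209c0e0501, 0, 96, 0x0, []⟩]

theorem t9_497_24 : jobs 8 S9 b8_497 j9_497_24 = true := by decide +kernel

noncomputable def j9_497_25 : List Job := [
  ⟨38, 0x440221209c0e0501, 0, 80, 0x0, []⟩]

theorem t9_497_25 : jobs 8 S9 b8_497 j9_497_25 = true := by decide +kernel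

noncomputable def j9_497_26 : List Job := [
  ⟨37, 0x5d0ea763b9e0f27a3ddc0e272399f0fa7e3fc40221209c0e0501, 0, 80, 0x0, []⟩]

theorem t9_497_26 : jobs 8 S9 b8_497 j9_497_26 = true := by decide +kernel

noncomputable def j9_497_27 : List Job := [
  ⟨36, 0x5d0ea763b9e0f27a3ddc0e272399f0fa7e3fce0723a1d8f07a3e1fc804222118904a2613c40221209c0e0501, 0, 80, 0x0, []⟩]

theorem t9_497_27 : jobs 8 S9 b8_497 j9_497_27 = true := by decide +kernel

noncomputable def j9_497_28 : List Job := [
  ⟨35, 0x4e0723a1d8f07a3e1fc804222118904a2613c40221209c0e0501, 0, 80, 0x0, []⟩]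

theorem t9_497_28 : jobs 8 S9 b8_497 j9_497_28 = true := by decide +kernel

noncomputable def j9_497_29 : List Job := [
  ⟨34, 0x5c0e272399f0fa7e3fc804222118904a2613c140d0403c0e0501, 0, 192, 0x0, []⟩]

theorem t9_497_29 : jobs 8 S9 b8_497 j9_497_29 = true := by decide +kernel

noncomputable def j9_497_30 : List Job := [
  ⟨33, 0x5c0e272399f0fa7e3fc804222118904a2613c180f0402c0e0501, 0, 192, 0x0, []⟩]

theorem t9_497_30 : jobs 8 S9 b8_497 j9_497_30 = true := by decide +kernel

noncomputable def j9_497_31 : List Job := [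
  ⟨32, 0x5c0e272399f0fa7e3fc804222118904a2613c180f0402c0e0501, 0, 256, 0x0, []⟩]

theorem t9_497_31 : jobs 8 S9 b8_497 j9_497_31 = true := by decide +kernel

noncomputable def j9_497_32 : List Job := [
  ⟨31, 0x5c0e272399f0fa7e3fc140d0403c0e0501, 0, 120, 0x0, []⟩]

theorem t9_497_32 : jobs 8 S9 b8_497 j9_497_32 = true := by decide +kernel

noncomputable def j9_497_33 : List Job := [
  ⟨30, 0x5c0e272399f0fa7e3fc180f0402c0e0501, 0, 120, 0x0, []⟩]

theorem t9_497_33 : jobs 8 S9 b8_497 j9_497_33 = true := by decide +kernel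

noncomputable def j9_497_34 : List Job := [
  ⟨29, 0x5d0ea763b9e0f27a3dce0723a1d8f07a3e1fc804222118904a2613c140d0403c0e0501, 0, 120, 0x0, []⟩]

theorem t9_497_34 : jobs 8 S9 b8_497 j9_497_34 = true := by decide +kernel

noncomputable def j9_497_35 : List Job := [
  ⟨28, 0x5d0ea763b9e0f27a3dce0723a1d8f07a3e1fc804222118904a2613c180f0402c0e0501, 0, 120, 0x0, []⟩]

theorem t9_497_35 : jobs 8 S9 b8_497 j9_497_35 = true := by decide +kernel

noncomputable def j9_497_36 : List Job := [
  ⟨27, 0x5c0e272399f0fa7e3fc180f0402c0e0501, 0, 160, 0x0, []⟩]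

theorem t9_497_36 : jobs 8 S9 b8_497 j9_497_36 = true := by decide +kernel

noncomputable def j9_497_37 : List Job := [
  ⟨26, 0x5d0ea763b9e0f27a3dce0723a1d8f07a3e1fc804222118904a2613c180f0402c0e0501, 0, 160, 0x0, []⟩]

theorem t9_497_37 : jobs 8 S9 b8_497 j9_497_37 = true := by decide +kernel

noncomputable def j9_497_38 : List Job := [
  ⟨25, 0x5c0e272399f0fa7e3fc502a160bc40221209c180f0402c0e0501, 0, 160, 0x0, []⟩]

theorem t9_497_38 : jobs 8 S9 b8_497 j9_497_38 = true := by decide +kernel

noncomputable def j9_497_39 : List Job := [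
  ⟨24, 0x5d0ea763b9e0f27a3dce0723a1d8f07a3e1fc804222118904a2613c502a160bc40221209c180f0402c0e0501, 0, 160, 0x0, []⟩]

theorem t9_497_39 : jobs 8 S9 b8_497 j9_497_39 = true := by decide +kernel

noncomputable def j9_497_40 : List Job := [
  ⟨23, 0x5c0e272399f0fa7e3fc502a160bc442710094140d0403c0e0501, 0, 120, 0x0, []⟩]

theorem t9_497_40 : jobs 8 S9 b8_497 j9_497_40 = true := by decide +kernel

noncomputable def j9_497_41 : List Job := [
  ⟨22, 0x5c0e272399f0fa7e3fc502a160bc44251009c180f0402c0e0501, 0, 200, 0xf20500f40500f60500fa0500fe04010004010204010605010804010a05010c04010e04011405011604011805011a04011c04011e04012004012405012805012a05012c04012e05013204013405013805013a05013e05014004014205014605014805014a05014c05014e04015204015404015605015a05015e04016004016205016405016805016c05017004017205017405017604017805017a05017c04018005018204018405018605018a05018c05018e05, []⟩]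

theorem t9_497_41 : jobs 8 S9 b8_497 j9_497_41 = true := by decide +kernel

noncomputable def j9_497_42 : List Job := [
  ⟨21, 0x5d0ea763b9e0f27a3dce0723a1d8f07a3e1fc804222118904a2613c502a160bc442710094140d0403c0e0501, 0, 120, 0x0, []⟩]

theorem t9_497_42 : jobs 8 S9 b8_497 j9_497_42 = true := by decide +kernel

noncomputable def j9_497_43 : List Job := [
  ⟨20, 0x5d0ea763b9e0f27a3dce0723a1d8f07a3e1fc804222118904a2613c502a160bc48271008c140d0403c0e0501, 0, 200, 0xf20400f40100f60400f80100fa0500fe05010205010604010a05010c01010e05011001011405011804011a05011c05011e01012004012201012405012804012a04012c04012e01013005013205013405013a04013e05014001014204014604014a05014c01014e05015004015205015604015805015a05015e05016201016405016601016805016c05017004017405017804017a04017c04018205018405018805018a05018c01018e05, []⟩]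

theorem t9_497_43 : jobs 8 S9 b8_497 j9_497_43 = true := by decide +kernel

noncomputable def j9_497_44 : List Job := [
  ⟨19, 0x5c0e272399f0fa7e3fc804222118904a2613c502a160bc40221209c180f0402c0e0501, 0, 256, 0x0, []⟩]

theorem t9_497_44 : jobs 8 S9 b8_497 j9_497_44 = true := by decide +kernel

noncomputable def j9_497_45 : List Job := [
  ⟨18, 0x5c0e272399f0fa7e3fc804222118904a2613c502a160bc48271008c140d0403c0e0501, 0, 192, 0x0, []⟩]

theorem t9_497_45 : jobs 8 S9 b8_497 j9_497_45 = true := by decide +kernel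

noncomputable def j9_497_46 : List Job := [
  ⟨17, 0x5c0e272399f0fa7e3fc804222118904a2613c502a160bc442710094180f0402c0e0501, 0, 320, 0x401000604000801000a04000c01001004001204001401001604001a01001e01002001002204002401002801002c01002e01003004003204003604003801003a01003c01003e01004205004401004801004c01004e05005001005205005604005801005a01005c01005e01006401006605006801006a01006c01007001007205007401007605007a05007e05008001020205020401020601020801020a04020c01020e04021001021401021601021a05022001022204022401022601022805022a04022c01022e01023001023204023805023c01023e04024201024401024601024801024a04024c01024e01025001025201025801025c01025e01026201026401026601026801026a04026c01026e01027001027401027601027a05028001, []⟩]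

theorem t9_497_46 : jobs 8 S9 b8_497 j9_497_46 = true := by decide +kernel

noncomputable def j9_497_47 : List Job := [
  ⟨16, 0x601028241a110a8643a21128a45a311a8e47dd0ea763b9e0f27a3dc40221209c0e0501, 0, 128, 0x0, []⟩]

theorem t9_497_47 : jobs 8 S9 b8_497 j9_497_47 = true := by decide +kernel

noncomputable def j9_497_48 : List Job := [
  ⟨15, 0x601028241a110a8643a21128a45a311a8e47dc0e272399f0fa7e3fce0723a1d8f07a3e1fc804222118904a2613c40221209c0e0501, 0, 128, 0x0, []⟩]

theorem t9_497_48 : jobs 8 S9 b8_497 j9_497_48 = true := by decide +kernel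

noncomputable def j9_497_49 : List Job := [
  ⟨14, 0x5d0ea763b9e0f27a3dc40221209c0e0501, 0, 96, 0x0, []⟩]

theorem t9_497_49 : jobs 8 S9 b8_497 j9_497_49 = true := by decide +kernel

noncomputable def j9_497_50 : List Job := [
  ⟨13, 0x601028241a110a8643a21128a45a311a8e47dd0ea763b9e0f27a3dc804222118904a2613c40221209c0e0501, 0, 128, 0x0, []⟩]

theorem t9_497_50 : jobs 8 S9 b8_497 j9_497_50 = true := by decide +kernel

noncomputable def j9_497_51 : List Job := [
  ⟨12, 0x601028241a110a8643a21128a45a311a8e47dc0e272399f0fa7e3fc804222118904a2613c40221209c0e0501, 0, 128, 0x0, []⟩]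

theorem t9_497_51 : jobs 8 S9 b8_497 j9_497_51 = true := by decide +kernel

noncomputable def j9_497_52 : List Job := [
  ⟨11, 0x5c0e272399f0fa7e3fc804222118904a2613c48271008c0e0501, 0, 96, 0x0, []⟩]

theorem t9_497_52 : jobs 8 S9 b8_497 j9_497_52 = true := by decide +kernel

noncomputable def j9_497_53 : List Job := [
  ⟨10, 0x601028241a110a8643a21128a45a311a8e47c804222118904a2613c40221209c0e0501, 0, 128, 0x0, []⟩]

theorem t9_497_53 : jobs 8 S9 b8_497 j9_497_53 = true := by decide +kernel

noncomputable def j9_497_54 : List Job := [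
  ⟨9, 0x601028241a110a8643a21128a45a311a8e47dd0ea763b9e0f27a3ddc0e272399f0fa7e3fc804222118904a2613c40221209c0e0501, 0, 128, 0x0, []⟩]

theorem t9_497_54 : jobs 8 S9 b8_497 j9_497_54 = true := by decide +kernel

noncomputable def j9_497_55 : List Job := [
  ⟨8, 0x4804222118904a2613c40221209c0e0501, 0, 96, 0x0, []⟩]

theorem t9_497_55 : jobs 8 S9 b8_497 j9_497_55 = true := by decide +kernel

noncomputable def j9_497_56 : List Job := [
  ⟨7, 0x641229249a512a964ba61329a4da713a9e4fe01028241a110a8643a21128a45a311a8e47c804222118904a2613c40221209c0e0501, 0, 96, 0x0, []⟩]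

theorem t9_497_56 : jobs 8 S9 b8_497 j9_497_56 = true := by decide +kernel

noncomputable def j9_497_57 : List Job := [
  ⟨6, 0x601028241a110a8643a21128a45a311a8e47c40221209c0e0501, 0, 80, 0x0, []⟩]

theorem t9_497_57 : jobs 8 S9 b8_497 j9_497_57 = true := by decide +kernel

noncomputable def j9_497_58 : List Job := [
  ⟨5, 0x601028241a110a8643a21128a45a311a8e47dd0ea763b9e0f27a3ddc0e272399f0fa7e3fc40221209c0e0501, 0, 80, 0x0, []⟩]

theorem t9_497_58 : jobs 8 S9 b8_497 j9_497_58 = true := by decide +kernel

noncomputable def j9_497_59 : List Job := [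
  ⟨4, 0x601028241a110a8643a21128a45a311a8e47dd0ea763b9e0f27a3ddc0e272399f0fa7e3fce0723a1d8f07a3e1fc804222118904a2613c40221209c0e0501, 0, 80, 0x0, []⟩]

theorem t9_497_59 : jobs 8 S9 b8_497 j9_497_59 = true := by decide +kernel

noncomputable def j9_497_60 : List Job := [
  ⟨3, 0x601028241a110a8643a21128a45a311a8e47ce0723a1d8f07a3e1fc804222118904a2613c40221209c0e0501, 0, 80, 0x0, []⟩]

theorem t9_497_60 : jobs 8 S9 b8_497 j9_497_60 = true := by decide +kernel

noncomputable def j9_497_61 : List Job := [
  ⟨2, 0x440221209c0e0501, 0, 60, 0x0, []⟩]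

theorem t9_497_61 : jobs 8 S9 b8_497 j9_497_61 = true := by decide +kernel

noncomputable def j9_497_62 : List Job := [
  ⟨1, 0x5d0ea763b9e0f27a3ddc0e272399f0fa7e3fc40221209c0e0501, 0, 60, 0x0, []⟩]

theorem t9_497_62 : jobs 8 S9 b8_497 j9_497_62 = true := by decide +kernel

noncomputable def j9_497_63 : List Job := [
  ⟨0, 0x5c0e272399f0fa7e3fc804222118904a2613c140f040340e0501, 0, 192, 0x0, []⟩]

theorem t9_497_63 : jobs 8 S9 b8_497 j9_497_63 = true := by decide +kernel

theorem d9_497 : Dn 8 S9 b8_497 := dn_of (Js := j9_497_0 ++ (j9_497_1 ++ (j9_497_2 ++ (j9_497_3 ++ (j9_497_4 ++ (j9_497_5 ++ (j9_497_6 ++ (j9_497_7 ++ (j9_497_8 ++ (j9_497_9 ++ (j9_497_10 ++ (j9_497_11 ++ (j9_497_12 ++ (j9_497_13 ++ (j9_497_14 ++ (j9_497_15 ++ (j9_497_16 ++ (j9_497_17 ++ (j9_497_18 ++ (j9_497_19 ++ (j9_497_20 ++ (j9_497_21 ++ (j9_497_22 ++ (j9_497_23 ++ (j9_497_24 ++ (j9_497_25 ++ (j9_497_26 ++ (j9_497_27 ++ (j9_497_28 ++ (j9_497_29 ++ (j9_497_30 ++ (j9_497_31 ++ (j9_497_32 ++ (j9_497_33 ++ (j9_497_34 ++ (j9_497_35 ++ (j9_497_36 ++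 (j9_497_37 ++ (j9_497_38 ++ (j9_497_39 ++ (j9_497_40 ++ (j9_497_41 ++ (j9_497_42 ++ (j9_497_43 ++ (j9_497_44 ++ (j9_497_45 ++ (j9_497_46 ++ (j9_497_47 ++ (j9_497_48 ++ (j9_497_49 ++ (j9_497_50 ++ (j9_497_51 ++ (j9_497_52 ++ (j9_497_53 ++ (j9_497_54 ++ (j9_497_55 ++ (j9_497_56 ++ (j9_497_57 ++ (j9_497_58 ++ (j9_497_59 ++ (j9_497_60 ++ (j9_497_61 ++ (j9_497_62 ++ (j9_497_63 ++ []))))))))))))))))))))))))))))))))))))))))))))))))))))))))))))))))
  (jobs_append t9_497_0 <| jobs_append t9_497_1 <| jobs_append t9_497_2 <| jobs_append t9_497_3 <| jobs_append t9_497_4 <| jobs_append t9_497_5 <| jobs_append t9_497_6 <| jobs_append t9_497_7 <| jobs_append t9_497_8 <| jobs_append t9_497_9 <| jobs_append t9_497_10 <| jobs_append t9_497_11 <| jobs_append t9_497_12 <| jobs_append t9_497_13 <| jobs_append t9_497_14 <| jobs_append t9_497_15 <| jobs_append t9_497_16 <| jobs_append t9_497_17 <| jobs_append t9_497_18 <| jobs_append t9_497_19 <| jobs_append t9_497_20 <| jobs_append t9_497_21 <| jobs_append t9_497_22 <| jobs_append t9_497_23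 <| jobs_append t9_497_24 <| jobs_append t9_497_25 <| jobs_append t9_497_26 <| jobs_append t9_497_27 <| jobs_append t9_497_28 <| jobs_append t9_497_29 <| jobs_append t9_497_30 <| jobs_append t9_497_31 <| jobs_append t9_497_32 <| jobs_append t9_497_33 <| jobs_append t9_497_34 <| jobs_append t9_497_35 <| jobs_append t9_497_36 <| jobs_append t9_497_37 <| jobs_append t9_497_38 <| jobs_append t9_497_39 <| jobs_append t9_497_40 <| jobs_append t9_497_41 <| jobs_append t9_497_42 <| jobs_append t9_497_43 <| jobs_append t9_497_44 <| jobs_append t9_497_45 <| jobs_append t9_497_46 <| jobs_append t9_497_47 <| jobs_append t9_497_48 <| jobs_append t9_497_49 <| jobs_append t9_497_50 <| jobs_append t9_497_51 <| jobs_append t9_497_52 <| jobs_append t9_497_53 <| jobs_append t9_497_54 <| jobs_append t9_497_55 <| jobs_append t9_497_56 <| jobs_append t9_497_57 <| jobs_append t9_497_58 <| jobs_append t9_497_59 <| jobs_append t9_497_60 <| jobs_append t9_497_61 <| jobs_append t9_497_62 <| jobs_append t9_497_63 <| List.forall_mem_nil _) (by decide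 +kernel)

noncomputable def j9_498_0 : List Job := [
  ⟨63, 0x5c0e272399f0fa7e3fce0723a1d8f07a3e1fc804222118904a2613c48271008c0e0501, 0, 120, 0x602002602004405005c0500a40200b40400c20700ce04, []⟩]

theorem t9_498_0 : jobs 8 S9 b8_498 j9_498_0 = true := by decide +kernel

noncomputable def j9_498_1 : List Job := [
  ⟨62, 0x580c262319b0da6e37d40a25229960b25a2dd00824221920924a25ce0723a1d8f07a3e1fc804222118904a2613c44251009c0e0501, 0, 120, 0x604000e01001001001e01002001002603004402005c0600a40500a80100b00100b40300c20200ce06, []⟩]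

theorem t9_498_1 : jobs 8 S9 b8_498 j9_498_1 = true := by decide +kernel

noncomputable def j9_498_2 : List Job := [
  ⟨61, 0x580c262319b0da6e37d00824221920924a25cc06232198d06a361bc804222118904a2613c44251009c0e0501, 0, 192, 0x0, []⟩]

theorem t9_498_2 : jobs 8 S9 b8_498 j9_498_2 = true := by decide +kernel

noncomputable def j9_498_3 : List Job := [
  ⟨60, 0x540a25229960b25a2dd00824221920924a25cc06232198d06a361bc804222118904a2613c44251009c0e0501, 0, 112, 0x0, []⟩]

theorem t9_498_3 : jobs 8 S9 b8_498 j9_498_3 = true := by decide +kernel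

noncomputable def j9_498_4 : List Job := [
  ⟨59, 0x4c06232198d06a361bc804222118904a2613c4e25118840e0501, 0, 84, 0x602000a02000e07001207001605001a07001e05002a05003603004003005007005602005802006c07007407007607007802008603009a07, []⟩]

theorem t9_498_4 : jobs 8 S9 b8_498 j9_498_4 = true := by decide +kernel

noncomputable def j9_498_5 : List Job := [
  ⟨58, 0x540a25229960b25a2dcc06232198d06a361bc804222118904a2613c542d140bc0e0501, 0, 120, 0x205003a03005207008a0500a20400be0400ca0700e604, []⟩]

theorem t9_498_5 : jobs 8 S9 b8_498 j9_498_5 = true := by decide +kernel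

noncomputable def j9_498_6 : List Job := [
  ⟨57, 0x641229249a512a964ba61329a4da713a9e4fe01028241a110a8643a21128a45a311a8e47d40a25229960b25a2dcc06232198d06a361bc804222118904a2613c542d140bc0e0501, 0, 120, 0x205003a04005207008a05, []⟩]

theorem t9_498_6 : jobs 8 S9 b8_498 j9_498_6 = true := by decide +kernel

noncomputable def j9_498_7 : List Job := [
  ⟨56, 0x5c0e272399f0fa7e3fd80c262319b0da6e37d00824221920924a25cc06232198d06a361bc804222118904a2613c542d140bc0e0501, 0, 120, 0x205000e01001001001e01002001003a07005203008a0500a20400a80100b00100be0700ca0400e605, []⟩]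

theorem t9_498_7 : jobs 8 S9 b8_498 j9_498_7 = true := by decide +kernel

noncomputable def j9_498_8 : List Job := [
  ⟨55, 0x601028241a110a8643a21128a45a311a8e47d40a25229960b25a2dcc06232198d06a361bc804222118904a2613c502a160bc0e0501, 0, 160, 0x0, []⟩]

theorem t9_498_8 : jobs 8 S9 b8_498 j9_498_8 = true := by decide +kernel

noncomputable def j9_498_9 : List Job := [
  ⟨54, 0x601028241a110a8643a21128a45a311a8e47dc0e272399f0fa7e3fd80c262319b0da6e37d00824221920924a25cc06232198d06a361bc804222118904a2613c502a160bc0e0501, 0, 160, 0xe01001001001e0100200100ae0100b00100be0100c001, []⟩]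

theorem t9_498_9 : jobs 8 S9 b8_498 j9_498_9 = true := by decide +kernel

noncomputable def j9_498_10 : List Job := [
  ⟨53, 0x540a25229960b25a2dd00824221920924a25ce0723a1d8f07a3e1fc804222118904a2613c502a160bc0e0501, 0, 84, 0x0, []⟩]

theorem t9_498_10 : jobs 8 S9 b8_498 j9_498_10 = true := by decide +kernel

noncomputable def j9_498_11 : List Job := [
  ⟨52, 0x601028241a110a8643a21128a45a311a8e47d40a25229960b25a2dd00824221920924a25ce0723a1d8f07a3e1fc804222118904a2613c502a160bc0e0501, 0, 112, 0x0, []⟩]

theorem t9_498_11 : jobs 8 S9 b8_498 j9_498_11 = true := by decide +kernel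

noncomputable def j9_498_12 : List Job := [
  ⟨51, 0x601028241a110a8643a21128a45a311a8e47dc0e272399f0fa7e3fce0723a1d8f07a3e1fc804222118904a2613c4427100940e0501, 0, 160, 0x160600360700500700680400b60400d60300f007010804, []⟩]

theorem t9_498_12 : jobs 8 S9 b8_498 j9_498_12 = true := by decide +kernel

noncomputable def j9_498_13 : List Job := [
  ⟨50, 0x601028241a110a8643a21128a45a311a8e47d80c262319b0da6e37d40a25229960b25a2dd00824221920924a25ce0723a1d8f07a3e1fc804222118904a2613c48271008c0e0501, 0, 160, 0xe01001001001604001e0100200100360500500400680700ae0100b00100b60700be0100c00100d60500f005010802, []⟩]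

theorem t9_498_13 : jobs 8 S9 b8_498 j9_498_13 = true := by decide +kernel

noncomputable def j9_498_14 : List Job := [
  ⟨49, 0x5c0e272399f0fa7e3fce0723a1d8f07a3e1fc804222118904a2613c4427100940e0501, 0, 120, 0x604002606004407005c04, []⟩]

theorem t9_498_14 : jobs 8 S9 b8_498 j9_498_14 = true := by decide +kernel

noncomputable def j9_498_15 : List Job := [
  ⟨48, 0x641229249a512a964ba61329a4da713a9e4fe01028241a110a8643a21128a45a311a8e47dc0e272399f0fa7e3fce0723a1d8f07a3e1fc804222118904a2613c4427100940e0501, 0, 120, 0x604002606004407005c04, []⟩]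

theorem t9_498_15 : jobs 8 S9 b8_498 j9_498_15 = true := by decide +kernel

noncomputable def j9_498_16 : List Job := [
  ⟨47, 0x580c262319b0da6e37d40a25229960b25a2dd00824221920924a25ce0723a1d8f07a3e1fc804222118904a2613c4427100940e0501, 0, 120, 0x604000e01001001001e01002001002603004402005c0400a80100b001, []⟩]

theorem t9_498_16 : jobs 8 S9 b8_498 j9_498_16 = true := by decide +kernel

noncomputable def j9_498_17 : List Job := [
  ⟨46, 0x641229249a512a964ba61329a4da713a9e4fe01028241a110a8643a21128a45a311a8e47d80c262319b0da6e37d40a25229960b25a2dd00824221920924a25ce0723a1d8f07a3e1fc804222118904a2613c48271008c0e0501, 0, 120, 0x604000e01001001001e01002001002605004404005c0200a80100b001, []⟩]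

theorem t9_498_17 : jobs 8 S9 b8_498 j9_498_17 = true := by decide +kernel

noncomputable def j9_498_18 : List Job := [
  ⟨45, 0x601028241a110a8643a21128a45a311a8e47d40a25229960b25a2dd00824221920924a25cc06232198d06a361bc804222118904a2613c48271008c0e0501, 0, 112, 0x0, []⟩]

theorem t9_498_18 : jobs 8 S9 b8_498 j9_498_18 = true := by decide +kernel

noncomputable def j9_498_19 : List Job := [
  ⟨44, 0x540a25229960b25a2dd00824221920924a25cc06232198d06a361bc804222118904a2613c4e25118840e0501, 0, 84, 0x602000a04000e02001204001603001a03001e07002a05003605004007007403007603007807008603, []⟩]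

theorem t9_498_19 : jobs 8 S9 b8_498 j9_498_19 = true := by decide +kernel

noncomputable def j9_498_20 : List Job := [
  ⟨43, 0x4804222118904a2613c40221209c0e0501, 0, 128, 0x0, []⟩]

theorem t9_498_20 : jobs 8 S9 b8_498 j9_498_20 = true := by decide +kernel

noncomputable def j9_498_21 : List Job := [
  ⟨42, 0x601028241a110a8643a21128a45a311a8e47c804222118904a2613c40221209c0e0501, 0, 128, 0x0, []⟩]

theorem t9_498_21 : jobs 8 S9 b8_498 j9_498_21 = true := by decide +kernel

noncomputable def j9_498_22 : List Job := [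
  ⟨41, 0x5c0e272399f0fa7e3fc804222118904a2613c140f040340e0501, 0, 256, 0x0, []⟩]

theorem t9_498_22 : jobs 8 S9 b8_498 j9_498_22 = true := by decide +kernel

noncomputable def j9_498_23 : List Job := [
  ⟨40, 0x601028241a110a8643a21128a45a311a8e47dc0e272399f0fa7e3fc804222118904a2613c180f0402c0e0501, 0, 256, 0x0, []⟩]

theorem t9_498_23 : jobs 8 S9 b8_498 j9_498_23 = true := by decide +kernel

noncomputable def j9_498_24 : List Job := [
  ⟨39, 0x5c0e272399f0fa7e3fc804222118904a2613c140f040340e0501, 0, 256, 0x0, []⟩]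

theorem t9_498_24 : jobs 8 S9 b8_498 j9_498_24 = true := by decide +kernel

noncomputable def j9_498_25 : List Job := [
  ⟨38, 0x605068543a25168c47601048443221148d47dc0e272399f0fa7e3fc804222118904a2613c180f0402c0e0501, 0, 256, 0x0, []⟩]

theorem t9_498_25 : jobs 8 S9 b8_498 j9_498_25 = true := by decide +kernel

noncomputable def j9_498_26 : List Job := [
  ⟨37, 0x5c0e272399f0fa7e3fc140f040340e0501, 0, 160, 0x0, []⟩]

theorem t9_498_26 : jobs 8 S9 b8_498 j9_498_26 = true := by decide +kernel

noncomputable def j9_498_27 : List Job := [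
  ⟨36, 0x601028241a110a8643a21128a45a311a8e47dc0e272399f0fa7e3fc180f0402c0e0501, 0, 160, 0x0, []⟩]

theorem t9_498_27 : jobs 8 S9 b8_498 j9_498_27 = true := by decide +kernel

noncomputable def j9_498_28 : List Job := [
  ⟨35, 0x5d0ea763b9e0f27a3dce0723a1d8f07a3e1fc804222118904a2613c140f040340e0501, 0, 160, 0x0, []⟩]

theorem t9_498_28 : jobs 8 S9 b8_498 j9_498_28 = true := by decide +kernel

noncomputable def j9_498_29 : List Job := [
  ⟨34, 0x601028241a110a8643a21128a45a311a8e47dd0ea763b9e0f27a3dce0723a1d8f07a3e1fc804222118904a2613c180f0402c0e0501, 0, 160, 0x0, []⟩]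

theorem t9_498_29 : jobs 8 S9 b8_498 j9_498_29 = true := by decide +kernel

noncomputable def j9_498_30 : List Job := [
  ⟨33, 0x5c0e272399f0fa7e3fc140f040340e0501, 0, 160, 0x0, []⟩]

theorem t9_498_30 : jobs 8 S9 b8_498 j9_498_30 = true := by decide +kernel

noncomputable def j9_498_31 : List Job := [
  ⟨32, 0x605068543a25168c47601048443221148d47dc0e272399f0fa7e3fc180f0402c0e0501, 0, 160, 0x0, []⟩]

theorem t9_498_31 : jobs 8 S9 b8_498 j9_498_31 = true := by decide +kernel

noncomputable def j9_498_32 : List Job := [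
  ⟨31, 0x5d0ea763b9e0f27a3dce0723a1d8f07a3e1fc804222118904a2613c140f040340e0501, 0, 160, 0x0, []⟩]

theorem t9_498_32 : jobs 8 S9 b8_498 j9_498_32 = true := by decide +kernel

noncomputable def j9_498_33 : List Job := [
  ⟨30, 0x605068543a25168c47601048443221148d47dd0ea763b9e0f27a3dce0723a1d8f07a3e1fc804222118904a2613c180f0402c0e0501, 0, 160, 0x0, []⟩]

theorem t9_498_33 : jobs 8 S9 b8_498 j9_498_33 = true := by decide +kernel

noncomputable def j9_498_34 : List Job := [
  ⟨29, 0x5c0e272399f0fa7e3fc502a160bc44251009c140f040340e0501, 0, 160, 0x0, []⟩]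

theorem t9_498_34 : jobs 8 S9 b8_498 j9_498_34 = true := by decide +kernel

noncomputable def j9_498_35 : List Job := [
  ⟨28, 0x601028241a110a8643a21128a45a311a8e47dc0e272399f0fa7e3fc502a160bc44251009c180f0402c0e0501, 0, 160, 0x0, []⟩]

theorem t9_498_35 : jobs 8 S9 b8_498 j9_498_35 = true := by decide +kernel

noncomputable def j9_498_36 : List Job := [
  ⟨27, 0x5d0ea763b9e0f27a3dce0723a1d8f07a3e1fc804222118904a2613c502a160bc44251009c140f040340e0501, 0, 160, 0x0, []⟩]

theorem t9_498_36 : jobs 8 S9 b8_498 j9_498_36 = true := by decide +kernel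

noncomputable def j9_498_37 : List Job := [
  ⟨26, 0x601028241a110a8643a21128a45a311a8e47dd0ea763b9e0f27a3dce0723a1d8f07a3e1fc804222118904a2613c502a160bc48271008c140d0403c0e0501, 0, 160, 0x0, []⟩]

theorem t9_498_37 : jobs 8 S9 b8_498 j9_498_37 = true := by decide +kernel

noncomputable def j9_498_38 : List Job := [
  ⟨25, 0x5c0e272399f0fa7e3fc502a160bc40221209c140f040340e0501, 0, 160, 0x0, []⟩]

theorem t9_498_38 : jobs 8 S9 b8_498 j9_498_38 = true := by decide +kernel

noncomputable def j9_498_39 : List Job := [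
  ⟨24, 0x605068543a25168c47601048443221148d47dc0e272399f0fa7e3fc502a160bc40221209c180f0402c0e0501, 0, 240, 0x14405014604014a04015005015204015805015c04015e04016604016a04016c05016e04017004017405017a05017e05018404018805018a05019004019605019805019a05019c0501a20401a40401ae0401b00401b20501bc0501c00401c20501c40501c60401ca0501d00501d40501d60501da0501dc05, []⟩]

theorem t9_498_39 : jobs 8 S9 b8_498 j9_498_39 = true := by decide +kernel

noncomputable def j9_498_40 : List Job := [
  ⟨23, 0x5d0ea763b9e0f27a3dce0723a1d8f07a3e1fc804222118904a2613c502a160bc40221209c140f040340e0501, 0, 160, 0x0, []⟩]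

theorem t9_498_40 : jobs 8 S9 b8_498 j9_498_40 = true := by decide +kernel

noncomputable def j9_498_41 : List Job := [
  ⟨22, 0x605068543a25168c47601048443221148d47dd0ea763b9e0f27a3dce0723a1d8f07a3e1fc804222118904a2613c502a160bc40221209c140d0403c0e0501, 0, 240, 0x14204014401014601014801015a01015c01015e01016001016804016a05016c05016e01017004017201017e01018005018201018401018a04019001019204019604019c0101a00401a80501aa0101ae0101b20101b60101b80101bc0101c00401d20501d40101d80501da0101dc01, []⟩]

theorem t9_498_41 : jobs 8 S9 b8_498 j9_498_41 = true := by decide +kernel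

noncomputable def j9_498_42 : List Job := [
  ⟨21, 0x5c0e272399f0fa7e3fc804222118904a2613c502a160bc40221209c140f040340e0501, 0, 256, 0x0, []⟩]

theorem t9_498_42 : jobs 8 S9 b8_498 j9_498_42 = true := by decide +kernel

noncomputable def j9_498_43 : List Job := [
  ⟨20, 0x601028241a110a8643a21128a45a311a8e47dc0e272399f0fa7e3fc804222118904a2613c502a160bc40221209c140d0403c0e0501, 0, 256, 0x0, []⟩]

theorem t9_498_43 : jobs 8 S9 b8_498 j9_498_43 = true := by decide +kernel

noncomputable def j9_498_44 : List Job := [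
  ⟨19, 0x5c0e272399f0fa7e3fc804222118904a2613c502a160bc48271008c140f040340e0501, 0, 256, 0x0, []⟩]

theorem t9_498_44 : jobs 8 S9 b8_498 j9_498_44 = true := by decide +kernel

noncomputable def j9_498_45 : List Job := [
  ⟨18, 0x605068543a25168c47601048443221148d47dc0e272399f0fa7e3fc804222118904a2613c502a160bc442710094180f0402c0e0501, 0, 384, 0x401000604000801000a04000c01001004001204001401001604001a01001e01002001002204002401002801002c01002e01003004003204003604003801003a01003c01003e01004205004401004801004c01004e05005001005205005604005801005a01005c01005e01006401006605006801006a01006c01007001007205007401007605007a05007e04008001028204028401028601028801028a04028c01028e04029001029401029601029a0502a00102a20402a40102a60102a80502aa0402ac0102ae0102b00102b20402b80502bc0102be0402c20102c40102c60102c80102ca0402cc0102ce0102d00102d20102d80102dc0102de0102e20102e40102e60102e80102ea0402ec0102ee0102f00102f40102f60102fa05030001, []⟩]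

theorem t9_498_45 : jobs 8 S9 b8_498 j9_498_45 = true := by decide +kernel

noncomputable def j9_498_46 : List Job := [
  ⟨17, 0x590ca66339a0d26a35d108a46239309a4e27d00824221920924a25c40221209c0e0501, 0, 128, 0x0, []⟩]

theorem t9_498_46 : jobs 8 S9 b8_498 j9_498_46 = true := by decide +kernel

noncomputable def j9_498_47 : List Job := [
  ⟨16, 0x601028241a110a8643a21128a45a311a8e47d90ca66339a0d26a35d108a46239309a4e27d00824221920924a25c40221209c0e0501, 0, 128, 0x0, []⟩]

theorem t9_498_47 : jobs 8 S9 b8_498 j9_498_47 = true := by decide +kernel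

noncomputable def j9_498_48 : List Job := [
  ⟨15, 0x590ca66339a0d26a35c804222118904a2613c48271008c0e0501, 0, 128, 0x160400360600560200760400960600b60200d60500f602, []⟩]

theorem t9_498_48 : jobs 8 S9 b8_498 j9_498_48 = true := by decide +kernel

noncomputable def j9_498_49 : List Job := [
  ⟨14, 0x601028241a110a8643a21128a45a311a8e47d90ca66339a0d26a35c804222118904a2613c48271008c0e0501, 0, 128, 0x160400360200560600760400960200b60500d60400f606, []⟩]

theorem t9_498_49 : jobs 8 S9 b8_498 j9_498_49 = true := by decide +kernel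

noncomputable def j9_498_50 : List Job := [
  ⟨13, 0x540a25229960b25a2dd108a46239309a4e27c804222118904a2613c40221209c0e0501, 0, 128, 0x0, []⟩]

theorem t9_498_50 : jobs 8 S9 b8_498 j9_498_50 = true := by decide +kernel

noncomputable def j9_498_51 : List Job := [
  ⟨12, 0x601028241a110a8643a21128a45a311a8e47d40a25229960b25a2dd108a46239309a4e27c804222118904a2613c40221209c0e0501, 0, 128, 0x0, []⟩]

theorem t9_498_51 : jobs 8 S9 b8_498 j9_498_51 = true := by decide +kernel

noncomputable def j9_498_52 : List Job := [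
  ⟨11, 0x590ca66339a0d26a35d80c262319b0da6e37d50aa562b970ba5e2fd00824221920924a25c804222118904a2613c40221209c0e0501, 0, 128, 0x201000401000e01001001001201001401001e01002001008201008401008e01009001009201009401009e0100a001, []⟩]

theorem t9_498_52 : jobs 8 S9 b8_498 j9_498_52 = true := by decide +kernel

noncomputable def j9_498_53 : List Job := [
  ⟨10, 0x601028241a110a8643a21128a45a311a8e47d90ca66339a0d26a35d80c262319b0da6e37d50aa562b970ba5e2fd00824221920924a25c804222118904a2613c40221209c0e0501, 0, 128, 0x201000401000e01001001001201001401001e01002001008201008401008e01009001009201009401009e0100a001, []⟩]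

theorem t9_498_53 : jobs 8 S9 b8_498 j9_498_53 = true := by decide +kernel

noncomputable def j9_498_54 : List Job := [
  ⟨9, 0x590ca66339a0d26a35d80c262319b0da6e37d40a25229960b25a2dd108a46239309a4e27c40221209c0e0501, 0, 80, 0x0, []⟩]

theorem t9_498_54 : jobs 8 S9 b8_498 j9_498_54 = true := by decide +kernel

noncomputable def j9_498_55 : List Job := [
  ⟨8, 0x601028241a110a8643a21128a45a311a8e47d90ca66339a0d26a35d80c262319b0da6e37d40a25229960b25a2dd108a46239309a4e27c40221209c0e0501, 0, 80, 0x0, []⟩]

theorem t9_498_55 : jobs 8 S9 b8_498 j9_498_55 = true := by decide +kernel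

noncomputable def j9_498_56 : List Job := [
  ⟨7, 0x550aa562b970ba5e2fd00824221920924a25c40221209c0e0501, 0, 80, 0x0, []⟩]

theorem t9_498_56 : jobs 8 S9 b8_498 j9_498_56 = true := by decide +kernel

noncomputable def j9_498_57 : List Job := [
  ⟨6, 0x601028241a110a8643a21128a45a311a8e47d50aa562b970ba5e2fd00824221920924a25c40221209c0e0501, 0, 80, 0x0, []⟩]

theorem t9_498_57 : jobs 8 S9 b8_498 j9_498_57 = true := by decide +kernel

noncomputable def j9_498_58 : List Job := [
  ⟨5, 0x580c262319b0da6e37d50aa562b970ba5e2fd00824221920924a25c804222118904a2613c140f040340e0501, 0, 256, 0xa01000c01001a01001c01010a01010c01011a01011c01, []⟩]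

theorem t9_498_58 : jobs 8 S9 b8_498 j9_498_58 = true := by decide +kernel

noncomputable def j9_498_59 : List Job := [
  ⟨4, 0x601028241a110a8643a21128a45a311a8e47d80c262319b0da6e37d50aa562b970ba5e2fd00824221920924a25c804222118904a2613c140f040340e0501, 0, 256, 0xa01000c01001a01001c01010a01010c01011a01011c01, []⟩]

theorem t9_498_59 : jobs 8 S9 b8_498 j9_498_59 = true := by decide +kernel

noncomputable def j9_498_60 : List Job := [
  ⟨3, 0x580c262319b0da6e37d50aa562b970ba5e2fd00824221920924a25c804222118904a2613c140f040340e0501, 0, 256, 0xa01000c01001a01001c01010a01010c01011a01011c01, []⟩]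

theorem t9_498_60 : jobs 8 S9 b8_498 j9_498_60 = true := by decide +kernel

noncomputable def j9_498_61 : List Job := [
  ⟨2, 0x609068643a29168c46e01028442a21128e47d80c262319b0da6e37d50aa562b970ba5e2fd00824221920924a25c804222118904a2613c140f040340e0501, 0, 256, 0xa01000c01001a01001c01010a01010c01011a01011c01, []⟩]

theorem t9_498_61 : jobs 8 S9 b8_498 j9_498_61 = true := by decide +kernel

noncomputable def j9_498_62 : List Job := [
  ⟨1, 0x590ca66339a0d26a35d50aa562b970ba5e2fd00824221920924a25c140f040340e0501, 0, 160, 0x0, []⟩]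

theorem t9_498_62 : jobs 8 S9 b8_498 j9_498_62 = true := by decide +kernel

noncomputable def j9_498_63 : List Job := [
  ⟨0, 0x601028241a110a8643a21128a45a311a8e47d90ca66339a0d26a35d50aa562b970ba5e2fd00824221920924a25c140f040340e0501, 0, 160, 0x0, []⟩]

theorem t9_498_63 : jobs 8 S9 b8_498 j9_498_63 = true := by decide +kernel

theorem d9_498 : Dn 8 S9 b8_498 := dn_of (Js := j9_498_0 ++ (j9_498_1 ++ (j9_498_2 ++ (j9_498_3 ++ (j9_498_4 ++ (j9_498_5 ++ (j9_498_6 ++ (j9_498_7 ++ (j9_498_8 ++ (j9_498_9 ++ (j9_498_10 ++ (j9_498_11 ++ (j9_498_12 ++ (j9_498_13 ++ (j9_498_14 ++ (j9_498_15 ++ (j9_498_16 ++ (j9_498_17 ++ (j9_498_18 ++ (j9_498_19 ++ (j9_498_20 ++ (j9_498_21 ++ (j9_498_22 ++ (j9_498_23 ++ (j9_498_24 ++ (j9_498_25 ++ (j9_498_26 ++ (j9_498_27 ++ (j9_498_28 ++ (j9_498_29 ++ (j9_498_30 ++ (j9_498_31 ++ (j9_498_32 ++ (j9_498_33 ++ (j9_498_34 ++ (j9_498_35 ++ (j9_498_36 ++ (j9_498_37 ++ (j9_498_38 ++ (j9_498_39 ++ (j9_498_40 ++ (j9_498_41 ++ (j9_498_42 ++ (j9_498_43 ++ (j9_498_44 ++ (j9_498_45 ++ (j9_498_46 ++ (j9_498_47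 ++ (j9_498_48 ++ (j9_498_49 ++ (j9_498_50 ++ (j9_498_51 ++ (j9_498_52 ++ (j9_498_53 ++ (j9_498_54 ++ (j9_498_55 ++ (j9_498_56 ++ (j9_498_57 ++ (j9_498_58 ++ (j9_498_59 ++ (j9_498_60 ++ (j9_498_61 ++ (j9_498_62 ++ (j9_498_63 ++ []))))))))))))))))))))))))))))))))))))))))))))))))))))))))))))))))
  (jobs_append t9_498_0 <| jobs_append t9_498_1 <| jobs_append t9_498_2 <| jobs_append t9_498_3 <| jobs_append t9_498_4 <| jobs_append t9_498_5 <| jobs_append t9_498_6 <| jobs_append t9_498_7 <| jobs_append t9_498_8 <| jobs_append t9_498_9 <| jobs_append t9_498_10 <| jobs_append t9_498_11 <| jobs_append t9_498_12 <| jobs_append t9_498_13 <| jobs_append t9_498_14 <| jobs_append t9_498_15 <| jobs_append t9_498_16 <| jobs_append t9_498_17 <| jobs_append t9_498_18 <| jobs_append t9_498_19 <| jobs_append t9_498_20 <| jobs_append t9_498_21 <| jobs_append t9_498_22 <| jobs_append t9_498_23 <| jobs_append t9_498_24 <| jobs_append t9_498_25 <| jobs_append t9_498_26 <| jobs_append t9_498_27 <| jobs_append t9_498_28 <| jobs_append t9_498_29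 <| jobs_append t9_498_30 <| jobs_append t9_498_31 <| jobs_append t9_498_32 <| jobs_append t9_498_33 <| jobs_append t9_498_34 <| jobs_append t9_498_35 <| jobs_append t9_498_36 <| jobs_append t9_498_37 <| jobs_append t9_498_38 <| jobs_append t9_498_39 <| jobs_append t9_498_40 <| jobs_append t9_498_41 <| jobs_append t9_498_42 <| jobs_append t9_498_43 <| jobs_append t9_498_44 <| jobs_append t9_498_45 <| jobs_append t9_498_46 <| jobs_append t9_498_47 <| jobs_append t9_498_48 <| jobs_append t9_498_49 <| jobs_append t9_498_50 <| jobs_append t9_498_51 <| jobs_append t9_498_52 <| jobs_append t9_498_53 <| jobs_append t9_498_54 <| jobs_append t9_498_55 <| jobs_append t9_498_56 <| jobs_append t9_498_57 <| jobs_append t9_498_58 <| jobs_append t9_498_59 <| jobs_append t9_498_60 <| jobs_append t9_498_61 <| jobs_append t9_498_62 <| jobs_append t9_498_63 <| List.forall_mem_nil _) (by decide +kernel)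

noncomputable def j9_499_0 : List Job := [
  ⟨63, 0x540a25229950aa562b960b25a2d970ba5e2fd008242219108a4623920924a259309a4e27c84462513c8044241344427100940e0501, 0, 28, 0x0, []⟩]

theorem t9_499_0 : jobs 8 S9 b8_499 j9_499_0 = true := by decide +kernel

noncomputable def j9_499_1 : List Job := [
  ⟨62, 0x641229249a512a964ba61329a4da713a9e4fe01028241a110a8643a21128a45a311a8e47d40a25229950aa562b960b25a2d970ba5e2fd008242219108a4623920924a259309a4e27c88462613c80422412c48271008c0e0501, 0, 19, 0x0, []⟩]

theorem t9_499_1 : jobs 8 S9 b8_499 j9_499_1 = true := by decide +kernel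

noncomputable def j9_499_2 : List Job := [
  ⟨61, 0x601028241a110a8643a21128a45a311a8e47d008242219108a4623920924a259309a4e27c4427100940e0501, 0, 32, 0x0, []⟩]

theorem t9_499_2 : jobs 8 S9 b8_499 j9_499_2 = true := by decide +kernel

noncomputable def j9_499_3 : List Job := [
  ⟨60, 0x601028241a110a8643a21128a45a311a8e47d008242219108a4623920924a259309a4e27cc866361bcc062341ac88462613c80422412c48271008c0e0501, 0, 32, 0x0, []⟩]

theorem t9_499_3 : jobs 8 S9 b8_499 j9_499_3 = true := by decide +kernel

noncomputable def j9_499_4 : List Job := [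
  ⟨59, 0x601028241a110a8643a21128a45a311a8e47c4427100940e0501, 0, 32, 0x0, []⟩]

theorem t9_499_4 : jobs 8 S9 b8_499 j9_499_4 = true := by decide +kernel

noncomputable def j9_499_5 : List Job := [
  ⟨58, 0x601028241a110a8643a21128a45a311a8e47d40a25229950aa562b960b25a2d970ba5e2fd008242219108a4623920924a259309a4e27c4427100940e0501, 0, 32, 0x0, []⟩]

theorem t9_499_5 : jobs 8 S9 b8_499 j9_499_5 = true := by decide +kernel

noncomputable def j9_499_6 : List Job := [
  ⟨57, 0x601028241a110a8643a21128a45a311a8e47cc466351bcc064341b484462513c8044241344427100940e0501, 0, 32, 0x0, []⟩]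

theorem t9_499_6 : jobs 8 S9 b8_499 j9_499_6 = true := by decide +kernel

noncomputable def j9_499_7 : List Job := [
  ⟨56, 0x601028241a110a8643a21128a45a311a8e47d40a25229950aa562b960b25a2d970ba5e2fd008242219108a4623920924a259309a4e27cc866361bcc062341ac88462613c80422412c48271008c0e0501, 0, 32, 0x0, []⟩]

theorem t9_499_7 : jobs 8 S9 b8_499 j9_499_7 = true := by decide +kernel

noncomputable def j9_499_8 : List Job := [
  ⟨55, 0x44e25118840e0501, 0, 17, 0x0, []⟩]

theorem t9_499_8 : jobs 8 S9 b8_499 j9_499_8 = true := by decide +kernel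

noncomputable def j9_499_9 : List Job := [
  ⟨54, 0x540a25229950aa562b960b25a2d970ba5e2fd008242219108a4623920924a259309a4e27c4e25118840e0501, 0, 24, 0x0, []⟩]

theorem t9_499_9 : jobs 8 S9 b8_499 j9_499_9 = true := by decide +kernel

noncomputable def j9_499_10 : List Job := [
  ⟨53, 0x641229249a512a964ba61329a4da713a9e4fe01028241a110a8643a21128a45a311a8e47d40a25229950aa562b960b25a2d970ba5e2fd008242219108a4623920924a259309a4e27c4e25118840e0501, 0, 17, 0x0, []⟩]

theorem t9_499_10 : jobs 8 S9 b8_499 j9_499_10 = true := by decide +kernel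

noncomputable def j9_499_11 : List Job := [
  ⟨52, 0x4c466351bcc064341b484462513c8044241344e25118840e0501, 0, 17, 0x0, []⟩]

theorem t9_499_11 : jobs 8 S9 b8_499 j9_499_11 = true := by decide +kernel

noncomputable def j9_499_12 : List Job := [
  ⟨51, 0x540a25229950aa562b960b25a2d970ba5e2fd008242219108a4623920924a259309a4e27cc466351bcc064341b484462513c8044241344e25118840e0501, 0, 24, 0x0, []⟩]

theorem t9_499_12 : jobs 8 S9 b8_499 j9_499_12 = true := by decide +kernel

noncomputable def j9_499_13 : List Job := [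
  ⟨50, 0x641229249a512a964ba61329a4da713a9e4fe01028241a110a8643a21128a45a311a8e47d40a25229950aa562b960b25a2d970ba5e2fd008242219108a4623920924a259309a4e27cc866361bcc062341ac88462613c80422412c4e25118840e0501, 0, 41, 0x2404002a04002c04003604003c04004204004801, []⟩]

theorem t9_499_13 : jobs 8 S9 b8_499 j9_499_13 = true := by decide +kernel

noncomputable def j9_499_14 : List Job := [
  ⟨49, 0x5d0ea763b9e0f27a3dd00824221920924a25c804222118904a2613c40221209c0e0501, 0, 256, 0x0, []⟩]

theorem t9_499_14 : jobs 8 S9 b8_499 j9_499_14 = true := by decide +kernel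

noncomputable def j9_499_15 : List Job := [
  ⟨48, 0x580c262319b0da6e37d00824221920924a25c804222118904a2613c40221209c0e0501, 0, 256, 0x601000801001601001801010601010801011601011801, []⟩]

theorem t9_499_15 : jobs 8 S9 b8_499 j9_499_15 = true := by decide +kernel

noncomputable def j9_499_16 : List Job := [
  ⟨47, 0x601028241a110a8643a21128a45a311a8e47dd0ea763b9e0f27a3dd00824221920924a25c804222118904a2613c40221209c0e0501, 0, 256, 0x0, []⟩]

theorem t9_499_16 : jobs 8 S9 b8_499 j9_499_16 = true := by decide +kernel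

noncomputable def j9_499_17 : List Job := [
  ⟨46, 0x601028241a110a8643a21128a45a311a8e47d80c262319b0da6e37d00824221920924a25c804222118904a2613c40221209c0e0501, 0, 256, 0x601000801001601001801010601010801011601011801, []⟩]

theorem t9_499_17 : jobs 8 S9 b8_499 j9_499_17 = true := by decide +kernel

noncomputable def j9_499_18 : List Job := [
  ⟨45, 0x5d0ea763b9e0f27a3dd00824221920924a25c804222118904a2613c40221209c0e0501, 0, 192, 0x0, []⟩]

theorem t9_499_18 : jobs 8 S9 b8_499 j9_499_18 = true := by decide +kernel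

noncomputable def j9_499_19 : List Job := [
  ⟨44, 0x580c262319b0da6e37d00824221920924a25c804222118904a2613c40221209c0e0501, 0, 192, 0x601000801001601001801010401010c01, []⟩]

theorem t9_499_19 : jobs 8 S9 b8_499 j9_499_19 = true := by decide +kernel

noncomputable def j9_499_20 : List Job := [
  ⟨43, 0x590ca66339a0d26a35d00824221920924a25c502a160bc0e0501, 0, 256, 0x0, []⟩]

theorem t9_499_20 : jobs 8 S9 b8_499 j9_499_20 = true := by decide +kernel

noncomputable def j9_499_21 : List Job := [
  ⟨42, 0x601028241a110a8643a21128a45a311a8e47d90ca66339a0d26a35d00824221920924a25c502a160bc0e0501, 0, 256, 0x0, []⟩]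

theorem t9_499_21 : jobs 8 S9 b8_499 j9_499_21 = true := by decide +kernel

noncomputable def j9_499_22 : List Job := [
  ⟨41, 0x5d0ea763b9e0f27a3dc40221209c0e0501, 0, 160, 0x0, []⟩]

theorem t9_499_22 : jobs 8 S9 b8_499 j9_499_22 = true := by decide +kernel

noncomputable def j9_499_23 : List Job := [
  ⟨40, 0x601028241a110a8643a21128a45a311a8e47dd0ea763b9e0f27a3dc40221209c0e0501, 0, 160, 0x0, []⟩]

theorem t9_499_23 : jobs 8 S9 b8_499 j9_499_23 = true := by decide +kernel

noncomputable def j9_499_24 : List Job := [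
  ⟨39, 0x590ca66339a0d26a35d00824221920924a25c40221209c0e0501, 0, 256, 0x0, []⟩]

theorem t9_499_24 : jobs 8 S9 b8_499 j9_499_24 = true := by decide +kernel

noncomputable def j9_499_25 : List Job := [
  ⟨38, 0x601028241a110a8643a21128a45a311a8e47d90ca66339a0d26a35d00824221920924a25c40221209c0e0501, 0, 256, 0x0, []⟩]

theorem t9_499_25 : jobs 8 S9 b8_499 j9_499_25 = true := by decide +kernel

noncomputable def j9_499_26 : List Job := [
  ⟨37, 0x540a25229960b25a2dcc06232198d06a361bc804222118904a2613c502a160bc0e0501, 0, 160, 0x0, []⟩]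

theorem t9_499_26 : jobs 8 S9 b8_499 j9_499_26 = true := by decide +kernel

noncomputable def j9_499_27 : List Job := [
  ⟨36, 0x601028241a110a8643a21128a45a311a8e47d40a25229960b25a2dcc06232198d06a361bc804222118904a2613c502a160bc0e0501, 0, 160, 0x0, []⟩]

theorem t9_499_27 : jobs 8 S9 b8_499 j9_499_27 = true := by decide +kernel

noncomputable def j9_499_28 : List Job := [
  ⟨35, 0x580c262319b0da6e37d00824221920924a25ce0723a1d8f07a3e1fc804222118904a2613c502a160bc0e0501, 0, 256, 0x204000405001204001405010204010405011204011405, []⟩]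

theorem t9_499_28 : jobs 8 S9 b8_499 j9_499_28 = true := by decide +kernel

noncomputable def j9_499_29 : List Job := [
  ⟨34, 0x601028241a110a8643a21128a45a311a8e47d80c262319b0da6e37d00824221920924a25ce0723a1d8f07a3e1fc804222118904a2613c502a160bc0e0501, 0, 256, 0x204000405001204001405010204010405011204011405, []⟩]

theorem t9_499_29 : jobs 8 S9 b8_499 j9_499_29 = true := by decide +kernel

noncomputable def j9_499_30 : List Job := [
  ⟨33, 0x5c0e272399f0fa7e3fce0723a1d8f07a3e1fc804222118904a2613c40221209c0e0501, 0, 160, 0x0, []⟩]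

theorem t9_499_30 : jobs 8 S9 b8_499 j9_499_30 = true := by decide +kernel

noncomputable def j9_499_31 : List Job := [
  ⟨32, 0x601028241a110a8643a21128a45a311a8e47dc0e272399f0fa7e3fce0723a1d8f07a3e1fc804222118904a2613c40221209c0e0501, 0, 160, 0x0, []⟩]

theorem t9_499_31 : jobs 8 S9 b8_499 j9_499_31 = true := by decide +kernel

noncomputable def j9_499_32 : List Job := [
  ⟨31, 0x580c262319b0da6e37d40a25229960b25a2dd00824221920924a25ce0723a1d8f07a3e1fc804222118904a2613c40221209c0e0501, 0, 160, 0xe01001001001e0100200100ae0100b00100be0100c001, []⟩]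

theorem t9_499_32 : jobs 8 S9 b8_499 j9_499_32 = true := by decide +kernel

noncomputable def j9_499_33 : List Job := [
  ⟨30, 0x601028241a110a8643a21128a45a311a8e47d80c262319b0da6e37d40a25229960b25a2dd00824221920924a25ce0723a1d8f07a3e1fc804222118904a2613c40221209c0e0501, 0, 160, 0xe01001001001e0100200100ae0100b00100be0100c001, []⟩]

theorem t9_499_33 : jobs 8 S9 b8_499 j9_499_33 = true := by decide +kernel

noncomputable def j9_499_34 : List Job := [
  ⟨29, 0x580c262319b0da6e37d00824221920924a25cc06232198d06a361bc804222118904a2613c40221209c0e0501, 0, 256, 0x0, []⟩]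

theorem t9_499_34 : jobs 8 S9 b8_499 j9_499_34 = true := by decide +kernel

noncomputable def j9_499_35 : List Job := [
  ⟨28, 0x601028241a110a8643a21128a45a311a8e47d80c262319b0da6e37d00824221920924a25cc06232198d06a361bc804222118904a2613c40221209c0e0501, 0, 256, 0x0, []⟩]

theorem t9_499_35 : jobs 8 S9 b8_499 j9_499_35 = true := by decide +kernel

noncomputable def j9_499_36 : List Job := [
  ⟨27, 0x540a25229960b25a2dc502a160bc0e0501, 0, 160, 0x0, []⟩]

theorem t9_499_36 : jobs 8 S9 b8_499 j9_499_36 = true := by decide +kernel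

noncomputable def j9_499_37 : List Job := [
  ⟨26, 0x5d0ea763b9e0f27a3dd90ca66339a0d26a35d00824221920924a25c502a160bc0e0501, 0, 160, 0x0, []⟩]

theorem t9_499_37 : jobs 8 S9 b8_499 j9_499_37 = true := by decide +kernel

noncomputable def j9_499_38 : List Job := [
  ⟨25, 0x540a25229960b25a2dd00824221920924a25c502a160bc0e0501, 0, 112, 0x0, []⟩]

theorem t9_499_38 : jobs 8 S9 b8_499 j9_499_38 = true := by decide +kernel

noncomputable def j9_499_39 : List Job := [
  ⟨24, 0x590ca66339a0d26a35d00824221920924a25c502a160bc0e0501, 0, 192, 0x0, []⟩]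

theorem t9_499_39 : jobs 8 S9 b8_499 j9_499_39 = true := by decide +kernel

noncomputable def j9_499_40 : List Job := [
  ⟨23, 0x5d0ea763b9e0f27a3dc48271008c0e0501, 0, 160, 0x160500360700500200680700b60700d60700f007010804, []⟩]

theorem t9_499_40 : jobs 8 S9 b8_499 j9_499_40 = true := by decide +kernel

noncomputable def j9_499_41 : List Job := [
  ⟨22, 0x590ca66339a0d26a35d40a25229960b25a2dd00824221920924a25c44251009c0e0501, 0, 160, 0x160200360300500200680600b60600d60600f003010803, []⟩]

theorem t9_499_41 : jobs 8 S9 b8_499 j9_499_41 = true := by decide +kernel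

noncomputable def j9_499_42 : List Job := [
  ⟨21, 0x5d0ea763b9e0f27a3dc48271008c0e0501, 0, 120, 0x605002604004402005c0400a40700b40500c20200ce04, []⟩]

theorem t9_499_42 : jobs 8 S9 b8_499 j9_499_42 = true := by decide +kernel

noncomputable def j9_499_43 : List Job := [
  ⟨20, 0x590ca66339a0d26a35d00824221920924a25c44251009c0e0501, 0, 192, 0xa03002a06004a04006a06008a0600aa0400ca0600ea05010604011606012603013602014603015603016606017605, []⟩]

theorem t9_499_43 : jobs 8 S9 b8_499 j9_499_43 = true := by decide +kernel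

noncomputable def j9_499_44 : List Job := [
  ⟨19, 0x540a25229960b25a2dd00824221920924a25c44251009c0e0501, 0, 112, 0x1205004a0200820400ba03, []⟩]

theorem t9_499_44 : jobs 8 S9 b8_499 j9_499_44 = true := by decide +kernel

noncomputable def j9_499_45 : List Job := [
  ⟨18, 0x540a25229960b25a2dc582f140ac0e0501, 0, 120, 0x2204004a03007207009a0600b20400c60300da0700ee06, []⟩]

theorem t9_499_45 : jobs 8 S9 b8_499 j9_499_45 = true := by decide +kernel

noncomputable def j9_499_46 : List Job := [
  ⟨17, 0x601028241a110a8643a21128a45a311a8e47d40a25229960b25a2dc502a160bc0e0501, 0, 160, 0x0, []⟩]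

theorem t9_499_46 : jobs 8 S9 b8_499 j9_499_46 = true := by decide +kernel

noncomputable def j9_499_47 : List Job := [
  ⟨16, 0x601028241a110a8643a21128a45a311a8e47dd0ea763b9e0f27a3dd90ca66339a0d26a35d00824221920924a25c502a160bc0e0501, 0, 160, 0x0, []⟩]

theorem t9_499_47 : jobs 8 S9 b8_499 j9_499_47 = true := by decide +kernel

noncomputable def j9_499_48 : List Job := [
  ⟨15, 0x601028241a110a8643a21128a45a311a8e47d40a25229960b25a2dd00824221920924a25c502a160bc0e0501, 0, 112, 0x0, []⟩]

theorem t9_499_48 : jobs 8 S9 b8_499 j9_499_48 = true := by decide +kernel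

noncomputable def j9_499_49 : List Job := [
  ⟨14, 0x601028241a110a8643a21128a45a311a8e47dd0ea763b9e0f27a3dc4427100940e0501, 0, 160, 0x160700360700500300680700b60300d60400f007010807, []⟩]

theorem t9_499_49 : jobs 8 S9 b8_499 j9_499_49 = true := by decide +kernel

noncomputable def j9_499_50 : List Job := [
  ⟨13, 0x601028241a110a8643a21128a45a311a8e47d90ca66339a0d26a35d40a25229960b25a2dd00824221920924a25c44251009c0e0501, 0, 160, 0x160200360500500200680300b60300d60300f006010802, []⟩]

theorem t9_499_50 : jobs 8 S9 b8_499 j9_499_50 = true := by decide +kernel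

noncomputable def j9_499_51 : List Job := [
  ⟨12, 0x5d0ea763b9e0f27a3dc4427100940e0501, 0, 120, 0x603002604004407005c02, []⟩]

theorem t9_499_51 : jobs 8 S9 b8_499 j9_499_51 = true := by decide +kernel

noncomputable def j9_499_52 : List Job := [
  ⟨11, 0x641229249a512a964ba61329a4da713a9e4fe01028241a110a8643a21128a45a311a8e47dd0ea763b9e0f27a3dc4427100940e0501, 0, 120, 0x603002607004404005c02, []⟩]

theorem t9_499_52 : jobs 8 S9 b8_499 j9_499_52 = true := by decide +kernel

noncomputable def j9_499_53 : List Job := [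
  ⟨10, 0x601028241a110a8643a21128a45a311a8e47d40a25229960b25a2dd00824221920924a25c44251009c0e0501, 0, 112, 0x1205004a0300820500ba03, []⟩]

theorem t9_499_53 : jobs 8 S9 b8_499 j9_499_53 = true := by decide +kernel

noncomputable def j9_499_54 : List Job := [
  ⟨9, 0x540a25229960b25a2dcc06232198d06a361bc804222118904a2613c542d140bc0e0501, 0, 120, 0x203003a02005207008a0400a20300be0200ca0700e605, []⟩]

theorem t9_499_54 : jobs 8 S9 b8_499 j9_499_54 = true := by decide +kernel

noncomputable def j9_499_55 : List Job := [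
  ⟨8, 0x540a25229960b25a2dcc06232198d06a361bc804222118904a2613c542f140b40e0501, 0, 120, 0xa20300be0200ca0700e605, []⟩]

theorem t9_499_55 : jobs 8 S9 b8_499 j9_499_55 = true := by decide +kernel

noncomputable def j9_499_56 : List Job := [
  ⟨7, 0x540a25229960b25a2dcc06232198d06a361bc804222118904a2613c502a160bc0e0501, 0, 160, 0x0, []⟩]

theorem t9_499_56 : jobs 8 S9 b8_499 j9_499_56 = true := by decide +kernel

noncomputable def j9_499_57 : List Job := [
  ⟨6, 0x5c0e272399f0fa7e3fd80c262319b0da6e37d00824221920924a25cc06232198d06a361bc804222118904a2613c502a160bc0e0501, 0, 160, 0xe01001001001e0100200100ae0100b00100be0100c001, []⟩]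

theorem t9_499_57 : jobs 8 S9 b8_499 j9_499_57 = true := by decide +kernel

noncomputable def j9_499_58 : List Job := [
  ⟨5, 0x4e0723a1d8f07a3e1fc804222118904a2613c502a160bc0e0501, 0, 84, 0x0, []⟩]

theorem t9_499_58 : jobs 8 S9 b8_499 j9_499_58 = true := by decide +kernel

noncomputable def j9_499_59 : List Job := [
  ⟨4, 0x540a25229960b25a2dd00824221920924a25ce0723a1d8f07a3e1fc804222118904a2613c502a160bc0e0501, 0, 112, 0x0, []⟩]

theorem t9_499_59 : jobs 8 S9 b8_499 j9_499_59 = true := by decide +kernel

noncomputable def j9_499_60 : List Job := [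
  ⟨3, 0x580c262319b0da6e37d00824221920924a25ce0723a1d8f07a3e1fc804222118904a2613c502a160bc0e0501, 0, 192, 0x202000403001202001403010202010a03, []⟩]

theorem t9_499_60 : jobs 8 S9 b8_499 j9_499_60 = true := by decide +kernel

noncomputable def j9_499_61 : List Job := [
  ⟨2, 0x5c0e272399f0fa7e3fce0723a1d8f07a3e1fc804222118904a2613c48271008c0e0501, 0, 160, 0x160700360700500500680500b60700d60200f007010807, []⟩]

theorem t9_499_61 : jobs 8 S9 b8_499 j9_499_61 = true := by decide +kernel

noncomputable def j9_499_62 : List Job := [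
  ⟨1, 0x580c262319b0da6e37d40a25229960b25a2dd00824221920924a25ce0723a1d8f07a3e1fc804222118904a2613c44251009c0e0501, 0, 160, 0xe01001001001602001e0100200100360600500200680300ae0100b00100b60300be0100c00100d60300f005010802, []⟩]

theorem t9_499_62 : jobs 8 S9 b8_499 j9_499_62 = true := by decide +kernel

noncomputable def j9_499_63 : List Job := [
  ⟨0, 0x5c0e272399f0fa7e3fce0723a1d8f07a3e1fc804222118904a2613c48271008c0e0501, 0, 120, 0x602002606004407005c0500a40200b40600c20700ce05, []⟩]

theorem t9_499_63 : jobs 8 S9 b8_499 j9_499_63 = true := by decide +kernel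

theorem d9_499 : Dn 8 S9 b8_499 := dn_of (Js := j9_499_0 ++ (j9_499_1 ++ (j9_499_2 ++ (j9_499_3 ++ (j9_499_4 ++ (j9_499_5 ++ (j9_499_6 ++ (j9_499_7 ++ (j9_499_8 ++ (j9_499_9 ++ (j9_499_10 ++ (j9_499_11 ++ (j9_499_12 ++ (j9_499_13 ++ (j9_499_14 ++ (j9_499_15 ++ (j9_499_16 ++ (j9_499_17 ++ (j9_499_18 ++ (j9_499_19 ++ (j9_499_20 ++ (j9_499_21 ++ (j9_499_22 ++ (j9_499_23 ++ (j9_499_24 ++ (j9_499_25 ++ (j9_499_26 ++ (j9_499_27 ++ (j9_499_28 ++ (j9_499_29 ++ (j9_499_30 ++ (j9_499_31 ++ (j9_499_32 ++ (j9_499_33 ++ (j9_499_34 ++ (j9_499_35 ++ (j9_499_36 ++ (j9_499_37 ++ (j9_499_38 ++ (j9_499_39 ++ (j9_499_40 ++ (j9_499_41 ++ (j9_499_42 ++ (j9_499_43 ++ (j9_499_44 ++ (j9_499_45 ++ (j9_499_46 ++ (j9_499_47 ++ (j9_499_48 ++ (j9_499_49 ++ (j9_499_50 ++ (j9_499_51 ++ (j9_499_52 ++ (j9_499_53 ++ (j9_499_54 ++ (j9_499_55 ++ (j9_499_56 ++ (j9_499_57 ++ (j9_499_58 ++ (j9_499_59 ++ (j9_499_60 ++ (j9_499_61 ++ (j9_499_62 ++ (j9_499_63 ++ []))))))))))))))))))))))))))))))))))))))))))))))))))))))))))))))))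
  (jobs_append t9_499_0 <| jobs_append t9_499_1 <| jobs_append t9_499_2 <| jobs_append t9_499_3 <| jobs_append t9_499_4 <| jobs_append t9_499_5 <| jobs_append t9_499_6 <| jobs_append t9_499_7 <| jobs_append t9_499_8 <| jobs_append t9_499_9 <| jobs_append t9_499_10 <| jobs_append t9_499_11 <| jobs_append t9_499_12 <| jobs_append t9_499_13 <| jobs_append t9_499_14 <| jobs_append t9_499_15 <| jobs_append t9_499_16 <| jobs_append t9_499_17 <| jobs_append t9_499_18 <| jobs_append t9_499_19 <| jobs_append t9_499_20 <| jobs_append t9_499_21 <| jobs_append t9_499_22 <| jobs_append t9_499_23 <| jobs_append t9_499_24 <| jobs_append t9_499_25 <| jobs_append t9_499_26 <| jobs_append t9_499_27 <| jobs_append t9_499_28 <| jobs_append t9_499_29 <| jobs_append t9_499_30 <| jobs_append t9_499_31 <| jobs_append t9_499_32 <| jobs_append t9_499_33 <| jobs_append t9_499_34 <| jobs_append t9_499_35 <| jobs_append t9_499_36 <| jobs_append t9_499_37 <| jobs_append t9_499_38 <| jobs_append t9_499_39 <| jobs_append t9_499_40 <| jobs_append t9_499_41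 <| jobs_append t9_499_42 <| jobs_append t9_499_43 <| jobs_append t9_499_44 <| jobs_append t9_499_45 <| jobs_append t9_499_46 <| jobs_append t9_499_47 <| jobs_append t9_499_48 <| jobs_append t9_499_49 <| jobs_append t9_499_50 <| jobs_append t9_499_51 <| jobs_append t9_499_52 <| jobs_append t9_499_53 <| jobs_append t9_499_54 <| jobs_append t9_499_55 <| jobs_append t9_499_56 <| jobs_append t9_499_57 <| jobs_append t9_499_58 <| jobs_append t9_499_59 <| jobs_append t9_499_60 <| jobs_append t9_499_61 <| jobs_append t9_499_62 <| jobs_append t9_499_63 <| List.forall_mem_nil _) (by decide +kernel)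

end Cfsg.Agent.FS.N.Sw
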