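import Cfsg.Agent.FS.N.Sw.Seg
import Cfsg.Agent.FS.N.G.S9
import Cfsg.Agent.FS.N.G.L.L20
import Cfsg.Agent.FS.N.G.L.L21

/-! The filter on the pairs for the order 512, part 50 (generated; helper52, project FS) -/

set_option autoImplicit false
set_option maxRecDepth 100000
set_option Elab.async false

namespace Cfsg.Agent.FS.N.Sw

open G

noncomputable def j9_527_0 : List Job := [
  ⟨63, 0x488462613c80422412c301a0e07c0e0501, 0, 24, 0xe04001003001e05, []⟩]

theorem t9_527_0 : jobs 8 S9 b8_527 j9_527_0 = true := by decide +kernel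

noncomputable def j9_527_1 : List Job := [
  ⟨62, 0x484442513480462413c301a0e07c0e0501, 0, 24, 0xe05001004001e07, []⟩]

theorem t9_527_1 : jobs 8 S9 b8_527 j9_527_1 = true := by decide +kernel

noncomputable def j9_527_2 : List Job := [
  ⟨61, 0x42417080540e0501, 0, 32, 0x0, []⟩]

theorem t9_527_2 : jobs 8 S9 b8_527 j9_527_2 = true := by decide +kernel

noncomputable def j9_527_3 : List Job := [
  ⟨60, 0x4a0522a158b05a2e17c84442513480462413c2417080540e0501, 0, 32, 0x0, []⟩]

theorem t9_527_3 : jobs 8 S9 b8_527 j9_527_3 = true := by decide +kernel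

noncomputable def j9_527_4 : List Job := [
  ⟨59, 0x4a0522a158b05a2e17c301a0e07c0e0501, 0, 32, 0x0, []⟩]

theorem t9_527_4 : jobs 8 S9 b8_527 j9_527_4 = true := by decide +kernel

noncomputable def j9_527_5 : List Job := [
  ⟨58, 0x488462613c80422412c301a0e07c0e0501, 0, 32, 0x1203001406002203002405, []⟩]

theorem t9_527_5 : jobs 8 S9 b8_527 j9_527_5 = true := by decide +kernel

noncomputable def j9_527_6 : List Job := [
  ⟨57, 0x424150805c0e0501, 0, 24, 0x0, []⟩]

theorem t9_527_6 : jobs 8 S9 b8_527 j9_527_6 = true := by decide +kernel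

noncomputable def j9_527_7 : List Job := [
  ⟨56, 0x42417080540e0501, 0, 24, 0x0, []⟩]

theorem t9_527_7 : jobs 8 S9 b8_527 j9_527_7 = true := by decide +kernel

noncomputable def j9_527_8 : List Job := [
  ⟨55, 0x4a0522a158b05a2e17c84442513480462413c28170804c0e0501, 0, 24, 0x0, []⟩]

theorem t9_527_8 : jobs 8 S9 b8_527 j9_527_8 = true := by decide +kernel

noncomputable def j9_527_9 : List Job := [
  ⟨54, 0x4a0522a158b05a2e17c88462613c80422412c2417080540e0501, 0, 48, 0x3204003405003a04005604005805005e05, []⟩]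

theorem t9_527_9 : jobs 8 S9 b8_527 j9_527_9 = true := by decide +kernel

noncomputable def j9_527_10 : List Job := [
  ⟨53, 0x4180f0402c0e0501, 0, 18, 0x0, []⟩]

theorem t9_527_10 : jobs 8 S9 b8_527 j9_527_10 = true := by decide +kernel

noncomputable def j9_527_11 : List Job := [
  ⟨52, 0x4180f0402c0e0501, 0, 18, 0x0, []⟩]

theorem t9_527_11 : jobs 8 S9 b8_527 j9_527_11 = true := by decide +kernel

noncomputable def j9_527_12 : List Job := [
  ⟨51, 0x4a0522a158b05a2e17c88462613c80422412c180f0402c0e0501, 0, 24, 0x204000405001205, []⟩]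

theorem t9_527_12 : jobs 8 S9 b8_527 j9_527_12 = true := by decide +kernel

noncomputable def j9_527_13 : List Job := [
  ⟨50, 0x4a0522a158b05a2e17c84442513480462413c140d0403c0e0501, 0, 20, 0x202000403001203, []⟩]

theorem t9_527_13 : jobs 8 S9 b8_527 j9_527_13 = true := by decide +kernel

noncomputable def j9_527_14 : List Job := [
  ⟨49, 0x4a0522a158b05a2e17c301a0e07c20120a05c180f0402c0e0501, 0, 24, 0x0, []⟩]

theorem t9_527_14 : jobs 8 S9 b8_527 j9_527_14 = true := by decide +kernel

noncomputable def j9_527_15 : List Job := [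
  ⟨48, 0x484442513480462413c301a0e07c20120a05c140d0403c0e0501, 0, 24, 0x202000403001202001403, []⟩]

theorem t9_527_15 : jobs 8 S9 b8_527 j9_527_15 = true := by decide +kernel

noncomputable def j9_527_16 : List Job := [
  ⟨47, 0x4180f0402c0e0501, 0, 24, 0x0, []⟩]

theorem t9_527_16 : jobs 8 S9 b8_527 j9_527_16 = true := by decide +kernel

noncomputable def j9_527_17 : List Job := [
  ⟨46, 0x4a0522a158b05a2e17c88462613c80422412c180f0402c0e0501, 0, 24, 0x204000405001204001405, []⟩]

theorem t9_527_17 : jobs 8 S9 b8_527 j9_527_17 = true := by decide +kernel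

noncomputable def j9_527_18 : List Job := [
  ⟨45, 0x4a0522a158b05a2e17c301a0e07c20120a05c180f0402c0e0501, 0, 18, 0x0, []⟩]

theorem t9_527_18 : jobs 8 S9 b8_527 j9_527_18 = true := by decide +kernel

noncomputable def j9_527_19 : List Job := [
  ⟨44, 0x4a0522a158b05a2e17c301a0e07c20120a05c180f0402c0e0501, 0, 30, 0x2601002801002a04002c05003004003404, []⟩]

theorem t9_527_19 : jobs 8 S9 b8_527 j9_527_19 = true := by decide +kernel

noncomputable def j9_527_20 : List Job := [
  ⟨43, 0x484442513480462413c301a0e07c20120a05c140d0403c0e0501, 0, 18, 0x202000403001203, []⟩]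

theorem t9_527_20 : jobs 8 S9 b8_527 j9_527_20 = true := by decide +kernel

noncomputable def j9_527_21 : List Job := [
  ⟨42, 0x488462613c80422412c301a0e07c20120a05c180f0402c0e0501, 0, 30, 0x204000405001205001a04001c01001e04002001002e04003005, []⟩]

theorem t9_527_21 : jobs 8 S9 b8_527 j9_527_21 = true := by decide +kernel

noncomputable def j9_527_22 : List Job := [
  ⟨41, 0x4a0522a158b05a2e17c301a0e07c0e0501, 0, 24, 0x0, []⟩]

theorem t9_527_22 : jobs 8 S9 b8_527 j9_527_22 = true := by decide +kernel

noncomputable def j9_527_23 : List Job := [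
  ⟨40, 0x540a25229950aa562b960b25a2d970ba5e2fd008242219108a4623920924a259309a4e27ca0522a158b05a2e17c301a0e07c0e0501, 0, 24, 0x0, []⟩]

theorem t9_527_23 : jobs 8 S9 b8_527 j9_527_23 = true := by decide +kernel

noncomputable def j9_527_24 : List Job := [
  ⟨39, 0x484462513c804424134301a0e07c0e0501, 0, 24, 0xe05001005001e05, []⟩]

theorem t9_527_24 : jobs 8 S9 b8_527 j9_527_24 = true := by decide +kernel

noncomputable def j9_527_25 : List Job := [
  ⟨38, 0x540a25229950aa562b960b25a2d970ba5e2fd008242219108a4623920924a259309a4e27c88462613c80422412c301a0e07c0e0501, 0, 24, 0xe03001003001e03, []⟩]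

theorem t9_527_25 : jobs 8 S9 b8_527 j9_527_25 = true := by decide +kernel

noncomputable def j9_527_26 : List Job := [
  ⟨37, 0x5008242219108a4623920924a259309a4e27c24150805c0e0501, 0, 32, 0x0, []⟩]

theorem t9_527_26 : jobs 8 S9 b8_527 j9_527_26 = true := by decide +kernel

noncomputable def j9_527_27 : List Job := [
  ⟨36, 0x5008242219108a4623920924a259309a4e27ca0522a158b05a2e17c88462613c80422412c24150805c0e0501, 0, 32, 0x0, []⟩]

theorem t9_527_27 : jobs 8 S9 b8_527 j9_527_27 = true := by decide +kernel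

noncomputable def j9_527_28 : List Job := [
  ⟨35, 0x5008242219108a4623920924a259309a4e27ca0522a158b05a2e17c301a0e07c0e0501, 0, 32, 0x0, []⟩]

theorem t9_527_28 : jobs 8 S9 b8_527 j9_527_28 = true := by decide +kernel

noncomputable def j9_527_29 : List Job := [
  ⟨34, 0x5008242219108a4623920924a259309a4e27c88462613c80422412c301a0e07c0e0501, 0, 32, 0x1203001403002203002403, []⟩]

theorem t9_527_29 : jobs 8 S9 b8_527 j9_527_29 = true := by decide +kernel

noncomputable def j9_527_30 : List Job := [
  ⟨33, 0x428170804c0e0501, 0, 24, 0x0, []⟩]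

theorem t9_527_30 : jobs 8 S9 b8_527 j9_527_30 = true := by decide +kernel

noncomputable def j9_527_31 : List Job := [
  ⟨32, 0x540a25229950aa562b960b25a2d970ba5e2fd008242219108a4623920924a259309a4e27c28170804c0e0501, 0, 24, 0x0, []⟩]

theorem t9_527_31 : jobs 8 S9 b8_527 j9_527_31 = true := by decide +kernel

noncomputable def j9_527_32 : List Job := [
  ⟨31, 0x4a0522a158b05a2e17c84462513c80442413428170804c0e0501, 0, 24, 0x0, []⟩]

theorem t9_527_32 : jobs 8 S9 b8_527 j9_527_32 = true := by decide +kernel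

noncomputable def j9_527_33 : List Job := [
  ⟨30, 0x540a25229950aa562b960b25a2d970ba5e2fd008242219108a4623920924a259309a4e27ca0522a158b05a2e17c88462613c80422412c2417080540e0501, 0, 48, 0x3204003405003a04005604005805005e05, []⟩]

theorem t9_527_33 : jobs 8 S9 b8_527 j9_527_33 = true := by decide +kernel

noncomputable def j9_527_34 : List Job := [
  ⟨29, 0x4140f040340e0501, 0, 18, 0x0, []⟩]

theorem t9_527_34 : jobs 8 S9 b8_527 j9_527_34 = true := by decide +kernel

noncomputable def j9_527_35 : List Job := [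
  ⟨28, 0x540a25229950aa562b960b25a2d970ba5e2fd008242219108a4623920924a259309a4e27c140f040340e0501, 0, 18, 0x0, []⟩]

theorem t9_527_35 : jobs 8 S9 b8_527 j9_527_35 = true := by decide +kernel

noncomputable def j9_527_36 : List Job := [
  ⟨27, 0x4a0522a158b05a2e17c84462513c804424134140f040340e0501, 0, 20, 0x202000403001203, []⟩]

theorem t9_527_36 : jobs 8 S9 b8_527 j9_527_36 = true := by decide +kernel

noncomputable def j9_527_37 : List Job := [
  ⟨26, 0x540a25229950aa562b960b25a2d970ba5e2fd008242219108a4623920924a259309a4e27ca0522a158b05a2e17c88462613c80422412c180f0402c0e0501, 0, 24, 0x204000405001205, []⟩]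

theorem t9_527_37 : jobs 8 S9 b8_527 j9_527_37 = true := by decide +kernel

noncomputable def j9_527_38 : List Job := [
  ⟨25, 0x504844523124944c27d00864423920964d274a0522a158b05a2e17c301a0e07c20120a05c140f040340e0501, 0, 24, 0x0, []⟩]

theorem t9_527_38 : jobs 8 S9 b8_527 j9_527_38 = true := by decide +kernel

noncomputable def j9_527_39 : List Job := [
  ⟨24, 0x508864623928964c26d00824422920924e27c84442513480462413c301a0e07c20120a05c140d0403c0e0501, 0, 24, 0x204000405001204001405, []⟩]

theorem t9_527_39 : jobs 8 S9 b8_527 j9_527_39 = true := by decide +kernel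

noncomputable def j9_527_40 : List Job := [
  ⟨23, 0x5008242219108a4623920924a259309a4e27c140f040340e0501, 0, 24, 0x0, []⟩]

theorem t9_527_40 : jobs 8 S9 b8_527 j9_527_40 = true := by decide +kernel

noncomputable def j9_527_41 : List Job := [
  ⟨22, 0x5008242219108a4623920924a259309a4e27ca0522a158b05a2e17c88462613c80422412c180f0402c0e0501, 0, 24, 0x204000405001204001405, []⟩]

theorem t9_527_41 : jobs 8 S9 b8_527 j9_527_41 = true := by decide +kernel

noncomputable def j9_527_42 : List Job := [
  ⟨21, 0x4a0522a158b05a2e17c301a0e07c20120a05c140f040340e0501, 0, 18, 0x0, []⟩]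

theorem t9_527_42 : jobs 8 S9 b8_527 j9_527_42 = true := by decide +kernel

noncomputable def j9_527_43 : List Job := [
  ⟨20, 0x548a6562b968b65c2ed40a2542a960b25e2fd08864623928964c26d00824422920924e27ca0522a158b05a2e17c301a0e07c20120a05c140f040340e0501, 0, 30, 0x2a02002c03003002003402, []⟩]

theorem t9_527_43 : jobs 8 S9 b8_527 j9_527_43 = true := by decide +kernel

noncomputable def j9_527_44 : List Job := [
  ⟨19, 0x484462513c804424134301a0e07c20120a05c140f040340e0501, 0, 18, 0x202000403001203, []⟩]

theorem t9_527_44 : jobs 8 S9 b8_527 j9_527_44 = true := by decide +kernel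

noncomputable def j9_527_45 : List Job := [
  ⟨18, 0x544a6552b964b65c2f540a4542b160b45d2fd04864523924964c27500844423120944d27c88462613c80422412c301a0e07c20120a05c180f0402c0e0501, 0, 30, 0x204000405001205001a04001e04002e04003005, []⟩]

theorem t9_527_45 : jobs 8 S9 b8_527 j9_527_45 = true := by decide +kernel

noncomputable def j9_527_46 : List Job := [
  ⟨17, 0x46435180dc0e0501, 0, 32, 0x1403001804001c03002004002407002803002c07003003, []⟩]

theorem t9_527_46 : jobs 8 S9 b8_527 j9_527_46 = true := by decide +kernel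

noncomputable def j9_527_47 : List Job := [
  ⟨16, 0x5008242219108a4623920924a259309a4e27c6435180dc0e0501, 0, 32, 0x1403001807001c03002007002403002807002c03003007, []⟩]

theorem t9_527_47 : jobs 8 S9 b8_527 j9_527_47 = true := by decide +kernel

noncomputable def j9_527_48 : List Job := [
  ⟨15, 0x4e0723a1d8f07a3e1fc84462513c8044241346435180dc0e0501, 0, 32, 0x1403001801001c07002001002403002801002c03003001, []⟩]

theorem t9_527_48 : jobs 8 S9 b8_527 j9_527_48 = true := by decide +kernel

noncomputable def j9_527_49 : List Job := [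
  ⟨14, 0x5008242219108a4623920924a259309a4e27ce0723a1d8f07a3e1fc88462613c80422412c6435180dc0e0501, 0, 32, 0x1405001801001c05002001002405002801002c02003001, []⟩]

theorem t9_527_49 : jobs 8 S9 b8_527 j9_527_49 = true := by decide +kernel

noncomputable def j9_527_50 : List Job := [
  ⟨13, 0x4e0723a1d8f07a3e1fc703a1e0fc0e0501, 0, 32, 0x0, []⟩]

theorem t9_527_50 : jobs 8 S9 b8_527 j9_527_50 = true := by decide +kernel

noncomputable def j9_527_51 : List Job := [
  ⟨12, 0x5008242219108a4623920924a259309a4e27ce0723a1d8f07a3e1fc703a1e0fc0e0501, 0, 32, 0x0, []⟩]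

theorem t9_527_51 : jobs 8 S9 b8_527 j9_527_51 = true := by decide +kernel

noncomputable def j9_527_52 : List Job := [
  ⟨11, 0x484462513c804424134703a1e0fc0e0501, 0, 32, 0x1207002205, []⟩]

theorem t9_527_52 : jobs 8 S9 b8_527 j9_527_52 = true := by decide +kernel

noncomputable def j9_527_53 : List Job := [
  ⟨10, 0x5008242219108a4623920924a259309a4e27c84442513480462413c703a1e0fc0e0501, 0, 32, 0x1203002204, []⟩]

theorem t9_527_53 : jobs 8 S9 b8_527 j9_527_53 = true := by decide +kernel

noncomputable def j9_527_54 : List Job := [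
  ⟨9, 0x4e0723a1d8f07a3e1fc703a1e0fc0e0501, 0, 32, 0x0, []⟩]

theorem t9_527_54 : jobs 8 S9 b8_527 j9_527_54 = true := by decide +kernel

noncomputable def j9_527_55 : List Job := [
  ⟨8, 0x5008242219108a4623920924a259309a4e27ce0723a1d8f07a3e1fc703a1e0fc0e0501, 0, 32, 0x0, []⟩]

theorem t9_527_55 : jobs 8 S9 b8_527 j9_527_55 = true := by decide +kernel

noncomputable def j9_527_56 : List Job := [
  ⟨7, 0x484462513c804424134703a1e0fc0e0501, 0, 32, 0x1207002207, []⟩]

theorem t9_527_56 : jobs 8 S9 b8_527 j9_527_56 = true := by decide +kernel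

noncomputable def j9_527_57 : List Job := [
  ⟨6, 0x5008242219108a4623920924a259309a4e27c84442513480462413c703a1e0fc0e0501, 0, 32, 0x1203002203, []⟩]

theorem t9_527_57 : jobs 8 S9 b8_527 j9_527_57 = true := by decide +kernel

noncomputable def j9_527_58 : List Job := [
  ⟨5, 0x46837180cc0e0501, 0, 32, 0x1403001804001c03002004002403002807002c03003007, []⟩]

theorem t9_527_58 : jobs 8 S9 b8_527 j9_527_58 = true := by decide +kernel

noncomputable def j9_527_59 : List Job := [
  ⟨4, 0x5008242219108a4623920924a259309a4e27c6837180cc0e0501, 0, 32, 0x1403001807001c03002007002407002803002c07003003, []⟩]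

theorem t9_527_59 : jobs 8 S9 b8_527 j9_527_59 = true := by decide +kernel

noncomputable def j9_527_60 : List Job := [
  ⟨3, 0x4e0723a1d8f07a3e1fc84462513c8044241346837180cc0e0501, 0, 32, 0x1403001c07002403002c04, []⟩]

theorem t9_527_60 : jobs 8 S9 b8_527 j9_527_60 = true := by decide +kernel

noncomputable def j9_527_61 : List Job := [
  ⟨2, 0x5008242219108a4623920924a259309a4e27ce0723a1d8f07a3e1fc88462613c80422412c6437180d40e0501, 0, 64, 0x1405001c05002405002c05004204004a04005405005c05006405006c05007204007a04, []⟩]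

theorem t9_527_61 : jobs 8 S9 b8_527 j9_527_61 = true := by decide +kernel

noncomputable def j9_527_62 : List Job := [
  ⟨1, 0x4e0723a1d8f07a3e1fc703a1e0fc60321a0dc140f040340e0501, 0, 24, 0x1405001605001805001c05001e05002005, []⟩]

theorem t9_527_62 : jobs 8 S9 b8_527 j9_527_62 = true := by decide +kernel

noncomputable def j9_527_63 : List Job := [
  ⟨0, 0x5008242219108a4623920924a259309a4e27ce0723a1d8f07a3e1fc703a1e0fc60321a0dc140f040340e0501, 0, 24, 0x406000602000803000c06000e02001003, []⟩]

theorem t9_527_63 : jobs 8 S9 b8_527 j9_527_63 = true := by decide +kernel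

theorem d9_527 : Dn 8 S9 b8_527 := dn_of (Js := j9_527_0 ++ (j9_527_1 ++ (j9_527_2 ++ (j9_527_3 ++ (j9_527_4 ++ (j9_527_5 ++ (j9_527_6 ++ (j9_527_7 ++ (j9_527_8 ++ (j9_527_9 ++ (j9_527_10 ++ (j9_527_11 ++ (j9_527_12 ++ (j9_527_13 ++ (j9_527_14 ++ (j9_527_15 ++ (j9_527_16 ++ (j9_527_17 ++ (j9_527_18 ++ (j9_527_19 ++ (j9_527_20 ++ (j9_527_21 ++ (j9_527_22 ++ (j9_527_23 ++ (j9_527_24 ++ (j9_527_25 ++ (j9_527_26 ++ (j9_527_27 ++ (j9_527_28 ++ (j9_527_29 ++ (j9_527_30 ++ (j9_527_31 ++ (j9_527_32 ++ (j9_527_33 ++ (j9_527_34 ++ (j9_527_35 ++ (j9_527_36 ++ (j9_527_37 ++ (j9_527_38 ++ (j9_527_39 ++ (j9_527_40 ++ (j9_527_41 ++ (j9_527_42 ++ (j9_527_43 ++ (j9_527_44 ++ (j9_527_45 ++ (j9_527_46 ++ (j9_527_47 ++ (j9_527_48 ++ (j9_527_49 ++ (j9_527_50 ++ (j9_527_51 ++ (j9_527_52 ++ (j9_527_53 ++ (j9_527_54 ++ (j9_527_55 ++ (j9_527_56 ++ (j9_527_57 ++ (j9_527_58 ++ (j9_527_59 ++ (j9_527_60 ++ (j9_527_61 ++ (j9_527_62 ++ (j9_527_63 ++ []))))))))))))))))))))))))))))))))))))))))))))))))))))))))))))))))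
  (jobs_append t9_527_0 <| jobs_append t9_527_1 <| jobs_append t9_527_2 <| jobs_append t9_527_3 <| jobs_append t9_527_4 <| jobs_append t9_527_5 <| jobs_append t9_527_6 <| jobs_append t9_527_7 <| jobs_append t9_527_8 <| jobs_append t9_527_9 <| jobs_append t9_527_10 <| jobs_append t9_527_11 <| jobs_append t9_527_12 <| jobs_append t9_527_13 <| jobs_append t9_527_14 <| jobs_append t9_527_15 <| jobs_append t9_527_16 <| jobs_append t9_527_17 <| jobs_append t9_527_18 <| jobs_append t9_527_19 <| jobs_append t9_527_20 <| jobs_append t9_527_21 <| jobs_append t9_527_22 <| jobs_append t9_527_23 <| jobs_append t9_527_24 <| jobs_append t9_527_25 <| jobs_append t9_527_26 <| jobs_append t9_527_27 <| jobs_append t9_527_28 <| jobs_append t9_527_29 <| jobs_append t9_527_30 <| jobs_append t9_527_31 <| jobs_append t9_527_32 <| jobs_append t9_527_33 <| jobs_append t9_527_34 <| jobs_append t9_527_35 <| jobs_append t9_527_36 <| jobs_append t9_527_37 <| jobs_append t9_527_38 <| jobs_append t9_527_39 <| jobs_append t9_527_40 <| jobs_append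 t9_527_41 <| jobs_append t9_527_42 <| jobs_append t9_527_43 <| jobs_append t9_527_44 <| jobs_append t9_527_45 <| jobs_append t9_527_46 <| jobs_append t9_527_47 <| jobs_append t9_527_48 <| jobs_append t9_527_49 <| jobs_append t9_527_50 <| jobs_append t9_527_51 <| jobs_append t9_527_52 <| jobs_append t9_527_53 <| jobs_append t9_527_54 <| jobs_append t9_527_55 <| jobs_append t9_527_56 <| jobs_append t9_527_57 <| jobs_append t9_527_58 <| jobs_append t9_527_59 <| jobs_append t9_527_60 <| jobs_append t9_527_61 <| jobs_append t9_527_62 <| jobs_append t9_527_63 <| List.forall_mem_nil _) (by decide +kernel)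

noncomputable def j9_528_0 : List Job := [
  ⟨63, 0x46437180d40e0501, 0, 18, 0xa05000c05, []⟩]

theorem t9_528_0 : jobs 8 S9 b8_528 j9_528_0 = true := by decide +kernel

noncomputable def j9_528_1 : List Job := [
  ⟨62, 0x4a0522a158b05a2e17c804222118904a2613c6837180cc0e0501, 0, 18, 0x403000803000a03000c03, []⟩]

theorem t9_528_1 : jobs 8 S9 b8_528 j9_528_1 = true := by decide +kernel

noncomputable def j9_528_2 : List Job := [
  ⟨61, 0x4a0522a158b05a2e17c804222118904a2613c6437180d40e0501, 0, 36, 0xa05000c05, []⟩]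

theorem t9_528_2 : jobs 8 S9 b8_528 j9_528_2 = true := by decide +kernel

noncomputable def j9_528_3 : List Job := [
  ⟨60, 0x4804222118904a2613c6435180dc0e0501, 0, 36, 0x403000807000c03001007001203001405001603001805, []⟩]

theorem t9_528_3 : jobs 8 S9 b8_528 j9_528_3 = true := by decide +kernel

noncomputable def j9_528_4 : List Job := [
  ⟨59, 0x540a25229950aa562b960b25a2d970ba5e2fd008242219108a4623920924a259309a4e27c804222118904a2613c6435180dc0e0501, 0, 36, 0x405000807000c05001007, []⟩]

theorem t9_528_4 : jobs 8 S9 b8_528 j9_528_4 = true := by decide +kernel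

noncomputable def j9_528_5 : List Job := [
  ⟨58, 0x5008242219108a4623920924a259309a4e27c703a1e0fc0e0501, 0, 24, 0x0, []⟩]

theorem t9_528_5 : jobs 8 S9 b8_528 j9_528_5 = true := by decide +kernel

noncomputable def j9_528_6 : List Job := [
  ⟨57, 0x5008242219108a4623920924a259309a4e27ca0522a158b05a2e17c804222118904a2613c703a1e0fc0e0501, 0, 24, 0x0, []⟩]

theorem t9_528_6 : jobs 8 S9 b8_528 j9_528_6 = true := by decide +kernel

noncomputable def j9_528_7 : List Job := [
  ⟨56, 0x5008242219108a4623920924a259309a4e27c804222118904a2613c703a1e0fc0e0501, 0, 48, 0x0, []⟩]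

theorem t9_528_7 : jobs 8 S9 b8_528 j9_528_7 = true := by decide +kernel

noncomputable def j9_528_8 : List Job := [
  ⟨55, 0x46837180cc0e0501, 0, 18, 0x407000807000a05000c05, []⟩]

theorem t9_528_8 : jobs 8 S9 b8_528 j9_528_8 = true := by decide +kernel

noncomputable def j9_528_9 : List Job := [
  ⟨54, 0x540a25229950aa562b960b25a2d970ba5e2fd008242219108a4623920924a259309a4e27c6837180cc0e0501, 0, 18, 0x407000807, []⟩]

theorem t9_528_9 : jobs 8 S9 b8_528 j9_528_9 = true := by decide +kernel

noncomputable def j9_528_10 : List Job := [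
  ⟨53, 0x4a0522a158b05a2e17c804222118904a2613c6837180cc0e0501, 0, 18, 0x403000803000a03000c03, []⟩]

theorem t9_528_10 : jobs 8 S9 b8_528 j9_528_10 = true := by decide +kernel

noncomputable def j9_528_11 : List Job := [
  ⟨52, 0x540a25229950aa562b960b25a2d970ba5e2fd008242219108a4623920924a259309a4e27ca0522a158b05a2e17c804222118904a2613c6437180d40e0501, 0, 36, 0x405000805, []⟩]

theorem t9_528_11 : jobs 8 S9 b8_528 j9_528_11 = true := by decide +kernel

noncomputable def j9_528_12 : List Job := [
  ⟨51, 0x4301a0e07c0e0501, 0, 28, 0x0, []⟩]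

theorem t9_528_12 : jobs 8 S9 b8_528 j9_528_12 = true := by decide +kernel

noncomputable def j9_528_13 : List Job := [
  ⟨50, 0x504864523924964c27500844423120944d27c301a0e07c0e0501, 0, 28, 0x0, []⟩]

theorem t9_528_13 : jobs 8 S9 b8_528 j9_528_13 = true := by decide +kernel

noncomputable def j9_528_14 : List Job := [
  ⟨49, 0x4e0723a1d8f07a3e1fc804222118904a2613c301a0e07c0e0501, 0, 28, 0x0, []⟩]

theorem t9_528_14 : jobs 8 S9 b8_528 j9_528_14 = true := by decide +kernel

noncomputable def j9_528_15 : List Job := [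
  ⟨48, 0x508864623928964c26d00824422920924e27ce0723a1d8f07a3e1fc804222118904a2613c301a0e07c0e0501, 0, 28, 0x0, []⟩]

theorem t9_528_15 : jobs 8 S9 b8_528 j9_528_15 = true := by decide +kernel

noncomputable def j9_528_16 : List Job := [
  ⟨47, 0x4804222118904a2613c24150805c0e0501, 0, 48, 0x0, []⟩]

theorem t9_528_16 : jobs 8 S9 b8_528 j9_528_16 = true := by decide +kernel

noncomputable def j9_528_17 : List Job := [
  ⟨46, 0x508864623928964c26d00824422920924e27c804222118904a2613c24150805c0e0501, 0, 48, 0x0, []⟩]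

theorem t9_528_17 : jobs 8 S9 b8_528 j9_528_17 = true := by decide +kernel

noncomputable def j9_528_18 : List Job := [
  ⟨45, 0x4804222118904a2613c301a0e07c0e0501, 0, 48, 0x0, []⟩]

theorem t9_528_18 : jobs 8 S9 b8_528 j9_528_18 = true := by decide +kernel

noncomputable def j9_528_19 : List Job := [
  ⟨44, 0x508864623928964c26d00824422920924e27c804222118904a2613c301a0e07c0e0501, 0, 48, 0x0, []⟩]

theorem t9_528_19 : jobs 8 S9 b8_528 j9_528_19 = true := by decide +kernel

noncomputable def j9_528_20 : List Job := [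
  ⟨43, 0x428170804c0e0501, 0, 28, 0x0, []⟩]

theorem t9_528_20 : jobs 8 S9 b8_528 j9_528_20 = true := by decide +kernel

noncomputable def j9_528_21 : List Job := [
  ⟨42, 0x504864523924964c27500844423120944d27c28170804c0e0501, 0, 28, 0x0, []⟩]

theorem t9_528_21 : jobs 8 S9 b8_528 j9_528_21 = true := by decide +kernel

noncomputable def j9_528_22 : List Job := [
  ⟨41, 0x4e0723a1d8f07a3e1fc804222118904a2613c28170804c0e0501, 0, 28, 0x0, []⟩]

theorem t9_528_22 : jobs 8 S9 b8_528 j9_528_22 = true := by decide +kernel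

noncomputable def j9_528_23 : List Job := [
  ⟨40, 0x508864623928964c26d00824422920924e27ce0723a1d8f07a3e1fc804222118904a2613c2417080540e0501, 0, 52, 0x0, []⟩]

theorem t9_528_23 : jobs 8 S9 b8_528 j9_528_23 = true := by decide +kernel

noncomputable def j9_528_24 : List Job := [
  ⟨39, 0x4502a160bc0e0501, 0, 28, 0x0, []⟩]

theorem t9_528_24 : jobs 8 S9 b8_528 j9_528_24 = true := by decide +kernel

noncomputable def j9_528_25 : List Job := [
  ⟨38, 0x5008242219108a4623920924a259309a4e27c502a160bc0e0501, 0, 28, 0x0, []⟩]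

theorem t9_528_25 : jobs 8 S9 b8_528 j9_528_25 = true := by decide +kernel

noncomputable def j9_528_26 : List Job := [
  ⟨37, 0x4502a160bc0e0501, 0, 24, 0x0, []⟩]

theorem t9_528_26 : jobs 8 S9 b8_528 j9_528_26 = true := by decide +kernel

noncomputable def j9_528_27 : List Job := [
  ⟨36, 0x5008242219108a4623920924a259309a4e27c502a160bc0e0501, 0, 24, 0x0, []⟩]

theorem t9_528_27 : jobs 8 S9 b8_528 j9_528_27 = true := by decide +kernel

noncomputable def j9_528_28 : List Job := [
  ⟨35, 0x444251009c0e0501, 0, 36, 0x603000c03001203001803, []⟩]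

theorem t9_528_28 : jobs 8 S9 b8_528 j9_528_28 = true := by decide +kernel

noncomputable def j9_528_29 : List Job := [
  ⟨34, 0x5008242219108a4623920924a259309a4e27c48271008c0e0501, 0, 36, 0x605000c05001205001805, []⟩]

theorem t9_528_29 : jobs 8 S9 b8_528 j9_528_29 = true := by decide +kernel

noncomputable def j9_528_30 : List Job := [
  ⟨33, 0x444251009c0e0501, 0, 20, 0x203000603000a03000e03, []⟩]

theorem t9_528_30 : jobs 8 S9 b8_528 j9_528_30 = true := by decide +kernel

noncomputable def j9_528_31 : List Job := [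
  ⟨32, 0x5008242219108a4623920924a259309a4e27c48271008c0e0501, 0, 20, 0x205000605000a05000e05, []⟩]

theorem t9_528_31 : jobs 8 S9 b8_528 j9_528_31 = true := by decide +kernel

noncomputable def j9_528_32 : List Job := [
  ⟨31, 0x448271008c0e0501, 0, 20, 0x0, []⟩]

theorem t9_528_32 : jobs 8 S9 b8_528 j9_528_32 = true := by decide +kernel

noncomputable def j9_528_33 : List Job := [
  ⟨30, 0x5008242219108a4623920924a259309a4e27c4427100940e0501, 0, 40, 0x3e01004201, []⟩]

theorem t9_528_33 : jobs 8 S9 b8_528 j9_528_33 = true := by decide +kernel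

noncomputable def j9_528_34 : List Job := [
  ⟨29, 0x4e0723a1d8f07a3e1fc804222118904a2613c502a160bc0e0501, 0, 28, 0x0, []⟩]

theorem t9_528_34 : jobs 8 S9 b8_528 j9_528_34 = true := by decide +kernel

noncomputable def j9_528_35 : List Job := [
  ⟨28, 0x5008242219108a4623920924a259309a4e27ce0723a1d8f07a3e1fc804222118904a2613c502a160bc0e0501, 0, 28, 0x0, []⟩]

theorem t9_528_35 : jobs 8 S9 b8_528 j9_528_35 = true := by decide +kernel

noncomputable def j9_528_36 : List Job := [
  ⟨27, 0x4a0522a158b05a2e17c804222118904a2613c502a160bc0e0501, 0, 24, 0x0, []⟩]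

theorem t9_528_36 : jobs 8 S9 b8_528 j9_528_36 = true := by decide +kernel

noncomputable def j9_528_37 : List Job := [
  ⟨26, 0x5008242219108a4623920924a259309a4e27ca0522a158b05a2e17c804222118904a2613c502a160bc0e0501, 0, 24, 0x0, []⟩]

theorem t9_528_37 : jobs 8 S9 b8_528 j9_528_37 = true := by decide +kernel

noncomputable def j9_528_38 : List Job := [
  ⟨25, 0x4c06232198d06a361bc804222118904a2613c48271008c0e0501, 0, 36, 0x205000604000805000c01000e05001204001405001801, []⟩]

theorem t9_528_38 : jobs 8 S9 b8_528 j9_528_38 = true := by decide +kernel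

noncomputable def j9_528_39 : List Job := [
  ⟨24, 0x5008242219108a4623920924a259309a4e27cc06232198d06a361bc804222118904a2613c4427100940e0501, 0, 36, 0x203000602000803000c01000e03001202001401001801, []⟩]

theorem t9_528_39 : jobs 8 S9 b8_528 j9_528_39 = true := by decide +kernel

noncomputable def j9_528_40 : List Job := [
  ⟨23, 0x448271008c0e0501, 0, 20, 0x204000604000a04000e04, []⟩]

theorem t9_528_40 : jobs 8 S9 b8_528 j9_528_40 = true := by decide +kernel

noncomputable def j9_528_41 : List Job := [
  ⟨22, 0x5008242219108a4623920924a259309a4e27c48271008c0e0501, 0, 20, 0x204000604000a04000e04, []⟩]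

theorem t9_528_41 : jobs 8 S9 b8_528 j9_528_41 = true := by decide +kernel

noncomputable def j9_528_42 : List Job := [
  ⟨21, 0x4e0723a1d8f07a3e1fcc06232198d06a361bca0522a158b05a2e17c804222118904a2613c48271008c0e0501, 0, 20, 0x201000601000a01000e01, []⟩]

theorem t9_528_42 : jobs 8 S9 b8_528 j9_528_42 = true := by decide +kernel

noncomputable def j9_528_43 : List Job := [
  ⟨20, 0x5008242219108a4623920924a259309a4e27ce0723a1d8f07a3e1fcc06232198d06a361bca0522a158b05a2e17c804222118904a2613c4427100940e0501, 0, 40, 0x201000601000a01000e01003e01004201, []⟩]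

theorem t9_528_43 : jobs 8 S9 b8_528 j9_528_43 = true := by decide +kernel

noncomputable def j9_528_44 : List Job := [
  ⟨19, 0x4804222118904a2613c6435180dc502a160bc301a0e07c0e0501, 0, 36, 0x0, []⟩]

theorem t9_528_44 : jobs 8 S9 b8_528 j9_528_44 = true := by decide +kernel

noncomputable def j9_528_45 : List Job := [
  ⟨18, 0x4804222118904a2613c6437180d4502a160bc301a0e07c0e0501, 0, 36, 0x0, []⟩]

theorem t9_528_45 : jobs 8 S9 b8_528 j9_528_45 = true := by decide +kernel

noncomputable def j9_528_46 : List Job := [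
  ⟨17, 0x4804222118904a2613c703a1e0fc502a160bc2417080540e0501, 0, 48, 0x0, []⟩]

theorem t9_528_46 : jobs 8 S9 b8_528 j9_528_46 = true := by decide +kernel

noncomputable def j9_528_47 : List Job := [
  ⟨16, 0x4703a1e0fc48271008c301a0e07c0e0501, 0, 36, 0x202000802000e02001402001e06002a06003602003c02004205004805, []⟩]

theorem t9_528_47 : jobs 8 S9 b8_528 j9_528_47 = true := by decide +kernel

noncomputable def j9_528_48 : List Job := [
  ⟨15, 0x4c06232198d06a361bc804222118904a2613c703a1e0fc48271008c301a0e07c0e0501, 0, 36, 0x207000807000e07001403002005002c05003601003c01004201004801, []⟩]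

theorem t9_528_48 : jobs 8 S9 b8_528 j9_528_48 = true := by decide +kernel

noncomputable def j9_528_49 : List Job := [
  ⟨14, 0x46435180dc4e251188424150805c0e0501, 0, 26, 0x202000603000802000c03002602002a02002c02003005, []⟩]

theorem t9_528_49 : jobs 8 S9 b8_528 j9_528_49 = true := by decide +kernel

noncomputable def j9_528_50 : List Job := [
  ⟨13, 0x46437180d44e25118842417080540e0501, 0, 26, 0x202000603000802000c03002602002a02002c02003002, []⟩]

theorem t9_528_50 : jobs 8 S9 b8_528 j9_528_50 = true := by decide +kernel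

noncomputable def j9_528_51 : List Job := [
  ⟨12, 0x4c06232198d06a361bc804222118904a2613c6435180dc4e251188424150805c0e0501, 0, 38, 0x201000801002604002a02002c02003001003601003801003c01003e01004001004201004401004601004801004a01, []⟩]

theorem t9_528_51 : jobs 8 S9 b8_528 j9_528_51 = true := by decide +kernel

noncomputable def j9_528_52 : List Job := [
  ⟨11, 0x4c06232198d06a361bc804222118904a2613c6437180d44e25118842417080540e0501, 0, 44, 0x205000805002604002a05002c04003001003801004001004201004601004a01005201005401005801, []⟩]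

theorem t9_528_52 : jobs 8 S9 b8_528 j9_528_52 = true := by decide +kernel

noncomputable def j9_528_53 : List Job := [
  ⟨10, 0x4804222118904a2613c6837180cc502a160bc301a0e07c0e0501, 0, 68, 0x4a04004e04005204005604005a04005c05006005006204006405006805006a04006c05007005007204007405007805007a04007e04008204008604, []⟩]

theorem t9_528_53 : jobs 8 S9 b8_528 j9_528_53 = true := by decide +kernel

noncomputable def j9_528_54 : List Job := [
  ⟨9, 0x544a6552b964b65c2f540a4542b160b45d2fd04864523924964c27500844423120944d27c804222118904a2613c6837180cc502a160bc301a0e07c0e0501, 0, 68, 0x4a04004e04005204005604005a04005c05006005006204006405006805006a04006c05007005007204007405007805007a04007e04008204008604, []⟩]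

theorem t9_528_54 : jobs 8 S9 b8_528 j9_528_54 = true := by decide +kernel

noncomputable def j9_528_55 : List Job := [
  ⟨8, 0x504864523924964c27500844423120944d27c804222118904a2613c703a1e0fc502a160bc28170804c0e0501, 0, 80, 0x6204006405006a04006c05007204007a04008204008a04009204009405009a04009c05, []⟩]

theorem t9_528_55 : jobs 8 S9 b8_528 j9_528_55 = true := by decide +kernel

noncomputable def j9_528_56 : List Job := [
  ⟨7, 0x504864523924964c27500844423120944d27c703a1e0fc442710094301a0e07c0e0501, 0, 60, 0x204000804000e04001404001e02002a02003603003c05004203004804004a04004c01004e05005004005201005400005604005801005a05005c04005e01006005006204006401006605006804006a01006c05006e04007001007204007404007601007805, [(41, ⟨2922, 0x89004000250012000a010601010102000001, 0x18a2009822090280404⟩)]⟩]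

theorem t9_528_56 : jobs 8 S9 b8_528 j9_528_56 = true := by decide +kernel

noncomputable def j9_528_57 : List Job := [
  ⟨6, 0x504864523924964c27500844423120944d27cc06232198d06a361bc804222118904a2613c703a1e0fc442710094301a0e07c0e0501, 0, 60, 0x207000807000e07001407002007002c07003601003c01004201004801004a04005004005604005c00006005006200006800006e00007404, [(54, ⟨2921, 0x8b004000250012010a010601010102000001, 0x18b2009822090280404⟩), (51, ⟨2920, 0x8b004000250012000a000601010102000001, 0x18b2009822090280404⟩), (48, ⟨2919, 0x8b004000250012000a000601010102000001, 0x18b2009822090280404⟩), (45, ⟨2918, 0x8b004000250012010a000601010102000001, 0x18b2009822090280404⟩)]⟩]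

theorem t9_528_57 : jobs 8 S9 b8_528 j9_528_57 = true := by decide +kernel

noncomputable def j9_528_58 : List Job := [
  ⟨5, 0x46837180cc4e251188428170804c0e0501, 0, 50, 0x204000605000804000c05002604002a05002c04003007003620003801003a20003c20003e01004020004226004401004605004804004a01004c04004e04005001005201005404005601005805005a26005c01005e26006026006201006426, []⟩]

theorem t9_528_58 : jobs 8 S9 b8_528 j9_528_58 = true := by decide +kernel

noncomputable def j9_528_59 : List Job := [
  ⟨4, 0x544a6552b964b65c2f540a4542b160b45d2fd04864523924964c27500844423120944d27c6837180cc4e251188428170804c0e0501, 0, 50, 0x204000605000804000c05002604002a04002c04003004003620003801003a20003c20003e01004020004226004401004604004804004a01004c26004e04005001005201005404005601005804005a26005c01005e26006026006201006426, []⟩]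

theorem t9_528_59 : jobs 8 S9 b8_528 j9_528_59 = true := by decide +kernel

noncomputable def j9_528_60 : List Job := [
  ⟨3, 0x4c06232198d06a361bc804222118904a2613c6837180cc4e251188428170804c0e0501, 0, 50, 0x203000803002602002a03002c04003001003620003a20003c20004020004204004401004801004a01004e20005001005404005601005a00005e26006026006426, [(44, ⟨2917, 0x930048012300100008010501010002000001, 0x1932408c20080300404⟩)]⟩]

theorem t9_528_60 : jobs 8 S9 b8_528 j9_528_60 = true := by decide +kernel

noncomputable def j9_528_61 : List Job := [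
  ⟨2, 0x544a6552b964b65c2f540a4542b160b45d2fd04864523924964c27500844423120944d27cc06232198d06a361bc804222118904a2613c6837180cc4e251188428170804c0e0501, 0, 80, 0x203000803002602002a03002c04003001003620003a20003c20004020004204004801004e04005404005a00005e26006026006426006801007001007201007a01008201008401008a01009001009201009601009c01009e01, [(44, ⟨2916, 0x124004400198004000120006000080008000001, 0x191220cc200a0280404⟩)]⟩]

theorem t9_528_61 : jobs 8 S9 b8_528 j9_528_61 = true := by decide +kernel

noncomputable def j9_528_62 : List Job := [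
  ⟨1, 0x4a0522a158b05a2e17c301a0e07c0e0501, 0, 24, 0x0, []⟩]

theorem t9_528_62 : jobs 8 S9 b8_528 j9_528_62 = true := by decide +kernel

noncomputable def j9_528_63 : List Job := [
  ⟨0, 0x4a0522a158b05a2e17c301a0e07c0e0501, 0, 24, 0x0, []⟩]

theorem t9_528_63 : jobs 8 S9 b8_528 j9_528_63 = true := by decide +kernel

theorem d9_528 : Dn 8 S9 b8_528 := dn_of (Js := j9_528_0 ++ (j9_528_1 ++ (j9_528_2 ++ (j9_528_3 ++ (j9_528_4 ++ (j9_528_5 ++ (j9_528_6 ++ (j9_528_7 ++ (j9_528_8 ++ (j9_528_9 ++ (j9_528_10 ++ (j9_528_11 ++ (j9_528_12 ++ (j9_528_13 ++ (j9_528_14 ++ (j9_528_15 ++ (j9_528_16 ++ (j9_528_17 ++ (j9_528_18 ++ (j9_528_19 ++ (j9_528_20 ++ (j9_528_21 ++ (j9_528_22 ++ (j9_528_23 ++ (j9_528_24 ++ (j9_528_25 ++ (j9_528_26 ++ (j9_528_27 ++ (j9_528_28 ++ (j9_528_29 ++ (j9_528_30 ++ (j9_528_31 ++ (j9_528_32 ++ (j9_528_33 ++ (j9_528_34 ++ (j9_528_35 ++ (j9_528_36 ++ (j9_528_37 ++ (j9_528_38 ++ (j9_528_39 ++ (j9_528_40 ++ (j9_528_41 ++ (j9_528_42 ++ (j9_528_43 ++ (j9_528_44 ++ (j9_528_45 ++ (j9_528_46 ++ (j9_528_47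 ++ (j9_528_48 ++ (j9_528_49 ++ (j9_528_50 ++ (j9_528_51 ++ (j9_528_52 ++ (j9_528_53 ++ (j9_528_54 ++ (j9_528_55 ++ (j9_528_56 ++ (j9_528_57 ++ (j9_528_58 ++ (j9_528_59 ++ (j9_528_60 ++ (j9_528_61 ++ (j9_528_62 ++ (j9_528_63 ++ []))))))))))))))))))))))))))))))))))))))))))))))))))))))))))))))))
  (jobs_append t9_528_0 <| jobs_append t9_528_1 <| jobs_append t9_528_2 <| jobs_append t9_528_3 <| jobs_append t9_528_4 <| jobs_append t9_528_5 <| jobs_append t9_528_6 <| jobs_append t9_528_7 <| jobs_append t9_528_8 <| jobs_append t9_528_9 <| jobs_append t9_528_10 <| jobs_append t9_528_11 <| jobs_append t9_528_12 <| jobs_append t9_528_13 <| jobs_append t9_528_14 <| jobs_append t9_528_15 <| jobs_append t9_528_16 <| jobs_append t9_528_17 <| jobs_append t9_528_18 <| jobs_append t9_528_19 <| jobs_append t9_528_20 <| jobs_append t9_528_21 <| jobs_append t9_528_22 <| jobs_append t9_528_23 <| jobs_append t9_528_24 <| jobs_append t9_528_25 <| jobs_append t9_528_26 <| jobs_append t9_528_27 <| jobs_append t9_528_28 <| jobs_append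 t9_528_29 <| jobs_append t9_528_30 <| jobs_append t9_528_31 <| jobs_append t9_528_32 <| jobs_append t9_528_33 <| jobs_append t9_528_34 <| jobs_append t9_528_35 <| jobs_append t9_528_36 <| jobs_append t9_528_37 <| jobs_append t9_528_38 <| jobs_append t9_528_39 <| jobs_append t9_528_40 <| jobs_append t9_528_41 <| jobs_append t9_528_42 <| jobs_append t9_528_43 <| jobs_append t9_528_44 <| jobs_append t9_528_45 <| jobs_append t9_528_46 <| jobs_append t9_528_47 <| jobs_append t9_528_48 <| jobs_append t9_528_49 <| jobs_append t9_528_50 <| jobs_append t9_528_51 <| jobs_append t9_528_52 <| jobs_append t9_528_53 <| jobs_append t9_528_54 <| jobs_append t9_528_55 <| jobs_append t9_528_56 <| jobs_append t9_528_57 <| jobs_append t9_528_58 <| jobs_append t9_528_59 <| jobs_append t9_528_60 <| jobs_append t9_528_61 <| jobs_append t9_528_62 <| jobs_append t9_528_63 <| List.forall_mem_nil _) (by decide +kernel)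

noncomputable def j9_529_0 : List Job := [
  ⟨63, 0x46435180dc44251009c2e15098440e0501, 0, 10, 0x210000401000603000810000a01000c13000e10001013001210001403, []⟩]

theorem t9_529_0 : jobs 8 S9 b8_529 j9_529_0 = true := by decide +kernel

noncomputable def j9_529_1 : List Job := [
  ⟨62, 0x520924a259309a4e27d008242219108a4623c6837180cc48271008c2e15098440e0501, 0, 25, 0x210000401000610000810000a01000c11000e10001210001801001e01002a01002c01002e01003001, []⟩]

theorem t9_529_1 : jobs 8 S9 b8_529 j9_529_1 = true := by decide +kernel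

noncomputable def j9_529_2 : List Job := [
  ⟨61, 0x420120a05c0e0501, 0, 28, 0x0, []⟩]

theorem t9_529_2 : jobs 8 S9 b8_529 j9_529_2 = true := by decide +kernel

noncomputable def j9_529_3 : List Job := [
  ⟨60, 0x4e0723a1d8f07a3e1fc804222118904a2613c20120a05c0e0501, 0, 28, 0x0, []⟩]

theorem t9_529_3 : jobs 8 S9 b8_529 j9_529_3 = true := by decide +kernel

noncomputable def j9_529_4 : List Job := [
  ⟨59, 0x4804222118904a2613c301a0e07c0e0501, 0, 36, 0x0, []⟩]

theorem t9_529_4 : jobs 8 S9 b8_529 j9_529_4 = true := by decide +kernel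

noncomputable def j9_529_5 : List Job := [
  ⟨58, 0x4804222118904a2613c301a0e07c0e0501, 0, 36, 0x0, []⟩]

theorem t9_529_5 : jobs 8 S9 b8_529 j9_529_5 = true := by decide +kernel

noncomputable def j9_529_6 : List Job := [
  ⟨57, 0x4804222118904a2613c341d0c07c0e0501, 0, 48, 0x0, []⟩]

theorem t9_529_6 : jobs 8 S9 b8_529 j9_529_6 = true := by decide +kernel

noncomputable def j9_529_7 : List Job := [
  ⟨56, 0x424150805c0e0501, 0, 22, 0x0, []⟩]

theorem t9_529_7 : jobs 8 S9 b8_529 j9_529_7 = true := by decide +kernel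

noncomputable def j9_529_8 : List Job := [
  ⟨55, 0x42417080540e0501, 0, 22, 0x0, []⟩]

theorem t9_529_8 : jobs 8 S9 b8_529 j9_529_8 = true := by decide +kernel

noncomputable def j9_529_9 : List Job := [
  ⟨54, 0x4e0723a1d8f07a3e1fc804222118904a2613c28170804c0e0501, 0, 22, 0x0, []⟩]

theorem t9_529_9 : jobs 8 S9 b8_529 j9_529_9 = true := by decide +kernel

noncomputable def j9_529_10 : List Job := [
  ⟨53, 0x4e0723a1d8f07a3e1fc804222118904a2613c2417080540e0501, 0, 40, 0x0, []⟩]

theorem t9_529_10 : jobs 8 S9 b8_529 j9_529_10 = true := by decide +kernel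

noncomputable def j9_529_11 : List Job := [
  ⟨52, 0x5008242219108a4623920924a259309a4e27c20120a05c0e0501, 0, 28, 0x0, []⟩]

theorem t9_529_11 : jobs 8 S9 b8_529 j9_529_11 = true := by decide +kernel

noncomputable def j9_529_12 : List Job := [
  ⟨51, 0x5008242219108a4623920924a259309a4e27ce0723a1d8f07a3e1fc804222118904a2613c20120a05c0e0501, 0, 28, 0x0, []⟩]

theorem t9_529_12 : jobs 8 S9 b8_529 j9_529_12 = true := by decide +kernel

noncomputable def j9_529_13 : List Job := [
  ⟨50, 0x4804222118904a2613c301a0e07c0e0501, 0, 36, 0x0, []⟩]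

theorem t9_529_13 : jobs 8 S9 b8_529 j9_529_13 = true := by decide +kernel

noncomputable def j9_529_14 : List Job := [
  ⟨49, 0x540a25229950aa562b960b25a2d970ba5e2fd008242219108a4623920924a259309a4e27c804222118904a2613c301a0e07c0e0501, 0, 36, 0x0, []⟩]

theorem t9_529_14 : jobs 8 S9 b8_529 j9_529_14 = true := by decide +kernel

noncomputable def j9_529_15 : List Job := [
  ⟨48, 0x5008242219108a4623920924a259309a4e27c804222118904a2613c341d0c07c0e0501, 0, 48, 0x0, []⟩]

theorem t9_529_15 : jobs 8 S9 b8_529 j9_529_15 = true := by decide +kernel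

noncomputable def j9_529_16 : List Job := [
  ⟨47, 0x428170804c0e0501, 0, 22, 0x0, []⟩]

theorem t9_529_16 : jobs 8 S9 b8_529 j9_529_16 = true := by decide +kernel

noncomputable def j9_529_17 : List Job := [
  ⟨46, 0x540a25229950aa562b960b25a2d970ba5e2fd008242219108a4623920924a259309a4e27c28170804c0e0501, 0, 22, 0x0, []⟩]

theorem t9_529_17 : jobs 8 S9 b8_529 j9_529_17 = true := by decide +kernel

noncomputable def j9_529_18 : List Job := [
  ⟨45, 0x4e0723a1d8f07a3e1fc804222118904a2613c28170804c0e0501, 0, 22, 0x0, []⟩]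

theorem t9_529_18 : jobs 8 S9 b8_529 j9_529_18 = true := by decide +kernel

noncomputable def j9_529_19 : List Job := [
  ⟨44, 0x540a25229950aa562b960b25a2d970ba5e2fd008242219108a4623920924a259309a4e27ce0723a1d8f07a3e1fc804222118904a2613c2417080540e0501, 0, 40, 0x0, []⟩]

theorem t9_529_19 : jobs 8 S9 b8_529 j9_529_19 = true := by decide +kernel

noncomputable def j9_529_20 : List Job := [
  ⟨43, 0x460321a0dc0e0501, 0, 24, 0x0, []⟩]

theorem t9_529_20 : jobs 8 S9 b8_529 j9_529_20 = true := by decide +kernel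

noncomputable def j9_529_21 : List Job := [
  ⟨42, 0x5008242219108a4623920924a259309a4e27c60321a0dc0e0501, 0, 24, 0x0, []⟩]

theorem t9_529_21 : jobs 8 S9 b8_529 j9_529_21 = true := by decide +kernel

noncomputable def j9_529_22 : List Job := [
  ⟨41, 0x4a0522a158b05a2e17c804222118904a2613c60321a0dc0e0501, 0, 24, 0x0, []⟩]

theorem t9_529_22 : jobs 8 S9 b8_529 j9_529_22 = true := by decide +kernel

noncomputable def j9_529_23 : List Job := [
  ⟨40, 0x5008242219108a4623920924a259309a4e27ca0522a158b05a2e17c804222118904a2613c60321a0dc0e0501, 0, 24, 0x0, []⟩]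

theorem t9_529_23 : jobs 8 S9 b8_529 j9_529_23 = true := by decide +kernel

noncomputable def j9_529_24 : List Job := [
  ⟨39, 0x4804222118904a2613c703a1e0fc0e0501, 0, 48, 0x0, []⟩]

theorem t9_529_24 : jobs 8 S9 b8_529 j9_529_24 = true := by decide +kernel

noncomputable def j9_529_25 : List Job := [
  ⟨38, 0x5008242219108a4623920924a259309a4e27c804222118904a2613c703a1e0fc0e0501, 0, 48, 0x0, []⟩]

theorem t9_529_25 : jobs 8 S9 b8_529 j9_529_25 = true := by decide +kernel

noncomputable def j9_529_26 : List Job := [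
  ⟨37, 0x4804222118904a2613c743d1c0fc0e0501, 0, 48, 0x404000807000c04001007001403001803001c03002003, []⟩]

theorem t9_529_26 : jobs 8 S9 b8_529 j9_529_26 = true := by decide +kernel

noncomputable def j9_529_27 : List Job := [
  ⟨36, 0x5008242219108a4623920924a259309a4e27c804222118904a2613c783f1c0ec0e0501, 0, 48, 0x405000805000c05001005001403001806001c03002006, []⟩]

theorem t9_529_27 : jobs 8 S9 b8_529 j9_529_27 = true := by decide +kernel

noncomputable def j9_529_28 : List Job := [
  ⟨35, 0x46837180cc0e0501, 0, 24, 0x407000807000c04001004, []⟩]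

theorem t9_529_28 : jobs 8 S9 b8_529 j9_529_28 = true := by decide +kernel

noncomputable def j9_529_29 : List Job := [
  ⟨34, 0x5008242219108a4623920924a259309a4e27c6837180cc0e0501, 0, 24, 0x403000803000c03001003, []⟩]

theorem t9_529_29 : jobs 8 S9 b8_529 j9_529_29 = true := by decide +kernel

noncomputable def j9_529_30 : List Job := [
  ⟨33, 0x4a0522a158b05a2e17c804222118904a2613c6837180cc0e0501, 0, 24, 0x404000804000c07001007, []⟩]

theorem t9_529_30 : jobs 8 S9 b8_529 j9_529_30 = true := by decide +kernel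

noncomputable def j9_529_31 : List Job := [
  ⟨32, 0x5008242219108a4623920924a259309a4e27ca0522a158b05a2e17c804222118904a2613c6437180d40e0501, 0, 48, 0x405000805000c05001005, []⟩]

theorem t9_529_31 : jobs 8 S9 b8_529 j9_529_31 = true := by decide +kernel

noncomputable def j9_529_32 : List Job := [
  ⟨31, 0x4804222118904a2613c60321a0dc502a160bc301a0e07c0e0501, 0, 48, 0x0, []⟩]

theorem t9_529_32 : jobs 8 S9 b8_529 j9_529_32 = true := by decide +kernel

noncomputable def j9_529_33 : List Job := [
  ⟨30, 0x5008242219108a4623920924a259309a4e27c804222118904a2613c60321a0dc502a160bc301a0e07c0e0501, 0, 48, 0x0, []⟩]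

theorem t9_529_33 : jobs 8 S9 b8_529 j9_529_33 = true := by decide +kernel

noncomputable def j9_529_34 : List Job := [
  ⟨29, 0x4703a1e0fc48271008c301a0e07c0e0501, 0, 36, 0x204000605000804000c05000e04001205001404001805001a03001e05002004002603002a05002c04, []⟩]

theorem t9_529_34 : jobs 8 S9 b8_529 j9_529_34 = true := by decide +kernel

noncomputable def j9_529_35 : List Job := [
  ⟨28, 0x5008242219108a4623920924a259309a4e27c703a1e0fc48271008c301a0e07c0e0501, 0, 36, 0x204000605000804000c05000e04001205001404001805001a03001e05002004002603002a05002c04, []⟩]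

theorem t9_529_35 : jobs 8 S9 b8_529 j9_529_35 = true := by decide +kernel

noncomputable def j9_529_36 : List Job := [
  ⟨27, 0x4c06232198d06a361bc804222118904a2613c703a1e0fc48271008c301a0e07c0e0501, 0, 36, 0x204000801000e02001401001a01002007002406002601002c07003006, []⟩]

theorem t9_529_36 : jobs 8 S9 b8_529 j9_529_36 = true := by decide +kernel

noncomputable def j9_529_37 : List Job := [
  ⟨26, 0x5008242219108a4623920924a259309a4e27cc06232198d06a361bc804222118904a2613c703a1e0fc48271008c301a0e07c0e0501, 0, 36, 0x202000801000e06001401001a01002007002406002601002c07003006, []⟩]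

theorem t9_529_37 : jobs 8 S9 b8_529 j9_529_37 = true := by decide +kernel

noncomputable def j9_529_38 : List Job := [
  ⟨25, 0x4804222118904a2613c743d1c0fc502a160bc28170804c0e0501, 0, 48, 0x0, []⟩]

theorem t9_529_38 : jobs 8 S9 b8_529 j9_529_38 = true := by decide +kernel

noncomputable def j9_529_39 : List Job := [
  ⟨24, 0x5008242219108a4623920924a259309a4e27c804222118904a2613c743d1c0fc502a160bc28170804c0e0501, 0, 48, 0x0, []⟩]

theorem t9_529_39 : jobs 8 S9 b8_529 j9_529_39 = true := by decide +kernel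

noncomputable def j9_529_40 : List Job := [
  ⟨23, 0x46837180cc48271008c28170804c0e0501, 0, 36, 0x204000605000804000c05000e04001205001404001805001a07001e05002004002406002607002a05002c04003006, []⟩]

theorem t9_529_40 : jobs 8 S9 b8_529 j9_529_40 = true := by decide +kernel

noncomputable def j9_529_41 : List Job := [
  ⟨22, 0x5008242219108a4623920924a259309a4e27c6837180cc48271008c28170804c0e0501, 0, 36, 0x204000605000804000c05000e04001205001404001805001a07001e05002004002406002607002a05002c04003006, []⟩]

theorem t9_529_41 : jobs 8 S9 b8_529 j9_529_41 = true := by decide +kernel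

noncomputable def j9_529_42 : List Job := [
  ⟨21, 0x4c06232198d06a361bc804222118904a2613c6837180cc48271008c28170804c0e0501, 0, 36, 0x201000801000e01001401001a01002003002601002c03, []⟩]

theorem t9_529_42 : jobs 8 S9 b8_529 j9_529_42 = true := by decide +kernel

noncomputable def j9_529_43 : List Job := [
  ⟨20, 0x5008242219108a4623920924a259309a4e27cc06232198d06a361bc804222118904a2613c6837180cc48271008c28170804c0e0501, 0, 60, 0x201000801000e01001401001a01002003002601002c03, []⟩]

theorem t9_529_43 : jobs 8 S9 b8_529 j9_529_43 = true := by decide +kernel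

noncomputable def j9_529_44 : List Job := [
  ⟨19, 0x4502a160bc0e0501, 0, 18, 0x0, []⟩]

theorem t9_529_44 : jobs 8 S9 b8_529 j9_529_44 = true := by decide +kernel

noncomputable def j9_529_45 : List Job := [
  ⟨18, 0x448271008c0e0501, 0, 20, 0x0, []⟩]

theorem t9_529_45 : jobs 8 S9 b8_529 j9_529_45 = true := by decide +kernel

noncomputable def j9_529_46 : List Job := [
  ⟨17, 0x44e25118840e0501, 0, 26, 0x203000605000803000c05002602002a03002c02003003, []⟩]

theorem t9_529_46 : jobs 8 S9 b8_529 j9_529_46 = true := by decide +kernel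

noncomputable def j9_529_47 : List Job := [
  ⟨16, 0x4502a160bc0e0501, 0, 22, 0x0, []⟩]

theorem t9_529_47 : jobs 8 S9 b8_529 j9_529_47 = true := by decide +kernel

noncomputable def j9_529_48 : List Job := [
  ⟨15, 0x44e25118840e0501, 0, 15, 0x203000603001802001c03, []⟩]

theorem t9_529_48 : jobs 8 S9 b8_529 j9_529_48 = true := by decide +kernel

noncomputable def j9_529_49 : List Job := [
  ⟨14, 0x44e25118840e0501, 0, 30, 0x205000605001804001c05, []⟩]

theorem t9_529_49 : jobs 8 S9 b8_529 j9_529_49 = true := by decide +kernel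

noncomputable def j9_529_50 : List Job := [
  ⟨13, 0x5008242219108a4623920924a259309a4e27c48271008c0e0501, 0, 20, 0x0, []⟩]

theorem t9_529_50 : jobs 8 S9 b8_529 j9_529_50 = true := by decide +kernel

noncomputable def j9_529_51 : List Job := [
  ⟨12, 0x44e25118840e0501, 0, 15, 0x203000603001802001c03, []⟩]

theorem t9_529_51 : jobs 8 S9 b8_529 j9_529_51 = true := by decide +kernel

noncomputable def j9_529_52 : List Job := [
  ⟨11, 0x540a25229950aa562b960b25a2d970ba5e2fd008242219108a4623920924a259309a4e27c4e25118840e0501, 0, 30, 0x205000605001804001c05, []⟩]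

theorem t9_529_52 : jobs 8 S9 b8_529 j9_529_52 = true := by decide +kernel

noncomputable def j9_529_53 : List Job := [
  ⟨10, 0x4a0522a158b05a2e17c804222118904a2613c502a160bc0e0501, 0, 18, 0x0, []⟩]

theorem t9_529_53 : jobs 8 S9 b8_529 j9_529_53 = true := by decide +kernel

noncomputable def j9_529_54 : List Job := [
  ⟨9, 0x4c06232198d06a361bc804222118904a2613c4e25118840e0501, 0, 26, 0x202000606000805000c06002606002a07002c06003007, []⟩]

theorem t9_529_54 : jobs 8 S9 b8_529 j9_529_54 = true := by decide +kernel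

noncomputable def j9_529_55 : List Job := [
  ⟨8, 0x4e0723a1d8f07a3e1fc804222118904a2613c502a160bc0e0501, 0, 22, 0x0, []⟩]

theorem t9_529_55 : jobs 8 S9 b8_529 j9_529_55 = true := by decide +kernel

noncomputable def j9_529_56 : List Job := [
  ⟨7, 0x44e25118840e0501, 0, 15, 0x202000602001802001c03, []⟩]

theorem t9_529_56 : jobs 8 S9 b8_529 j9_529_56 = true := by decide +kernel

noncomputable def j9_529_57 : List Job := [
  ⟨6, 0x4e0723a1d8f07a3e1fcc06232198d06a361bca0522a158b05a2e17c804222118904a2613c4e25118840e0501, 0, 30, 0x201000601001804, []⟩]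

theorem t9_529_57 : jobs 8 S9 b8_529 j9_529_57 = true := by decide +kernel

noncomputable def j9_529_58 : List Job := [
  ⟨5, 0x4804222118904a2613c6435180dc0e0501, 0, 36, 0x405000804000c05001004001205001405001605001805, []⟩]

theorem t9_529_58 : jobs 8 S9 b8_529 j9_529_58 = true := by decide +kernel

noncomputable def j9_529_59 : List Job := [
  ⟨4, 0x4804222118904a2613c6437180d40e0501, 0, 36, 0x1203001406001603001806, []⟩]

theorem t9_529_59 : jobs 8 S9 b8_529 j9_529_59 = true := by decide +kernel

noncomputable def j9_529_60 : List Job := [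
  ⟨3, 0x4703a1e0fc0e0501, 0, 24, 0x0, []⟩]

theorem t9_529_60 : jobs 8 S9 b8_529 j9_529_60 = true := by decide +kernel

noncomputable def j9_529_61 : List Job := [
  ⟨2, 0x4a0522a158b05a2e17c804222118904a2613c703a1e0fc0e0501, 0, 24, 0x0, []⟩]

theorem t9_529_61 : jobs 8 S9 b8_529 j9_529_61 = true := by decide +kernel

noncomputable def j9_529_62 : List Job := [
  ⟨1, 0x4804222118904a2613c703a1e0fc0e0501, 0, 48, 0x0, []⟩]

theorem t9_529_62 : jobs 8 S9 b8_529 j9_529_62 = true := by decide +kernel

noncomputable def j9_529_63 : List Job := [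
  ⟨0, 0x46435180dc0e0501, 0, 18, 0x404000804000a02000c02, []⟩]

theorem t9_529_63 : jobs 8 S9 b8_529 j9_529_63 = true := by decide +kernel

theorem d9_529 : Dn 8 S9 b8_529 := dn_of (Js := j9_529_0 ++ (j9_529_1 ++ (j9_529_2 ++ (j9_529_3 ++ (j9_529_4 ++ (j9_529_5 ++ (j9_529_6 ++ (j9_529_7 ++ (j9_529_8 ++ (j9_529_9 ++ (j9_529_10 ++ (j9_529_11 ++ (j9_529_12 ++ (j9_529_13 ++ (j9_529_14 ++ (j9_529_15 ++ (j9_529_16 ++ (j9_529_17 ++ (j9_529_18 ++ (j9_529_19 ++ (j9_529_20 ++ (j9_529_21 ++ (j9_529_22 ++ (j9_529_23 ++ (j9_529_24 ++ (j9_529_25 ++ (j9_529_26 ++ (j9_529_27 ++ (j9_529_28 ++ (j9_529_29 ++ (j9_529_30 ++ (j9_529_31 ++ (j9_529_32 ++ (j9_529_33 ++ (j9_529_34 ++ (j9_529_35 ++ (j9_529_36 ++ (j9_529_37 ++ (j9_529_38 ++ (j9_529_39 ++ (j9_529_40 ++ (j9_529_41 ++ (j9_529_42 ++ (j9_529_43 ++ (j9_529_44 ++ (j9_529_45 ++ (j9_529_46 ++ (j9_529_47 ++ (j9_529_48 ++ (j9_529_49 ++ (j9_529_50 ++ (j9_529_51 ++ (j9_529_52 ++ (j9_529_53 ++ (j9_529_54 ++ (j9_529_55 ++ (j9_529_56 ++ (j9_529_57 ++ (j9_529_58 ++ (j9_529_59 ++ (j9_529_60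 ++ (j9_529_61 ++ (j9_529_62 ++ (j9_529_63 ++ []))))))))))))))))))))))))))))))))))))))))))))))))))))))))))))))))
  (jobs_append t9_529_0 <| jobs_append t9_529_1 <| jobs_append t9_529_2 <| jobs_append t9_529_3 <| jobs_append t9_529_4 <| jobs_append t9_529_5 <| jobs_append t9_529_6 <| jobs_append t9_529_7 <| jobs_append t9_529_8 <| jobs_append t9_529_9 <| jobs_append t9_529_10 <| jobs_append t9_529_11 <| jobs_append t9_529_12 <| jobs_append t9_529_13 <| jobs_append t9_529_14 <| jobs_append t9_529_15 <| jobs_append t9_529_16 <| jobs_append t9_529_17 <| jobs_append t9_529_18 <| jobs_append t9_529_19 <| jobs_append t9_529_20 <| jobs_append t9_529_21 <| jobs_append t9_529_22 <| jobs_append t9_529_23 <| jobs_append t9_529_24 <| jobs_append t9_529_25 <| jobs_append t9_529_26 <| jobs_append t9_529_27 <| jobs_append t9_529_28 <| jobs_append t9_529_29 <| jobs_append t9_529_30 <| jobs_append t9_529_31 <| jobs_append t9_529_32 <| jobs_append t9_529_33 <| jobs_append t9_529_34 <| jobs_append t9_529_35 <| jobs_append t9_529_36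 <| jobs_append t9_529_37 <| jobs_append t9_529_38 <| jobs_append t9_529_39 <| jobs_append t9_529_40 <| jobs_append t9_529_41 <| jobs_append t9_529_42 <| jobs_append t9_529_43 <| jobs_append t9_529_44 <| jobs_append t9_529_45 <| jobs_append t9_529_46 <| jobs_append t9_529_47 <| jobs_append t9_529_48 <| jobs_append t9_529_49 <| jobs_append t9_529_50 <| jobs_append t9_529_51 <| jobs_append t9_529_52 <| jobs_append t9_529_53 <| jobs_append t9_529_54 <| jobs_append t9_529_55 <| jobs_append t9_529_56 <| jobs_append t9_529_57 <| jobs_append t9_529_58 <| jobs_append t9_529_59 <| jobs_append t9_529_60 <| jobs_append t9_529_61 <| jobs_append t9_529_62 <| jobs_append t9_529_63 <| List.forall_mem_nil _) (by decide +kernel)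

noncomputable def j9_530_0 : List Job := [
  ⟨63, 0x5008242219108a4623c60321a0dc0e0501, 0, 16, 0x0, []⟩]

theorem t9_530_0 : jobs 8 S9 b8_530 j9_530_0 = true := by decide +kernel

noncomputable def j9_530_1 : List Job := [
  ⟨62, 0x5008242219108a4623c60321a0dc0e0501, 0, 16, 0x0, []⟩]

theorem t9_530_1 : jobs 8 S9 b8_530 j9_530_1 = true := by decide +kernel

noncomputable def j9_530_2 : List Job := [
  ⟨61, 0x5008242219108a4623c60321a0dc0e0501, 0, 16, 0x0, []⟩]

theorem t9_530_2 : jobs 8 S9 b8_530 j9_530_2 = true := by decide +kernel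

noncomputable def j9_530_3 : List Job := [
  ⟨60, 0x5008242219108a4623c44251009c0e0501, 0, 16, 0x205000605000a05000e05001207001607001a07001e07, []⟩]

theorem t9_530_3 : jobs 8 S9 b8_530 j9_530_3 = true := by decide +kernel

noncomputable def j9_530_4 : List Job := [
  ⟨59, 0x5008242219108a4623c44251009c0e0501, 0, 16, 0x0, []⟩]

theorem t9_530_4 : jobs 8 S9 b8_530 j9_530_4 = true := by decide +kernel

noncomputable def j9_530_5 : List Job := [
  ⟨58, 0x5008242219108a4623c44251009c0e0501, 0, 16, 0x205000605000a05000e05001207001607001a07001e07, []⟩]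

theorem t9_530_5 : jobs 8 S9 b8_530 j9_530_5 = true := by decide +kernel

noncomputable def j9_530_6 : List Job := [
  ⟨57, 0x5008242219108a4623c44251009c0e0501, 0, 16, 0x0, []⟩]

theorem t9_530_6 : jobs 8 S9 b8_530 j9_530_6 = true := by decide +kernel

noncomputable def j9_530_7 : List Job := [
  ⟨56, 0x5008242219108a4623c60321a0dc0e0501, 0, 16, 0x0, []⟩]

theorem t9_530_7 : jobs 8 S9 b8_530 j9_530_7 = true := by decide +kernel

noncomputable def j9_530_8 : List Job := [
  ⟨55, 0x5008242219108a4623c60321a0dc0e0501, 0, 16, 0x0, []⟩]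

theorem t9_530_8 : jobs 8 S9 b8_530 j9_530_8 = true := by decide +kernel

noncomputable def j9_530_9 : List Job := [
  ⟨54, 0x508864623d00824422c60321a0dc0e0501, 0, 16, 0x0, []⟩]

theorem t9_530_9 : jobs 8 S9 b8_530 j9_530_9 = true := by decide +kernel

noncomputable def j9_530_10 : List Job := [
  ⟨53, 0x508864623d00824422c60321a0dc0e0501, 0, 16, 0x0, []⟩]

theorem t9_530_10 : jobs 8 S9 b8_530 j9_530_10 = true := by decide +kernel

noncomputable def j9_530_11 : List Job := [
  ⟨52, 0x5008242219108a4623c48271008c0e0501, 0, 16, 0x204000604000a04000e04001207001607001a07001e07, []⟩]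

theorem t9_530_11 : jobs 8 S9 b8_530 j9_530_11 = true := by decide +kernel

noncomputable def j9_530_12 : List Job := [
  ⟨51, 0x5008242219108a4623c48271008c0e0501, 0, 16, 0x0, []⟩]

theorem t9_530_12 : jobs 8 S9 b8_530 j9_530_12 = true := by decide +kernel

noncomputable def j9_530_13 : List Job := [
  ⟨50, 0x508864623d00824422c48271008c0e0501, 0, 32, 0x1204001604001a04001e04002207002607002a07002e07, []⟩]

theorem t9_530_13 : jobs 8 S9 b8_530 j9_530_13 = true := by decide +kernel

noncomputable def j9_530_14 : List Job := [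
  ⟨49, 0x508864623d00824422c48271008c0e0501, 0, 20, 0x0, []⟩]

theorem t9_530_14 : jobs 8 S9 b8_530 j9_530_14 = true := by decide +kernel

noncomputable def j9_530_15 : List Job := [
  ⟨48, 0x42e15098440e0501, 0, 8, 0x0, []⟩]

theorem t9_530_15 : jobs 8 S9 b8_530 j9_530_15 = true := by decide +kernel

noncomputable def j9_530_16 : List Job := [
  ⟨47, 0x520924a259309a4e27d008242219108a4623c2e15098440e0501, 0, 11, 0x601, []⟩]

theorem t9_530_16 : jobs 8 S9 b8_530 j9_530_16 = true := by decide +kernel

noncomputable def j9_530_17 : List Job := [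
  ⟨46, 0x46435180dc44251009c2e15098440e0501, 0, 20, 0x1213001410001613001802001a13001c02001e13002010002201002401002601002801, []⟩]

theorem t9_530_17 : jobs 8 S9 b8_530 j9_530_17 = true := by decide +kernel

noncomputable def j9_530_18 : List Job := [
  ⟨45, 0x520924a259309a4e27d008242219108a4623c6435180dc44251009c2e15098440e0501, 0, 26, 0x1215001414001615001815001a15001e15002201002601002a01002c01002e01003001003401, []⟩]

theorem t9_530_18 : jobs 8 S9 b8_530 j9_530_18 = true := by decide +kernel

noncomputable def j9_530_19 : List Job := [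
  ⟨44, 0x46435180dc44251009c2e15098440e0501, 0, 20, 0x1210001410001610001811001a10001c12001e10002012002201002401002601002801, []⟩]

theorem t9_530_19 : jobs 8 S9 b8_530 j9_530_19 = true := by decide +kernel

noncomputable def j9_530_20 : List Job := [
  ⟨43, 0x520924a259309a4e27d008242219108a4623c6435180dc44251009c2e15098440e0501, 0, 38, 0x1210001404001610001804001a10001e10002a01002c01002e01003001004201004401004601004801, []⟩]

theorem t9_530_20 : jobs 8 S9 b8_530 j9_530_20 = true := by decide +kernel

noncomputable def j9_530_21 : List Job := [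
  ⟨42, 0x46435180dc44251009c2e15098440e0501, 0, 20, 0x1212001412001612001813001a12001c10001e12002010002201002401002601002801, []⟩]

theorem t9_530_21 : jobs 8 S9 b8_530 j9_530_21 = true := by decide +kernel

noncomputable def j9_530_22 : List Job := [
  ⟨41, 0x520924a259309a4e27d008242219108a4623c6837180cc48271008c2e15098440e0501, 0, 26, 0x214000404000614000804000a14000e14001201001401001601001a01001c01002e01003201, []⟩]

theorem t9_530_22 : jobs 8 S9 b8_530 j9_530_22 = true := by decide +kernel

noncomputable def j9_530_23 : List Job := [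
  ⟨40, 0x46435180dc44251009c2e15098440e0501, 0, 20, 0x1210001403001610001813001a10001c13001e10002003002201002401002601002801, []⟩]

theorem t9_530_23 : jobs 8 S9 b8_530 j9_530_23 = true := by decide +kernel

noncomputable def j9_530_24 : List Job := [
  ⟨39, 0x520924a259309a4e27d008242219108a4623c6837180cc48271008c2e15098440e0501, 0, 38, 0x1210001410001610001811001a10001e10003a01003c01003e01004001004201004401004a01004c01, []⟩]

theorem t9_530_24 : jobs 8 S9 b8_530 j9_530_24 = true := by decide +kernel

noncomputable def j9_530_25 : List Job := [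
  ⟨38, 0x540a25229d04874021448271008c0e0501, 0, 12, 0x602000802, []⟩]

theorem t9_530_25 : jobs 8 S9 b8_530 j9_530_25 = true := by decide +kernel

noncomputable def j9_530_26 : List Job := [
  ⟨37, 0x540a25229d00824221c4e25118840e0501, 0, 15, 0x204000604001204001405, []⟩]

theorem t9_530_26 : jobs 8 S9 b8_530 j9_530_26 = true := by decide +kernel

noncomputable def j9_530_27 : List Job := [
  ⟨36, 0x548a75028d08874020c4e25118840e0501, 0, 11, 0x204000405000604000805000e01001601, []⟩]

theorem t9_530_27 : jobs 8 S9 b8_530 j9_530_27 = true := by decide +kernel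

noncomputable def j9_530_28 : List Job := [
  ⟨35, 0x5108a4623d00824221c1e0d058240e0501, 0, 14, 0x1808, []⟩]

theorem t9_530_28 : jobs 8 S9 b8_530 j9_530_28 = true := by decide +kernel

noncomputable def j9_530_29 : List Job := [
  ⟨34, 0x5188f4422d08874020c1e0d058240e0501, 0, 12, 0x208000608001008, []⟩]

theorem t9_530_29 : jobs 8 S9 b8_530 j9_530_29 = true := by decide +kernel

noncomputable def j9_530_30 : List Job := [
  ⟨33, 0x45e2d158a44e25118841e0d058240e0501, 0, 52, 0x401000601000a08000c01001008001201001608001801001c08001e01002001002401002601002808002a01002c08002e08003001003601003808003c08003e01004208004401004808004a01004c01004e08005001005201005408005801005e08006001006201006408006601, []⟩]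

theorem t9_530_30 : jobs 8 S9 b8_530 j9_530_30 = true := by decide +kernel

noncomputable def j9_530_31 : List Job := [
  ⟨32, 0x45e2d158a44e25118841e0d058240e0501, 0, 31, 0x208000401000a01000c01001008001201001408001801001a01001c08001e01002009002201002608002801002c01002e01003008003201003601003c01, []⟩]

theorem t9_530_31 : jobs 8 S9 b8_530 j9_530_31 = true := by decide +kernel

noncomputable def j9_530_32 : List Job := [
  ⟨29, 0x5008242219108a4623c743d1c0fc48271008c301a0e07c0e0501, 0, 16, 0x204000405000604000a04000c05000e04, []⟩]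

theorem t9_530_32 : jobs 8 S9 b8_530 j9_530_32 = true := by decide +kernel

noncomputable def j9_530_33 : List Job := [
  ⟨26, 0x540a25229950aa562bd008242219108a4623c783f1c0ec0e0501, 0, 6, 0x0, []⟩]

theorem t9_530_33 : jobs 8 S9 b8_530 j9_530_33 = true := by decide +kernel

noncomputable def j9_530_34 : List Job := [
  ⟨25, 0x540a25229950aa562bd008242219108a4623c783f1c0ec0e0501, 0, 6, 0x0, []⟩]

theorem t9_530_34 : jobs 8 S9 b8_530 j9_530_34 = true := by decide +kernel

noncomputable def j9_530_35 : List Job := [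
  ⟨24, 0x42e15098440e0501, 0, 3, 0x201000401000601, []⟩]

theorem t9_530_35 : jobs 8 S9 b8_530 j9_530_35 = true := by decide +kernel

noncomputable def j9_530_36 : List Job := [
  ⟨21, 0x42e15098440e0501, 0, 3, 0x201000401000601, []⟩]

theorem t9_530_36 : jobs 8 S9 b8_530 j9_530_36 = true := by decide +kernel

noncomputable def j9_530_37 : List Job := [
  ⟨20, 0x42e15098440e0501, 0, 3, 0x201000401000601, []⟩]

theorem t9_530_37 : jobs 8 S9 b8_530 j9_530_37 = true := by decide +kernel

noncomputable def j9_530_38 : List Job := [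
  ⟨19, 0x560b25a2d970ba5e2fd008242219108a4623c582f140ac0e0501, 0, 12, 0x0, []⟩]

theorem t9_530_38 : jobs 8 S9 b8_530 j9_530_38 = true := by decide +kernel

noncomputable def j9_530_39 : List Job := [
  ⟨18, 0x560b25a2d970ba5e2fd008242219108a4623c582f140ac0e0501, 0, 12, 0x0, []⟩]

theorem t9_530_39 : jobs 8 S9 b8_530 j9_530_39 = true := by decide +kernel

noncomputable def j9_530_40 : List Job := [
  ⟨17, 0x42e15098440e0501, 0, 8, 0x401000a01, []⟩]

theorem t9_530_40 : jobs 8 S9 b8_530 j9_530_40 = true := by decide +kernel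

noncomputable def j9_530_41 : List Job := [
  ⟨16, 0x560b25a2d970ba5e2fd40a25229950aa562bd20924a259309a4e27d008242219108a4623c2e15098440e0501, 0, 16, 0x401000a01001201001401001601001a01001c01001e01, []⟩]

theorem t9_530_41 : jobs 8 S9 b8_530 j9_530_41 = true := by decide +kernel

noncomputable def j9_530_42 : List Job := [
  ⟨15, 0x42e15098440e0501, 0, 8, 0x401000a01, []⟩]

theorem t9_530_42 : jobs 8 S9 b8_530 j9_530_42 = true := by decide +kernel

noncomputable def j9_530_43 : List Job := [
  ⟨14, 0x528974824d08874020c2e15098440e0501, 0, 15, 0x204000405000e01001004001404001c01001e01, []⟩]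

theorem t9_530_43 : jobs 8 S9 b8_530 j9_530_43 = true := by decide +kernel

noncomputable def j9_530_44 : List Job := [
  ⟨13, 0x5188f4422d08874020c1e0d058240e0501, 0, 10, 0x204000605000e04, []⟩]

theorem t9_530_44 : jobs 8 S9 b8_530 j9_530_44 = true := by decide +kernel

noncomputable def j9_530_45 : List Job := [
  ⟨12, 0x43e1d0d8642e15098441e0d058240e0501, 0, 41, 0xa01000c01000e01001008001201001401001601001801001c00001e01002001002201002401002601002a01002c08003401003601003801003a01003c00003e01004001004200004401004601004801004a01004e01005001, [(32, ⟨2698, 0x1da004000198006402020102000600010020001, 0x1fb200d836030081010⟩), (29, ⟨2697, 0x1de004000188006402020002000600010020001, 0x1fb200c836030081010⟩), (13, ⟨2696, 0x1d6014000108046400020002000400410020001, 0x1e0200a034020081010⟩)]⟩]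

theorem t9_530_45 : jobs 8 S9 b8_530 j9_530_45 = true := by decide +kernel

noncomputable def j9_530_46 : List Job := [
  ⟨9, 0x46435180dc44251009c2e15098440e0501, 0, 10, 0x210000401000603000810000a01000c13000e10001013001210001403, []⟩]

theorem t9_530_46 : jobs 8 S9 b8_530 j9_530_46 = true := by decide +kernel

noncomputable def j9_530_47 : List Job := [
  ⟨8, 0x520924a259309a4e27d008242219108a4623c6837180cc48271008c2e15098440e0501, 0, 18, 0x210000401000610000810000a01000c11000e10001210001601001801001a01001e01002001002201002401, []⟩]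

theorem t9_530_47 : jobs 8 S9 b8_530 j9_530_47 = true := by decide +kernel

noncomputable def j9_530_48 : List Job := [
  ⟨7, 0x46435180dc44251009c2e15098440e0501, 0, 10, 0x212000401000612000812000a01000c13000e12001010001212001410, []⟩]

theorem t9_530_48 : jobs 8 S9 b8_530 j9_530_48 = true := by decide +kernel

noncomputable def j9_530_49 : List Job := [
  ⟨6, 0x520924a259309a4e27d008242219108a4623c6837180cc48271008c2e15098440e0501, 0, 25, 0x214000401000604000814000a01000c04000e14001214001801001e01002a01002c01002e01003001, []⟩]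

theorem t9_530_49 : jobs 8 S9 b8_530 j9_530_49 = true := by decide +kernel

noncomputable def j9_530_50 : List Job := [
  ⟨2, 0x520924a259309a4e27d008242219108a4623c2e15098440e0501, 0, 3, 0x401, []⟩]

theorem t9_530_50 : jobs 8 S9 b8_530 j9_530_50 = true := by decide +kernel

noncomputable def j9_530_51 : List Job := [
  ⟨1, 0x46435180dc44251009c2e15098440e0501, 0, 10, 0x212000401000612000812000a01000c13000e12001010001212001410, []⟩]

theorem t9_530_51 : jobs 8 S9 b8_530 j9_530_51 = true := by decide +kernel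

noncomputable def j9_530_52 : List Job := [
  ⟨0, 0x520924a259309a4e27d008242219108a4623c6435180dc44251009c2e15098440e0501, 0, 18, 0x214000401000604000814000a01000c04000e14001214001601001801001a01001e01002001002201002401, []⟩]

theorem t9_530_52 : jobs 8 S9 b8_530 j9_530_52 = true := by decide +kernel

theorem d9_530 : Dn 8 S9 b8_530 := dn_of (Js := j9_530_0 ++ (j9_530_1 ++ (j9_530_2 ++ (j9_530_3 ++ (j9_530_4 ++ (j9_530_5 ++ (j9_530_6 ++ (j9_530_7 ++ (j9_530_8 ++ (j9_530_9 ++ (j9_530_10 ++ (j9_530_11 ++ (j9_530_12 ++ (j9_530_13 ++ (j9_530_14 ++ (j9_530_15 ++ (j9_530_16 ++ (j9_530_17 ++ (j9_530_18 ++ (j9_530_19 ++ (j9_530_20 ++ (j9_530_21 ++ (j9_530_22 ++ (j9_530_23 ++ (j9_530_24 ++ (j9_530_25 ++ (j9_530_26 ++ (j9_530_27 ++ (j9_530_28 ++ (j9_530_29 ++ (j9_530_30 ++ (j9_530_31 ++ (j9_530_32 ++ (j9_530_33 ++ (j9_530_34 ++ (j9_530_35 ++ (j9_530_36 ++ (j9_530_37 ++ (j9_530_38 ++ (j9_530_39 ++ (j9_530_40 ++ (j9_530_41 ++ (j9_530_42 ++ (j9_530_43 ++ (j9_530_44 ++ (j9_530_45 ++ (j9_530_46 ++ (j9_530_47 ++ (j9_530_48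 ++ (j9_530_49 ++ (j9_530_50 ++ (j9_530_51 ++ (j9_530_52 ++ [])))))))))))))))))))))))))))))))))))))))))))))))))))))
  (jobs_append t9_530_0 <| jobs_append t9_530_1 <| jobs_append t9_530_2 <| jobs_append t9_530_3 <| jobs_append t9_530_4 <| jobs_append t9_530_5 <| jobs_append t9_530_6 <| jobs_append t9_530_7 <| jobs_append t9_530_8 <| jobs_append t9_530_9 <| jobs_append t9_530_10 <| jobs_append t9_530_11 <| jobs_append t9_530_12 <| jobs_append t9_530_13 <| jobs_append t9_530_14 <| jobs_append t9_530_15 <| jobs_append t9_530_16 <| jobs_append t9_530_17 <| jobs_append t9_530_18 <| jobs_append t9_530_19 <| jobs_append t9_530_20 <| jobs_append t9_530_21 <| jobs_append t9_530_22 <| jobs_append t9_530_23 <| jobs_append t9_530_24 <| jobs_append t9_530_25 <| jobs_append t9_530_26 <| jobs_append t9_530_27 <| jobs_append t9_530_28 <| jobs_append t9_530_29 <| jobs_append t9_530_30 <| jobs_append t9_530_31 <| jobs_append t9_530_32 <| jobs_append t9_530_33 <| jobs_append t9_530_34 <| jobs_append t9_530_35 <| jobs_append t9_530_36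 <| jobs_append t9_530_37 <| jobs_append t9_530_38 <| jobs_append t9_530_39 <| jobs_append t9_530_40 <| jobs_append t9_530_41 <| jobs_append t9_530_42 <| jobs_append t9_530_43 <| jobs_append t9_530_44 <| jobs_append t9_530_45 <| jobs_append t9_530_46 <| jobs_append t9_530_47 <| jobs_append t9_530_48 <| jobs_append t9_530_49 <| jobs_append t9_530_50 <| jobs_append t9_530_51 <| jobs_append t9_530_52 <| List.forall_mem_nil _) (by decide +kernel)

noncomputable def j9_531_0 : List Job := [
  ⟨63, 0x560b25a2d970ba5e2fd008242219108a4623c140d0403c0e0501, 0, 12, 0x0, []⟩]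

theorem t9_531_0 : jobs 8 S9 b8_531 j9_531_0 = true := by decide +kernel

noncomputable def j9_531_1 : List Job := [
  ⟨62, 0x564b45c2fd60b65d2f504844523500864423c140d0403c0e0501, 0, 11, 0x0, []⟩]

theorem t9_531_1 : jobs 8 S9 b8_531 j9_531_1 = true := by decide +kernel

noncomputable def j9_531_2 : List Job := [
  ⟨61, 0x564b45c2fd60b65d2f504844523500864423c140d0403c0e0501, 0, 11, 0x0, []⟩]

theorem t9_531_2 : jobs 8 S9 b8_531 j9_531_2 = true := by decide +kernel

noncomputable def j9_531_3 : List Job := [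
  ⟨60, 0x560b25a2d970ba5e2fd008242219108a4623c301a0e07c0e0501, 0, 12, 0x0, []⟩]

theorem t9_531_3 : jobs 8 S9 b8_531 j9_531_3 = true := by decide +kernel

noncomputable def j9_531_4 : List Job := [
  ⟨59, 0x540a25229950aa562bd008242219108a4623c140f040340e0501, 0, 12, 0x0, []⟩]

theorem t9_531_4 : jobs 8 S9 b8_531 j9_531_4 = true := by decide +kernel

noncomputable def j9_531_5 : List Job := [
  ⟨58, 0x544a6552bd40a4542b504864523d008444234140f040340e0501, 0, 21, 0x0, []⟩]

theorem t9_531_5 : jobs 8 S9 b8_531 j9_531_5 = true := by decide +kernel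

noncomputable def j9_531_6 : List Job := [
  ⟨57, 0x544a6552bd40a4542b504864523d008444234140f040340e0501, 0, 11, 0x0, []⟩]

theorem t9_531_6 : jobs 8 S9 b8_531 j9_531_6 = true := by decide +kernel

noncomputable def j9_531_7 : List Job := [
  ⟨56, 0x5008242219108a4623c703a1e0fc60321a0dc180f0402c0e0501, 0, 32, 0x204000404000604000804003204003604, []⟩]

theorem t9_531_7 : jobs 8 S9 b8_531 j9_531_7 = true := by decide +kernel

noncomputable def j9_531_8 : List Job := [
  ⟨55, 0x508864623d00824422c703a1e0fc60321a0dc180f0402c0e0501, 0, 20, 0x204000404001a04001e04, []⟩]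

theorem t9_531_8 : jobs 8 S9 b8_531 j9_531_8 = true := by decide +kernel

noncomputable def j9_531_9 : List Job := [
  ⟨54, 0x508864623d00824422c703a1e0fc60321a0dc180f0402c0e0501, 0, 20, 0x204000404001a04001e04, []⟩]

theorem t9_531_9 : jobs 8 S9 b8_531 j9_531_9 = true := by decide +kernel

noncomputable def j9_531_10 : List Job := [
  ⟨53, 0x5008242219108a4623c703a1e0fc48271008c301a0e07c0e0501, 0, 32, 0x204000404000604000804000a04000e04003204003604003a04003e04, []⟩]

theorem t9_531_10 : jobs 8 S9 b8_531 j9_531_10 = true := by decide +kernel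

noncomputable def j9_531_11 : List Job := [
  ⟨52, 0x5008242219108a4623c703a1e0fc48271008c301a0e07c0e0501, 0, 32, 0x204000404000604000804003204003604, []⟩]

theorem t9_531_11 : jobs 8 S9 b8_531 j9_531_11 = true := by decide +kernel

noncomputable def j9_531_12 : List Job := [
  ⟨51, 0x5008242219108a4623c703a1e0fc48271008c301a0e07c0e0501, 0, 32, 0x204000404000604000804000a04000e04003204003604003a04003e04, []⟩]

theorem t9_531_12 : jobs 8 S9 b8_531 j9_531_12 = true := by decide +kernel

noncomputable def j9_531_13 : List Job := [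
  ⟨50, 0x5008242219108a4623c703a1e0fc48271008c301a0e07c0e0501, 0, 32, 0x204000404000604000804003204003604, []⟩]

theorem t9_531_13 : jobs 8 S9 b8_531 j9_531_13 = true := by decide +kernel

noncomputable def j9_531_14 : List Job := [
  ⟨49, 0x5008242219108a4623c582f140ac48271008c180f0402c0e0501, 0, 32, 0x204000404000604000804000c04001004003204003604003a04003e04, []⟩]

theorem t9_531_14 : jobs 8 S9 b8_531 j9_531_14 = true := by decide +kernel

noncomputable def j9_531_15 : List Job := [
  ⟨48, 0x508864623d00824422c582f140ac48271008c180f0402c0e0501, 0, 36, 0x204000404000604000804001a04001e04002204002604, []⟩]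

theorem t9_531_15 : jobs 8 S9 b8_531 j9_531_15 = true := by decide +kernel

noncomputable def j9_531_16 : List Job := [
  ⟨47, 0x508864623d00824422c582f140ac48271008c180f0402c0e0501, 0, 28, 0x204000404001a04001e01, []⟩]

theorem t9_531_16 : jobs 8 S9 b8_531 j9_531_16 = true := by decide +kernel

noncomputable def j9_531_17 : List Job := [
  ⟨46, 0x4582f140ac0e0501, 0, 12, 0x0, []⟩]

theorem t9_531_17 : jobs 8 S9 b8_531 j9_531_17 = true := by decide +kernel

noncomputable def j9_531_18 : List Job := [
  ⟨45, 0x4582f140ac0e0501, 0, 12, 0x0, []⟩]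

theorem t9_531_18 : jobs 8 S9 b8_531 j9_531_18 = true := by decide +kernel

noncomputable def j9_531_19 : List Job := [
  ⟨44, 0x4783f1c0ec0e0501, 0, 12, 0x0, []⟩]

theorem t9_531_19 : jobs 8 S9 b8_531 j9_531_19 = true := by decide +kernel

noncomputable def j9_531_20 : List Job := [
  ⟨43, 0x4783f1c0ec0e0501, 0, 12, 0x0, []⟩]

theorem t9_531_20 : jobs 8 S9 b8_531 j9_531_20 = true := by decide +kernel

noncomputable def j9_531_21 : List Job := [
  ⟨42, 0x4783f1c0ec0e0501, 0, 12, 0x0, []⟩]

theorem t9_531_21 : jobs 8 S9 b8_531 j9_531_21 = true := by decide +kernel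

noncomputable def j9_531_22 : List Job := [
  ⟨41, 0x4783f1c0ec0e0501, 0, 12, 0x0, []⟩]

theorem t9_531_22 : jobs 8 S9 b8_531 j9_531_22 = true := by decide +kernel

noncomputable def j9_531_23 : List Job := [
  ⟨40, 0x45e2d158a40e0501, 0, 6, 0x407000807, []⟩]

theorem t9_531_23 : jobs 8 S9 b8_531 j9_531_23 = true := by decide +kernel

noncomputable def j9_531_24 : List Job := [
  ⟨39, 0x45e2d158a40e0501, 0, 6, 0x407000807, []⟩]

theorem t9_531_24 : jobs 8 S9 b8_531 j9_531_24 = true := by decide +kernel

noncomputable def j9_531_25 : List Job := [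
  ⟨38, 0x45e2d158a40e0501, 0, 16, 0x1007001407, []⟩]

theorem t9_531_25 : jobs 8 S9 b8_531 j9_531_25 = true := by decide +kernel

noncomputable def j9_531_26 : List Job := [
  ⟨37, 0x45e2d158a40e0501, 0, 8, 0x607000a07, []⟩]

theorem t9_531_26 : jobs 8 S9 b8_531 j9_531_26 = true := by decide +kernel

noncomputable def j9_531_27 : List Job := [
  ⟨36, 0x560b25a2d970ba5e2fd008242219108a4623c582f140ac0e0501, 0, 15, 0x0, []⟩]

theorem t9_531_27 : jobs 8 S9 b8_531 j9_531_27 = true := by decide +kernel

noncomputable def j9_531_28 : List Job := [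
  ⟨35, 0x560b25a2d970ba5e2fd008242219108a4623c582f140ac0e0501, 0, 15, 0x0, []⟩]

theorem t9_531_28 : jobs 8 S9 b8_531 j9_531_28 = true := by decide +kernel

noncomputable def j9_531_29 : List Job := [
  ⟨34, 0x540a25229950aa562bd008242219108a4623c783f1c0ec0e0501, 0, 15, 0x0, []⟩]

theorem t9_531_29 : jobs 8 S9 b8_531 j9_531_29 = true := by decide +kernel

noncomputable def j9_531_30 : List Job := [
  ⟨33, 0x540a25229950aa562bd008242219108a4623c783f1c0ec0e0501, 0, 15, 0x0, []⟩]

theorem t9_531_30 : jobs 8 S9 b8_531 j9_531_30 = true := by decide +kernel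

noncomputable def j9_531_31 : List Job := [
  ⟨32, 0x560b25a2d970ba5e2fd008242219108a4623c783f1c0ec0e0501, 0, 15, 0x0, []⟩]

theorem t9_531_31 : jobs 8 S9 b8_531 j9_531_31 = true := by decide +kernel

noncomputable def j9_531_32 : List Job := [
  ⟨31, 0x564b45c2fd60b65d2f504844523500864423c783f1c0ec0e0501, 0, 15, 0x1c02, []⟩]

theorem t9_531_32 : jobs 8 S9 b8_531 j9_531_32 = true := by decide +kernel

noncomputable def j9_531_33 : List Job := [
  ⟨30, 0x540a25229950aa562bd008242219108a4623c5e2d158a40e0501, 0, 9, 0x402000802, []⟩]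

theorem t9_531_33 : jobs 8 S9 b8_531 j9_531_33 = true := by decide +kernel

noncomputable def j9_531_34 : List Job := [
  ⟨29, 0x540a25229950aa562bd008242219108a4623c5e2d158a40e0501, 0, 9, 0x402000802, []⟩]

theorem t9_531_34 : jobs 8 S9 b8_531 j9_531_34 = true := by decide +kernel

noncomputable def j9_531_35 : List Job := [
  ⟨28, 0x544a6552bd40a4542b504864523d0084442345e2d158a40e0501, 0, 21, 0x1002001402002201002401002802, []⟩]

theorem t9_531_35 : jobs 8 S9 b8_531 j9_531_35 = true := by decide +kernel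

noncomputable def j9_531_36 : List Job := [
  ⟨27, 0x544a6552bd40a4542b504864523d0084442345e2d158a40e0501, 0, 13, 0x602000a02001402001801001a01, []⟩]

theorem t9_531_36 : jobs 8 S9 b8_531 j9_531_36 = true := by decide +kernel

noncomputable def j9_531_37 : List Job := [
  ⟨26, 0x42e15098440e0501, 0, 12, 0x201000401000601000801, []⟩]

theorem t9_531_37 : jobs 8 S9 b8_531 j9_531_37 = true := by decide +kernel

noncomputable def j9_531_38 : List Job := [
  ⟨25, 0x4582f140ac0e0501, 0, 12, 0x207000607000a07000e07, []⟩]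

theorem t9_531_38 : jobs 8 S9 b8_531 j9_531_38 = true := by decide +kernel

noncomputable def j9_531_39 : List Job := [
  ⟨24, 0x4582f140ac0e0501, 0, 12, 0x207000607000a07000e07, []⟩]

theorem t9_531_39 : jobs 8 S9 b8_531 j9_531_39 = true := by decide +kernel

noncomputable def j9_531_40 : List Job := [
  ⟨23, 0x4783f1c0ec0e0501, 0, 12, 0x0, []⟩]

theorem t9_531_40 : jobs 8 S9 b8_531 j9_531_40 = true := by decide +kernel

noncomputable def j9_531_41 : List Job := [
  ⟨22, 0x4783f1c0ec0e0501, 0, 12, 0x0, []⟩]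

theorem t9_531_41 : jobs 8 S9 b8_531 j9_531_41 = true := by decide +kernel

noncomputable def j9_531_42 : List Job := [
  ⟨21, 0x4783f1c0ec0e0501, 0, 12, 0x0, []⟩]

theorem t9_531_42 : jobs 8 S9 b8_531 j9_531_42 = true := by decide +kernel

noncomputable def j9_531_43 : List Job := [
  ⟨20, 0x4783f1c0ec0e0501, 0, 12, 0x0, []⟩]

theorem t9_531_43 : jobs 8 S9 b8_531 j9_531_43 = true := by decide +kernel

noncomputable def j9_531_44 : List Job := [
  ⟨19, 0x45e2d158a40e0501, 0, 6, 0x407000807, []⟩]

theorem t9_531_44 : jobs 8 S9 b8_531 j9_531_44 = true := by decide +kernel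

noncomputable def j9_531_45 : List Job := [
  ⟨18, 0x45e2d158a40e0501, 0, 6, 0x407000807, []⟩]

theorem t9_531_45 : jobs 8 S9 b8_531 j9_531_45 = true := by decide +kernel

noncomputable def j9_531_46 : List Job := [
  ⟨17, 0x45e2d158a40e0501, 0, 16, 0x1007001407, []⟩]

theorem t9_531_46 : jobs 8 S9 b8_531 j9_531_46 = true := by decide +kernel

noncomputable def j9_531_47 : List Job := [
  ⟨16, 0x45e2d158a40e0501, 0, 8, 0x607000a07, []⟩]

theorem t9_531_47 : jobs 8 S9 b8_531 j9_531_47 = true := by decide +kernel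

noncomputable def j9_531_48 : List Job := [
  ⟨15, 0x42e15098440e0501, 0, 12, 0x1201001401001601001801, []⟩]

theorem t9_531_48 : jobs 8 S9 b8_531 j9_531_48 = true := by decide +kernel

noncomputable def j9_531_49 : List Job := [
  ⟨14, 0x42e15098440e0501, 0, 12, 0x1201001401001601001801, []⟩]

theorem t9_531_49 : jobs 8 S9 b8_531 j9_531_49 = true := by decide +kernel

noncomputable def j9_531_50 : List Job := [
  ⟨13, 0x540a25229950aa562bd008242219108a4623c783f1c0ec0e0501, 0, 24, 0x0, []⟩]

theorem t9_531_50 : jobs 8 S9 b8_531 j9_531_50 = true := by decide +kernel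

noncomputable def j9_531_51 : List Job := [
  ⟨12, 0x540a25229950aa562bd008242219108a4623c783f1c0ec0e0501, 0, 24, 0x0, []⟩]

theorem t9_531_51 : jobs 8 S9 b8_531 j9_531_51 = true := by decide +kernel

noncomputable def j9_531_52 : List Job := [
  ⟨11, 0x560b25a2d970ba5e2fd008242219108a4623c582f140ac0e0501, 0, 24, 0x203000603000a03000e03, []⟩]

theorem t9_531_52 : jobs 8 S9 b8_531 j9_531_52 = true := by decide +kernel

noncomputable def j9_531_53 : List Job := [
  ⟨10, 0x560b25a2d970ba5e2fd008242219108a4623c582f140ac0e0501, 0, 24, 0x203000603000a03000e03, []⟩]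

theorem t9_531_53 : jobs 8 S9 b8_531 j9_531_53 = true := by decide +kernel

noncomputable def j9_531_54 : List Job := [
  ⟨9, 0x560b25a2d970ba5e2fd008242219108a4623c783f1c0ec0e0501, 0, 24, 0x0, []⟩]

theorem t9_531_54 : jobs 8 S9 b8_531 j9_531_54 = true := by decide +kernel

noncomputable def j9_531_55 : List Job := [
  ⟨8, 0x564b45c2fd60b65d2f504844523500864423c783f1c0ec0e0501, 0, 24, 0x202000602001002001402, []⟩]

theorem t9_531_55 : jobs 8 S9 b8_531 j9_531_55 = true := by decide +kernel

noncomputable def j9_531_56 : List Job := [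
  ⟨7, 0x540a25229950aa562bd008242219108a4623c5e2d158a40e0501, 0, 15, 0x1402001802, []⟩]

theorem t9_531_56 : jobs 8 S9 b8_531 j9_531_56 = true := by decide +kernel

noncomputable def j9_531_57 : List Job := [
  ⟨6, 0x540a25229950aa562bd008242219108a4623c5e2d158a40e0501, 0, 15, 0x1402001802, []⟩]

theorem t9_531_57 : jobs 8 S9 b8_531 j9_531_57 = true := by decide +kernel

noncomputable def j9_531_58 : List Job := [
  ⟨5, 0x544a6552bd40a4542b504864523d0084442345e2d158a40e0501, 0, 31, 0xe02001202001801001a01001c01002002002601002801002a01002c02003002, []⟩]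

theorem t9_531_58 : jobs 8 S9 b8_531 j9_531_58 = true := by decide +kernel

noncomputable def j9_531_59 : List Job := [
  ⟨4, 0x544a6552bd40a4542b504864523d0084442345e2d158a40e0501, 0, 19, 0x402000802000e01001202001801001a02001e02, []⟩]

theorem t9_531_59 : jobs 8 S9 b8_531 j9_531_59 = true := by decide +kernel

noncomputable def j9_531_60 : List Job := [
  ⟨3, 0x42e15098440e0501, 0, 18, 0x1e01002001002201002401, []⟩]

theorem t9_531_60 : jobs 8 S9 b8_531 j9_531_60 = true := by decide +kernel

noncomputable def j9_531_61 : List Job := [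
  ⟨2, 0x560b25a2d970ba5e2fd40a25229950aa562bd20924a259309a4e27d008242219108a4623c2e15098440e0501, 0, 28, 0x1e01002001002201002401002601002801002a01002c01003001003201003401003601, []⟩]

theorem t9_531_61 : jobs 8 S9 b8_531 j9_531_61 = true := by decide +kernel

noncomputable def j9_531_62 : List Job := [
  ⟨1, 0x42e15098440e0501, 0, 18, 0x1e01002001002201002401, []⟩]

theorem t9_531_62 : jobs 8 S9 b8_531 j9_531_62 = true := by decide +kernel

noncomputable def j9_531_63 : List Job := [
  ⟨0, 0x5008242219108a4623c60321a0dc0e0501, 0, 16, 0x0, []⟩]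

theorem t9_531_63 : jobs 8 S9 b8_531 j9_531_63 = true := by decide +kernel

theorem d9_531 : Dn 8 S9 b8_531 := dn_of (Js := j9_531_0 ++ (j9_531_1 ++ (j9_531_2 ++ (j9_531_3 ++ (j9_531_4 ++ (j9_531_5 ++ (j9_531_6 ++ (j9_531_7 ++ (j9_531_8 ++ (j9_531_9 ++ (j9_531_10 ++ (j9_531_11 ++ (j9_531_12 ++ (j9_531_13 ++ (j9_531_14 ++ (j9_531_15 ++ (j9_531_16 ++ (j9_531_17 ++ (j9_531_18 ++ (j9_531_19 ++ (j9_531_20 ++ (j9_531_21 ++ (j9_531_22 ++ (j9_531_23 ++ (j9_531_24 ++ (j9_531_25 ++ (j9_531_26 ++ (j9_531_27 ++ (j9_531_28 ++ (j9_531_29 ++ (j9_531_30 ++ (j9_531_31 ++ (j9_531_32 ++ (j9_531_33 ++ (j9_531_34 ++ (j9_531_35 ++ (j9_531_36 ++ (j9_531_37 ++ (j9_531_38 ++ (j9_531_39 ++ (j9_531_40 ++ (j9_531_41 ++ (j9_531_42 ++ (j9_531_43 ++ (j9_531_44 ++ (j9_531_45 ++ (j9_531_46 ++ (j9_531_47 ++ (j9_531_48 ++ (j9_531_49 ++ (j9_531_50 ++ (j9_531_51 ++ (j9_531_52 ++ (j9_531_53 ++ (j9_531_54 ++ (j9_531_55 ++ (j9_531_56 ++ (j9_531_57 ++ (j9_531_58 ++ (j9_531_59 ++ (j9_531_60 ++ (j9_531_61 ++ (j9_531_62 ++ (j9_531_63 ++ []))))))))))))))))))))))))))))))))))))))))))))))))))))))))))))))))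
  (jobs_append t9_531_0 <| jobs_append t9_531_1 <| jobs_append t9_531_2 <| jobs_append t9_531_3 <| jobs_append t9_531_4 <| jobs_append t9_531_5 <| jobs_append t9_531_6 <| jobs_append t9_531_7 <| jobs_append t9_531_8 <| jobs_append t9_531_9 <| jobs_append t9_531_10 <| jobs_append t9_531_11 <| jobs_append t9_531_12 <| jobs_append t9_531_13 <| jobs_append t9_531_14 <| jobs_append t9_531_15 <| jobs_append t9_531_16 <| jobs_append t9_531_17 <| jobs_append t9_531_18 <| jobs_append t9_531_19 <| jobs_append t9_531_20 <| jobs_append t9_531_21 <| jobs_append t9_531_22 <| jobs_append t9_531_23 <| jobs_append t9_531_24 <| jobs_append t9_531_25 <| jobs_append t9_531_26 <| jobs_append t9_531_27 <| jobs_append t9_531_28 <| jobs_append t9_531_29 <| jobs_append t9_531_30 <| jobs_append t9_531_31 <| jobs_append t9_531_32 <| jobs_append t9_531_33 <| jobs_append t9_531_34 <| jobs_append t9_531_35 <| jobs_append t9_531_36 <| jobs_append t9_531_37 <| jobs_append t9_531_38 <| jobs_append t9_531_39 <| jobs_append t9_531_40 <| jobs_append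 t9_531_41 <| jobs_append t9_531_42 <| jobs_append t9_531_43 <| jobs_append t9_531_44 <| jobs_append t9_531_45 <| jobs_append t9_531_46 <| jobs_append t9_531_47 <| jobs_append t9_531_48 <| jobs_append t9_531_49 <| jobs_append t9_531_50 <| jobs_append t9_531_51 <| jobs_append t9_531_52 <| jobs_append t9_531_53 <| jobs_append t9_531_54 <| jobs_append t9_531_55 <| jobs_append t9_531_56 <| jobs_append t9_531_57 <| jobs_append t9_531_58 <| jobs_append t9_531_59 <| jobs_append t9_531_60 <| jobs_append t9_531_61 <| jobs_append t9_531_62 <| jobs_append t9_531_63 <| List.forall_mem_nil _) (by decide +kernel)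

noncomputable def j9_532_0 : List Job := [
  ⟨63, 0x45e2d158a40e0501, 0, 11, 0xc05, []⟩]

theorem t9_532_0 : jobs 8 S9 b8_532 j9_532_0 = true := by decide +kernel

noncomputable def j9_532_1 : List Job := [
  ⟨62, 0x45e2d158a40e0501, 0, 5, 0x402, []⟩]

theorem t9_532_1 : jobs 8 S9 b8_532 j9_532_1 = true := by decide +kernel

noncomputable def j9_532_2 : List Job := [
  ⟨61, 0x4743d1c0fc542d140bc2e15098440e0501, 0, 16, 0x1010001411001810001c01002001, []⟩]

theorem t9_532_2 : jobs 8 S9 b8_532 j9_532_2 = true := by decide +kernel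

noncomputable def j9_532_3 : List Job := [
  ⟨60, 0x42e15098440e0501, 0, 5, 0x0, []⟩]

theorem t9_532_3 : jobs 8 S9 b8_532 j9_532_3 = true := by decide +kernel

noncomputable def j9_532_4 : List Job := [
  ⟨59, 0x42e15098440e0501, 0, 5, 0xa01, []⟩]

theorem t9_532_4 : jobs 8 S9 b8_532 j9_532_4 = true := by decide +kernel

noncomputable def j9_532_5 : List Job := [
  ⟨58, 0x42e15098440e0501, 0, 11, 0x1201001401001601, []⟩]

theorem t9_532_5 : jobs 8 S9 b8_532 j9_532_5 = true := by decide +kernel

noncomputable def j9_532_6 : List Job := [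
  ⟨57, 0x5c0e272399d0ea763b9e0f27a3d9f0fa7e3fd008242219108a4623920924a259309a4e27c783f1c0ec0e0501, 0, 12, 0x0, []⟩]

theorem t9_532_6 : jobs 8 S9 b8_532 j9_532_6 = true := by decide +kernel

noncomputable def j9_532_7 : List Job := [
  ⟨56, 0x45e2d158a40e0501, 0, 6, 0x404, []⟩]

theorem t9_532_7 : jobs 8 S9 b8_532 j9_532_7 = true := by decide +kernel

noncomputable def j9_532_8 : List Job := [
  ⟨55, 0x5c0e272399d0ea763b9e0f27a3d9f0fa7e3fd80c26231990ca66339a0d26a359b0da6e37d40a25229950aa562b960b25a2d970ba5e2fd008242219108a4623920924a259309a4e27c5e2d158a40e0501, 0, 20, 0xc02, []⟩]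

theorem t9_532_8 : jobs 8 S9 b8_532 j9_532_8 = true := by decide +kernel

noncomputable def j9_532_9 : List Job := [
  ⟨54, 0x540a25229950aa562b960b25a2d970ba5e2fd008242219108a4623920924a259309a4e27c5e2d158a40e0501, 0, 11, 0x402, []⟩]

theorem t9_532_9 : jobs 8 S9 b8_532 j9_532_9 = true := by decide +kernel

noncomputable def j9_532_10 : List Job := [
  ⟨53, 0x580c26231990ca66339a0d26a359b0da6e37d008242219108a4623920924a259309a4e27c743d1c0fc542d140bc2e15098440e0501, 0, 30, 0x1010001411001810001c01002001002401002601002e01003201003401003601003801003a01003c01, []⟩]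

theorem t9_532_10 : jobs 8 S9 b8_532 j9_532_10 = true := by decide +kernel

noncomputable def j9_532_11 : List Job := [
  ⟨52, 0x540a25229950aa562b960b25a2d970ba5e2fd008242219108a4623920924a259309a4e27c2e15098440e0501, 0, 8, 0xe01, []⟩]

theorem t9_532_11 : jobs 8 S9 b8_532 j9_532_11 = true := by decide +kernel

noncomputable def j9_532_12 : List Job := [
  ⟨51, 0x42e15098440e0501, 0, 5, 0xa01, []⟩]

theorem t9_532_12 : jobs 8 S9 b8_532 j9_532_12 = true := by decide +kernel

noncomputable def j9_532_13 : List Job := [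
  ⟨50, 0x5c0e272399d0ea763b9e0f27a3d9f0fa7e3fd80c26231990ca66339a0d26a359b0da6e37d40a25229950aa562b960b25a2d970ba5e2fd008242219108a4623920924a259309a4e27c2e15098440e0501, 0, 16, 0x1601, []⟩]

theorem t9_532_13 : jobs 8 S9 b8_532 j9_532_13 = true := by decide +kernel

noncomputable def j9_532_14 : List Job := [
  ⟨49, 0x4783f1c0ec0e0501, 0, 8, 0x0, []⟩]

theorem t9_532_14 : jobs 8 S9 b8_532 j9_532_14 = true := by decide +kernel

noncomputable def j9_532_15 : List Job := [
  ⟨48, 0x45e2d158a40e0501, 0, 6, 0x405, []⟩]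

theorem t9_532_15 : jobs 8 S9 b8_532 j9_532_15 = true := by decide +kernel

noncomputable def j9_532_16 : List Job := [
  ⟨47, 0x45e2d158a40e0501, 0, 13, 0x1005, []⟩]

theorem t9_532_16 : jobs 8 S9 b8_532 j9_532_16 = true := by decide +kernel

noncomputable def j9_532_17 : List Job := [
  ⟨46, 0x4743d1c0fc542d140bc2e15098440e0501, 0, 18, 0x1410001811001c10, []⟩]

theorem t9_532_17 : jobs 8 S9 b8_532 j9_532_17 = true := by decide +kernel

noncomputable def j9_532_18 : List Job := [
  ⟨45, 0x42e15098440e0501, 0, 6, 0x0, []⟩]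

theorem t9_532_18 : jobs 8 S9 b8_532 j9_532_18 = true := by decide +kernel

noncomputable def j9_532_19 : List Job := [
  ⟨44, 0x42e15098440e0501, 0, 10, 0xe01001001001201001401, []⟩]

theorem t9_532_19 : jobs 8 S9 b8_532 j9_532_19 = true := by decide +kernel

noncomputable def j9_532_20 : List Job := [
  ⟨43, 0x42e15098440e0501, 0, 13, 0x1601001801001a01, []⟩]

theorem t9_532_20 : jobs 8 S9 b8_532 j9_532_20 = true := by decide +kernel

noncomputable def j9_532_21 : List Job := [
  ⟨42, 0x540a25229950aa562b960b25a2d970ba5e2fd008242219108a4623920924a259309a4e27c2e15098440e0501, 0, 22, 0x0, []⟩]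

theorem t9_532_21 : jobs 8 S9 b8_532 j9_532_21 = true := by decide +kernel

noncomputable def j9_532_22 : List Job := [
  ⟨41, 0x42e15098440e0501, 0, 18, 0x0, []⟩]

theorem t9_532_22 : jobs 8 S9 b8_532 j9_532_22 = true := by decide +kernel

noncomputable def j9_532_23 : List Job := [
  ⟨40, 0x5c0e272399d0ea763b9e0f27a3d9f0fa7e3fd80c26231990ca66339a0d26a359b0da6e37d40a25229950aa562b960b25a2d970ba5e2fd008242219108a4623920924a259309a4e27c2e15098440e0501, 0, 31, 0x1201003c01, []⟩]

theorem t9_532_23 : jobs 8 S9 b8_532 j9_532_23 = true := by decide +kernel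

noncomputable def j9_532_24 : List Job := [
  ⟨39, 0x580c26231990ca66339a0d26a359b0da6e37d008242219108a4623920924a259309a4e27c743d1c0fc542d140bc2e15098440e0501, 0, 60, 0x1c10002011002410, []⟩]

theorem t9_532_24 : jobs 8 S9 b8_532 j9_532_24 = true := by decide +kernel

noncomputable def j9_532_25 : List Job := [
  ⟨38, 0x444251009c0e0501, 0, 12, 0x0, []⟩]

theorem t9_532_25 : jobs 8 S9 b8_532 j9_532_25 = true := by decide +kernel

noncomputable def j9_532_26 : List Job := [
  ⟨37, 0x580c26231990ca66339a0d26a359b0da6e37d008242219108a4623920924a259309a4e27c44251009c0e0501, 0, 15, 0x1a01001c01001e01, []⟩]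

theorem t9_532_26 : jobs 8 S9 b8_532 j9_532_26 = true := by decide +kernel

noncomputable def j9_532_27 : List Job := [
  ⟨36, 0x5008242219108a4623920924a259309a4e27c44251009c0e0501, 0, 16, 0x0, []⟩]

theorem t9_532_27 : jobs 8 S9 b8_532 j9_532_27 = true := by decide +kernel

noncomputable def j9_532_28 : List Job := [
  ⟨35, 0x448271008c0e0501, 0, 6, 0x0, []⟩]

theorem t9_532_28 : jobs 8 S9 b8_532 j9_532_28 = true := by decide +kernel

noncomputable def j9_532_29 : List Job := [
  ⟨34, 0x580c26231990ca66339a0d26a359b0da6e37d008242219108a4623920924a259309a4e27c48271008c0e0501, 0, 12, 0x0, []⟩]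

theorem t9_532_29 : jobs 8 S9 b8_532 j9_532_29 = true := by decide +kernel

noncomputable def j9_532_30 : List Job := [
  ⟨33, 0x448271008c0e0501, 0, 6, 0x0, []⟩]

theorem t9_532_30 : jobs 8 S9 b8_532 j9_532_30 = true := by decide +kernel

noncomputable def j9_532_31 : List Job := [
  ⟨32, 0x580c26231990ca66339a0d26a359b0da6e37d008242219108a4623920924a259309a4e27c48271008c0e0501, 0, 15, 0x201000401000601000801000a01000c01001a01001c01001e01, []⟩]

theorem t9_532_31 : jobs 8 S9 b8_532 j9_532_31 = true := by decide +kernel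

noncomputable def j9_532_32 : List Job := [
  ⟨31, 0x5008242219108a4623920924a259309a4e27c48271008c0e0501, 0, 8, 0x0, []⟩]

theorem t9_532_32 : jobs 8 S9 b8_532 j9_532_32 = true := by decide +kernel

noncomputable def j9_532_33 : List Job := [
  ⟨30, 0x5008242219108a4623920924a259309a4e27c48271008c0e0501, 0, 8, 0x0, []⟩]

theorem t9_532_33 : jobs 8 S9 b8_532 j9_532_33 = true := by decide +kernel

noncomputable def j9_532_34 : List Job := [
  ⟨29, 0x5008242219108a4623920924a259309a4e27c2e15098440e0501, 0, 8, 0x0, []⟩]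

theorem t9_532_34 : jobs 8 S9 b8_532 j9_532_34 = true := by decide +kernel

noncomputable def j9_532_35 : List Job := [
  ⟨28, 0x42e15098440e0501, 0, 6, 0x0, []⟩]

theorem t9_532_35 : jobs 8 S9 b8_532 j9_532_35 = true := by decide +kernel

noncomputable def j9_532_36 : List Job := [
  ⟨27, 0x580c26231990ca66339a0d26a359b0da6e37d008242219108a4623920924a259309a4e27c2e15098440e0501, 0, 12, 0xe01001001001401001601, []⟩]

theorem t9_532_36 : jobs 8 S9 b8_532 j9_532_36 = true := by decide +kernel

noncomputable def j9_532_37 : List Job := [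
  ⟨26, 0x5008242219108a4623920924a259309a4e27c6837180cc48271008c2e15098440e0501, 0, 20, 0x1215001410001614001804001a15001e14002201002401002601002801, []⟩]

theorem t9_532_37 : jobs 8 S9 b8_532 j9_532_37 = true := by decide +kernel

noncomputable def j9_532_38 : List Job := [
  ⟨25, 0x46435180dc44251009c2e15098440e0501, 0, 15, 0xe12001213001613001a01001c01001e01, []⟩]

theorem t9_532_38 : jobs 8 S9 b8_532 j9_532_38 = true := by decide +kernel

noncomputable def j9_532_39 : List Job := [
  ⟨24, 0x580c26231990ca66339a0d26a359b0da6e37d008242219108a4623920924a259309a4e27c6837180cc48271008c2e15098440e0501, 0, 33, 0xe14001215001614001a01001c01001e01002e01003201003601003a01003e01004001004201, []⟩]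

theorem t9_532_39 : jobs 8 S9 b8_532 j9_532_39 = true := by decide +kernel

noncomputable def j9_532_40 : List Job := [
  ⟨23, 0x444251009c0e0501, 0, 12, 0x0, []⟩]

theorem t9_532_40 : jobs 8 S9 b8_532 j9_532_40 = true := by decide +kernel

noncomputable def j9_532_41 : List Job := [
  ⟨22, 0x580c26231990ca66339a0d26a359b0da6e37d008242219108a4623920924a259309a4e27c44251009c0e0501, 0, 15, 0x201000401000601, []⟩]

theorem t9_532_41 : jobs 8 S9 b8_532 j9_532_41 = true := by decide +kernel

noncomputable def j9_532_42 : List Job := [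
  ⟨21, 0x5008242219108a4623920924a259309a4e27c44251009c0e0501, 0, 16, 0x0, []⟩]

theorem t9_532_42 : jobs 8 S9 b8_532 j9_532_42 = true := by decide +kernel

noncomputable def j9_532_43 : List Job := [
  ⟨20, 0x448271008c0e0501, 0, 6, 0x0, []⟩]

theorem t9_532_43 : jobs 8 S9 b8_532 j9_532_43 = true := by decide +kernel

noncomputable def j9_532_44 : List Job := [
  ⟨19, 0x580c26231990ca66339a0d26a359b0da6e37d008242219108a4623920924a259309a4e27c48271008c0e0501, 0, 12, 0x0, []⟩]

theorem t9_532_44 : jobs 8 S9 b8_532 j9_532_44 = true := by decide +kernel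

noncomputable def j9_532_45 : List Job := [
  ⟨18, 0x448271008c0e0501, 0, 6, 0x0, []⟩]

theorem t9_532_45 : jobs 8 S9 b8_532 j9_532_45 = true := by decide +kernel

noncomputable def j9_532_46 : List Job := [
  ⟨17, 0x580c26231990ca66339a0d26a359b0da6e37d008242219108a4623920924a259309a4e27c48271008c0e0501, 0, 15, 0x201000401000601000801000a01000c01001a01001c01001e01, []⟩]

theorem t9_532_46 : jobs 8 S9 b8_532 j9_532_46 = true := by decide +kernel

noncomputable def j9_532_47 : List Job := [
  ⟨16, 0x5008242219108a4623920924a259309a4e27c48271008c0e0501, 0, 8, 0x0, []⟩]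

theorem t9_532_47 : jobs 8 S9 b8_532 j9_532_47 = true := by decide +kernel

noncomputable def j9_532_48 : List Job := [
  ⟨15, 0x5008242219108a4623920924a259309a4e27c48271008c0e0501, 0, 8, 0x0, []⟩]

theorem t9_532_48 : jobs 8 S9 b8_532 j9_532_48 = true := by decide +kernel

noncomputable def j9_532_49 : List Job := [
  ⟨14, 0x5008242219108a4623920924a259309a4e27c2e15098440e0501, 0, 8, 0x0, []⟩]

theorem t9_532_49 : jobs 8 S9 b8_532 j9_532_49 = true := by decide +kernel

noncomputable def j9_532_50 : List Job := [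
  ⟨13, 0x42e15098440e0501, 0, 6, 0x0, []⟩]

theorem t9_532_50 : jobs 8 S9 b8_532 j9_532_50 = true := by decide +kernel

noncomputable def j9_532_51 : List Job := [
  ⟨12, 0x580c26231990ca66339a0d26a359b0da6e37d008242219108a4623920924a259309a4e27c2e15098440e0501, 0, 12, 0xe01001001001401001601, []⟩]

theorem t9_532_51 : jobs 8 S9 b8_532 j9_532_51 = true := by decide +kernel

noncomputable def j9_532_52 : List Job := [
  ⟨11, 0x5008242219108a4623920924a259309a4e27c6837180cc48271008c2e15098440e0501, 0, 20, 0x1210001404001611001814001a10001e11002201002401002601002801, []⟩]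

theorem t9_532_52 : jobs 8 S9 b8_532 j9_532_52 = true := by decide +kernel

noncomputable def j9_532_53 : List Job := [
  ⟨10, 0x46435180dc44251009c2e15098440e0501, 0, 15, 0xe10001211001610001a01001c01001e01, []⟩]

theorem t9_532_53 : jobs 8 S9 b8_532 j9_532_53 = true := by decide +kernel

noncomputable def j9_532_54 : List Job := [
  ⟨9, 0x580c26231990ca66339a0d26a359b0da6e37d008242219108a4623920924a259309a4e27c6837180cc48271008c2e15098440e0501, 0, 33, 0xe10001211001610001a01001c01001e01002e01003201003601003a01003e01004001004201, []⟩]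

theorem t9_532_54 : jobs 8 S9 b8_532 j9_532_54 = true := by decide +kernel

noncomputable def j9_532_55 : List Job := [
  ⟨8, 0x4301a0e07c0e0501, 0, 12, 0x0, []⟩]

theorem t9_532_55 : jobs 8 S9 b8_532 j9_532_55 = true := by decide +kernel

noncomputable def j9_532_56 : List Job := [
  ⟨7, 0x4140f040340e0501, 0, 12, 0x0, []⟩]

theorem t9_532_56 : jobs 8 S9 b8_532 j9_532_56 = true := by decide +kernel

noncomputable def j9_532_57 : List Job := [
  ⟨6, 0x4140f040340e0501, 0, 9, 0x0, []⟩]

theorem t9_532_57 : jobs 8 S9 b8_532 j9_532_57 = true := by decide +kernel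

noncomputable def j9_532_58 : List Job := [
  ⟨5, 0x4140f040340e0501, 0, 9, 0x0, []⟩]

theorem t9_532_58 : jobs 8 S9 b8_532 j9_532_58 = true := by decide +kernel

noncomputable def j9_532_59 : List Job := [
  ⟨4, 0x4301a0e07c0e0501, 0, 12, 0x0, []⟩]

theorem t9_532_59 : jobs 8 S9 b8_532 j9_532_59 = true := by decide +kernel

noncomputable def j9_532_60 : List Job := [
  ⟨3, 0x4140f040340e0501, 0, 12, 0x0, []⟩]

theorem t9_532_60 : jobs 8 S9 b8_532 j9_532_60 = true := by decide +kernel

noncomputable def j9_532_61 : List Job := [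
  ⟨2, 0x4140f040340e0501, 0, 19, 0x0, []⟩]

theorem t9_532_61 : jobs 8 S9 b8_532 j9_532_61 = true := by decide +kernel

noncomputable def j9_532_62 : List Job := [
  ⟨1, 0x4140f040340e0501, 0, 9, 0x0, []⟩]

theorem t9_532_62 : jobs 8 S9 b8_532 j9_532_62 = true := by decide +kernel

noncomputable def j9_532_63 : List Job := [
  ⟨0, 0x540a25229950aa562bd008242219108a4623c301a0e07c0e0501, 0, 12, 0x0, []⟩]

theorem t9_532_63 : jobs 8 S9 b8_532 j9_532_63 = true := by decide +kernel

theorem d9_532 : Dn 8 S9 b8_532 := dn_of (Js := j9_532_0 ++ (j9_532_1 ++ (j9_532_2 ++ (j9_532_3 ++ (j9_532_4 ++ (j9_532_5 ++ (j9_532_6 ++ (j9_532_7 ++ (j9_532_8 ++ (j9_532_9 ++ (j9_532_10 ++ (j9_532_11 ++ (j9_532_12 ++ (j9_532_13 ++ (j9_532_14 ++ (j9_532_15 ++ (j9_532_16 ++ (j9_532_17 ++ (j9_532_18 ++ (j9_532_19 ++ (j9_532_20 ++ (j9_532_21 ++ (j9_532_22 ++ (j9_532_23 ++ (j9_532_24 ++ (j9_532_25 ++ (j9_532_26 ++ (j9_532_27 ++ (j9_532_28 ++ (j9_532_29 ++ (j9_532_30 ++ (j9_532_31 ++ (j9_532_32 ++ (j9_532_33 ++ (j9_532_34 ++ (j9_532_35 ++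 (j9_532_36 ++ (j9_532_37 ++ (j9_532_38 ++ (j9_532_39 ++ (j9_532_40 ++ (j9_532_41 ++ (j9_532_42 ++ (j9_532_43 ++ (j9_532_44 ++ (j9_532_45 ++ (j9_532_46 ++ (j9_532_47 ++ (j9_532_48 ++ (j9_532_49 ++ (j9_532_50 ++ (j9_532_51 ++ (j9_532_52 ++ (j9_532_53 ++ (j9_532_54 ++ (j9_532_55 ++ (j9_532_56 ++ (j9_532_57 ++ (j9_532_58 ++ (j9_532_59 ++ (j9_532_60 ++ (j9_532_61 ++ (j9_532_62 ++ (j9_532_63 ++ []))))))))))))))))))))))))))))))))))))))))))))))))))))))))))))))))
  (jobs_append t9_532_0 <| jobs_append t9_532_1 <| jobs_append t9_532_2 <| jobs_append t9_532_3 <| jobs_append t9_532_4 <| jobs_append t9_532_5 <| jobs_append t9_532_6 <| jobs_append t9_532_7 <| jobs_append t9_532_8 <| jobs_append t9_532_9 <| jobs_append t9_532_10 <| jobs_append t9_532_11 <| jobs_append t9_532_12 <| jobs_append t9_532_13 <| jobs_append t9_532_14 <| jobs_append t9_532_15 <| jobs_append t9_532_16 <| jobs_append t9_532_17 <| jobs_append t9_532_18 <| jobs_append t9_532_19 <| jobs_append t9_532_20 <| jobs_append t9_532_21 <| jobs_append t9_532_22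 <| jobs_append t9_532_23 <| jobs_append t9_532_24 <| jobs_append t9_532_25 <| jobs_append t9_532_26 <| jobs_append t9_532_27 <| jobs_append t9_532_28 <| jobs_append t9_532_29 <| jobs_append t9_532_30 <| jobs_append t9_532_31 <| jobs_append t9_532_32 <| jobs_append t9_532_33 <| jobs_append t9_532_34 <| jobs_append t9_532_35 <| jobs_append t9_532_36 <| jobs_append t9_532_37 <| jobs_append t9_532_38 <| jobs_append t9_532_39 <| jobs_append t9_532_40 <| jobs_append t9_532_41 <| jobs_append t9_532_42 <| jobs_append t9_532_43 <| jobs_append t9_532_44 <| jobs_append t9_532_45 <| jobs_append t9_532_46 <| jobs_append t9_532_47 <| jobs_append t9_532_48 <| jobs_append t9_532_49 <| jobs_append t9_532_50 <| jobs_append t9_532_51 <| jobs_append t9_532_52 <| jobs_append t9_532_53 <| jobs_append t9_532_54 <| jobs_append t9_532_55 <| jobs_append t9_532_56 <| jobs_append t9_532_57 <| jobs_append t9_532_58 <| jobs_append t9_532_59 <| jobs_append t9_532_60 <| jobs_append t9_532_61 <| jobs_append t9_532_62 <| jobs_append t9_532_63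 <| List.forall_mem_nil _) (by decide +kernel)

noncomputable def j9_533_0 : List Job := [
  ⟨63, 0x4703a1e0fc48271008c341d0c07c0e0501, 0, 24, 0xe04001201001604001a01001e04002204, []⟩]

theorem t9_533_0 : jobs 8 S9 b8_533 j9_533_0 = true := by decide +kernel

noncomputable def j9_533_1 : List Job := [
  ⟨62, 0x580c26231990ca66339a0d26a359b0da6e37d008242219108a4623920924a259309a4e27c703a1e0fc48271008c341d0c07c0e0501, 0, 24, 0xe01001201001601001a01001e01002201, []⟩]

theorem t9_533_1 : jobs 8 S9 b8_533 j9_533_1 = true := by decide +kernel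

noncomputable def j9_533_2 : List Job := [
  ⟨61, 0x4703a1e0fc48271008c341d0c07c0e0501, 0, 24, 0xe04001204001604001a01001e04002204, []⟩]

theorem t9_533_2 : jobs 8 S9 b8_533 j9_533_2 = true := by decide +kernel

noncomputable def j9_533_3 : List Job := [
  ⟨60, 0x580c26231990ca66339a0d26a359b0da6e37d008242219108a4623920924a259309a4e27c703a1e0fc48271008c341d0c07c0e0501, 0, 24, 0xe04001204001601001a01001e04002201, []⟩]

theorem t9_533_3 : jobs 8 S9 b8_533 j9_533_3 = true := by decide +kernel

noncomputable def j9_533_4 : List Job := [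
  ⟨59, 0x5008242219108a4623920924a259309a4e27c703a1e0fc48271008c341d0c07c0e0501, 0, 32, 0x1204001604001a04001e04002204002604002a04002e04, []⟩]

theorem t9_533_4 : jobs 8 S9 b8_533 j9_533_4 = true := by decide +kernel

noncomputable def j9_533_5 : List Job := [
  ⟨58, 0x5008242219108a4623920924a259309a4e27c703a1e0fc48271008c341d0c07c0e0501, 0, 32, 0x1204001604001a04001e04002204002604002a04002e04, []⟩]

theorem t9_533_5 : jobs 8 S9 b8_533 j9_533_5 = true := by decide +kernel

noncomputable def j9_533_6 : List Job := [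
  ⟨57, 0x4582f140ac48271008c180f0402c0e0501, 0, 24, 0xe04001204001604001a04001e01002201, []⟩]

theorem t9_533_6 : jobs 8 S9 b8_533 j9_533_6 = true := by decide +kernel

noncomputable def j9_533_7 : List Job := [
  ⟨56, 0x580c26231990ca66339a0d26a359b0da6e37d008242219108a4623920924a259309a4e27c582f140ac48271008c180f0402c0e0501, 0, 32, 0xe01001204001601001a04001e04002204003a01003c01003e01004001, []⟩]

theorem t9_533_7 : jobs 8 S9 b8_533 j9_533_7 = true := by decide +kernel

noncomputable def j9_533_8 : List Job := [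
  ⟨55, 0x4582f140ac48271008c180f0402c0e0501, 0, 24, 0x404000804000c04000e04001204001604001a04001e04002201002604002a04002e04, []⟩]

theorem t9_533_8 : jobs 8 S9 b8_533 j9_533_8 = true := by decide +kernel

noncomputable def j9_533_9 : List Job := [
  ⟨54, 0x580c26231990ca66339a0d26a359b0da6e37d008242219108a4623920924a259309a4e27c582f140ac48271008c180f0402c0e0501, 0, 42, 0x404000804000c04000e04001204001601001a04001e04002204002604002a04002e04004a01004c01004e01005001005201005401, []⟩]

theorem t9_533_9 : jobs 8 S9 b8_533 j9_533_9 = true := by decide +kernel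

noncomputable def j9_533_10 : List Job := [
  ⟨53, 0x5008242219108a4623920924a259309a4e27c582f140ac48271008c180f0402c0e0501, 0, 32, 0x404000804000c04001004001204001601001a04001e01002204002601002a04002e01003204003604003a04003e04, []⟩]

theorem t9_533_10 : jobs 8 S9 b8_533 j9_533_10 = true := by decide +kernel

noncomputable def j9_533_11 : List Job := [
  ⟨52, 0x5008242219108a4623920924a259309a4e27c582f140ac48271008c180f0402c0e0501, 0, 32, 0x1204001604001a04001e01002204002604002a04002e01, []⟩]

theorem t9_533_11 : jobs 8 S9 b8_533 j9_533_11 = true := by decide +kernel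

noncomputable def j9_533_12 : List Job := [
  ⟨51, 0x5008242219108a4623920924a259309a4e27c4427100940e0501, 0, 16, 0x204000604000a04000e04001204001604001a04001e04, []⟩]

theorem t9_533_12 : jobs 8 S9 b8_533 j9_533_12 = true := by decide +kernel

noncomputable def j9_533_13 : List Job := [
  ⟨50, 0x5008242219108a4623920924a259309a4e27c4427100940e0501, 0, 16, 0x204000604000a04000e04001204001604001a04001e04, []⟩]

theorem t9_533_13 : jobs 8 S9 b8_533 j9_533_13 = true := by decide +kernel

noncomputable def j9_533_14 : List Job := [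
  ⟨49, 0x44e25118840e0501, 0, 10, 0x204000804, []⟩]

theorem t9_533_14 : jobs 8 S9 b8_533 j9_533_14 = true := by decide +kernel

noncomputable def j9_533_15 : List Job := [
  ⟨48, 0x540a25229950aa562b960b25a2d970ba5e2fd008242219108a4623920924a259309a4e27c4e25118840e0501, 0, 14, 0x204000804, []⟩]

theorem t9_533_15 : jobs 8 S9 b8_533 j9_533_15 = true := by decide +kernel

noncomputable def j9_533_16 : List Job := [
  ⟨47, 0x44e25118840e0501, 0, 10, 0x204000804, []⟩]

theorem t9_533_16 : jobs 8 S9 b8_533 j9_533_16 = true := by decide +kernel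

noncomputable def j9_533_17 : List Job := [
  ⟨46, 0x540a25229950aa562b960b25a2d970ba5e2fd008242219108a4623920924a259309a4e27c4e25118840e0501, 0, 20, 0x204000804, []⟩]

theorem t9_533_17 : jobs 8 S9 b8_533 j9_533_17 = true := by decide +kernel

noncomputable def j9_533_18 : List Job := [
  ⟨45, 0x44e25118840e0501, 0, 10, 0x204000804, []⟩]

theorem t9_533_18 : jobs 8 S9 b8_533 j9_533_18 = true := by decide +kernel

noncomputable def j9_533_19 : List Job := [
  ⟨44, 0x540a25229950aa562b960b25a2d970ba5e2fd008242219108a4623920924a259309a4e27c4e25118840e0501, 0, 13, 0x204000804001801, []⟩]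

theorem t9_533_19 : jobs 8 S9 b8_533 j9_533_19 = true := by decide +kernel

noncomputable def j9_533_20 : List Job := [
  ⟨43, 0x44e25118840e0501, 0, 10, 0x204000804, []⟩]

theorem t9_533_20 : jobs 8 S9 b8_533 j9_533_20 = true := by decide +kernel

noncomputable def j9_533_21 : List Job := [
  ⟨42, 0x540a25229950aa562b960b25a2d970ba5e2fd008242219108a4623920924a259309a4e27c4e25118840e0501, 0, 13, 0x204000804001801, []⟩]

theorem t9_533_21 : jobs 8 S9 b8_533 j9_533_21 = true := by decide +kernel

noncomputable def j9_533_22 : List Job := [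
  ⟨41, 0x448271008c0e0501, 0, 12, 0x202000602000a02000e02001402001802, []⟩]

theorem t9_533_22 : jobs 8 S9 b8_533 j9_533_22 = true := by decide +kernel

noncomputable def j9_533_23 : List Job := [
  ⟨40, 0x448271008c0e0501, 0, 12, 0x202000602000a02000e02001402001802, []⟩]

theorem t9_533_23 : jobs 8 S9 b8_533 j9_533_23 = true := by decide +kernel

noncomputable def j9_533_24 : List Job := [
  ⟨39, 0x44e25118840e0501, 0, 9, 0x202000802, []⟩]

theorem t9_533_24 : jobs 8 S9 b8_533 j9_533_24 = true := by decide +kernel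

noncomputable def j9_533_25 : List Job := [
  ⟨38, 0x44e25118840e0501, 0, 10, 0x202000802, []⟩]

theorem t9_533_25 : jobs 8 S9 b8_533 j9_533_25 = true := by decide +kernel

noncomputable def j9_533_26 : List Job := [
  ⟨37, 0x44e25118840e0501, 0, 11, 0x202000802, []⟩]

theorem t9_533_26 : jobs 8 S9 b8_533 j9_533_26 = true := by decide +kernel

noncomputable def j9_533_27 : List Job := [
  ⟨36, 0x44e25118840e0501, 0, 16, 0x202000802, []⟩]

theorem t9_533_27 : jobs 8 S9 b8_533 j9_533_27 = true := by decide +kernel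

noncomputable def j9_533_28 : List Job := [
  ⟨35, 0x44e25118840e0501, 0, 10, 0x202000802, []⟩]

theorem t9_533_28 : jobs 8 S9 b8_533 j9_533_28 = true := by decide +kernel

noncomputable def j9_533_29 : List Job := [
  ⟨34, 0x44e25118840e0501, 0, 10, 0x202000802, []⟩]

theorem t9_533_29 : jobs 8 S9 b8_533 j9_533_29 = true := by decide +kernel

noncomputable def j9_533_30 : List Job := [
  ⟨33, 0x5c0e272399d0ea763b9e0f27a3d9f0fa7e3fd008242219108a4623920924a259309a4e27c6437180d40e0501, 0, 24, 0x1a04001e04002204002604002c04003004, []⟩]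

theorem t9_533_30 : jobs 8 S9 b8_533 j9_533_30 = true := by decide +kernel

noncomputable def j9_533_31 : List Job := [
  ⟨32, 0x5c0e272399d0ea763b9e0f27a3d9f0fa7e3fd008242219108a4623920924a259309a4e27c6437180d40e0501, 0, 24, 0x1a04001e04002204002604002c04003004, []⟩]

theorem t9_533_31 : jobs 8 S9 b8_533 j9_533_31 = true := by decide +kernel

noncomputable def j9_533_32 : List Job := [
  ⟨31, 0x44e25118840e0501, 0, 16, 0x1204001804, []⟩]

theorem t9_533_32 : jobs 8 S9 b8_533 j9_533_32 = true := by decide +kernel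

noncomputable def j9_533_33 : List Job := [
  ⟨30, 0x5c0e272399d0ea763b9e0f27a3d9f0fa7e3fd80c26231990ca66339a0d26a359b0da6e37d40a25229950aa562b960b25a2d970ba5e2fd008242219108a4623920924a259309a4e27c4e25118840e0501, 0, 20, 0x1a04002004, []⟩]

theorem t9_533_33 : jobs 8 S9 b8_533 j9_533_33 = true := by decide +kernel

noncomputable def j9_533_34 : List Job := [
  ⟨29, 0x44e25118840e0501, 0, 16, 0x1204001804, []⟩]

theorem t9_533_34 : jobs 8 S9 b8_533 j9_533_34 = true := by decide +kernel

noncomputable def j9_533_35 : List Job := [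
  ⟨28, 0x5c0e272399d0ea763b9e0f27a3d9f0fa7e3fd80c26231990ca66339a0d26a359b0da6e37d40a25229950aa562b960b25a2d970ba5e2fd008242219108a4623920924a259309a4e27c4e25118840e0501, 0, 28, 0x1e01002a04003004, []⟩]

theorem t9_533_35 : jobs 8 S9 b8_533 j9_533_35 = true := by decide +kernel

noncomputable def j9_533_36 : List Job := [
  ⟨27, 0x540a25229950aa562b960b25a2d970ba5e2fd008242219108a4623920924a259309a4e27c4e25118840e0501, 0, 20, 0x1604001c04, []⟩]

theorem t9_533_36 : jobs 8 S9 b8_533 j9_533_36 = true := by decide +kernel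

noncomputable def j9_533_37 : List Job := [
  ⟨26, 0x540a25229950aa562b960b25a2d970ba5e2fd008242219108a4623920924a259309a4e27c4e25118840e0501, 0, 20, 0x1604001c04, []⟩]

theorem t9_533_37 : jobs 8 S9 b8_533 j9_533_37 = true := by decide +kernel

noncomputable def j9_533_38 : List Job := [
  ⟨25, 0x4743f1c0f40e0501, 0, 10, 0x0, []⟩]

theorem t9_533_38 : jobs 8 S9 b8_533 j9_533_38 = true := by decide +kernel

noncomputable def j9_533_39 : List Job := [
  ⟨24, 0x540a25229950aa562b960b25a2d970ba5e2fd008242219108a4623920924a259309a4e27c783f1c0ec0e0501, 0, 10, 0x0, []⟩]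

theorem t9_533_39 : jobs 8 S9 b8_533 j9_533_39 = true := by decide +kernel

noncomputable def j9_533_40 : List Job := [
  ⟨23, 0x5008242219108a4623920924a259309a4e27c783f1c0ec0e0501, 0, 8, 0x0, []⟩]

theorem t9_533_40 : jobs 8 S9 b8_533 j9_533_40 = true := by decide +kernel

noncomputable def j9_533_41 : List Job := [
  ⟨22, 0x45e2d158a40e0501, 0, 5, 0x407, []⟩]

theorem t9_533_41 : jobs 8 S9 b8_533 j9_533_41 = true := by decide +kernel

noncomputable def j9_533_42 : List Job := [
  ⟨21, 0x540a25229950aa562b960b25a2d970ba5e2fd008242219108a4623920924a259309a4e27c5e2d158a40e0501, 0, 13, 0x407, []⟩]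

theorem t9_533_42 : jobs 8 S9 b8_533 j9_533_42 = true := by decide +kernel

noncomputable def j9_533_43 : List Job := [
  ⟨20, 0x45e2d158a40e0501, 0, 5, 0x407, []⟩]

theorem t9_533_43 : jobs 8 S9 b8_533 j9_533_43 = true := by decide +kernel

noncomputable def j9_533_44 : List Job := [
  ⟨19, 0x540a25229950aa562b960b25a2d970ba5e2fd008242219108a4623920924a259309a4e27c5e2d158a40e0501, 0, 11, 0x407, []⟩]

theorem t9_533_44 : jobs 8 S9 b8_533 j9_533_44 = true := by decide +kernel

noncomputable def j9_533_45 : List Job := [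
  ⟨18, 0x5008242219108a4623920924a259309a4e27c743d1c0fc542d140bc2e15098440e0501, 0, 20, 0x1214001410001604001811001c10002011002201002401, []⟩]

theorem t9_533_45 : jobs 8 S9 b8_533 j9_533_45 = true := by decide +kernel

noncomputable def j9_533_46 : List Job := [
  ⟨17, 0x42e15098440e0501, 0, 5, 0x0, []⟩]

theorem t9_533_46 : jobs 8 S9 b8_533 j9_533_46 = true := by decide +kernel

noncomputable def j9_533_47 : List Job := [
  ⟨16, 0x540a25229950aa562b960b25a2d970ba5e2fd008242219108a4623920924a259309a4e27c2e15098440e0501, 0, 8, 0xc01000e01, []⟩]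

theorem t9_533_47 : jobs 8 S9 b8_533 j9_533_47 = true := by decide +kernel

noncomputable def j9_533_48 : List Job := [
  ⟨15, 0x42e15098440e0501, 0, 5, 0x0, []⟩]

theorem t9_533_48 : jobs 8 S9 b8_533 j9_533_48 = true := by decide +kernel

noncomputable def j9_533_49 : List Job := [
  ⟨14, 0x540a25229950aa562b960b25a2d970ba5e2fd008242219108a4623920924a259309a4e27c2e15098440e0501, 0, 13, 0x1801, []⟩]

theorem t9_533_49 : jobs 8 S9 b8_533 j9_533_49 = true := by decide +kernel

noncomputable def j9_533_50 : List Job := [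
  ⟨13, 0x4743f1c0f40e0501, 0, 10, 0x0, []⟩]

theorem t9_533_50 : jobs 8 S9 b8_533 j9_533_50 = true := by decide +kernel

noncomputable def j9_533_51 : List Job := [
  ⟨12, 0x540a25229950aa562b960b25a2d970ba5e2fd008242219108a4623920924a259309a4e27c783f1c0ec0e0501, 0, 10, 0x0, []⟩]

theorem t9_533_51 : jobs 8 S9 b8_533 j9_533_51 = true := by decide +kernel

noncomputable def j9_533_52 : List Job := [
  ⟨11, 0x45e2d158a40e0501, 0, 5, 0x407, []⟩]

theorem t9_533_52 : jobs 8 S9 b8_533 j9_533_52 = true := by decide +kernel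

noncomputable def j9_533_53 : List Job := [
  ⟨10, 0x540a25229950aa562b960b25a2d970ba5e2fd008242219108a4623920924a259309a4e27c5e2d158a40e0501, 0, 11, 0x407, []⟩]

theorem t9_533_53 : jobs 8 S9 b8_533 j9_533_53 = true := by decide +kernel

noncomputable def j9_533_54 : List Job := [
  ⟨9, 0x45e2d158a40e0501, 0, 5, 0x407, []⟩]

theorem t9_533_54 : jobs 8 S9 b8_533 j9_533_54 = true := by decide +kernel

noncomputable def j9_533_55 : List Job := [
  ⟨8, 0x540a25229950aa562b960b25a2d970ba5e2fd008242219108a4623920924a259309a4e27c5e2d158a40e0501, 0, 14, 0x407, []⟩]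

theorem t9_533_55 : jobs 8 S9 b8_533 j9_533_55 = true := by decide +kernel

noncomputable def j9_533_56 : List Job := [
  ⟨7, 0x5008242219108a4623920924a259309a4e27c743d1c0fc542d140bc2e15098440e0501, 0, 20, 0x1214001410001604001811001c10002011002201002401002801, []⟩]

theorem t9_533_56 : jobs 8 S9 b8_533 j9_533_56 = true := by decide +kernel

noncomputable def j9_533_57 : List Job := [
  ⟨6, 0x42e15098440e0501, 0, 6, 0x0, []⟩]

theorem t9_533_57 : jobs 8 S9 b8_533 j9_533_57 = true := by decide +kernel

noncomputable def j9_533_58 : List Job := [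
  ⟨5, 0x540a25229950aa562b960b25a2d970ba5e2fd008242219108a4623920924a259309a4e27c2e15098440e0501, 0, 9, 0xe01001001, []⟩]

theorem t9_533_58 : jobs 8 S9 b8_533 j9_533_58 = true := by decide +kernel

noncomputable def j9_533_59 : List Job := [
  ⟨4, 0x42e15098440e0501, 0, 6, 0x0, []⟩]

theorem t9_533_59 : jobs 8 S9 b8_533 j9_533_59 = true := by decide +kernel

noncomputable def j9_533_60 : List Job := [
  ⟨3, 0x540a25229950aa562b960b25a2d970ba5e2fd008242219108a4623920924a259309a4e27c2e15098440e0501, 0, 14, 0x1a01, []⟩]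

theorem t9_533_60 : jobs 8 S9 b8_533 j9_533_60 = true := by decide +kernel

noncomputable def j9_533_61 : List Job := [
  ⟨2, 0x4783f1c0ec0e0501, 0, 8, 0x0, []⟩]

theorem t9_533_61 : jobs 8 S9 b8_533 j9_533_61 = true := by decide +kernel

noncomputable def j9_533_62 : List Job := [
  ⟨1, 0x4783f1c0ec0e0501, 0, 6, 0x0, []⟩]

theorem t9_533_62 : jobs 8 S9 b8_533 j9_533_62 = true := by decide +kernel

noncomputable def j9_533_63 : List Job := [
  ⟨0, 0x45e2d158a40e0501, 0, 6, 0x405, []⟩]

theorem t9_533_63 : jobs 8 S9 b8_533 j9_533_63 = true := by decide +kernel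

theorem d9_533 : Dn 8 S9 b8_533 := dn_of (Js := j9_533_0 ++ (j9_533_1 ++ (j9_533_2 ++ (j9_533_3 ++ (j9_533_4 ++ (j9_533_5 ++ (j9_533_6 ++ (j9_533_7 ++ (j9_533_8 ++ (j9_533_9 ++ (j9_533_10 ++ (j9_533_11 ++ (j9_533_12 ++ (j9_533_13 ++ (j9_533_14 ++ (j9_533_15 ++ (j9_533_16 ++ (j9_533_17 ++ (j9_533_18 ++ (j9_533_19 ++ (j9_533_20 ++ (j9_533_21 ++ (j9_533_22 ++ (j9_533_23 ++ (j9_533_24 ++ (j9_533_25 ++ (j9_533_26 ++ (j9_533_27 ++ (j9_533_28 ++ (j9_533_29 ++ (j9_533_30 ++ (j9_533_31 ++ (j9_533_32 ++ (j9_533_33 ++ (j9_533_34 ++ (j9_533_35 ++ (j9_533_36 ++ (j9_533_37 ++ (j9_533_38 ++ (j9_533_39 ++ (j9_533_40 ++ (j9_533_41 ++ (j9_533_42 ++ (j9_533_43 ++ (j9_533_44 ++ (j9_533_45 ++ (j9_533_46 ++ (j9_533_47 ++ (j9_533_48 ++ (j9_533_49 ++ (j9_533_50 ++ (j9_533_51 ++ (j9_533_52 ++ (j9_533_53 ++ (j9_533_54 ++ (j9_533_55 ++ (j9_533_56 ++ (j9_533_57 ++ (j9_533_58 ++ (j9_533_59 ++ (j9_533_60 ++ (j9_533_61 ++ (j9_533_62 ++ (j9_533_63 ++ []))))))))))))))))))))))))))))))))))))))))))))))))))))))))))))))))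
  (jobs_append t9_533_0 <| jobs_append t9_533_1 <| jobs_append t9_533_2 <| jobs_append t9_533_3 <| jobs_append t9_533_4 <| jobs_append t9_533_5 <| jobs_append t9_533_6 <| jobs_append t9_533_7 <| jobs_append t9_533_8 <| jobs_append t9_533_9 <| jobs_append t9_533_10 <| jobs_append t9_533_11 <| jobs_append t9_533_12 <| jobs_append t9_533_13 <| jobs_append t9_533_14 <| jobs_append t9_533_15 <| jobs_append t9_533_16 <| jobs_append t9_533_17 <| jobs_append t9_533_18 <| jobs_append t9_533_19 <| jobs_append t9_533_20 <| jobs_append t9_533_21 <| jobs_append t9_533_22 <| jobs_append t9_533_23 <| jobs_append t9_533_24 <| jobs_append t9_533_25 <| jobs_append t9_533_26 <| jobs_append t9_533_27 <| jobs_append t9_533_28 <| jobs_append t9_533_29 <| jobs_append t9_533_30 <| jobs_append t9_533_31 <| jobs_append t9_533_32 <| jobs_append t9_533_33 <| jobs_append t9_533_34 <| jobs_append t9_533_35 <| jobs_append t9_533_36 <| jobs_append t9_533_37 <| jobs_append t9_533_38 <| jobs_append t9_533_39 <| jobs_append t9_533_40 <| jobs_append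 t9_533_41 <| jobs_append t9_533_42 <| jobs_append t9_533_43 <| jobs_append t9_533_44 <| jobs_append t9_533_45 <| jobs_append t9_533_46 <| jobs_append t9_533_47 <| jobs_append t9_533_48 <| jobs_append t9_533_49 <| jobs_append t9_533_50 <| jobs_append t9_533_51 <| jobs_append t9_533_52 <| jobs_append t9_533_53 <| jobs_append t9_533_54 <| jobs_append t9_533_55 <| jobs_append t9_533_56 <| jobs_append t9_533_57 <| jobs_append t9_533_58 <| jobs_append t9_533_59 <| jobs_append t9_533_60 <| jobs_append t9_533_61 <| jobs_append t9_533_62 <| jobs_append t9_533_63 <| List.forall_mem_nil _) (by decide +kernel)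

noncomputable def j9_534_0 : List Job := [
  ⟨63, 0x4743d1c0fc542d140bc2e15098440e0501, 0, 8, 0x204000410000604000811000a10000c10000e10001011, []⟩]

theorem t9_534_0 : jobs 8 S9 b8_534 j9_534_0 = true := by decide +kernel

noncomputable def j9_534_1 : List Job := [
  ⟨62, 0x42e15098440e0501, 0, 2, 0x201000401, []⟩]

theorem t9_534_1 : jobs 8 S9 b8_534 j9_534_1 = true := by decide +kernel

noncomputable def j9_534_2 : List Job := [
  ⟨61, 0x42e15098440e0501, 0, 2, 0x0, []⟩]

theorem t9_534_2 : jobs 8 S9 b8_534 j9_534_2 = true := by decide +kernel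

noncomputable def j9_534_3 : List Job := [
  ⟨60, 0x42e15098440e0501, 0, 4, 0x0, []⟩]

theorem t9_534_3 : jobs 8 S9 b8_534 j9_534_3 = true := by decide +kernel

noncomputable def j9_534_4 : List Job := [
  ⟨59, 0x4743d1c0fc542d140bc2e15098440e0501, 0, 10, 0x414000815000c15000e01001001, []⟩]

theorem t9_534_4 : jobs 8 S9 b8_534 j9_534_4 = true := by decide +kernel

noncomputable def j9_534_5 : List Job := [
  ⟨58, 0x4743d1c0fc542d140bc2e15098440e0501, 0, 10, 0x410000811000c11001201001401, []⟩]

theorem t9_534_5 : jobs 8 S9 b8_534 j9_534_5 = true := by decide +kernel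

noncomputable def j9_534_6 : List Job := [
  ⟨57, 0x42e15098440e0501, 0, 2, 0x0, []⟩]

theorem t9_534_6 : jobs 8 S9 b8_534 j9_534_6 = true := by decide +kernel

noncomputable def j9_534_7 : List Job := [
  ⟨56, 0x42e15098440e0501, 0, 6, 0x201000401000601000801000a01000c01, []⟩]

theorem t9_534_7 : jobs 8 S9 b8_534 j9_534_7 = true := by decide +kernel

noncomputable def j9_534_8 : List Job := [
  ⟨55, 0x42e15098440e0501, 0, 7, 0xc01000e01, []⟩]

theorem t9_534_8 : jobs 8 S9 b8_534 j9_534_8 = true := by decide +kernel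

noncomputable def j9_534_9 : List Job := [
  ⟨54, 0x42e15098440e0501, 0, 8, 0x0, []⟩]

theorem t9_534_9 : jobs 8 S9 b8_534 j9_534_9 = true := by decide +kernel

noncomputable def j9_534_10 : List Job := [
  ⟨53, 0x42e15098440e0501, 0, 16, 0x201000401000601000801001a01001c01001e01002001, []⟩]

theorem t9_534_10 : jobs 8 S9 b8_534 j9_534_10 = true := by decide +kernel

noncomputable def j9_534_11 : List Job := [
  ⟨52, 0x42e15098440e0501, 0, 17, 0x201000401000601000801, []⟩]

theorem t9_534_11 : jobs 8 S9 b8_534 j9_534_11 = true := by decide +kernel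

noncomputable def j9_534_12 : List Job := [
  ⟨51, 0x4783f1c0ec582f140ac2e15098440e0501, 0, 18, 0x414000815000c15, []⟩]

theorem t9_534_12 : jobs 8 S9 b8_534 j9_534_12 = true := by decide +kernel

noncomputable def j9_534_13 : List Job := [
  ⟨50, 0x4743d1c0fc542d140bc2e15098440e0501, 0, 18, 0x410000811000c11, []⟩]

theorem t9_534_13 : jobs 8 S9 b8_534 j9_534_13 = true := by decide +kernel

noncomputable def j9_534_14 : List Job := [
  ⟨48, 0x42e15098440e0501, 0, 2, 0x201000401, []⟩]

theorem t9_534_14 : jobs 8 S9 b8_534 j9_534_14 = true := by decide +kernel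

noncomputable def j9_534_15 : List Job := [
  ⟨47, 0x42e15098440e0501, 0, 2, 0x201000401, []⟩]

theorem t9_534_15 : jobs 8 S9 b8_534 j9_534_15 = true := by decide +kernel

noncomputable def j9_534_16 : List Job := [
  ⟨46, 0x46837180cc48271008c2e15098440e0501, 0, 8, 0x215000404000614000815000a15000c04000e14001014, []⟩]

theorem t9_534_16 : jobs 8 S9 b8_534 j9_534_16 = true := by decide +kernel

noncomputable def j9_534_17 : List Job := [
  ⟨45, 0x46837180cc48271008c2e15098440e0501, 0, 10, 0x601000801000a12000e13001212, []⟩]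

theorem t9_534_17 : jobs 8 S9 b8_534 j9_534_17 = true := by decide +kernel

noncomputable def j9_534_18 : List Job := [
  ⟨44, 0x46837180cc48271008c2e15098440e0501, 0, 16, 0x214000615000a15001a01001e01, []⟩]

theorem t9_534_18 : jobs 8 S9 b8_534 j9_534_18 = true := by decide +kernel

noncomputable def j9_534_19 : List Job := [
  ⟨42, 0x42e15098440e0501, 0, 2, 0x201000401, []⟩]

theorem t9_534_19 : jobs 8 S9 b8_534 j9_534_19 = true := by decide +kernel

noncomputable def j9_534_20 : List Job := [
  ⟨41, 0x42e15098440e0501, 0, 2, 0x201000401, []⟩]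

theorem t9_534_20 : jobs 8 S9 b8_534 j9_534_20 = true := by decide +kernel

noncomputable def j9_534_21 : List Job := [
  ⟨40, 0x46837180cc48271008c2e15098440e0501, 0, 8, 0x210000404000611000804000a10000c10000e11001010, []⟩]

theorem t9_534_21 : jobs 8 S9 b8_534 j9_534_21 = true := by decide +kernel

noncomputable def j9_534_22 : List Job := [
  ⟨39, 0x46837180cc48271008c2e15098440e0501, 0, 10, 0x601000801000a16000e17001217, []⟩]

theorem t9_534_22 : jobs 8 S9 b8_534 j9_534_22 = true := by decide +kernel

noncomputable def j9_534_23 : List Job := [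
  ⟨38, 0x46837180cc48271008c2e15098440e0501, 0, 16, 0x210000611000a11001a01001e01, []⟩]

theorem t9_534_23 : jobs 8 S9 b8_534 j9_534_23 = true := by decide +kernel

noncomputable def j9_534_24 : List Job := [
  ⟨37, 0x5008242219108a4623920924a259309a4e27c341f0c0740e0501, 0, 16, 0x0, []⟩]

theorem t9_534_24 : jobs 8 S9 b8_534 j9_534_24 = true := by decide +kernel

noncomputable def j9_534_25 : List Job := [
  ⟨36, 0x5008242219108a4623920924a259309a4e27c341f0c0740e0501, 0, 16, 0x0, []⟩]

theorem t9_534_25 : jobs 8 S9 b8_534 j9_534_25 = true := by decide +kernel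

noncomputable def j9_534_26 : List Job := [
  ⟨35, 0x4180f0402c0e0501, 0, 10, 0x0, []⟩]

theorem t9_534_26 : jobs 8 S9 b8_534 j9_534_26 = true := by decide +kernel

noncomputable def j9_534_27 : List Job := [
  ⟨34, 0x540a25229950aa562b960b25a2d970ba5e2fd008242219108a4623920924a259309a4e27c140f040340e0501, 0, 14, 0x0, []⟩]

theorem t9_534_27 : jobs 8 S9 b8_534 j9_534_27 = true := by decide +kernel

noncomputable def j9_534_28 : List Job := [
  ⟨33, 0x4180f0402c0e0501, 0, 10, 0x0, []⟩]

theorem t9_534_28 : jobs 8 S9 b8_534 j9_534_28 = true := by decide +kernel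

noncomputable def j9_534_29 : List Job := [
  ⟨32, 0x540a25229950aa562b960b25a2d970ba5e2fd008242219108a4623920924a259309a4e27c140f040340e0501, 0, 20, 0x0, []⟩]

theorem t9_534_29 : jobs 8 S9 b8_534 j9_534_29 = true := by decide +kernel

noncomputable def j9_534_30 : List Job := [
  ⟨31, 0x4180f0402c0e0501, 0, 10, 0x0, []⟩]

theorem t9_534_30 : jobs 8 S9 b8_534 j9_534_30 = true := by decide +kernel

noncomputable def j9_534_31 : List Job := [
  ⟨30, 0x540a25229950aa562b960b25a2d970ba5e2fd008242219108a4623920924a259309a4e27c140f040340e0501, 0, 10, 0x0, []⟩]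

theorem t9_534_31 : jobs 8 S9 b8_534 j9_534_31 = true := by decide +kernel

noncomputable def j9_534_32 : List Job := [
  ⟨29, 0x4180f0402c0e0501, 0, 10, 0x0, []⟩]

theorem t9_534_32 : jobs 8 S9 b8_534 j9_534_32 = true := by decide +kernel

noncomputable def j9_534_33 : List Job := [
  ⟨28, 0x540a25229950aa562b960b25a2d970ba5e2fd008242219108a4623920924a259309a4e27c140f040340e0501, 0, 10, 0x0, []⟩]

theorem t9_534_33 : jobs 8 S9 b8_534 j9_534_33 = true := by decide +kernel

noncomputable def j9_534_34 : List Job := [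
  ⟨27, 0x4341f0c0740e0501, 0, 12, 0x0, []⟩]

theorem t9_534_34 : jobs 8 S9 b8_534 j9_534_34 = true := by decide +kernel

noncomputable def j9_534_35 : List Job := [
  ⟨26, 0x4341f0c0740e0501, 0, 12, 0x0, []⟩]

theorem t9_534_35 : jobs 8 S9 b8_534 j9_534_35 = true := by decide +kernel

noncomputable def j9_534_36 : List Job := [
  ⟨25, 0x4180f0402c0e0501, 0, 8, 0x0, []⟩]

theorem t9_534_36 : jobs 8 S9 b8_534 j9_534_36 = true := by decide +kernel

noncomputable def j9_534_37 : List Job := [
  ⟨24, 0x4140f040340e0501, 0, 10, 0x0, []⟩]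

theorem t9_534_37 : jobs 8 S9 b8_534 j9_534_37 = true := by decide +kernel

noncomputable def j9_534_38 : List Job := [
  ⟨23, 0x4180f0402c0e0501, 0, 8, 0x0, []⟩]

theorem t9_534_38 : jobs 8 S9 b8_534 j9_534_38 = true := by decide +kernel

noncomputable def j9_534_39 : List Job := [
  ⟨22, 0x4140f040340e0501, 0, 16, 0x0, []⟩]

theorem t9_534_39 : jobs 8 S9 b8_534 j9_534_39 = true := by decide +kernel

noncomputable def j9_534_40 : List Job := [
  ⟨21, 0x4140f040340e0501, 0, 10, 0x0, []⟩]

theorem t9_534_40 : jobs 8 S9 b8_534 j9_534_40 = true := by decide +kernel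

noncomputable def j9_534_41 : List Job := [
  ⟨20, 0x4140f040340e0501, 0, 10, 0x0, []⟩]

theorem t9_534_41 : jobs 8 S9 b8_534 j9_534_41 = true := by decide +kernel

noncomputable def j9_534_42 : List Job := [
  ⟨19, 0x5c0e272399d0ea763b9e0f27a3d9f0fa7e3fd008242219108a4623920924a259309a4e27c341f0c0740e0501, 0, 12, 0x0, []⟩]

theorem t9_534_42 : jobs 8 S9 b8_534 j9_534_42 = true := by decide +kernel

noncomputable def j9_534_43 : List Job := [
  ⟨18, 0x5c0e272399d0ea763b9e0f27a3d9f0fa7e3fd008242219108a4623920924a259309a4e27c341f0c0740e0501, 0, 12, 0x0, []⟩]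

theorem t9_534_43 : jobs 8 S9 b8_534 j9_534_43 = true := by decide +kernel

noncomputable def j9_534_44 : List Job := [
  ⟨17, 0x4180f0402c0e0501, 0, 8, 0x0, []⟩]

theorem t9_534_44 : jobs 8 S9 b8_534 j9_534_44 = true := by decide +kernel

noncomputable def j9_534_45 : List Job := [
  ⟨16, 0x5c0e272399d0ea763b9e0f27a3d9f0fa7e3fd80c26231990ca66339a0d26a359b0da6e37d40a25229950aa562b960b25a2d970ba5e2fd008242219108a4623920924a259309a4e27c140f040340e0501, 0, 10, 0x0, []⟩]

theorem t9_534_45 : jobs 8 S9 b8_534 j9_534_45 = true := by decide +kernel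

noncomputable def j9_534_46 : List Job := [
  ⟨15, 0x4180f0402c0e0501, 0, 8, 0x0, []⟩]

theorem t9_534_46 : jobs 8 S9 b8_534 j9_534_46 = true := by decide +kernel

noncomputable def j9_534_47 : List Job := [
  ⟨14, 0x5c0e272399d0ea763b9e0f27a3d9f0fa7e3fd80c26231990ca66339a0d26a359b0da6e37d40a25229950aa562b960b25a2d970ba5e2fd008242219108a4623920924a259309a4e27c140f040340e0501, 0, 16, 0x0, []⟩]

theorem t9_534_47 : jobs 8 S9 b8_534 j9_534_47 = true := by decide +kernel

noncomputable def j9_534_48 : List Job := [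
  ⟨13, 0x540a25229950aa562b960b25a2d970ba5e2fd008242219108a4623920924a259309a4e27c140f040340e0501, 0, 10, 0x0, []⟩]

theorem t9_534_48 : jobs 8 S9 b8_534 j9_534_48 = true := by decide +kernel

noncomputable def j9_534_49 : List Job := [
  ⟨12, 0x540a25229950aa562b960b25a2d970ba5e2fd008242219108a4623920924a259309a4e27c140f040340e0501, 0, 10, 0x0, []⟩]

theorem t9_534_49 : jobs 8 S9 b8_534 j9_534_49 = true := by decide +kernel

noncomputable def j9_534_50 : List Job := [
  ⟨11, 0x4703a1e0fc0e0501, 0, 12, 0x0, []⟩]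

theorem t9_534_50 : jobs 8 S9 b8_534 j9_534_50 = true := by decide +kernel

noncomputable def j9_534_51 : List Job := [
  ⟨10, 0x580c26231990ca66339a0d26a359b0da6e37d008242219108a4623920924a259309a4e27c703a1e0fc0e0501, 0, 12, 0x0, []⟩]

theorem t9_534_51 : jobs 8 S9 b8_534 j9_534_51 = true := by decide +kernel

noncomputable def j9_534_52 : List Job := [
  ⟨9, 0x4703a1e0fc0e0501, 0, 12, 0x0, []⟩]

theorem t9_534_52 : jobs 8 S9 b8_534 j9_534_52 = true := by decide +kernel

noncomputable def j9_534_53 : List Job := [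
  ⟨8, 0x580c26231990ca66339a0d26a359b0da6e37d008242219108a4623920924a259309a4e27c703a1e0fc0e0501, 0, 12, 0x0, []⟩]

theorem t9_534_53 : jobs 8 S9 b8_534 j9_534_53 = true := by decide +kernel

noncomputable def j9_534_54 : List Job := [
  ⟨7, 0x5008242219108a4623920924a259309a4e27c703a1e0fc0e0501, 0, 16, 0x0, []⟩]

theorem t9_534_54 : jobs 8 S9 b8_534 j9_534_54 = true := by decide +kernel

noncomputable def j9_534_55 : List Job := [
  ⟨6, 0x5008242219108a4623920924a259309a4e27c703a1e0fc0e0501, 0, 16, 0x0, []⟩]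

theorem t9_534_55 : jobs 8 S9 b8_534 j9_534_55 = true := by decide +kernel

noncomputable def j9_534_56 : List Job := [
  ⟨5, 0x4582f140ac0e0501, 0, 12, 0x0, []⟩]

theorem t9_534_56 : jobs 8 S9 b8_534 j9_534_56 = true := by decide +kernel

noncomputable def j9_534_57 : List Job := [
  ⟨4, 0x580c26231990ca66339a0d26a359b0da6e37d008242219108a4623920924a259309a4e27c542f140b40e0501, 0, 16, 0x0, []⟩]

theorem t9_534_57 : jobs 8 S9 b8_534 j9_534_57 = true := by decide +kernel

noncomputable def j9_534_58 : List Job := [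
  ⟨3, 0x4582f140ac0e0501, 0, 12, 0x404000803000c04001003001407001807, []⟩]

theorem t9_534_58 : jobs 8 S9 b8_534 j9_534_58 = true := by decide +kernel

noncomputable def j9_534_59 : List Job := [
  ⟨2, 0x580c26231990ca66339a0d26a359b0da6e37d008242219108a4623920924a259309a4e27c542f140b40e0501, 0, 24, 0x402000805000c02001005001405001805, []⟩]

theorem t9_534_59 : jobs 8 S9 b8_534 j9_534_59 = true := by decide +kernel

noncomputable def j9_534_60 : List Job := [
  ⟨1, 0x5008242219108a4623920924a259309a4e27c542f140b40e0501, 0, 16, 0x402000807000c02001007001402001807001c02002007, []⟩]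

theorem t9_534_60 : jobs 8 S9 b8_534 j9_534_60 = true := by decide +kernel

noncomputable def j9_534_61 : List Job := [
  ⟨0, 0x5008242219108a4623920924a259309a4e27c542f140b40e0501, 0, 16, 0x0, []⟩]

theorem t9_534_61 : jobs 8 S9 b8_534 j9_534_61 = true := by decide +kernel

theorem d9_534 : Dn 8 S9 b8_534 := dn_of (Js := j9_534_0 ++ (j9_534_1 ++ (j9_534_2 ++ (j9_534_3 ++ (j9_534_4 ++ (j9_534_5 ++ (j9_534_6 ++ (j9_534_7 ++ (j9_534_8 ++ (j9_534_9 ++ (j9_534_10 ++ (j9_534_11 ++ (j9_534_12 ++ (j9_534_13 ++ (j9_534_14 ++ (j9_534_15 ++ (j9_534_16 ++ (j9_534_17 ++ (j9_534_18 ++ (j9_534_19 ++ (j9_534_20 ++ (j9_534_21 ++ (j9_534_22 ++ (j9_534_23 ++ (j9_534_24 ++ (j9_534_25 ++ (j9_534_26 ++ (j9_534_27 ++ (j9_534_28 ++ (j9_534_29 ++ (j9_534_30 ++ (j9_534_31 ++ (j9_534_32 ++ (j9_534_33 ++ (j9_534_34 ++ (j9_534_35 ++ (j9_534_36 ++ (j9_534_37 ++ (j9_534_38 ++ (j9_534_39 ++ (j9_534_40 ++ (j9_534_41 ++ (j9_534_42 ++ (j9_534_43 ++ (j9_534_44 ++ (j9_534_45 ++ (j9_534_46 ++ (j9_534_47 ++ (j9_534_48 ++ (j9_534_49 ++ (j9_534_50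 ++ (j9_534_51 ++ (j9_534_52 ++ (j9_534_53 ++ (j9_534_54 ++ (j9_534_55 ++ (j9_534_56 ++ (j9_534_57 ++ (j9_534_58 ++ (j9_534_59 ++ (j9_534_60 ++ (j9_534_61 ++ []))))))))))))))))))))))))))))))))))))))))))))))))))))))))))))))
  (jobs_append t9_534_0 <| jobs_append t9_534_1 <| jobs_append t9_534_2 <| jobs_append t9_534_3 <| jobs_append t9_534_4 <| jobs_append t9_534_5 <| jobs_append t9_534_6 <| jobs_append t9_534_7 <| jobs_append t9_534_8 <| jobs_append t9_534_9 <| jobs_append t9_534_10 <| jobs_append t9_534_11 <| jobs_append t9_534_12 <| jobs_append t9_534_13 <| jobs_append t9_534_14 <| jobs_append t9_534_15 <| jobs_append t9_534_16 <| jobs_append t9_534_17 <| jobs_append t9_534_18 <| jobs_append t9_534_19 <| jobs_append t9_534_20 <| jobs_append t9_534_21 <| jobs_append t9_534_22 <| jobs_append t9_534_23 <| jobs_append t9_534_24 <| jobs_append t9_534_25 <| jobs_append t9_534_26 <| jobs_append t9_534_27 <| jobs_append t9_534_28 <| jobs_append t9_534_29 <| jobs_append t9_534_30 <| jobs_append t9_534_31 <| jobs_append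 t9_534_32 <| jobs_append t9_534_33 <| jobs_append t9_534_34 <| jobs_append t9_534_35 <| jobs_append t9_534_36 <| jobs_append t9_534_37 <| jobs_append t9_534_38 <| jobs_append t9_534_39 <| jobs_append t9_534_40 <| jobs_append t9_534_41 <| jobs_append t9_534_42 <| jobs_append t9_534_43 <| jobs_append t9_534_44 <| jobs_append t9_534_45 <| jobs_append t9_534_46 <| jobs_append t9_534_47 <| jobs_append t9_534_48 <| jobs_append t9_534_49 <| jobs_append t9_534_50 <| jobs_append t9_534_51 <| jobs_append t9_534_52 <| jobs_append t9_534_53 <| jobs_append t9_534_54 <| jobs_append t9_534_55 <| jobs_append t9_534_56 <| jobs_append t9_534_57 <| jobs_append t9_534_58 <| jobs_append t9_534_59 <| jobs_append t9_534_60 <| jobs_append t9_534_61 <| List.forall_mem_nil _) (by decide +kernel)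

noncomputable def j9_535_0 : List Job := [
  ⟨62, 0x5008242219108a4623920924a259309a4e27c2e15098440e0501, 0, 8, 0x0, []⟩]

theorem t9_535_0 : jobs 8 S9 b8_535 j9_535_0 = true := by decide +kernel

noncomputable def j9_535_1 : List Job := [
  ⟨60, 0x5008242219108a4623920924a259309a4e27c2e15098440e0501, 0, 2, 0x0, []⟩]

theorem t9_535_1 : jobs 8 S9 b8_535 j9_535_1 = true := by decide +kernel

noncomputable def j9_535_2 : List Job := [
  ⟨58, 0x5008242219108a4623920924a259309a4e27c2e15098440e0501, 0, 2, 0x0, []⟩]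

theorem t9_535_2 : jobs 8 S9 b8_535 j9_535_2 = true := by decide +kernel

noncomputable def j9_535_3 : List Job := [
  ⟨56, 0x5008242219108a4623920924a259309a4e27c2e15098440e0501, 0, 2, 0x0, []⟩]

theorem t9_535_3 : jobs 8 S9 b8_535 j9_535_3 = true := by decide +kernel

noncomputable def j9_535_4 : List Job := [
  ⟨55, 0x484462915c8044281542e15098440e0501, 0, 8, 0x210000410000612000802000a11000c11000e02001012, []⟩]

theorem t9_535_4 : jobs 8 S9 b8_535 j9_535_4 = true := by decide +kernel

noncomputable def j9_535_5 : List Job := [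
  ⟨54, 0x5008242219108a4623920924a259309a4e27c88462a15c80422814c2e15098440e0501, 0, 8, 0x215000414000610000811, []⟩]

theorem t9_535_5 : jobs 8 S9 b8_535 j9_535_5 = true := by decide +kernel

noncomputable def j9_535_6 : List Job := [
  ⟨53, 0x48c53221448457201542e15098440e0501, 0, 8, 0x210000411000611000811000a10000c11000e03001003, []⟩]

theorem t9_535_6 : jobs 8 S9 b8_535 j9_535_6 = true := by decide +kernel

noncomputable def j9_535_7 : List Job := [
  ⟨52, 0x5008242219108a4623920924a259309a4e27c8c512214c84552015c2e15098440e0501, 0, 12, 0x210000411000615000814000a10000c11001201001601, []⟩]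

theorem t9_535_7 : jobs 8 S9 b8_535 j9_535_7 = true := by decide +kernel

noncomputable def j9_535_8 : List Job := [
  ⟨51, 0x484462915c8044281542e15098440e0501, 0, 8, 0x212000413000602000803000a13000c12000e10001011, []⟩]

theorem t9_535_8 : jobs 8 S9 b8_535 j9_535_8 = true := by decide +kernel

noncomputable def j9_535_9 : List Job := [
  ⟨50, 0x5008242219108a4623920924a259309a4e27c88462a15c80422814c2e15098440e0501, 0, 8, 0x204000404000611000814, []⟩]

theorem t9_535_9 : jobs 8 S9 b8_535 j9_535_9 = true := by decide +kernel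

noncomputable def j9_535_10 : List Job := [
  ⟨49, 0x48c57221548453201442e15098440e0501, 0, 8, 0x203000413000602000803000a12000c11000e03001002, []⟩]

theorem t9_535_10 : jobs 8 S9 b8_535 j9_535_10 = true := by decide +kernel

noncomputable def j9_535_11 : List Job := [
  ⟨48, 0x5008242219108a4623920924a259309a4e27c8c57221548453201442e15098440e0501, 0, 20, 0x210000404000611000811000c11002201002401, []⟩]

theorem t9_535_11 : jobs 8 S9 b8_535 j9_535_11 = true := by decide +kernel

noncomputable def j9_535_12 : List Job := [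
  ⟨47, 0x42e15098440e0501, 0, 4, 0x201000401000600000801, [(2, ⟨3053, 0x4380670252004c00781030014040808001, 0x18e348982803078040a⟩)]⟩]

theorem t9_535_12 : jobs 8 S9 b8_535 j9_535_12 = true := by decide +kernel

noncomputable def j9_535_13 : List Job := [
  ⟨46, 0x42e15098440e0501, 0, 8, 0x201001001, []⟩]

theorem t9_535_13 : jobs 8 S9 b8_535 j9_535_13 = true := by decide +kernel

noncomputable def j9_535_14 : List Job := [
  ⟨45, 0x42e15098440e0501, 0, 2, 0x201000401, []⟩]

theorem t9_535_14 : jobs 8 S9 b8_535 j9_535_14 = true := by decide +kernel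

noncomputable def j9_535_15 : List Job := [
  ⟨44, 0x42e15098440e0501, 0, 2, 0x201000401, []⟩]

theorem t9_535_15 : jobs 8 S9 b8_535 j9_535_15 = true := by decide +kernel

noncomputable def j9_535_16 : List Job := [
  ⟨43, 0x488462a15c80422814c2e15098440e0501, 0, 8, 0x215000414000604000811000a15000c14000e10001004, []⟩]

theorem t9_535_16 : jobs 8 S9 b8_535 j9_535_16 = true := by decide +kernel

noncomputable def j9_535_17 : List Job := [
  ⟨42, 0x488462a15c80422814c2e15098440e0501, 0, 8, 0x204000405000610000814000a05000c04000e15001010, []⟩]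

theorem t9_535_17 : jobs 8 S9 b8_535 j9_535_17 = true := by decide +kernel

noncomputable def j9_535_18 : List Job := [
  ⟨41, 0x48c512214c84552015c2e15098440e0501, 0, 8, 0x204000405000804000e01001001, []⟩]

theorem t9_535_18 : jobs 8 S9 b8_535 j9_535_18 = true := by decide +kernel

noncomputable def j9_535_19 : List Job := [
  ⟨40, 0x48c57221548453201442e15098440e0501, 0, 15, 0x210000410000810, []⟩]

theorem t9_535_19 : jobs 8 S9 b8_535 j9_535_19 = true := by decide +kernel

noncomputable def j9_535_20 : List Job := [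
  ⟨39, 0x42e15098440e0501, 0, 4, 0x200000401000601000801, [(0, ⟨3052, 0x4a81630040006c00600030010040800001, 0x19e328802c02050040a⟩)]⟩]

theorem t9_535_20 : jobs 8 S9 b8_535 j9_535_20 = true := by decide +kernel

noncomputable def j9_535_21 : List Job := [
  ⟨38, 0x590ca66339a0d26a35d80c262319b0da6e37d20924a259309a4e27d008242219108a4623c2e15098440e0501, 0, 16, 0x400000601000801001801001a00001c01001e01, [(12, ⟨3050, 0x8c016800200013000f010300080102000001, 0x189318802802070040a⟩), (1, ⟨3051, 0x9c006f0128011b010e000301080102000001, 0x198358882c02058040a⟩)]⟩]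

theorem t9_535_21 : jobs 8 S9 b8_535 j9_535_21 = true := by decide +kernel

noncomputable def j9_535_22 : List Job := [
  ⟨37, 0x42e15098440e0501, 0, 6, 0x200000400000601000801000a01000c01, [(1, ⟨3049, 0x5080690046006808701030210040808001, 0x1a0310902602058040a⟩), (0, ⟨3048, 0x5080690246006808701030210000808001, 0x1a0310902602058040a⟩)]⟩]

theorem t9_535_22 : jobs 8 S9 b8_535 j9_535_22 = true := by decide +kernel

noncomputable def j9_535_23 : List Job := [
  ⟨36, 0x520924a259309a4e27d008242219108a4623c2e15098440e0501, 0, 5, 0x201000401000600, [(2, ⟨3045, 0x4801440050006000281030210000800001, 0x190240882402068040a⟩)]⟩]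

theorem t9_535_23 : jobs 8 S9 b8_535 j9_535_23 = true := by decide +kernel

noncomputable def j9_535_24 : List Job := [
  ⟨35, 0x520924a259309a4e27d008242219108a4623c2e15098440e0501, 0, 6, 0x201000401000600000800, [(3, ⟨3044, 0x5880440246044800280030010040808001, 0x1b3240902202068040a⟩), (2, ⟨3043, 0x5881440246044808280030010000808001, 0x1b3240902202068040a⟩)]⟩]

theorem t9_535_24 : jobs 8 S9 b8_535 j9_535_24 = true := by decide +kernel

noncomputable def j9_535_25 : List Job := [
  ⟨34, 0x520924a259309a4e27d008242219108a4623c88462a15c80422814c2e15098440e0501, 0, 10, 0x215000414000614000815001200001401, [(8, ⟨3042, 0x4881470250006000301030210000400001, 0x1912608824020681402⟩)]⟩]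

theorem t9_535_25 : jobs 8 S9 b8_535 j9_535_25 = true := by decide +kernel

noncomputable def j9_535_26 : List Job := [
  ⟨33, 0x520924a259309a4e27d008242219108a4623c88462a15c80422814c2e15098440e0501, 0, 11, 0x210000404000610000815001201001400001600, [(10, ⟨3041, 0x5780430250006c08380030010000408001, 0x1ad220882c020601402⟩), (9, ⟨3040, 0x5781430250046c08380030010040408001, 0x1ad220882c020601402⟩)]⟩]

theorem t9_535_26 : jobs 8 S9 b8_535 j9_535_26 = true := by decide +kernel

noncomputable def j9_535_27 : List Job := [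
  ⟨32, 0x48c53221448457201542e15098440e0501, 0, 8, 0x211000612000c13000e00001001, [(6, ⟨3039, 0x4d81440050006008281030210000800001, 0x196240882402068040a⟩)]⟩]

theorem t9_535_27 : jobs 8 S9 b8_535 j9_535_27 = true := by decide +kernel

noncomputable def j9_535_28 : List Job := [
  ⟨31, 0x48c57221548453201442e15098440e0501, 0, 9, 0x213000612000a12000e00001000001200, [(8, ⟨3037, 0x4e01410040006c08300030010040800001, 0x19a228802c02048040a⟩), (7, ⟨3036, 0x4e00410240006c00300030010000800001, 0x19a228802c02048040a⟩), (6, ⟨3035, 0x4e01410240006c08300030010040800001, 0x19a228802c02048040a⟩)]⟩]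

theorem t9_535_28 : jobs 8 S9 b8_535 j9_535_28 = true := by decide +kernel

noncomputable def j9_535_29 : List Job := [
  ⟨30, 0x590ca66339a0d26a35d80c262319b0da6e37d20924a259309a4e27d008242219108a4623c8c57221548453201442e15098440e0501, 0, 20, 0x200000604002000002200002400002601002801, [(17, ⟨3034, 0x940043002000190007010101080103000001, 0x198208802c020481408⟩), (16, ⟨3032, 0x940043002000190007010101080003000001, 0x198208802c020481408⟩), (15, ⟨3031, 0x940043002000190107010101080103000001, 0x198208802c020481408⟩), (0, ⟨3033, 0x91004d002800180106010101080003010001, 0x1942708824020681408⟩)]⟩]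

theorem t9_535_29 : jobs 8 S9 b8_535 j9_535_29 = true := by decide +kernel

noncomputable def j9_535_30 : List Job := [
  ⟨25, 0x42e15098440e0501, 0, 3, 0x201000401000601, []⟩]

theorem t9_535_30 : jobs 8 S9 b8_535 j9_535_30 = true := by decide +kernel

noncomputable def j9_535_31 : List Job := [
  ⟨24, 0x42e15098440e0501, 0, 3, 0x201000401000601, []⟩]

theorem t9_535_31 : jobs 8 S9 b8_535 j9_535_31 = true := by decide +kernel

noncomputable def j9_535_32 : List Job := [
  ⟨21, 0x4a8572814c88472010c2e15098440e0501, 0, 10, 0x215000401000614000804000a11000c15000e01001014001210001404, []⟩]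

theorem t9_535_32 : jobs 8 S9 b8_535 j9_535_32 = true := by decide +kernel

noncomputable def j9_535_33 : List Job := [
  ⟨20, 0x4a8572814c88472010c2e15098440e0501, 0, 10, 0x210000401000611000810000a14000c10000e01001011001215001410, []⟩]

theorem t9_535_33 : jobs 8 S9 b8_535 j9_535_33 = true := by decide +kernel

noncomputable def j9_535_34 : List Job := [
  ⟨19, 0x4a8572814c88472010c2e15098440e0501, 0, 8, 0x204000a04000e05, []⟩]

theorem t9_535_34 : jobs 8 S9 b8_535 j9_535_34 = true := by decide +kernel

noncomputable def j9_535_35 : List Job := [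
  ⟨18, 0x4a8572814c88472010c2e15098440e0501, 0, 8, 0x210000610000a14, []⟩]

theorem t9_535_35 : jobs 8 S9 b8_535 j9_535_35 = true := by decide +kernel

noncomputable def j9_535_36 : List Job := [
  ⟨17, 0x5a0d26a359b0da6e37d008242219108a4623c8447201140e0501, 0, 12, 0x0, []⟩]

theorem t9_535_36 : jobs 8 S9 b8_535 j9_535_36 = true := by decide +kernel

noncomputable def j9_535_37 : List Job := [
  ⟨16, 0x5a0d26a359b0da6e37d008242219108a4623c8447201140e0501, 0, 12, 0x0, []⟩]

theorem t9_535_37 : jobs 8 S9 b8_535 j9_535_37 = true := by decide +kernel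

noncomputable def j9_535_38 : List Job := [
  ⟨15, 0x580c26231990ca6633d008242219108a4623c8447201140e0501, 0, 12, 0x0, []⟩]

theorem t9_535_38 : jobs 8 S9 b8_535 j9_535_38 = true := by decide +kernel

noncomputable def j9_535_39 : List Job := [
  ⟨14, 0x580c26231990ca6633d008242219108a4623c8e45219040e0501, 0, 12, 0x0, []⟩]

theorem t9_535_39 : jobs 8 S9 b8_535 j9_535_39 = true := by decide +kernel

noncomputable def j9_535_40 : List Job := [
  ⟨13, 0x42e15098440e0501, 0, 8, 0x200000800, [(3, ⟨3028, 0x5f81610040046c08300010210040800001, 0x1be328802e020480408⟩), (0, ⟨3027, 0x5f81610040046c00301010210040800001, 0x1be328802e020480408⟩)]⟩]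

theorem t9_535_40 : jobs 8 S9 b8_535 j9_535_40 = true := by decide +kernel

noncomputable def j9_535_41 : List Job := [
  ⟨12, 0x42e15098440e0501, 0, 8, 0x200000800, [(3, ⟨3023, 0x4a80670040046c00201010210040800001, 0x19d340802e020400408⟩), (0, ⟨3022, 0x4a81670240046c00200010210040800001, 0x19d340802e020400408⟩)]⟩]

theorem t9_535_41 : jobs 8 S9 b8_535 j9_535_41 = true := by decide +kernel

noncomputable def j9_535_42 : List Job := [
  ⟨11, 0x5a0d26a359b0da6e37d80c26231990ca6633d20924a259309a4e27d008242219108a4623c2e15098440e0501, 0, 16, 0x200000800001201001401001601001a01001c01001e01, [(3, ⟨3021, 0x850063012001130005010100080102000001, 0x18c320802a020600408⟩), (0, ⟨3020, 0x850163012001130005000100080102000001, 0x18c320802a020600408⟩)]⟩]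

theorem t9_535_42 : jobs 8 S9 b8_535 j9_535_42 = true := by decide +kernel

noncomputable def j9_535_43 : List Job := [
  ⟨10, 0x520924a259309a4e27d008242219108a4623c2e15098440e0501, 0, 10, 0x200000800, [(3, ⟨3019, 0x5400440040004008301010210000800001, 0x1a32688020020480408⟩), (0, ⟨3018, 0x5400440040004000301010210000800001, 0x1a32688020020480408⟩)]⟩]

theorem t9_535_43 : jobs 8 S9 b8_535 j9_535_43 = true := by decide +kernel

noncomputable def j9_535_44 : List Job := [
  ⟨9, 0x520924a259309a4e27d008242219108a4623c2e15098440e0501, 0, 10, 0x200000800, [(3, ⟨3017, 0x5801400240006808381010010000800001, 0x1b02008026020680408⟩), (0, ⟨3016, 0x5800400240006800381010010000800001, 0x1b02008026020680408⟩)]⟩]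

theorem t9_535_44 : jobs 8 S9 b8_535 j9_535_44 = true := by decide +kernel

noncomputable def j9_535_45 : List Job := [
  ⟨8, 0x520924a259309a4e27d008242219108a4623ca8572814c88472010c2e15098440e0501, 0, 25, 0x215000614000815000c15000e15001215001600001c00002a01002c01002e01, [(13, ⟨3015, 0x8f0145012000130007010200080101000001, 0x18e240802a020681002⟩), (10, ⟨3014, 0x8f0145012000130007010200080101000001, 0x18e240802a020681002⟩)]⟩]

theorem t9_535_45 : jobs 8 S9 b8_535 j9_535_45 = true := by decide +kernel

noncomputable def j9_535_46 : List Job := [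
  ⟨7, 0x520924a259309a4e27d008242219108a4623ca8572814c88472010c2e15098440e0501, 0, 25, 0x210000604000810000c15000e10001210001600001c00002a00002c01002e01, [(20, ⟨3013, 0x880142012000100004010201080001000001, 0x1822208020020401002⟩), (13, ⟨3012, 0x9401460120001b0104010201080101000001, 0x199240802e020401002⟩), (10, ⟨3011, 0x9401460120001b0104010201080101000001, 0x199240802e020401002⟩)]⟩]

theorem t9_535_46 : jobs 8 S9 b8_535 j9_535_46 = true := by decide +kernel

noncomputable def j9_535_47 : List Job := [
  ⟨6, 0x4a457281548447201142e15098440e0501, 0, 20, 0x211000812001013001200001800002201, [(11, ⟨3010, 0x880064002001100004000101080002000001, 0x1823608020020400408⟩), (8, ⟨3009, 0x880064012001100004010101080002000001, 0x1823608020020400408⟩)]⟩]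

theorem t9_535_47 : jobs 8 S9 b8_535 j9_535_47 = true := by decide +kernel

noncomputable def j9_535_48 : List Job := [
  ⟨5, 0x5a0d26a359b0da6e37d80c26231990ca6633d20924a259309a4e27d008242219108a4623ca8572814c88472010c2e15098440e0501, 0, 20, 0x211000811001200001800002201, [(11, ⟨3008, 0x800064012001100004010201080001000001, 0x1803608020020401002⟩), (8, ⟨3007, 0x800064002001100004000201080001000001, 0x1803608020020401002⟩)]⟩]

theorem t9_535_48 : jobs 8 S9 b8_535 j9_535_48 = true := by decide +kernel

noncomputable def j9_535_49 : List Job := [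
  ⟨4, 0x4ae55299448e45219042e15098440e0501, 0, 20, 0x213000812000e12001200001800002201, [(11, ⟨3006, 0xb20062002001180107000100080002000001, 0x1b13088024020680408⟩), (8, ⟨3005, 0xb20162002001180007010100080002000001, 0x1b13088024020680408⟩)]⟩]

theorem t9_535_49 : jobs 8 S9 b8_535 j9_535_49 = true := by decide +kernel

noncomputable def j9_535_50 : List Job := [
  ⟨3, 0x4743d1c0fc542d140bc2e15098440e0501, 0, 8, 0x204000410000604000811000a10000c10000e10001011, []⟩]

theorem t9_535_50 : jobs 8 S9 b8_535 j9_535_50 = true := by decide +kernel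

noncomputable def j9_535_51 : List Job := [
  ⟨2, 0x42e15098440e0501, 0, 2, 0x201000401, []⟩]

theorem t9_535_51 : jobs 8 S9 b8_535 j9_535_51 = true := by decide +kernel

noncomputable def j9_535_52 : List Job := [
  ⟨1, 0x42e15098440e0501, 0, 2, 0x0, []⟩]

theorem t9_535_52 : jobs 8 S9 b8_535 j9_535_52 = true := by decide +kernel

noncomputable def j9_535_53 : List Job := [
  ⟨0, 0x42e15098440e0501, 0, 4, 0x0, []⟩]

theorem t9_535_53 : jobs 8 S9 b8_535 j9_535_53 = true := by decide +kernel

theorem d9_535 : Dn 8 S9 b8_535 := dn_of (Js := j9_535_0 ++ (j9_535_1 ++ (j9_535_2 ++ (j9_535_3 ++ (j9_535_4 ++ (j9_535_5 ++ (j9_535_6 ++ (j9_535_7 ++ (j9_535_8 ++ (j9_535_9 ++ (j9_535_10 ++ (j9_535_11 ++ (j9_535_12 ++ (j9_535_13 ++ (j9_535_14 ++ (j9_535_15 ++ (j9_535_16 ++ (j9_535_17 ++ (j9_535_18 ++ (j9_535_19 ++ (j9_535_20 ++ (j9_535_21 ++ (j9_535_22 ++ (j9_535_23 ++ (j9_535_24 ++ (j9_535_25 ++ (j9_535_26 ++ (j9_535_27 ++ (j9_535_28 ++ (j9_535_29 ++ (j9_535_30 ++ (j9_535_31 ++ (j9_535_32 ++ (j9_535_33 ++ (j9_535_34 ++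 (j9_535_35 ++ (j9_535_36 ++ (j9_535_37 ++ (j9_535_38 ++ (j9_535_39 ++ (j9_535_40 ++ (j9_535_41 ++ (j9_535_42 ++ (j9_535_43 ++ (j9_535_44 ++ (j9_535_45 ++ (j9_535_46 ++ (j9_535_47 ++ (j9_535_48 ++ (j9_535_49 ++ (j9_535_50 ++ (j9_535_51 ++ (j9_535_52 ++ (j9_535_53 ++ []))))))))))))))))))))))))))))))))))))))))))))))))))))))
  (jobs_append t9_535_0 <| jobs_append t9_535_1 <| jobs_append t9_535_2 <| jobs_append t9_535_3 <| jobs_append t9_535_4 <| jobs_append t9_535_5 <| jobs_append t9_535_6 <| jobs_append t9_535_7 <| jobs_append t9_535_8 <| jobs_append t9_535_9 <| jobs_append t9_535_10 <| jobs_append t9_535_11 <| jobs_append t9_535_12 <| jobs_append t9_535_13 <| jobs_append t9_535_14 <| jobs_append t9_535_15 <| jobs_append t9_535_16 <| jobs_append t9_535_17 <| jobs_append t9_535_18 <| jobs_append t9_535_19 <| jobs_append t9_535_20 <| jobs_append t9_535_21 <| jobs_append t9_535_22 <| jobs_append t9_535_23 <| jobs_append t9_535_24 <| jobs_append t9_535_25 <| jobs_append t9_535_26 <| jobs_append t9_535_27 <| jobs_append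 t9_535_28 <| jobs_append t9_535_29 <| jobs_append t9_535_30 <| jobs_append t9_535_31 <| jobs_append t9_535_32 <| jobs_append t9_535_33 <| jobs_append t9_535_34 <| jobs_append t9_535_35 <| jobs_append t9_535_36 <| jobs_append t9_535_37 <| jobs_append t9_535_38 <| jobs_append t9_535_39 <| jobs_append t9_535_40 <| jobs_append t9_535_41 <| jobs_append t9_535_42 <| jobs_append t9_535_43 <| jobs_append t9_535_44 <| jobs_append t9_535_45 <| jobs_append t9_535_46 <| jobs_append t9_535_47 <| jobs_append t9_535_48 <| jobs_append t9_535_49 <| jobs_append t9_535_50 <| jobs_append t9_535_51 <| jobs_append t9_535_52 <| jobs_append t9_535_53 <| List.forall_mem_nil _) (by decide +kernel)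

noncomputable def j9_536_0 : List Job := [
  ⟨63, 0x42e15098440e0501, 0, 2, 0x0, []⟩]

theorem t9_536_0 : jobs 8 S9 b8_536 j9_536_0 = true := by decide +kernel

noncomputable def j9_536_1 : List Job := [
  ⟨62, 0x42e15098440e0501, 0, 2, 0x201000401, []⟩]

theorem t9_536_1 : jobs 8 S9 b8_536 j9_536_1 = true := by decide +kernel

noncomputable def j9_536_2 : List Job := [
  ⟨60, 0x4c466391dcc064381d42e15098440e0501, 0, 8, 0x215000405000605000804000a10000c04000e04001011, []⟩]

theorem t9_536_2 : jobs 8 S9 b8_536 j9_536_2 = true := by decide +kernel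

noncomputable def j9_536_3 : List Job := [
  ⟨59, 0x4c466391dcc064381d42e15098440e0501, 0, 10, 0xc16000e05001404, []⟩]

theorem t9_536_3 : jobs 8 S9 b8_536 j9_536_3 = true := by decide +kernel

noncomputable def j9_536_4 : List Job := [
  ⟨58, 0x4c466381d4c064391dc2e15098440e0501, 0, 6, 0x410000611000a10, []⟩]

theorem t9_536_4 : jobs 8 S9 b8_536 j9_536_4 = true := by decide +kernel

noncomputable def j9_536_5 : List Job := [
  ⟨57, 0x42e15098440e0501, 0, 2, 0x201000401, []⟩]

theorem t9_536_5 : jobs 8 S9 b8_536 j9_536_5 = true := by decide +kernel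

noncomputable def j9_536_6 : List Job := [
  ⟨56, 0x580c26231990ca66339a0d26a359b0da6e37d008242219108a4623920924a259309a4e27c2e15098440e0501, 0, 9, 0x201000801000a01000e01001001, []⟩]

theorem t9_536_6 : jobs 8 S9 b8_536 j9_536_6 = true := by decide +kernel

noncomputable def j9_536_7 : List Job := [
  ⟨55, 0x5008242219108a4623920924a259309a4e27c2e15098440e0501, 0, 2, 0x0, []⟩]

theorem t9_536_7 : jobs 8 S9 b8_536 j9_536_7 = true := by decide +kernel

noncomputable def j9_536_8 : List Job := [
  ⟨54, 0x5008242219108a4623920924a259309a4e27cc466391dcc064381d42e15098440e0501, 0, 8, 0x214000415000615000814, []⟩]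

theorem t9_536_8 : jobs 8 S9 b8_536 j9_536_8 = true := by decide +kernel

noncomputable def j9_536_9 : List Job := [
  ⟨53, 0x4c866381ccc0623a1dc2e15098440e0501, 0, 6, 0x412000612000a13, []⟩]

theorem t9_536_9 : jobs 8 S9 b8_536 j9_536_9 = true := by decide +kernel

noncomputable def j9_536_10 : List Job := [
  ⟨52, 0x580c26231990ca66339a0d26a359b0da6e37d008242219108a4623920924a259309a4e27cc466381d4c064391dc2e15098440e0501, 0, 12, 0x411000610001001001601, []⟩]

theorem t9_536_10 : jobs 8 S9 b8_536 j9_536_10 = true := by decide +kernel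

noncomputable def j9_536_11 : List Job := [
  ⟨51, 0x42e15098440e0501, 0, 2, 0x0, []⟩]

theorem t9_536_11 : jobs 8 S9 b8_536 j9_536_11 = true := by decide +kernel

noncomputable def j9_536_12 : List Job := [
  ⟨50, 0x42e15098440e0501, 0, 6, 0x0, []⟩]

theorem t9_536_12 : jobs 8 S9 b8_536 j9_536_12 = true := by decide +kernel

noncomputable def j9_536_13 : List Job := [
  ⟨49, 0x42e15098440e0501, 0, 2, 0x201000401, []⟩]

theorem t9_536_13 : jobs 8 S9 b8_536 j9_536_13 = true := by decide +kernel

noncomputable def j9_536_14 : List Job := [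
  ⟨48, 0x42e15098440e0501, 0, 2, 0x201000401, []⟩]

theorem t9_536_14 : jobs 8 S9 b8_536 j9_536_14 = true := by decide +kernel

noncomputable def j9_536_15 : List Job := [
  ⟨46, 0x4c866381ccc0623a1dc2e15098440e0501, 0, 8, 0x215000410000610000805000a15000c10000e10001004, []⟩]

theorem t9_536_15 : jobs 8 S9 b8_536 j9_536_15 = true := by decide +kernel

noncomputable def j9_536_16 : List Job := [
  ⟨45, 0x4c866381ccc0623a1dc2e15098440e0501, 0, 6, 0x412000604000c05, []⟩]

theorem t9_536_16 : jobs 8 S9 b8_536 j9_536_16 = true := by decide +kernel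

noncomputable def j9_536_17 : List Job := [
  ⟨44, 0x4c866381ccc0623a1dc2e15098440e0501, 0, 6, 0x410000611000a10, []⟩]

theorem t9_536_17 : jobs 8 S9 b8_536 j9_536_17 = true := by decide +kernel

noncomputable def j9_536_18 : List Job := [
  ⟨43, 0x4cc73321c4c477301d42e15098440e0501, 0, 10, 0xa16001017001417, []⟩]

theorem t9_536_18 : jobs 8 S9 b8_536 j9_536_18 = true := by decide +kernel

noncomputable def j9_536_19 : List Job := [
  ⟨42, 0x4cc75321dcc471301cc2e15098440e0501, 0, 15, 0x210000811000c11, []⟩]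

theorem t9_536_19 : jobs 8 S9 b8_536 j9_536_19 = true := by decide +kernel

noncomputable def j9_536_20 : List Job := [
  ⟨41, 0x42e15098440e0501, 0, 6, 0x0, []⟩]

theorem t9_536_20 : jobs 8 S9 b8_536 j9_536_20 = true := by decide +kernel

noncomputable def j9_536_21 : List Job := [
  ⟨40, 0x580c26231990ca66339a0d26a359b0da6e37d008242219108a4623920924a259309a4e27c2e15098440e0501, 0, 15, 0xe01, []⟩]

theorem t9_536_21 : jobs 8 S9 b8_536 j9_536_21 = true := by decide +kernel

noncomputable def j9_536_22 : List Job := [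
  ⟨39, 0x42e15098440e0501, 0, 6, 0x0, []⟩]

theorem t9_536_22 : jobs 8 S9 b8_536 j9_536_22 = true := by decide +kernel

noncomputable def j9_536_23 : List Job := [
  ⟨38, 0x580c26231990ca66339a0d26a359b0da6e37d008242219108a4623920924a259309a4e27c2e15098440e0501, 0, 12, 0x201000401000801000a01, []⟩]

theorem t9_536_23 : jobs 8 S9 b8_536 j9_536_23 = true := by decide +kernel

noncomputable def j9_536_24 : List Job := [
  ⟨37, 0x5008242219108a4623920924a259309a4e27c2e15098440e0501, 0, 8, 0x0, []⟩]

theorem t9_536_24 : jobs 8 S9 b8_536 j9_536_24 = true := by decide +kernel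

noncomputable def j9_536_25 : List Job := [
  ⟨36, 0x5008242219108a4623920924a259309a4e27cc866381ccc0623a1dc2e15098440e0501, 0, 20, 0x210000404000604000815002201002401, []⟩]

theorem t9_536_25 : jobs 8 S9 b8_536 j9_536_25 = true := by decide +kernel

noncomputable def j9_536_26 : List Job := [
  ⟨35, 0x4c466381d4c064391dc2e15098440e0501, 0, 15, 0x412000612000a13, []⟩]

theorem t9_536_26 : jobs 8 S9 b8_536 j9_536_26 = true := by decide +kernel

noncomputable def j9_536_27 : List Job := [
  ⟨34, 0x580c26231990ca66339a0d26a359b0da6e37d008242219108a4623920924a259309a4e27cc866381ccc0623a1dc2e15098440e0501, 0, 15, 0x411000610, []⟩]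

theorem t9_536_27 : jobs 8 S9 b8_536 j9_536_27 = true := by decide +kernel

noncomputable def j9_536_28 : List Job := [
  ⟨33, 0x4cc71321ccc475301dc2e15098440e0501, 0, 15, 0x210000811000a10, []⟩]

theorem t9_536_28 : jobs 8 S9 b8_536 j9_536_28 = true := by decide +kernel

noncomputable def j9_536_29 : List Job := [
  ⟨32, 0x580c26231990ca66339a0d26a359b0da6e37d008242219108a4623920924a259309a4e27ccc75321dcc471301cc2e15098440e0501, 0, 30, 0x210000811000a10003401003a01, []⟩]

theorem t9_536_29 : jobs 8 S9 b8_536 j9_536_29 = true := by decide +kernel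

noncomputable def j9_536_30 : List Job := [
  ⟨31, 0x42e15098440e0501, 0, 2, 0x201000401, []⟩]

theorem t9_536_30 : jobs 8 S9 b8_536 j9_536_30 = true := by decide +kernel

noncomputable def j9_536_31 : List Job := [
  ⟨30, 0x520924a259309a4e27d008242219108a4623c2e15098440e0501, 0, 11, 0x201000401000601, []⟩]

theorem t9_536_31 : jobs 8 S9 b8_536 j9_536_31 = true := by decide +kernel

noncomputable def j9_536_32 : List Job := [
  ⟨29, 0x42e15098440e0501, 0, 2, 0x0, []⟩]

theorem t9_536_32 : jobs 8 S9 b8_536 j9_536_32 = true := by decide +kernel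

noncomputable def j9_536_33 : List Job := [
  ⟨28, 0x520924a259309a4e27d008242219108a4623c2e15098440e0501, 0, 5, 0x601, []⟩]

theorem t9_536_33 : jobs 8 S9 b8_536 j9_536_33 = true := by decide +kernel

noncomputable def j9_536_34 : List Job := [
  ⟨27, 0x4c866381ccc0623a1dc2e15098440e0501, 0, 8, 0x210000402000611000802000a13000c02000e10001002, []⟩]

theorem t9_536_34 : jobs 8 S9 b8_536 j9_536_34 = true := by decide +kernel

noncomputable def j9_536_35 : List Job := [
  ⟨26, 0x520924a259309a4e27d008242219108a4623cc466381d4c064391dc2e15098440e0501, 0, 12, 0x205000404000604000805001201001601, []⟩]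

theorem t9_536_35 : jobs 8 S9 b8_536 j9_536_35 = true := by decide +kernel

noncomputable def j9_536_36 : List Job := [
  ⟨25, 0x4c464391d4c066381dc2e15098440e0501, 0, 8, 0x210000413000610000803000a10000c03000e10001013, []⟩]

theorem t9_536_36 : jobs 8 S9 b8_536 j9_536_36 = true := by decide +kernel

noncomputable def j9_536_37 : List Job := [
  ⟨24, 0x520924a259309a4e27d008242219108a4623cc8663a1dcc062381cc2e15098440e0501, 0, 20, 0x210000410000611000811002201002401, []⟩]

theorem t9_536_37 : jobs 8 S9 b8_536 j9_536_37 = true := by decide +kernel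

noncomputable def j9_536_38 : List Job := [
  ⟨18, 0x520924a259309a4e27d008242219108a4623c2e15098440e0501, 0, 3, 0x201, []⟩]

theorem t9_536_38 : jobs 8 S9 b8_536 j9_536_38 = true := by decide +kernel

noncomputable def j9_536_39 : List Job := [
  ⟨16, 0x520924a259309a4e27d008242219108a4623c2e15098440e0501, 0, 3, 0x400, [(1, ⟨3054, 0x4201420254044c08300030212040408001, 0x1882289828030681402⟩)]⟩]

theorem t9_536_39 : jobs 8 S9 b8_536 j9_536_39 = true := by decide +kernel

noncomputable def j9_536_40 : List Job := [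
  ⟨15, 0x4e877381ccc8673018c2e15098440e0501, 0, 10, 0x210000401000612000812000a01000c12000e12001011001203001410, []⟩]

theorem t9_536_40 : jobs 8 S9 b8_536 j9_536_40 = true := by decide +kernel

noncomputable def j9_536_41 : List Job := [
  ⟨14, 0x520924a259309a4e27d008242219108a4623ce477381d4c467301942e15098440e0501, 0, 16, 0x204000605000804000c04001204001601001801001c01001e01, []⟩]

theorem t9_536_41 : jobs 8 S9 b8_536 j9_536_41 = true := by decide +kernel

noncomputable def j9_536_42 : List Job := [
  ⟨13, 0x4e0723a1dcc0623219c2e15098440e0501, 0, 10, 0x212000401000602000810000a01000c03000e10001003001213001402, []⟩]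

theorem t9_536_42 : jobs 8 S9 b8_536 j9_536_42 = true := by decide +kernel

noncomputable def j9_536_43 : List Job := [
  ⟨12, 0x520924a259309a4e27d008242219108a4623ce0723a1dcc0623219c2e15098440e0501, 0, 10, 0x204000614000810000c14, []⟩]

theorem t9_536_43 : jobs 8 S9 b8_536 j9_536_43 = true := by decide +kernel

noncomputable def j9_536_44 : List Job := [
  ⟨10, 0x5008242219108a4623920924a259309a4e27c2e15098440e0501, 0, 8, 0x0, []⟩]

theorem t9_536_44 : jobs 8 S9 b8_536 j9_536_44 = true := by decide +kernel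

noncomputable def j9_536_45 : List Job := [
  ⟨8, 0x5008242219108a4623920924a259309a4e27c2e15098440e0501, 0, 2, 0x0, []⟩]

theorem t9_536_45 : jobs 8 S9 b8_536 j9_536_45 = true := by decide +kernel

noncomputable def j9_536_46 : List Job := [
  ⟨6, 0x5008242219108a4623920924a259309a4e27c2e15098440e0501, 0, 2, 0x0, []⟩]

theorem t9_536_46 : jobs 8 S9 b8_536 j9_536_46 = true := by decide +kernel

noncomputable def j9_536_47 : List Job := [
  ⟨5, 0x484462915c8044281542e15098440e0501, 0, 8, 0x213000412000611000811000a12000c13000e03001003, []⟩]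

theorem t9_536_47 : jobs 8 S9 b8_536 j9_536_47 = true := by decide +kernel

noncomputable def j9_536_48 : List Job := [
  ⟨4, 0x5008242219108a4623920924a259309a4e27c84442915480462815c2e15098440e0501, 0, 8, 0x210000411000615000814, []⟩]

theorem t9_536_48 : jobs 8 S9 b8_536 j9_536_48 = true := by decide +kernel

noncomputable def j9_536_49 : List Job := [
  ⟨3, 0x484462915c8044281542e15098440e0501, 0, 8, 0x212000413000602000803000a13000c12000e10001011, []⟩]

theorem t9_536_49 : jobs 8 S9 b8_536 j9_536_49 = true := by decide +kernel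

noncomputable def j9_536_50 : List Job := [
  ⟨2, 0x5008242219108a4623920924a259309a4e27c84442915480462815c2e15098440e0501, 0, 8, 0x204000404000611000814, []⟩]

theorem t9_536_50 : jobs 8 S9 b8_536 j9_536_50 = true := by decide +kernel

noncomputable def j9_536_51 : List Job := [
  ⟨1, 0x48c57221548453201442e15098440e0501, 0, 8, 0x203000411000602000803000a12000c11000e03001002, []⟩]

theorem t9_536_51 : jobs 8 S9 b8_536 j9_536_51 = true := by decide +kernel

noncomputable def j9_536_52 : List Job := [
  ⟨0, 0x5008242219108a4623920924a259309a4e27c8c57221548453201442e15098440e0501, 0, 20, 0x210000404000611000811000c11002201002401, []⟩]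

theorem t9_536_52 : jobs 8 S9 b8_536 j9_536_52 = true := by decide +kernel

theorem d9_536 : Dn 8 S9 b8_536 := dn_of (Js := j9_536_0 ++ (j9_536_1 ++ (j9_536_2 ++ (j9_536_3 ++ (j9_536_4 ++ (j9_536_5 ++ (j9_536_6 ++ (j9_536_7 ++ (j9_536_8 ++ (j9_536_9 ++ (j9_536_10 ++ (j9_536_11 ++ (j9_536_12 ++ (j9_536_13 ++ (j9_536_14 ++ (j9_536_15 ++ (j9_536_16 ++ (j9_536_17 ++ (j9_536_18 ++ (j9_536_19 ++ (j9_536_20 ++ (j9_536_21 ++ (j9_536_22 ++ (j9_536_23 ++ (j9_536_24 ++ (j9_536_25 ++ (j9_536_26 ++ (j9_536_27 ++ (j9_536_28 ++ (j9_536_29 ++ (j9_536_30 ++ (j9_536_31 ++ (j9_536_32 ++ (j9_536_33 ++ (j9_536_34 ++ (j9_536_35 ++ (j9_536_36 ++ (j9_536_37 ++ (j9_536_38 ++ (j9_536_39 ++ (j9_536_40 ++ (j9_536_41 ++ (j9_536_42 ++ (j9_536_43 ++ (j9_536_44 ++ (j9_536_45 ++ (j9_536_46 ++ (j9_536_47 ++ (j9_536_48 ++ (j9_536_49 ++ (j9_536_50 ++ (j9_536_51 ++ (j9_536_52 ++ [])))))))))))))))))))))))))))))))))))))))))))))))))))))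
  (jobs_append t9_536_0 <| jobs_append t9_536_1 <| jobs_append t9_536_2 <| jobs_append t9_536_3 <| jobs_append t9_536_4 <| jobs_append t9_536_5 <| jobs_append t9_536_6 <| jobs_append t9_536_7 <| jobs_append t9_536_8 <| jobs_append t9_536_9 <| jobs_append t9_536_10 <| jobs_append t9_536_11 <| jobs_append t9_536_12 <| jobs_append t9_536_13 <| jobs_append t9_536_14 <| jobs_append t9_536_15 <| jobs_append t9_536_16 <| jobs_append t9_536_17 <| jobs_append t9_536_18 <| jobs_append t9_536_19 <| jobs_append t9_536_20 <| jobs_append t9_536_21 <| jobs_append t9_536_22 <| jobs_append t9_536_23 <| jobs_append t9_536_24 <| jobs_append t9_536_25 <| jobs_append t9_536_26 <| jobs_append t9_536_27 <| jobs_append t9_536_28 <| jobs_append t9_536_29 <| jobs_append t9_536_30 <| jobs_append t9_536_31 <| jobs_append t9_536_32 <| jobs_append t9_536_33 <| jobs_append t9_536_34 <| jobs_append t9_536_35 <| jobs_append t9_536_36 <| jobs_append t9_536_37 <| jobs_append t9_536_38 <| jobs_append t9_536_39 <| jobs_append t9_536_40 <| jobs_append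 t9_536_41 <| jobs_append t9_536_42 <| jobs_append t9_536_43 <| jobs_append t9_536_44 <| jobs_append t9_536_45 <| jobs_append t9_536_46 <| jobs_append t9_536_47 <| jobs_append t9_536_48 <| jobs_append t9_536_49 <| jobs_append t9_536_50 <| jobs_append t9_536_51 <| jobs_append t9_536_52 <| List.forall_mem_nil _) (by decide +kernel)

noncomputable def j9_537_0 : List Job := [
  ⟨63, 0x48447201140e0501, 0, 2, 0x200000401, [(0, ⟨3154, 0x3a806f048811d002c107040410204001, 0x1cc368843a0b0380404⟩)]⟩]

theorem t9_537_0 : jobs 8 S9 b8_537 j9_537_0 = true := by decide +kernel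

noncomputable def j9_537_1 : List Job := [
  ⟨59, 0x4502b1008c160901, 0, 8, 0x0, []⟩]

theorem t9_537_1 : jobs 8 S9 b8_537 j9_537_1 = true := by decide +kernel

noncomputable def j9_537_2 : List Job := [
  ⟨58, 0x44e25118840e0501, 0, 6, 0x0, []⟩]

theorem t9_537_2 : jobs 8 S9 b8_537 j9_537_2 = true := by decide +kernel

noncomputable def j9_537_3 : List Job := [
  ⟨57, 0x44e25118840e0501, 0, 7, 0xe01, []⟩]

theorem t9_537_3 : jobs 8 S9 b8_537 j9_537_3 = true := by decide +kernel

noncomputable def j9_537_4 : List Job := [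
  ⟨56, 0x41e0d058240e0501, 0, 5, 0x401, []⟩]

theorem t9_537_4 : jobs 8 S9 b8_537 j9_537_4 = true := by decide +kernel

noncomputable def j9_537_5 : List Job := [
  ⟨55, 0x41e0d058240e0501, 0, 10, 0x401000a01000e01001001001201001401, []⟩]

theorem t9_537_5 : jobs 8 S9 b8_537 j9_537_5 = true := by decide +kernel

noncomputable def j9_537_6 : List Job := [
  ⟨54, 0x42e15098440e0501, 0, 7, 0x401000a01000c01000e01, []⟩]

theorem t9_537_6 : jobs 8 S9 b8_537 j9_537_6 = true := by decide +kernel

noncomputable def j9_537_7 : List Job := [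
  ⟨53, 0x41e0d058240e0501, 0, 7, 0x401000a01000c01000e01, []⟩]

theorem t9_537_7 : jobs 8 S9 b8_537 j9_537_7 = true := by decide +kernel

noncomputable def j9_537_8 : List Job := [
  ⟨52, 0x41e0d058240e0501, 0, 3, 0x201000401000601, []⟩]

theorem t9_537_8 : jobs 8 S9 b8_537 j9_537_8 = true := by decide +kernel

noncomputable def j9_537_9 : List Job := [
  ⟨50, 0x5188f4422d08874020c1e0d058240e0501, 0, 23, 0x401000a01000c08001008001801001c08002008002a01002e01, []⟩]

theorem t9_537_9 : jobs 8 S9 b8_537 j9_537_9 = true := by decide +kernel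

noncomputable def j9_537_10 : List Job := [
  ⟨46, 0x5008242219108a4623cb05a2e17c88472010c301a0e07c0e0501, 0, 16, 0x204000405000604000a04000c05000e04001204001405001a04001c05, []⟩]

theorem t9_537_10 : jobs 8 S9 b8_537 j9_537_10 = true := by decide +kernel

noncomputable def j9_537_11 : List Job := [
  ⟨45, 0x4b45f2c17488472010c301a0e07c0e0501, 0, 12, 0x202000403000602000803000a02000e02001003001202001403001802, []⟩]

theorem t9_537_11 : jobs 8 S9 b8_537 j9_537_11 = true := by decide +kernel

noncomputable def j9_537_12 : List Job := [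
  ⟨44, 0x5a0d26a359b0da6e37d008242219108a4623cb45d2c17c844720114301a0e07c0e0501, 0, 12, 0x204000a04, []⟩]

theorem t9_537_12 : jobs 8 S9 b8_537 j9_537_12 = true := by decide +kernel

noncomputable def j9_537_13 : List Job := [
  ⟨43, 0x42e15098440e0501, 0, 2, 0x201000401, []⟩]

theorem t9_537_13 : jobs 8 S9 b8_537 j9_537_13 = true := by decide +kernel

noncomputable def j9_537_14 : List Job := [
  ⟨42, 0x42e15098440e0501, 0, 6, 0x0, []⟩]

theorem t9_537_14 : jobs 8 S9 b8_537 j9_537_14 = true := by decide +kernel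

noncomputable def j9_537_15 : List Job := [
  ⟨41, 0x4c866381ccc0623a1dc2e15098440e0501, 0, 6, 0x416000604000c05, []⟩]

theorem t9_537_15 : jobs 8 S9 b8_537 j9_537_15 = true := by decide +kernel

noncomputable def j9_537_16 : List Job := [
  ⟨40, 0x4c8663a1dcc062381cc2e15098440e0501, 0, 15, 0x410000611000a10, []⟩]

theorem t9_537_16 : jobs 8 S9 b8_537 j9_537_16 = true := by decide +kernel

noncomputable def j9_537_17 : List Job := [
  ⟨39, 0x42e15098440e0501, 0, 2, 0x201000401, []⟩]

theorem t9_537_17 : jobs 8 S9 b8_537 j9_537_17 = true := by decide +kernel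

noncomputable def j9_537_18 : List Job := [
  ⟨38, 0x580c26231990ca66339a0d26a359b0da6e37d008242219108a4623920924a259309a4e27c2e15098440e0501, 0, 12, 0xe01001001001401001601, []⟩]

theorem t9_537_18 : jobs 8 S9 b8_537 j9_537_18 = true := by decide +kernel

noncomputable def j9_537_19 : List Job := [
  ⟨37, 0x4c464391d4c066381dc2e15098440e0501, 0, 6, 0x412000612000a13, []⟩]

theorem t9_537_19 : jobs 8 S9 b8_537 j9_537_19 = true := by decide +kernel

noncomputable def j9_537_20 : List Job := [
  ⟨36, 0x580c26231990ca66339a0d26a359b0da6e37d008242219108a4623920924a259309a4e27cc8663a1dcc062381cc2e15098440e0501, 0, 15, 0x411000610, []⟩]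

theorem t9_537_20 : jobs 8 S9 b8_537 j9_537_20 = true := by decide +kernel

noncomputable def j9_537_21 : List Job := [
  ⟨30, 0x5008242219108a4623920924a259309a4e27c2e15098440e0501, 0, 2, 0x0, []⟩]

theorem t9_537_21 : jobs 8 S9 b8_537 j9_537_21 = true := by decide +kernel

noncomputable def j9_537_22 : List Job := [
  ⟨29, 0x488462a15c80422814c2e15098440e0501, 0, 8, 0x203000411000602000803000a12000c11000e03001002, []⟩]

theorem t9_537_22 : jobs 8 S9 b8_537 j9_537_22 = true := by decide +kernel

noncomputable def j9_537_23 : List Job := [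
  ⟨28, 0x5008242219108a4623920924a259309a4e27c84462915c8044281542e15098440e0501, 0, 8, 0x210000410000611000811, []⟩]

theorem t9_537_23 : jobs 8 S9 b8_537 j9_537_23 = true := by decide +kernel

noncomputable def j9_537_24 : List Job := [
  ⟨26, 0x5008242219108a4623920924a259309a4e27c2e15098440e0501, 0, 8, 0x0, []⟩]

theorem t9_537_24 : jobs 8 S9 b8_537 j9_537_24 = true := by decide +kernel

noncomputable def j9_537_25 : List Job := [
  ⟨24, 0x5008242219108a4623920924a259309a4e27c2e15098440e0501, 0, 2, 0x0, []⟩]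

theorem t9_537_25 : jobs 8 S9 b8_537 j9_537_25 = true := by decide +kernel

noncomputable def j9_537_26 : List Job := [
  ⟨23, 0x488462814c80422a15c2e15098440e0501, 0, 8, 0x213000412000611000811000a12000c13000e03001003, []⟩]

theorem t9_537_26 : jobs 8 S9 b8_537 j9_537_26 = true := by decide +kernel

noncomputable def j9_537_27 : List Job := [
  ⟨22, 0x5008242219108a4623920924a259309a4e27c84462815480442915c2e15098440e0501, 0, 12, 0x210000411000615000814001201001601, []⟩]

theorem t9_537_27 : jobs 8 S9 b8_537 j9_537_27 = true := by decide +kernel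

noncomputable def j9_537_28 : List Job := [
  ⟨21, 0x484442915480462815c2e15098440e0501, 0, 8, 0x212000413000602000803000a13000c12000e10001011, []⟩]

theorem t9_537_28 : jobs 8 S9 b8_537 j9_537_28 = true := by decide +kernel

noncomputable def j9_537_29 : List Job := [
  ⟨20, 0x5008242219108a4623920924a259309a4e27c88462a15c80422814c2e15098440e0501, 0, 20, 0x204000404000611000814002201002401, []⟩]

theorem t9_537_29 : jobs 8 S9 b8_537 j9_537_29 = true := by decide +kernel

noncomputable def j9_537_30 : List Job := [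
  ⟨19, 0x42e15098440e0501, 0, 2, 0x201000401, []⟩]

theorem t9_537_30 : jobs 8 S9 b8_537 j9_537_30 = true := by decide +kernel

noncomputable def j9_537_31 : List Job := [
  ⟨18, 0x488462814c80422a15c2e15098440e0501, 0, 8, 0x204000405000610000814000a05000c04000e15001010, []⟩]

theorem t9_537_31 : jobs 8 S9 b8_537 j9_537_31 = true := by decide +kernel

noncomputable def j9_537_32 : List Job := [
  ⟨17, 0x42e15098440e0501, 0, 9, 0xe01001001001201, []⟩]

theorem t9_537_32 : jobs 8 S9 b8_537 j9_537_32 = true := by decide +kernel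

noncomputable def j9_537_33 : List Job := [
  ⟨16, 0x520924a259309a4e27d008242219108a4623c2e15098440e0501, 0, 11, 0x201000401000601, []⟩]

theorem t9_537_33 : jobs 8 S9 b8_537 j9_537_33 = true := by decide +kernel

noncomputable def j9_537_34 : List Job := [
  ⟨15, 0x520924a259309a4e27d008242219108a4623c88462814c80422a15c2e15098440e0501, 0, 20, 0x210000404000610000815002201002401, []⟩]

theorem t9_537_34 : jobs 8 S9 b8_537 j9_537_34 = true := by decide +kernel

noncomputable def j9_537_35 : List Job := [
  ⟨14, 0x48c512214c84552015c2e15098440e0501, 0, 15, 0x211000612000c13, []⟩]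

theorem t9_537_35 : jobs 8 S9 b8_537 j9_537_35 = true := by decide +kernel

noncomputable def j9_537_36 : List Job := [
  ⟨8, 0x4a0522a15c80422211c2e15098440e0501, 0, 10, 0x215000401000614000804000a11000c15000e01001014001210001404, []⟩]

theorem t9_537_36 : jobs 8 S9 b8_537 j9_537_36 = true := by decide +kernel

noncomputable def j9_537_37 : List Job := [
  ⟨3, 0x42e15098440e0501, 0, 3, 0x201000401000601, []⟩]

theorem t9_537_37 : jobs 8 S9 b8_537 j9_537_37 = true := by decide +kernel

noncomputable def j9_537_38 : List Job := [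
  ⟨2, 0x520924a259309a4e27d008242219108a4623c2e15098440e0501, 0, 3, 0x201, []⟩]

theorem t9_537_38 : jobs 8 S9 b8_537 j9_537_38 = true := by decide +kernel

noncomputable def j9_537_39 : List Job := [
  ⟨1, 0x520924a259309a4e27d008242219108a4623ca0522a15c80422211c2e15098440e0501, 0, 10, 0x215000614000814000c15, []⟩]

theorem t9_537_39 : jobs 8 S9 b8_537 j9_537_39 = true := by decide +kernel

noncomputable def j9_537_40 : List Job := [
  ⟨0, 0x4a8572814c88472010c2e15098440e0501, 0, 8, 0x213000812000e12, []⟩]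

theorem t9_537_40 : jobs 8 S9 b8_537 j9_537_40 = true := by decide +kernel

theorem d9_537 : Dn 8 S9 b8_537 := dn_of (Js := j9_537_0 ++ (j9_537_1 ++ (j9_537_2 ++ (j9_537_3 ++ (j9_537_4 ++ (j9_537_5 ++ (j9_537_6 ++ (j9_537_7 ++ (j9_537_8 ++ (j9_537_9 ++ (j9_537_10 ++ (j9_537_11 ++ (j9_537_12 ++ (j9_537_13 ++ (j9_537_14 ++ (j9_537_15 ++ (j9_537_16 ++ (j9_537_17 ++ (j9_537_18 ++ (j9_537_19 ++ (j9_537_20 ++ (j9_537_21 ++ (j9_537_22 ++ (j9_537_23 ++ (j9_537_24 ++ (j9_537_25 ++ (j9_537_26 ++ (j9_537_27 ++ (j9_537_28 ++ (j9_537_29 ++ (j9_537_30 ++ (j9_537_31 ++ (j9_537_32 ++ (j9_537_33 ++ (j9_537_34 ++ (j9_537_35 ++ (j9_537_36 ++ (j9_537_37 ++ (j9_537_38 ++ (j9_537_39 ++ (j9_537_40 ++ [])))))))))))))))))))))))))))))))))))))))))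
  (jobs_append t9_537_0 <| jobs_append t9_537_1 <| jobs_append t9_537_2 <| jobs_append t9_537_3 <| jobs_append t9_537_4 <| jobs_append t9_537_5 <| jobs_append t9_537_6 <| jobs_append t9_537_7 <| jobs_append t9_537_8 <| jobs_append t9_537_9 <| jobs_append t9_537_10 <| jobs_append t9_537_11 <| jobs_append t9_537_12 <| jobs_append t9_537_13 <| jobs_append t9_537_14 <| jobs_append t9_537_15 <| jobs_append t9_537_16 <| jobs_append t9_537_17 <| jobs_append t9_537_18 <| jobs_append t9_537_19 <| jobs_append t9_537_20 <| jobs_append t9_537_21 <| jobs_append t9_537_22 <| jobs_append t9_537_23 <| jobs_append t9_537_24 <| jobs_append t9_537_25 <| jobs_append t9_537_26 <| jobs_append t9_537_27 <| jobs_append t9_537_28 <| jobs_append t9_537_29 <| jobs_append t9_537_30 <| jobs_append t9_537_31 <| jobs_append t9_537_32 <| jobs_append t9_537_33 <| jobs_append t9_537_34 <| jobs_append t9_537_35 <| jobs_append t9_537_36 <| jobs_append t9_537_37 <| jobs_append t9_537_38 <| jobs_append t9_537_39 <| jobs_append t9_537_40 <| List.forall_mem_nil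 _) (by decide +kernel)

noncomputable def j9_538_0 : List Job := [
  ⟨63, 0x4804222118904a2613c703a1e0fc502a160bc28170804c0e0501, 0, 32, 0x2204002a04003204003405003a04003c05, []⟩]

theorem t9_538_0 : jobs 8 S9 b8_538 j9_538_0 = true := by decide +kernel

noncomputable def j9_538_1 : List Job := [
  ⟨62, 0x4804222118904a2613c703a1e0fc502a160bc28170804c0e0501, 0, 32, 0x2204002405002a04002c05003405003c05, []⟩]

theorem t9_538_1 : jobs 8 S9 b8_538 j9_538_1 = true := by decide +kernel

noncomputable def j9_538_2 : List Job := [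
  ⟨61, 0x428170804c0e0501, 0, 8, 0x0, []⟩]

theorem t9_538_2 : jobs 8 S9 b8_538 j9_538_2 = true := by decide +kernel

noncomputable def j9_538_3 : List Job := [
  ⟨60, 0x428170804c0e0501, 0, 8, 0x0, []⟩]

theorem t9_538_3 : jobs 8 S9 b8_538 j9_538_3 = true := by decide +kernel

noncomputable def j9_538_4 : List Job := [
  ⟨59, 0x4e0723a1d8f07a3e1fc804222118904a2613c2417080540e0501, 0, 14, 0x0, []⟩]

theorem t9_538_4 : jobs 8 S9 b8_538 j9_538_4 = true := by decide +kernel

noncomputable def j9_538_5 : List Job := [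
  ⟨58, 0x4e0723a1d8f07a3e1fc804222118904a2613c2417080540e0501, 0, 18, 0x0, []⟩]

theorem t9_538_5 : jobs 8 S9 b8_538 j9_538_5 = true := by decide +kernel

noncomputable def j9_538_6 : List Job := [
  ⟨57, 0x4804222118904a2613c60321a0dc0e0501, 0, 16, 0x0, []⟩]

theorem t9_538_6 : jobs 8 S9 b8_538 j9_538_6 = true := by decide +kernel

noncomputable def j9_538_7 : List Job := [
  ⟨56, 0x4804222118904a2613c24150805c0e0501, 0, 16, 0x0, []⟩]

theorem t9_538_7 : jobs 8 S9 b8_538 j9_538_7 = true := by decide +kernel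

noncomputable def j9_538_8 : List Job := [
  ⟨55, 0x46435180dc4e251188424150805c0e0501, 0, 22, 0x1620001801001a20001c20001e01002020002223002401002603002801002a01002c03, []⟩]

theorem t9_538_8 : jobs 8 S9 b8_538 j9_538_8 = true := by decide +kernel

noncomputable def j9_538_9 : List Job := [
  ⟨54, 0x46435180dc4e251188424150805c0e0501, 0, 22, 0x1602001801001a25001c25001e01002002002225002401002625002825002a01002c25, []⟩]

theorem t9_538_9 : jobs 8 S9 b8_538 j9_538_9 = true := by decide +kernel

noncomputable def j9_538_10 : List Job := [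
  ⟨53, 0x4c06232198d06a361bc804222118904a2613c6837180cc4e251188428170804c0e0501, 0, 34, 0x1620001801001a20001c20001e01002020002220002805002e01003001003201003401003601003a01003c01004001004201, []⟩]

theorem t9_538_10 : jobs 8 S9 b8_538 j9_538_10 = true := by decide +kernel

noncomputable def j9_538_11 : List Job := [
  ⟨52, 0x4c06232198d06a361bc804222118904a2613c6837180cc4e251188428170804c0e0501, 0, 38, 0x1623001c01002200002401002627002827002a01002c27003001003a01004201004401004801004a01004c01, [(16, ⟨3178, 0x810041003100100008010400010003000001, 0x182210c820080200c04⟩)]⟩]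

theorem t9_538_11 : jobs 8 S9 b8_538 j9_538_11 = true := by decide +kernel

noncomputable def j9_538_12 : List Job := [
  ⟨51, 0x4804222118904a2613c60321a0dc0e0501, 0, 16, 0x0, []⟩]

theorem t9_538_12 : jobs 8 S9 b8_538 j9_538_12 = true := by decide +kernel

noncomputable def j9_538_13 : List Job := [
  ⟨50, 0x44e25118840e0501, 0, 10, 0x0, []⟩]

theorem t9_538_13 : jobs 8 S9 b8_538 j9_538_13 = true := by decide +kernel

noncomputable def j9_538_14 : List Job := [
  ⟨49, 0x4c06232198d06a361bc804222118904a2613c4e25118840e0501, 0, 10, 0x0, []⟩]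

theorem t9_538_14 : jobs 8 S9 b8_538 j9_538_14 = true := by decide +kernel

noncomputable def j9_538_15 : List Job := [
  ⟨48, 0x4804222118904a2613c24150805c0e0501, 0, 16, 0x0, []⟩]

theorem t9_538_15 : jobs 8 S9 b8_538 j9_538_15 = true := by decide +kernel

noncomputable def j9_538_16 : List Job := [
  ⟨47, 0x46435180dc4e251188424150805c0e0501, 0, 22, 0x1603001801001a02001c25001e01002002002225002401002625002825002a01002c25, []⟩]

theorem t9_538_16 : jobs 8 S9 b8_538 j9_538_16 = true := by decide +kernel

noncomputable def j9_538_17 : List Job := [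
  ⟨46, 0x46435180dc4e251188424150805c0e0501, 0, 22, 0x1620001801001a20001c20001e01002020002203002401002603002801002a01002c03, []⟩]

theorem t9_538_17 : jobs 8 S9 b8_538 j9_538_17 = true := by decide +kernel

noncomputable def j9_538_18 : List Job := [
  ⟨45, 0x4c06232198d06a361bc804222118904a2613c6837180cc4e251188428170804c0e0501, 0, 34, 0x201000801000a01000c01000e00001001001227001427001601001827001a01002027002601004001, [(6, ⟨3177, 0x810041003100100008010400010003000001, 0x182210c820080200c04⟩)]⟩]

theorem t9_538_18 : jobs 8 S9 b8_538 j9_538_18 = true := by decide +kernel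

noncomputable def j9_538_19 : List Job := [
  ⟨44, 0x4c06232198d06a361bc804222118904a2613c6837180cc4e251188428170804c0e0501, 0, 38, 0x1620001801001a20001c20001e01002020002220002804002e01003001003201003401003601003c01004601, []⟩]

theorem t9_538_19 : jobs 8 S9 b8_538 j9_538_19 = true := by decide +kernel

noncomputable def j9_538_20 : List Job := [
  ⟨43, 0x4140f040340e0501, 0, 8, 0x0, []⟩]

theorem t9_538_20 : jobs 8 S9 b8_538 j9_538_20 = true := by decide +kernel

noncomputable def j9_538_21 : List Job := [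
  ⟨42, 0x4e0723a1d8f07a3e1fc84442513480462413c140d0403c0e0501, 0, 12, 0x0, []⟩]

theorem t9_538_21 : jobs 8 S9 b8_538 j9_538_21 = true := by decide +kernel

noncomputable def j9_538_22 : List Job := [
  ⟨41, 0x4e0723a1d8f07a3e1fc703a1e0fc60321a0dc140f040340e0501, 0, 20, 0x602000e02001202001803, []⟩]

theorem t9_538_22 : jobs 8 S9 b8_538 j9_538_22 = true := by decide +kernel

noncomputable def j9_538_23 : List Job := [
  ⟨40, 0x488462613c80422412c703a1e0fc60321a0dc180f0402c0e0501, 0, 20, 0x204000604000a04001204, []⟩]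

theorem t9_538_23 : jobs 8 S9 b8_538 j9_538_23 = true := by decide +kernel

noncomputable def j9_538_24 : List Job := [
  ⟨39, 0x4783f1c0ec0e0501, 0, 8, 0x0, []⟩]

theorem t9_538_24 : jobs 8 S9 b8_538 j9_538_24 = true := by decide +kernel

noncomputable def j9_538_25 : List Job := [
  ⟨38, 0x4783f1c0ec0e0501, 0, 8, 0x0, []⟩]

theorem t9_538_25 : jobs 8 S9 b8_538 j9_538_25 = true := by decide +kernel

noncomputable def j9_538_26 : List Job := [
  ⟨37, 0x4e0723a1d8f07a3e1fc84442513480462413c743f1c0f40e0501, 0, 20, 0x1405001c05002405, []⟩]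

theorem t9_538_26 : jobs 8 S9 b8_538 j9_538_26 = true := by decide +kernel

noncomputable def j9_538_27 : List Job := [
  ⟨36, 0x4e0723a1d8f07a3e1fc84442513480462413c743f1c0f40e0501, 0, 16, 0x1405001c05, []⟩]

theorem t9_538_27 : jobs 8 S9 b8_538 j9_538_27 = true := by decide +kernel

noncomputable def j9_538_28 : List Job := [
  ⟨35, 0x4e0723a1d8f07a3e1fc60321a0dc0e0501, 0, 8, 0x0, []⟩]

theorem t9_538_28 : jobs 8 S9 b8_538 j9_538_28 = true := by decide +kernel

noncomputable def j9_538_29 : List Job := [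
  ⟨34, 0x4e0723a1d8f07a3e1fc60321a0dc0e0501, 0, 8, 0x0, []⟩]

theorem t9_538_29 : jobs 8 S9 b8_538 j9_538_29 = true := by decide +kernel

noncomputable def j9_538_30 : List Job := [
  ⟨33, 0x488462613c80422412c60321a0dc0e0501, 0, 8, 0x0, []⟩]

theorem t9_538_30 : jobs 8 S9 b8_538 j9_538_30 = true := by decide +kernel

noncomputable def j9_538_31 : List Job := [
  ⟨32, 0x488462613c80422412c60321a0dc0e0501, 0, 8, 0x0, []⟩]

theorem t9_538_31 : jobs 8 S9 b8_538 j9_538_31 = true := by decide +kernel

noncomputable def j9_538_32 : List Job := [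
  ⟨31, 0x4804222118904a2613c140f040340e0501, 0, 8, 0x0, []⟩]

theorem t9_538_32 : jobs 8 S9 b8_538 j9_538_32 = true := by decide +kernel

noncomputable def j9_538_33 : List Job := [
  ⟨30, 0x4542f140b44e2511884140f040340e0501, 0, 22, 0x223000401000622000822000a01000c23000e02001001001203001402001601001803, []⟩]

theorem t9_538_33 : jobs 8 S9 b8_538 j9_538_33 = true := by decide +kernel

noncomputable def j9_538_34 : List Job := [
  ⟨29, 0x4c06232198d06a361bc804222118904a2613c582f140ac4e2511884180f0402c0e0501, 0, 22, 0x200000800000e24001001001425001601, [(3, ⟨3176, 0x44805d0248004000580040004000408001, 0x1882e090200b0200802⟩), (0, ⟨3175, 0x44805d0248004000580040004000408001, 0x1882e090200b0200802⟩)]⟩]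

theorem t9_538_34 : jobs 8 S9 b8_538 j9_538_34 = true := by decide +kernel

noncomputable def j9_538_35 : List Job := [
  ⟨28, 0x4804222118904a2613c542f140b40e0501, 0, 8, 0x0, []⟩]

theorem t9_538_35 : jobs 8 S9 b8_538 j9_538_35 = true := by decide +kernel

noncomputable def j9_538_36 : List Job := [
  ⟨27, 0x44e25118840e0501, 0, 5, 0x0, []⟩]

theorem t9_538_36 : jobs 8 S9 b8_538 j9_538_36 = true := by decide +kernel

noncomputable def j9_538_37 : List Job := [
  ⟨26, 0x44e25118840e0501, 0, 5, 0x0, []⟩]

theorem t9_538_37 : jobs 8 S9 b8_538 j9_538_37 = true := by decide +kernel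

noncomputable def j9_538_38 : List Job := [
  ⟨25, 0x4c06232198d06a361bc804222118904a2613c4e25118840e0501, 0, 11, 0x0, []⟩]

theorem t9_538_38 : jobs 8 S9 b8_538 j9_538_38 = true := by decide +kernel

noncomputable def j9_538_39 : List Job := [
  ⟨24, 0x4c06232198d06a361bc804222118904a2613c4e25118840e0501, 0, 13, 0x0, []⟩]

theorem t9_538_39 : jobs 8 S9 b8_538 j9_538_39 = true := by decide +kernel

noncomputable def j9_538_40 : List Job := [
  ⟨23, 0x4804222118904a2613c542f140b40e0501, 0, 8, 0x0, []⟩]

theorem t9_538_40 : jobs 8 S9 b8_538 j9_538_40 = true := by decide +kernel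

noncomputable def j9_538_41 : List Job := [
  ⟨22, 0x44e25118840e0501, 0, 5, 0x0, []⟩]

theorem t9_538_41 : jobs 8 S9 b8_538 j9_538_41 = true := by decide +kernel

noncomputable def j9_538_42 : List Job := [
  ⟨21, 0x44e25118840e0501, 0, 5, 0x0, []⟩]

theorem t9_538_42 : jobs 8 S9 b8_538 j9_538_42 = true := by decide +kernel

noncomputable def j9_538_43 : List Job := [
  ⟨20, 0x4c06232198d06a361bc804222118904a2613c4e25118840e0501, 0, 13, 0x0, []⟩]

theorem t9_538_43 : jobs 8 S9 b8_538 j9_538_43 = true := by decide +kernel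

noncomputable def j9_538_44 : List Job := [
  ⟨19, 0x4c06232198d06a361bc804222118904a2613c4e25118840e0501, 0, 11, 0x0, []⟩]

theorem t9_538_44 : jobs 8 S9 b8_538 j9_538_44 = true := by decide +kernel

noncomputable def j9_538_45 : List Job := [
  ⟨18, 0x484462513c804424134140f040340e0501, 0, 11, 0x0, []⟩]

theorem t9_538_45 : jobs 8 S9 b8_538 j9_538_45 = true := by decide +kernel

noncomputable def j9_538_46 : List Job := [
  ⟨17, 0x4542f140b44e2511884140f040340e0501, 0, 28, 0xa01000c01000e02001020001201001402001601001801001a01001c02001e01002003002201002401002601, []⟩]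

theorem t9_538_46 : jobs 8 S9 b8_538 j9_538_46 = true := by decide +kernel

noncomputable def j9_538_47 : List Job := [
  ⟨16, 0x4c866361bcc062341ac88462613c80422412c582f140ac4e2511884180f0402c0e0501, 0, 34, 0x201000601000801000a00000e01001000001401001601001a01001c20001e01002204002401002801002a01002c01, [(7, ⟨3174, 0xac016400270010010d000501020101010001, 0x1ac31898200c0280802⟩), (4, ⟨3173, 0xad006400270010000d000501020101010001, 0x1ad31898200c0280802⟩)]⟩]

theorem t9_538_47 : jobs 8 S9 b8_538 j9_538_47 = true := by decide +kernel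

noncomputable def j9_538_48 : List Job := [
  ⟨15, 0x484462513c804424134542f140b40e0501, 0, 20, 0x0, []⟩]

theorem t9_538_48 : jobs 8 S9 b8_538 j9_538_48 = true := by decide +kernel

noncomputable def j9_538_49 : List Job := [
  ⟨14, 0x44e25118840e0501, 0, 13, 0x0, []⟩]

theorem t9_538_49 : jobs 8 S9 b8_538 j9_538_49 = true := by decide +kernel

noncomputable def j9_538_50 : List Job := [
  ⟨13, 0x44e25118840e0501, 0, 13, 0x0, []⟩]

theorem t9_538_50 : jobs 8 S9 b8_538 j9_538_50 = true := by decide +kernel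

noncomputable def j9_538_51 : List Job := [
  ⟨12, 0x4c866361bcc062341ac88462613c80422412c4e25118840e0501, 0, 23, 0x1c06002201002401002606002c01002e01, []⟩]

theorem t9_538_51 : jobs 8 S9 b8_538 j9_538_51 = true := by decide +kernel

noncomputable def j9_538_52 : List Job := [
  ⟨11, 0x4c866361bcc062341ac88462613c80422412c4e25118840e0501, 0, 26, 0xc21000e01001006001620001801001a20001c07002207, []⟩]

theorem t9_538_52 : jobs 8 S9 b8_538 j9_538_52 = true := by decide +kernel

noncomputable def j9_538_53 : List Job := [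
  ⟨10, 0x484462513c804424134140f040340e0501, 0, 9, 0x0, []⟩]

theorem t9_538_53 : jobs 8 S9 b8_538 j9_538_53 = true := by decide +kernel

noncomputable def j9_538_54 : List Job := [
  ⟨9, 0x4542f140b44e2511884140f040340e0501, 0, 26, 0x801000a01000c20000e20001001001202001401001601001801001a02001c01001e03002001002201002401, []⟩]

theorem t9_538_54 : jobs 8 S9 b8_538 j9_538_54 = true := by decide +kernel

noncomputable def j9_538_55 : List Job := [
  ⟨8, 0x4c866361bcc062341ac88462613c80422412c582f140ac4e2511884180f0402c0e0501, 0, 32, 0x201000401000601000800000c01000e00001201001401001601001801001a20001c01002004002201002601002801002a01003c01003e01004001, [(6, ⟨3172, 0x920040002200100008000400020001000001, 0x1922008820080200802⟩), (3, ⟨3171, 0x920040002200100008000400020001000001, 0x1922008820080200802⟩)]⟩]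

theorem t9_538_55 : jobs 8 S9 b8_538 j9_538_55 = true := by decide +kernel

noncomputable def j9_538_56 : List Job := [
  ⟨7, 0x484462513c804424134542f140b40e0501, 0, 14, 0x0, []⟩]

theorem t9_538_56 : jobs 8 S9 b8_538 j9_538_56 = true := by decide +kernel

noncomputable def j9_538_57 : List Job := [
  ⟨6, 0x44e25118840e0501, 0, 10, 0x0, []⟩]

theorem t9_538_57 : jobs 8 S9 b8_538 j9_538_57 = true := by decide +kernel

noncomputable def j9_538_58 : List Job := [
  ⟨5, 0x44e25118840e0501, 0, 10, 0x0, []⟩]

theorem t9_538_58 : jobs 8 S9 b8_538 j9_538_58 = true := by decide +kernel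

noncomputable def j9_538_59 : List Job := [
  ⟨4, 0x4c866361bcc062341ac88462613c80422412c4e25118840e0501, 0, 22, 0x1606001c06002001002201002406002a01002c01, []⟩]

theorem t9_538_59 : jobs 8 S9 b8_538 j9_538_59 = true := by decide +kernel

noncomputable def j9_538_60 : List Job := [
  ⟨3, 0x4c866361bcc062341ac88462613c80422412c4e25118840e0501, 0, 21, 0x1600001801001a00001c07002220002401002607, [(12, ⟨3170, 0x8a0042002400100008010401020001000001, 0x1882109420080200802⟩), (10, ⟨3169, 0x8a0142002400100008000401020001000001, 0x1882109420080200802⟩)]⟩]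

theorem t9_538_60 : jobs 8 S9 b8_538 j9_538_60 = true := by decide +kernel

noncomputable def j9_538_61 : List Job := [
  ⟨2, 0x43e1d0d8642e15098441e0d058240e0501, 0, 23, 0x401000a10000c01000e10001001001401001801001c10001e01002010002401002810002a01002e01, []⟩]

theorem t9_538_61 : jobs 8 S9 b8_538 j9_538_61 = true := by decide +kernel

theorem d9_538 : Dn 8 S9 b8_538 := dn_of (Js := j9_538_0 ++ (j9_538_1 ++ (j9_538_2 ++ (j9_538_3 ++ (j9_538_4 ++ (j9_538_5 ++ (j9_538_6 ++ (j9_538_7 ++ (j9_538_8 ++ (j9_538_9 ++ (j9_538_10 ++ (j9_538_11 ++ (j9_538_12 ++ (j9_538_13 ++ (j9_538_14 ++ (j9_538_15 ++ (j9_538_16 ++ (j9_538_17 ++ (j9_538_18 ++ (j9_538_19 ++ (j9_538_20 ++ (j9_538_21 ++ (j9_538_22 ++ (j9_538_23 ++ (j9_538_24 ++ (j9_538_25 ++ (j9_538_26 ++ (j9_538_27 ++ (j9_538_28 ++ (j9_538_29 ++ (j9_538_30 ++ (j9_538_31 ++ (j9_538_32 ++ (j9_538_33 ++ (j9_538_34 ++ (j9_538_35 ++ (j9_538_36 ++ (j9_538_37 ++ (j9_538_38 ++ (j9_538_39 ++ (j9_538_40 ++ (j9_538_41 ++ (j9_538_42 ++ (j9_538_43 ++ (j9_538_44 ++ (j9_538_45 ++ (j9_538_46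 ++ (j9_538_47 ++ (j9_538_48 ++ (j9_538_49 ++ (j9_538_50 ++ (j9_538_51 ++ (j9_538_52 ++ (j9_538_53 ++ (j9_538_54 ++ (j9_538_55 ++ (j9_538_56 ++ (j9_538_57 ++ (j9_538_58 ++ (j9_538_59 ++ (j9_538_60 ++ (j9_538_61 ++ []))))))))))))))))))))))))))))))))))))))))))))))))))))))))))))))
  (jobs_append t9_538_0 <| jobs_append t9_538_1 <| jobs_append t9_538_2 <| jobs_append t9_538_3 <| jobs_append t9_538_4 <| jobs_append t9_538_5 <| jobs_append t9_538_6 <| jobs_append t9_538_7 <| jobs_append t9_538_8 <| jobs_append t9_538_9 <| jobs_append t9_538_10 <| jobs_append t9_538_11 <| jobs_append t9_538_12 <| jobs_append t9_538_13 <| jobs_append t9_538_14 <| jobs_append t9_538_15 <| jobs_append t9_538_16 <| jobs_append t9_538_17 <| jobs_append t9_538_18 <| jobs_append t9_538_19 <| jobs_append t9_538_20 <| jobs_append t9_538_21 <| jobs_append t9_538_22 <| jobs_append t9_538_23 <| jobs_append t9_538_24 <| jobs_append t9_538_25 <| jobs_append t9_538_26 <| jobs_append t9_538_27 <| jobs_append t9_538_28 <| jobs_append t9_538_29 <| jobs_append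 t9_538_30 <| jobs_append t9_538_31 <| jobs_append t9_538_32 <| jobs_append t9_538_33 <| jobs_append t9_538_34 <| jobs_append t9_538_35 <| jobs_append t9_538_36 <| jobs_append t9_538_37 <| jobs_append t9_538_38 <| jobs_append t9_538_39 <| jobs_append t9_538_40 <| jobs_append t9_538_41 <| jobs_append t9_538_42 <| jobs_append t9_538_43 <| jobs_append t9_538_44 <| jobs_append t9_538_45 <| jobs_append t9_538_46 <| jobs_append t9_538_47 <| jobs_append t9_538_48 <| jobs_append t9_538_49 <| jobs_append t9_538_50 <| jobs_append t9_538_51 <| jobs_append t9_538_52 <| jobs_append t9_538_53 <| jobs_append t9_538_54 <| jobs_append t9_538_55 <| jobs_append t9_538_56 <| jobs_append t9_538_57 <| jobs_append t9_538_58 <| jobs_append t9_538_59 <| jobs_append t9_538_60 <| jobs_append t9_538_61 <| List.forall_mem_nil _) (by decide +kernel)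

noncomputable def j9_539_0 : List Job := [
  ⟨63, 0x4c06232198d06a361b8e0723a1d8f07a3e1fc804222118904a26138a0522a158b05a2e17c6e35198c40e0501, 0, 9, 0x401, []⟩]

theorem t9_539_0 : jobs 8 S9 b8_539 j9_539_0 = true := by decide +kernel

noncomputable def j9_539_1 : List Job := [
  ⟨62, 0x4c06232198d06a361b8e0723a1d8f07a3e1fc804222118904a26138a0522a158b05a2e17c6e35198c40e0501, 0, 11, 0x401, []⟩]

theorem t9_539_1 : jobs 8 S9 b8_539 j9_539_1 = true := by decide +kernel

noncomputable def j9_539_2 : List Job := [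
  ⟨61, 0x4804222118904a26138a0522a158b05a2e17c542d140bc0e0501, 0, 8, 0x0, []⟩]

theorem t9_539_2 : jobs 8 S9 b8_539 j9_539_2 = true := by decide +kernel

noncomputable def j9_539_3 : List Job := [
  ⟨60, 0x46e35198c40e0501, 0, 6, 0x0, []⟩]

theorem t9_539_3 : jobs 8 S9 b8_539 j9_539_3 = true := by decide +kernel

noncomputable def j9_539_4 : List Job := [
  ⟨59, 0x46e35198c40e0501, 0, 6, 0x0, []⟩]

theorem t9_539_4 : jobs 8 S9 b8_539 j9_539_4 = true := by decide +kernel

noncomputable def j9_539_5 : List Job := [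
  ⟨58, 0x4c06232198d06a361b8e0723a1d8f07a3e1fc804222118904a26138a0522a158b05a2e17c6e35198c40e0501, 0, 12, 0x1401, []⟩]

theorem t9_539_5 : jobs 8 S9 b8_539 j9_539_5 = true := by decide +kernel

noncomputable def j9_539_6 : List Job := [
  ⟨57, 0x4c06232198d06a361b8e0723a1d8f07a3e1fc804222118904a26138a0522a158b05a2e17c6e35198c40e0501, 0, 14, 0x201, []⟩]

theorem t9_539_6 : jobs 8 S9 b8_539 j9_539_6 = true := by decide +kernel

noncomputable def j9_539_7 : List Job := [
  ⟨56, 0x43e1d0d8642e15098441e0d058240e0501, 0, 23, 0x401000a01000e01001001001201001601001810001a01001c01001e01002001002201002401002601002801002a01002c10002e01, []⟩]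

theorem t9_539_7 : jobs 8 S9 b8_539 j9_539_7 = true := by decide +kernel

noncomputable def j9_539_8 : List Job := [
  ⟨51, 0x4804222118904a26138a0522a158b05a2e17c4427100940e0501, 0, 4, 0x401000801, []⟩]

theorem t9_539_8 : jobs 8 S9 b8_539 j9_539_8 = true := by decide +kernel

noncomputable def j9_539_9 : List Job := [
  ⟨50, 0x4804222118904a26138a0522a158b05a2e17c4427100940e0501, 0, 6, 0x201000601000a01000c01, []⟩]

theorem t9_539_9 : jobs 8 S9 b8_539 j9_539_9 = true := by decide +kernel

noncomputable def j9_539_10 : List Job := [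
  ⟨45, 0x4804222118904a26138a0522a158b05a2e17c4427100940e0501, 0, 4, 0x401000801, []⟩]

theorem t9_539_10 : jobs 8 S9 b8_539 j9_539_10 = true := by decide +kernel

noncomputable def j9_539_11 : List Job := [
  ⟨44, 0x4804222118904a26138a0522a158b05a2e17c4427100940e0501, 0, 6, 0x201000601000a01000c01, []⟩]

theorem t9_539_11 : jobs 8 S9 b8_539 j9_539_11 = true := by decide +kernel

noncomputable def j9_539_12 : List Job := [
  ⟨43, 0x41e0d058240e0501, 0, 13, 0xc01001201001801, []⟩]

theorem t9_539_12 : jobs 8 S9 b8_539 j9_539_12 = true := by decide +kernel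

noncomputable def j9_539_13 : List Job := [
  ⟨38, 0x46437180d40e0501, 0, 2, 0x0, []⟩]

theorem t9_539_13 : jobs 8 S9 b8_539 j9_539_13 = true := by decide +kernel

noncomputable def j9_539_14 : List Job := [
  ⟨37, 0x46437180d40e0501, 0, 8, 0x0, []⟩]

theorem t9_539_14 : jobs 8 S9 b8_539 j9_539_14 = true := by decide +kernel

noncomputable def j9_539_15 : List Job := [
  ⟨32, 0x44e25118840e0501, 0, 2, 0x0, []⟩]

theorem t9_539_15 : jobs 8 S9 b8_539 j9_539_15 = true := by decide +kernel

noncomputable def j9_539_16 : List Job := [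
  ⟨31, 0x44e25118840e0501, 0, 6, 0x0, []⟩]

theorem t9_539_16 : jobs 8 S9 b8_539 j9_539_16 = true := by decide +kernel

noncomputable def j9_539_17 : List Job := [
  ⟨30, 0x44e25118840e0501, 0, 2, 0x201000401, []⟩]

theorem t9_539_17 : jobs 8 S9 b8_539 j9_539_17 = true := by decide +kernel

noncomputable def j9_539_18 : List Job := [
  ⟨29, 0x44e25118840e0501, 0, 2, 0x201000401, []⟩]

theorem t9_539_18 : jobs 8 S9 b8_539 j9_539_18 = true := by decide +kernel

noncomputable def j9_539_19 : List Job := [
  ⟨28, 0x4542f140b40e0501, 0, 5, 0x0, []⟩]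

theorem t9_539_19 : jobs 8 S9 b8_539 j9_539_19 = true := by decide +kernel

noncomputable def j9_539_20 : List Job := [
  ⟨27, 0x4542f140b40e0501, 0, 5, 0x0, []⟩]

theorem t9_539_20 : jobs 8 S9 b8_539 j9_539_20 = true := by decide +kernel

noncomputable def j9_539_21 : List Job := [
  ⟨26, 0x44e25118840e0501, 0, 6, 0xc01, []⟩]

theorem t9_539_21 : jobs 8 S9 b8_539 j9_539_21 = true := by decide +kernel

noncomputable def j9_539_22 : List Job := [
  ⟨25, 0x44e25118840e0501, 0, 13, 0x1601001801001a01, []⟩]

theorem t9_539_22 : jobs 8 S9 b8_539 j9_539_22 = true := by decide +kernel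

noncomputable def j9_539_23 : List Job := [
  ⟨24, 0x44e25118840e0501, 0, 4, 0x0, []⟩]

theorem t9_539_23 : jobs 8 S9 b8_539 j9_539_23 = true := by decide +kernel

noncomputable def j9_539_24 : List Job := [
  ⟨23, 0x44e25118840e0501, 0, 4, 0x0, []⟩]

theorem t9_539_24 : jobs 8 S9 b8_539 j9_539_24 = true := by decide +kernel

noncomputable def j9_539_25 : List Job := [
  ⟨22, 0x4542f140b40e0501, 0, 4, 0x0, []⟩]

theorem t9_539_25 : jobs 8 S9 b8_539 j9_539_25 = true := by decide +kernel

noncomputable def j9_539_26 : List Job := [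
  ⟨21, 0x4542f140b40e0501, 0, 4, 0x0, []⟩]

theorem t9_539_26 : jobs 8 S9 b8_539 j9_539_26 = true := by decide +kernel

noncomputable def j9_539_27 : List Job := [
  ⟨20, 0x44e25118840e0501, 0, 5, 0xa01, []⟩]

theorem t9_539_27 : jobs 8 S9 b8_539 j9_539_27 = true := by decide +kernel

noncomputable def j9_539_28 : List Job := [
  ⟨19, 0x44e25118840e0501, 0, 12, 0x1401001601001801, []⟩]

theorem t9_539_28 : jobs 8 S9 b8_539 j9_539_28 = true := by decide +kernel

noncomputable def j9_539_29 : List Job := [
  ⟨18, 0x44e25118840e0501, 0, 3, 0x0, []⟩]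

theorem t9_539_29 : jobs 8 S9 b8_539 j9_539_29 = true := by decide +kernel

noncomputable def j9_539_30 : List Job := [
  ⟨17, 0x44e25118840e0501, 0, 3, 0x0, []⟩]

theorem t9_539_30 : jobs 8 S9 b8_539 j9_539_30 = true := by decide +kernel

noncomputable def j9_539_31 : List Job := [
  ⟨16, 0x41e0d058240e0501, 0, 6, 0x801000a01000c01, []⟩]

theorem t9_539_31 : jobs 8 S9 b8_539 j9_539_31 = true := by decide +kernel

noncomputable def j9_539_32 : List Job := [
  ⟨14, 0x4542f140b40e0501, 0, 2, 0x0, []⟩]

theorem t9_539_32 : jobs 8 S9 b8_539 j9_539_32 = true := by decide +kernel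

noncomputable def j9_539_33 : List Job := [
  ⟨13, 0x4542f140b40e0501, 0, 2, 0x0, []⟩]

theorem t9_539_33 : jobs 8 S9 b8_539 j9_539_33 = true := by decide +kernel

noncomputable def j9_539_34 : List Job := [
  ⟨12, 0x44e25118840e0501, 0, 2, 0x0, []⟩]

theorem t9_539_34 : jobs 8 S9 b8_539 j9_539_34 = true := by decide +kernel

noncomputable def j9_539_35 : List Job := [
  ⟨11, 0x44e25118840e0501, 0, 7, 0x0, []⟩]

theorem t9_539_35 : jobs 8 S9 b8_539 j9_539_35 = true := by decide +kernel

noncomputable def j9_539_36 : List Job := [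
  ⟨10, 0x4502a160bc0e0501, 0, 8, 0x0, []⟩]

theorem t9_539_36 : jobs 8 S9 b8_539 j9_539_36 = true := by decide +kernel

noncomputable def j9_539_37 : List Job := [
  ⟨9, 0x4783f1c0ec0e0501, 0, 8, 0x0, []⟩]

theorem t9_539_37 : jobs 8 S9 b8_539 j9_539_37 = true := by decide +kernel

noncomputable def j9_539_38 : List Job := [
  ⟨8, 0x4783f1c0ec0e0501, 0, 8, 0x0, []⟩]

theorem t9_539_38 : jobs 8 S9 b8_539 j9_539_38 = true := by decide +kernel

noncomputable def j9_539_39 : List Job := [
  ⟨7, 0x44e25118840e0501, 0, 5, 0x0, []⟩]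

theorem t9_539_39 : jobs 8 S9 b8_539 j9_539_39 = true := by decide +kernel

noncomputable def j9_539_40 : List Job := [
  ⟨6, 0x4a0522a158b05a2e17c804222118904a2613c743f1c0f40e0501, 0, 20, 0x0, []⟩]

theorem t9_539_40 : jobs 8 S9 b8_539 j9_539_40 = true := by decide +kernel

noncomputable def j9_539_41 : List Job := [
  ⟨5, 0x44e25118840e0501, 0, 13, 0x0, []⟩]

theorem t9_539_41 : jobs 8 S9 b8_539 j9_539_41 = true := by decide +kernel

noncomputable def j9_539_42 : List Job := [
  ⟨4, 0x44e25118840e0501, 0, 13, 0x0, []⟩]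

theorem t9_539_42 : jobs 8 S9 b8_539 j9_539_42 = true := by decide +kernel

noncomputable def j9_539_43 : List Job := [
  ⟨3, 0x4a0522a158b05a2e17c804222118904a2613c743f1c0f40e0501, 0, 14, 0x0, []⟩]

theorem t9_539_43 : jobs 8 S9 b8_539 j9_539_43 = true := by decide +kernel

noncomputable def j9_539_44 : List Job := [
  ⟨2, 0x44e25118840e0501, 0, 10, 0x0, []⟩]

theorem t9_539_44 : jobs 8 S9 b8_539 j9_539_44 = true := by decide +kernel

noncomputable def j9_539_45 : List Job := [
  ⟨1, 0x44e25118840e0501, 0, 10, 0x0, []⟩]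

theorem t9_539_45 : jobs 8 S9 b8_539 j9_539_45 = true := by decide +kernel

noncomputable def j9_539_46 : List Job := [
  ⟨0, 0x4e0723a1d8f07a3e1fcc06232198d06a361bca0522a158b05a2e17c804222118904a2613c4e25118840e0501, 0, 23, 0x2600002c00, [(21, ⟨3179, 0x920152012200100008000401020103000001, 0x1922908820080200806⟩), (18, ⟨3180, 0x8a0040003801100108000401020103000001, 0x188200e820080200806⟩)]⟩]

theorem t9_539_46 : jobs 8 S9 b8_539 j9_539_46 = true := by decide +kernel

theorem d9_539 : Dn 8 S9 b8_539 := dn_of (Js := j9_539_0 ++ (j9_539_1 ++ (j9_539_2 ++ (j9_539_3 ++ (j9_539_4 ++ (j9_539_5 ++ (j9_539_6 ++ (j9_539_7 ++ (j9_539_8 ++ (j9_539_9 ++ (j9_539_10 ++ (j9_539_11 ++ (j9_539_12 ++ (j9_539_13 ++ (j9_539_14 ++ (j9_539_15 ++ (j9_539_16 ++ (j9_539_17 ++ (j9_539_18 ++ (j9_539_19 ++ (j9_539_20 ++ (j9_539_21 ++ (j9_539_22 ++ (j9_539_23 ++ (j9_539_24 ++ (j9_539_25 ++ (j9_539_26 ++ (j9_539_27 ++ (j9_539_28 ++ (j9_539_29 ++ (j9_539_30 ++ (j9_539_31 ++ (j9_539_32 ++ (j9_539_33 ++ (j9_539_34 ++ (j9_539_35 ++ (j9_539_36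 ++ (j9_539_37 ++ (j9_539_38 ++ (j9_539_39 ++ (j9_539_40 ++ (j9_539_41 ++ (j9_539_42 ++ (j9_539_43 ++ (j9_539_44 ++ (j9_539_45 ++ (j9_539_46 ++ [])))))))))))))))))))))))))))))))))))))))))))))))
  (jobs_append t9_539_0 <| jobs_append t9_539_1 <| jobs_append t9_539_2 <| jobs_append t9_539_3 <| jobs_append t9_539_4 <| jobs_append t9_539_5 <| jobs_append t9_539_6 <| jobs_append t9_539_7 <| jobs_append t9_539_8 <| jobs_append t9_539_9 <| jobs_append t9_539_10 <| jobs_append t9_539_11 <| jobs_append t9_539_12 <| jobs_append t9_539_13 <| jobs_append t9_539_14 <| jobs_append t9_539_15 <| jobs_append t9_539_16 <| jobs_append t9_539_17 <| jobs_append t9_539_18 <| jobs_append t9_539_19 <| jobs_append t9_539_20 <| jobs_append t9_539_21 <| jobs_append t9_539_22 <| jobs_append t9_539_23 <| jobs_append t9_539_24 <| jobs_append t9_539_25 <| jobs_append t9_539_26 <| jobs_append t9_539_27 <| jobs_append t9_539_28 <| jobs_append t9_539_29 <| jobs_append t9_539_30 <| jobs_append t9_539_31 <| jobs_append t9_539_32 <| jobs_append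 t9_539_33 <| jobs_append t9_539_34 <| jobs_append t9_539_35 <| jobs_append t9_539_36 <| jobs_append t9_539_37 <| jobs_append t9_539_38 <| jobs_append t9_539_39 <| jobs_append t9_539_40 <| jobs_append t9_539_41 <| jobs_append t9_539_42 <| jobs_append t9_539_43 <| jobs_append t9_539_44 <| jobs_append t9_539_45 <| jobs_append t9_539_46 <| List.forall_mem_nil _) (by decide +kernel)

noncomputable def j9_540_0 : List Job := [
  ⟨63, 0x5008242219108a4623940a25229950aa562bc381f0c06c28170804c180f0402c0e0501, 0, 56, 0x204000404000803000a02000c06001004, []⟩]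

theorem t9_540_0 : jobs 8 S9 b8_540 j9_540_0 = true := by decide +kernel

noncomputable def j9_540_1 : List Job := [
  ⟨62, 0x5008242219108a4623940a25229950aa562bc8c4e2b174884c2a17c844a2916480482816c381f0c06c28170804c180f0402c0e0501, 0, 72, 0x2204002604002a05002e05, []⟩]

theorem t9_540_1 : jobs 8 S9 b8_540 j9_540_1 = true := by decide +kernel

noncomputable def j9_540_2 : List Job := [
  ⟨61, 0x504864523944a6542b500844423140a4552bc180f0402c0e0501, 0, 56, 0x206000406000a04000c06, []⟩]

theorem t9_540_2 : jobs 8 S9 b8_540 j9_540_2 = true := by decide +kernel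

noncomputable def j9_540_3 : List Job := [
  ⟨60, 0x504864523944a6542b500844423140a4552bc884626138a8562e17c804224128a0522c16c180f0402c0e0501, 0, 56, 0x206000402000a04000c04, []⟩]

theorem t9_540_3 : jobs 8 S9 b8_540 j9_540_3 = true := by decide +kernel

noncomputable def j9_540_4 : List Job := [
  ⟨59, 0x504844523144a4552b500864423940a6542bc1e0d058240e0501, 0, 40, 0x206000406000606000803000a06000c04000e06001006, []⟩]

theorem t9_540_4 : jobs 8 S9 b8_540 j9_540_4 = true := by decide +kernel

noncomputable def j9_540_5 : List Job := [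
  ⟨58, 0x504864523944a6552bd00844423140a4542b41e0d058240e0501, 0, 40, 0x206000402000606000802000a02000c04000e02001006, []⟩]

theorem t9_540_5 : jobs 8 S9 b8_540 j9_540_5 = true := by decide +kernel

noncomputable def j9_540_6 : List Job := [
  ⟨57, 0x4381f0c06c2e1509844180f0402c0e0501, 0, 40, 0x202000403000602000804003202003403003602003803, []⟩]

theorem t9_540_6 : jobs 8 S9 b8_540 j9_540_6 = true := by decide +kernel

noncomputable def j9_540_7 : List Job := [
  ⟨56, 0x524964d27964b65c2f520944c27160b45d2fd04864523944a6542b500844423140a4552bc381f0c06c2e1509844180f0402c0e0501, 0, 56, 0x2205002404002605002804002a01002c01002e01003001003204003414003605003804003a01003c01003e01004001004204004404004605004804005a02005c04005e05006003, []⟩]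

theorem t9_540_7 : jobs 8 S9 b8_540 j9_540_7 = true := by decide +kernel

noncomputable def j9_540_8 : List Job := [
  ⟨55, 0x4884626138a8562e17c804224128a0522c16c381f0c06c2e1509844180f0402c0e0501, 0, 40, 0x204000606003204003605, []⟩]

theorem t9_540_8 : jobs 8 S9 b8_540 j9_540_8 = true := by decide +kernel

noncomputable def j9_540_9 : List Job := [
  ⟨54, 0x524964d27964b65c2f520944c27160b45d2fd04864523944a6542b500844423140a4552bc884626138a8562e17c804224128a0522c16c381f0c06c2e1509844180f0402c0e0501, 0, 56, 0x200000401000600000801001a04001e07004204004601005a07005e06, [(2, ⟨3229, 0x880057002200130108000500020001000001, 0x1882b88826080280802⟩), (0, ⟨3228, 0x880057002200130108000500020001000001, 0x1882b88826080280802⟩)]⟩]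

theorem t9_540_9 : jobs 8 S9 b8_540 j9_540_9 = true := by decide +kernel

noncomputable def j9_540_10 : List Job := [
  ⟨53, 0x43e1d0d8640e0501, 0, 27, 0x204000402000607000802000a02000c07, []⟩]

theorem t9_540_10 : jobs 8 S9 b8_540 j9_540_10 = true := by decide +kernel

noncomputable def j9_540_11 : List Job := [
  ⟨52, 0x520924a259309a4e27960b25a2d970ba5e2fd008242219108a4623940a25229950aa562bc3e1d0d8640e0501, 0, 46, 0x204000402000a02000c04000e04001002001204001406, []⟩]

theorem t9_540_11 : jobs 8 S9 b8_540 j9_540_11 = true := by decide +kernel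

noncomputable def j9_540_12 : List Job := [
  ⟨51, 0x6110a8643a311a8e47a512a964ba713a9e4fe01028241a21128a45a41229249a61329a4dd20924a259309a4e27960b25a2d970ba5e2fd008242219108a4623940a25229950aa562bc3e1d0d8640e0501, 0, 27, 0x204000406000a02000c06, []⟩]

theorem t9_540_12 : jobs 8 S9 b8_540 j9_540_12 = true := by decide +kernel

noncomputable def j9_540_13 : List Job := [
  ⟨50, 0x4844625138a4562d17c804424130a0542c1743e1d0d8640e0501, 0, 30, 0x204000603000a06, []⟩]

theorem t9_540_13 : jobs 8 S9 b8_540 j9_540_13 = true := by decide +kernel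

noncomputable def j9_540_14 : List Job := [
  ⟨49, 0x520924a259309a4e27960b25a2d970ba5e2fd008242219108a4623940a25229950aa562bc844625138a4562d17c804424130a0542c1743e1d0d8640e0501, 0, 46, 0x204000a06000e04001205, []⟩]

theorem t9_540_14 : jobs 8 S9 b8_540 j9_540_14 = true := by decide +kernel

noncomputable def j9_540_15 : List Job := [
  ⟨48, 0x6110a8643a311a8e47a512a964ba713a9e4fe01028241a21128a45a41229249a61329a4dd20924a259309a4e27960b25a2d970ba5e2fd008242219108a4623940a25229950aa562bc884626138a8562e17c804224128a0522c16c3e1d0d8640e0501, 0, 48, 0x206000a04003201, []⟩]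

theorem t9_540_15 : jobs 8 S9 b8_540 j9_540_15 = true := by decide +kernel

noncomputable def j9_540_16 : List Job := [
  ⟨47, 0x5008242219108a4623940a25229950aa562bc341f0c0740e0501, 0, 64, 0x1204001604, []⟩]

theorem t9_540_16 : jobs 8 S9 b8_540 j9_540_16 = true := by decide +kernel

noncomputable def j9_540_17 : List Job := [
  ⟨46, 0x6110a8643a311a8e47a512a964ba713a9e4fe01028241a21128a45a41229249a61329a4dd008242219108a4623940a25229950aa562bc341f0c0740e0501, 0, 64, 0x1204001604, []⟩]

theorem t9_540_17 : jobs 8 S9 b8_540 j9_540_17 = true := by decide +kernel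

noncomputable def j9_540_18 : List Job := [
  ⟨45, 0x5008242219108a4623940a25229950aa562bc844625138a4562d17c804424130a0542c174341f0c0740e0501, 0, 64, 0x1204001604, []⟩]

theorem t9_540_18 : jobs 8 S9 b8_540 j9_540_18 = true := by decide +kernel

noncomputable def j9_540_19 : List Job := [
  ⟨44, 0x6110a8643a311a8e47a512a964ba713a9e4fe01028241a21128a45a41229249a61329a4dd008242219108a4623940a25229950aa562bc884626138a8562e17c804224128a0522c16c381f0c06c0e0501, 0, 64, 0x1206001602, []⟩]

theorem t9_540_19 : jobs 8 S9 b8_540 j9_540_19 = true := by decide +kernel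

noncomputable def j9_540_20 : List Job := [
  ⟨43, 0x601028241a21128a45a41229249a61329a4dd008242219108a4623940a25229950aa562bc341f0c0740e0501, 0, 50, 0x1202001602001a02, []⟩]

theorem t9_540_20 : jobs 8 S9 b8_540 j9_540_20 = true := by decide +kernel

noncomputable def j9_540_21 : List Job := [
  ⟨42, 0x601028241a21128a45a41229249a61329a4dd008242219108a4623940a25229950aa562bc884626138a8562e17c804224128a0522c16c381f0c06c0e0501, 0, 54, 0x1204001606001a06, []⟩]

theorem t9_540_21 : jobs 8 S9 b8_540 j9_540_21 = true := by decide +kernel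

noncomputable def j9_540_22 : List Job := [
  ⟨41, 0x41e0d058240e0501, 0, 46, 0x204000402000603000805001203001402, []⟩]

theorem t9_540_22 : jobs 8 S9 b8_540 j9_540_22 = true := by decide +kernel

noncomputable def j9_540_23 : List Job := [
  ⟨40, 0x6110a8643a311a8e47a512a964ba713a9e4fe01028241a21128a45a41229249a61329a4dc1e0d058240e0501, 0, 46, 0x204000402000604000802001205001402, []⟩]

theorem t9_540_23 : jobs 8 S9 b8_540 j9_540_23 = true := by decide +kernel

noncomputable def j9_540_24 : List Job := [
  ⟨39, 0x520924a259309a4e27960b25a2d970ba5e2fd008242219108a4623940a25229950aa562bc1e0d058240e0501, 0, 46, 0x204000405, []⟩]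

theorem t9_540_24 : jobs 8 S9 b8_540 j9_540_24 = true := by decide +kernel

noncomputable def j9_540_25 : List Job := [
  ⟨38, 0x6110a8643a311a8e47a512a964ba713a9e4fe01028241a21128a45a41229249a61329a4dd20924a259309a4e27960b25a2d970ba5e2fd008242219108a4623940a25229950aa562bc1e0d058240e0501, 0, 46, 0x204000402, []⟩]

theorem t9_540_25 : jobs 8 S9 b8_540 j9_540_25 = true := by decide +kernel

noncomputable def j9_540_26 : List Job := [
  ⟨37, 0x4844625138a4562d17c804424130a0542c1741e0d058240e0501, 0, 46, 0x204000607001207, []⟩]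

theorem t9_540_26 : jobs 8 S9 b8_540 j9_540_26 = true := by decide +kernel

noncomputable def j9_540_27 : List Job := [
  ⟨36, 0x6110a8643a311a8e47a512a964ba713a9e4fe01028241a21128a45a41229249a61329a4dc844625138a4562d17c804424130a0542c1741e0d058240e0501, 0, 46, 0x204000605001204, []⟩]

theorem t9_540_27 : jobs 8 S9 b8_540 j9_540_27 = true := by decide +kernel

noncomputable def j9_540_28 : List Job := [
  ⟨35, 0x520924a259309a4e27960b25a2d970ba5e2fd008242219108a4623940a25229950aa562bc844625138a4562d17c804424130a0542c1741e0d058240e0501, 0, 46, 0x207, []⟩]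

theorem t9_540_28 : jobs 8 S9 b8_540 j9_540_28 = true := by decide +kernel

noncomputable def j9_540_29 : List Job := [
  ⟨34, 0x6110a8643a311a8e47a512a964ba713a9e4fe01028241a21128a45a41229249a61329a4dd20924a259309a4e27960b25a2d970ba5e2fd008242219108a4623940a25229950aa562bc884626138a8562e17c804224128a0522c16c1e0d058240e0501, 0, 73, 0x207006800, [(51, ⟨3227, 0x120004f00960004c00100004000100404000001, 0x191270b426080200802⟩)]⟩]

theorem t9_540_29 : jobs 8 S9 b8_540 j9_540_29 = true := by decide +kernel

noncomputable def j9_540_30 : List Job := [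
  ⟨33, 0x601028241a21128a45a41229249a61329a4dc140f040340e0501, 0, 64, 0x204000a04001402001802, []⟩]

theorem t9_540_30 : jobs 8 S9 b8_540 j9_540_30 = true := by decide +kernel

noncomputable def j9_540_31 : List Job := [
  ⟨32, 0x601028241a21128a45a41229249a61329a4dd20924a259309a4e27960b25a2d970ba5e2fd008242219108a4623940a25229950aa562bc140f040340e0501, 0, 64, 0x204000a04001402001802, []⟩]

theorem t9_540_31 : jobs 8 S9 b8_540 j9_540_31 = true := by decide +kernel

noncomputable def j9_540_32 : List Job := [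
  ⟨31, 0x601028241a21128a45a41229249a61329a4dc844625138a4562d17c804424130a0542c174140f040340e0501, 0, 64, 0x204000a04001207001607, []⟩]

theorem t9_540_32 : jobs 8 S9 b8_540 j9_540_32 = true := by decide +kernel

noncomputable def j9_540_33 : List Job := [
  ⟨30, 0x601028241a21128a45a41229249a61329a4dd20924a259309a4e27960b25a2d970ba5e2fd008242219108a4623940a25229950aa562bc884626138a8562e17c804224128a0522c16c180f0402c0e0501, 0, 64, 0x205000a05001204001607, []⟩]

theorem t9_540_33 : jobs 8 S9 b8_540 j9_540_33 = true := by decide +kernel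

noncomputable def j9_540_34 : List Job := [
  ⟨29, 0x601028241a21128a45a41229249a61329a4dd008242219108a4623940a25229950aa562bc341f0c074241708054140f040340e0501, 0, 50, 0x204000605004401004601, []⟩]

theorem t9_540_34 : jobs 8 S9 b8_540 j9_540_34 = true := by decide +kernel

noncomputable def j9_540_35 : List Job := [
  ⟨28, 0x601028241a21128a45a41229249a61329a4dd008242219108a4623940a25229950aa562bc8c4e2b174884c2a17c844a2916480482816c381f0c06c28170804c180f0402c0e0501, 0, 74, 0x2004002402006001006201006601006a01006e01007201, []⟩]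

theorem t9_540_35 : jobs 8 S9 b8_540 j9_540_35 = true := by decide +kernel

noncomputable def j9_540_36 : List Job := [
  ⟨27, 0x601028241a21128a45a41229249a61329a4dd08864623948a6542ad00824422940a2562bc140f040340e0501, 0, 88, 0x204000406000a04000c06, []⟩]

theorem t9_540_36 : jobs 8 S9 b8_540 j9_540_36 = true := by decide +kernel

noncomputable def j9_540_37 : List Job := [
  ⟨26, 0x601028241a21128a45a41229249a61329a4dd04864523944a6542b500844423140a4552bc884626138a8562e17c804224128a0522c16c180f0402c0e0501, 0, 88, 0x202000404000a02000c04, []⟩]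

theorem t9_540_37 : jobs 8 S9 b8_540 j9_540_37 = true := by decide +kernel

noncomputable def j9_540_38 : List Job := [
  ⟨25, 0x508864623948a6562bd00824422940a2542ac1e0d058240e0501, 0, 64, 0x204000402000604000802000a02000c04000e02001004, []⟩]

theorem t9_540_38 : jobs 8 S9 b8_540 j9_540_38 = true := by decide +kernel

noncomputable def j9_540_39 : List Job := [
  ⟨24, 0x6110a8643a311a8e47a512a964ba713a9e4fe01028241a21128a45a41229249a61329a4dd08864623948a6562bd00824422940a2542ac1e0d058240e0501, 0, 64, 0x204000402000604000806000a02000c05000e02001004, []⟩]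

theorem t9_540_39 : jobs 8 S9 b8_540 j9_540_39 = true := by decide +kernel

noncomputable def j9_540_40 : List Job := [
  ⟨23, 0x508864623948a6562bd00824422940a2542ac844625138a4562d17c804424130a0542c1741e0d058240e0501, 0, 64, 0x204000406000604000a06000c04000e06, []⟩]

theorem t9_540_40 : jobs 8 S9 b8_540 j9_540_40 = true := by decide +kernel

noncomputable def j9_540_41 : List Job := [
  ⟨22, 0x601028241a21128a45a41229249a61329a4dc341f0c0742e1509844140f040340e0501, 0, 64, 0x202000405003202003403005a01006201006601007201, []⟩]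

theorem t9_540_41 : jobs 8 S9 b8_540 j9_540_41 = true := by decide +kernel

noncomputable def j9_540_42 : List Job := [
  ⟨21, 0x601028241a21128a45a41229249a61329a4dd28964e27968b65c2ed20924c26960b25e2fd08864623948a6542ad00824422940a2562bc341f0c0742e1509844140f040340e0501, 0, 88, 0x2203002402002603002802003201003402004204004402005a04005c05008a01009201009a01009e0100a20100a601, []⟩]

theorem t9_540_42 : jobs 8 S9 b8_540 j9_540_42 = true := by decide +kernel

noncomputable def j9_540_43 : List Job := [
  ⟨20, 0x601028241a21128a45a41229249a61329a4dc844625138a4562d17c804424130a0542c174341f0c0742e1509844140f040340e0501, 0, 64, 0x205003204005401005801, []⟩]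

theorem t9_540_43 : jobs 8 S9 b8_540 j9_540_43 = true := by decide +kernel

noncomputable def j9_540_44 : List Job := [
  ⟨19, 0x601028241a21128a45a41229249a61329a4dd24964d27964b65c2f520944c27160b45d2fd04864523944a6542b500844423140a4552bc884626138a8562e17c804224128a0522c16c381f0c06c2e1509844180f0402c0e0501, 0, 88, 0x200000600001201001a04004210005201005a03007201007601, [(2, ⟨3226, 0x110005700110004c02100005000100004000001, 0x1882b88826080280802⟩), (0, ⟨3225, 0x110005700110004c02100005000100004000001, 0x1882b88826080280802⟩)]⟩]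

theorem t9_540_44 : jobs 8 S9 b8_540 j9_540_44 = true := by decide +kernel

noncomputable def j9_540_45 : List Job := [
  ⟨17, 0x500824221c80422211c0e0501, 0, 6, 0x0, []⟩]

theorem t9_540_45 : jobs 8 S9 b8_540 j9_540_45 = true := by decide +kernel

noncomputable def j9_540_46 : List Job := [
  ⟨16, 0x500824221c88472010c0e0501, 0, 8, 0x204000405000a04000c05, []⟩]

theorem t9_540_46 : jobs 8 S9 b8_540 j9_540_46 = true := by decide +kernel

noncomputable def j9_540_47 : List Job := [
  ⟨15, 0x48447201140e0501, 0, 2, 0x201000401, []⟩]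

theorem t9_540_47 : jobs 8 S9 b8_540 j9_540_47 = true := by decide +kernel

noncomputable def j9_540_48 : List Job := [
  ⟨14, 0x41e0d058240e0501, 0, 5, 0x401, []⟩]

theorem t9_540_48 : jobs 8 S9 b8_540 j9_540_48 = true := by decide +kernel

noncomputable def j9_540_49 : List Job := [
  ⟨13, 0x4904a2613c80422211c1e0d058240e0501, 0, 14, 0x401000e01001401001a01, []⟩]

theorem t9_540_49 : jobs 8 S9 b8_540 j9_540_49 = true := by decide +kernel

noncomputable def j9_540_50 : List Job := [
  ⟨11, 0x46e35198c40e0501, 0, 2, 0x0, []⟩]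

theorem t9_540_50 : jobs 8 S9 b8_540 j9_540_50 = true := by decide +kernel

noncomputable def j9_540_51 : List Job := [
  ⟨10, 0x46e35198c40e0501, 0, 2, 0x0, []⟩]

theorem t9_540_51 : jobs 8 S9 b8_540 j9_540_51 = true := by decide +kernel

noncomputable def j9_540_52 : List Job := [
  ⟨9, 0x46e35198c40e0501, 0, 3, 0x0, []⟩]

theorem t9_540_52 : jobs 8 S9 b8_540 j9_540_52 = true := by decide +kernel

noncomputable def j9_540_53 : List Job := [
  ⟨8, 0x46e35198c40e0501, 0, 5, 0x0, []⟩]

theorem t9_540_53 : jobs 8 S9 b8_540 j9_540_53 = true := by decide +kernel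

noncomputable def j9_540_54 : List Job := [
  ⟨6, 0x46e35198c40e0501, 0, 2, 0x0, []⟩]

theorem t9_540_54 : jobs 8 S9 b8_540 j9_540_54 = true := by decide +kernel

noncomputable def j9_540_55 : List Job := [
  ⟨5, 0x46e35198c40e0501, 0, 2, 0x0, []⟩]

theorem t9_540_55 : jobs 8 S9 b8_540 j9_540_55 = true := by decide +kernel

noncomputable def j9_540_56 : List Job := [
  ⟨4, 0x46e35198c40e0501, 0, 3, 0x0, []⟩]

theorem t9_540_56 : jobs 8 S9 b8_540 j9_540_56 = true := by decide +kernel

noncomputable def j9_540_57 : List Job := [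
  ⟨3, 0x46e35198c40e0501, 0, 5, 0x0, []⟩]

theorem t9_540_57 : jobs 8 S9 b8_540 j9_540_57 = true := by decide +kernel

noncomputable def j9_540_58 : List Job := [
  ⟨2, 0x4804222118904a26138a0522a158b05a2e17c542d140bc0e0501, 0, 4, 0x0, []⟩]

theorem t9_540_58 : jobs 8 S9 b8_540 j9_540_58 = true := by decide +kernel

noncomputable def j9_540_59 : List Job := [
  ⟨1, 0x46e35198c40e0501, 0, 3, 0x0, []⟩]

theorem t9_540_59 : jobs 8 S9 b8_540 j9_540_59 = true := by decide +kernel

noncomputable def j9_540_60 : List Job := [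
  ⟨0, 0x46e35198c40e0501, 0, 3, 0x0, []⟩]

theorem t9_540_60 : jobs 8 S9 b8_540 j9_540_60 = true := by decide +kernel

theorem d9_540 : Dn 8 S9 b8_540 := dn_of (Js := j9_540_0 ++ (j9_540_1 ++ (j9_540_2 ++ (j9_540_3 ++ (j9_540_4 ++ (j9_540_5 ++ (j9_540_6 ++ (j9_540_7 ++ (j9_540_8 ++ (j9_540_9 ++ (j9_540_10 ++ (j9_540_11 ++ (j9_540_12 ++ (j9_540_13 ++ (j9_540_14 ++ (j9_540_15 ++ (j9_540_16 ++ (j9_540_17 ++ (j9_540_18 ++ (j9_540_19 ++ (j9_540_20 ++ (j9_540_21 ++ (j9_540_22 ++ (j9_540_23 ++ (j9_540_24 ++ (j9_540_25 ++ (j9_540_26 ++ (j9_540_27 ++ (j9_540_28 ++ (j9_540_29 ++ (j9_540_30 ++ (j9_540_31 ++ (j9_540_32 ++ (j9_540_33 ++ (j9_540_34 ++ (j9_540_35 ++ (j9_540_36 ++ (j9_540_37 ++ (j9_540_38 ++ (j9_540_39 ++ (j9_540_40 ++ (j9_540_41 ++ (j9_540_42 ++ (j9_540_43 ++ (j9_540_44 ++ (j9_540_45 ++ (j9_540_46 ++ (j9_540_47 ++ (j9_540_48 ++ (j9_540_49 ++ (j9_540_50 ++ (j9_540_51 ++ (j9_540_52 ++ (j9_540_53 ++ (j9_540_54 ++ (j9_540_55 ++ (j9_540_56 ++ (j9_540_57 ++ (j9_540_58 ++ (j9_540_59 ++ (j9_540_60 ++ [])))))))))))))))))))))))))))))))))))))))))))))))))))))))))))))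
  (jobs_append t9_540_0 <| jobs_append t9_540_1 <| jobs_append t9_540_2 <| jobs_append t9_540_3 <| jobs_append t9_540_4 <| jobs_append t9_540_5 <| jobs_append t9_540_6 <| jobs_append t9_540_7 <| jobs_append t9_540_8 <| jobs_append t9_540_9 <| jobs_append t9_540_10 <| jobs_append t9_540_11 <| jobs_append t9_540_12 <| jobs_append t9_540_13 <| jobs_append t9_540_14 <| jobs_append t9_540_15 <| jobs_append t9_540_16 <| jobs_append t9_540_17 <| jobs_append t9_540_18 <| jobs_append t9_540_19 <| jobs_append t9_540_20 <| jobs_append t9_540_21 <| jobs_append t9_540_22 <| jobs_append t9_540_23 <| jobs_append t9_540_24 <| jobs_append t9_540_25 <| jobs_append t9_540_26 <| jobs_append t9_540_27 <| jobs_append t9_540_28 <| jobs_append t9_540_29 <| jobs_append t9_540_30 <| jobs_append t9_540_31 <| jobs_append t9_540_32 <| jobs_append t9_540_33 <| jobs_append t9_540_34 <| jobs_append t9_540_35 <| jobs_append t9_540_36 <| jobs_append t9_540_37 <| jobs_append t9_540_38 <| jobs_append t9_540_39 <| jobs_append t9_540_40 <| jobs_append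 t9_540_41 <| jobs_append t9_540_42 <| jobs_append t9_540_43 <| jobs_append t9_540_44 <| jobs_append t9_540_45 <| jobs_append t9_540_46 <| jobs_append t9_540_47 <| jobs_append t9_540_48 <| jobs_append t9_540_49 <| jobs_append t9_540_50 <| jobs_append t9_540_51 <| jobs_append t9_540_52 <| jobs_append t9_540_53 <| jobs_append t9_540_54 <| jobs_append t9_540_55 <| jobs_append t9_540_56 <| jobs_append t9_540_57 <| jobs_append t9_540_58 <| jobs_append t9_540_59 <| jobs_append t9_540_60 <| List.forall_mem_nil _) (by decide +kernel)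

noncomputable def j9_541_0 : List Job := [
  ⟨63, 0x4844425130a4542d174804624138a0562c17c1e0d058240e0501, 0, 28, 0x202000603001203, []⟩]

theorem t9_541_0 : jobs 8 S9 b8_541 j9_541_0 = true := by decide +kernel

noncomputable def j9_541_1 : List Job := [
  ⟨62, 0x4844425130a4542d174804624138a0562c17c1e0d058240e0501, 0, 28, 0x205000603001202, []⟩]

theorem t9_541_1 : jobs 8 S9 b8_541 j9_541_1 = true := by decide +kernel

noncomputable def j9_541_2 : List Job := [
  ⟨61, 0x4884626138a8562e17c804224128a0522c16c1e0d058240e0501, 0, 32, 0x204000607000a06, []⟩]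

theorem t9_541_2 : jobs 8 S9 b8_541 j9_541_2 = true := by decide +kernel

noncomputable def j9_541_3 : List Job := [
  ⟨60, 0x4140d0403c0e0501, 0, 40, 0x203000603000a06000e03001207001403001602001804, []⟩]

theorem t9_541_3 : jobs 8 S9 b8_541 j9_541_3 = true := by decide +kernel

noncomputable def j9_541_4 : List Job := [
  ⟨59, 0x4180f0402c0e0501, 0, 40, 0x202000602000a04000e07001204001404001603001807, []⟩]

theorem t9_541_4 : jobs 8 S9 b8_541 j9_541_4 = true := by decide +kernel

noncomputable def j9_541_5 : List Job := [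
  ⟨58, 0x4844425130a4542d174804624138a0562c17c140d0403c0e0501, 0, 40, 0x202000605000a05000e03001207001401001607001801, []⟩]

theorem t9_541_5 : jobs 8 S9 b8_541 j9_541_5 = true := by decide +kernel

noncomputable def j9_541_6 : List Job := [
  ⟨57, 0x4884626138a8562e17c804224128a0522c16c180f0402c0e0501, 0, 40, 0x204000605000a05000e05001204001401001603001801, []⟩]

theorem t9_541_6 : jobs 8 S9 b8_541 j9_541_6 = true := by decide +kernel

noncomputable def j9_541_7 : List Job := [
  ⟨56, 0x4381f0c06c28170804c180f0402c0e0501, 0, 30, 0x207000404000607000804, []⟩]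

theorem t9_541_7 : jobs 8 S9 b8_541 j9_541_7 = true := by decide +kernel

noncomputable def j9_541_8 : List Job := [
  ⟨55, 0x48c4e2b174884c2a17c844a2916480482816c381f0c06c28170804c180f0402c0e0501, 0, 44, 0x2004002404002805, []⟩]

theorem t9_541_8 : jobs 8 S9 b8_541 j9_541_8 = true := by decide +kernel

noncomputable def j9_541_9 : List Job := [
  ⟨54, 0x4180f0402c0e0501, 0, 56, 0x204000402000606000804000a06000c02000e04001002001202001604001a04001e05, []⟩]

theorem t9_541_9 : jobs 8 S9 b8_541 j9_541_9 = true := by decide +kernel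

noncomputable def j9_541_10 : List Job := [
  ⟨53, 0x4884626138a8562e17c804224128a0522c16c180f0402c0e0501, 0, 56, 0x202000402000604000802000a02000c02000e06001006001206001606001a04001e05, []⟩]

theorem t9_541_10 : jobs 8 S9 b8_541 j9_541_10 = true := by decide +kernel

noncomputable def j9_541_11 : List Job := [
  ⟨52, 0x4341d0c07c2e1509844140d0403c0e0501, 0, 40, 0x203000403000602000804003202003402003603003803, []⟩]

theorem t9_541_11 : jobs 8 S9 b8_541 j9_541_11 = true := by decide +kernel

noncomputable def j9_541_12 : List Job := [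
  ⟨51, 0x4381f0c06c2e1509844180f0402c0e0501, 0, 56, 0x2205002404002605002804002a01002c01002e01003001003215003404003614003815003a01003c01003e01004001004205004404004604004805005a02005c04005e05006003, []⟩]

theorem t9_541_12 : jobs 8 S9 b8_541 j9_541_12 = true := by decide +kernel

noncomputable def j9_541_13 : List Job := [
  ⟨50, 0x4844425130a4542d174804624138a0562c17c341d0c07c2e1509844140d0403c0e0501, 0, 40, 0x204000602003204003605, []⟩]

theorem t9_541_13 : jobs 8 S9 b8_541 j9_541_13 = true := by decide +kernel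

noncomputable def j9_541_14 : List Job := [
  ⟨49, 0x4884626138a8562e17c804224128a0522c16c381f0c06c2e1509844180f0402c0e0501, 0, 56, 0x200000401000600000801001201001601001a04001e04004204004601005a07005e05, [(2, ⟨3235, 0x9b0157002c00110108000501020001010001, 0x1982a8b422080280802⟩), (0, ⟨3234, 0x9b0157002c00110108000501020001010001, 0x1982a8b422080280802⟩)]⟩]

theorem t9_541_14 : jobs 8 S9 b8_541 j9_541_14 = true := by decide +kernel

noncomputable def j9_541_15 : List Job := [
  ⟨48, 0x4381f0c06c0e0501, 0, 40, 0x206000a04, []⟩]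

theorem t9_541_15 : jobs 8 S9 b8_541 j9_541_15 = true := by decide +kernel

noncomputable def j9_541_16 : List Job := [
  ⟨47, 0x520924a259309a4e27960b25a2d970ba5e2fd008242219108a4623940a25229950aa562bc381f0c06c0e0501, 0, 40, 0x206000a04, []⟩]

theorem t9_541_16 : jobs 8 S9 b8_541 j9_541_16 = true := by decide +kernel

noncomputable def j9_541_17 : List Job := [
  ⟨46, 0x4884626138a8562e17c804224128a0522c16c381f0c06c0e0501, 0, 40, 0x206000a04, []⟩]

theorem t9_541_17 : jobs 8 S9 b8_541 j9_541_17 = true := by decide +kernel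

noncomputable def j9_541_18 : List Job := [
  ⟨45, 0x520924a259309a4e27960b25a2d970ba5e2fd008242219108a4623940a25229950aa562bc884626138a8562e17c804224128a0522c16c381f0c06c0e0501, 0, 40, 0x204000a06, []⟩]

theorem t9_541_18 : jobs 8 S9 b8_541 j9_541_18 = true := by decide +kernel

noncomputable def j9_541_19 : List Job := [
  ⟨44, 0x43e1d0d8640e0501, 0, 28, 0x206000406000606000804000a06000c06000e06001006001202001406, []⟩]

theorem t9_541_19 : jobs 8 S9 b8_541 j9_541_19 = true := by decide +kernel

noncomputable def j9_541_20 : List Job := [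
  ⟨43, 0x43e1d0d8640e0501, 0, 28, 0x206000402000606000802000a02000c06000e06001003001205001404, []⟩]

theorem t9_541_20 : jobs 8 S9 b8_541 j9_541_20 = true := by decide +kernel

noncomputable def j9_541_21 : List Job := [
  ⟨42, 0x520924a259309a4e27960b25a2d970ba5e2fd008242219108a4623940a25229950aa562bc3e1d0d8640e0501, 0, 28, 0x206000404000a06000c04000e06001004001202001404, []⟩]

theorem t9_541_21 : jobs 8 S9 b8_541 j9_541_21 = true := by decide +kernel

noncomputable def j9_541_22 : List Job := [
  ⟨41, 0x520924a259309a4e27960b25a2d970ba5e2fd008242219108a4623940a25229950aa562bc3e1d0d8640e0501, 0, 28, 0x206000402000a06000c04000e06001002001202001406, []⟩]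

theorem t9_541_22 : jobs 8 S9 b8_541 j9_541_22 = true := by decide +kernel

noncomputable def j9_541_23 : List Job := [
  ⟨40, 0x4884626138a8562e17c804224128a0522c16c3e1d0d8640e0501, 0, 28, 0x206000604000a04000e06001202, []⟩]

theorem t9_541_23 : jobs 8 S9 b8_541 j9_541_23 = true := by decide +kernel

noncomputable def j9_541_24 : List Job := [
  ⟨39, 0x4884626138a8562e17c804224128a0522c16c3e1d0d8640e0501, 0, 28, 0x206000604000a06000e06001202, []⟩]

theorem t9_541_24 : jobs 8 S9 b8_541 j9_541_24 = true := by decide +kernel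

noncomputable def j9_541_25 : List Job := [
  ⟨38, 0x520924a259309a4e27960b25a2d970ba5e2fd008242219108a4623940a25229950aa562bc844425130a4542d174804624138a0562c17c3e1d0d8640e0501, 0, 34, 0x204000a06000e04001205003a01003c01, []⟩]

theorem t9_541_25 : jobs 8 S9 b8_541 j9_541_25 = true := by decide +kernel

noncomputable def j9_541_26 : List Job := [
  ⟨37, 0x520924a259309a4e27960b25a2d970ba5e2fd008242219108a4623940a25229950aa562bc884626138a8562e17c804224128a0522c16c3e1d0d8640e0501, 0, 46, 0x204000a04000e04001205, []⟩]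

theorem t9_541_26 : jobs 8 S9 b8_541 j9_541_26 = true := by decide +kernel

noncomputable def j9_541_27 : List Job := [
  ⟨36, 0x5008242219108a4623940a25229950aa562bc28170804c0e0501, 0, 56, 0x1202001607001a05001e02002202002402002602002804002a02002c04002e05003006, []⟩]

theorem t9_541_27 : jobs 8 S9 b8_541 j9_541_27 = true := by decide +kernel

noncomputable def j9_541_28 : List Job := [
  ⟨35, 0x5008242219108a4623940a25229950aa562bc884626138a8562e17c804224128a0522c16c28170804c0e0501, 0, 56, 0x1207001607001a06001e06002202002402002604002806002a07002c06002e02003004, []⟩]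

theorem t9_541_28 : jobs 8 S9 b8_541 j9_541_28 = true := by decide +kernel

noncomputable def j9_541_29 : List Job := [
  ⟨34, 0x5008242219108a4623940a25229950aa562bc28170804c0e0501, 0, 40, 0xa06000c04000e06001006001202001605001a02001e02, []⟩]

theorem t9_541_29 : jobs 8 S9 b8_541 j9_541_29 = true := by decide +kernel

noncomputable def j9_541_30 : List Job := [
  ⟨33, 0x5008242219108a4623940a25229950aa562bc28170804c0e0501, 0, 40, 0xa02000c04000e02001006001202001607001a02001e05, []⟩]

theorem t9_541_30 : jobs 8 S9 b8_541 j9_541_30 = true := by decide +kernel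

noncomputable def j9_541_31 : List Job := [
  ⟨32, 0x5008242219108a4623940a25229950aa562bc844425130a4542d174804624138a0562c17c24150805c0e0501, 0, 40, 0xa06000c01000e02001001001204001604001a05001e05, []⟩]

theorem t9_541_31 : jobs 8 S9 b8_541 j9_541_31 = true := by decide +kernel

noncomputable def j9_541_32 : List Job := [
  ⟨31, 0x5008242219108a4623940a25229950aa562bc884626138a8562e17c804224128a0522c16c28170804c0e0501, 0, 40, 0xa04000c01000e06001001001204001604001a05001e05, []⟩]

theorem t9_541_32 : jobs 8 S9 b8_541 j9_541_32 = true := by decide +kernel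

noncomputable def j9_541_33 : List Job := [
  ⟨30, 0x5008242219108a4623940a25229950aa562bc381f0c06c0e0501, 0, 40, 0x1206001606001a02001e05, []⟩]

theorem t9_541_33 : jobs 8 S9 b8_541 j9_541_33 = true := by decide +kernel

noncomputable def j9_541_34 : List Job := [
  ⟨29, 0x5008242219108a4623940a25229950aa562bc381f0c06c0e0501, 0, 40, 0x1206001606001a02001e02, []⟩]

theorem t9_541_34 : jobs 8 S9 b8_541 j9_541_34 = true := by decide +kernel

noncomputable def j9_541_35 : List Job := [
  ⟨28, 0x5008242219108a4623940a25229950aa562bc844425130a4542d174804624138a0562c17c341d0c07c0e0501, 0, 40, 0x1204001602001a05001e06, []⟩]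

theorem t9_541_35 : jobs 8 S9 b8_541 j9_541_35 = true := by decide +kernel

noncomputable def j9_541_36 : List Job := [
  ⟨27, 0x5008242219108a4623940a25229950aa562bc884626138a8562e17c804224128a0522c16c381f0c06c0e0501, 0, 40, 0x1204001606001a05001e02, []⟩]

theorem t9_541_36 : jobs 8 S9 b8_541 j9_541_36 = true := by decide +kernel

noncomputable def j9_541_37 : List Job := [
  ⟨26, 0x5008242219108a4623940a25229950aa562bc381f0c06c0e0501, 0, 56, 0x1206001602001a04001e04, []⟩]

theorem t9_541_37 : jobs 8 S9 b8_541 j9_541_37 = true := by decide +kernel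

noncomputable def j9_541_38 : List Job := [
  ⟨25, 0x5008242219108a4623940a25229950aa562bc884626138a8562e17c804224128a0522c16c381f0c06c0e0501, 0, 56, 0x1204001606001a02001e06, []⟩]

theorem t9_541_38 : jobs 8 S9 b8_541 j9_541_38 = true := by decide +kernel

noncomputable def j9_541_39 : List Job := [
  ⟨24, 0x42e15098440e0501, 0, 28, 0xa02000c03000e07001003001205001406, []⟩]

theorem t9_541_39 : jobs 8 S9 b8_541 j9_541_39 = true := by decide +kernel

noncomputable def j9_541_40 : List Job := [
  ⟨23, 0x42e15098440e0501, 0, 28, 0xa05000c04000e05001003001202001404, []⟩]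

theorem t9_541_40 : jobs 8 S9 b8_541 j9_541_40 = true := by decide +kernel

noncomputable def j9_541_41 : List Job := [
  ⟨22, 0x520924a259309a4e27960b25a2d970ba5e2fd008242219108a4623940a25229950aa562bc2e15098440e0501, 0, 28, 0xa05000c04000e02001006001202001406, []⟩]

theorem t9_541_41 : jobs 8 S9 b8_541 j9_541_41 = true := by decide +kernel

noncomputable def j9_541_42 : List Job := [
  ⟨21, 0x520924a259309a4e27960b25a2d970ba5e2fd008242219108a4623940a25229950aa562bc2e15098440e0501, 0, 28, 0xa02000c04000e02001004001202001404, []⟩]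

theorem t9_541_42 : jobs 8 S9 b8_541 j9_541_42 = true := by decide +kernel

noncomputable def j9_541_43 : List Job := [
  ⟨20, 0x4884626138a8562e17c804224128a0522c16c2e15098440e0501, 0, 28, 0xa04000e04001205, []⟩]

theorem t9_541_43 : jobs 8 S9 b8_541 j9_541_43 = true := by decide +kernel

noncomputable def j9_541_44 : List Job := [
  ⟨19, 0x4884626138a8562e17c804224128a0522c16c2e15098440e0501, 0, 28, 0xa05000e04001205, []⟩]

theorem t9_541_44 : jobs 8 S9 b8_541 j9_541_44 = true := by decide +kernel

noncomputable def j9_541_45 : List Job := [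
  ⟨18, 0x520924a259309a4e27960b25a2d970ba5e2fd008242219108a4623940a25229950aa562bc844425130a4542d174804624138a0562c17c2e15098440e0501, 0, 46, 0xa04000e04001205, []⟩]

theorem t9_541_45 : jobs 8 S9 b8_541 j9_541_45 = true := by decide +kernel

noncomputable def j9_541_46 : List Job := [
  ⟨17, 0x520924a259309a4e27960b25a2d970ba5e2fd008242219108a4623940a25229950aa562bc884626138a8562e17c804224128a0522c16c2e15098440e0501, 0, 34, 0xa05000e04001205001e01002001, []⟩]

theorem t9_541_46 : jobs 8 S9 b8_541 j9_541_46 = true := by decide +kernel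

noncomputable def j9_541_47 : List Job := [
  ⟨16, 0x42e15098440e0501, 0, 40, 0x1202001406001604001804001a02001c06001e07002004, []⟩]

theorem t9_541_47 : jobs 8 S9 b8_541 j9_541_47 = true := by decide +kernel

noncomputable def j9_541_48 : List Job := [
  ⟨15, 0x41e0d058240e0501, 0, 28, 0x202000402000603000803001202001403, []⟩]

theorem t9_541_48 : jobs 8 S9 b8_541 j9_541_48 = true := by decide +kernel

noncomputable def j9_541_49 : List Job := [
  ⟨14, 0x41e0d058240e0501, 0, 28, 0x205000403000602000804001203001402, []⟩]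

theorem t9_541_49 : jobs 8 S9 b8_541 j9_541_49 = true := by decide +kernel

noncomputable def j9_541_50 : List Job := [
  ⟨13, 0x520924a259309a4e27960b25a2d970ba5e2fd008242219108a4623940a25229950aa562bc1e0d058240e0501, 0, 28, 0x207000403, []⟩]

theorem t9_541_50 : jobs 8 S9 b8_541 j9_541_50 = true := by decide +kernel

noncomputable def j9_541_51 : List Job := [
  ⟨12, 0x520924a259309a4e27960b25a2d970ba5e2fd008242219108a4623940a25229950aa562bc1e0d058240e0501, 0, 28, 0x205000404, []⟩]

theorem t9_541_51 : jobs 8 S9 b8_541 j9_541_51 = true := by decide +kernel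

noncomputable def j9_541_52 : List Job := [
  ⟨11, 0x4884626138a8562e17c804224128a0522c16c1e0d058240e0501, 0, 28, 0x205000603001203, []⟩]

theorem t9_541_52 : jobs 8 S9 b8_541 j9_541_52 = true := by decide +kernel

noncomputable def j9_541_53 : List Job := [
  ⟨10, 0x4884626138a8562e17c804224128a0522c16c1e0d058240e0501, 0, 28, 0x202000603001202, []⟩]

theorem t9_541_53 : jobs 8 S9 b8_541 j9_541_53 = true := by decide +kernel

noncomputable def j9_541_54 : List Job := [
  ⟨9, 0x520924a259309a4e27960b25a2d970ba5e2fd008242219108a4623940a25229950aa562bc844425130a4542d174804624138a0562c17c1e0d058240e0501, 0, 46, 0x205, []⟩]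

theorem t9_541_54 : jobs 8 S9 b8_541 j9_541_54 = true := by decide +kernel

noncomputable def j9_541_55 : List Job := [
  ⟨8, 0x520924a259309a4e27960b25a2d970ba5e2fd008242219108a4623940a25229950aa562bc884626138a8562e17c804224128a0522c16c1e0d058240e0501, 0, 35, 0x207004201004400004600, [(34, ⟨3233, 0x9e014a002801120009000400020001010001, 0x19e250a024090200802⟩), (33, ⟨3232, 0x840144012401100008000400020001000001, 0x1842209020080200802⟩)]⟩]

theorem t9_541_55 : jobs 8 S9 b8_541 j9_541_55 = true := by decide +kernel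

noncomputable def j9_541_56 : List Job := [
  ⟨7, 0x4180f0402c0e0501, 0, 40, 0x207000a02001403001804, []⟩]

theorem t9_541_56 : jobs 8 S9 b8_541 j9_541_56 = true := by decide +kernel

noncomputable def j9_541_57 : List Job := [
  ⟨6, 0x520924a259309a4e27960b25a2d970ba5e2fd008242219108a4623940a25229950aa562bc180f0402c0e0501, 0, 40, 0x207000a07001403001804, []⟩]

theorem t9_541_57 : jobs 8 S9 b8_541 j9_541_57 = true := by decide +kernel

noncomputable def j9_541_58 : List Job := [
  ⟨5, 0x4884626138a8562e17c804224128a0522c16c180f0402c0e0501, 0, 40, 0x202000a05001207001607, []⟩]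

theorem t9_541_58 : jobs 8 S9 b8_541 j9_541_58 = true := by decide +kernel

noncomputable def j9_541_59 : List Job := [
  ⟨4, 0x520924a259309a4e27960b25a2d970ba5e2fd008242219108a4623940a25229950aa562bc884626138a8562e17c804224128a0522c16c180f0402c0e0501, 0, 40, 0x205000a05001204001603, []⟩]

theorem t9_541_59 : jobs 8 S9 b8_541 j9_541_59 = true := by decide +kernel

noncomputable def j9_541_60 : List Job := [
  ⟨3, 0x5008242219108a4623940a25229950aa562bc381f0c06c28170804c1e0d058240e0501, 0, 48, 0x202000406000803001a07001c06005201005601005801005e01006001, []⟩]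

theorem t9_541_60 : jobs 8 S9 b8_541 j9_541_60 = true := by decide +kernel

noncomputable def j9_541_61 : List Job := [
  ⟨2, 0x5008242219108a4623940a25229950aa562bc381f0c06c28170804c1e0d058240e0501, 0, 56, 0x204000404000803002204002405002604002805002a01002c01002e01003001003204003401005205005403, []⟩]

theorem t9_541_61 : jobs 8 S9 b8_541 j9_541_61 = true := by decide +kernel

noncomputable def j9_541_62 : List Job := [
  ⟨1, 0x5008242219108a4623940a25229950aa562bc844425130a4542d174804624138a0562c17c341d0c07c24150805c1e0d058240e0501, 0, 48, 0x205000605001a05005601005801005e01006001, []⟩]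

theorem t9_541_62 : jobs 8 S9 b8_541 j9_541_62 = true := by decide +kernel

noncomputable def j9_541_63 : List Job := [
  ⟨0, 0x5008242219108a4623940a25229950aa562bc884626138a8562e17c804224128a0522c16c381f0c06c28170804c1e0d058240e0501, 0, 56, 0x204000604001a03002200002600002a04006201006601006a01, [(18, ⟨3231, 0x8a0051012800130108000401020001010001, 0x18a280a026080200802⟩), (16, ⟨3230, 0x8a0051012800130108000401020001010001, 0x18a280a026080200802⟩)]⟩]

theorem t9_541_63 : jobs 8 S9 b8_541 j9_541_63 = true := by decide +kernel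

theorem d9_541 : Dn 8 S9 b8_541 := dn_of (Js := j9_541_0 ++ (j9_541_1 ++ (j9_541_2 ++ (j9_541_3 ++ (j9_541_4 ++ (j9_541_5 ++ (j9_541_6 ++ (j9_541_7 ++ (j9_541_8 ++ (j9_541_9 ++ (j9_541_10 ++ (j9_541_11 ++ (j9_541_12 ++ (j9_541_13 ++ (j9_541_14 ++ (j9_541_15 ++ (j9_541_16 ++ (j9_541_17 ++ (j9_541_18 ++ (j9_541_19 ++ (j9_541_20 ++ (j9_541_21 ++ (j9_541_22 ++ (j9_541_23 ++ (j9_541_24 ++ (j9_541_25 ++ (j9_541_26 ++ (j9_541_27 ++ (j9_541_28 ++ (j9_541_29 ++ (j9_541_30 ++ (j9_541_31 ++ (j9_541_32 ++ (j9_541_33 ++ (j9_541_34 ++ (j9_541_35 ++ (j9_541_36 ++ (j9_541_37 ++ (j9_541_38 ++ (j9_541_39 ++ (j9_541_40 ++ (j9_541_41 ++ (j9_541_42 ++ (j9_541_43 ++ (j9_541_44 ++ (j9_541_45 ++ (j9_541_46 ++ (j9_541_47 ++ (j9_541_48 ++ (j9_541_49 ++ (j9_541_50 ++ (j9_541_51 ++ (j9_541_52 ++ (j9_541_53 ++ (j9_541_54 ++ (j9_541_55 ++ (j9_541_56 ++ (j9_541_57 ++ (j9_541_58 ++ (j9_541_59 ++ (j9_541_60 ++ (j9_541_61 ++ (j9_541_62 ++ (j9_541_63 ++ []))))))))))))))))))))))))))))))))))))))))))))))))))))))))))))))))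
  (jobs_append t9_541_0 <| jobs_append t9_541_1 <| jobs_append t9_541_2 <| jobs_append t9_541_3 <| jobs_append t9_541_4 <| jobs_append t9_541_5 <| jobs_append t9_541_6 <| jobs_append t9_541_7 <| jobs_append t9_541_8 <| jobs_append t9_541_9 <| jobs_append t9_541_10 <| jobs_append t9_541_11 <| jobs_append t9_541_12 <| jobs_append t9_541_13 <| jobs_append t9_541_14 <| jobs_append t9_541_15 <| jobs_append t9_541_16 <| jobs_append t9_541_17 <| jobs_append t9_541_18 <| jobs_append t9_541_19 <| jobs_append t9_541_20 <| jobs_append t9_541_21 <| jobs_append t9_541_22 <| jobs_append t9_541_23 <| jobs_append t9_541_24 <| jobs_append t9_541_25 <| jobs_append t9_541_26 <| jobs_append t9_541_27 <| jobs_append t9_541_28 <| jobs_append t9_541_29 <| jobs_append t9_541_30 <| jobs_append t9_541_31 <| jobs_append t9_541_32 <| jobs_append t9_541_33 <| jobs_append t9_541_34 <| jobs_append t9_541_35 <| jobs_append t9_541_36 <| jobs_append t9_541_37 <| jobs_append t9_541_38 <| jobs_append t9_541_39 <| jobs_append t9_541_40 <| jobs_append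 t9_541_41 <| jobs_append t9_541_42 <| jobs_append t9_541_43 <| jobs_append t9_541_44 <| jobs_append t9_541_45 <| jobs_append t9_541_46 <| jobs_append t9_541_47 <| jobs_append t9_541_48 <| jobs_append t9_541_49 <| jobs_append t9_541_50 <| jobs_append t9_541_51 <| jobs_append t9_541_52 <| jobs_append t9_541_53 <| jobs_append t9_541_54 <| jobs_append t9_541_55 <| jobs_append t9_541_56 <| jobs_append t9_541_57 <| jobs_append t9_541_58 <| jobs_append t9_541_59 <| jobs_append t9_541_60 <| jobs_append t9_541_61 <| jobs_append t9_541_62 <| jobs_append t9_541_63 <| List.forall_mem_nil _) (by decide +kernel)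

end Cfsg.Agent.FS.N.Sw
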