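import Cfsg.Agent.FS.N.Sw.Seg
import Cfsg.Agent.FS.N.G.S9
import Cfsg.Agent.FS.N.G.L.L21

/-! The filter on the pairs for the order 512, part 51 (generated; helper52, project FS) -/

set_option autoImplicit false
set_option maxRecDepth 100000
set_option Elab.async false

namespace Cfsg.Agent.FS.N.Sw

open G

noncomputable def j9_542_0 : List Job := [
  ⟨63, 0x601028241a21128a45a41229249a61329a4dc743d1c0fc6435180dc140d0403c0e0501, 0, 40, 0x202000403000602000803000a04000c04000e05001005001202001403001604001805, []⟩]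

theorem t9_542_0 : jobs 8 S9 b8_542 j9_542_0 = true := by decide +kernel

noncomputable def j9_542_1 : List Job := [
  ⟨62, 0x4804222118904a26138a0522a158b05a2e17c783f1c0ec6837180cc180f0402c0e0501, 0, 40, 0x603000e03, []⟩]

theorem t9_542_1 : jobs 8 S9 b8_542 j9_542_1 = true := by decide +kernel

noncomputable def j9_542_2 : List Job := [
  ⟨61, 0x601028241a21128a45a41229249a61329a4dc804222118904a26138a0522a158b05a2e17c743f1c0f46437180d4140f040340e0501, 0, 64, 0x5605005e05, []⟩]

theorem t9_542_2 : jobs 8 S9 b8_542 j9_542_2 = true := by decide +kernel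

noncomputable def j9_542_3 : List Job := [
  ⟨60, 0x4804222118904a26138a0522a158b05a2e17c743d1c0fc6435180dc140d0403c0e0501, 0, 40, 0x207000603000a02000e07, []⟩]

theorem t9_542_3 : jobs 8 S9 b8_542 j9_542_3 = true := by decide +kernel

noncomputable def j9_542_4 : List Job := [
  ⟨59, 0x601028241a21128a45a41229249a61329a4dc804222118904a26138a0522a158b05a2e17c743d1c0fc6435180dc140d0403c0e0501, 0, 48, 0x2201002601002a01002e01003204003605003a04003e05, []⟩]

theorem t9_542_4 : jobs 8 S9 b8_542 j9_542_4 = true := by decide +kernel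

noncomputable def j9_542_5 : List Job := [
  ⟨58, 0x4502a160bc48271008c140d0403c0e0501, 0, 40, 0x207000603000a02000e07001a02001e03002604002803, []⟩]

theorem t9_542_5 : jobs 8 S9 b8_542 j9_542_5 = true := by decide +kernel

noncomputable def j9_542_6 : List Job := [
  ⟨57, 0x4804222118904a26138a0522a158b05a2e17c502a160bc44251009c180f0402c0e0501, 0, 40, 0x603000e03002204002404002604002804004204004407, []⟩]

theorem t9_542_6 : jobs 8 S9 b8_542 j9_542_6 = true := by decide +kernel

noncomputable def j9_542_7 : List Job := [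
  ⟨56, 0x4804222118904a26138a0522a158b05a2e17c502a160bc48271008c140d0403c0e0501, 0, 40, 0x203000603000a02000e03001a03001e02002604002803, []⟩]

theorem t9_542_7 : jobs 8 S9 b8_542 j9_542_7 = true := by decide +kernel

noncomputable def j9_542_8 : List Job := [
  ⟨55, 0x601028241a21128a45a41229249a61329a4dc804222118904a26138a0522a158b05a2e17c502a160bc442710094140d0403c0e0501, 0, 40, 0x204000605000a04000e05001a05001e05002605002807, []⟩]

theorem t9_542_8 : jobs 8 S9 b8_542 j9_542_8 = true := by decide +kernel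

noncomputable def j9_542_9 : List Job := [
  ⟨54, 0x4301a0e07c241708054140d0403c0e0501, 0, 56, 0x1207001402001a02001c03002202002407002a03002c02, []⟩]

theorem t9_542_9 : jobs 8 S9 b8_542 j9_542_9 = true := by decide +kernel

noncomputable def j9_542_10 : List Job := [
  ⟨53, 0x601028241a21128a45a41229249a61329a4dc301a0e07c28170804c140d0403c0e0501, 0, 56, 0x1202001403001a02001c07002202002403002a07002c03, []⟩]

theorem t9_542_10 : jobs 8 S9 b8_542 j9_542_10 = true := by decide +kernel

noncomputable def j9_542_11 : List Job := [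
  ⟨52, 0x4884626138a8562c16c804224128a0522e17c301a0e07c241708054140d0403c0e0501, 0, 56, 0x2207002a07, []⟩]

theorem t9_542_11 : jobs 8 S9 b8_542 j9_542_11 = true := by decide +kernel

noncomputable def j9_542_12 : List Job := [
  ⟨51, 0x601028241a21128a45a41229249a61329a4dc844625138a4562c174804424130a0542d17c301a0e07c28170804c140d0403c0e0501, 0, 56, 0x2207002a04, []⟩]

theorem t9_542_12 : jobs 8 S9 b8_542 j9_542_12 = true := by decide +kernel

noncomputable def j9_542_13 : List Job := [
  ⟨50, 0x4703a1e0fc60321a0dc180f0402c0e0501, 0, 56, 0x204000a02, []⟩]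

theorem t9_542_13 : jobs 8 S9 b8_542 j9_542_13 = true := by decide +kernel

noncomputable def j9_542_14 : List Job := [
  ⟨49, 0x601028241a21128a45a41229249a61329a4dc703a1e0fc60321a0dc140f040340e0501, 0, 56, 0x204000a02, []⟩]

theorem t9_542_14 : jobs 8 S9 b8_542 j9_542_14 = true := by decide +kernel

noncomputable def j9_542_15 : List Job := [
  ⟨48, 0x4804222118904a26138a0522a158b05a2e17c703a1e0fc60321a0dc180f0402c0e0501, 0, 56, 0x207000a06, []⟩]

theorem t9_542_15 : jobs 8 S9 b8_542 j9_542_15 = true := by decide +kernel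

noncomputable def j9_542_16 : List Job := [
  ⟨47, 0x601028241a21128a45a41229249a61329a4dc804222118904a26138a0522a158b05a2e17c703a1e0fc60321a0dc140f040340e0501, 0, 56, 0x202000a04, []⟩]

theorem t9_542_16 : jobs 8 S9 b8_542 j9_542_16 = true := by decide +kernel

noncomputable def j9_542_17 : List Job := [
  ⟨46, 0x4804222118904a26138a0522a158b05a2e17c6435180dc502a160bc381f0c06c0e0501, 0, 56, 0x1205001404001604001804001a05001e04003a05003c05003e04004005, []⟩]

theorem t9_542_17 : jobs 8 S9 b8_542 j9_542_17 = true := by decide +kernel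

noncomputable def j9_542_18 : List Job := [
  ⟨45, 0x524964d27964b65c2f520944c27160b45d2fd04864523944a6542b500844423140a4552bc804222118904a26138a0522a158b05a2e17c6435180dc502a160bc381f0c06c0e0501, 0, 56, 0x0, []⟩]

theorem t9_542_18 : jobs 8 S9 b8_542 j9_542_18 = true := by decide +kernel

noncomputable def j9_542_19 : List Job := [
  ⟨44, 0x504864523944a6542b500844423140a4552bc804222118904a26138a0522a158b05a2e17c703a1e0fc502a160bc2417080540e0501, 0, 72, 0x1204001605001a04001c04001e05002005, []⟩]

theorem t9_542_19 : jobs 8 S9 b8_542 j9_542_19 = true := by decide +kernel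

noncomputable def j9_542_20 : List Job := [
  ⟨43, 0x504864523944a6542b500844423140a4552bc60321a0dc542d140bc301a0e07c0e0501, 0, 44, 0x0, []⟩]

theorem t9_542_20 : jobs 8 S9 b8_542 j9_542_20 = true := by decide +kernel

noncomputable def j9_542_21 : List Job := [
  ⟨42, 0x504864523944a6542b500844423140a4552bc804222118904a26138a0522a158b05a2e17c60321a0dc542d140bc301a0e07c0e0501, 0, 72, 0x0, []⟩]

theorem t9_542_21 : jobs 8 S9 b8_542 j9_542_21 = true := by decide +kernel

noncomputable def j9_542_22 : List Job := [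
  ⟨41, 0x601028241a21128a45a41229249a61329a4dd04864523944a6542b500844423140a4552bc804222118904a26138a0522a158b05a2e17c60321a0dc542d140bc301a0e07c0e0501, 0, 44, 0x0, []⟩]

theorem t9_542_22 : jobs 8 S9 b8_542 j9_542_22 = true := by decide +kernel

noncomputable def j9_542_23 : List Job := [
  ⟨40, 0x4743d1c0fc542d140bc2e15098440e0501, 0, 38, 0xa04000c04000e05001010001211001411002201002401002601002e04003004003204003402003602003802, []⟩]

theorem t9_542_23 : jobs 8 S9 b8_542 j9_542_23 = true := by decide +kernel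

noncomputable def j9_542_24 : List Job := [
  ⟨39, 0x524964d27964b65c2f520944c27160b45d2fd04864523944a6542b500844423140a4552bc743d1c0fc542d140bc2e15098440e0501, 0, 42, 0xe04001004001205001410001611001811003204003402003605003802003a02003c02, []⟩]

theorem t9_542_24 : jobs 8 S9 b8_542 j9_542_24 = true := by decide +kernel

noncomputable def j9_542_25 : List Job := [
  ⟨38, 0x4804222118904a26138a0522a158b05a2e17c743d1c0fc542d140bc2e15098440e0501, 0, 56, 0x1204001615001a14001c15001e15002014003201003401003601003801003a01003e01004204004605004a04004e05, []⟩]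

theorem t9_542_25 : jobs 8 S9 b8_542 j9_542_25 = true := by decide +kernel

noncomputable def j9_542_26 : List Job := [
  ⟨37, 0x601028241a21128a45a41229249a61329a4dc804222118904a26138a0522a158b05a2e17c743d1c0fc542d140bc2e15098440e0501, 0, 38, 0xa04001010001211001410002201002401002601002e04003406, []⟩]

theorem t9_542_26 : jobs 8 S9 b8_542 j9_542_26 = true := by decide +kernel

noncomputable def j9_542_27 : List Job := [
  ⟨36, 0x524964d27964b65c2f520944c27160b45d2fd04864523944a6542b500844423140a4552bc804222118904a26138a0522a158b05a2e17c743d1c0fc542d140bc2e15098440e0501, 0, 56, 0x1214001604001a14001c15001e15002014003201003601003a01003e01004204004604004a02004e03, []⟩]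

theorem t9_542_27 : jobs 8 S9 b8_542 j9_542_27 = true := by decide +kernel

noncomputable def j9_542_28 : List Job := [
  ⟨35, 0x601028241a21128a45a41229249a61329a4dd24964d27964b65c2f520944c27160b45d2fd04864523944a6542b500844423140a4552bc804222118904a26138a0522a158b05a2e17c743d1c0fc542d140bc2e15098440e0501, 0, 72, 0x210001404003e01004401004a01005c01006e10007011007210008006, []⟩]

theorem t9_542_28 : jobs 8 S9 b8_542 j9_542_28 = true := by decide +kernel

noncomputable def j9_542_29 : List Job := [
  ⟨34, 0x4743d1c0fc6435180dc140d0403c0e0501, 0, 56, 0x204000405000603000802000a03000c02000e04001005001205001405001605001804001a04001c04001e04002004002205002403002602002804005204005404005604005804, []⟩]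

theorem t9_542_29 : jobs 8 S9 b8_542 j9_542_29 = true := by decide +kernel

noncomputable def j9_542_30 : List Job := [
  ⟨33, 0x601028241a21128a45a41229249a61329a4dc743d1c0fc6435180dc140d0403c0e0501, 0, 56, 0x204000405000604000805000a04000c04000e05001005001205001404001a04001c04001e04002004002205002404002604002805005204005404005604005804, []⟩]

theorem t9_542_30 : jobs 8 S9 b8_542 j9_542_30 = true := by decide +kernel

noncomputable def j9_542_31 : List Job := [
  ⟨32, 0x524964d27964b65c2f520944c27160b45d2fd04864523944a6542b500844423140a4552bc743d1c0fc6435180dc140d0403c0e0501, 0, 56, 0x204000402000a03000c05001a04001c04001e04002004005204005404005604005804, []⟩]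

theorem t9_542_31 : jobs 8 S9 b8_542 j9_542_31 = true := by decide +kernel

noncomputable def j9_542_32 : List Job := [
  ⟨31, 0x601028241a21128a45a41229249a61329a4dd24964d27964b65c2f520944c27160b45d2fd04864523944a6542b500844423140a4552bc743d1c0fc6435180dc140d0403c0e0501, 0, 56, 0x204000405000a03000c02001a04001c04001e04002004005204005404005604005804, []⟩]

theorem t9_542_32 : jobs 8 S9 b8_542 j9_542_32 = true := by decide +kernel

noncomputable def j9_542_33 : List Job := [
  ⟨30, 0x4804222118904a26138a0522a158b05a2e17c743d1c0fc6435180dc140d0403c0e0501, 0, 56, 0x204000605000a04000e05001205001404001604001804001a04001c04001e04002004005204005404005604005804, []⟩]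

theorem t9_542_33 : jobs 8 S9 b8_542 j9_542_33 = true := by decide +kernel

noncomputable def j9_542_34 : List Job := [
  ⟨29, 0x601028241a21128a45a41229249a61329a4dc804222118904a26138a0522a158b05a2e17c743d1c0fc6435180dc140d0403c0e0501, 0, 56, 0x204000605000a07000e07001205001404001a04001c04001e04002004005204005404005604005804, []⟩]

theorem t9_542_34 : jobs 8 S9 b8_542 j9_542_34 = true := by decide +kernel

noncomputable def j9_542_35 : List Job := [
  ⟨28, 0x524964d27964b65c2f520944c27160b45d2fd04864523944a6542b500844423140a4552bc804222118904a26138a0522a158b05a2e17c743d1c0fc6435180dc140d0403c0e0501, 0, 56, 0x207000a07001a04001c04001e04002004005204005404005604005804, []⟩]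

theorem t9_542_35 : jobs 8 S9 b8_542 j9_542_35 = true := by decide +kernel

noncomputable def j9_542_36 : List Job := [
  ⟨27, 0x601028241a21128a45a41229249a61329a4dd24964d27964b65c2f520944c27160b45d2fd04864523944a6542b500844423140a4552bc804222118904a26138a0522a158b05a2e17c743d1c0fc6435180dc140d0403c0e0501, 0, 88, 0x1205001405001605001805002a04002c04002e04003004008207008a07, []⟩]

theorem t9_542_36 : jobs 8 S9 b8_542 j9_542_36 = true := by decide +kernel

noncomputable def j9_542_37 : List Job := [
  ⟨26, 0x4804222118904a26138a0522a158b05a2e17c502a160bc48271008c140d0403c0e0501, 0, 56, 0x204000605000a03000e03002a05002e04003204003403003604003803006205006403, []⟩]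

theorem t9_542_37 : jobs 8 S9 b8_542 j9_542_37 = true := by decide +kernel

noncomputable def j9_542_38 : List Job := [
  ⟨25, 0x524964d27964b65c2f520944c27160b45d2fd04864523944a6542b500844423140a4552bc804222118904a26138a0522a158b05a2e17c502a160bc48271008c140d0403c0e0501, 0, 56, 0x203000a03003204003403, []⟩]

theorem t9_542_38 : jobs 8 S9 b8_542 j9_542_38 = true := by decide +kernel

noncomputable def j9_542_39 : List Job := [
  ⟨24, 0x504864523944a6542b500844423140a4552bc301a0e07c241708054140d0403c0e0501, 0, 72, 0x1204001405001604001805001a05001c05002204002403002a05002c02003204003405006204006404006604006805, []⟩]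

theorem t9_542_39 : jobs 8 S9 b8_542 j9_542_39 = true := by decide +kernel

noncomputable def j9_542_40 : List Job := [
  ⟨23, 0x601028241a21128a45a41229249a61329a4dd04864523944a6542b500844423140a4552bc301a0e07c241708054140d0403c0e0501, 0, 72, 0x1204001405001604001805001a02001c05002202002405002a03002c05003203003405003a01003c01006204006405008a01008c01, []⟩]

theorem t9_542_40 : jobs 8 S9 b8_542 j9_542_40 = true := by decide +kernel

noncomputable def j9_542_41 : List Job := [
  ⟨22, 0x504864523944a6542b500844423140a4552bc884626138a8562c16c804224128a0522e17c301a0e07c241708054140d0403c0e0501, 0, 72, 0x1200001600002a07003205003a01003e01006204006605008a01008e01, [(10, ⟨3272, 0x92005000260010000a000501030102000001, 0x1902889820090380406⟩), (8, ⟨3271, 0x92005000260010000a000501030102000001, 0x1902889820090380406⟩)]⟩]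

theorem t9_542_41 : jobs 8 S9 b8_542 j9_542_41 = true := by decide +kernel

noncomputable def j9_542_42 : List Job := [
  ⟨21, 0x601028241a21128a45a41229249a61329a4dd04864523944a6542b500844423140a4552bc884626138a8562c16c804224128a0522e17c301a0e07c241708054140d0403c0e0501, 0, 72, 0x1200001401001600002a05003207006204, [(10, ⟨3270, 0x880057002200130108000500030002000001, 0x1882b08424080380406⟩), (8, ⟨3269, 0x880057002200130108000500030002000001, 0x1882b08424080380406⟩)]⟩]

theorem t9_542_42 : jobs 8 S9 b8_542 j9_542_42 = true := by decide +kernel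

noncomputable def j9_542_43 : List Job := [
  ⟨20, 0x504864523944a6542b500844423140a4552bc703a1e0fc60321a0dc180f0402c0e0501, 0, 72, 0x2204002a05, []⟩]

theorem t9_542_43 : jobs 8 S9 b8_542 j9_542_43 = true := by decide +kernel

noncomputable def j9_542_44 : List Job := [
  ⟨19, 0x601028241a21128a45a41229249a61329a4dd04864523944a6542b500844423140a4552bc703a1e0fc60321a0dc180f0402c0e0501, 0, 72, 0x2204002a03, []⟩]

theorem t9_542_44 : jobs 8 S9 b8_542 j9_542_44 = true := by decide +kernel

noncomputable def j9_542_45 : List Job := [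
  ⟨18, 0x504864523944a6542b500844423140a4552bc804222118904a26138a0522a158b05a2e17c703a1e0fc60321a0dc180f0402c0e0501, 0, 72, 0x2204002a04, []⟩]

theorem t9_542_45 : jobs 8 S9 b8_542 j9_542_45 = true := by decide +kernel

noncomputable def j9_542_46 : List Job := [
  ⟨17, 0x601028241a21128a45a41229249a61329a4dd04864523944a6542b500844423140a4552bc804222118904a26138a0522a158b05a2e17c703a1e0fc60321a0dc180f0402c0e0501, 0, 72, 0x2204002a04, []⟩]

theorem t9_542_46 : jobs 8 S9 b8_542 j9_542_46 = true := by decide +kernel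

noncomputable def j9_542_47 : List Job := [
  ⟨16, 0x43e1d0d8640e0501, 0, 15, 0x206000404000606000803000a06000c03, []⟩]

theorem t9_542_47 : jobs 8 S9 b8_542 j9_542_47 = true := by decide +kernel

noncomputable def j9_542_48 : List Job := [
  ⟨15, 0x43e1d0d8640e0501, 0, 28, 0x205000406000602000803000a04000c06000e04001006001204001406, []⟩]

theorem t9_542_48 : jobs 8 S9 b8_542 j9_542_48 = true := by decide +kernel

noncomputable def j9_542_49 : List Job := [
  ⟨14, 0x43e1d0d8640e0501, 0, 15, 0x206000402000606000802000a04000c04, []⟩]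

theorem t9_542_49 : jobs 8 S9 b8_542 j9_542_49 = true := by decide +kernel

noncomputable def j9_542_50 : List Job := [
  ⟨13, 0x4844425130a4542d174804624138a0562c17c3e1d0d8640e0501, 0, 22, 0x204000603000a06, []⟩]

theorem t9_542_50 : jobs 8 S9 b8_542 j9_542_50 = true := by decide +kernel

noncomputable def j9_542_51 : List Job := [
  ⟨12, 0x4844425130a4542d174804624138a0562c17c3e1d0d8640e0501, 0, 28, 0x206000604000a06000e06001202, []⟩]

theorem t9_542_51 : jobs 8 S9 b8_542 j9_542_51 = true := by decide +kernel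

noncomputable def j9_542_52 : List Job := [
  ⟨11, 0x4884626138a8562e17c804224128a0522c16c3e1d0d8640e0501, 0, 30, 0x205000604000a04, []⟩]

theorem t9_542_52 : jobs 8 S9 b8_542 j9_542_52 = true := by decide +kernel

noncomputable def j9_542_53 : List Job := [
  ⟨10, 0x4341d0c07c0e0501, 0, 40, 0x1204001602001a04001e02, []⟩]

theorem t9_542_53 : jobs 8 S9 b8_542 j9_542_53 = true := by decide +kernel

noncomputable def j9_542_54 : List Job := [
  ⟨9, 0x4381f0c06c0e0501, 0, 40, 0x1206001605001a06001e04, []⟩]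

theorem t9_542_54 : jobs 8 S9 b8_542 j9_542_54 = true := by decide +kernel

noncomputable def j9_542_55 : List Job := [
  ⟨8, 0x4844425130a4542d174804624138a0562c17c341d0c07c0e0501, 0, 40, 0x1206001604001a02001e04, []⟩]

theorem t9_542_55 : jobs 8 S9 b8_542 j9_542_55 = true := by decide +kernel

noncomputable def j9_542_56 : List Job := [
  ⟨7, 0x4884626138a8562e17c804224128a0522c16c381f0c06c0e0501, 0, 40, 0x1207001602001a04001e07, []⟩]

theorem t9_542_56 : jobs 8 S9 b8_542 j9_542_56 = true := by decide +kernel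

noncomputable def j9_542_57 : List Job := [
  ⟨6, 0x4381f0c06c0e0501, 0, 30, 0x1204001606001a04, []⟩]

theorem t9_542_57 : jobs 8 S9 b8_542 j9_542_57 = true := by decide +kernel

noncomputable def j9_542_58 : List Job := [
  ⟨5, 0x4884626138a8562e17c804224128a0522c16c381f0c06c0e0501, 0, 34, 0x1204001602001a02, []⟩]

theorem t9_542_58 : jobs 8 S9 b8_542 j9_542_58 = true := by decide +kernel

noncomputable def j9_542_59 : List Job := [
  ⟨4, 0x41e0d058240e0501, 0, 28, 0x202000406000607000803001204001404, []⟩]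

theorem t9_542_59 : jobs 8 S9 b8_542 j9_542_59 = true := by decide +kernel

noncomputable def j9_542_60 : List Job := [
  ⟨3, 0x41e0d058240e0501, 0, 28, 0x205000407000606000803001205001404, []⟩]

theorem t9_542_60 : jobs 8 S9 b8_542 j9_542_60 = true := by decide +kernel

noncomputable def j9_542_61 : List Job := [
  ⟨2, 0x41e0d058240e0501, 0, 28, 0x202000402000603000803001203001402, []⟩]

theorem t9_542_61 : jobs 8 S9 b8_542 j9_542_61 = true := by decide +kernel

noncomputable def j9_542_62 : List Job := [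
  ⟨1, 0x41e0d058240e0501, 0, 28, 0x202000404000605000803001202001403, []⟩]

theorem t9_542_62 : jobs 8 S9 b8_542 j9_542_62 = true := by decide +kernel

noncomputable def j9_542_63 : List Job := [
  ⟨0, 0x4844425130a4542d174804624138a0562c17c1e0d058240e0501, 0, 46, 0x205000605001204, []⟩]

theorem t9_542_63 : jobs 8 S9 b8_542 j9_542_63 = true := by decide +kernel

theorem d9_542 : Dn 8 S9 b8_542 := dn_of (Js := j9_542_0 ++ (j9_542_1 ++ (j9_542_2 ++ (j9_542_3 ++ (j9_542_4 ++ (j9_542_5 ++ (j9_542_6 ++ (j9_542_7 ++ (j9_542_8 ++ (j9_542_9 ++ (j9_542_10 ++ (j9_542_11 ++ (j9_542_12 ++ (j9_542_13 ++ (j9_542_14 ++ (j9_542_15 ++ (j9_542_16 ++ (j9_542_17 ++ (j9_542_18 ++ (j9_542_19 ++ (j9_542_20 ++ (j9_542_21 ++ (j9_542_22 ++ (j9_542_23 ++ (j9_542_24 ++ (j9_542_25 ++ (j9_542_26 ++ (j9_542_27 ++ (j9_542_28 ++ (j9_542_29 ++ (j9_542_30 ++ (j9_542_31 ++ (j9_542_32 ++ (j9_542_33 ++ (j9_542_34 ++ (j9_542_35 ++ (j9_542_36 ++ (j9_542_37 ++ (j9_542_38 ++ (j9_542_39 ++ (j9_542_40 ++ (j9_542_41 ++ (j9_542_42 ++ (j9_542_43 ++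 (j9_542_44 ++ (j9_542_45 ++ (j9_542_46 ++ (j9_542_47 ++ (j9_542_48 ++ (j9_542_49 ++ (j9_542_50 ++ (j9_542_51 ++ (j9_542_52 ++ (j9_542_53 ++ (j9_542_54 ++ (j9_542_55 ++ (j9_542_56 ++ (j9_542_57 ++ (j9_542_58 ++ (j9_542_59 ++ (j9_542_60 ++ (j9_542_61 ++ (j9_542_62 ++ (j9_542_63 ++ []))))))))))))))))))))))))))))))))))))))))))))))))))))))))))))))))
  (jobs_append t9_542_0 <| jobs_append t9_542_1 <| jobs_append t9_542_2 <| jobs_append t9_542_3 <| jobs_append t9_542_4 <| jobs_append t9_542_5 <| jobs_append t9_542_6 <| jobs_append t9_542_7 <| jobs_append t9_542_8 <| jobs_append t9_542_9 <| jobs_append t9_542_10 <| jobs_append t9_542_11 <| jobs_append t9_542_12 <| jobs_append t9_542_13 <| jobs_append t9_542_14 <| jobs_append t9_542_15 <| jobs_append t9_542_16 <| jobs_append t9_542_17 <| jobs_append t9_542_18 <| jobs_append t9_542_19 <| jobs_append t9_542_20 <| jobs_append t9_542_21 <| jobs_append t9_542_22 <| jobs_append t9_542_23 <| jobs_append t9_542_24 <| jobs_append t9_542_25 <| jobs_append t9_542_26 <| jobs_append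 t9_542_27 <| jobs_append t9_542_28 <| jobs_append t9_542_29 <| jobs_append t9_542_30 <| jobs_append t9_542_31 <| jobs_append t9_542_32 <| jobs_append t9_542_33 <| jobs_append t9_542_34 <| jobs_append t9_542_35 <| jobs_append t9_542_36 <| jobs_append t9_542_37 <| jobs_append t9_542_38 <| jobs_append t9_542_39 <| jobs_append t9_542_40 <| jobs_append t9_542_41 <| jobs_append t9_542_42 <| jobs_append t9_542_43 <| jobs_append t9_542_44 <| jobs_append t9_542_45 <| jobs_append t9_542_46 <| jobs_append t9_542_47 <| jobs_append t9_542_48 <| jobs_append t9_542_49 <| jobs_append t9_542_50 <| jobs_append t9_542_51 <| jobs_append t9_542_52 <| jobs_append t9_542_53 <| jobs_append t9_542_54 <| jobs_append t9_542_55 <| jobs_append t9_542_56 <| jobs_append t9_542_57 <| jobs_append t9_542_58 <| jobs_append t9_542_59 <| jobs_append t9_542_60 <| jobs_append t9_542_61 <| jobs_append t9_542_62 <| jobs_append t9_542_63 <| List.forall_mem_nil _) (by decide +kernel)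

noncomputable def j9_543_0 : List Job := [
  ⟨63, 0x4804222118904a26138a0522a158b05a2e17c180f0402c0e0501, 0, 40, 0x0, []⟩]

theorem t9_543_0 : jobs 8 S9 b8_543 j9_543_0 = true := by decide +kernel

noncomputable def j9_543_1 : List Job := [
  ⟨62, 0x4804222118904a26138a0522a158b05a2e17c140d0403c0e0501, 0, 40, 0x1203001603, []⟩]

theorem t9_543_1 : jobs 8 S9 b8_543 j9_543_1 = true := by decide +kernel

noncomputable def j9_543_2 : List Job := [
  ⟨61, 0x601028241a21128a45a41229249a61329a4dc804222118904a26138a0522a158b05a2e17c180f0402c0e0501, 0, 40, 0x1204001605, []⟩]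

theorem t9_543_2 : jobs 8 S9 b8_543 j9_543_2 = true := by decide +kernel

noncomputable def j9_543_3 : List Job := [
  ⟨60, 0x4180f0402c0e0501, 0, 28, 0x0, []⟩]

theorem t9_543_3 : jobs 8 S9 b8_543 j9_543_3 = true := by decide +kernel

noncomputable def j9_543_4 : List Job := [
  ⟨59, 0x601028241a21128a45a41229249a61329a4dc140f040340e0501, 0, 28, 0x0, []⟩]

theorem t9_543_4 : jobs 8 S9 b8_543 j9_543_4 = true := by decide +kernel

noncomputable def j9_543_5 : List Job := [
  ⟨58, 0x4c06232198d06a361b8e0723a1d8f07a3e1fc804222118904a26138a0522a158b05a2e17c180f0402c0e0501, 0, 28, 0x0, []⟩]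

theorem t9_543_5 : jobs 8 S9 b8_543 j9_543_5 = true := by decide +kernel

noncomputable def j9_543_6 : List Job := [
  ⟨57, 0x601028241a21128a45a41229249a61329a4dcc06232198d06a361b8e0723a1d8f07a3e1fc804222118904a26138a0522a158b05a2e17c140f040340e0501, 0, 46, 0x4201004a01, []⟩]

theorem t9_543_6 : jobs 8 S9 b8_543 j9_543_6 = true := by decide +kernel

noncomputable def j9_543_7 : List Job := [
  ⟨56, 0x4804222118904a26138a0522a158b05a2e17c180f0402c0e0501, 0, 56, 0x202000a07001204001607001804001a07001e04002007, []⟩]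

theorem t9_543_7 : jobs 8 S9 b8_543 j9_543_7 = true := by decide +kernel

noncomputable def j9_543_8 : List Job := [
  ⟨55, 0x601028241a21128a45a41229249a61329a4dc804222118904a26138a0522a158b05a2e17c140f040340e0501, 0, 56, 0x203000a06001203001606001803001a05001e06002005, []⟩]

theorem t9_543_8 : jobs 8 S9 b8_543 j9_543_8 = true := by decide +kernel

noncomputable def j9_543_9 : List Job := [
  ⟨54, 0x4804222118904a26138a0522a158b05a2e17c341d0c07c0e0501, 0, 40, 0xa04000e04001207001603, []⟩]

theorem t9_543_9 : jobs 8 S9 b8_543 j9_543_9 = true := by decide +kernel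

noncomputable def j9_543_10 : List Job := [
  ⟨53, 0x601028241a21128a45a41229249a61329a4dc804222118904a26138a0522a158b05a2e17c341d0c07c0e0501, 0, 40, 0xa04000e05001203001607, []⟩]

theorem t9_543_10 : jobs 8 S9 b8_543 j9_543_10 = true := by decide +kernel

noncomputable def j9_543_11 : List Job := [
  ⟨52, 0x520924a259309a4e27960b25a2d970ba5e2fd008242219108a4623940a25229950aa562bc804222118904a26138a0522a158b05a2e17c341d0c07c0e0501, 0, 40, 0xa04001203, []⟩]

theorem t9_543_11 : jobs 8 S9 b8_543 j9_543_11 = true := by decide +kernel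

noncomputable def j9_543_12 : List Job := [
  ⟨51, 0x601028241a21128a45a41229249a61329a4dd20924a259309a4e27960b25a2d970ba5e2fd008242219108a4623940a25229950aa562bc804222118904a26138a0522a158b05a2e17c341d0c07c0e0501, 0, 40, 0xa07001207, []⟩]

theorem t9_543_12 : jobs 8 S9 b8_543 j9_543_12 = true := by decide +kernel

noncomputable def j9_543_13 : List Job := [
  ⟨50, 0x4381f0c06c0e0501, 0, 28, 0xa04000c04000e03001003, []⟩]

theorem t9_543_13 : jobs 8 S9 b8_543 j9_543_13 = true := by decide +kernel

noncomputable def j9_543_14 : List Job := [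
  ⟨49, 0x601028241a21128a45a41229249a61329a4dc381f0c06c0e0501, 0, 28, 0xa04000c04000e07001007, []⟩]

theorem t9_543_14 : jobs 8 S9 b8_543 j9_543_14 = true := by decide +kernel

noncomputable def j9_543_15 : List Job := [
  ⟨48, 0x520924a259309a4e27960b25a2d970ba5e2fd008242219108a4623940a25229950aa562bc381f0c06c0e0501, 0, 28, 0xa04000e03, []⟩]

theorem t9_543_15 : jobs 8 S9 b8_543 j9_543_15 = true := by decide +kernel

noncomputable def j9_543_16 : List Job := [
  ⟨47, 0x601028241a21128a45a41229249a61329a4dd20924a259309a4e27960b25a2d970ba5e2fd008242219108a4623940a25229950aa562bc381f0c06c0e0501, 0, 28, 0xa04000e07, []⟩]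

theorem t9_543_16 : jobs 8 S9 b8_543 j9_543_16 = true := by decide +kernel

noncomputable def j9_543_17 : List Job := [
  ⟨46, 0x4c06232198d06a361b8e0723a1d8f07a3e1fc804222118904a26138a0522a158b05a2e17c381f0c06c0e0501, 0, 28, 0x0, []⟩]

theorem t9_543_17 : jobs 8 S9 b8_543 j9_543_17 = true := by decide +kernel

noncomputable def j9_543_18 : List Job := [
  ⟨45, 0x601028241a21128a45a41229249a61329a4dcc06232198d06a361b8e0723a1d8f07a3e1fc804222118904a26138a0522a158b05a2e17c381f0c06c0e0501, 0, 28, 0x0, []⟩]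

theorem t9_543_18 : jobs 8 S9 b8_543 j9_543_18 = true := by decide +kernel

noncomputable def j9_543_19 : List Job := [
  ⟨44, 0x520924a259309a4e27960b25a2d970ba5e2fd008242219108a4623940a25229950aa562bcc06232198d06a361b8e0723a1d8f07a3e1fc804222118904a26138a0522a158b05a2e17c381f0c06c0e0501, 0, 28, 0x0, []⟩]

theorem t9_543_19 : jobs 8 S9 b8_543 j9_543_19 = true := by decide +kernel

noncomputable def j9_543_20 : List Job := [
  ⟨43, 0x601028241a21128a45a41229249a61329a4dd20924a259309a4e27960b25a2d970ba5e2fd008242219108a4623940a25229950aa562bcc06232198d06a361b8e0723a1d8f07a3e1fc804222118904a26138a0522a158b05a2e17c341f0c0740e0501, 0, 46, 0x0, []⟩]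

theorem t9_543_20 : jobs 8 S9 b8_543 j9_543_20 = true := by decide +kernel

noncomputable def j9_543_21 : List Job := [
  ⟨42, 0x5008242219108a4623940a25229950aa562bc804222118904a26138a0522a158b05a2e17c2417080540e0501, 0, 56, 0x1a05001e03, []⟩]

theorem t9_543_21 : jobs 8 S9 b8_543 j9_543_21 = true := by decide +kernel

noncomputable def j9_543_22 : List Job := [
  ⟨41, 0x605068945a4526984d60104884524124994dd008242219108a4623940a25229950aa562bc804222118904a26138a0522a158b05a2e17c28170804c0e0501, 0, 64, 0x203000603007400007600007c00007e00, [(62, ⟨3276, 0x82014101240110000a000500030001000001, 0x18320890200b0280c02⟩), (61, ⟨3277, 0x82014101240110000a000500030001000001, 0x18320890200b0280c02⟩), (58, ⟨3274, 0x820142012301100008010400030001000001, 0x1832188820080200c02⟩), (57, ⟨3275, 0x820142012301100008010400030001000001, 0x1832188820080200c02⟩)]⟩]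

theorem t9_543_22 : jobs 8 S9 b8_543 j9_543_22 = true := by decide +kernel

noncomputable def j9_543_23 : List Job := [
  ⟨40, 0x5008242219108a4623940a25229950aa562bc2417080540e0501, 0, 40, 0x0, []⟩]

theorem t9_543_23 : jobs 8 S9 b8_543 j9_543_23 = true := by decide +kernel

noncomputable def j9_543_24 : List Job := [
  ⟨39, 0x601028241a21128a45a41229249a61329a4dd008242219108a4623940a25229950aa562bc2417080540e0501, 0, 40, 0x0, []⟩]

theorem t9_543_24 : jobs 8 S9 b8_543 j9_543_24 = true := by decide +kernel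

noncomputable def j9_543_25 : List Job := [
  ⟨38, 0x5008242219108a4623940a25229950aa562bcc06232198d06a361b8e0723a1d8f07a3e1fc804222118904a26138a0522a158b05a2e17c2417080540e0501, 0, 40, 0x0, []⟩]

theorem t9_543_25 : jobs 8 S9 b8_543 j9_543_25 = true := by decide +kernel

noncomputable def j9_543_26 : List Job := [
  ⟨37, 0x5008242219108a4623940a25229950aa562bc804222118904a26138a0522a158b05a2e17c301a0e07c0e0501, 0, 56, 0x0, []⟩]

theorem t9_543_26 : jobs 8 S9 b8_543 j9_543_26 = true := by decide +kernel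

noncomputable def j9_543_27 : List Job := [
  ⟨36, 0x601028241a21128a45a41229249a61329a4dd008242219108a4623940a25229950aa562bc804222118904a26138a0522a158b05a2e17c301a0e07c0e0501, 0, 56, 0x0, []⟩]

theorem t9_543_27 : jobs 8 S9 b8_543 j9_543_27 = true := by decide +kernel

noncomputable def j9_543_28 : List Job := [
  ⟨35, 0x5008242219108a4623940a25229950aa562bc301a0e07c0e0501, 0, 40, 0x0, []⟩]

theorem t9_543_28 : jobs 8 S9 b8_543 j9_543_28 = true := by decide +kernel

noncomputable def j9_543_29 : List Job := [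
  ⟨34, 0x601028241a21128a45a41229249a61329a4dd008242219108a4623940a25229950aa562bc301a0e07c0e0501, 0, 40, 0x0, []⟩]

theorem t9_543_29 : jobs 8 S9 b8_543 j9_543_29 = true := by decide +kernel

noncomputable def j9_543_30 : List Job := [
  ⟨33, 0x5008242219108a4623940a25229950aa562bcc06232198d06a361b8e0723a1d8f07a3e1fc804222118904a26138a0522a158b05a2e17c301a0e07c0e0501, 0, 40, 0x0, []⟩]

theorem t9_543_30 : jobs 8 S9 b8_543 j9_543_30 = true := by decide +kernel

noncomputable def j9_543_31 : List Job := [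
  ⟨32, 0x601028241a21128a45a41229249a61329a4dd008242219108a4623940a25229950aa562bcc06232198d06a361b8e0723a1d8f07a3e1fc804222118904a26138a0522a158b05a2e17c301a0e07c0e0501, 0, 40, 0x0, []⟩]

theorem t9_543_31 : jobs 8 S9 b8_543 j9_543_31 = true := by decide +kernel

noncomputable def j9_543_32 : List Job := [
  ⟨31, 0x4804222118904a26138a0522a158b05a2e17c2e15098440e0501, 0, 40, 0x204000606001a07001e06, []⟩]

theorem t9_543_32 : jobs 8 S9 b8_543 j9_543_32 = true := by decide +kernel

noncomputable def j9_543_33 : List Job := [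
  ⟨30, 0x601028241a21128a45a41229249a61329a4dc804222118904a26138a0522a158b05a2e17c2e15098440e0501, 0, 40, 0x204001a05, []⟩]

theorem t9_543_33 : jobs 8 S9 b8_543 j9_543_33 = true := by decide +kernel

noncomputable def j9_543_34 : List Job := [
  ⟨29, 0x520924a259309a4e27960b25a2d970ba5e2fd008242219108a4623940a25229950aa562bc804222118904a26138a0522a158b05a2e17c2e15098440e0501, 0, 40, 0x204000605001a05001e05, []⟩]

theorem t9_543_34 : jobs 8 S9 b8_543 j9_543_34 = true := by decide +kernel

noncomputable def j9_543_35 : List Job := [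
  ⟨28, 0x4804222118904a26138a0522a158b05a2e17c180f0402c0e0501, 0, 40, 0x1205001604, []⟩]

theorem t9_543_35 : jobs 8 S9 b8_543 j9_543_35 = true := by decide +kernel

noncomputable def j9_543_36 : List Job := [
  ⟨27, 0x601028241a21128a45a41229249a61329a4dc804222118904a26138a0522a158b05a2e17c180f0402c0e0501, 0, 40, 0x1204001605, []⟩]

theorem t9_543_36 : jobs 8 S9 b8_543 j9_543_36 = true := by decide +kernel

noncomputable def j9_543_37 : List Job := [
  ⟨26, 0x520924a259309a4e27960b25a2d970ba5e2fd008242219108a4623940a25229950aa562bc804222118904a26138a0522a158b05a2e17c180f0402c0e0501, 0, 40, 0x0, []⟩]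

theorem t9_543_37 : jobs 8 S9 b8_543 j9_543_37 = true := by decide +kernel

noncomputable def j9_543_38 : List Job := [
  ⟨25, 0x601028241a21128a45a41229249a61329a4dd20924a259309a4e27960b25a2d970ba5e2fd008242219108a4623940a25229950aa562bc804222118904a26138a0522a158b05a2e17c140f040340e0501, 0, 40, 0x0, []⟩]

theorem t9_543_38 : jobs 8 S9 b8_543 j9_543_38 = true := by decide +kernel

noncomputable def j9_543_39 : List Job := [
  ⟨24, 0x4140d0403c0e0501, 0, 28, 0x1205001404, []⟩]

theorem t9_543_39 : jobs 8 S9 b8_543 j9_543_39 = true := by decide +kernel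

noncomputable def j9_543_40 : List Job := [
  ⟨23, 0x601028241a21128a45a41229249a61329a4dc140d0403c0e0501, 0, 28, 0x1204001404, []⟩]

theorem t9_543_40 : jobs 8 S9 b8_543 j9_543_40 = true := by decide +kernel

noncomputable def j9_543_41 : List Job := [
  ⟨22, 0x520924a259309a4e27960b25a2d970ba5e2fd008242219108a4623940a25229950aa562bc140d0403c0e0501, 0, 28, 0x0, []⟩]

theorem t9_543_41 : jobs 8 S9 b8_543 j9_543_41 = true := by decide +kernel

noncomputable def j9_543_42 : List Job := [
  ⟨21, 0x601028241a21128a45a41229249a61329a4dd20924a259309a4e27960b25a2d970ba5e2fd008242219108a4623940a25229950aa562bc140d0403c0e0501, 0, 28, 0x0, []⟩]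

theorem t9_543_42 : jobs 8 S9 b8_543 j9_543_42 = true := by decide +kernel

noncomputable def j9_543_43 : List Job := [
  ⟨20, 0x4c06232198d06a361b8e0723a1d8f07a3e1fc804222118904a26138a0522a158b05a2e17c140d0403c0e0501, 0, 28, 0x0, []⟩]

theorem t9_543_43 : jobs 8 S9 b8_543 j9_543_43 = true := by decide +kernel

noncomputable def j9_543_44 : List Job := [
  ⟨19, 0x601028241a21128a45a41229249a61329a4dcc06232198d06a361b8e0723a1d8f07a3e1fc804222118904a26138a0522a158b05a2e17c140d0403c0e0501, 0, 28, 0x0, []⟩]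

theorem t9_543_44 : jobs 8 S9 b8_543 j9_543_44 = true := by decide +kernel

noncomputable def j9_543_45 : List Job := [
  ⟨18, 0x508864623948a6542ad00824422940a2562bc804222118904a26138a0522a158b05a2e17c140d0403c0e0501, 0, 56, 0x204000a05001204001404001601001a07001c07001e01, []⟩]

theorem t9_543_45 : jobs 8 S9 b8_543 j9_543_45 = true := by decide +kernel

noncomputable def j9_543_46 : List Job := [
  ⟨17, 0x601028241a21128a45a41229249a61329a4dd04864523944a6542b500844423140a4552bc804222118904a26138a0522a158b05a2e17c140d0403c0e0501, 0, 56, 0x202000a03001202001402001601001a05001c05001e01, []⟩]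

theorem t9_543_46 : jobs 8 S9 b8_543 j9_543_46 = true := by decide +kernel

noncomputable def j9_543_47 : List Job := [
  ⟨16, 0x46435180dc502a160bc381f0c06c0e0501, 0, 40, 0x0, []⟩]

theorem t9_543_47 : jobs 8 S9 b8_543 j9_543_47 = true := by decide +kernel

noncomputable def j9_543_48 : List Job := [
  ⟨15, 0x4804222118904a26138a0522a158b05a2e17c6837180cc502a160bc341d0c07c0e0501, 0, 40, 0x0, []⟩]

theorem t9_543_48 : jobs 8 S9 b8_543 j9_543_48 = true := by decide +kernel

noncomputable def j9_543_49 : List Job := [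
  ⟨14, 0x4804222118904a26138a0522a158b05a2e17c6435180dc502a160bc381f0c06c0e0501, 0, 40, 0x0, []⟩]

theorem t9_543_49 : jobs 8 S9 b8_543 j9_543_49 = true := by decide +kernel

noncomputable def j9_543_50 : List Job := [
  ⟨13, 0x601028241a21128a45a41229249a61329a4dc804222118904a26138a0522a158b05a2e17c6435180dc502a160bc341f0c0740e0501, 0, 40, 0x0, []⟩]

theorem t9_543_50 : jobs 8 S9 b8_543 j9_543_50 = true := by decide +kernel

noncomputable def j9_543_51 : List Job := [
  ⟨12, 0x4804222118904a26138a0522a158b05a2e17c703a1e0fc502a160bc2417080540e0501, 0, 56, 0x0, []⟩]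

theorem t9_543_51 : jobs 8 S9 b8_543 j9_543_51 = true := by decide +kernel

noncomputable def j9_543_52 : List Job := [
  ⟨11, 0x460321a0dc542d140bc301a0e07c0e0501, 0, 30, 0x0, []⟩]

theorem t9_543_52 : jobs 8 S9 b8_543 j9_543_52 = true := by decide +kernel

noncomputable def j9_543_53 : List Job := [
  ⟨10, 0x4804222118904a26138a0522a158b05a2e17c60321a0dc542d140bc301a0e07c0e0501, 0, 56, 0x0, []⟩]

theorem t9_543_53 : jobs 8 S9 b8_543 j9_543_53 = true := by decide +kernel

noncomputable def j9_543_54 : List Job := [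
  ⟨9, 0x601028241a21128a45a41229249a61329a4dc804222118904a26138a0522a158b05a2e17c60321a0dc542d140bc301a0e07c0e0501, 0, 30, 0x0, []⟩]

theorem t9_543_54 : jobs 8 S9 b8_543 j9_543_54 = true := by decide +kernel

noncomputable def j9_543_55 : List Job := [
  ⟨8, 0x4783f1c0ec582f140ac2e15098440e0501, 0, 26, 0x204000407000605001007001204001404, []⟩]

theorem t9_543_55 : jobs 8 S9 b8_543 j9_543_55 = true := by decide +kernel

noncomputable def j9_543_56 : List Job := [
  ⟨7, 0x4743d1c0fc542d140bc2e15098440e0501, 0, 26, 0x204000404000604001404001604001804, []⟩]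

theorem t9_543_56 : jobs 8 S9 b8_543 j9_543_56 = true := by decide +kernel

noncomputable def j9_543_57 : List Job := [
  ⟨6, 0x4804222118904a26138a0522a158b05a2e17c783f1c0ec582f140ac2e15098440e0501, 0, 40, 0x202000602001a04001e05, []⟩]

theorem t9_543_57 : jobs 8 S9 b8_543 j9_543_57 = true := by decide +kernel

noncomputable def j9_543_58 : List Job := [
  ⟨5, 0x601028241a21128a45a41229249a61329a4dc804222118904a26138a0522a158b05a2e17c743f1c0f4542f140b42e15098440e0501, 0, 42, 0x202001e01002401003e05, []⟩]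

theorem t9_543_58 : jobs 8 S9 b8_543 j9_543_58 = true := by decide +kernel

noncomputable def j9_543_59 : List Job := [
  ⟨4, 0x4804222118904a26138a0522a158b05a2e17c743d1c0fc542d140bc2e15098440e0501, 0, 40, 0x203000602001a04001e05, []⟩]

theorem t9_543_59 : jobs 8 S9 b8_543 j9_543_59 = true := by decide +kernel

noncomputable def j9_543_60 : List Job := [
  ⟨3, 0x601028241a21128a45a41229249a61329a4dc804222118904a26138a0522a158b05a2e17c743d1c0fc542d140bc2e15098440e0501, 0, 38, 0x202001c01002201002401002601002801002a01002c01003a07, []⟩]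

theorem t9_543_60 : jobs 8 S9 b8_543 j9_543_60 = true := by decide +kernel

noncomputable def j9_543_61 : List Job := [
  ⟨2, 0x4783f1c0ec6837180cc180f0402c0e0501, 0, 40, 0x603000805000e04001003, []⟩]

theorem t9_543_61 : jobs 8 S9 b8_543 j9_543_61 = true := by decide +kernel

noncomputable def j9_543_62 : List Job := [
  ⟨1, 0x601028241a21128a45a41229249a61329a4dc743f1c0f46437180d4140f040340e0501, 0, 40, 0x602000803000e07001006, []⟩]

theorem t9_543_62 : jobs 8 S9 b8_543 j9_543_62 = true := by decide +kernel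

noncomputable def j9_543_63 : List Job := [
  ⟨0, 0x4743d1c0fc6435180dc140d0403c0e0501, 0, 40, 0x203000402000604000805000a04000c05000e03001002001203001405001604001802, []⟩]

theorem t9_543_63 : jobs 8 S9 b8_543 j9_543_63 = true := by decide +kernel

theorem d9_543 : Dn 8 S9 b8_543 := dn_of (Js := j9_543_0 ++ (j9_543_1 ++ (j9_543_2 ++ (j9_543_3 ++ (j9_543_4 ++ (j9_543_5 ++ (j9_543_6 ++ (j9_543_7 ++ (j9_543_8 ++ (j9_543_9 ++ (j9_543_10 ++ (j9_543_11 ++ (j9_543_12 ++ (j9_543_13 ++ (j9_543_14 ++ (j9_543_15 ++ (j9_543_16 ++ (j9_543_17 ++ (j9_543_18 ++ (j9_543_19 ++ (j9_543_20 ++ (j9_543_21 ++ (j9_543_22 ++ (j9_543_23 ++ (j9_543_24 ++ (j9_543_25 ++ (j9_543_26 ++ (j9_543_27 ++ (j9_543_28 ++ (j9_543_29 ++ (j9_543_30 ++ (j9_543_31 ++ (j9_543_32 ++ (j9_543_33 ++ (j9_543_34 ++ (j9_543_35 ++ (j9_543_36 ++ (j9_543_37 ++ (j9_543_38 ++ (j9_543_39 ++ (j9_543_40 ++ (j9_543_41 ++ (j9_543_42 ++ (j9_543_43 ++ (j9_543_44 ++ (j9_543_45 ++ (j9_543_46 ++ (j9_543_47 ++ (j9_543_48 ++ (j9_543_49 ++ (j9_543_50 ++ (j9_543_51 ++ (j9_543_52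 ++ (j9_543_53 ++ (j9_543_54 ++ (j9_543_55 ++ (j9_543_56 ++ (j9_543_57 ++ (j9_543_58 ++ (j9_543_59 ++ (j9_543_60 ++ (j9_543_61 ++ (j9_543_62 ++ (j9_543_63 ++ []))))))))))))))))))))))))))))))))))))))))))))))))))))))))))))))))
  (jobs_append t9_543_0 <| jobs_append t9_543_1 <| jobs_append t9_543_2 <| jobs_append t9_543_3 <| jobs_append t9_543_4 <| jobs_append t9_543_5 <| jobs_append t9_543_6 <| jobs_append t9_543_7 <| jobs_append t9_543_8 <| jobs_append t9_543_9 <| jobs_append t9_543_10 <| jobs_append t9_543_11 <| jobs_append t9_543_12 <| jobs_append t9_543_13 <| jobs_append t9_543_14 <| jobs_append t9_543_15 <| jobs_append t9_543_16 <| jobs_append t9_543_17 <| jobs_append t9_543_18 <| jobs_append t9_543_19 <| jobs_append t9_543_20 <| jobs_append t9_543_21 <| jobs_append t9_543_22 <| jobs_append t9_543_23 <| jobs_append t9_543_24 <| jobs_append t9_543_25 <| jobs_append t9_543_26 <| jobs_append t9_543_27 <| jobs_append t9_543_28 <| jobs_append t9_543_29 <| jobs_append t9_543_30 <| jobs_append t9_543_31 <|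 jobs_append t9_543_32 <| jobs_append t9_543_33 <| jobs_append t9_543_34 <| jobs_append t9_543_35 <| jobs_append t9_543_36 <| jobs_append t9_543_37 <| jobs_append t9_543_38 <| jobs_append t9_543_39 <| jobs_append t9_543_40 <| jobs_append t9_543_41 <| jobs_append t9_543_42 <| jobs_append t9_543_43 <| jobs_append t9_543_44 <| jobs_append t9_543_45 <| jobs_append t9_543_46 <| jobs_append t9_543_47 <| jobs_append t9_543_48 <| jobs_append t9_543_49 <| jobs_append t9_543_50 <| jobs_append t9_543_51 <| jobs_append t9_543_52 <| jobs_append t9_543_53 <| jobs_append t9_543_54 <| jobs_append t9_543_55 <| jobs_append t9_543_56 <| jobs_append t9_543_57 <| jobs_append t9_543_58 <| jobs_append t9_543_59 <| jobs_append t9_543_60 <| jobs_append t9_543_61 <| jobs_append t9_543_62 <| jobs_append t9_543_63 <| List.forall_mem_nil _) (by decide +kernel)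

noncomputable def j9_544_0 : List Job := [
  ⟨63, 0x601028241a21128a45a41229249a61329a4dc341f0c0740e0501, 0, 46, 0x0, []⟩]

theorem t9_544_0 : jobs 8 S9 b8_544 j9_544_0 = true := by decide +kernel

noncomputable def j9_544_1 : List Job := [
  ⟨62, 0x42417080540e0501, 0, 56, 0x1a02001c06001e07002005, []⟩]

theorem t9_544_1 : jobs 8 S9 b8_544 j9_544_1 = true := by decide +kernel

noncomputable def j9_544_2 : List Job := [
  ⟨61, 0x609068a45a4926984ce01028844a41229a4dc24150805c0e0501, 0, 56, 0x1203001405001604001805, []⟩]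

theorem t9_544_2 : jobs 8 S9 b8_544 j9_544_2 = true := by decide +kernel

noncomputable def j9_544_3 : List Job := [
  ⟨60, 0x4301a0e07c0e0501, 0, 56, 0x0, []⟩]

theorem t9_544_3 : jobs 8 S9 b8_544 j9_544_3 = true := by decide +kernel

noncomputable def j9_544_4 : List Job := [
  ⟨59, 0x601028241a21128a45a41229249a61329a4dc301a0e07c0e0501, 0, 56, 0x0, []⟩]

theorem t9_544_4 : jobs 8 S9 b8_544 j9_544_4 = true := by decide +kernel

noncomputable def j9_544_5 : List Job := [
  ⟨58, 0x4301a0e07c0e0501, 0, 40, 0x0, []⟩]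

theorem t9_544_5 : jobs 8 S9 b8_544 j9_544_5 = true := by decide +kernel

noncomputable def j9_544_6 : List Job := [
  ⟨57, 0x601028241a21128a45a41229249a61329a4dc301a0e07c0e0501, 0, 40, 0x0, []⟩]

theorem t9_544_6 : jobs 8 S9 b8_544 j9_544_6 = true := by decide +kernel

noncomputable def j9_544_7 : List Job := [
  ⟨56, 0x4301a0e07c0e0501, 0, 40, 0x0, []⟩]

theorem t9_544_7 : jobs 8 S9 b8_544 j9_544_7 = true := by decide +kernel

noncomputable def j9_544_8 : List Job := [
  ⟨55, 0x601028241a21128a45a41229249a61329a4dc301a0e07c0e0501, 0, 40, 0x0, []⟩]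

theorem t9_544_8 : jobs 8 S9 b8_544 j9_544_8 = true := by decide +kernel

noncomputable def j9_544_9 : List Job := [
  ⟨54, 0x4140d0403c0e0501, 0, 40, 0x1402001803, []⟩]

theorem t9_544_9 : jobs 8 S9 b8_544 j9_544_9 = true := by decide +kernel

noncomputable def j9_544_10 : List Job := [
  ⟨53, 0x4180f0402c0e0501, 0, 56, 0x207000a07001407001607001803001c04001e04002004, []⟩]

theorem t9_544_10 : jobs 8 S9 b8_544 j9_544_10 = true := by decide +kernel

noncomputable def j9_544_11 : List Job := [
  ⟨52, 0x601028241a21128a45a41229249a61329a4dc140f040340e0501, 0, 56, 0x202000a02001405001606001806001c02001e06002006, []⟩]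

theorem t9_544_11 : jobs 8 S9 b8_544 j9_544_11 = true := by decide +kernel

noncomputable def j9_544_12 : List Job := [
  ⟨51, 0x4381f0c06c0e0501, 0, 40, 0xc07001007001404001804, []⟩]

theorem t9_544_12 : jobs 8 S9 b8_544 j9_544_12 = true := by decide +kernel

noncomputable def j9_544_13 : List Job := [
  ⟨50, 0x601028241a21128a45a41229249a61329a4dc381f0c06c0e0501, 0, 40, 0xc07001003001407001805, []⟩]

theorem t9_544_13 : jobs 8 S9 b8_544 j9_544_13 = true := by decide +kernel

noncomputable def j9_544_14 : List Job := [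
  ⟨49, 0x520924a259309a4e27960b25a2d970ba5e2fd008242219108a4623940a25229950aa562bc381f0c06c0e0501, 0, 40, 0xc07001404, []⟩]

theorem t9_544_14 : jobs 8 S9 b8_544 j9_544_14 = true := by decide +kernel

noncomputable def j9_544_15 : List Job := [
  ⟨48, 0x601028241a21128a45a41229249a61329a4dd20924a259309a4e27960b25a2d970ba5e2fd008242219108a4623940a25229950aa562bc341f0c0740e0501, 0, 40, 0xc05001405, []⟩]

theorem t9_544_15 : jobs 8 S9 b8_544 j9_544_15 = true := by decide +kernel

noncomputable def j9_544_16 : List Job := [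
  ⟨47, 0x4341d0c07c0e0501, 0, 28, 0xa07000c07000e07001002, []⟩]

theorem t9_544_16 : jobs 8 S9 b8_544 j9_544_16 = true := by decide +kernel

noncomputable def j9_544_17 : List Job := [
  ⟨46, 0x601028241a21128a45a41229249a61329a4dc341d0c07c0e0501, 0, 28, 0xa07000c03000e04001004, []⟩]

theorem t9_544_17 : jobs 8 S9 b8_544 j9_544_17 = true := by decide +kernel

noncomputable def j9_544_18 : List Job := [
  ⟨45, 0x520924a259309a4e27960b25a2d970ba5e2fd008242219108a4623940a25229950aa562bc341d0c07c0e0501, 0, 28, 0xa07000e03, []⟩]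

theorem t9_544_18 : jobs 8 S9 b8_544 j9_544_18 = true := by decide +kernel

noncomputable def j9_544_19 : List Job := [
  ⟨44, 0x601028241a21128a45a41229249a61329a4dd20924a259309a4e27960b25a2d970ba5e2fd008242219108a4623940a25229950aa562bc381f0c06c0e0501, 0, 28, 0xa05000e06, []⟩]

theorem t9_544_19 : jobs 8 S9 b8_544 j9_544_19 = true := by decide +kernel

noncomputable def j9_544_20 : List Job := [
  ⟨43, 0x4381f0c06c0e0501, 0, 28, 0x0, []⟩]

theorem t9_544_20 : jobs 8 S9 b8_544 j9_544_20 = true := by decide +kernel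

noncomputable def j9_544_21 : List Job := [
  ⟨42, 0x601028241a21128a45a41229249a61329a4dc381f0c06c0e0501, 0, 28, 0x0, []⟩]

theorem t9_544_21 : jobs 8 S9 b8_544 j9_544_21 = true := by decide +kernel

noncomputable def j9_544_22 : List Job := [
  ⟨41, 0x520924a259309a4e27960b25a2d970ba5e2fd008242219108a4623940a25229950aa562bc381f0c06c0e0501, 0, 28, 0x0, []⟩]

theorem t9_544_22 : jobs 8 S9 b8_544 j9_544_22 = true := by decide +kernel

noncomputable def j9_544_23 : List Job := [
  ⟨40, 0x601028241a21128a45a41229249a61329a4dd20924a259309a4e27960b25a2d970ba5e2fd008242219108a4623940a25229950aa562bc341f0c0740e0501, 0, 46, 0x0, []⟩]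

theorem t9_544_23 : jobs 8 S9 b8_544 j9_544_23 = true := by decide +kernel

noncomputable def j9_544_24 : List Job := [
  ⟨39, 0x5008242219108a4623940a25229950aa562bc2417080540e0501, 0, 56, 0x1a07001c05001e05002005, []⟩]

theorem t9_544_24 : jobs 8 S9 b8_544 j9_544_24 = true := by decide +kernel

noncomputable def j9_544_25 : List Job := [
  ⟨38, 0x609068a45a4926984ce01028844a41229a4dd008242219108a4623940a25229950aa562bc24150805c0e0501, 0, 56, 0x1204001402001603001805, []⟩]

theorem t9_544_25 : jobs 8 S9 b8_544 j9_544_25 = true := by decide +kernel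

noncomputable def j9_544_26 : List Job := [
  ⟨37, 0x5008242219108a4623940a25229950aa562bc2417080540e0501, 0, 40, 0x1603001805, []⟩]

theorem t9_544_26 : jobs 8 S9 b8_544 j9_544_26 = true := by decide +kernel

noncomputable def j9_544_27 : List Job := [
  ⟨36, 0x5008242219108a4623940a25229950aa562bc301a0e07c0e0501, 0, 56, 0x0, []⟩]

theorem t9_544_27 : jobs 8 S9 b8_544 j9_544_27 = true := by decide +kernel

noncomputable def j9_544_28 : List Job := [
  ⟨35, 0x601028241a21128a45a41229249a61329a4dd008242219108a4623940a25229950aa562bc301a0e07c0e0501, 0, 56, 0x0, []⟩]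

theorem t9_544_28 : jobs 8 S9 b8_544 j9_544_28 = true := by decide +kernel

noncomputable def j9_544_29 : List Job := [
  ⟨34, 0x5008242219108a4623940a25229950aa562bc301a0e07c0e0501, 0, 40, 0x0, []⟩]

theorem t9_544_29 : jobs 8 S9 b8_544 j9_544_29 = true := by decide +kernel

noncomputable def j9_544_30 : List Job := [
  ⟨33, 0x601028241a21128a45a41229249a61329a4dd008242219108a4623940a25229950aa562bc301a0e07c0e0501, 0, 40, 0x0, []⟩]

theorem t9_544_30 : jobs 8 S9 b8_544 j9_544_30 = true := by decide +kernel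

noncomputable def j9_544_31 : List Job := [
  ⟨32, 0x5008242219108a4623940a25229950aa562bc301a0e07c0e0501, 0, 40, 0x0, []⟩]

theorem t9_544_31 : jobs 8 S9 b8_544 j9_544_31 = true := by decide +kernel

noncomputable def j9_544_32 : List Job := [
  ⟨31, 0x601028241a21128a45a41229249a61329a4dd008242219108a4623940a25229950aa562bc301a0e07c0e0501, 0, 40, 0x0, []⟩]

theorem t9_544_32 : jobs 8 S9 b8_544 j9_544_32 = true := by decide +kernel

noncomputable def j9_544_33 : List Job := [
  ⟨30, 0x42e15098440e0501, 0, 40, 0x204000403000605000805001a04001c06001e07002005, []⟩]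

theorem t9_544_33 : jobs 8 S9 b8_544 j9_544_33 = true := by decide +kernel

noncomputable def j9_544_34 : List Job := [
  ⟨29, 0x4140d0403c0e0501, 0, 40, 0x1404001804, []⟩]

theorem t9_544_34 : jobs 8 S9 b8_544 j9_544_34 = true := by decide +kernel

noncomputable def j9_544_35 : List Job := [
  ⟨28, 0x601028241a21128a45a41229249a61329a4dc140d0403c0e0501, 0, 40, 0x1404001807, []⟩]

theorem t9_544_35 : jobs 8 S9 b8_544 j9_544_35 = true := by decide +kernel

noncomputable def j9_544_36 : List Job := [
  ⟨27, 0x4180f0402c0e0501, 0, 28, 0x0, []⟩]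

theorem t9_544_36 : jobs 8 S9 b8_544 j9_544_36 = true := by decide +kernel

noncomputable def j9_544_37 : List Job := [
  ⟨26, 0x601028241a21128a45a41229249a61329a4dc180f0402c0e0501, 0, 28, 0x0, []⟩]

theorem t9_544_37 : jobs 8 S9 b8_544 j9_544_37 = true := by decide +kernel

noncomputable def j9_544_38 : List Job := [
  ⟨25, 0x504844523144a4542bd00864423940a6552b4180f0402c0e0501, 0, 56, 0x205000a02001203001407001801001a03001c04002001, []⟩]

theorem t9_544_38 : jobs 8 S9 b8_544 j9_544_38 = true := by decide +kernel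

noncomputable def j9_544_39 : List Job := [
  ⟨24, 0x601028241a21128a45a41229249a61329a4dd08864623948a6542ad00824422940a2562bc140f040340e0501, 0, 56, 0x207000a02001205001403001801001a05001c03002001, []⟩]

theorem t9_544_39 : jobs 8 S9 b8_544 j9_544_39 = true := by decide +kernel

noncomputable def j9_544_40 : List Job := [
  ⟨23, 0x4804222118904a26138a0522a158b05a2e17c341d0c07c0e0501, 0, 40, 0xa05000e07001203001605, []⟩]

theorem t9_544_40 : jobs 8 S9 b8_544 j9_544_40 = true := by decide +kernel

noncomputable def j9_544_41 : List Job := [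
  ⟨22, 0x601028241a21128a45a41229249a61329a4dc804222118904a26138a0522a158b05a2e17c341d0c07c0e0501, 0, 40, 0xa04000e05001207001602, []⟩]

theorem t9_544_41 : jobs 8 S9 b8_544 j9_544_41 = true := by decide +kernel

noncomputable def j9_544_42 : List Job := [
  ⟨21, 0x4804222118904a26138a0522a158b05a2e17c381f0c06c0e0501, 0, 40, 0xe07001604, []⟩]

theorem t9_544_42 : jobs 8 S9 b8_544 j9_544_42 = true := by decide +kernel

noncomputable def j9_544_43 : List Job := [
  ⟨20, 0x601028241a21128a45a41229249a61329a4dc804222118904a26138a0522a158b05a2e17c341f0c0740e0501, 0, 40, 0xe05001605, []⟩]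

theorem t9_544_43 : jobs 8 S9 b8_544 j9_544_43 = true := by decide +kernel

noncomputable def j9_544_44 : List Job := [
  ⟨19, 0x4341d0c07c0e0501, 0, 28, 0xa05000c07000e07001007, []⟩]

theorem t9_544_44 : jobs 8 S9 b8_544 j9_544_44 = true := by decide +kernel

noncomputable def j9_544_45 : List Job := [
  ⟨18, 0x601028241a21128a45a41229249a61329a4dc341d0c07c0e0501, 0, 28, 0xa02000c07000e05001005, []⟩]

theorem t9_544_45 : jobs 8 S9 b8_544 j9_544_45 = true := by decide +kernel

noncomputable def j9_544_46 : List Job := [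
  ⟨17, 0x4381f0c06c0e0501, 0, 28, 0xc07001005, []⟩]

theorem t9_544_46 : jobs 8 S9 b8_544 j9_544_46 = true := by decide +kernel

noncomputable def j9_544_47 : List Job := [
  ⟨16, 0x601028241a21128a45a41229249a61329a4dc341f0c0740e0501, 0, 28, 0xc07001007, []⟩]

theorem t9_544_47 : jobs 8 S9 b8_544 j9_544_47 = true := by decide +kernel

noncomputable def j9_544_48 : List Job := [
  ⟨15, 0x4c06232198d06a361b8e0723a1d8f07a3e1fc804222118904a26138a0522a158b05a2e17c341d0c07c0e0501, 0, 28, 0x0, []⟩]

theorem t9_544_48 : jobs 8 S9 b8_544 j9_544_48 = true := by decide +kernel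

noncomputable def j9_544_49 : List Job := [
  ⟨14, 0x601028241a21128a45a41229249a61329a4dcc06232198d06a361b8e0723a1d8f07a3e1fc804222118904a26138a0522a158b05a2e17c381f0c06c0e0501, 0, 28, 0x0, []⟩]

theorem t9_544_49 : jobs 8 S9 b8_544 j9_544_49 = true := by decide +kernel

noncomputable def j9_544_50 : List Job := [
  ⟨13, 0x4c06232198d06a361b8e0723a1d8f07a3e1fc804222118904a26138a0522a158b05a2e17c381f0c06c0e0501, 0, 28, 0x0, []⟩]

theorem t9_544_50 : jobs 8 S9 b8_544 j9_544_50 = true := by decide +kernel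

noncomputable def j9_544_51 : List Job := [
  ⟨12, 0x601028241a21128a45a41229249a61329a4dcc06232198d06a361b8e0723a1d8f07a3e1fc804222118904a26138a0522a158b05a2e17c341f0c0740e0501, 0, 46, 0x0, []⟩]

theorem t9_544_51 : jobs 8 S9 b8_544 j9_544_51 = true := by decide +kernel

noncomputable def j9_544_52 : List Job := [
  ⟨11, 0x4804222118904a26138a0522a158b05a2e17c2417080540e0501, 0, 56, 0x1a07001e05, []⟩]

theorem t9_544_52 : jobs 8 S9 b8_544 j9_544_52 = true := by decide +kernel

noncomputable def j9_544_53 : List Job := [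
  ⟨10, 0x609068a45a4926984ce01028844a41229a4dc804222118904a26138a0522a158b05a2e17c24150805c0e0501, 0, 56, 0x1204001604, []⟩]

theorem t9_544_53 : jobs 8 S9 b8_544 j9_544_53 = true := by decide +kernel

noncomputable def j9_544_54 : List Job := [
  ⟨9, 0x42417080540e0501, 0, 40, 0x0, []⟩]

theorem t9_544_54 : jobs 8 S9 b8_544 j9_544_54 = true := by decide +kernel

noncomputable def j9_544_55 : List Job := [
  ⟨8, 0x4c06232198d06a361b8e0723a1d8f07a3e1fc804222118904a26138a0522a158b05a2e17c2417080540e0501, 0, 40, 0x0, []⟩]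

theorem t9_544_55 : jobs 8 S9 b8_544 j9_544_55 = true := by decide +kernel

noncomputable def j9_544_56 : List Job := [
  ⟨7, 0x4804222118904a26138a0522a158b05a2e17c301a0e07c0e0501, 0, 56, 0x0, []⟩]

theorem t9_544_56 : jobs 8 S9 b8_544 j9_544_56 = true := by decide +kernel

noncomputable def j9_544_57 : List Job := [
  ⟨6, 0x601028241a21128a45a41229249a61329a4dc804222118904a26138a0522a158b05a2e17c301a0e07c0e0501, 0, 56, 0x0, []⟩]

theorem t9_544_57 : jobs 8 S9 b8_544 j9_544_57 = true := by decide +kernel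

noncomputable def j9_544_58 : List Job := [
  ⟨5, 0x4301a0e07c0e0501, 0, 40, 0x0, []⟩]

theorem t9_544_58 : jobs 8 S9 b8_544 j9_544_58 = true := by decide +kernel

noncomputable def j9_544_59 : List Job := [
  ⟨4, 0x601028241a21128a45a41229249a61329a4dc301a0e07c0e0501, 0, 40, 0x0, []⟩]

theorem t9_544_59 : jobs 8 S9 b8_544 j9_544_59 = true := by decide +kernel

noncomputable def j9_544_60 : List Job := [
  ⟨3, 0x4c06232198d06a361b8e0723a1d8f07a3e1fc804222118904a26138a0522a158b05a2e17c301a0e07c0e0501, 0, 40, 0x0, []⟩]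

theorem t9_544_60 : jobs 8 S9 b8_544 j9_544_60 = true := by decide +kernel

noncomputable def j9_544_61 : List Job := [
  ⟨2, 0x601028241a21128a45a41229249a61329a4dcc06232198d06a361b8e0723a1d8f07a3e1fc804222118904a26138a0522a158b05a2e17c301a0e07c0e0501, 0, 40, 0x0, []⟩]

theorem t9_544_61 : jobs 8 S9 b8_544 j9_544_61 = true := by decide +kernel

noncomputable def j9_544_62 : List Job := [
  ⟨1, 0x4804222118904a26138a0522a158b05a2e17c2e15098440e0501, 0, 40, 0x204000605001a05001e05, []⟩]

theorem t9_544_62 : jobs 8 S9 b8_544 j9_544_62 = true := by decide +kernel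

noncomputable def j9_544_63 : List Job := [
  ⟨0, 0x4804222118904a26138a0522a158b05a2e17c2e15098440e0501, 0, 40, 0x203000604001a04001e05, []⟩]

theorem t9_544_63 : jobs 8 S9 b8_544 j9_544_63 = true := by decide +kernel

theorem d9_544 : Dn 8 S9 b8_544 := dn_of (Js := j9_544_0 ++ (j9_544_1 ++ (j9_544_2 ++ (j9_544_3 ++ (j9_544_4 ++ (j9_544_5 ++ (j9_544_6 ++ (j9_544_7 ++ (j9_544_8 ++ (j9_544_9 ++ (j9_544_10 ++ (j9_544_11 ++ (j9_544_12 ++ (j9_544_13 ++ (j9_544_14 ++ (j9_544_15 ++ (j9_544_16 ++ (j9_544_17 ++ (j9_544_18 ++ (j9_544_19 ++ (j9_544_20 ++ (j9_544_21 ++ (j9_544_22 ++ (j9_544_23 ++ (j9_544_24 ++ (j9_544_25 ++ (j9_544_26 ++ (j9_544_27 ++ (j9_544_28 ++ (j9_544_29 ++ (j9_544_30 ++ (j9_544_31 ++ (j9_544_32 ++ (j9_544_33 ++ (j9_544_34 ++ (j9_544_35 ++ (j9_544_36 ++ (j9_544_37 ++ (j9_544_38 ++ (j9_544_39 ++ (j9_544_40 ++ (j9_544_41 ++ (j9_544_42 ++ (j9_544_43 ++ (j9_544_44 ++ (j9_544_45 ++ (j9_544_46 ++ (j9_544_47 ++ (j9_544_48 ++ (j9_544_49 ++ (j9_544_50 ++ (j9_544_51 ++ (j9_544_52 ++ (j9_544_53 ++ (j9_544_54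 ++ (j9_544_55 ++ (j9_544_56 ++ (j9_544_57 ++ (j9_544_58 ++ (j9_544_59 ++ (j9_544_60 ++ (j9_544_61 ++ (j9_544_62 ++ (j9_544_63 ++ []))))))))))))))))))))))))))))))))))))))))))))))))))))))))))))))))
  (jobs_append t9_544_0 <| jobs_append t9_544_1 <| jobs_append t9_544_2 <| jobs_append t9_544_3 <| jobs_append t9_544_4 <| jobs_append t9_544_5 <| jobs_append t9_544_6 <| jobs_append t9_544_7 <| jobs_append t9_544_8 <| jobs_append t9_544_9 <| jobs_append t9_544_10 <| jobs_append t9_544_11 <| jobs_append t9_544_12 <| jobs_append t9_544_13 <| jobs_append t9_544_14 <| jobs_append t9_544_15 <| jobs_append t9_544_16 <| jobs_append t9_544_17 <| jobs_append t9_544_18 <| jobs_append t9_544_19 <| jobs_append t9_544_20 <| jobs_append t9_544_21 <| jobs_append t9_544_22 <| jobs_append t9_544_23 <| jobs_append t9_544_24 <| jobs_append t9_544_25 <| jobs_append t9_544_26 <| jobs_append t9_544_27 <| jobs_append t9_544_28 <| jobs_append t9_544_29 <| jobs_append t9_544_30 <| jobs_append t9_544_31 <| jobs_append t9_544_32 <| jobs_append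 t9_544_33 <| jobs_append t9_544_34 <| jobs_append t9_544_35 <| jobs_append t9_544_36 <| jobs_append t9_544_37 <| jobs_append t9_544_38 <| jobs_append t9_544_39 <| jobs_append t9_544_40 <| jobs_append t9_544_41 <| jobs_append t9_544_42 <| jobs_append t9_544_43 <| jobs_append t9_544_44 <| jobs_append t9_544_45 <| jobs_append t9_544_46 <| jobs_append t9_544_47 <| jobs_append t9_544_48 <| jobs_append t9_544_49 <| jobs_append t9_544_50 <| jobs_append t9_544_51 <| jobs_append t9_544_52 <| jobs_append t9_544_53 <| jobs_append t9_544_54 <| jobs_append t9_544_55 <| jobs_append t9_544_56 <| jobs_append t9_544_57 <| jobs_append t9_544_58 <| jobs_append t9_544_59 <| jobs_append t9_544_60 <| jobs_append t9_544_61 <| jobs_append t9_544_62 <| jobs_append t9_544_63 <| List.forall_mem_nil _) (by decide +kernel)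

noncomputable def j9_545_0 : List Job := [
  ⟨63, 0x4c06232198d06a361b8e0723a1d8f07a3e1fc804222118904a26138a0522a158b05a2e17c7e3d1d8e40e0501, 0, 19, 0x206000404002007002203002407, []⟩]

theorem t9_545_0 : jobs 8 S9 b8_545 j9_545_0 = true := by decide +kernel

noncomputable def j9_545_1 : List Job := [
  ⟨62, 0x47e3d1d8e40e0501, 0, 19, 0x206000406002002002207002407002607, []⟩]

theorem t9_545_1 : jobs 8 S9 b8_545 j9_545_1 = true := by decide +kernel

noncomputable def j9_545_2 : List Job := [
  ⟨61, 0x4c06232198d06a361b8e0723a1d8f07a3e1fc804222118904a26138a0522a158b05a2e17c7e3d1d8e40e0501, 0, 19, 0x206000404002002002207002407, []⟩]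

theorem t9_545_2 : jobs 8 S9 b8_545 j9_545_2 = true := by decide +kernel

noncomputable def j9_545_3 : List Job := [
  ⟨60, 0x4c06232198d06a361b8e0723a1d8f07a3e1fc804222118904a26138a0522a158b05a2e17c7e3d1d8e40e0501, 0, 34, 0x204000404003e04004004004204, []⟩]

theorem t9_545_3 : jobs 8 S9 b8_545 j9_545_3 = true := by decide +kernel

noncomputable def j9_545_4 : List Job := [
  ⟨59, 0x6110a8643a311a8e47a512a964ba713a9e4fe01028241a21128a45a41229249a61329a4dcc06232198d06a361b8e0723a1d8f07a3e1fc804222118904a26138a0522a158b05a2e17c7e3d1d8e40e0501, 0, 37, 0x204000405004404004804, []⟩]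

theorem t9_545_4 : jobs 8 S9 b8_545 j9_545_4 = true := by decide +kernel

noncomputable def j9_545_5 : List Job := [
  ⟨58, 0x5008242219108a4623940a25229950aa562bc783f1c0ec0e0501, 0, 40, 0xa06000e06001204001604, []⟩]

theorem t9_545_5 : jobs 8 S9 b8_545 j9_545_5 = true := by decide +kernel

noncomputable def j9_545_6 : List Job := [
  ⟨57, 0x4783f1c0ec0e0501, 0, 40, 0xa04000c04000e02001002001202001402001602001806, []⟩]

theorem t9_545_6 : jobs 8 S9 b8_545 j9_545_6 = true := by decide +kernel

noncomputable def j9_545_7 : List Job := [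
  ⟨56, 0x601028241a21128a45a41229249a61329a4dc783f1c0ec0e0501, 0, 40, 0xa04000c04000e02001006001206001406001604001804, []⟩]

theorem t9_545_7 : jobs 8 S9 b8_545 j9_545_7 = true := by decide +kernel

noncomputable def j9_545_8 : List Job := [
  ⟨55, 0x5008242219108a4623940a25229950aa562bc783f1c0ec0e0501, 0, 40, 0xa04000c04000e06001006001202001406001604001804, []⟩]

theorem t9_545_8 : jobs 8 S9 b8_545 j9_545_8 = true := by decide +kernel

noncomputable def j9_545_9 : List Job := [
  ⟨54, 0x601028241a21128a45a41229249a61329a4dd008242219108a4623940a25229950aa562bc783f1c0ec0e0501, 0, 40, 0xa04000c05000e06001002001206001402001606001802, []⟩]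

theorem t9_545_9 : jobs 8 S9 b8_545 j9_545_9 = true := by decide +kernel

noncomputable def j9_545_10 : List Job := [
  ⟨53, 0x5008242219108a4623940a25229950aa562bcc06232198d06a361b8e0723a1d8f07a3e1fc804222118904a26138a0522a158b05a2e17c783f1c0ec0e0501, 0, 40, 0xa04000e06001206001604, []⟩]

theorem t9_545_10 : jobs 8 S9 b8_545 j9_545_10 = true := by decide +kernel

noncomputable def j9_545_11 : List Job := [
  ⟨52, 0x4804222118904a26138a0522a158b05a2e17c703a1e0fc0e0501, 0, 56, 0x0, []⟩]

theorem t9_545_11 : jobs 8 S9 b8_545 j9_545_11 = true := by decide +kernel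

noncomputable def j9_545_12 : List Job := [
  ⟨51, 0x5008242219108a4623940a25229950aa562bc804222118904a26138a0522a158b05a2e17c703a1e0fc0e0501, 0, 56, 0x0, []⟩]

theorem t9_545_12 : jobs 8 S9 b8_545 j9_545_12 = true := by decide +kernel

noncomputable def j9_545_13 : List Job := [
  ⟨50, 0x4502a160bc0e0501, 0, 56, 0x0, []⟩]

theorem t9_545_13 : jobs 8 S9 b8_545 j9_545_13 = true := by decide +kernel

noncomputable def j9_545_14 : List Job := [
  ⟨49, 0x601028241a21128a45a41229249a61329a4dc502a160bc0e0501, 0, 56, 0x0, []⟩]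

theorem t9_545_14 : jobs 8 S9 b8_545 j9_545_14 = true := by decide +kernel

noncomputable def j9_545_15 : List Job := [
  ⟨48, 0x504864523944a6542b500844423140a4552bc502a160bc0e0501, 0, 56, 0x0, []⟩]

theorem t9_545_15 : jobs 8 S9 b8_545 j9_545_15 = true := by decide +kernel

noncomputable def j9_545_16 : List Job := [
  ⟨47, 0x601028241a21128a45a41229249a61329a4dd04864523944a6542b500844423140a4552bc502a160bc0e0501, 0, 56, 0x0, []⟩]

theorem t9_545_16 : jobs 8 S9 b8_545 j9_545_16 = true := by decide +kernel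

noncomputable def j9_545_17 : List Job := [
  ⟨46, 0x4804222118904a26138a0522a158b05a2e17c502a160bc0e0501, 0, 56, 0x0, []⟩]

theorem t9_545_17 : jobs 8 S9 b8_545 j9_545_17 = true := by decide +kernel

noncomputable def j9_545_18 : List Job := [
  ⟨45, 0x601028241a21128a45a41229249a61329a4dc804222118904a26138a0522a158b05a2e17c502a160bc0e0501, 0, 56, 0x0, []⟩]

theorem t9_545_18 : jobs 8 S9 b8_545 j9_545_18 = true := by decide +kernel

noncomputable def j9_545_19 : List Job := [
  ⟨44, 0x504864523944a6542b500844423140a4552bc804222118904a26138a0522a158b05a2e17c502a160bc0e0501, 0, 56, 0x0, []⟩]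

theorem t9_545_19 : jobs 8 S9 b8_545 j9_545_19 = true := by decide +kernel

noncomputable def j9_545_20 : List Job := [
  ⟨43, 0x601028241a21128a45a41229249a61329a4dd04864523944a6542b500844423140a4552bc804222118904a26138a0522a158b05a2e17c502a160bc0e0501, 0, 56, 0x0, []⟩]

theorem t9_545_20 : jobs 8 S9 b8_545 j9_545_20 = true := by decide +kernel

noncomputable def j9_545_21 : List Job := [
  ⟨42, 0x4582f140ac0e0501, 0, 30, 0x202000402000605000802000a02000c07, []⟩]

theorem t9_545_21 : jobs 8 S9 b8_545 j9_545_21 = true := by decide +kernel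

noncomputable def j9_545_22 : List Job := [
  ⟨41, 0x504864523944a6542b500844423140a4552bc582f140ac0e0501, 0, 34, 0x206000406000a04, []⟩]

theorem t9_545_22 : jobs 8 S9 b8_545 j9_545_22 = true := by decide +kernel

noncomputable def j9_545_23 : List Job := [
  ⟨40, 0x4804222118904a26138a0522a158b05a2e17c582f140ac0e0501, 0, 56, 0x202000404000604000806000a02000c06000e06001004, []⟩]

theorem t9_545_23 : jobs 8 S9 b8_545 j9_545_23 = true := by decide +kernel

noncomputable def j9_545_24 : List Job := [
  ⟨39, 0x601028241a21128a45a41229249a61329a4dc804222118904a26138a0522a158b05a2e17c582f140ac0e0501, 0, 30, 0x202000406000606000802000a02000c02, []⟩]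

theorem t9_545_24 : jobs 8 S9 b8_545 j9_545_24 = true := by decide +kernel

noncomputable def j9_545_25 : List Job := [
  ⟨38, 0x504864523944a6542b500844423140a4552bc804222118904a26138a0522a158b05a2e17c582f140ac0e0501, 0, 56, 0x206000406000a04000c04, []⟩]

theorem t9_545_25 : jobs 8 S9 b8_545 j9_545_25 = true := by decide +kernel

noncomputable def j9_545_26 : List Job := [
  ⟨37, 0x601028241a21128a45a41229249a61329a4dd04864523944a6542b500844423140a4552bc804222118904a26138a0522a158b05a2e17c582f140ac0e0501, 0, 54, 0x202000402000a02, []⟩]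

theorem t9_545_26 : jobs 8 S9 b8_545 j9_545_26 = true := by decide +kernel

noncomputable def j9_545_27 : List Job := [
  ⟨36, 0x4884626138a8562c16c804224128a0522e17c140d0403c0e0501, 0, 56, 0x2202002605002a02002e05, []⟩]

theorem t9_545_27 : jobs 8 S9 b8_545 j9_545_27 = true := by decide +kernel

noncomputable def j9_545_28 : List Job := [
  ⟨35, 0x601028241a21128a45a41229249a61329a4dc884626138a8562c16c804224128a0522e17c140d0403c0e0501, 0, 56, 0x2204002603002a02002e05, []⟩]

theorem t9_545_28 : jobs 8 S9 b8_545 j9_545_28 = true := by decide +kernel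

noncomputable def j9_545_29 : List Job := [
  ⟨34, 0x4804222118904a26138a0522a158b05a2e17c703a1e0fc0e0501, 0, 56, 0x0, []⟩]

theorem t9_545_29 : jobs 8 S9 b8_545 j9_545_29 = true := by decide +kernel

noncomputable def j9_545_30 : List Job := [
  ⟨33, 0x46435180dc0e0501, 0, 30, 0x1202001404001602, []⟩]

theorem t9_545_30 : jobs 8 S9 b8_545 j9_545_30 = true := by decide +kernel

noncomputable def j9_545_31 : List Job := [
  ⟨32, 0x4804222118904a26138a0522a158b05a2e17c6435180dc0e0501, 0, 56, 0x2206002406002602002802, []⟩]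

theorem t9_545_31 : jobs 8 S9 b8_545 j9_545_31 = true := by decide +kernel

noncomputable def j9_545_32 : List Job := [
  ⟨31, 0x5008242219108a4623940a25229950aa562bc804222118904a26138a0522a158b05a2e17c6435180dc0e0501, 0, 30, 0x1202001402001602, []⟩]

theorem t9_545_32 : jobs 8 S9 b8_545 j9_545_32 = true := by decide +kernel

noncomputable def j9_545_33 : List Job := [
  ⟨30, 0x4743d1c0fc0e0501, 0, 40, 0x1206001406001606001804001a02001c06001e06002004, []⟩]

theorem t9_545_33 : jobs 8 S9 b8_545 j9_545_33 = true := by decide +kernel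

noncomputable def j9_545_34 : List Job := [
  ⟨29, 0x4743f1c0f40e0501, 0, 40, 0x1206001404001604001802, []⟩]

theorem t9_545_34 : jobs 8 S9 b8_545 j9_545_34 = true := by decide +kernel

noncomputable def j9_545_35 : List Job := [
  ⟨28, 0x5008242219108a4623940a25229950aa562bc743d1c0fc0e0501, 0, 40, 0x1206001404001604001802001a02001c04001e04002002, []⟩]

theorem t9_545_35 : jobs 8 S9 b8_545 j9_545_35 = true := by decide +kernel

noncomputable def j9_545_36 : List Job := [
  ⟨27, 0x5008242219108a4623940a25229950aa562bc743f1c0f40e0501, 0, 40, 0x1206001402001606001802, []⟩]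

theorem t9_545_36 : jobs 8 S9 b8_545 j9_545_36 = true := by decide +kernel

noncomputable def j9_545_37 : List Job := [
  ⟨26, 0x4804222118904a26138a0522a158b05a2e17c743d1c0fc0e0501, 0, 40, 0x1206001404001604001802001a02001c04001e04002002, []⟩]

theorem t9_545_37 : jobs 8 S9 b8_545 j9_545_37 = true := by decide +kernel

noncomputable def j9_545_38 : List Job := [
  ⟨25, 0x4804222118904a26138a0522a158b05a2e17c743f1c0f40e0501, 0, 40, 0x1206001406001602001802, []⟩]

theorem t9_545_38 : jobs 8 S9 b8_545 j9_545_38 = true := by decide +kernel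

noncomputable def j9_545_39 : List Job := [
  ⟨24, 0x5008242219108a4623940a25229950aa562bc804222118904a26138a0522a158b05a2e17c783f1c0ec0e0501, 0, 40, 0x1204001406001606001806001a05001c02001e02002002, []⟩]

theorem t9_545_39 : jobs 8 S9 b8_545 j9_545_39 = true := by decide +kernel

noncomputable def j9_545_40 : List Job := [
  ⟨23, 0x5008242219108a4623940a25229950aa562bc804222118904a26138a0522a158b05a2e17c743f1c0f40e0501, 0, 64, 0x1204001404001604001804, []⟩]

theorem t9_545_40 : jobs 8 S9 b8_545 j9_545_40 = true := by decide +kernel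

noncomputable def j9_545_41 : List Job := [
  ⟨22, 0x601028241a21128a45a41229249a61329a4dc804222118904a26138a0522a158b05a2e17c703a1e0fc0e0501, 0, 56, 0x0, []⟩]

theorem t9_545_41 : jobs 8 S9 b8_545 j9_545_41 = true := by decide +kernel

noncomputable def j9_545_42 : List Job := [
  ⟨21, 0x609068a45a4926984ce01028844a41229a4dc6435180dc0e0501, 0, 34, 0x1204001406001606, []⟩]

theorem t9_545_42 : jobs 8 S9 b8_545 j9_545_42 = true := by decide +kernel

noncomputable def j9_545_43 : List Job := [
  ⟨20, 0x609068a45a4926984ce01028844a41229a4dc804222118904a26138a0522a158b05a2e17c6435180dc0e0501, 0, 56, 0x2204002402002606002806, []⟩]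

theorem t9_545_43 : jobs 8 S9 b8_545 j9_545_43 = true := by decide +kernel

noncomputable def j9_545_44 : List Job := [
  ⟨19, 0x605068945a4526984d60104884524124994dd008242219108a4623940a25229950aa562bc804222118904a26138a0522a158b05a2e17c6435180dc0e0501, 0, 40, 0x1202001404001604002001002601, []⟩]

theorem t9_545_44 : jobs 8 S9 b8_545 j9_545_44 = true := by decide +kernel

noncomputable def j9_545_45 : List Job := [
  ⟨18, 0x4743d1c0fc0e0501, 0, 40, 0x1204001406001606001806001a04001c06001e06002002, []⟩]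

theorem t9_545_45 : jobs 8 S9 b8_545 j9_545_45 = true := by decide +kernel

noncomputable def j9_545_46 : List Job := [
  ⟨17, 0x6110a8643a311a8e47a512a964ba713a9e4fe01028241a21128a45a41229249a61329a4dc743d1c0fc0e0501, 0, 40, 0x1204001406001606001802, []⟩]

theorem t9_545_46 : jobs 8 S9 b8_545 j9_545_46 = true := by decide +kernel

noncomputable def j9_545_47 : List Job := [
  ⟨16, 0x5008242219108a4623940a25229950aa562bc743d1c0fc0e0501, 0, 40, 0x1204001406001602001804001a04001c02001e02002004, []⟩]

theorem t9_545_47 : jobs 8 S9 b8_545 j9_545_47 = true := by decide +kernel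

noncomputable def j9_545_48 : List Job := [
  ⟨15, 0x6110a8643a311a8e47a512a964ba713a9e4fe01028241a21128a45a41229249a61329a4dd008242219108a4623940a25229950aa562bc743d1c0fc0e0501, 0, 40, 0x1204001402001602001804, []⟩]

theorem t9_545_48 : jobs 8 S9 b8_545 j9_545_48 = true := by decide +kernel

noncomputable def j9_545_49 : List Job := [
  ⟨14, 0x4804222118904a26138a0522a158b05a2e17c743d1c0fc0e0501, 0, 40, 0x1204001402001606001804001a04001c02001e02002004, []⟩]

theorem t9_545_49 : jobs 8 S9 b8_545 j9_545_49 = true := by decide +kernel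

noncomputable def j9_545_50 : List Job := [
  ⟨13, 0x6110a8643a311a8e47a512a964ba713a9e4fe01028241a21128a45a41229249a61329a4dc804222118904a26138a0522a158b05a2e17c743d1c0fc0e0501, 0, 40, 0x1204001402001602001804, []⟩]

theorem t9_545_50 : jobs 8 S9 b8_545 j9_545_50 = true := by decide +kernel

noncomputable def j9_545_51 : List Job := [
  ⟨12, 0x5008242219108a4623940a25229950aa562bc804222118904a26138a0522a158b05a2e17c743d1c0fc0e0501, 0, 40, 0x1204001402001602001802001a05001c06001e06002006, []⟩]

theorem t9_545_51 : jobs 8 S9 b8_545 j9_545_51 = true := by decide +kernel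

noncomputable def j9_545_52 : List Job := [
  ⟨11, 0x6110a8643a311a8e47a512a964ba713a9e4fe01028241a21128a45a41229249a61329a4dd008242219108a4623940a25229950aa562bc804222118904a26138a0522a158b05a2e17c783f1c0ec0e0501, 0, 64, 0x1202001402001602001802, []⟩]

theorem t9_545_52 : jobs 8 S9 b8_545 j9_545_52 = true := by decide +kernel

noncomputable def j9_545_53 : List Job := [
  ⟨10, 0x4341d0c07c0e0501, 0, 40, 0xc03001002001404001804, []⟩]

theorem t9_545_53 : jobs 8 S9 b8_545 j9_545_53 = true := by decide +kernel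

noncomputable def j9_545_54 : List Job := [
  ⟨9, 0x601028241a21128a45a41229249a61329a4dc381f0c06c0e0501, 0, 40, 0xc03001006001403001806, []⟩]

theorem t9_545_54 : jobs 8 S9 b8_545 j9_545_54 = true := by decide +kernel

noncomputable def j9_545_55 : List Job := [
  ⟨8, 0x4381f0c06c0e0501, 0, 40, 0x1007001804, []⟩]

theorem t9_545_55 : jobs 8 S9 b8_545 j9_545_55 = true := by decide +kernel

noncomputable def j9_545_56 : List Job := [
  ⟨7, 0x601028241a21128a45a41229249a61329a4dc341f0c0740e0501, 0, 40, 0x1005001805, []⟩]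

theorem t9_545_56 : jobs 8 S9 b8_545 j9_545_56 = true := by decide +kernel

noncomputable def j9_545_57 : List Job := [
  ⟨6, 0x4341d0c07c0e0501, 0, 28, 0xa07000c07000e03001003, []⟩]

theorem t9_545_57 : jobs 8 S9 b8_545 j9_545_57 = true := by decide +kernel

noncomputable def j9_545_58 : List Job := [
  ⟨5, 0x601028241a21128a45a41229249a61329a4dc381f0c06c0e0501, 0, 28, 0xa05000c05000e06001006, []⟩]

theorem t9_545_58 : jobs 8 S9 b8_545 j9_545_58 = true := by decide +kernel

noncomputable def j9_545_59 : List Job := [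
  ⟨4, 0x4381f0c06c0e0501, 0, 28, 0xc06001004, []⟩]

theorem t9_545_59 : jobs 8 S9 b8_545 j9_545_59 = true := by decide +kernel

noncomputable def j9_545_60 : List Job := [
  ⟨3, 0x601028241a21128a45a41229249a61329a4dc341f0c0740e0501, 0, 28, 0xc06001006, []⟩]

theorem t9_545_60 : jobs 8 S9 b8_545 j9_545_60 = true := by decide +kernel

noncomputable def j9_545_61 : List Job := [
  ⟨2, 0x4341d0c07c0e0501, 0, 28, 0x0, []⟩]

theorem t9_545_61 : jobs 8 S9 b8_545 j9_545_61 = true := by decide +kernel

noncomputable def j9_545_62 : List Job := [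
  ⟨1, 0x601028241a21128a45a41229249a61329a4dc381f0c06c0e0501, 0, 28, 0x0, []⟩]

theorem t9_545_62 : jobs 8 S9 b8_545 j9_545_62 = true := by decide +kernel

noncomputable def j9_545_63 : List Job := [
  ⟨0, 0x4381f0c06c0e0501, 0, 28, 0x0, []⟩]

theorem t9_545_63 : jobs 8 S9 b8_545 j9_545_63 = true := by decide +kernel

theorem d9_545 : Dn 8 S9 b8_545 := dn_of (Js := j9_545_0 ++ (j9_545_1 ++ (j9_545_2 ++ (j9_545_3 ++ (j9_545_4 ++ (j9_545_5 ++ (j9_545_6 ++ (j9_545_7 ++ (j9_545_8 ++ (j9_545_9 ++ (j9_545_10 ++ (j9_545_11 ++ (j9_545_12 ++ (j9_545_13 ++ (j9_545_14 ++ (j9_545_15 ++ (j9_545_16 ++ (j9_545_17 ++ (j9_545_18 ++ (j9_545_19 ++ (j9_545_20 ++ (j9_545_21 ++ (j9_545_22 ++ (j9_545_23 ++ (j9_545_24 ++ (j9_545_25 ++ (j9_545_26 ++ (j9_545_27 ++ (j9_545_28 ++ (j9_545_29 ++ (j9_545_30 ++ (j9_545_31 ++ (j9_545_32 ++ (j9_545_33 ++ (j9_545_34 ++ (j9_545_35 ++ (j9_545_36 ++ (j9_545_37 ++ (j9_545_38 ++ (j9_545_39 ++ (j9_545_40 ++ (j9_545_41 ++ (j9_545_42 ++ (j9_545_43 ++ (j9_545_44 ++ (j9_545_45 ++ (j9_545_46 ++ (j9_545_47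 ++ (j9_545_48 ++ (j9_545_49 ++ (j9_545_50 ++ (j9_545_51 ++ (j9_545_52 ++ (j9_545_53 ++ (j9_545_54 ++ (j9_545_55 ++ (j9_545_56 ++ (j9_545_57 ++ (j9_545_58 ++ (j9_545_59 ++ (j9_545_60 ++ (j9_545_61 ++ (j9_545_62 ++ (j9_545_63 ++ []))))))))))))))))))))))))))))))))))))))))))))))))))))))))))))))))
  (jobs_append t9_545_0 <| jobs_append t9_545_1 <| jobs_append t9_545_2 <| jobs_append t9_545_3 <| jobs_append t9_545_4 <| jobs_append t9_545_5 <| jobs_append t9_545_6 <| jobs_append t9_545_7 <| jobs_append t9_545_8 <| jobs_append t9_545_9 <| jobs_append t9_545_10 <| jobs_append t9_545_11 <| jobs_append t9_545_12 <| jobs_append t9_545_13 <| jobs_append t9_545_14 <| jobs_append t9_545_15 <| jobs_append t9_545_16 <| jobs_append t9_545_17 <| jobs_append t9_545_18 <| jobs_append t9_545_19 <| jobs_append t9_545_20 <| jobs_append t9_545_21 <| jobs_append t9_545_22 <| jobs_append t9_545_23 <| jobs_append t9_545_24 <| jobs_append t9_545_25 <| jobs_append t9_545_26 <| jobs_append t9_545_27 <| jobs_append t9_545_28 <| jobs_append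 t9_545_29 <| jobs_append t9_545_30 <| jobs_append t9_545_31 <| jobs_append t9_545_32 <| jobs_append t9_545_33 <| jobs_append t9_545_34 <| jobs_append t9_545_35 <| jobs_append t9_545_36 <| jobs_append t9_545_37 <| jobs_append t9_545_38 <| jobs_append t9_545_39 <| jobs_append t9_545_40 <| jobs_append t9_545_41 <| jobs_append t9_545_42 <| jobs_append t9_545_43 <| jobs_append t9_545_44 <| jobs_append t9_545_45 <| jobs_append t9_545_46 <| jobs_append t9_545_47 <| jobs_append t9_545_48 <| jobs_append t9_545_49 <| jobs_append t9_545_50 <| jobs_append t9_545_51 <| jobs_append t9_545_52 <| jobs_append t9_545_53 <| jobs_append t9_545_54 <| jobs_append t9_545_55 <| jobs_append t9_545_56 <| jobs_append t9_545_57 <| jobs_append t9_545_58 <| jobs_append t9_545_59 <| jobs_append t9_545_60 <| jobs_append t9_545_61 <| jobs_append t9_545_62 <| jobs_append t9_545_63 <| List.forall_mem_nil _) (by decide +kernel)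

noncomputable def j9_546_0 : List Job := [
  ⟨63, 0x4341d0c07c0e0501, 0, 12, 0x0, []⟩]

theorem t9_546_0 : jobs 8 S9 b8_546 j9_546_0 = true := by decide +kernel

noncomputable def j9_546_1 : List Job := [
  ⟨62, 0x4804222118904a26138c06232198d06a361bc341d0c07c0e0501, 0, 16, 0x0, []⟩]

theorem t9_546_1 : jobs 8 S9 b8_546 j9_546_1 = true := by decide +kernel

noncomputable def j9_546_2 : List Job := [
  ⟨61, 0x4804222118904a26138c06232198d06a361bc341d0c07c0e0501, 0, 16, 0x0, []⟩]

theorem t9_546_2 : jobs 8 S9 b8_546 j9_546_2 = true := by decide +kernel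

noncomputable def j9_546_3 : List Job := [
  ⟨60, 0x500824221920924a25940a25229960b25a2dc804222118904a26138c06232198d06a361bc381f0c06c0e0501, 0, 13, 0x1601001801001a01, []⟩]

theorem t9_546_3 : jobs 8 S9 b8_546 j9_546_3 = true := by decide +kernel

noncomputable def j9_546_4 : List Job := [
  ⟨59, 0x500824221920924a25940a25229960b25a2dc804222118904a26138c06232198d06a361bc381f0c06c0e0501, 0, 15, 0x1a01001c01001e01, []⟩]

theorem t9_546_4 : jobs 8 S9 b8_546 j9_546_4 = true := by decide +kernel

noncomputable def j9_546_5 : List Job := [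
  ⟨58, 0x4542d140bc0e0501, 0, 24, 0x205000407000605000807000a02000c05000e02001005, []⟩]

theorem t9_546_5 : jobs 8 S9 b8_546 j9_546_5 = true := by decide +kernel

noncomputable def j9_546_6 : List Job := [
  ⟨57, 0x500824221920924a25940a25229960b25a2dc542d140bc0e0501, 0, 24, 0x207000405000607000805000a07000c02000e07001002, []⟩]

theorem t9_546_6 : jobs 8 S9 b8_546 j9_546_6 = true := by decide +kernel

noncomputable def j9_546_7 : List Job := [
  ⟨56, 0x4804222118904a26138c06232198d06a361bc542d140bc0e0501, 0, 24, 0x202000402000602000802000a05000c07000e05001007, []⟩]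

theorem t9_546_7 : jobs 8 S9 b8_546 j9_546_7 = true := by decide +kernel

noncomputable def j9_546_8 : List Job := [
  ⟨55, 0x500824221920924a25940a25229960b25a2dc804222118904a26138c06232198d06a361bc582f140ac0e0501, 0, 24, 0x203000404000603000804000a03000c07000e03001007, []⟩]

theorem t9_546_8 : jobs 8 S9 b8_546 j9_546_8 = true := by decide +kernel

noncomputable def j9_546_9 : List Job := [
  ⟨54, 0x46435180dc542d140bc341d0c07c0e0501, 0, 24, 0x1203001402001603001802002003002202002403002603002803002a03002c03002e03003003, []⟩]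

theorem t9_546_9 : jobs 8 S9 b8_546 j9_546_9 = true := by decide +kernel

noncomputable def j9_546_10 : List Job := [
  ⟨53, 0x4804222118904a26138c06232198d06a361bc6435180dc542d140bc341d0c07c0e0501, 0, 40, 0x1202001602002203002403002603002803002a03002c03002e02003002004203004403004603004803004a03004c03004e03005003, []⟩]

theorem t9_546_10 : jobs 8 S9 b8_546 j9_546_10 = true := by decide +kernel

noncomputable def j9_546_11 : List Job := [
  ⟨52, 0x500824221920924a25940a25229960b25a2dc804222118904a26138c06232198d06a361bc6435180dc542d140bc341d0c07c0e0501, 0, 44, 0x1204001404001804001c04002004002204002404002604002804002a04004001004201004401004601004801004a01004c01005401005601005801, []⟩]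

theorem t9_546_11 : jobs 8 S9 b8_546 j9_546_11 = true := by decide +kernel

noncomputable def j9_546_12 : List Job := [
  ⟨51, 0x4783f1c0ec0e0501, 0, 16, 0x0, []⟩]

theorem t9_546_12 : jobs 8 S9 b8_546 j9_546_12 = true := by decide +kernel

noncomputable def j9_546_13 : List Job := [
  ⟨50, 0x500824221920924a25940a25229960b25a2dc743f1c0f40e0501, 0, 28, 0x0, []⟩]

theorem t9_546_13 : jobs 8 S9 b8_546 j9_546_13 = true := by decide +kernel

noncomputable def j9_546_14 : List Job := [
  ⟨49, 0x4743d1c0fc0e0501, 0, 16, 0x0, []⟩]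

theorem t9_546_14 : jobs 8 S9 b8_546 j9_546_14 = true := by decide +kernel

noncomputable def j9_546_15 : List Job := [
  ⟨48, 0x500824221920924a25940a25229960b25a2dc783f1c0ec0e0501, 0, 16, 0x0, []⟩]

theorem t9_546_15 : jobs 8 S9 b8_546 j9_546_15 = true := by decide +kernel

noncomputable def j9_546_16 : List Job := [
  ⟨47, 0x420120a05c0e0501, 0, 24, 0x0, []⟩]

theorem t9_546_16 : jobs 8 S9 b8_546 j9_546_16 = true := by decide +kernel

noncomputable def j9_546_17 : List Job := [
  ⟨46, 0x500824221920924a25940a25229960b25a2dc20120a05c0e0501, 0, 24, 0x0, []⟩]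

theorem t9_546_17 : jobs 8 S9 b8_546 j9_546_17 = true := by decide +kernel

noncomputable def j9_546_18 : List Job := [
  ⟨45, 0x424150805c0e0501, 0, 10, 0x0, []⟩]

theorem t9_546_18 : jobs 8 S9 b8_546 j9_546_18 = true := by decide +kernel

noncomputable def j9_546_19 : List Job := [
  ⟨44, 0x424150805c0e0501, 0, 10, 0x0, []⟩]

theorem t9_546_19 : jobs 8 S9 b8_546 j9_546_19 = true := by decide +kernel

noncomputable def j9_546_20 : List Job := [
  ⟨43, 0x508864a25940a2582cd00824824948a65a2dc28170804c0e0501, 0, 10, 0x0, []⟩]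

theorem t9_546_20 : jobs 8 S9 b8_546 j9_546_20 = true := by decide +kernel

noncomputable def j9_546_21 : List Job := [
  ⟨42, 0x508864a25948a65a2dd00824824940a2582cc28170804c0e0501, 0, 10, 0x0, []⟩]

theorem t9_546_21 : jobs 8 S9 b8_546 j9_546_21 = true := by decide +kernel

noncomputable def j9_546_22 : List Job := [
  ⟨41, 0x428170804c0e0501, 0, 19, 0x0, []⟩]

theorem t9_546_22 : jobs 8 S9 b8_546 j9_546_22 = true := by decide +kernel

noncomputable def j9_546_23 : List Job := [
  ⟨40, 0x428170804c0e0501, 0, 16, 0x0, []⟩]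

theorem t9_546_23 : jobs 8 S9 b8_546 j9_546_23 = true := by decide +kernel

noncomputable def j9_546_24 : List Job := [
  ⟨39, 0x504864925940a4582d500844825144a6592dc2417080540e0501, 0, 16, 0x0, []⟩]

theorem t9_546_24 : jobs 8 S9 b8_546 j9_546_24 = true := by decide +kernel

noncomputable def j9_546_25 : List Job := [
  ⟨38, 0x504864925944a6592dd00844825140a4582d42417080540e0501, 0, 19, 0x0, []⟩]

theorem t9_546_25 : jobs 8 S9 b8_546 j9_546_25 = true := by decide +kernel

noncomputable def j9_546_26 : List Job := [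
  ⟨37, 0x4542d140bc0e0501, 0, 16, 0x1203001403001606001806, []⟩]

theorem t9_546_26 : jobs 8 S9 b8_546 j9_546_26 = true := by decide +kernel

noncomputable def j9_546_27 : List Job := [
  ⟨36, 0x500824221920924a25940a25229960b25a2dc542d140bc0e0501, 0, 16, 0x1205001405001603001803, []⟩]

theorem t9_546_27 : jobs 8 S9 b8_546 j9_546_27 = true := by decide +kernel

noncomputable def j9_546_28 : List Job := [
  ⟨35, 0x4582f140ac0e0501, 0, 16, 0x1205001405001607001807, []⟩]

theorem t9_546_28 : jobs 8 S9 b8_546 j9_546_28 = true := by decide +kernel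

noncomputable def j9_546_29 : List Job := [
  ⟨34, 0x500824221920924a25940a25229960b25a2dc542f140b40e0501, 0, 28, 0x2a04002c04002e04003004, []⟩]

theorem t9_546_29 : jobs 8 S9 b8_546 j9_546_29 = true := by decide +kernel

noncomputable def j9_546_30 : List Job := [
  ⟨33, 0x4703a1e0fc542d140bc20120a05c0e0501, 0, 40, 0x1202001403001602001803002202002403002602002803, []⟩]

theorem t9_546_30 : jobs 8 S9 b8_546 j9_546_30 = true := by decide +kernel

noncomputable def j9_546_31 : List Job := [
  ⟨32, 0x500824221920924a25940a25229960b25a2dc703a1e0fc542d140bc20120a05c0e0501, 0, 40, 0x204000405000604000805003204003405003604003805, []⟩]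

theorem t9_546_31 : jobs 8 S9 b8_546 j9_546_31 = true := by decide +kernel

noncomputable def j9_546_32 : List Job := [
  ⟨31, 0x4542d140bc0e0501, 0, 16, 0x206000402000602000804, []⟩]

theorem t9_546_32 : jobs 8 S9 b8_546 j9_546_32 = true := by decide +kernel

noncomputable def j9_546_33 : List Job := [
  ⟨30, 0x4542d140bc0e0501, 0, 16, 0x206000402000602000804, []⟩]

theorem t9_546_33 : jobs 8 S9 b8_546 j9_546_33 = true := by decide +kernel

noncomputable def j9_546_34 : List Job := [
  ⟨29, 0x500824221920924a25940a25229960b25a2dc582f140ac0e0501, 0, 28, 0x204000402000606000802, []⟩]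

theorem t9_546_34 : jobs 8 S9 b8_546 j9_546_34 = true := by decide +kernel

noncomputable def j9_546_35 : List Job := [
  ⟨28, 0x500824221920924a25940a25229960b25a2dc582f140ac0e0501, 0, 24, 0x204000402000606000802, []⟩]

theorem t9_546_35 : jobs 8 S9 b8_546 j9_546_35 = true := by decide +kernel

noncomputable def j9_546_36 : List Job := [
  ⟨27, 0x4783f1c0ec0e0501, 0, 16, 0x0, []⟩]

theorem t9_546_36 : jobs 8 S9 b8_546 j9_546_36 = true := by decide +kernel

noncomputable def j9_546_37 : List Job := [
  ⟨26, 0x500824221920924a25940a25229960b25a2dc783f1c0ec0e0501, 0, 16, 0x0, []⟩]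

theorem t9_546_37 : jobs 8 S9 b8_546 j9_546_37 = true := by decide +kernel

noncomputable def j9_546_38 : List Job := [
  ⟨25, 0x4a0522a158b05a2e178e0723a1d8f07a3e1fc804222118904a26138c06232198d06a361bc783f1c0ec0e0501, 0, 16, 0x0, []⟩]

theorem t9_546_38 : jobs 8 S9 b8_546 j9_546_38 = true := by decide +kernel

noncomputable def j9_546_39 : List Job := [
  ⟨24, 0x500824221920924a25940a25229960b25a2dca0522a158b05a2e178e0723a1d8f07a3e1fc804222118904a26138c06232198d06a361bc743f1c0f40e0501, 0, 28, 0x0, []⟩]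

theorem t9_546_39 : jobs 8 S9 b8_546 j9_546_39 = true := by decide +kernel

noncomputable def j9_546_40 : List Job := [
  ⟨23, 0x4804222118904a26138c06232198d06a361bc20120a05c0e0501, 0, 24, 0x0, []⟩]

theorem t9_546_40 : jobs 8 S9 b8_546 j9_546_40 = true := by decide +kernel

noncomputable def j9_546_41 : List Job := [
  ⟨22, 0x500824221920924a25940a25229960b25a2dc804222118904a26138c06232198d06a361bc20120a05c0e0501, 0, 24, 0x0, []⟩]

theorem t9_546_41 : jobs 8 S9 b8_546 j9_546_41 = true := by decide +kernel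

noncomputable def j9_546_42 : List Job := [
  ⟨21, 0x4804222118904a26138c06232198d06a361bc703a1e0fc0e0501, 0, 16, 0x0, []⟩]

theorem t9_546_42 : jobs 8 S9 b8_546 j9_546_42 = true := by decide +kernel

noncomputable def j9_546_43 : List Job := [
  ⟨20, 0x4804222118904a26138c06232198d06a361bc703a1e0fc0e0501, 0, 16, 0x0, []⟩]

theorem t9_546_43 : jobs 8 S9 b8_546 j9_546_43 = true := by decide +kernel

noncomputable def j9_546_44 : List Job := [
  ⟨19, 0x428170804c0e0501, 0, 10, 0x0, []⟩]

theorem t9_546_44 : jobs 8 S9 b8_546 j9_546_44 = true := by decide +kernel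

noncomputable def j9_546_45 : List Job := [
  ⟨18, 0x428170804c0e0501, 0, 10, 0x0, []⟩]

theorem t9_546_45 : jobs 8 S9 b8_546 j9_546_45 = true := by decide +kernel

noncomputable def j9_546_46 : List Job := [
  ⟨17, 0x508864a25940a2582cd00824824948a65a2dc28170804c0e0501, 0, 10, 0x0, []⟩]

theorem t9_546_46 : jobs 8 S9 b8_546 j9_546_46 = true := by decide +kernel

noncomputable def j9_546_47 : List Job := [
  ⟨16, 0x508864a25948a65a2dd00824824940a2582cc28170804c0e0501, 0, 10, 0x0, []⟩]

theorem t9_546_47 : jobs 8 S9 b8_546 j9_546_47 = true := by decide +kernel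

noncomputable def j9_546_48 : List Job := [
  ⟨15, 0x4a0522a158b05a2e178e0723a1d8f07a3e1fc804222118904a26138c06232198d06a361bc28170804c0e0501, 0, 19, 0x0, []⟩]

theorem t9_546_48 : jobs 8 S9 b8_546 j9_546_48 = true := by decide +kernel

noncomputable def j9_546_49 : List Job := [
  ⟨14, 0x4a0522a158b05a2e178e0723a1d8f07a3e1fc804222118904a26138c06232198d06a361bc28170804c0e0501, 0, 16, 0x0, []⟩]

theorem t9_546_49 : jobs 8 S9 b8_546 j9_546_49 = true := by decide +kernel

noncomputable def j9_546_50 : List Job := [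
  ⟨13, 0x504864925940a4582d500844825144a6592dca0522a158b05a2e178e0723a1d8f07a3e1fc804222118904a26138c06232198d06a361bc2417080540e0501, 0, 16, 0x0, []⟩]

theorem t9_546_50 : jobs 8 S9 b8_546 j9_546_50 = true := by decide +kernel

noncomputable def j9_546_51 : List Job := [
  ⟨12, 0x504864925944a6592dd00844825140a4582d4a0522a158b05a2e178e0723a1d8f07a3e1fc804222118904a26138c06232198d06a361bc2417080540e0501, 0, 19, 0x0, []⟩]

theorem t9_546_51 : jobs 8 S9 b8_546 j9_546_51 = true := by decide +kernel

noncomputable def j9_546_52 : List Job := [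
  ⟨11, 0x4542d140bc0e0501, 0, 16, 0x1206001406001605001805, []⟩]

theorem t9_546_52 : jobs 8 S9 b8_546 j9_546_52 = true := by decide +kernel

noncomputable def j9_546_53 : List Job := [
  ⟨10, 0x500824221920924a25940a25229960b25a2dc542d140bc0e0501, 0, 16, 0x1205001405001603001803, []⟩]

theorem t9_546_53 : jobs 8 S9 b8_546 j9_546_53 = true := by decide +kernel

noncomputable def j9_546_54 : List Job := [
  ⟨9, 0x4a0522a158b05a2e178e0723a1d8f07a3e1fc804222118904a26138c06232198d06a361bc542d140bc0e0501, 0, 16, 0x1203001403001605001805, []⟩]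

theorem t9_546_54 : jobs 8 S9 b8_546 j9_546_54 = true := by decide +kernel

noncomputable def j9_546_55 : List Job := [
  ⟨8, 0x500824221920924a25940a25229960b25a2dca0522a158b05a2e178e0723a1d8f07a3e1fc804222118904a26138c06232198d06a361bc542d140bc0e0501, 0, 28, 0x2a03002c03002e06003006, []⟩]

theorem t9_546_55 : jobs 8 S9 b8_546 j9_546_55 = true := by decide +kernel

noncomputable def j9_546_56 : List Job := [
  ⟨7, 0x4804222118904a26138c06232198d06a361bc703a1e0fc542d140bc20120a05c0e0501, 0, 40, 0x1202001602002203002603, []⟩]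

theorem t9_546_56 : jobs 8 S9 b8_546 j9_546_56 = true := by decide +kernel

noncomputable def j9_546_57 : List Job := [
  ⟨6, 0x500824221920924a25940a25229960b25a2dc804222118904a26138c06232198d06a361bc703a1e0fc542d140bc20120a05c0e0501, 0, 40, 0x204000604003205003605, []⟩]

theorem t9_546_57 : jobs 8 S9 b8_546 j9_546_57 = true := by decide +kernel

noncomputable def j9_546_58 : List Job := [
  ⟨5, 0x4884626138c062341ac804224128c866361bc582f140ac0e0501, 0, 16, 0x204000404000606000802, []⟩]

theorem t9_546_58 : jobs 8 S9 b8_546 j9_546_58 = true := by decide +kernel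

noncomputable def j9_546_59 : List Job := [
  ⟨4, 0x4884626138c866361bc804224128c062341ac582f140ac0e0501, 0, 16, 0x204000404000606000802, []⟩]

theorem t9_546_59 : jobs 8 S9 b8_546 j9_546_59 = true := by decide +kernel

noncomputable def j9_546_60 : List Job := [
  ⟨3, 0x500824221920924a25940a25229960b25a2dc844625138c064341b4804424130c466351bc542f140b40e0501, 0, 24, 0x202000402000604000806, []⟩]

theorem t9_546_60 : jobs 8 S9 b8_546 j9_546_60 = true := by decide +kernel

noncomputable def j9_546_61 : List Job := [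
  ⟨2, 0x500824221920924a25940a25229960b25a2dc844625138c466351bc804424130c064341b4542f140b40e0501, 0, 28, 0x202000402000604000806, []⟩]

theorem t9_546_61 : jobs 8 S9 b8_546 j9_546_61 = true := by decide +kernel

noncomputable def j9_546_62 : List Job := [
  ⟨1, 0x47e3d1d8e40e0501, 0, 19, 0x206000404002007002207002407002607, []⟩]

theorem t9_546_62 : jobs 8 S9 b8_546 j9_546_62 = true := by decide +kernel

noncomputable def j9_546_63 : List Job := [
  ⟨0, 0x47e3d1d8e40e0501, 0, 19, 0x206000404002007002207002407002607, []⟩]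

theorem t9_546_63 : jobs 8 S9 b8_546 j9_546_63 = true := by decide +kernel

theorem d9_546 : Dn 8 S9 b8_546 := dn_of (Js := j9_546_0 ++ (j9_546_1 ++ (j9_546_2 ++ (j9_546_3 ++ (j9_546_4 ++ (j9_546_5 ++ (j9_546_6 ++ (j9_546_7 ++ (j9_546_8 ++ (j9_546_9 ++ (j9_546_10 ++ (j9_546_11 ++ (j9_546_12 ++ (j9_546_13 ++ (j9_546_14 ++ (j9_546_15 ++ (j9_546_16 ++ (j9_546_17 ++ (j9_546_18 ++ (j9_546_19 ++ (j9_546_20 ++ (j9_546_21 ++ (j9_546_22 ++ (j9_546_23 ++ (j9_546_24 ++ (j9_546_25 ++ (j9_546_26 ++ (j9_546_27 ++ (j9_546_28 ++ (j9_546_29 ++ (j9_546_30 ++ (j9_546_31 ++ (j9_546_32 ++ (j9_546_33 ++ (j9_546_34 ++ (j9_546_35 ++ (j9_546_36 ++ (j9_546_37 ++ (j9_546_38 ++ (j9_546_39 ++ (j9_546_40 ++ (j9_546_41 ++ (j9_546_42 ++ (j9_546_43 ++ (j9_546_44 ++ (j9_546_45 ++ (j9_546_46 ++ (j9_546_47 ++ (j9_546_48 ++ (j9_546_49 ++ (j9_546_50 ++ (j9_546_51 ++ (j9_546_52 ++ (j9_546_53 ++ (j9_546_54 ++ (j9_546_55 ++ (j9_546_56 ++ (j9_546_57 ++ (j9_546_58 ++ (j9_546_59 ++ (j9_546_60 ++ (j9_546_61 ++ (j9_546_62 ++ (j9_546_63 ++ []))))))))))))))))))))))))))))))))))))))))))))))))))))))))))))))))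
  (jobs_append t9_546_0 <| jobs_append t9_546_1 <| jobs_append t9_546_2 <| jobs_append t9_546_3 <| jobs_append t9_546_4 <| jobs_append t9_546_5 <| jobs_append t9_546_6 <| jobs_append t9_546_7 <| jobs_append t9_546_8 <| jobs_append t9_546_9 <| jobs_append t9_546_10 <| jobs_append t9_546_11 <| jobs_append t9_546_12 <| jobs_append t9_546_13 <| jobs_append t9_546_14 <| jobs_append t9_546_15 <| jobs_append t9_546_16 <| jobs_append t9_546_17 <| jobs_append t9_546_18 <| jobs_append t9_546_19 <| jobs_append t9_546_20 <| jobs_append t9_546_21 <| jobs_append t9_546_22 <| jobs_append t9_546_23 <| jobs_append t9_546_24 <| jobs_append t9_546_25 <| jobs_append t9_546_26 <| jobs_append t9_546_27 <| jobs_append t9_546_28 <| jobs_append t9_546_29 <| jobs_append t9_546_30 <| jobs_append t9_546_31 <| jobs_append t9_546_32 <| jobs_append t9_546_33 <| jobs_append t9_546_34 <| jobs_append t9_546_35 <| jobs_append t9_546_36 <| jobs_append t9_546_37 <| jobs_append t9_546_38 <| jobs_append t9_546_39 <| jobs_append t9_546_40 <|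 jobs_append t9_546_41 <| jobs_append t9_546_42 <| jobs_append t9_546_43 <| jobs_append t9_546_44 <| jobs_append t9_546_45 <| jobs_append t9_546_46 <| jobs_append t9_546_47 <| jobs_append t9_546_48 <| jobs_append t9_546_49 <| jobs_append t9_546_50 <| jobs_append t9_546_51 <| jobs_append t9_546_52 <| jobs_append t9_546_53 <| jobs_append t9_546_54 <| jobs_append t9_546_55 <| jobs_append t9_546_56 <| jobs_append t9_546_57 <| jobs_append t9_546_58 <| jobs_append t9_546_59 <| jobs_append t9_546_60 <| jobs_append t9_546_61 <| jobs_append t9_546_62 <| jobs_append t9_546_63 <| List.forall_mem_nil _) (by decide +kernel)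

noncomputable def j9_547_0 : List Job := [
  ⟨63, 0x4804222118904a26138c06232198d06a361bc743d1c0fc4e2511884341d0c07c0e0501, 0, 32, 0x1204001604001a24001c25001e25002024003201003601003a01003c01003e01004001, []⟩]

theorem t9_547_0 : jobs 8 S9 b8_547 j9_547_0 = true := by decide +kernel

noncomputable def j9_547_1 : List Job := [
  ⟨62, 0x500824221920924a25940a25229960b25a2dc804222118904a26138c06232198d06a361bc743d1c0fc4e2511884341d0c07c0e0501, 0, 46, 0x204000801000a01000c01001401002824002a25002c24002e01003001003201003401004c01004e01005001005201005801, []⟩]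

theorem t9_547_1 : jobs 8 S9 b8_547 j9_547_1 = true := by decide +kernel

noncomputable def j9_547_2 : List Job := [
  ⟨61, 0x500824221920924a25940a25229960b25a2dc804222118904a26138c06232198d06a361bc743d1c0fc4e2511884341d0c07c0e0501, 0, 48, 0x220001a01001c01001e01002c20002e21003020003201005001005201005401005601005c01005e01006001, []⟩]

theorem t9_547_2 : jobs 8 S9 b8_547 j9_547_2 = true := by decide +kernel

noncomputable def j9_547_3 : List Job := [
  ⟨60, 0x4381f0c06c20120a05c100a0603c0e0501, 0, 24, 0x2005002205002405002605002805002a05, []⟩]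

theorem t9_547_3 : jobs 8 S9 b8_547 j9_547_3 = true := by decide +kernel

noncomputable def j9_547_4 : List Job := [
  ⟨59, 0x4804222118904a26138c06232198d06a361bc381f0c06c20120a05c100a0603c0e0501, 0, 40, 0x2205002405002605002805002a05002c05002e05003005, []⟩]

theorem t9_547_4 : jobs 8 S9 b8_547 j9_547_4 = true := by decide +kernel

noncomputable def j9_547_5 : List Job := [
  ⟨58, 0x500824221920924a25940a25229960b25a2dc804222118904a26138c06232198d06a361bc381f0c06c20120a05c100a0603c0e0501, 0, 24, 0x2005002205002405002605002805002a05, []⟩]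

theorem t9_547_5 : jobs 8 S9 b8_547 j9_547_5 = true := by decide +kernel

noncomputable def j9_547_6 : List Job := [
  ⟨57, 0x4180f0402c0e0501, 0, 16, 0x0, []⟩]

theorem t9_547_6 : jobs 8 S9 b8_547 j9_547_6 = true := by decide +kernel

noncomputable def j9_547_7 : List Job := [
  ⟨56, 0x4884626138c062341ac804224128c866361bc180f0402c0e0501, 0, 16, 0x0, []⟩]

theorem t9_547_7 : jobs 8 S9 b8_547 j9_547_7 = true := by decide +kernel

noncomputable def j9_547_8 : List Job := [
  ⟨55, 0x44e25118840e0501, 0, 10, 0x0, []⟩]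

theorem t9_547_8 : jobs 8 S9 b8_547 j9_547_8 = true := by decide +kernel

noncomputable def j9_547_9 : List Job := [
  ⟨54, 0x44e25118840e0501, 0, 10, 0x0, []⟩]

theorem t9_547_9 : jobs 8 S9 b8_547 j9_547_9 = true := by decide +kernel

noncomputable def j9_547_10 : List Job := [
  ⟨53, 0x4844425130c066341bc804624138c464351b44e25118840e0501, 0, 22, 0x0, []⟩]

theorem t9_547_10 : jobs 8 S9 b8_547 j9_547_10 = true := by decide +kernel

noncomputable def j9_547_11 : List Job := [
  ⟨52, 0x4884626138c062341ac804224128c866361bc4e25118840e0501, 0, 14, 0x0, []⟩]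

theorem t9_547_11 : jobs 8 S9 b8_547 j9_547_11 = true := by decide +kernel

noncomputable def j9_547_12 : List Job := [
  ⟨51, 0x45e2d158a40e0501, 0, 10, 0xa03000c07, []⟩]

theorem t9_547_12 : jobs 8 S9 b8_547 j9_547_12 = true := by decide +kernel

noncomputable def j9_547_13 : List Job := [
  ⟨50, 0x45e2d158a40e0501, 0, 10, 0xa05000c06, []⟩]

theorem t9_547_13 : jobs 8 S9 b8_547 j9_547_13 = true := by decide +kernel

noncomputable def j9_547_14 : List Job := [
  ⟨49, 0x4884626138c062341ac804224128c866361bc5e2d158a40e0501, 0, 22, 0x2204002404, []⟩]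

theorem t9_547_14 : jobs 8 S9 b8_547 j9_547_14 = true := by decide +kernel

noncomputable def j9_547_15 : List Job := [
  ⟨48, 0x4884626138c062341ac804224128c866361bc5e2d158a40e0501, 0, 14, 0x1204001403, []⟩]

theorem t9_547_15 : jobs 8 S9 b8_547 j9_547_15 = true := by decide +kernel

noncomputable def j9_547_16 : List Job := [
  ⟨47, 0x4582f140ac4e2511884180f0402c0e0501, 0, 32, 0x1205001404001605001804001a21001c20001e04002021003201003401003601003801003a01003c01003e01004001, []⟩]

theorem t9_547_16 : jobs 8 S9 b8_547 j9_547_16 = true := by decide +kernel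

noncomputable def j9_547_17 : List Job := [
  ⟨46, 0x4884626138c062341ac804224128c866361bc582f140ac4e2511884180f0402c0e0501, 0, 32, 0x200000401000600000801001a04001e01002a01002e01, [(2, ⟨3287, 0x4000420064002000200120004000400001, 0x180210900c100400802⟩), (0, ⟨3286, 0x4000420064002000200120004000400001, 0x180210900c100400802⟩)]⟩]

theorem t9_547_17 : jobs 8 S9 b8_547 j9_547_17 = true := by decide +kernel

noncomputable def j9_547_18 : List Job := [
  ⟨45, 0x4180f0402c0e0501, 0, 16, 0x0, []⟩]

theorem t9_547_18 : jobs 8 S9 b8_547 j9_547_18 = true := by decide +kernel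

noncomputable def j9_547_19 : List Job := [
  ⟨44, 0x4884626138c866361bc804224128c062341ac180f0402c0e0501, 0, 16, 0x0, []⟩]

theorem t9_547_19 : jobs 8 S9 b8_547 j9_547_19 = true := by decide +kernel

noncomputable def j9_547_20 : List Job := [
  ⟨43, 0x44e25118840e0501, 0, 10, 0x0, []⟩]

theorem t9_547_20 : jobs 8 S9 b8_547 j9_547_20 = true := by decide +kernel

noncomputable def j9_547_21 : List Job := [
  ⟨42, 0x44e25118840e0501, 0, 10, 0x0, []⟩]

theorem t9_547_21 : jobs 8 S9 b8_547 j9_547_21 = true := by decide +kernel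

noncomputable def j9_547_22 : List Job := [
  ⟨41, 0x4844425130c464351b4804624138c066341bc4e25118840e0501, 0, 22, 0x0, []⟩]

theorem t9_547_22 : jobs 8 S9 b8_547 j9_547_22 = true := by decide +kernel

noncomputable def j9_547_23 : List Job := [
  ⟨40, 0x4884626138c866361bc804224128c062341ac4e25118840e0501, 0, 14, 0x0, []⟩]

theorem t9_547_23 : jobs 8 S9 b8_547 j9_547_23 = true := by decide +kernel

noncomputable def j9_547_24 : List Job := [
  ⟨39, 0x44e25118840e0501, 0, 12, 0x0, []⟩]

theorem t9_547_24 : jobs 8 S9 b8_547 j9_547_24 = true := by decide +kernel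

noncomputable def j9_547_25 : List Job := [
  ⟨38, 0x45e2d158a40e0501, 0, 10, 0xa03000c07, []⟩]

theorem t9_547_25 : jobs 8 S9 b8_547 j9_547_25 = true := by decide +kernel

noncomputable def j9_547_26 : List Job := [
  ⟨37, 0x45e2d158a40e0501, 0, 10, 0xa05000c06, []⟩]

theorem t9_547_26 : jobs 8 S9 b8_547 j9_547_26 = true := by decide +kernel

noncomputable def j9_547_27 : List Job := [
  ⟨36, 0x4884626138c866361bc804224128c062341ac5e2d158a40e0501, 0, 22, 0x2204002404, []⟩]

theorem t9_547_27 : jobs 8 S9 b8_547 j9_547_27 = true := by decide +kernel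

noncomputable def j9_547_28 : List Job := [
  ⟨35, 0x4884626138c866361bc804224128c062341ac5e2d158a40e0501, 0, 14, 0x1205001403, []⟩]

theorem t9_547_28 : jobs 8 S9 b8_547 j9_547_28 = true := by decide +kernel

noncomputable def j9_547_29 : List Job := [
  ⟨34, 0x4582f140ac4e2511884180f0402c0e0501, 0, 32, 0x1205001404001605001804001a04001c04001e05002004003201003401003601003801003a01003c01003e01004001, []⟩]

theorem t9_547_29 : jobs 8 S9 b8_547 j9_547_29 = true := by decide +kernel

noncomputable def j9_547_30 : List Job := [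
  ⟨33, 0x4884626138c866361bc804224128c062341ac582f140ac4e2511884180f0402c0e0501, 0, 32, 0x200000401000600000801001a04001e01002a01002e01, [(2, ⟨3285, 0x4e8159026a002408280100004000408001, 0x19f2b0b008110480802⟩), (0, ⟨3284, 0x4e8159026a002408280100004000408001, 0x19f2b0b008110480802⟩)]⟩]

theorem t9_547_30 : jobs 8 S9 b8_547 j9_547_30 = true := by decide +kernel

noncomputable def j9_547_31 : List Job := [
  ⟨32, 0x500824221920924a25940a25229960b25a2dc140f040340e0501, 0, 24, 0x0, []⟩]

theorem t9_547_31 : jobs 8 S9 b8_547 j9_547_31 = true := by decide +kernel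

noncomputable def j9_547_32 : List Job := [
  ⟨31, 0x500824221920924a25940a25229960b25a2dc844625138c064341b4804424130c466351bc140f040340e0501, 0, 24, 0x0, []⟩]

theorem t9_547_32 : jobs 8 S9 b8_547 j9_547_32 = true := by decide +kernel

noncomputable def j9_547_33 : List Job := [
  ⟨30, 0x44e25118840e0501, 0, 16, 0x0, []⟩]

theorem t9_547_33 : jobs 8 S9 b8_547 j9_547_33 = true := by decide +kernel

noncomputable def j9_547_34 : List Job := [
  ⟨29, 0x5108a46239309a4e27950aa562b970ba5e2fd00824221920924a25940a25229960b25a2dc4e25118840e0501, 0, 16, 0x0, []⟩]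

theorem t9_547_34 : jobs 8 S9 b8_547 j9_547_34 = true := by decide +kernel

noncomputable def j9_547_35 : List Job := [
  ⟨28, 0x4844625138c064341b4804424130c466351bc4e25118840e0501, 0, 16, 0x0, []⟩]

theorem t9_547_35 : jobs 8 S9 b8_547 j9_547_35 = true := by decide +kernel

noncomputable def j9_547_36 : List Job := [
  ⟨27, 0x5108a46239309a4e27950aa562b970ba5e2fd00824221920924a25940a25229960b25a2dc884626138c062341ac804224128c866361bc4e25118840e0501, 0, 34, 0x1224002e01, []⟩]

theorem t9_547_36 : jobs 8 S9 b8_547 j9_547_36 = true := by decide +kernel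

noncomputable def j9_547_37 : List Job := [
  ⟨26, 0x508864a25940a2582cd00824824948a65a2dc4e25118840e0501, 0, 20, 0x0, []⟩]

theorem t9_547_37 : jobs 8 S9 b8_547 j9_547_37 = true := by decide +kernel

noncomputable def j9_547_38 : List Job := [
  ⟨25, 0x508864a25948a65a2dd00824824940a2582cc4e25118840e0501, 0, 20, 0x0, []⟩]

theorem t9_547_38 : jobs 8 S9 b8_547 j9_547_38 = true := by decide +kernel

noncomputable def j9_547_39 : List Job := [
  ⟨24, 0x45e2d158a40e0501, 0, 16, 0x1606001805, []⟩]

theorem t9_547_39 : jobs 8 S9 b8_547 j9_547_39 = true := by decide +kernel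

noncomputable def j9_547_40 : List Job := [
  ⟨23, 0x5108a46239309a4e27950aa562b970ba5e2fd00824221920924a25940a25229960b25a2dc5e2d158a40e0501, 0, 16, 0x1603001805, []⟩]

theorem t9_547_40 : jobs 8 S9 b8_547 j9_547_40 = true := by decide +kernel

noncomputable def j9_547_41 : List Job := [
  ⟨22, 0x4844625138c064341b4804424130c466351bc5e2d158a40e0501, 0, 16, 0x1605001803, []⟩]

theorem t9_547_41 : jobs 8 S9 b8_547 j9_547_41 = true := by decide +kernel

noncomputable def j9_547_42 : List Job := [
  ⟨21, 0x5108a46239309a4e27950aa562b970ba5e2fd00824221920924a25940a25229960b25a2dc844625138c064341b4804424130c466351bc5e2d158a40e0501, 0, 34, 0xc01003401003a03003c06, []⟩]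

theorem t9_547_42 : jobs 8 S9 b8_547 j9_547_42 = true := by decide +kernel

noncomputable def j9_547_43 : List Job := [
  ⟨20, 0x500824221920924a25940a25229960b25a2dc542f140b44e2511884140f040340e0501, 0, 48, 0x1203001402001603001802001a01001c02002601002801003201003601003801003a01003e01005201005401005601005801, []⟩]

theorem t9_547_43 : jobs 8 S9 b8_547 j9_547_43 = true := by decide +kernel

noncomputable def j9_547_44 : List Job := [
  ⟨19, 0x500824221920924a25940a25229960b25a2dc884626138c062341ac804224128c866361bc582f140ac4e2511884180f0402c0e0501, 0, 48, 0x200000600001a04002a01002c01003a01003c01004a01004e01005a01, [(2, ⟨3281, 0x84004b0136000b0104001200020001010001, 0x188290b00c130400802⟩), (0, ⟨3280, 0x84004b0136000b0104001200020001010001, 0x188290b00c130400802⟩)]⟩]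

theorem t9_547_44 : jobs 8 S9 b8_547 j9_547_44 = true := by decide +kernel

noncomputable def j9_547_45 : List Job := [
  ⟨18, 0x500824221920924a25940a25229960b25a2dc140f040340e0501, 0, 28, 0x0, []⟩]

theorem t9_547_45 : jobs 8 S9 b8_547 j9_547_45 = true := by decide +kernel

noncomputable def j9_547_46 : List Job := [
  ⟨17, 0x500824221920924a25940a25229960b25a2dc844625138c466351bc804424130c064341b4140f040340e0501, 0, 28, 0x0, []⟩]

theorem t9_547_46 : jobs 8 S9 b8_547 j9_547_46 = true := by decide +kernel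

noncomputable def j9_547_47 : List Job := [
  ⟨16, 0x44e25118840e0501, 0, 19, 0x0, []⟩]

theorem t9_547_47 : jobs 8 S9 b8_547 j9_547_47 = true := by decide +kernel

noncomputable def j9_547_48 : List Job := [
  ⟨15, 0x5108a46239309a4e27950aa562b970ba5e2fd00824221920924a25940a25229960b25a2dc4e25118840e0501, 0, 19, 0x0, []⟩]

theorem t9_547_48 : jobs 8 S9 b8_547 j9_547_48 = true := by decide +kernel

noncomputable def j9_547_49 : List Job := [
  ⟨14, 0x4844625138c466351bc804424130c064341b44e25118840e0501, 0, 19, 0x0, []⟩]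

theorem t9_547_49 : jobs 8 S9 b8_547 j9_547_49 = true := by decide +kernel

noncomputable def j9_547_50 : List Job := [
  ⟨13, 0x5108a46239309a4e27950aa562b970ba5e2fd00824221920924a25940a25229960b25a2dc884626138c866361bc804224128c062341ac4e25118840e0501, 0, 37, 0x1820003601, []⟩]

theorem t9_547_50 : jobs 8 S9 b8_547 j9_547_50 = true := by decide +kernel

noncomputable def j9_547_51 : List Job := [
  ⟨12, 0x508864a25940a2582cd00824824948a65a2dc4e25118840e0501, 0, 22, 0x0, []⟩]

theorem t9_547_51 : jobs 8 S9 b8_547 j9_547_51 = true := by decide +kernel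

noncomputable def j9_547_52 : List Job := [
  ⟨11, 0x508864a25948a65a2dd00824824940a2582cc4e25118840e0501, 0, 22, 0x0, []⟩]

theorem t9_547_52 : jobs 8 S9 b8_547 j9_547_52 = true := by decide +kernel

noncomputable def j9_547_53 : List Job := [
  ⟨10, 0x504864925940a4582d500844825144a6592dc884626138c866361bc804224128c062341ac4e25118840e0501, 0, 34, 0x1e01002001002201002401, []⟩]

theorem t9_547_53 : jobs 8 S9 b8_547 j9_547_53 = true := by decide +kernel

noncomputable def j9_547_54 : List Job := [
  ⟨9, 0x45e2d158a40e0501, 0, 19, 0x1c07001e05, []⟩]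

theorem t9_547_54 : jobs 8 S9 b8_547 j9_547_54 = true := by decide +kernel

noncomputable def j9_547_55 : List Job := [
  ⟨8, 0x5108a46239309a4e27950aa562b970ba5e2fd00824221920924a25940a25229960b25a2dc5e2d158a40e0501, 0, 19, 0x1c02001e05, []⟩]

theorem t9_547_55 : jobs 8 S9 b8_547 j9_547_55 = true := by decide +kernel

noncomputable def j9_547_56 : List Job := [
  ⟨7, 0x4844625138c466351bc804424130c064341b45e2d158a40e0501, 0, 19, 0x1c05001e02, []⟩]

theorem t9_547_56 : jobs 8 S9 b8_547 j9_547_56 = true := by decide +kernel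

noncomputable def j9_547_57 : List Job := [
  ⟨6, 0x5108a46239309a4e27950aa562b970ba5e2fd00824221920924a25940a25229960b25a2dc844625138c466351bc804424130c064341b45e2d158a40e0501, 0, 37, 0x1801003401004002004207, []⟩]

theorem t9_547_57 : jobs 8 S9 b8_547 j9_547_57 = true := by decide +kernel

noncomputable def j9_547_58 : List Job := [
  ⟨5, 0x500824221920924a25940a25229960b25a2dc542f140b44e2511884140f040340e0501, 0, 52, 0x1203001402001603001802001a01001c02003201003401003601004201004401005a01005c01005e01006001, []⟩]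

theorem t9_547_58 : jobs 8 S9 b8_547 j9_547_58 = true := by decide +kernel

noncomputable def j9_547_59 : List Job := [
  ⟨4, 0x500824221920924a25940a25229960b25a2dc884626138c866361bc804224128c062341ac582f140ac4e2511884180f0402c0e0501, 0, 52, 0x200000600001a20002201002401002601002801003a01003c01005201005601006201, [(2, ⟨3279, 0x8a00520020000a0005001000020001000001, 0x1922308008120480802⟩), (0, ⟨3278, 0x8a00520020000a0005001000020001000001, 0x1922308008120480802⟩)]⟩]

theorem t9_547_59 : jobs 8 S9 b8_547 j9_547_59 = true := by decide +kernel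

noncomputable def j9_547_60 : List Job := [
  ⟨3, 0x4381f0c06c0e0501, 0, 14, 0x202000402000602000802000a02000c02, []⟩]

theorem t9_547_60 : jobs 8 S9 b8_547 j9_547_60 = true := by decide +kernel

noncomputable def j9_547_61 : List Job := [
  ⟨2, 0x4804222118904a26138c06232198d06a361bc381f0c06c0e0501, 0, 24, 0x202000402000602000802000a02000c02000e02001002, []⟩]

theorem t9_547_61 : jobs 8 S9 b8_547 j9_547_61 = true := by decide +kernel

noncomputable def j9_547_62 : List Job := [
  ⟨1, 0x500824221920924a25940a25229960b25a2dc804222118904a26138c06232198d06a361bc341f0c0740e0501, 0, 24, 0x204000404000604000804000a04000c04, []⟩]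

theorem t9_547_62 : jobs 8 S9 b8_547 j9_547_62 = true := by decide +kernel

noncomputable def j9_547_63 : List Job := [
  ⟨0, 0x4341d0c07c0e0501, 0, 10, 0x0, []⟩]

theorem t9_547_63 : jobs 8 S9 b8_547 j9_547_63 = true := by decide +kernel

theorem d9_547 : Dn 8 S9 b8_547 := dn_of (Js := j9_547_0 ++ (j9_547_1 ++ (j9_547_2 ++ (j9_547_3 ++ (j9_547_4 ++ (j9_547_5 ++ (j9_547_6 ++ (j9_547_7 ++ (j9_547_8 ++ (j9_547_9 ++ (j9_547_10 ++ (j9_547_11 ++ (j9_547_12 ++ (j9_547_13 ++ (j9_547_14 ++ (j9_547_15 ++ (j9_547_16 ++ (j9_547_17 ++ (j9_547_18 ++ (j9_547_19 ++ (j9_547_20 ++ (j9_547_21 ++ (j9_547_22 ++ (j9_547_23 ++ (j9_547_24 ++ (j9_547_25 ++ (j9_547_26 ++ (j9_547_27 ++ (j9_547_28 ++ (j9_547_29 ++ (j9_547_30 ++ (j9_547_31 ++ (j9_547_32 ++ (j9_547_33 ++ (j9_547_34 ++ (j9_547_35 ++ (j9_547_36 ++ (j9_547_37 ++ (j9_547_38 ++ (j9_547_39 ++ (j9_547_40 ++ (j9_547_41 ++ (j9_547_42 ++ (j9_547_43 ++ (j9_547_44 ++ (j9_547_45 ++ (j9_547_46 ++ (j9_547_47 ++ (j9_547_48 ++ (j9_547_49 ++ (j9_547_50 ++ (j9_547_51 ++ (j9_547_52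 ++ (j9_547_53 ++ (j9_547_54 ++ (j9_547_55 ++ (j9_547_56 ++ (j9_547_57 ++ (j9_547_58 ++ (j9_547_59 ++ (j9_547_60 ++ (j9_547_61 ++ (j9_547_62 ++ (j9_547_63 ++ []))))))))))))))))))))))))))))))))))))))))))))))))))))))))))))))))
  (jobs_append t9_547_0 <| jobs_append t9_547_1 <| jobs_append t9_547_2 <| jobs_append t9_547_3 <| jobs_append t9_547_4 <| jobs_append t9_547_5 <| jobs_append t9_547_6 <| jobs_append t9_547_7 <| jobs_append t9_547_8 <| jobs_append t9_547_9 <| jobs_append t9_547_10 <| jobs_append t9_547_11 <| jobs_append t9_547_12 <| jobs_append t9_547_13 <| jobs_append t9_547_14 <| jobs_append t9_547_15 <| jobs_append t9_547_16 <| jobs_append t9_547_17 <| jobs_append t9_547_18 <| jobs_append t9_547_19 <| jobs_append t9_547_20 <| jobs_append t9_547_21 <| jobs_append t9_547_22 <| jobs_append t9_547_23 <| jobs_append t9_547_24 <| jobs_append t9_547_25 <| jobs_append t9_547_26 <| jobs_append t9_547_27 <| jobs_append t9_547_28 <| jobs_append t9_547_29 <| jobs_append t9_547_30 <| jobs_append t9_547_31 <|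 jobs_append t9_547_32 <| jobs_append t9_547_33 <| jobs_append t9_547_34 <| jobs_append t9_547_35 <| jobs_append t9_547_36 <| jobs_append t9_547_37 <| jobs_append t9_547_38 <| jobs_append t9_547_39 <| jobs_append t9_547_40 <| jobs_append t9_547_41 <| jobs_append t9_547_42 <| jobs_append t9_547_43 <| jobs_append t9_547_44 <| jobs_append t9_547_45 <| jobs_append t9_547_46 <| jobs_append t9_547_47 <| jobs_append t9_547_48 <| jobs_append t9_547_49 <| jobs_append t9_547_50 <| jobs_append t9_547_51 <| jobs_append t9_547_52 <| jobs_append t9_547_53 <| jobs_append t9_547_54 <| jobs_append t9_547_55 <| jobs_append t9_547_56 <| jobs_append t9_547_57 <| jobs_append t9_547_58 <| jobs_append t9_547_59 <| jobs_append t9_547_60 <| jobs_append t9_547_61 <| jobs_append t9_547_62 <| jobs_append t9_547_63 <| List.forall_mem_nil _) (by decide +kernel)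

noncomputable def j9_548_0 : List Job := [
  ⟨63, 0x44e25118840e0501, 0, 7, 0x0, []⟩]

theorem t9_548_0 : jobs 8 S9 b8_548 j9_548_0 = true := by decide +kernel

noncomputable def j9_548_1 : List Job := [
  ⟨62, 0x44e25118840e0501, 0, 7, 0x0, []⟩]

theorem t9_548_1 : jobs 8 S9 b8_548 j9_548_1 = true := by decide +kernel

noncomputable def j9_548_2 : List Job := [
  ⟨61, 0x44e25118840e0501, 0, 10, 0x0, []⟩]

theorem t9_548_2 : jobs 8 S9 b8_548 j9_548_2 = true := by decide +kernel

noncomputable def j9_548_3 : List Job := [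
  ⟨60, 0x44e25118840e0501, 0, 10, 0x0, []⟩]

theorem t9_548_3 : jobs 8 S9 b8_548 j9_548_3 = true := by decide +kernel

noncomputable def j9_548_4 : List Job := [
  ⟨59, 0x44e25118840e0501, 0, 15, 0x1c01001e01, []⟩]

theorem t9_548_4 : jobs 8 S9 b8_548 j9_548_4 = true := by decide +kernel

noncomputable def j9_548_5 : List Job := [
  ⟨58, 0x4582f140ac4e2511884180f0402c0e0501, 0, 20, 0xa24000c25000e25001601001801, []⟩]

theorem t9_548_5 : jobs 8 S9 b8_548 j9_548_5 = true := by decide +kernel

noncomputable def j9_548_6 : List Job := [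
  ⟨57, 0x4582f140ac4e2511884180f0402c0e0501, 0, 22, 0x220000421000621001420001621001820002001002201, []⟩]

theorem t9_548_6 : jobs 8 S9 b8_548 j9_548_6 = true := by decide +kernel

noncomputable def j9_548_7 : List Job := [
  ⟨56, 0x4542d140bc4e2511884140d0403c0e0501, 0, 12, 0x1406001606001806, []⟩]

theorem t9_548_7 : jobs 8 S9 b8_548 j9_548_7 = true := by decide +kernel

noncomputable def j9_548_8 : List Job := [
  ⟨55, 0x4582f140ac4e2511884180f0402c0e0501, 0, 18, 0x220000421000620000821001220001401001620001801002001002201002401, []⟩]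

theorem t9_548_8 : jobs 8 S9 b8_548 j9_548_8 = true := by decide +kernel

noncomputable def j9_548_9 : List Job := [
  ⟨54, 0x44e25118840e0501, 0, 8, 0x0, []⟩]

theorem t9_548_9 : jobs 8 S9 b8_548 j9_548_9 = true := by decide +kernel

noncomputable def j9_548_10 : List Job := [
  ⟨53, 0x4542f140b44e2511884140f040340e0501, 0, 10, 0x1006001206001406, []⟩]

theorem t9_548_10 : jobs 8 S9 b8_548 j9_548_10 = true := by decide +kernel

noncomputable def j9_548_11 : List Job := [
  ⟨52, 0x64526954ba65369c4f64124944b261349d4fe05068543a25168c47601048443221148d47c582f140ac4e2511884180f0402c0e0501, 0, 20, 0x220000421000620000821001620001801001a20001c01002401002601002801, []⟩]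

theorem t9_548_11 : jobs 8 S9 b8_548 j9_548_11 = true := by decide +kernel

noncomputable def j9_548_12 : List Job := [
  ⟨51, 0x44e25118840e0501, 0, 8, 0xa02000c02000e04001004, []⟩]

theorem t9_548_12 : jobs 8 S9 b8_548 j9_548_12 = true := by decide +kernel

noncomputable def j9_548_13 : List Job := [
  ⟨50, 0x44e25118840e0501, 0, 8, 0xa04000c04000e04001004, []⟩]

theorem t9_548_13 : jobs 8 S9 b8_548 j9_548_13 = true := by decide +kernel

noncomputable def j9_548_14 : List Job := [
  ⟨49, 0x4542d140bc4e2511884140d0403c0e0501, 0, 20, 0x1201001401001a01001c01001e03002003002203002401002601002801, []⟩]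

theorem t9_548_14 : jobs 8 S9 b8_548 j9_548_14 = true := by decide +kernel

noncomputable def j9_548_15 : List Job := [
  ⟨48, 0x4582f140ac4e2511884180f0402c0e0501, 0, 22, 0x220000421000621001020001221001420001626001827001a27001c04001e04002004002801002a01002c01, []⟩]

theorem t9_548_15 : jobs 8 S9 b8_548 j9_548_15 = true := by decide +kernel

noncomputable def j9_548_16 : List Job := [
  ⟨47, 0x44e25118840e0501, 0, 17, 0xa02000c02000e04001004, []⟩]

theorem t9_548_16 : jobs 8 S9 b8_548 j9_548_16 = true := by decide +kernel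

noncomputable def j9_548_17 : List Job := [
  ⟨46, 0x641229249a512a964ba61329a4da713a9e4fe01028241a110a8643a21128a45a311a8e47c4e25118840e0501, 0, 17, 0xa04000c04000e04001004, []⟩]

theorem t9_548_17 : jobs 8 S9 b8_548 j9_548_17 = true := by decide +kernel

noncomputable def j9_548_18 : List Job := [
  ⟨45, 0x44e25118840e0501, 0, 17, 0xa05000c05000e04001004, []⟩]

theorem t9_548_18 : jobs 8 S9 b8_548 j9_548_18 = true := by decide +kernel

noncomputable def j9_548_19 : List Job := [
  ⟨44, 0x4542f140b44e2511884140f040340e0501, 0, 20, 0xa02000c02000e02001001001201001401, []⟩]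

theorem t9_548_19 : jobs 8 S9 b8_548 j9_548_19 = true := by decide +kernel

noncomputable def j9_548_20 : List Job := [
  ⟨43, 0x64526954ba65369c4f64124944b261349d4fe05068543a25168c47601048443221148d47c582f140ac4e2511884180f0402c0e0501, 0, 44, 0x220000421000621001420001621001820001a26001c27001e27002004002204002404002c01002e01003001, []⟩]

theorem t9_548_20 : jobs 8 S9 b8_548 j9_548_20 = true := by decide +kernel

noncomputable def j9_548_21 : List Job := [
  ⟨42, 0x444251009c0e0501, 0, 24, 0x0, []⟩]

theorem t9_548_21 : jobs 8 S9 b8_548 j9_548_21 = true := by decide +kernel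

noncomputable def j9_548_22 : List Job := [
  ⟨41, 0x601028241a110a8643a21128a45a311a8e47c44251009c0e0501, 0, 24, 0x0, []⟩]

theorem t9_548_22 : jobs 8 S9 b8_548 j9_548_22 = true := by decide +kernel

noncomputable def j9_548_23 : List Job := [
  ⟨40, 0x444251009c0e0501, 0, 24, 0x0, []⟩]

theorem t9_548_23 : jobs 8 S9 b8_548 j9_548_23 = true := by decide +kernel

noncomputable def j9_548_24 : List Job := [
  ⟨39, 0x601028241a110a8643a21128a45a311a8e47c44251009c0e0501, 0, 24, 0x0, []⟩]

theorem t9_548_24 : jobs 8 S9 b8_548 j9_548_24 = true := by decide +kernel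

noncomputable def j9_548_25 : List Job := [
  ⟨38, 0x4502a160bc44251009c100a0603c0e0501, 0, 24, 0x0, []⟩]

theorem t9_548_25 : jobs 8 S9 b8_548 j9_548_25 = true := by decide +kernel

noncomputable def j9_548_26 : List Job := [
  ⟨37, 0x601028241a110a8643a21128a45a311a8e47c502a160bc48271008c100a0603c0e0501, 0, 24, 0x0, []⟩]

theorem t9_548_26 : jobs 8 S9 b8_548 j9_548_26 = true := by decide +kernel

noncomputable def j9_548_27 : List Job := [
  ⟨36, 0x4502a160bc44251009c100a0603c0e0501, 0, 24, 0x0, []⟩]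

theorem t9_548_27 : jobs 8 S9 b8_548 j9_548_27 = true := by decide +kernel

noncomputable def j9_548_28 : List Job := [
  ⟨35, 0x601028241a110a8643a21128a45a311a8e47c502a160bc48271008c100a0603c0e0501, 0, 24, 0x0, []⟩]

theorem t9_548_28 : jobs 8 S9 b8_548 j9_548_28 = true := by decide +kernel

noncomputable def j9_548_29 : List Job := [
  ⟨34, 0x4542d140bc44251009c140d0403c0e0501, 0, 24, 0x0, []⟩]

theorem t9_548_29 : jobs 8 S9 b8_548 j9_548_29 = true := by decide +kernel

noncomputable def j9_548_30 : List Job := [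
  ⟨33, 0x601028241a110a8643a21128a45a311a8e47c582f140ac48271008c180f0402c0e0501, 0, 24, 0x0, []⟩]

theorem t9_548_30 : jobs 8 S9 b8_548 j9_548_30 = true := by decide +kernel

noncomputable def j9_548_31 : List Job := [
  ⟨32, 0x4542d140bc44251009c140d0403c0e0501, 0, 24, 0x1202001402001602001802001a05001c05001e02002002002201002401002601002801002a01002c01002e01003001, []⟩]

theorem t9_548_31 : jobs 8 S9 b8_548 j9_548_31 = true := by decide +kernel

noncomputable def j9_548_32 : List Job := [
  ⟨31, 0x601028241a110a8643a21128a45a311a8e47c582f140ac48271008c180f0402c0e0501, 0, 40, 0x1204001404001604001804001a03001c03001e04002004002201002401002601002801002a01002c01002e01003001, []⟩]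

theorem t9_548_32 : jobs 8 S9 b8_548 j9_548_32 = true := by decide +kernel

noncomputable def j9_548_33 : List Job := [
  ⟨30, 0x4804222118904a26138c06232198d06a361bc4e25118840e0501, 0, 16, 0x0, []⟩]

theorem t9_548_33 : jobs 8 S9 b8_548 j9_548_33 = true := by decide +kernel

noncomputable def j9_548_34 : List Job := [
  ⟨29, 0x4804222118904a26138c06232198d06a361bc4e25118840e0501, 0, 16, 0x0, []⟩]

theorem t9_548_34 : jobs 8 S9 b8_548 j9_548_34 = true := by decide +kernel

noncomputable def j9_548_35 : List Job := [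
  ⟨28, 0x4341d0c07c0e0501, 0, 10, 0x0, []⟩]

theorem t9_548_35 : jobs 8 S9 b8_548 j9_548_35 = true := by decide +kernel

noncomputable def j9_548_36 : List Job := [
  ⟨27, 0x4341d0c07c0e0501, 0, 12, 0x0, []⟩]

theorem t9_548_36 : jobs 8 S9 b8_548 j9_548_36 = true := by decide +kernel

noncomputable def j9_548_37 : List Job := [
  ⟨26, 0x43e1d0d8640e0501, 0, 12, 0x204000404, []⟩]

theorem t9_548_37 : jobs 8 S9 b8_548 j9_548_37 = true := by decide +kernel

noncomputable def j9_548_38 : List Job := [
  ⟨25, 0x43e1d0d8640e0501, 0, 10, 0xa05000c05, []⟩]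

theorem t9_548_38 : jobs 8 S9 b8_548 j9_548_38 = true := by decide +kernel

noncomputable def j9_548_39 : List Job := [
  ⟨24, 0x43e1d0d8640e0501, 0, 10, 0x1203001403, []⟩]

theorem t9_548_39 : jobs 8 S9 b8_548 j9_548_39 = true := by decide +kernel

noncomputable def j9_548_40 : List Job := [
  ⟨23, 0x4804222118904a26138c06232198d06a361bc341d0c07c0e0501, 0, 16, 0x0, []⟩]

theorem t9_548_40 : jobs 8 S9 b8_548 j9_548_40 = true := by decide +kernel

noncomputable def j9_548_41 : List Job := [
  ⟨22, 0x4804222118904a26138c06232198d06a361bc341d0c07c0e0501, 0, 16, 0x0, []⟩]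

theorem t9_548_41 : jobs 8 S9 b8_548 j9_548_41 = true := by decide +kernel

noncomputable def j9_548_42 : List Job := [
  ⟨21, 0x43e1d0d8640e0501, 0, 10, 0xa05000c05, []⟩]

theorem t9_548_42 : jobs 8 S9 b8_548 j9_548_42 = true := by decide +kernel

noncomputable def j9_548_43 : List Job := [
  ⟨20, 0x43e1d0d8640e0501, 0, 10, 0xa07000c07, []⟩]

theorem t9_548_43 : jobs 8 S9 b8_548 j9_548_43 = true := by decide +kernel

noncomputable def j9_548_44 : List Job := [
  ⟨19, 0x4a0522a158b05a2e178e0723a1d8f07a3e1fc804222118904a26138c06232198d06a361bc3e1d0d8640e0501, 0, 19, 0x204000404, []⟩]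

theorem t9_548_44 : jobs 8 S9 b8_548 j9_548_44 = true := by decide +kernel

noncomputable def j9_548_45 : List Job := [
  ⟨18, 0x4a0522a158b05a2e178e0723a1d8f07a3e1fc804222118904a26138c06232198d06a361bc3e1d0d8640e0501, 0, 16, 0xe01001001001603001803, []⟩]

theorem t9_548_45 : jobs 8 S9 b8_548 j9_548_45 = true := by decide +kernel

noncomputable def j9_548_46 : List Job := [
  ⟨17, 0x500824221920924a25940a25229960b25a2dc804222118904a26138c06232198d06a361bc341d0c07c0e0501, 0, 22, 0xa01000c01000e01001601001801001a01, []⟩]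

theorem t9_548_46 : jobs 8 S9 b8_548 j9_548_46 = true := by decide +kernel

noncomputable def j9_548_47 : List Job := [
  ⟨16, 0x500824221920924a25940a25229960b25a2dc804222118904a26138c06232198d06a361bc341d0c07c0e0501, 0, 24, 0xe01001001001201001a01001c01001e01, []⟩]

theorem t9_548_47 : jobs 8 S9 b8_548 j9_548_47 = true := by decide +kernel

noncomputable def j9_548_48 : List Job := [
  ⟨15, 0x43e1d0d8640e0501, 0, 12, 0x1603001803, []⟩]

theorem t9_548_48 : jobs 8 S9 b8_548 j9_548_48 = true := by decide +kernel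

noncomputable def j9_548_49 : List Job := [
  ⟨14, 0x4a0522a158b05a2e178e0723a1d8f07a3e1fc804222118904a26138c06232198d06a361bc3e1d0d8640e0501, 0, 19, 0x1c03001e03, []⟩]

theorem t9_548_49 : jobs 8 S9 b8_548 j9_548_49 = true := by decide +kernel

noncomputable def j9_548_50 : List Job := [
  ⟨13, 0x5108a46239309a4e27950aa562b970ba5e2fd00824221920924a25940a25229960b25a2dca0522a158b05a2e178e0723a1d8f07a3e1fc804222118904a26138c06232198d06a361bc3e1d0d8640e0501, 0, 24, 0x204000404000601, []⟩]

theorem t9_548_50 : jobs 8 S9 b8_548 j9_548_50 = true := by decide +kernel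

noncomputable def j9_548_51 : List Job := [
  ⟨12, 0x420120a05c0e0501, 0, 16, 0x0, []⟩]

theorem t9_548_51 : jobs 8 S9 b8_548 j9_548_51 = true := by decide +kernel

noncomputable def j9_548_52 : List Job := [
  ⟨11, 0x420120a05c0e0501, 0, 16, 0x0, []⟩]

theorem t9_548_52 : jobs 8 S9 b8_548 j9_548_52 = true := by decide +kernel

noncomputable def j9_548_53 : List Job := [
  ⟨10, 0x4804222118904a26138c06232198d06a361bc20120a05c0e0501, 0, 16, 0x0, []⟩]

theorem t9_548_53 : jobs 8 S9 b8_548 j9_548_53 = true := by decide +kernel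

noncomputable def j9_548_54 : List Job := [
  ⟨9, 0x4804222118904a26138c06232198d06a361bc20120a05c0e0501, 0, 16, 0x0, []⟩]

theorem t9_548_54 : jobs 8 S9 b8_548 j9_548_54 = true := by decide +kernel

noncomputable def j9_548_55 : List Job := [
  ⟨8, 0x500824221920924a25940a25229960b25a2dc703a1e0fc0e0501, 0, 16, 0x0, []⟩]

theorem t9_548_55 : jobs 8 S9 b8_548 j9_548_55 = true := by decide +kernel

noncomputable def j9_548_56 : List Job := [
  ⟨7, 0x500824221920924a25940a25229960b25a2dc703a1e0fc0e0501, 0, 16, 0x0, []⟩]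

theorem t9_548_56 : jobs 8 S9 b8_548 j9_548_56 = true := by decide +kernel

noncomputable def j9_548_57 : List Job := [
  ⟨6, 0x420120a05c0e0501, 0, 16, 0x0, []⟩]

theorem t9_548_57 : jobs 8 S9 b8_548 j9_548_57 = true := by decide +kernel

noncomputable def j9_548_58 : List Job := [
  ⟨5, 0x5108a46239309a4e27950aa562b970ba5e2fd00824221920924a25940a25229960b25a2dc20120a05c0e0501, 0, 16, 0x0, []⟩]

theorem t9_548_58 : jobs 8 S9 b8_548 j9_548_58 = true := by decide +kernel

noncomputable def j9_548_59 : List Job := [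
  ⟨4, 0x4804222118904a26138c06232198d06a361bc20120a05c0e0501, 0, 16, 0x0, []⟩]

theorem t9_548_59 : jobs 8 S9 b8_548 j9_548_59 = true := by decide +kernel

noncomputable def j9_548_60 : List Job := [
  ⟨3, 0x5108a46239309a4e27950aa562b970ba5e2fd00824221920924a25940a25229960b25a2dc804222118904a26138c06232198d06a361bc20120a05c0e0501, 0, 16, 0x0, []⟩]

theorem t9_548_60 : jobs 8 S9 b8_548 j9_548_60 = true := by decide +kernel

noncomputable def j9_548_61 : List Job := [
  ⟨2, 0x4743d1c0fc4e2511884341d0c07c0e0501, 0, 22, 0xa04000c04000e05001024001225001425002801002a01002c01, []⟩]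

theorem t9_548_61 : jobs 8 S9 b8_548 j9_548_61 = true := by decide +kernel

noncomputable def j9_548_62 : List Job := [
  ⟨1, 0x4743d1c0fc4e2511884341d0c07c0e0501, 0, 24, 0xe04001004001205001420001621001821002c01002e01003001, []⟩]

theorem t9_548_62 : jobs 8 S9 b8_548 j9_548_62 = true := by decide +kernel

noncomputable def j9_548_63 : List Job := [
  ⟨0, 0x4804222118904a26138c06232198d06a361bc743d1c0fc4e2511884341d0c07c0e0501, 0, 32, 0x1220001621001a20001c21001e21002020003201003601003a01003c01003e01004001, []⟩]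

theorem t9_548_63 : jobs 8 S9 b8_548 j9_548_63 = true := by decide +kernel

theorem d9_548 : Dn 8 S9 b8_548 := dn_of (Js := j9_548_0 ++ (j9_548_1 ++ (j9_548_2 ++ (j9_548_3 ++ (j9_548_4 ++ (j9_548_5 ++ (j9_548_6 ++ (j9_548_7 ++ (j9_548_8 ++ (j9_548_9 ++ (j9_548_10 ++ (j9_548_11 ++ (j9_548_12 ++ (j9_548_13 ++ (j9_548_14 ++ (j9_548_15 ++ (j9_548_16 ++ (j9_548_17 ++ (j9_548_18 ++ (j9_548_19 ++ (j9_548_20 ++ (j9_548_21 ++ (j9_548_22 ++ (j9_548_23 ++ (j9_548_24 ++ (j9_548_25 ++ (j9_548_26 ++ (j9_548_27 ++ (j9_548_28 ++ (j9_548_29 ++ (j9_548_30 ++ (j9_548_31 ++ (j9_548_32 ++ (j9_548_33 ++ (j9_548_34 ++ (j9_548_35 ++ (j9_548_36 ++ (j9_548_37 ++ (j9_548_38 ++ (j9_548_39 ++ (j9_548_40 ++ (j9_548_41 ++ (j9_548_42 ++ (j9_548_43 ++ (j9_548_44 ++ (j9_548_45 ++ (j9_548_46 ++ (j9_548_47 ++ (j9_548_48 ++ (j9_548_49 ++ (j9_548_50 ++ (j9_548_51 ++ (j9_548_52 ++ (j9_548_53 ++ (j9_548_54 ++ (j9_548_55 ++ (j9_548_56 ++ (j9_548_57 ++ (j9_548_58 ++ (j9_548_59 ++ (j9_548_60 ++ (j9_548_61 ++ (j9_548_62 ++ (j9_548_63 ++ []))))))))))))))))))))))))))))))))))))))))))))))))))))))))))))))))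
  (jobs_append t9_548_0 <| jobs_append t9_548_1 <| jobs_append t9_548_2 <| jobs_append t9_548_3 <| jobs_append t9_548_4 <| jobs_append t9_548_5 <| jobs_append t9_548_6 <| jobs_append t9_548_7 <| jobs_append t9_548_8 <| jobs_append t9_548_9 <| jobs_append t9_548_10 <| jobs_append t9_548_11 <| jobs_append t9_548_12 <| jobs_append t9_548_13 <| jobs_append t9_548_14 <| jobs_append t9_548_15 <| jobs_append t9_548_16 <| jobs_append t9_548_17 <| jobs_append t9_548_18 <| jobs_append t9_548_19 <| jobs_append t9_548_20 <| jobs_append t9_548_21 <| jobs_append t9_548_22 <| jobs_append t9_548_23 <| jobs_append t9_548_24 <| jobs_append t9_548_25 <| jobs_append t9_548_26 <| jobs_append t9_548_27 <| jobs_append t9_548_28 <| jobs_append t9_548_29 <| jobs_append t9_548_30 <| jobs_append t9_548_31 <| jobs_append t9_548_32 <| jobs_append t9_548_33 <| jobs_append t9_548_34 <| jobs_append t9_548_35 <| jobs_append t9_548_36 <| jobs_append t9_548_37 <| jobs_append t9_548_38 <| jobs_append t9_548_39 <| jobs_append t9_548_40 <|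 jobs_append t9_548_41 <| jobs_append t9_548_42 <| jobs_append t9_548_43 <| jobs_append t9_548_44 <| jobs_append t9_548_45 <| jobs_append t9_548_46 <| jobs_append t9_548_47 <| jobs_append t9_548_48 <| jobs_append t9_548_49 <| jobs_append t9_548_50 <| jobs_append t9_548_51 <| jobs_append t9_548_52 <| jobs_append t9_548_53 <| jobs_append t9_548_54 <| jobs_append t9_548_55 <| jobs_append t9_548_56 <| jobs_append t9_548_57 <| jobs_append t9_548_58 <| jobs_append t9_548_59 <| jobs_append t9_548_60 <| jobs_append t9_548_61 <| jobs_append t9_548_62 <| jobs_append t9_548_63 <| List.forall_mem_nil _) (by decide +kernel)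

noncomputable def j9_549_0 : List Job := [
  ⟨63, 0x46437180d40e0501, 0, 2, 0x0, []⟩]

theorem t9_549_0 : jobs 8 S9 b8_549 j9_549_0 = true := by decide +kernel

noncomputable def j9_549_1 : List Job := [
  ⟨62, 0x46437180d40e0501, 0, 3, 0x0, []⟩]

theorem t9_549_1 : jobs 8 S9 b8_549 j9_549_1 = true := by decide +kernel

noncomputable def j9_549_2 : List Job := [
  ⟨61, 0x428170804c0e0501, 0, 8, 0x0, []⟩]

theorem t9_549_2 : jobs 8 S9 b8_549 j9_549_2 = true := by decide +kernel

noncomputable def j9_549_3 : List Job := [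
  ⟨60, 0x46837180cc0e0501, 0, 8, 0x0, []⟩]

theorem t9_549_3 : jobs 8 S9 b8_549 j9_549_3 = true := by decide +kernel

noncomputable def j9_549_4 : List Job := [
  ⟨59, 0x601028241a110a8643a61329a4da713a9e4fc2417080540e0501, 0, 12, 0x0, []⟩]

theorem t9_549_4 : jobs 8 S9 b8_549 j9_549_4 = true := by decide +kernel

noncomputable def j9_549_5 : List Job := [
  ⟨58, 0x44e25118840e0501, 0, 3, 0x0, []⟩]

theorem t9_549_5 : jobs 8 S9 b8_549 j9_549_5 = true := by decide +kernel

noncomputable def j9_549_6 : List Job := [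
  ⟨57, 0x609068643a61329e4fe01028442a69369c4ec6437180d40e0501, 0, 12, 0x0, []⟩]

theorem t9_549_6 : jobs 8 S9 b8_549 j9_549_6 = true := by decide +kernel

noncomputable def j9_549_7 : List Job := [
  ⟨56, 0x44e25118840e0501, 0, 3, 0x0, []⟩]

theorem t9_549_7 : jobs 8 S9 b8_549 j9_549_7 = true := by decide +kernel

noncomputable def j9_549_8 : List Job := [
  ⟨55, 0x46837180cc0e0501, 0, 4, 0x0, []⟩]

theorem t9_549_8 : jobs 8 S9 b8_549 j9_549_8 = true := by decide +kernel

noncomputable def j9_549_9 : List Job := [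
  ⟨54, 0x44e25118840e0501, 0, 3, 0x0, []⟩]

theorem t9_549_9 : jobs 8 S9 b8_549 j9_549_9 = true := by decide +kernel

noncomputable def j9_549_10 : List Job := [
  ⟨53, 0x609068643a61329e4fe01028442a69369c4ec6437180d40e0501, 0, 10, 0x0, []⟩]

theorem t9_549_10 : jobs 8 S9 b8_549 j9_549_10 = true := by decide +kernel

noncomputable def j9_549_11 : List Job := [
  ⟨52, 0x44e25118840e0501, 0, 3, 0x0, []⟩]

theorem t9_549_11 : jobs 8 S9 b8_549 j9_549_11 = true := by decide +kernel

noncomputable def j9_549_12 : List Job := [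
  ⟨51, 0x44e25118840e0501, 0, 3, 0x0, []⟩]

theorem t9_549_12 : jobs 8 S9 b8_549 j9_549_12 = true := by decide +kernel

noncomputable def j9_549_13 : List Job := [
  ⟨50, 0x46837180cc0e0501, 0, 4, 0x0, []⟩]

theorem t9_549_13 : jobs 8 S9 b8_549 j9_549_13 = true := by decide +kernel

noncomputable def j9_549_14 : List Job := [
  ⟨49, 0x44e25118840e0501, 0, 6, 0x0, []⟩]

theorem t9_549_14 : jobs 8 S9 b8_549 j9_549_14 = true := by decide +kernel

noncomputable def j9_549_15 : List Job := [
  ⟨48, 0x621128a45a311a8e47a41229249a512a964be01028241a110a8643a61329a4da713a9e4fc4e25118840e0501, 0, 12, 0x0, []⟩]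

theorem t9_549_15 : jobs 8 S9 b8_549 j9_549_15 = true := by decide +kernel

noncomputable def j9_549_16 : List Job := [
  ⟨47, 0x609068643a61329e4fe01028442a69369c4ec6437180d40e0501, 0, 12, 0x0, []⟩]

theorem t9_549_16 : jobs 8 S9 b8_549 j9_549_16 = true := by decide +kernel

noncomputable def j9_549_17 : List Job := [
  ⟨46, 0x42e15098440e0501, 0, 5, 0x201, []⟩]

theorem t9_549_17 : jobs 8 S9 b8_549 j9_549_17 = true := by decide +kernel

noncomputable def j9_549_18 : List Job := [
  ⟨45, 0x42e15098440e0501, 0, 4, 0x601000801, []⟩]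

theorem t9_549_18 : jobs 8 S9 b8_549 j9_549_18 = true := by decide +kernel

noncomputable def j9_549_19 : List Job := [
  ⟨44, 0x42e15098440e0501, 0, 5, 0xa01, []⟩]

theorem t9_549_19 : jobs 8 S9 b8_549 j9_549_19 = true := by decide +kernel

noncomputable def j9_549_20 : List Job := [
  ⟨43, 0x42e15098440e0501, 0, 8, 0x201000401, []⟩]

theorem t9_549_20 : jobs 8 S9 b8_549 j9_549_20 = true := by decide +kernel

noncomputable def j9_549_21 : List Job := [
  ⟨42, 0x42e15098440e0501, 0, 3, 0x601, []⟩]

theorem t9_549_21 : jobs 8 S9 b8_549 j9_549_21 = true := by decide +kernel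

noncomputable def j9_549_22 : List Job := [
  ⟨41, 0x42e15098440e0501, 0, 3, 0x201, []⟩]

theorem t9_549_22 : jobs 8 S9 b8_549 j9_549_22 = true := by decide +kernel

noncomputable def j9_549_23 : List Job := [
  ⟨40, 0x42e15098440e0501, 0, 3, 0x401, []⟩]

theorem t9_549_23 : jobs 8 S9 b8_549 j9_549_23 = true := by decide +kernel

noncomputable def j9_549_24 : List Job := [
  ⟨39, 0x42e15098440e0501, 0, 6, 0xa01, []⟩]

theorem t9_549_24 : jobs 8 S9 b8_549 j9_549_24 = true := by decide +kernel

noncomputable def j9_549_25 : List Job := [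
  ⟨38, 0x42e15098440e0501, 0, 3, 0x201, []⟩]

theorem t9_549_25 : jobs 8 S9 b8_549 j9_549_25 = true := by decide +kernel

noncomputable def j9_549_26 : List Job := [
  ⟨37, 0x42e15098440e0501, 0, 6, 0xc01, []⟩]

theorem t9_549_26 : jobs 8 S9 b8_549 j9_549_26 = true := by decide +kernel

noncomputable def j9_549_27 : List Job := [
  ⟨36, 0x46e35198c40e0501, 0, 4, 0x0, []⟩]

theorem t9_549_27 : jobs 8 S9 b8_549 j9_549_27 = true := by decide +kernel

noncomputable def j9_549_28 : List Job := [
  ⟨35, 0x46e35198c40e0501, 0, 4, 0x0, []⟩]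

theorem t9_549_28 : jobs 8 S9 b8_549 j9_549_28 = true := by decide +kernel

noncomputable def j9_549_29 : List Job := [
  ⟨34, 0x4844628150c064391dc804429158c466381d46e35198c40e0501, 0, 8, 0x601, []⟩]

theorem t9_549_29 : jobs 8 S9 b8_549 j9_549_29 = true := by decide +kernel

noncomputable def j9_549_30 : List Job := [
  ⟨33, 0x4844628150c064391dc804429158c466381d46e35198c40e0501, 0, 14, 0xe01001001001201, []⟩]

theorem t9_549_30 : jobs 8 S9 b8_549 j9_549_30 = true := by decide +kernel

noncomputable def j9_549_31 : List Job := [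
  ⟨32, 0x46e35198c40e0501, 0, 4, 0x0, []⟩]

theorem t9_549_31 : jobs 8 S9 b8_549 j9_549_31 = true := by decide +kernel

noncomputable def j9_549_32 : List Job := [
  ⟨31, 0x46e35198c40e0501, 0, 4, 0x0, []⟩]

theorem t9_549_32 : jobs 8 S9 b8_549 j9_549_32 = true := by decide +kernel

noncomputable def j9_549_33 : List Job := [
  ⟨30, 0x4844629158c064381d4804428150c466391dc6e35198c40e0501, 0, 10, 0x801000a01, []⟩]

theorem t9_549_33 : jobs 8 S9 b8_549 j9_549_33 = true := by decide +kernel

noncomputable def j9_549_34 : List Job := [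
  ⟨29, 0x4844629158c064381d4804428150c466391dc6e35198c40e0501, 0, 12, 0xa01000e01, []⟩]

theorem t9_549_34 : jobs 8 S9 b8_549 j9_549_34 = true := by decide +kernel

noncomputable def j9_549_35 : List Job := [
  ⟨28, 0x46e35198c40e0501, 0, 5, 0x0, []⟩]

theorem t9_549_35 : jobs 8 S9 b8_549 j9_549_35 = true := by decide +kernel

noncomputable def j9_549_36 : List Job := [
  ⟨27, 0x46e35198c40e0501, 0, 5, 0x0, []⟩]

theorem t9_549_36 : jobs 8 S9 b8_549 j9_549_36 = true := by decide +kernel

noncomputable def j9_549_37 : List Job := [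
  ⟨26, 0x4844629158c466391dc804428150c064381d46e35198c40e0501, 0, 9, 0xc01, []⟩]

theorem t9_549_37 : jobs 8 S9 b8_549 j9_549_37 = true := by decide +kernel

noncomputable def j9_549_38 : List Job := [
  ⟨25, 0x4844629158c466391dc804428150c064381d46e35198c40e0501, 0, 15, 0x1001001201001601, []⟩]

theorem t9_549_38 : jobs 8 S9 b8_549 j9_549_38 = true := by decide +kernel

noncomputable def j9_549_39 : List Job := [
  ⟨24, 0x4301a0e07c0e0501, 0, 8, 0x0, []⟩]

theorem t9_549_39 : jobs 8 S9 b8_549 j9_549_39 = true := by decide +kernel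

noncomputable def j9_549_40 : List Job := [
  ⟨23, 0x4301a0e07c0e0501, 0, 8, 0x0, []⟩]

theorem t9_549_40 : jobs 8 S9 b8_549 j9_549_40 = true := by decide +kernel

noncomputable def j9_549_41 : List Job := [
  ⟨22, 0x428170804c0e0501, 0, 10, 0x0, []⟩]

theorem t9_549_41 : jobs 8 S9 b8_549 j9_549_41 = true := by decide +kernel

noncomputable def j9_549_42 : List Job := [
  ⟨21, 0x428170804c0e0501, 0, 6, 0x0, []⟩]

theorem t9_549_42 : jobs 8 S9 b8_549 j9_549_42 = true := by decide +kernel

noncomputable def j9_549_43 : List Job := [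
  ⟨20, 0x428170804c0e0501, 0, 6, 0x0, []⟩]

theorem t9_549_43 : jobs 8 S9 b8_549 j9_549_43 = true := by decide +kernel

noncomputable def j9_549_44 : List Job := [
  ⟨19, 0x428170804c0e0501, 0, 8, 0x0, []⟩]

theorem t9_549_44 : jobs 8 S9 b8_549 j9_549_44 = true := by decide +kernel

noncomputable def j9_549_45 : List Job := [
  ⟨18, 0x4804222118a0522a158c06232198e0723a1dc301a0e07c0e0501, 0, 8, 0x0, []⟩]

theorem t9_549_45 : jobs 8 S9 b8_549 j9_549_45 = true := by decide +kernel

noncomputable def j9_549_46 : List Job := [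
  ⟨17, 0x4804222118a0522a158c06232198e0723a1dc301a0e07c0e0501, 0, 8, 0x0, []⟩]

theorem t9_549_46 : jobs 8 S9 b8_549 j9_549_46 = true := by decide +kernel

noncomputable def j9_549_47 : List Job := [
  ⟨16, 0x4140d0403c0e0501, 0, 4, 0x0, []⟩]

theorem t9_549_47 : jobs 8 S9 b8_549 j9_549_47 = true := by decide +kernel

noncomputable def j9_549_48 : List Job := [
  ⟨15, 0x4140d0403c0e0501, 0, 4, 0x0, []⟩]

theorem t9_549_48 : jobs 8 S9 b8_549 j9_549_48 = true := by decide +kernel

noncomputable def j9_549_49 : List Job := [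
  ⟨14, 0x4844628150c064391dc804429158c466381d42417080540e0501, 0, 8, 0x0, []⟩]

theorem t9_549_49 : jobs 8 S9 b8_549 j9_549_49 = true := by decide +kernel

noncomputable def j9_549_50 : List Job := [
  ⟨13, 0x4844628150c466381d4804429158c064391dc2417080540e0501, 0, 6, 0x0, []⟩]

theorem t9_549_50 : jobs 8 S9 b8_549 j9_549_50 = true := by decide +kernel

noncomputable def j9_549_51 : List Job := [
  ⟨12, 0x4844629158c064381d4804428150c466391dc2417080540e0501, 0, 6, 0x0, []⟩]

theorem t9_549_51 : jobs 8 S9 b8_549 j9_549_51 = true := by decide +kernel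

noncomputable def j9_549_52 : List Job := [
  ⟨11, 0x4844629158c466391dc804428150c064381d42417080540e0501, 0, 10, 0x0, []⟩]

theorem t9_549_52 : jobs 8 S9 b8_549 j9_549_52 = true := by decide +kernel

noncomputable def j9_549_53 : List Job := [
  ⟨9, 0x609068643a29168e47a4926964ba61329c4ee01028442a21128c46a4122944aa69369e4fc1e0d058240e0501, 0, 4, 0x203000402000608000803, []⟩]

theorem t9_549_53 : jobs 8 S9 b8_549 j9_549_53 = true := by decide +kernel

noncomputable def j9_549_54 : List Job := [
  ⟨7, 0x605068543a25168d47a4526954ba61349c4f601048443221148c4724124944b265369d4fc1e0d058240e0501, 0, 4, 0x20d000400000604000804, [(1, ⟨3336, 0x258061049c11c0024106040c00200001, 0x19e3289c3e0b0280406⟩)]⟩]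

theorem t9_549_54 : jobs 8 S9 b8_549 j9_549_54 = true := by decide +kernel

noncomputable def j9_549_55 : List Job := [
  ⟨6, 0x584c464339e0f67d3f580c665331e4f47c3fd04864423144a6542b500844523940a4552bc884624128a8562c16c804226138a0522e17c1e0d058240e0501, 0, 8, 0x40b00080b, []⟩]

theorem t9_549_55 : jobs 8 S9 b8_549 j9_549_55 = true := by decide +kernel

noncomputable def j9_549_56 : List Job := [
  ⟨5, 0x605068543a25168d47a4526954ba61349c4f601048443221148c4724124944b265369d4fd84c464339e0f67d3f580c665331e4f47c3fd08864623948a6562bd00824422940a2542ac904a26138b05a2e17c804222118a0522a15c1e0d058240e0501, 0, 22, 0x200001c02, [(0, ⟨3324, 0x13e015000150004400120104000080408000001, 0x19a2b0a8240a0200404⟩)]⟩]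

theorem t9_549_56 : jobs 8 S9 b8_549 j9_549_56 = true := by decide +kernel

noncomputable def j9_549_57 : List Job := [
  ⟨4, 0x44e25118840e0501, 0, 6, 0xa01000c01, []⟩]

theorem t9_549_57 : jobs 8 S9 b8_549 j9_549_57 = true := by decide +kernel

noncomputable def j9_549_58 : List Job := [
  ⟨3, 0x4582f140ac4e2511884180f0402c0e0501, 0, 16, 0x1225001424001625001824001a25001c24001e01002001, []⟩]

theorem t9_549_58 : jobs 8 S9 b8_549 j9_549_58 = true := by decide +kernel

noncomputable def j9_549_59 : List Job := [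
  ⟨2, 0x4582f140ac4e2511884180f0402c0e0501, 0, 16, 0x220000421000620000821001a20001c01001e20002001, []⟩]

theorem t9_549_59 : jobs 8 S9 b8_549 j9_549_59 = true := by decide +kernel

noncomputable def j9_549_60 : List Job := [
  ⟨1, 0x4582f140ac4e2511884180f0402c0e0501, 0, 20, 0xe21001020001220002601002801, []⟩]

theorem t9_549_60 : jobs 8 S9 b8_549 j9_549_60 = true := by decide +kernel

noncomputable def j9_549_61 : List Job := [
  ⟨0, 0x4582f140ac4e2511884180f0402c0e0501, 0, 18, 0x224000425000625001024001225001424001e01002001, []⟩]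

theorem t9_549_61 : jobs 8 S9 b8_549 j9_549_61 = true := by decide +kernel

theorem d9_549 : Dn 8 S9 b8_549 := dn_of (Js := j9_549_0 ++ (j9_549_1 ++ (j9_549_2 ++ (j9_549_3 ++ (j9_549_4 ++ (j9_549_5 ++ (j9_549_6 ++ (j9_549_7 ++ (j9_549_8 ++ (j9_549_9 ++ (j9_549_10 ++ (j9_549_11 ++ (j9_549_12 ++ (j9_549_13 ++ (j9_549_14 ++ (j9_549_15 ++ (j9_549_16 ++ (j9_549_17 ++ (j9_549_18 ++ (j9_549_19 ++ (j9_549_20 ++ (j9_549_21 ++ (j9_549_22 ++ (j9_549_23 ++ (j9_549_24 ++ (j9_549_25 ++ (j9_549_26 ++ (j9_549_27 ++ (j9_549_28 ++ (j9_549_29 ++ (j9_549_30 ++ (j9_549_31 ++ (j9_549_32 ++ (j9_549_33 ++ (j9_549_34 ++ (j9_549_35 ++ (j9_549_36 ++ (j9_549_37 ++ (j9_549_38 ++ (j9_549_39 ++ (j9_549_40 ++ (j9_549_41 ++ (j9_549_42 ++ (j9_549_43 ++ (j9_549_44 ++ (j9_549_45 ++ (j9_549_46 ++ (j9_549_47 ++ (j9_549_48 ++ (j9_549_49 ++ (j9_549_50 ++ (j9_549_51 ++ (j9_549_52 ++ (j9_549_53 ++ (j9_549_54 ++ (j9_549_55 ++ (j9_549_56 ++ (j9_549_57 ++ (j9_549_58 ++ (j9_549_59 ++ (j9_549_60 ++ (j9_549_61 ++ []))))))))))))))))))))))))))))))))))))))))))))))))))))))))))))))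
  (jobs_append t9_549_0 <| jobs_append t9_549_1 <| jobs_append t9_549_2 <| jobs_append t9_549_3 <| jobs_append t9_549_4 <| jobs_append t9_549_5 <| jobs_append t9_549_6 <| jobs_append t9_549_7 <| jobs_append t9_549_8 <| jobs_append t9_549_9 <| jobs_append t9_549_10 <| jobs_append t9_549_11 <| jobs_append t9_549_12 <| jobs_append t9_549_13 <| jobs_append t9_549_14 <| jobs_append t9_549_15 <| jobs_append t9_549_16 <| jobs_append t9_549_17 <| jobs_append t9_549_18 <| jobs_append t9_549_19 <| jobs_append t9_549_20 <| jobs_append t9_549_21 <| jobs_append t9_549_22 <| jobs_append t9_549_23 <| jobs_append t9_549_24 <| jobs_append t9_549_25 <| jobs_append t9_549_26 <| jobs_append t9_549_27 <| jobs_append t9_549_28 <| jobs_append t9_549_29 <| jobs_append t9_549_30 <| jobs_append t9_549_31 <| jobs_append t9_549_32 <| jobs_append t9_549_33 <| jobs_append t9_549_34 <| jobs_append t9_549_35 <| jobs_append t9_549_36 <| jobs_append t9_549_37 <| jobs_append t9_549_38 <| jobs_append t9_549_39 <| jobs_append t9_549_40 <|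 jobs_append t9_549_41 <| jobs_append t9_549_42 <| jobs_append t9_549_43 <| jobs_append t9_549_44 <| jobs_append t9_549_45 <| jobs_append t9_549_46 <| jobs_append t9_549_47 <| jobs_append t9_549_48 <| jobs_append t9_549_49 <| jobs_append t9_549_50 <| jobs_append t9_549_51 <| jobs_append t9_549_52 <| jobs_append t9_549_53 <| jobs_append t9_549_54 <| jobs_append t9_549_55 <| jobs_append t9_549_56 <| jobs_append t9_549_57 <| jobs_append t9_549_58 <| jobs_append t9_549_59 <| jobs_append t9_549_60 <| jobs_append t9_549_61 <| List.forall_mem_nil _) (by decide +kernel)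

noncomputable def j9_550_0 : List Job := [
  ⟨63, 0x508864623928964e27948a6542a968b65c2ed00824422920924c26940a2562b960b25e2fc140d0403c0e0501, 0, 8, 0x203000403000601000801000a01000c01, []⟩]

theorem t9_550_0 : jobs 8 S9 b8_550 j9_550_0 = true := by decide +kernel

noncomputable def j9_550_1 : List Job := [
  ⟨62, 0x4a0522a158b05a2e17c140f040340e0501, 0, 2, 0x0, []⟩]

theorem t9_550_1 : jobs 8 S9 b8_550 j9_550_1 = true := by decide +kernel

noncomputable def j9_550_2 : List Job := [
  ⟨61, 0x504864523924964d27944a6542b164b65c2f500844423120944c27140a4552b960b45d2fca0522a158b05a2e17c180f0402c0e0501, 0, 8, 0x1005, []⟩]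

theorem t9_550_2 : jobs 8 S9 b8_550 j9_550_2 = true := by decide +kernel

noncomputable def j9_550_3 : List Job := [
  ⟨60, 0x4180f0402c0e0501, 0, 2, 0x201000401, []⟩]

theorem t9_550_3 : jobs 8 S9 b8_550 j9_550_3 = true := by decide +kernel

noncomputable def j9_550_4 : List Job := [
  ⟨59, 0x4180f0402c0e0501, 0, 2, 0x205000405, []⟩]

theorem t9_550_4 : jobs 8 S9 b8_550 j9_550_4 = true := by decide +kernel

noncomputable def j9_550_5 : List Job := [
  ⟨58, 0x484442513480462413c140d0403c0e0501, 0, 6, 0xa02, []⟩]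

theorem t9_550_5 : jobs 8 S9 b8_550 j9_550_5 = true := by decide +kernel

noncomputable def j9_550_6 : List Job := [
  ⟨57, 0x488462613c80422412c180f0402c0e0501, 0, 8, 0x205000605000a04000e05001001, []⟩]

theorem t9_550_6 : jobs 8 S9 b8_550 j9_550_6 = true := by decide +kernel

noncomputable def j9_550_7 : List Job := [
  ⟨56, 0x4140f040340e0501, 0, 4, 0x0, []⟩]

theorem t9_550_7 : jobs 8 S9 b8_550 j9_550_7 = true := by decide +kernel

noncomputable def j9_550_8 : List Job := [
  ⟨55, 0x508864623928964e27948a6542a968b65c2ed00824422920924c26940a2562b960b25e2fc140f040340e0501, 0, 8, 0x203000403000601000801, []⟩]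

theorem t9_550_8 : jobs 8 S9 b8_550 j9_550_8 = true := by decide +kernel

noncomputable def j9_550_9 : List Job := [
  ⟨54, 0x484462513c804424134140f040340e0501, 0, 8, 0x202, []⟩]

theorem t9_550_9 : jobs 8 S9 b8_550 j9_550_9 = true := by decide +kernel

noncomputable def j9_550_10 : List Job := [
  ⟨53, 0x504864523924964d27944a6542b164b65c2f500844423120944c27140a4552b960b45d2fc88462613c80422412c180f0402c0e0501, 0, 20, 0x204000604000a04000e04, []⟩]

theorem t9_550_10 : jobs 8 S9 b8_550 j9_550_10 = true := by decide +kernel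

noncomputable def j9_550_11 : List Job := [
  ⟨51, 0x5008242219108a4623c0e0501, 0, 4, 0x0, []⟩]

theorem t9_550_11 : jobs 8 S9 b8_550 j9_550_11 = true := by decide +kernel

noncomputable def j9_550_12 : List Job := [
  ⟨50, 0x42e15098440e0501, 0, 9, 0x210000610000a01001001, []⟩]

theorem t9_550_12 : jobs 8 S9 b8_550 j9_550_12 = true := by decide +kernel

noncomputable def j9_550_13 : List Job := [
  ⟨49, 0x4c464351b4c066341bc1e0d058240e0501, 0, 8, 0x208, []⟩]

theorem t9_550_13 : jobs 8 S9 b8_550 j9_550_13 = true := by decide +kernel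

noncomputable def j9_550_14 : List Job := [
  ⟨44, 0x4582f140ac0e0501, 0, 8, 0x0, []⟩]

theorem t9_550_14 : jobs 8 S9 b8_550 j9_550_14 = true := by decide +kernel

noncomputable def j9_550_15 : List Job := [
  ⟨43, 0x44427100940e0501, 0, 8, 0x0, []⟩]

theorem t9_550_15 : jobs 8 S9 b8_550 j9_550_15 = true := by decide +kernel

noncomputable def j9_550_16 : List Job := [
  ⟨42, 0x44e25118840e0501, 0, 8, 0x0, []⟩]

theorem t9_550_16 : jobs 8 S9 b8_550 j9_550_16 = true := by decide +kernel

noncomputable def j9_550_17 : List Job := [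
  ⟨41, 0x42e15098440e0501, 0, 18, 0x200000800001001001601001a00001c01001e01002000002201002401, [(15, ⟨3421, 0x28c04704a01050048008000400204001, 0x1a32989012040900404⟩), (12, ⟨3422, 0x2fc17e00ac004006c008040410204001, 0x1b83d09c1e040800404⟩), (3, ⟨3424, 0x2fc07e00ac004046c108040400204001, 0x1b83d09c1e040800404⟩), (0, ⟨3423, 0x28c14700a01050048008000400200001, 0x1a32989012040900404⟩)]⟩]

theorem t9_550_17 : jobs 8 S9 b8_550 j9_550_17 = true := by decide +kernel

noncomputable def j9_550_18 : List Job := [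
  ⟨40, 0x42e15098440e0501, 0, 6, 0x200000800, [(3, ⟨3419, 0x14815e015801022400808080080001, 0x1b12f89c12040800404⟩), (0, ⟨3420, 0x14815e095841022410808084080001, 0x1b12f89c12040800404⟩)]⟩]

theorem t9_550_18 : jobs 8 S9 b8_550 j9_550_18 = true := by decide +kernel

noncomputable def j9_550_19 : List Job := [
  ⟨39, 0x4502a160bc48271008c100a0603c0e0501, 0, 4, 0x0, []⟩]

theorem t9_550_19 : jobs 8 S9 b8_550 j9_550_19 = true := by decide +kernel

noncomputable def j9_550_20 : List Job := [
  ⟨38, 0x4743d1c0fc48271008c301a0e07c0e0501, 0, 4, 0x405000604, []⟩]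

theorem t9_550_20 : jobs 8 S9 b8_550 j9_550_20 = true := by decide +kernel

noncomputable def j9_550_21 : List Job := [
  ⟨37, 0x4301a0e07c2e1509844100a0603c0e0501, 0, 4, 0x210, []⟩]

theorem t9_550_21 : jobs 8 S9 b8_550 j9_550_21 = true := by decide +kernel

noncomputable def j9_550_22 : List Job := [
  ⟨36, 0x4743d1c0fc542d140bc2e15098440e0501, 0, 12, 0x610000a01001001001601, []⟩]

theorem t9_550_22 : jobs 8 S9 b8_550 j9_550_22 = true := by decide +kernel

noncomputable def j9_550_23 : List Job := [
  ⟨34, 0x42e15098440e0501, 0, 2, 0x201000401, []⟩]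

theorem t9_550_23 : jobs 8 S9 b8_550 j9_550_23 = true := by decide +kernel

noncomputable def j9_550_24 : List Job := [
  ⟨33, 0x46837180cc48271008c2e15098440e0501, 0, 12, 0x210000401000a00001000001401001601, [(7, ⟨3409, 0x27814500840050044108000810304001, 0x19c2908c16040980806⟩), (4, ⟨3408, 0x27814500840050044008000800304001, 0x19c2908c16040980806⟩)]⟩]

theorem t9_550_24 : jobs 8 S9 b8_550 j9_550_24 = true := by decide +kernel

noncomputable def j9_550_25 : List Job := [
  ⟨32, 0x41e0d058240e0501, 0, 6, 0xa00000c00, [(5, ⟨3403, 0x10e061010042002e00400184040001, 0x186310801c100200c02⟩), (4, ⟨3402, 0x10e061010042002e10400184040001, 0x186310801c100200c02⟩)]⟩]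

theorem t9_550_25 : jobs 8 S9 b8_550 j9_550_25 = true := by decide +kernel

noncomputable def j9_550_26 : List Job := [
  ⟨31, 0x41e0d058240e0501, 0, 4, 0x200000400000600000801, [(2, ⟨3400, 0x130166011802402a00700184042001, 0x199320881e110300c02⟩), (1, ⟨3401, 0x10004b010002c02a10708180040001, 0x1802b0801e120300c02⟩), (0, ⟨3399, 0x10004b090002c22a10700184042001, 0x1802b0801e120300c02⟩)]⟩]

theorem t9_550_26 : jobs 8 S9 b8_550 j9_550_26 = true := by decide +kernel

noncomputable def j9_550_27 : List Job := [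
  ⟨30, 0x44c29120ac442d100bc1e0d058240e0501, 0, 20, 0xa0d001a01001c01001e01002001002601002801, []⟩]

theorem t9_550_27 : jobs 8 S9 b8_550 j9_550_27 = true := by decide +kernel

noncomputable def j9_550_28 : List Job := [
  ⟨29, 0x4c464341bcc066351b41e0d058240e0501, 0, 4, 0x204000601000801, []⟩]

theorem t9_550_28 : jobs 8 S9 b8_550 j9_550_28 = true := by decide +kernel

noncomputable def j9_550_29 : List Job := [
  ⟨28, 0x48c4d2213c84492012c1e0d058240e0501, 0, 10, 0x204000601000801000a01000c01000e01001001001201001400, [(9, ⟨3393, 0x280064048000d0454005040400200001, 0x1a03308018140300404⟩)]⟩]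

theorem t9_550_29 : jobs 8 S9 b8_550 j9_550_29 = true := by decide +kernel

noncomputable def j9_550_30 : List Job := [
  ⟨27, 0x44c2b120a4442f100b41e0d058240e0501, 0, 16, 0x200001200001400001600001800001a01001c01001e01002001, [(11, ⟨3388, 0x280164008800d045c005040400200001, 0x1a0330841a140300404⟩), (10, ⟨3387, 0x2a4057049c0090040005040410204001, 0x1b22689410120300404⟩), (9, ⟨3386, 0x2a4157009c1090040005040410204001, 0x1b22689410120300404⟩), (8, ⟨3385, 0x2a4157049c0090040005040410204001, 0x1b22689410120300404⟩), (0, ⟨3384, 0x2a4157009c0090040005000400200001, 0x1b22689410120300404⟩)]⟩]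

theorem t9_550_30 : jobs 8 S9 b8_550 j9_550_30 = true := by decide +kernel

noncomputable def j9_550_31 : List Job := [
  ⟨26, 0x428170804c0e0501, 0, 8, 0x0, []⟩]

theorem t9_550_31 : jobs 8 S9 b8_550 j9_550_31 = true := by decide +kernel

noncomputable def j9_550_32 : List Job := [
  ⟨25, 0x428170804c0e0501, 0, 8, 0x0, []⟩]

theorem t9_550_32 : jobs 8 S9 b8_550 j9_550_32 = true := by decide +kernel

noncomputable def j9_550_33 : List Job := [
  ⟨24, 0x42417080540e0501, 0, 10, 0x0, []⟩]

theorem t9_550_33 : jobs 8 S9 b8_550 j9_550_33 = true := by decide +kernel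

noncomputable def j9_550_34 : List Job := [
  ⟨23, 0x42417080540e0501, 0, 16, 0x0, []⟩]

theorem t9_550_34 : jobs 8 S9 b8_550 j9_550_34 = true := by decide +kernel

noncomputable def j9_550_35 : List Job := [
  ⟨22, 0x41e0d058240e0501, 0, 10, 0x0, []⟩]

theorem t9_550_35 : jobs 8 S9 b8_550 j9_550_35 = true := by decide +kernel

noncomputable def j9_550_36 : List Job := [
  ⟨21, 0x41e0d058240e0501, 0, 6, 0x0, []⟩]

theorem t9_550_36 : jobs 8 S9 b8_550 j9_550_36 = true := by decide +kernel

noncomputable def j9_550_37 : List Job := [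
  ⟨20, 0x41e0d058240e0501, 0, 6, 0x0, []⟩]

theorem t9_550_37 : jobs 8 S9 b8_550 j9_550_37 = true := by decide +kernel

noncomputable def j9_550_38 : List Job := [
  ⟨19, 0x41e0d058240e0501, 0, 6, 0x0, []⟩]

theorem t9_550_38 : jobs 8 S9 b8_550 j9_550_38 = true := by decide +kernel

noncomputable def j9_550_39 : List Job := [
  ⟨18, 0x41e0d058240e0501, 0, 6, 0x0, []⟩]

theorem t9_550_39 : jobs 8 S9 b8_550 j9_550_39 = true := by decide +kernel

noncomputable def j9_550_40 : List Job := [
  ⟨17, 0x41e0d058240e0501, 0, 10, 0x0, []⟩]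

theorem t9_550_40 : jobs 8 S9 b8_550 j9_550_40 = true := by decide +kernel

noncomputable def j9_550_41 : List Job := [
  ⟨16, 0x41e0d058240e0501, 0, 10, 0x0, []⟩]

theorem t9_550_41 : jobs 8 S9 b8_550 j9_550_41 = true := by decide +kernel

noncomputable def j9_550_42 : List Job := [
  ⟨15, 0x41e0d058240e0501, 0, 10, 0x0, []⟩]

theorem t9_550_42 : jobs 8 S9 b8_550 j9_550_42 = true := by decide +kernel

noncomputable def j9_550_43 : List Job := [
  ⟨14, 0x4301a0e07c0e0501, 0, 8, 0x0, []⟩]

theorem t9_550_43 : jobs 8 S9 b8_550 j9_550_43 = true := by decide +kernel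

noncomputable def j9_550_44 : List Job := [
  ⟨13, 0x4301a0e07c0e0501, 0, 8, 0x0, []⟩]

theorem t9_550_44 : jobs 8 S9 b8_550 j9_550_44 = true := by decide +kernel

noncomputable def j9_550_45 : List Job := [
  ⟨12, 0x428170804c0e0501, 0, 8, 0x0, []⟩]

theorem t9_550_45 : jobs 8 S9 b8_550 j9_550_45 = true := by decide +kernel

noncomputable def j9_550_46 : List Job := [
  ⟨11, 0x428170804c0e0501, 0, 8, 0x0, []⟩]

theorem t9_550_46 : jobs 8 S9 b8_550 j9_550_46 = true := by decide +kernel

noncomputable def j9_550_47 : List Job := [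
  ⟨10, 0x5108a46239309a4e27940a25229960b25a2dd00824221920924a25950aa562b970ba5e2fc2417080540e0501, 0, 10, 0x0, []⟩]

theorem t9_550_47 : jobs 8 S9 b8_550 j9_550_47 = true := by decide +kernel

noncomputable def j9_550_48 : List Job := [
  ⟨9, 0x5108a46239309a4e27940a25229960b25a2dd00824221920924a25950aa562b970ba5e2fc2417080540e0501, 0, 16, 0x0, []⟩]

theorem t9_550_48 : jobs 8 S9 b8_550 j9_550_48 = true := by decide +kernel

noncomputable def j9_550_49 : List Job := [
  ⟨8, 0x41e0d058240e0501, 0, 6, 0x0, []⟩]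

theorem t9_550_49 : jobs 8 S9 b8_550 j9_550_49 = true := by decide +kernel

noncomputable def j9_550_50 : List Job := [
  ⟨7, 0x41e0d058240e0501, 0, 6, 0x0, []⟩]

theorem t9_550_50 : jobs 8 S9 b8_550 j9_550_50 = true := by decide +kernel

noncomputable def j9_550_51 : List Job := [
  ⟨6, 0x5108a46239309a4e27940a25229960b25a2dd00824221920924a25950aa562b970ba5e2fc1e0d058240e0501, 0, 14, 0x0, []⟩]

theorem t9_550_51 : jobs 8 S9 b8_550 j9_550_51 = true := by decide +kernel

noncomputable def j9_550_52 : List Job := [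
  ⟨5, 0x5108a46239309a4e27940a25229960b25a2dd00824221920924a25950aa562b970ba5e2fc1e0d058240e0501, 0, 12, 0xa01000e01, []⟩]

theorem t9_550_52 : jobs 8 S9 b8_550 j9_550_52 = true := by decide +kernel

noncomputable def j9_550_53 : List Job := [
  ⟨4, 0x41e0d058240e0501, 0, 6, 0x0, []⟩]

theorem t9_550_53 : jobs 8 S9 b8_550 j9_550_53 = true := by decide +kernel

noncomputable def j9_550_54 : List Job := [
  ⟨3, 0x41e0d058240e0501, 0, 6, 0x0, []⟩]

theorem t9_550_54 : jobs 8 S9 b8_550 j9_550_54 = true := by decide +kernel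

noncomputable def j9_550_55 : List Job := [
  ⟨2, 0x5108a46239309a4e27940a25229960b25a2dd00824221920924a25950aa562b970ba5e2fc1e0d058240e0501, 0, 14, 0x0, []⟩]

theorem t9_550_55 : jobs 8 S9 b8_550 j9_550_55 = true := by decide +kernel

noncomputable def j9_550_56 : List Job := [
  ⟨1, 0x5108a46239309a4e27940a25229960b25a2dd00824221920924a25950aa562b970ba5e2fc1e0d058240e0501, 0, 20, 0x201000e01, []⟩]

theorem t9_550_56 : jobs 8 S9 b8_550 j9_550_56 = true := by decide +kernel

noncomputable def j9_550_57 : List Job := [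
  ⟨0, 0x46437180d40e0501, 0, 2, 0x0, []⟩]

theorem t9_550_57 : jobs 8 S9 b8_550 j9_550_57 = true := by decide +kernel

theorem d9_550 : Dn 8 S9 b8_550 := dn_of (Js := j9_550_0 ++ (j9_550_1 ++ (j9_550_2 ++ (j9_550_3 ++ (j9_550_4 ++ (j9_550_5 ++ (j9_550_6 ++ (j9_550_7 ++ (j9_550_8 ++ (j9_550_9 ++ (j9_550_10 ++ (j9_550_11 ++ (j9_550_12 ++ (j9_550_13 ++ (j9_550_14 ++ (j9_550_15 ++ (j9_550_16 ++ (j9_550_17 ++ (j9_550_18 ++ (j9_550_19 ++ (j9_550_20 ++ (j9_550_21 ++ (j9_550_22 ++ (j9_550_23 ++ (j9_550_24 ++ (j9_550_25 ++ (j9_550_26 ++ (j9_550_27 ++ (j9_550_28 ++ (j9_550_29 ++ (j9_550_30 ++ (j9_550_31 ++ (j9_550_32 ++ (j9_550_33 ++ (j9_550_34 ++ (j9_550_35 ++ (j9_550_36 ++ (j9_550_37 ++ (j9_550_38 ++ (j9_550_39 ++ (j9_550_40 ++ (j9_550_41 ++ (j9_550_42 ++ (j9_550_43 ++ (j9_550_44 ++ (j9_550_45 ++ (j9_550_46 ++ (j9_550_47 ++ (j9_550_48 ++ (j9_550_49 ++ (j9_550_50 ++ (j9_550_51 ++ (j9_550_52 ++ (j9_550_53 ++ (j9_550_54 ++ (j9_550_55 ++ (j9_550_56 ++ (j9_550_57 ++ []))))))))))))))))))))))))))))))))))))))))))))))))))))))))))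
  (jobs_append t9_550_0 <| jobs_append t9_550_1 <| jobs_append t9_550_2 <| jobs_append t9_550_3 <| jobs_append t9_550_4 <| jobs_append t9_550_5 <| jobs_append t9_550_6 <| jobs_append t9_550_7 <| jobs_append t9_550_8 <| jobs_append t9_550_9 <| jobs_append t9_550_10 <| jobs_append t9_550_11 <| jobs_append t9_550_12 <| jobs_append t9_550_13 <| jobs_append t9_550_14 <| jobs_append t9_550_15 <| jobs_append t9_550_16 <| jobs_append t9_550_17 <| jobs_append t9_550_18 <| jobs_append t9_550_19 <| jobs_append t9_550_20 <| jobs_append t9_550_21 <| jobs_append t9_550_22 <| jobs_append t9_550_23 <| jobs_append t9_550_24 <| jobs_append t9_550_25 <| jobs_append t9_550_26 <| jobs_append t9_550_27 <| jobs_append t9_550_28 <| jobs_append t9_550_29 <| jobs_append t9_550_30 <| jobs_append t9_550_31 <| jobs_append t9_550_32 <| jobs_append t9_550_33 <| jobs_append t9_550_34 <| jobs_append t9_550_35 <| jobs_append t9_550_36 <| jobs_append t9_550_37 <| jobs_append t9_550_38 <| jobs_append t9_550_39 <| jobs_append t9_550_40 <|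 jobs_append t9_550_41 <| jobs_append t9_550_42 <| jobs_append t9_550_43 <| jobs_append t9_550_44 <| jobs_append t9_550_45 <| jobs_append t9_550_46 <| jobs_append t9_550_47 <| jobs_append t9_550_48 <| jobs_append t9_550_49 <| jobs_append t9_550_50 <| jobs_append t9_550_51 <| jobs_append t9_550_52 <| jobs_append t9_550_53 <| jobs_append t9_550_54 <| jobs_append t9_550_55 <| jobs_append t9_550_56 <| jobs_append t9_550_57 <| List.forall_mem_nil _) (by decide +kernel)

noncomputable def j9_551_0 : List Job := [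
  ⟨30, 0x6e172ba5ded16ab65beb15aae57e8142a251e713a9e4fe512a964be21128a45e01028241de0f27a3ddd0ea763bdb0da6e37d80c26231d70ba5e2fd50aa562bd20924a25d00824221cf47f3c1f4e477381d4944f24134844720114341f0c074241708054140f040340e0501, 255, 144, 0x0, []⟩]

theorem t9_551_0 : jobs 8 S9 b8_551 j9_551_0 = true := by decide +kernel

noncomputable def j9_551_1 : List Job := [
  ⟨30, 0x6e172ba5ded16ab65beb15aae57e8142a251e713a9e4fe512a964be21128a45e01028241de0f27a3ddd0ea763bdb0da6e37d80c26231d70ba5e2fd50aa562bd20924a25d00824221cf47f3c1f4e477381d4944f24134844720114341f0c074241708054140f040340e0501, 125, 130, 0x0, []⟩]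

theorem t9_551_1 : jobs 8 S9 b8_551 j9_551_1 = true := by decide +kernel

noncomputable def j9_551_2 : List Job := [
  ⟨30, 0x6e172ba5ded16ab65beb15aae57e8142a251e713a9e4fe512a964be21128a45e01028241de0f27a3ddd0ea763bdb0da6e37d80c26231d70ba5e2fd50aa562bd20924a25d00824221cf47f3c1f4e477381d4944f24134844720114341f0c074241708054140f040340e0501, 0, 125, 0x0, []⟩]

theorem t9_551_2 : jobs 8 S9 b8_551 j9_551_2 = true := by decide +kernel

noncomputable def j9_551_3 : List Job := [
  ⟨29, 0x6e172ba5ded16ab65beb15aae57e8142a251e713a9e4fe512a964be21128a45e01028241df0fa7e3fde0f27a3ddb0da6e37da0d26a35cf47f3c1f4e477381d4944f24134844720114341f0c074241708054140f040340e0501, 292, 160, 0x0, []⟩]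

theorem t9_551_3 : jobs 8 S9 b8_551 j9_551_3 = true := by decide +kernel

noncomputable def j9_551_4 : List Job := [
  ⟨29, 0x6e172ba5ded16ab65beb15aae57e8142a251e713a9e4fe512a964be21128a45e01028241df0fa7e3fde0f27a3ddb0da6e37da0d26a35cf47f3c1f4e477381d4944f24134844720114341f0c074241708054140f040340e0501, 148, 144, 0x0, []⟩]

theorem t9_551_4 : jobs 8 S9 b8_551 j9_551_4 = true := by decide +kernel

noncomputable def j9_551_5 : List Job := [
  ⟨29, 0x6e172ba5ded16ab65beb15aae57e8142a251e713a9e4fe512a964be21128a45e01028241df0fa7e3fde0f27a3ddb0da6e37da0d26a35cf47f3c1f4e477381d4944f24134844720114341f0c074241708054140f040340e0501, 0, 148, 0x0, []⟩]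

theorem t9_551_5 : jobs 8 S9 b8_551 j9_551_5 = true := by decide +kernel

noncomputable def j9_551_6 : List Job := [
  ⟨28, 0x6e172ba5ded16ab65beb15aae57e8142a251e713a9e4fe512a964be21128a45e01028241dd0ea763bdc0e27239d90ca6633d80c26231d70ba5e2fd60b25a2dd50aa562bd40a25229d309a4e27d20924a25d108a4623d00824221cf47f3c1f4e477381d4944f24134844720114341f0c074241708054140f040340e0501, 304, 164, 0x0, []⟩]

theorem t9_551_6 : jobs 8 S9 b8_551 j9_551_6 = true := by decide +kernel

noncomputable def j9_551_7 : List Job := [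
  ⟨28, 0x6e172ba5ded16ab65beb15aae57e8142a251e713a9e4fe512a964be21128a45e01028241dd0ea763bdc0e27239d90ca6633d80c26231d70ba5e2fd60b25a2dd50aa562bd40a25229d309a4e27d20924a25d108a4623d00824221cf47f3c1f4e477381d4944f24134844720114341f0c074241708054140f040340e0501, 148, 156, 0x0, []⟩]

theorem t9_551_7 : jobs 8 S9 b8_551 j9_551_7 = true := by decide +kernel

noncomputable def j9_551_8 : List Job := [
  ⟨28, 0x6e172ba5ded16ab65beb15aae57e8142a251e713a9e4fe512a964be21128a45e01028241dd0ea763bdc0e27239d90ca6633d80c26231d70ba5e2fd60b25a2dd50aa562bd40a25229d309a4e27d20924a25d108a4623d00824221cf47f3c1f4e477381d4944f24134844720114341f0c074241708054140f040340e0501, 0, 148, 0x0, []⟩]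

theorem t9_551_8 : jobs 8 S9 b8_551 j9_551_8 = true := by decide +kernel

noncomputable def j9_551_9 : List Job := [
  ⟨27, 0x6e172ba5ded16ab65beb15aae57e8142a251e713a9e4fe512a964be21128a45e01028241df0fa7e3fde0f27a3dd90ca6633d80c26231d309a4e27d20924a25d148d4423d08874020cf47f3c1f4e477381d4944f24134844720114341f0c074241708054140f040340e0501, 496, 188, 0x53804, []⟩]

theorem t9_551_9 : jobs 8 S9 b8_551 j9_551_9 = true := by decide +kernel

noncomputable def j9_551_10 : List Job := [
  ⟨27, 0x6e172ba5ded16ab65beb15aae57e8142a251e713a9e4fe512a964be21128a45e01028241df0fa7e3fde0f27a3dd90ca6633d80c26231d309a4e27d20924a25d148d4423d08874020cf47f3c1f4e477381d4944f24134844720114341f0c074241708054140f040340e0501, 315, 181, 0x3a20403aa0503b005, []⟩]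

theorem t9_551_10 : jobs 8 S9 b8_551 j9_551_10 = true := by decide +kernel

noncomputable def j9_551_11 : List Job := [
  ⟨27, 0x6e172ba5ded16ab65beb15aae57e8142a251e713a9e4fe512a964be21128a45e01028241df0fa7e3fde0f27a3dd90ca6633d80c26231d309a4e27d20924a25d148d4423d08874020cf47f3c1f4e477381d4944f24134844720114341f0c074241708054140f040340e0501, 156, 159, 0x1e80501fc04025805025e05, []⟩]

theorem t9_551_11 : jobs 8 S9 b8_551 j9_551_11 = true := by decide +kernel

noncomputable def j9_551_12 : List Job := [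
  ⟨27, 0x6e172ba5ded16ab65beb15aae57e8142a251e713a9e4fe512a964be21128a45e01028241df0fa7e3fde0f27a3dd90ca6633d80c26231d309a4e27d20924a25d148d4423d08874020cf47f3c1f4e477381d4944f24134844720114341f0c074241708054140f040340e0501, 0, 156, 0x20400140400a00500ae0400f204012604, []⟩]

theorem t9_551_12 : jobs 8 S9 b8_551 j9_551_12 = true := by decide +kernel

noncomputable def j9_551_13 : List Job := [
  ⟨26, 0x6f17abe5fed16ab65beb15aae57e914aa653e713a9e4fe512a964be21128a45e01028241df0fa7e3fde0f27a3ddb0da6e37da0d26a35d70ba5e2fd60b25a2dd108a4623d00824221c341f0c074241708054140f040340e0501, 0, 150, 0x0, []⟩]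

theorem t9_551_13 : jobs 8 S9 b8_551 j9_551_13 = true := by decide +kernel

noncomputable def j9_551_14 : List Job := [
  ⟨25, 0x6f17abe5fed16ab65bea152aa55e8142a251e61329a4de41229249e21128a45e01028241df0fa7e3fde0f27a3dd90ca6633d80c26231d50aa562bd40a25229d108a4623d00824221cb85f2c16ca8572814c984f2412c88472010c783f1c0ec6837180cc582f140ac48271008c381f0c06c28170804c180f0402c0e0501, 135, 150, 0x0, []⟩]

theorem t9_551_14 : jobs 8 S9 b8_551 j9_551_14 = true := by decide +kernel

noncomputable def j9_551_15 : List Job := [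
  ⟨25, 0x6f17abe5fed16ab65bea152aa55e8142a251e61329a4de41229249e21128a45e01028241df0fa7e3fde0f27a3dd90ca6633d80c26231d50aa562bd40a25229d108a4623d00824221cb85f2c16ca8572814c984f2412c88472010c783f1c0ec6837180cc582f140ac48271008c381f0c06c28170804c180f0402c0e0501, 0, 135, 0x0, []⟩]

theorem t9_551_15 : jobs 8 S9 b8_551 j9_551_15 = true := by decide +kernel

noncomputable def j9_551_16 : List Job := [
  ⟨24, 0x6f17abe5fee172ba5deb15aae57ea152aa55df0fa7e3fde0f27a3ddb0da6e37da0d26a35cf47f3c1f4e477381d4944f24134844720114341f0c0742417080541e0d058240e0501, 0, 168, 0x0, []⟩]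

theorem t9_551_16 : jobs 8 S9 b8_551 j9_551_16 = true := by decide +kernel

noncomputable def j9_551_17 : List Job := [
  ⟨23, 0x6f17abe5fee172ba5deb15aae57ea152aa55dd0ea763bdc0e27239d90ca6633d80c26231d70ba5e2fd60b25a2dd50aa562bd40a25229d309a4e27d20924a25d108a4623d00824221cf47f3c1f4e477381d4944f24134844720114341f0c0742417080541e0d058240e0501, 132, 149, 0x0, []⟩]

theorem t9_551_17 : jobs 8 S9 b8_551 j9_551_17 = true := by decide +kernel

noncomputable def j9_551_18 : List Job := [
  ⟨23, 0x6f17abe5fee172ba5deb15aae57ea152aa55dd0ea763bdc0e27239d90ca6633d80c26231d70ba5e2fd60b25a2dd50aa562bd40a25229d309a4e27d20924a25d108a4623d00824221cf47f3c1f4e477381d4944f24134844720114341f0c0742417080541e0d058240e0501, 0, 132, 0x0, []⟩]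

theorem t9_551_18 : jobs 8 S9 b8_551 j9_551_18 = true := by decide +kernel

noncomputable def j9_551_19 : List Job := [
  ⟨22, 0x6d16ab65bec162b259e914aa653e8142a251e713a9e4fe61329a4de512a964be41229249e311a8e47e21128a45e110a8643e01028241dd0ea763bdc0e27239d90ca6633d80c26231d70ba5e2fd60b25a2dd50aa562bd40a25229d309a4e27d20924a25d108a4623d00824221cf47f3c1f4e477381d4944f24134844720114341f0c0742417080541e0d058240e0501, 83, 93, 0x0, []⟩]

theorem t9_551_19 : jobs 8 S9 b8_551 j9_551_19 = true := by decide +kernel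

noncomputable def j9_551_20 : List Job := [
  ⟨22, 0x6d16ab65bec162b259e914aa653e8142a251e713a9e4fe61329a4de512a964be41229249e311a8e47e21128a45e110a8643e01028241dd0ea763bdc0e27239d90ca6633d80c26231d70ba5e2fd60b25a2dd50aa562bd40a25229d309a4e27d20924a25d108a4623d00824221cf47f3c1f4e477381d4944f24134844720114341f0c0742417080541e0d058240e0501, 0, 83, 0x0, []⟩]

theorem t9_551_20 : jobs 8 S9 b8_551 j9_551_20 = true := by decide +kernel

noncomputable def j9_551_21 : List Job := [
  ⟨21, 0x6f17abe5fee172ba5deb15aae57ea152aa55e713a9e4fe61329a4de110a8643e01028241df0fa7e3fde0f27a3ddd0ea763bdc0e27239db0da6e37da0d26a35d90ca6633d80c26231d70ba5e2fd60b25a2dd50aa562bd40a25229c341f0c0742417080541e0d058240e0501, 0, 183, 0x0, []⟩]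

theorem t9_551_21 : jobs 8 S9 b8_551 j9_551_21 = true := by decide +kernel

noncomputable def j9_551_22 : List Job := [
  ⟨20, 0x6f17abe5fee172ba5deb15aae57ea152aa55e713a9e4fe61329a4de110a8643e01028241d349d4c27d24954825d188f4422d08874020c341f0c0742417080541e0d058240e0501, 0, 176, 0x204000a05001004002e05003205003c05004405007204007405008005008204008604008c04009005009a0500a00500b60400c20400c40400d60400da0500de0500ec0500ee0400fc0400fe04010404010a05010e05014c04015205015805, []⟩]

theorem t9_551_22 : jobs 8 S9 b8_551 j9_551_22 = true := by decide +kernel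

noncomputable def j9_551_23 : List Job := [
  ⟨19, 0x6f17abe5fee172ba5de914aa653e8142a251e512a964be41229249e110a8643e01028241df0fa7e3fde0f27a3ddd0ea763bdc0e27239cb45f2c174a45728154944f24134844720114743f1c0f46437180d4542f140b4442710094341f0c0742417080541e0d058240e0501, 223, 125, 0x0, []⟩]

theorem t9_551_23 : jobs 8 S9 b8_551 j9_551_23 = true := by decide +kernel

noncomputable def j9_551_24 : List Job := [
  ⟨19, 0x6f17abe5fee172ba5de914aa653e8142a251e512a964be41229249e110a8643e01028241df0fa7e3fde0f27a3ddd0ea763bdc0e27239cb45f2c174a45728154944f24134844720114743f1c0f46437180d4542f140b4442710094341f0c0742417080541e0d058240e0501, 108, 115, 0x0, []⟩]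

theorem t9_551_24 : jobs 8 S9 b8_551 j9_551_24 = true := by decide +kernel

noncomputable def j9_551_25 : List Job := [
  ⟨19, 0x6f17abe5fee172ba5de914aa653e8142a251e512a964be41229249e110a8643e01028241df0fa7e3fde0f27a3ddd0ea763bdc0e27239cb45f2c174a45728154944f24134844720114743f1c0f46437180d4542f140b4442710094341f0c0742417080541e0d058240e0501, 0, 108, 0x0, []⟩]

theorem t9_551_25 : jobs 8 S9 b8_551 j9_551_25 = true := by decide +kernel

noncomputable def j9_551_26 : List Job := [
  ⟨18, 0x6f17abe5fee172ba5de914aa653e8142a251e512a964be41229249e110a8643e01028241db0da6e37da0d26a35d90ca6633d80c26231d70ba5e2fd60b25a2dd50aa562bd40a25229d349d4c27d24954825d148f44235048740214b85f2c16ca8572814c984f2412c88472010c783f1c0ec6837180cc582f140ac48271008c381f0c06c28170804c1e0d058240e0501, 269, 100, 0x23202023c0202ba00, [(348, ⟨19, 0x1260000144000000a000000b000000180000004000008100000404000000000001, 0x1a722060480c0200802⟩)]⟩]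

theorem t9_551_26 : jobs 8 S9 b8_551 j9_551_26 = true := by decide +kernel

noncomputable def j9_551_27 : List Job := [
  ⟨18, 0x6f17abe5fee172ba5de914aa653e8142a251e512a964be41229249e110a8643e01028241db0da6e37da0d26a35d90ca6633d80c26231d70ba5e2fd60b25a2dd50aa562bd40a25229d349d4c27d24954825d148f44235048740214b85f2c16ca8572814c984f2412c88472010c783f1c0ec6837180cc582f140ac48271008c381f0c06c28170804c1e0d058240e0501, 174, 95, 0x17400, [(185, ⟨20, 0x1000000142000008b8000008400002100000105000008100000404000000000001, 0x180210444c080280802⟩)]⟩]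

theorem t9_551_27 : jobs 8 S9 b8_551 j9_551_27 = true := by decide +kernel

noncomputable def j9_551_28 : List Job := [
  ⟨18, 0x6f17abe5fee172ba5de914aa653e8142a251e512a964be41229249e110a8643e01028241db0da6e37da0d26a35d90ca6633d80c26231d70ba5e2fd60b25a2dd50aa562bd40a25229d349d4c27d24954825d148f44235048740214b85f2c16ca8572814c984f2412c88472010c783f1c0ec6837180cc582f140ac48271008c381f0c06c28170804c1e0d058240e0501, 83, 91, 0xb800, [(91, ⟨21, 0x10c000014b000001000000054000021e0000104000008180000004000020000001, 0x187260802a0e0200c02⟩)]⟩]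

theorem t9_551_28 : jobs 8 S9 b8_551 j9_551_28 = true := by decide +kernel

noncomputable def j9_551_29 : List Job := [
  ⟨18, 0x6f17abe5fee172ba5de914aa653e8142a251e512a964be41229249e110a8643e01028241db0da6e37da0d26a35d90ca6633d80c26231d70ba5e2fd60b25a2dd50aa562bd40a25229d349d4c27d24954825d148f44235048740214b85f2c16ca8572814c984f2412c88472010c783f1c0ec6837180cc582f140ac48271008c381f0c06c28170804c1e0d058240e0501, 0, 83, 0x202001402, []⟩]

theorem t9_551_29 : jobs 8 S9 b8_551 j9_551_29 = true := by decide +kernel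

noncomputable def j9_551_30 : List Job := [
  ⟨17, 0x6f17abe5fee172ba5deb15aae57ea152aa55e512a964be41229249e110a8643e01028241df0fa7e3fde0f27a3ddd0ea763bdc0e27239d309a4e27d20924a25d108a4623d00824221c743f1c0f46437180d4542f140b4442710094341f0c0742417080541e0d058240e0501, 119, 128, 0x0, []⟩]

theorem t9_551_30 : jobs 8 S9 b8_551 j9_551_30 = true := by decide +kernel

noncomputable def j9_551_31 : List Job := [
  ⟨17, 0x6f17abe5fee172ba5deb15aae57ea152aa55e512a964be41229249e110a8643e01028241df0fa7e3fde0f27a3ddd0ea763bdc0e27239d309a4e27d20924a25d108a4623d00824221c743f1c0f46437180d4542f140b4442710094341f0c0742417080541e0d058240e0501, 0, 119, 0x0, []⟩]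

theorem t9_551_31 : jobs 8 S9 b8_551 j9_551_31 = true := by decide +kernel

noncomputable def j9_551_32 : List Job := [
  ⟨16, 0x6b15aae57ea152aa55e914aa653e8142a251e713a9e4fe61329a4de512a964be41229249e351f8c476251788456150f84436050780415b0da6e37da0d26a35d90ca6633d80c26231d70ba5e2fd60b25a2dd50aa562bd40a25229d349f4c275249748255148f44235048740214b85f2c16ca8572814c984f2412c88472010c783f1c0ec6837180cc582f140ac48271008c3e1d0d8642e15098441e0d058240e0501, 77, 84, 0xa80200b80000de0000f402011401, [(110, ⟨15, 0x110000018600000074000012800000020000010c0000040800000010000000000001, 0x14e460604a080600802⟩), (91, ⟨13, 0x1000000184000004b4000011c00000020000010c0000040800001010000000000001, 0x14c4009428080600802⟩)]⟩]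

theorem t9_551_32 : jobs 8 S9 b8_551 j9_551_32 = true := by decide +kernel

noncomputable def j9_551_33 : List Job := [
  ⟨16, 0x6b15aae57ea152aa55e914aa653e8142a251e713a9e4fe61329a4de512a964be41229249e351f8c476251788456150f84436050780415b0da6e37da0d26a35d90ca6633d80c26231d70ba5e2fd60b25a2dd50aa562bd40a25229d349f4c275249748255148f44235048740214b85f2c16ca8572814c984f2412c88472010c783f1c0ec6837180cc582f140ac48271008c3e1d0d8642e15098441e0d058240e0501, 0, 77, 0x200001000007800, [(59, ⟨14, 0x110000018600000074000012800000020000010c0000040800000010000000000001, 0x14e460604a080600802⟩), (7, ⟨16, 0x1000000185000004a000001180000003400001080000040800000010000000000001, 0x14c4009028040680802⟩), (0, ⟨12, 0x23800001480000046400001280000043000001040000040800001010000000000001, 0x18a260705a0c0200802⟩)]⟩]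

theorem t9_551_33 : jobs 8 S9 b8_551 j9_551_33 = true := by decide +kernel

noncomputable def j9_551_34 : List Job := [
  ⟨15, 0x6f17abe5fee172ba5ded16ab65bec162b259e311a8e47e21128a45e110a8643e01028241df0fa7e3fde0f27a3ddd0ea763bdc0e27239d309a4e27d20924a25d108a4623d00824221c743f1c0f46437180d4542f140b44427100943e1d0d8642e15098441e0d058240e0501, 0, 104, 0x0, []⟩]

theorem t9_551_34 : jobs 8 S9 b8_551 j9_551_34 = true := by decide +kernel

noncomputable def j9_551_35 : List Job := [
  ⟨14, 0x6f17abe5fee172ba5ded16ab65bec162b259e311a8e47e21128a45e110a8643e01028241c743f1c0f46437180d4542f140b44427100943e1d0d8642e15098441e0d058240e0501, 0, 100, 0x0, []⟩]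

theorem t9_551_35 : jobs 8 S9 b8_551 j9_551_35 = true := by decide +kernel

noncomputable def j9_551_36 : List Job := [
  ⟨13, 0x6f17abe5fee172ba5ded16ab65bec162b259e311a8e47e21128a45e110a8643e01028241df0fa7e3fde0f27a3ddd0ea763bdc0e27239db0da6e37da0d26a35d90ca6633d80c26231d70ba5e2fd60b25a2dd50aa562bd40a25229d309a4e27d20924a25d108a4623d00824221c743f1c0f46437180d4542f140b44427100943e1d0d8642e15098441e0d058240e0501, 0, 115, 0x0, []⟩]

theorem t9_551_36 : jobs 8 S9 b8_551 j9_551_36 = true := by decide +kernel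

noncomputable def j9_551_37 : List Job := [
  ⟨12, 0x6f17abe5fee172ba5ded16ab65bec162b259e311a8e47e21128a45e110a8643e01028241d74bd5c2fd64b5582dd54ad542bd44a55029d389f4c26d28974824d188f4422d08874020c743f1c0f46437180d4542f140b44427100943e1d0d8642e15098441e0d058240e0501, 65, 72, 0xa20400a80400ae0400c60400cc0400ce0500dc0500f804010804010a05, []⟩]

theorem t9_551_37 : jobs 8 S9 b8_551 j9_551_37 = true := by decide +kernel

noncomputable def j9_551_38 : List Job := [
  ⟨12, 0x6f17abe5fee172ba5ded16ab65bec162b259e311a8e47e21128a45e110a8643e01028241d74bd5c2fd64b5582dd54ad542bd44a55029d389f4c26d28974824d188f4422d08874020c743f1c0f46437180d4542f140b44427100943e1d0d8642e15098441e0d058240e0501, 0, 65, 0x204000a04001404004404, []⟩]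

theorem t9_551_38 : jobs 8 S9 b8_551 j9_551_38 = true := by decide +kernel

noncomputable def j9_551_39 : List Job := [
  ⟨11, 0x6b15aae57ea152aa55e914aa653e8142a251e311a8e47e21128a45e110a8643e01028241d70ba5e2fd60b25a2dd50aa562bd40a25229d309a4e27d20924a25d108a4623d00824221cf87f3c1ece877381ccd86f341acc8673018cb85f2c16ca8572814c984f2412c88472010c783f1c0ec6837180cc582f140ac48271008c3e1d0d8642e15098441e0d058240e0501, 0, 86, 0x0, []⟩]

theorem t9_551_39 : jobs 8 S9 b8_551 j9_551_39 = true := by decide +kernel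

noncomputable def j9_551_40 : List Job := [
  ⟨10, 0x47e3d1d8e46e35198c45e2d158a44e25118843e1d0d8642e15098441e0d058240e0501, 0, 24, 0x0, []⟩]

theorem t9_551_40 : jobs 8 S9 b8_551 j9_551_40 = true := by decide +kernel

noncomputable def j9_551_41 : List Job := [
  ⟨9, 0x5f0fa7e3fde0f27a3ddd0ea763bdc0e27239db0da6e37da0d26a35d90ca6633d80c26231d70ba5e2fd60b25a2dd50aa562bd40a25229d309a4e27d20924a25d108a4623d00824221c7e3d1d8e46e35198c45e2d158a44e25118843e1d0d8642e15098441e0d058240e0501, 0, 36, 0x0, []⟩]

theorem t9_551_41 : jobs 8 S9 b8_551 j9_551_41 = true := by decide +kernel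

noncomputable def j9_551_42 : List Job := [
  ⟨8, 0x6713a9e4fe61329a4de512a964be41229249e311a8e47e21128a45e110a8643e01028241cf47f3c1f4e477381d4d46f341b4c46730194b45f2c174a45728154944f241348447201147e3d1d8e46e35198c45e2d158a44e25118843e1d0d8642e15098441e0d058240e0501, 0, 37, 0x0, []⟩]

theorem t9_551_42 : jobs 8 S9 b8_551 j9_551_42 = true := by decide +kernel

noncomputable def j9_551_43 : List Job := [
  ⟨6, 0x5008242219108a4623920924a259309a4e27940a25229950aa562b960b25a2d970ba5e2fc0e0501, 0, 4, 0x0, []⟩]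

theorem t9_551_43 : jobs 8 S9 b8_551 j9_551_43 = true := by decide +kernel

noncomputable def j9_551_44 : List Job := [
  ⟨5, 0x40e0501, 0, 3, 0x0, []⟩]

theorem t9_551_44 : jobs 8 S9 b8_551 j9_551_44 = true := by decide +kernel

noncomputable def j9_551_45 : List Job := [
  ⟨4, 0x4140d0403c0e0501, 0, 2, 0x205000405, []⟩]

theorem t9_551_45 : jobs 8 S9 b8_551 j9_551_45 = true := by decide +kernel

noncomputable def j9_551_46 : List Job := [
  ⟨3, 0x4140d0403c0e0501, 0, 2, 0x201000401, []⟩]

theorem t9_551_46 : jobs 8 S9 b8_551 j9_551_46 = true := by decide +kernel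

noncomputable def j9_551_47 : List Job := [
  ⟨2, 0x4a0522a158b05a2e17c140d0403c0e0501, 0, 2, 0x0, []⟩]

theorem t9_551_47 : jobs 8 S9 b8_551 j9_551_47 = true := by decide +kernel

noncomputable def j9_551_48 : List Job := [
  ⟨1, 0x4a0522a158b05a2e17c180f0402c0e0501, 0, 8, 0xe01001005, []⟩]

theorem t9_551_48 : jobs 8 S9 b8_551 j9_551_48 = true := by decide +kernel

noncomputable def j9_551_49 : List Job := [
  ⟨0, 0x4140f040340e0501, 0, 2, 0x0, []⟩]

theorem t9_551_49 : jobs 8 S9 b8_551 j9_551_49 = true := by decide +kernel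

theorem d9_551 : Dn 8 S9 b8_551 := dn_of (Js := j9_551_0 ++ (j9_551_1 ++ (j9_551_2 ++ (j9_551_3 ++ (j9_551_4 ++ (j9_551_5 ++ (j9_551_6 ++ (j9_551_7 ++ (j9_551_8 ++ (j9_551_9 ++ (j9_551_10 ++ (j9_551_11 ++ (j9_551_12 ++ (j9_551_13 ++ (j9_551_14 ++ (j9_551_15 ++ (j9_551_16 ++ (j9_551_17 ++ (j9_551_18 ++ (j9_551_19 ++ (j9_551_20 ++ (j9_551_21 ++ (j9_551_22 ++ (j9_551_23 ++ (j9_551_24 ++ (j9_551_25 ++ (j9_551_26 ++ (j9_551_27 ++ (j9_551_28 ++ (j9_551_29 ++ (j9_551_30 ++ (j9_551_31 ++ (j9_551_32 ++ (j9_551_33 ++ (j9_551_34 ++ (j9_551_35 ++ (j9_551_36 ++ (j9_551_37 ++ (j9_551_38 ++ (j9_551_39 ++ (j9_551_40 ++ (j9_551_41 ++ (j9_551_42 ++ (j9_551_43 ++ (j9_551_44 ++ (j9_551_45 ++ (j9_551_46 ++ (j9_551_47 ++ (j9_551_48 ++ (j9_551_49 ++ []))))))))))))))))))))))))))))))))))))))))))))))))))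
  (jobs_append t9_551_0 <| jobs_append t9_551_1 <| jobs_append t9_551_2 <| jobs_append t9_551_3 <| jobs_append t9_551_4 <| jobs_append t9_551_5 <| jobs_append t9_551_6 <| jobs_append t9_551_7 <| jobs_append t9_551_8 <| jobs_append t9_551_9 <| jobs_append t9_551_10 <| jobs_append t9_551_11 <| jobs_append t9_551_12 <| jobs_append t9_551_13 <| jobs_append t9_551_14 <| jobs_append t9_551_15 <| jobs_append t9_551_16 <| jobs_append t9_551_17 <| jobs_append t9_551_18 <| jobs_append t9_551_19 <| jobs_append t9_551_20 <| jobs_append t9_551_21 <| jobs_append t9_551_22 <| jobs_append t9_551_23 <| jobs_append t9_551_24 <| jobs_append t9_551_25 <| jobs_append t9_551_26 <| jobs_append t9_551_27 <| jobs_append t9_551_28 <| jobs_append t9_551_29 <| jobs_append t9_551_30 <| jobs_append t9_551_31 <| jobs_append t9_551_32 <| jobs_append t9_551_33 <| jobs_append t9_551_34 <| jobs_append t9_551_35 <| jobs_append t9_551_36 <| jobs_append t9_551_37 <| jobs_append t9_551_38 <| jobs_append t9_551_39 <| jobs_append t9_551_40 <|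 jobs_append t9_551_41 <| jobs_append t9_551_42 <| jobs_append t9_551_43 <| jobs_append t9_551_44 <| jobs_append t9_551_45 <| jobs_append t9_551_46 <| jobs_append t9_551_47 <| jobs_append t9_551_48 <| jobs_append t9_551_49 <| List.forall_mem_nil _) (by decide +kernel)

end Cfsg.Agent.FS.N.Sw
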