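import Cfsg.Agent.FS.N.Sw.Seg
import Cfsg.Agent.FS.N.G.S9
import Cfsg.Agent.FS.N.G.L.L22

/-! The filter on the pairs for the order 512, part 53 (generated; helper52, project FS) -/

set_option autoImplicit false
set_option maxRecDepth 100000
set_option Elab.async false

namespace Cfsg.Agent.FS.N.Sw

open G

noncomputable def j9_559_0 : List Job := [
  ⟨61, 0x4582f140ac48271008c1e0d058240e0501, 0, 4, 0x201000401000601000801, []⟩]

theorem t9_559_0 : jobs 8 S9 b8_559 j9_559_0 = true := by decide +kernel

noncomputable def j9_559_1 : List Job := [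
  ⟨60, 0x4582f140ac48271008c1e0d058240e0501, 0, 5, 0x201000401000601000801000a01, []⟩]

theorem t9_559_1 : jobs 8 S9 b8_559 j9_559_1 = true := by decide +kernel

noncomputable def j9_559_2 : List Job := [
  ⟨59, 0x45e2d158a44e25118841e0d058240e0501, 0, 4, 0x201000401000601000801, []⟩]

theorem t9_559_2 : jobs 8 S9 b8_559 j9_559_2 = true := by decide +kernel

noncomputable def j9_559_3 : List Job := [
  ⟨58, 0x43e1d0d8642e15098441e0d058240e0501, 0, 5, 0x201000401000601000801000a01, []⟩]

theorem t9_559_3 : jobs 8 S9 b8_559 j9_559_3 = true := by decide +kernel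

noncomputable def j9_559_4 : List Job := [
  ⟨57, 0x43e1d0d8642e15098441e0d058240e0501, 0, 2, 0x201000401, []⟩]

theorem t9_559_4 : jobs 8 S9 b8_559 j9_559_4 = true := by decide +kernel

noncomputable def j9_559_5 : List Job := [
  ⟨56, 0x4c8673018c88472010c48271008c0e0501, 0, 13, 0x0, []⟩]

theorem t9_559_5 : jobs 8 S9 b8_559 j9_559_5 = true := by decide +kernel

noncomputable def j9_559_6 : List Job := [
  ⟨55, 0x4c8673018c88472010c4e25118840e0501, 0, 13, 0x0, []⟩]

theorem t9_559_6 : jobs 8 S9 b8_559 j9_559_6 = true := by decide +kernel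

noncomputable def j9_559_7 : List Job := [
  ⟨54, 0x4c8673018c88472010c4e25118840e0501, 0, 10, 0x0, []⟩]

theorem t9_559_7 : jobs 8 S9 b8_559 j9_559_7 = true := by decide +kernel

noncomputable def j9_559_8 : List Job := [
  ⟨53, 0x4582f140ac48271008c1e0d058240e0501, 0, 15, 0x401000a01001401, []⟩]

theorem t9_559_8 : jobs 8 S9 b8_559 j9_559_8 = true := by decide +kernel

noncomputable def j9_559_9 : List Job := [
  ⟨52, 0x4582f140ac48271008c1e0d058240e0501, 0, 15, 0x401000a01001401, []⟩]

theorem t9_559_9 : jobs 8 S9 b8_559 j9_559_9 = true := by decide +kernel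

noncomputable def j9_559_10 : List Job := [
  ⟨51, 0x4582f140ac48271008c1e0d058240e0501, 0, 16, 0x401000a01000e01001201001601001a01, []⟩]

theorem t9_559_10 : jobs 8 S9 b8_559 j9_559_10 = true := by decide +kernel

noncomputable def j9_559_11 : List Job := [
  ⟨50, 0x4d86f341acc8673018c984f2412c88472010c582f140ac48271008c1e0d058240e0501, 0, 13, 0x0, []⟩]

theorem t9_559_11 : jobs 8 S9 b8_559 j9_559_11 = true := by decide +kernel

noncomputable def j9_559_12 : List Job := [
  ⟨49, 0x45e2d158a44e25118841e0d058240e0501, 0, 22, 0x401000a01000e01001601001a01001c01001e01002001002201002401002601002801002a01002c01, []⟩]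

theorem t9_559_12 : jobs 8 S9 b8_559 j9_559_12 = true := by decide +kernel

noncomputable def j9_559_13 : List Job := [
  ⟨48, 0x4d86f341acc8673018c984f2412c88472010c5e2d158a44e25118841e0d058240e0501, 0, 53, 0x1c08001e01002401002608002808002a01003001003208003e08004208004401004608004808004a01004c08004e08005008005201005408005608005801005a08005c08005e01006401006608, []⟩]

theorem t9_559_13 : jobs 8 S9 b8_559 j9_559_13 = true := by decide +kernel

noncomputable def j9_559_14 : List Job := [
  ⟨47, 0x43e1d0d8642e15098441e0d058240e0501, 0, 7, 0x0, []⟩]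

theorem t9_559_14 : jobs 8 S9 b8_559 j9_559_14 = true := by decide +kernel

noncomputable def j9_559_15 : List Job := [
  ⟨46, 0x43e1d0d8642e15098441e0d058240e0501, 0, 8, 0x0, []⟩]

theorem t9_559_15 : jobs 8 S9 b8_559 j9_559_15 = true := by decide +kernel

noncomputable def j9_559_16 : List Job := [
  ⟨45, 0x4f07a3e1fce0723a1dcd06a361bcc0623219cb05a2e17ca0522a15c904a2613c80422211c703a1e0fc60321a0dc502a160bc40221209c3e1d0d8642e15098441e0d058240e0501, 0, 15, 0x1601001801, []⟩]

theorem t9_559_16 : jobs 8 S9 b8_559 j9_559_16 = true := by decide +kernel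

noncomputable def j9_559_17 : List Job := [
  ⟨44, 0x4582f140ac48271008c1e0d058240e0501, 0, 10, 0x0, []⟩]

theorem t9_559_17 : jobs 8 S9 b8_559 j9_559_17 = true := by decide +kernel

noncomputable def j9_559_18 : List Job := [
  ⟨43, 0x4582f140ac48271008c1e0d058240e0501, 0, 10, 0x0, []⟩]

theorem t9_559_18 : jobs 8 S9 b8_559 j9_559_18 = true := by decide +kernel

noncomputable def j9_559_19 : List Job := [
  ⟨42, 0x45e2d158a44e25118841e0d058240e0501, 0, 12, 0x1601001801, []⟩]

theorem t9_559_19 : jobs 8 S9 b8_559 j9_559_19 = true := by decide +kernel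

noncomputable def j9_559_20 : List Job := [
  ⟨41, 0x43e1d0d8642e15098441e0d058240e0501, 0, 13, 0x0, []⟩]

theorem t9_559_20 : jobs 8 S9 b8_559 j9_559_20 = true := by decide +kernel

noncomputable def j9_559_21 : List Job := [
  ⟨40, 0x43e1d0d8642e15098441e0d058240e0501, 0, 15, 0x1c01001e01, []⟩]

theorem t9_559_21 : jobs 8 S9 b8_559 j9_559_21 = true := by decide +kernel

noncomputable def j9_559_22 : List Job := [
  ⟨39, 0x4f47d3c1fce475381dcd46d341bcc4653019cb45f2c174a45728154944f24134844720114783f1c0ec6837180cc582f140ac48271008c3e1d0d8642e15098441e0d058240e0501, 0, 46, 0x1010001411001c10002211002e11003a10004010004a10005011005801, []⟩]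

theorem t9_559_22 : jobs 8 S9 b8_559 j9_559_22 = true := by decide +kernel

noncomputable def j9_559_23 : List Job := [
  ⟨20, 0x4703a1e0fc60321a0dc502a160bc40221209c3e1d0d8642e15098441e0d058240e0501, 0, 36, 0x201000401000801001001001201001601001e01002001002401002c01002e01003201003a01003c01003e09004201004401004609, []⟩]

theorem t9_559_23 : jobs 8 S9 b8_559 j9_559_23 = true := by decide +kernel

noncomputable def j9_559_24 : List Job := [
  ⟨6, 0x4b05a2e17ca0522a15c904a2613c80422211c703a1e0fc60321a0dc502a160bc40221209c3e1d0d8642e15098441e0d058240e0501, 0, 10, 0x200000401000601000800000a01000e01001000001201, [(7, ⟨1204, 0x2e800ab00038000b400020010800006000080080001, 0x1595187c58040400406⟩), (3, ⟨1203, 0x210008000020004bc00020010800002004080080001, 0x1404087c40040400404⟩), (0, ⟨1202, 0x528015d002480046000840010400002000080000001, 0x1a22b09030080200404⟩)]⟩]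

theorem t9_559_24 : jobs 8 S9 b8_559 j9_559_24 = true := by decide +kernel

noncomputable def j9_559_25 : List Job := [
  ⟨5, 0x4b05a2e17ca0522a15c904a2613c80422211c703a1e0fc60321a0dc502a160bc40221209c3e1d0d8642e15098441e0d058240e0501, 0, 27, 0x401000601000801000e01001001001c01001e01002400002601002801002a00002c00002e01003001003200, [(24, ⟨1200, 0x2c001a200034000ac008200108000020000c0000001, 0x156518544e040400c04⟩), (21, ⟨1198, 0x2c000a200034000ac008200008000020000c0000001, 0x156518544e040400c04⟩), (20, ⟨1201, 0x22800820023000094008200108002040040c0080001, 0x1424586c48040400806⟩), (17, ⟨1199, 0x46000400005600470000400004000020000c0000001, 0x18c200a438080200c04⟩)]⟩]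

theorem t9_559_25 : jobs 8 S9 b8_559 j9_559_25 = true := by decide +kernel

noncomputable def j9_559_26 : List Job := [
  ⟨2, 0x46837180cc48271008c2e15098440e0501, 0, 22, 0x0, []⟩]

theorem t9_559_26 : jobs 8 S9 b8_559 j9_559_26 = true := by decide +kernel

noncomputable def j9_559_27 : List Job := [
  ⟨1, 0x46837180cc48271008c2e15098440e0501, 0, 22, 0x0, []⟩]

theorem t9_559_27 : jobs 8 S9 b8_559 j9_559_27 = true := by decide +kernel

noncomputable def j9_559_28 : List Job := [
  ⟨0, 0x46837180cc48271008c2e15098440e0501, 0, 18, 0x0, []⟩]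

theorem t9_559_28 : jobs 8 S9 b8_559 j9_559_28 = true := by decide +kernel

theorem d9_559 : Dn 8 S9 b8_559 := dn_of (Js := j9_559_0 ++ (j9_559_1 ++ (j9_559_2 ++ (j9_559_3 ++ (j9_559_4 ++ (j9_559_5 ++ (j9_559_6 ++ (j9_559_7 ++ (j9_559_8 ++ (j9_559_9 ++ (j9_559_10 ++ (j9_559_11 ++ (j9_559_12 ++ (j9_559_13 ++ (j9_559_14 ++ (j9_559_15 ++ (j9_559_16 ++ (j9_559_17 ++ (j9_559_18 ++ (j9_559_19 ++ (j9_559_20 ++ (j9_559_21 ++ (j9_559_22 ++ (j9_559_23 ++ (j9_559_24 ++ (j9_559_25 ++ (j9_559_26 ++ (j9_559_27 ++ (j9_559_28 ++ [])))))))))))))))))))))))))))))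
  (jobs_append t9_559_0 <| jobs_append t9_559_1 <| jobs_append t9_559_2 <| jobs_append t9_559_3 <| jobs_append t9_559_4 <| jobs_append t9_559_5 <| jobs_append t9_559_6 <| jobs_append t9_559_7 <| jobs_append t9_559_8 <| jobs_append t9_559_9 <| jobs_append t9_559_10 <| jobs_append t9_559_11 <| jobs_append t9_559_12 <| jobs_append t9_559_13 <| jobs_append t9_559_14 <| jobs_append t9_559_15 <| jobs_append t9_559_16 <| jobs_append t9_559_17 <| jobs_append t9_559_18 <| jobs_append t9_559_19 <| jobs_append t9_559_20 <| jobs_append t9_559_21 <| jobs_append t9_559_22 <| jobs_append t9_559_23 <| jobs_append t9_559_24 <| jobs_append t9_559_25 <| jobs_append t9_559_26 <| jobs_append t9_559_27 <| jobs_append t9_559_28 <| List.forall_mem_nil _) (by decide +kernel)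

noncomputable def j9_560_0 : List Job := [
  ⟨63, 0x590ca66339a0d26a35d80c262319b0da6e37d108a46239309a4e27cc06232198d06a361bc40221209c0e0501, 0, 72, 0x0, []⟩]

theorem t9_560_0 : jobs 8 S9 b8_560 j9_560_0 = true := by decide +kernel

noncomputable def j9_560_1 : List Job := [
  ⟨62, 0x601028241a110a8643a21128a45a311a8e47d90ca66339a0d26a35d80c262319b0da6e37d108a46239309a4e27cc06232198d06a361bc40221209c0e0501, 0, 80, 0x0, []⟩]

theorem t9_560_1 : jobs 8 S9 b8_560 j9_560_1 = true := by decide +kernel

noncomputable def j9_560_2 : List Job := [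
  ⟨61, 0x590ca66339a0d26a35d80c262319b0da6e37d08864a25d00824824c84462513c80442413440221209c0e0501, 0, 72, 0xc06000e07001a06001c07006e06007407, []⟩]

theorem t9_560_2 : jobs 8 S9 b8_560 j9_560_2 = true := by decide +kernel

noncomputable def j9_560_3 : List Job := [
  ⟨60, 0x601028241a110a8643a21128a45a311a8e47d90ca66339a0d26a35d80c262319b0da6e37d04864925d00844825488462613c80422412c40221209c0e0501, 0, 80, 0xa06000c07001606001807005a06005c07006606006807, []⟩]

theorem t9_560_3 : jobs 8 S9 b8_560 j9_560_3 = true := by decide +kernel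

noncomputable def j9_560_4 : List Job := [
  ⟨59, 0x590ca66339a0d26a35d80c262319b0da6e37d108a46239309a4e27cc06232198d06a361bc40221209c0e0501, 0, 60, 0x0, []⟩]

theorem t9_560_4 : jobs 8 S9 b8_560 j9_560_4 = true := by decide +kernel

noncomputable def j9_560_5 : List Job := [
  ⟨58, 0x590ca66339a0d26a35d80c262319b0da6e37d08864a25d00824824c84442513480462413c40221209c0e0501, 0, 60, 0xa04000c05001604001805005604005c05, []⟩]

theorem t9_560_5 : jobs 8 S9 b8_560 j9_560_5 = true := by decide +kernel

noncomputable def j9_560_6 : List Job := [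
  ⟨57, 0x641229249a512a964ba61329a4da713a9e4fe01028241a110a8643a21128a45a311a8e47d90ca66339a0d26a35d80c262319b0da6e37d108a46239309a4e27cc06232198d06a361bc40221209c0e0501, 0, 60, 0x0, []⟩]

theorem t9_560_6 : jobs 8 S9 b8_560 j9_560_6 = true := by decide +kernel

noncomputable def j9_560_7 : List Job := [
  ⟨56, 0x641229249a512a964ba61329a4da713a9e4fe01028241a110a8643a21128a45a311a8e47d90ca66339a0d26a35d80c262319b0da6e37d04864925d00844825488462613c80422412c40221209c0e0501, 0, 60, 0xa06000c07001606001807005606005c07, []⟩]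

theorem t9_560_7 : jobs 8 S9 b8_560 j9_560_7 = true := by decide +kernel

noncomputable def j9_560_8 : List Job := [
  ⟨55, 0x550aa562b970ba5e2fd40a25229960b25a2dd108a46239309a4e27d00824221920924a25c48271008c0e0501, 0, 42, 0x0, []⟩]

theorem t9_560_8 : jobs 8 S9 b8_560 j9_560_8 = true := by decide +kernel

noncomputable def j9_560_9 : List Job := [
  ⟨54, 0x601028241a110a8643a21128a45a311a8e47d50aa562b970ba5e2fd40a25229960b25a2dd108a46239309a4e27d00824221920924a25c48271008c0e0501, 0, 48, 0x0, []⟩]

theorem t9_560_9 : jobs 8 S9 b8_560 j9_560_9 = true := by decide +kernel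

noncomputable def j9_560_10 : List Job := [
  ⟨53, 0x550aa562b970ba5e2fd108a46239309a4e27cc06232198d06a361bc804222118904a2613c44251009c0e0501, 0, 42, 0x0, []⟩]

theorem t9_560_10 : jobs 8 S9 b8_560 j9_560_10 = true := by decide +kernel

noncomputable def j9_560_11 : List Job := [
  ⟨52, 0x601028241a110a8643a21128a45a311a8e47d50aa562b970ba5e2fd108a46239309a4e27cc06232198d06a361bc804222118904a2613c44251009c0e0501, 0, 48, 0x0, []⟩]

theorem t9_560_11 : jobs 8 S9 b8_560 j9_560_11 = true := by decide +kernel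

noncomputable def j9_560_12 : List Job := [
  ⟨51, 0x444251009c0e0501, 0, 42, 0x0, []⟩]

theorem t9_560_12 : jobs 8 S9 b8_560 j9_560_12 = true := by decide +kernel

noncomputable def j9_560_13 : List Job := [
  ⟨50, 0x601028241a110a8643a21128a45a311a8e47c44251009c0e0501, 0, 48, 0x0, []⟩]

theorem t9_560_13 : jobs 8 S9 b8_560 j9_560_13 = true := by decide +kernel

noncomputable def j9_560_14 : List Job := [
  ⟨49, 0x5d0ea763b9e0f27a3ddc0e272399f0fa7e3fd90ca66339a0d26a35d80c262319b0da6e37d48a6582cd40a25a2dd08864a25d00824824cc466341b4c064351bc84462513c80442413444251009c0e0501, 0, 42, 0x200001000003e00, [(30, ⟨1945, 0x20c00330018000100001c000c0040800020040c00, 0x680b8542200d8440805⟩), (7, ⟨1997, 0x2300053000c400100002800050000400000040800, 0x28c294c820088300204⟩), (0, ⟨1964, 0x20c00330018000100001c000c0040800020040c00, 0x680b8542200d8440805⟩)]⟩]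

theorem t9_560_14 : jobs 8 S9 b8_560 j9_560_14 = true := by decide +kernel

noncomputable def j9_560_15 : List Job := [
  ⟨48, 0x601028241a110a8643a21128a45a311a8e47dd0ea763b9e0f27a3ddc0e272399f0fa7e3fd90ca66339a0d26a35d80c262319b0da6e37d44a6582d540a4592dd04864925d008448254c866341acc062361bc88462613c80422412c44251009c0e0501, 0, 56, 0x200000e00003200003e00006200006400, [(49, ⟨1999, 0x4480140002480044000050010500204004040080001, 0x18920090200a0280802⟩), (48, ⟨1998, 0x4080020002800004000020010800002000080000001, 0x1821010020040400404⟩), (30, ⟨1997, 0x4880042002c40004800840000c00204000080081800, 0x690a098022080680805⟩), (24, ⟨1967, 0x4180030000c00004000038000c00202000040081800, 0x680b8140200d8440a04⟩), (6, ⟨1996, 0x4600053000600004800048000600004000000080800, 0x28c284c824088300801⟩), (0, ⟨1942, 0x4180030000c00004000038000c00202000040081800, 0x680b8140200d8440a04⟩)]⟩]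

theorem t9_560_15 : jobs 8 S9 b8_560 j9_560_15 = true := by decide +kernel

noncomputable def j9_560_16 : List Job := [
  ⟨47, 0x550aa562b970ba5e2fd40a25229960b25a2dd108a46239309a4e27d00824221920924a25c4e25118840e0501, 0, 36, 0xa04001602001e04002604003602004004, []⟩]

theorem t9_560_16 : jobs 8 S9 b8_560 j9_560_16 = true := by decide +kernel

noncomputable def j9_560_17 : List Job := [
  ⟨46, 0x550aa562b970ba5e2fd108a46239309a4e27cc06232198d06a361bc804222118904a2613c4e25118840e0501, 0, 36, 0xa04000e04001a04001e05002e05003604003804, []⟩]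

theorem t9_560_17 : jobs 8 S9 b8_560 j9_560_17 = true := by decide +kernel

noncomputable def j9_560_18 : List Job := [
  ⟨45, 0x641229249a512a964ba61329a4da713a9e4fe01028241a110a8643a21128a45a311a8e47d50aa562b970ba5e2fd40a25229960b25a2dd108a46239309a4e27d00824221920924a25c4e25118840e0501, 0, 36, 0xa03001603001e02002605, []⟩]

theorem t9_560_18 : jobs 8 S9 b8_560 j9_560_18 = true := by decide +kernel

noncomputable def j9_560_19 : List Job := [
  ⟨44, 0x641229249a512a964ba61329a4da713a9e4fe01028241a110a8643a21128a45a311a8e47d50aa562b970ba5e2fd108a46239309a4e27cc06232198d06a361bc804222118904a2613c4e25118840e0501, 0, 36, 0xa06000e06001a02001e06002e06, []⟩]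

theorem t9_560_19 : jobs 8 S9 b8_560 j9_560_19 = true := by decide +kernel

noncomputable def j9_560_20 : List Job := [
  ⟨43, 0x44e25118840e0501, 0, 36, 0x606000a05000e04001206001605001e04002206002604002e05003406003604004004, []⟩]

theorem t9_560_20 : jobs 8 S9 b8_560 j9_560_20 = true := by decide +kernel

noncomputable def j9_560_21 : List Job := [
  ⟨42, 0x641229249a512a964ba61329a4da713a9e4fe01028241a110a8643a21128a45a311a8e47c4e25118840e0501, 0, 36, 0x602000a07000e07001204001607001e06002202002606002e06, []⟩]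

theorem t9_560_21 : jobs 8 S9 b8_560 j9_560_21 = true := by decide +kernel

noncomputable def j9_560_22 : List Job := [
  ⟨41, 0x5d0ea763b9e0f27a3ddc0e272399f0fa7e3fd90ca66339a0d26a35d80c262319b0da6e37d48a65a2dd40a2582cd08864a25d00824824cc464351b4c066341bc84442513480462413c4e25118840e0501, 0, 47, 0x200000604000e00001206003200003405004c01004e01005600005801005a01005c01005e00, [(46, ⟨1970, 0x4c80131002920044000020000800206004040080001, 0x1941214420040400c02⟩), (42, ⟨1971, 0x44001580024e00040000400107000020000c0080001, 0x18a2d09420080280c04⟩), (24, ⟨1966, 0x4500052000440004000048000400202000000081800, 0x28aa948a200a0200a04⟩), (6, ⟨1969, 0x4500152000440004000048010400202000000081800, 0x28aa948a200a0200a04⟩), (0, ⟨1941, 0x4000032000c40004000020000c002060000c0081000, 0x68038142200d0400205⟩)]⟩]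

theorem t9_560_22 : jobs 8 S9 b8_560 j9_560_22 = true := by decide +kernel

noncomputable def j9_560_23 : List Job := [
  ⟨40, 0x641229249a512a964ba61329a4da713a9e4fe01028241a110a8643a21128a45a311a8e47dd0ea763b9e0f27a3ddc0e272399f0fa7e3fd90ca66339a0d26a35d80c262319b0da6e37d44a6592dd40a4582d504864925d008448254c866361bcc062341ac88462613c80422412c4e25118840e0501, 0, 96, 0x200000603000e00001203003200004a00005400006e0000a400, [(81, ⟨1952, 0x9a0004000024000100000a00105001020010100100001, 0x19a20090200a0280802⟩), (54, ⟨1950, 0x9a0004000024000100000a00105000020010100000001, 0x19a20090200a0280802⟩), (41, ⟨1951, 0x860004000021000120010800105000020000100000001, 0x1862008424080280802⟩), (36, ⟨1949, 0x9a0004000024000100000a00105000020010100000001, 0x19a20090200a0280802⟩), (24, ⟨1944, 0x8e000370014b001100000400108001010000000102000, 0x28e1316220040400204⟩), (6, ⟨1947, 0x8e001370004b001100000400008001010000000102000, 0x28e1316220040400204⟩), (0, ⟨1940, 0x8e000370014b001100000400108001010000000102000, 0x28e1316220040400204⟩)]⟩]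

theorem t9_560_23 : jobs 8 S9 b8_560 j9_560_23 = true := by decide +kernel

noncomputable def j9_560_24 : List Job := [
  ⟨39, 0x64d2c994e6492e984ee45289b4f6412a9a4fe0d0e8b47e090c8a476050a8946e01088846594cc6935590ce6835d84c46d37580c66c37d148e4d27d108c4c27504864925d008448254a8562e17ca0522c16c88462613c80422412c703a1e0fc60321a0dc502a160bc40221209c3e1d0d8642e15098441e0d058240e0501, 0, 38, 0x200003c01, [(0, ⟨1635, 0x4b00016f00024e00006400087800005000006000404000800001, 0x1983789c3c0f0280c02⟩)]⟩]

theorem t9_560_24 : jobs 8 S9 b8_560 j9_560_24 = true := by decide +kernel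

noncomputable def j9_560_25 : List Job := [
  ⟨20, 0x550aa562bd00824221cd06a361bc80422211c4427100940e0501, 0, 19, 0x0, []⟩]

theorem t9_560_25 : jobs 8 S9 b8_560 j9_560_25 = true := by decide +kernel

noncomputable def j9_560_26 : List Job := [
  ⟨19, 0x550aa562bd00824221cd06a361bc80422211c4427100940e0501, 0, 19, 0x0, []⟩]

theorem t9_560_26 : jobs 8 S9 b8_560 j9_560_26 = true := by decide +kernel

noncomputable def j9_560_27 : List Job := [
  ⟨18, 0x550aa562bd00824221cc0623219c80422211c4427100940e0501, 0, 28, 0x0, []⟩]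

theorem t9_560_27 : jobs 8 S9 b8_560 j9_560_27 = true := by decide +kernel

noncomputable def j9_560_28 : List Job := [
  ⟨17, 0x550aa562bd00824221cc4653019c88472010c4427100940e0501, 0, 28, 0x204000405000a04000c05001c04001e05002804002c04003404, []⟩]

theorem t9_560_28 : jobs 8 S9 b8_560 j9_560_28 = true := by decide +kernel

noncomputable def j9_560_29 : List Job := [
  ⟨16, 0x550aa562bd40a25229d108a4623d00824221cd06a361bcc0623219c904a2613c80422211c1e0d058240e0501, 0, 25, 0x401000a01001601002408002601002808002a08002c01002e08003008, []⟩]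

theorem t9_560_29 : jobs 8 S9 b8_560 j9_560_29 = true := by decide +kernel

noncomputable def j9_560_30 : List Job := [
  ⟨15, 0x41e0d058240e0501, 0, 14, 0x401000a01001001001601, []⟩]

theorem t9_560_30 : jobs 8 S9 b8_560 j9_560_30 = true := by decide +kernel

noncomputable def j9_560_31 : List Job := [
  ⟨14, 0x41e0d058240e0501, 0, 19, 0x401000a01000e01001401001e01002401, []⟩]

theorem t9_560_31 : jobs 8 S9 b8_560 j9_560_31 = true := by decide +kernel

noncomputable def j9_560_32 : List Job := [
  ⟨13, 0x4d06a361bcc0623219c904a2613c80422211c1e0d058240e0501, 0, 20, 0x401000a01001001001601, []⟩]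

theorem t9_560_32 : jobs 8 S9 b8_560 j9_560_32 = true := by decide +kernel

noncomputable def j9_560_33 : List Job := [
  ⟨12, 0x4d06a361bcc0623219c904a2613c80422211c1e0d058240e0501, 0, 24, 0x401000a01001001001601002401002a01, []⟩]

theorem t9_560_33 : jobs 8 S9 b8_560 j9_560_33 = true := by decide +kernel

noncomputable def j9_560_34 : List Job := [
  ⟨11, 0x550aa562bd40a25229d108a4623d00824221cd06a361bcc0623219c904a2613c80422211c1e0d058240e0501, 0, 25, 0x401000a01000e01001401002200002401002600002800002a01002c00002e09003009, [(21, ⟨1392, 0x4680055002680044000060010100004000100000001, 0x18d2b8cc20090080808⟩), (19, ⟨1393, 0x4e80022002860005000870010100004000100080001, 0x19c13108220b0080808⟩), (18, ⟨1394, 0x41801500026e0005000040000100204004100000001, 0x186298d022080080808⟩), (16, ⟨1391, 0x4280042002400044000040010100204000100000001, 0x1852108020080080808⟩)]⟩]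

theorem t9_560_34 : jobs 8 S9 b8_560 j9_560_34 = true := by decide +kernel

noncomputable def j9_560_35 : List Job := [
  ⟨10, 0x5108a4623d00824221cd06a361bcc0623219c944f24134844720114582f140ac48271008c1e0d058240e0501, 0, 46, 0x208000c08001608002008002a08003008003a08004008004a08004e08005008005408, []⟩]

theorem t9_560_35 : jobs 8 S9 b8_560 j9_560_35 = true := by decide +kernel

noncomputable def j9_560_36 : List Job := [
  ⟨9, 0x5108a4623d00824221c542f140b44427100941e0d058240e0501, 0, 23, 0x0, []⟩]

theorem t9_560_36 : jobs 8 S9 b8_560 j9_560_36 = true := by decide +kernel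

noncomputable def j9_560_37 : List Job := [
  ⟨8, 0x5108a4623d00824221c542f140b44427100941e0d058240e0501, 0, 23, 0x0, []⟩]

theorem t9_560_37 : jobs 8 S9 b8_560 j9_560_37 = true := by decide +kernel

noncomputable def j9_560_38 : List Job := [
  ⟨7, 0x5108a4623d00824221cd06a361bcc0623219c904a2613c80422211c542f140b44427100941e0d058240e0501, 0, 23, 0x0, []⟩]

theorem t9_560_38 : jobs 8 S9 b8_560 j9_560_38 = true := by decide +kernel

noncomputable def j9_560_39 : List Job := [
  ⟨6, 0x560b25a2d970ba5e2fd008242219108a4623cc06232198d06a361bc804222118904a2613c1e0d058240e0501, 0, 19, 0x0, []⟩]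

theorem t9_560_39 : jobs 8 S9 b8_560 j9_560_39 = true := by decide +kernel

noncomputable def j9_560_40 : List Job := [
  ⟨5, 0x564b45c2fd60b65d2f508864422d00824623cc464351b4c066341bc88462613c80422412c1e0d058240e0501, 0, 21, 0x0, []⟩]

theorem t9_560_40 : jobs 8 S9 b8_560 j9_560_40 = true := by decide +kernel

theorem d9_560 : Dn 8 S9 b8_560 := dn_of (Js := j9_560_0 ++ (j9_560_1 ++ (j9_560_2 ++ (j9_560_3 ++ (j9_560_4 ++ (j9_560_5 ++ (j9_560_6 ++ (j9_560_7 ++ (j9_560_8 ++ (j9_560_9 ++ (j9_560_10 ++ (j9_560_11 ++ (j9_560_12 ++ (j9_560_13 ++ (j9_560_14 ++ (j9_560_15 ++ (j9_560_16 ++ (j9_560_17 ++ (j9_560_18 ++ (j9_560_19 ++ (j9_560_20 ++ (j9_560_21 ++ (j9_560_22 ++ (j9_560_23 ++ (j9_560_24 ++ (j9_560_25 ++ (j9_560_26 ++ (j9_560_27 ++ (j9_560_28 ++ (j9_560_29 ++ (j9_560_30 ++ (j9_560_31 ++ (j9_560_32 ++ (j9_560_33 ++ (j9_560_34 ++ (j9_560_35 ++ (j9_560_36 ++ (j9_560_37 ++ (j9_560_38 ++ (j9_560_39 ++ (j9_560_40 ++ [])))))))))))))))))))))))))))))))))))))))))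
  (jobs_append t9_560_0 <| jobs_append t9_560_1 <| jobs_append t9_560_2 <| jobs_append t9_560_3 <| jobs_append t9_560_4 <| jobs_append t9_560_5 <| jobs_append t9_560_6 <| jobs_append t9_560_7 <| jobs_append t9_560_8 <| jobs_append t9_560_9 <| jobs_append t9_560_10 <| jobs_append t9_560_11 <| jobs_append t9_560_12 <| jobs_append t9_560_13 <| jobs_append t9_560_14 <| jobs_append t9_560_15 <| jobs_append t9_560_16 <| jobs_append t9_560_17 <| jobs_append t9_560_18 <| jobs_append t9_560_19 <| jobs_append t9_560_20 <| jobs_append t9_560_21 <| jobs_append t9_560_22 <| jobs_append t9_560_23 <| jobs_append t9_560_24 <| jobs_append t9_560_25 <| jobs_append t9_560_26 <| jobs_append t9_560_27 <| jobs_append t9_560_28 <| jobs_append t9_560_29 <| jobs_append t9_560_30 <| jobs_append t9_560_31 <| jobs_append t9_560_32 <| jobs_append t9_560_33 <| jobs_append t9_560_34 <| jobs_append t9_560_35 <| jobs_append t9_560_36 <| jobs_append t9_560_37 <| jobs_append t9_560_38 <| jobs_append t9_560_39 <| jobs_append t9_560_40 <| List.forall_mem_nil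 _) (by decide +kernel)

noncomputable def j9_561_0 : List Job := [
  ⟨63, 0x448271008c0e0501, 0, 58, 0x1005004002, []⟩]

theorem t9_561_0 : jobs 8 S9 b8_561 j9_561_0 = true := by decide +kernel

noncomputable def j9_561_1 : List Job := [
  ⟨62, 0x5d0ea763b9e0f27a3dd90ca66339a0d26a35d40a25229960b25a2dd00824221920924a25c44251009c0e0501, 0, 58, 0x1002004006, []⟩]

theorem t9_561_1 : jobs 8 S9 b8_561 j9_561_1 = true := by decide +kernel

noncomputable def j9_561_2 : List Job := [
  ⟨61, 0x4502a160bc0e0501, 0, 45, 0x0, []⟩]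

theorem t9_561_2 : jobs 8 S9 b8_561 j9_561_2 = true := by decide +kernel

noncomputable def j9_561_3 : List Job := [
  ⟨60, 0x601028241a110a8643a21128a45a311a8e47c502a160bc0e0501, 0, 60, 0x0, []⟩]

theorem t9_561_3 : jobs 8 S9 b8_561 j9_561_3 = true := by decide +kernel

noncomputable def j9_561_4 : List Job := [
  ⟨59, 0x601028241a110a8643a21128a45a311a8e47dd0ea763b9e0f27a3dd90ca66339a0d26a35d40a25229960b25a2dd00824221920924a25c502a160bc0e0501, 0, 60, 0x0, []⟩]

theorem t9_561_4 : jobs 8 S9 b8_561 j9_561_4 = true := by decide +kernel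

noncomputable def j9_561_5 : List Job := [
  ⟨58, 0x590ca66339a0d26a35d00824221920924a25c502a160bc0e0501, 0, 96, 0x0, []⟩]

theorem t9_561_5 : jobs 8 S9 b8_561 j9_561_5 = true := by decide +kernel

noncomputable def j9_561_6 : List Job := [
  ⟨57, 0x641229249a512a964ba61329a4da713a9e4fe01028241a110a8643a21128a45a311a8e47d90ca66339a0d26a35d00824221920924a25c502a160bc0e0501, 0, 96, 0x0, []⟩]

theorem t9_561_6 : jobs 8 S9 b8_561 j9_561_6 = true := by decide +kernel

noncomputable def j9_561_7 : List Job := [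
  ⟨56, 0x601028241a110a8643a21128a45a311a8e47d90ca66339a0d26a35d00824221920924a25c502a160bc0e0501, 0, 128, 0x0, []⟩]

theorem t9_561_7 : jobs 8 S9 b8_561 j9_561_7 = true := by decide +kernel

noncomputable def j9_561_8 : List Job := [
  ⟨55, 0x601028241a110a8643a21128a45a311a8e47d90ca66339a0d26a35d00824221920924a25c44251009c0e0501, 0, 128, 0x1a05003a06005a06007a03009a0300ba0500da0600fa05, []⟩]

theorem t9_561_8 : jobs 8 S9 b8_561 j9_561_8 = true := by decide +kernel

noncomputable def j9_561_9 : List Job := [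
  ⟨54, 0x590ca66339a0d26a35d00824221920924a25c4427100940e0501, 0, 96, 0xa02002a06004a04006a02, []⟩]

theorem t9_561_9 : jobs 8 S9 b8_561 j9_561_9 = true := by decide +kernel

noncomputable def j9_561_10 : List Job := [
  ⟨53, 0x641229249a512a964ba61329a4da713a9e4fe01028241a110a8643a21128a45a311a8e47d90ca66339a0d26a35d00824221920924a25c44251009c0e0501, 0, 96, 0xa04002a06004a06006a03, []⟩]

theorem t9_561_10 : jobs 8 S9 b8_561 j9_561_10 = true := by decide +kernel

noncomputable def j9_561_11 : List Job := [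
  ⟨52, 0x601028241a110a8643a21128a45a311a8e47c4427100940e0501, 0, 60, 0x1003004c03, []⟩]

theorem t9_561_11 : jobs 8 S9 b8_561 j9_561_11 = true := by decide +kernel

noncomputable def j9_561_12 : List Job := [
  ⟨51, 0x601028241a110a8643a21128a45a311a8e47dd0ea763b9e0f27a3dd90ca66339a0d26a35d40a25229960b25a2dd00824221920924a25c44251009c0e0501, 0, 60, 0x1003004c05, []⟩]

theorem t9_561_12 : jobs 8 S9 b8_561 j9_561_12 = true := by decide +kernel

noncomputable def j9_561_13 : List Job := [
  ⟨50, 0x44e25118840e0501, 0, 45, 0x604000a02001003001404001803002407002605002c03003203003a02004004004203004e03, []⟩]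

theorem t9_561_13 : jobs 8 S9 b8_561 j9_561_13 = true := by decide +kernel

noncomputable def j9_561_14 : List Job := [
  ⟨49, 0x540a25229960b25a2dd00824221920924a25ce0723a1d8f07a3e1fc804222118904a2613c502a160bc0e0501, 0, 45, 0x0, []⟩]

theorem t9_561_14 : jobs 8 S9 b8_561 j9_561_14 = true := by decide +kernel

noncomputable def j9_561_15 : List Job := [
  ⟨48, 0x4e0723a1d8f07a3e1fc804222118904a2613c502a160bc0e0501, 0, 66, 0x0, []⟩]

theorem t9_561_15 : jobs 8 S9 b8_561 j9_561_15 = true := by decide +kernel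

noncomputable def j9_561_16 : List Job := [
  ⟨47, 0x5c0e272399f0fa7e3fd80c262319b0da6e37d40a25229960b25a2dd00824221920924a25ce0723a1d8f07a3e1fc804222118904a2613c502a160bc0e0501, 0, 66, 0x0, []⟩]

theorem t9_561_16 : jobs 8 S9 b8_561 j9_561_16 = true := by decide +kernel

noncomputable def j9_561_17 : List Job := [
  ⟨46, 0x580c262319b0da6e37d00824221920924a25ce0723a1d8f07a3e1fc804222118904a2613c502a160bc0e0501, 0, 144, 0x20200040300100200120300d20200d803, []⟩]

theorem t9_561_17 : jobs 8 S9 b8_561 j9_561_17 = true := by decide +kernel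

noncomputable def j9_561_18 : List Job := [
  ⟨45, 0x580c262319b0da6e37d00824221920924a25cc06232198d06a361bc804222118904a2613c44251009c0e0501, 0, 144, 0x0, []⟩]

theorem t9_561_18 : jobs 8 S9 b8_561 j9_561_18 = true := by decide +kernel

noncomputable def j9_561_19 : List Job := [
  ⟨44, 0x4c06232198d06a361bc804222118904a2613c48271008c0e0501, 0, 66, 0x0, []⟩]

theorem t9_561_19 : jobs 8 S9 b8_561 j9_561_19 = true := by decide +kernel

noncomputable def j9_561_20 : List Job := [
  ⟨43, 0x5c0e272399f0fa7e3fd80c262319b0da6e37d40a25229960b25a2dd00824221920924a25cc06232198d06a361bc804222118904a2613c44251009c0e0501, 0, 66, 0x200001000006000, [(47, ⟨1964, 0x228017f0049400100003000050000801010000c00, 0x78d3e492200e0280802⟩), (7, ⟨1948, 0x26c007c0012401130043001080000801030040401, 0x794921f822040640801⟩), (0, ⟨1945, 0x2200053000cc00100002801050000401020000c00, 0x788a84c220090300404⟩)]⟩]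

theorem t9_561_20 : jobs 8 S9 b8_561 j9_561_20 = true := by decide +kernel

noncomputable def j9_561_21 : List Job := [
  ⟨42, 0x540a25229960b25a2dd00824221920924a25cc06232198d06a361bc804222118904a2613c4e25118840e0501, 0, 45, 0x604000c02001003001403001a06004005004202, []⟩]

theorem t9_561_21 : jobs 8 S9 b8_561 j9_561_21 = true := by decide +kernel

noncomputable def j9_561_22 : List Job := [
  ⟨41, 0x641229249a512a964ba61329a4da713a9e4fe01028241a110a8643a21128a45a311a8e47d40a25229960b25a2dd00824221920924a25ce0723a1d8f07a3e1fc804222118904a2613c502a160bc0e0501, 0, 45, 0x0, []⟩]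

theorem t9_561_22 : jobs 8 S9 b8_561 j9_561_22 = true := by decide +kernel

noncomputable def j9_561_23 : List Job := [
  ⟨40, 0x4e0723a1d8f07a3e1fc804222118904a2613c502a160bc0e0501, 0, 57, 0x0, []⟩]

theorem t9_561_23 : jobs 8 S9 b8_561 j9_561_23 = true := by decide +kernel

noncomputable def j9_561_24 : List Job := [
  ⟨39, 0x641229249a512a964ba61329a4da713a9e4fe01028241a110a8643a21128a45a311a8e47ce0723a1d8f07a3e1fc804222118904a2613c502a160bc0e0501, 0, 57, 0x0, []⟩]

theorem t9_561_24 : jobs 8 S9 b8_561 j9_561_24 = true := by decide +kernel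

noncomputable def j9_561_25 : List Job := [
  ⟨38, 0x5c0e272399f0fa7e3fd80c262319b0da6e37d40a25229960b25a2dd00824221920924a25ce0723a1d8f07a3e1fc804222118904a2613c502a160bc0e0501, 0, 57, 0x0, []⟩]

theorem t9_561_25 : jobs 8 S9 b8_561 j9_561_25 = true := by decide +kernel

noncomputable def j9_561_26 : List Job := [
  ⟨37, 0x601028241a110a8643a21128a45a311a8e47ce0723a1d8f07a3e1fc804222118904a2613c502a160bc0e0501, 0, 76, 0x0, []⟩]

theorem t9_561_26 : jobs 8 S9 b8_561 j9_561_26 = true := by decide +kernel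

noncomputable def j9_561_27 : List Job := [
  ⟨36, 0x601028241a110a8643a21128a45a311a8e47dc0e272399f0fa7e3fd80c262319b0da6e37d40a25229960b25a2dd00824221920924a25ce0723a1d8f07a3e1fc804222118904a2613c502a160bc0e0501, 0, 76, 0x0, []⟩]

theorem t9_561_27 : jobs 8 S9 b8_561 j9_561_27 = true := by decide +kernel

noncomputable def j9_561_28 : List Job := [
  ⟨35, 0x580c262319b0da6e37d00824221920924a25ce0723a1d8f07a3e1fc804222118904a2613c502a160bc0e0501, 0, 120, 0x204000405000e0400100500a20400a805, []⟩]

theorem t9_561_28 : jobs 8 S9 b8_561 j9_561_28 = true := by decide +kernel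

noncomputable def j9_561_29 : List Job := [
  ⟨34, 0x641229249a512a964ba61329a4da713a9e4fe01028241a110a8643a21128a45a311a8e47d80c262319b0da6e37d00824221920924a25ce0723a1d8f07a3e1fc804222118904a2613c502a160bc0e0501, 0, 120, 0x204000405000e0400100500a20400a805, []⟩]

theorem t9_561_29 : jobs 8 S9 b8_561 j9_561_29 = true := by decide +kernel

noncomputable def j9_561_30 : List Job := [
  ⟨33, 0x601028241a110a8643a21128a45a311a8e47d80c262319b0da6e37d00824221920924a25ce0723a1d8f07a3e1fc804222118904a2613c502a160bc0e0501, 0, 160, 0x204000405000e0400100500a20400a40500ae0400b005, []⟩]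

theorem t9_561_30 : jobs 8 S9 b8_561 j9_561_30 = true := by decide +kernel

noncomputable def j9_561_31 : List Job := [
  ⟨32, 0x601028241a110a8643a21128a45a311a8e47d80c262319b0da6e37d00824221920924a25cc06232198d06a361bc804222118904a2613c48271008c0e0501, 0, 160, 0x0, []⟩]

theorem t9_561_31 : jobs 8 S9 b8_561 j9_561_31 = true := by decide +kernel

noncomputable def j9_561_32 : List Job := [
  ⟨31, 0x580c262319b0da6e37d00824221920924a25cc06232198d06a361bc804222118904a2613c4427100940e0501, 0, 120, 0x0, []⟩]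

theorem t9_561_32 : jobs 8 S9 b8_561 j9_561_32 = true := by decide +kernel

noncomputable def j9_561_33 : List Job := [
  ⟨30, 0x641229249a512a964ba61329a4da713a9e4fe01028241a110a8643a21128a45a311a8e47d80c262319b0da6e37d00824221920924a25cc06232198d06a361bc804222118904a2613c48271008c0e0501, 0, 120, 0x0, []⟩]

theorem t9_561_33 : jobs 8 S9 b8_561 j9_561_33 = true := by decide +kernel

noncomputable def j9_561_34 : List Job := [
  ⟨29, 0x601028241a110a8643a21128a45a311a8e47cc06232198d06a361bc804222118904a2613c4427100940e0501, 0, 76, 0x0, []⟩]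

theorem t9_561_34 : jobs 8 S9 b8_561 j9_561_34 = true := by decide +kernel

noncomputable def j9_561_35 : List Job := [
  ⟨28, 0x601028241a110a8643a21128a45a311a8e47dc0e272399f0fa7e3fd80c262319b0da6e37d40a25229960b25a2dd00824221920924a25cc06232198d06a361bc804222118904a2613c48271008c0e0501, 0, 76, 0x200000e00004e00005a00, [(44, ⟨1969, 0x250015a005f8011100420000f0000801010040c01, 0x79d2c9b222080680802⟩), (38, ⟨1967, 0x240004b0009400100002801050000801030000400, 0x79024892200a0240801⟩), (6, ⟨1947, 0x210015a005f8011100420000f0000801010040c01, 0x78c2c9b222080680802⟩), (0, ⟨1942, 0x208006d0009c00100003001050000c01020000400, 0x78137098200c0240401⟩)]⟩]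

theorem t9_561_35 : jobs 8 S9 b8_561 j9_561_35 = true := by decide +kernel

noncomputable def j9_561_36 : List Job := [
  ⟨27, 0x641229249a512a964ba61329a4da713a9e4fe01028241a110a8643a21128a45a311a8e47d40a25229960b25a2dd00824221920924a25cc06232198d06a361bc804222118904a2613c4e25118840e0501, 0, 45, 0x607000c04001002001407001a05, []⟩]

theorem t9_561_36 : jobs 8 S9 b8_561 j9_561_36 = true := by decide +kernel

noncomputable def j9_561_37 : List Job := [
  ⟨26, 0x4c06232198d06a361bc804222118904a2613c4e25118840e0501, 0, 57, 0x604000a05000e05001204001604002207002e07003807004605005004005204005e07, []⟩]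

theorem t9_561_37 : jobs 8 S9 b8_561 j9_561_37 = true := by decide +kernel

noncomputable def j9_561_38 : List Job := [
  ⟨25, 0x641229249a512a964ba61329a4da713a9e4fe01028241a110a8643a21128a45a311a8e47cc06232198d06a361bc804222118904a2613c4e25118840e0501, 0, 57, 0x604000a04000e04001204001604002207002e07003807004604, []⟩]

theorem t9_561_38 : jobs 8 S9 b8_561 j9_561_38 = true := by decide +kernel

noncomputable def j9_561_39 : List Job := [
  ⟨24, 0x5c0e272399f0fa7e3fd80c262319b0da6e37d40a25229960b25a2dd00824221920924a25cc06232198d06a361bc804222118904a2613c4e25118840e0501, 0, 57, 0x200000604000a04000e00001204001604004e00005005005205, [(38, ⟨1944, 0x27c0041001c4001000028010c0040401020040c01, 0x794211c020090640404⟩), (6, ⟨1997, 0x204006e0009c00100003001060000c01010000800, 0x78137098200c0240202⟩), (0, ⟨1941, 0x204006e0009c00100003001060000c01010000800, 0x78137098200c0240202⟩)]⟩]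

theorem t9_561_39 : jobs 8 S9 b8_561 j9_561_39 = true := by decide +kernel

noncomputable def j9_561_40 : List Job := [
  ⟨23, 0x5c0e272399f0fa7e3fc804222118904a2613c48271008c0e0501, 0, 72, 0x0, []⟩]

theorem t9_561_40 : jobs 8 S9 b8_561 j9_561_40 = true := by decide +kernel

noncomputable def j9_561_41 : List Job := [
  ⟨22, 0x601028241a110a8643a21128a45a311a8e47dc0e272399f0fa7e3fc804222118904a2613c4427100940e0501, 0, 80, 0x0, []⟩]

theorem t9_561_41 : jobs 8 S9 b8_561 j9_561_41 = true := by decide +kernel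

noncomputable def j9_561_42 : List Job := [
  ⟨21, 0x440221209c0e0501, 0, 44, 0x0, []⟩]

theorem t9_561_42 : jobs 8 S9 b8_561 j9_561_42 = true := by decide +kernel

noncomputable def j9_561_43 : List Job := [
  ⟨20, 0x601028241a110a8643a21128a45a311a8e47c40221209c0e0501, 0, 48, 0x0, []⟩]

theorem t9_561_43 : jobs 8 S9 b8_561 j9_561_43 = true := by decide +kernel

noncomputable def j9_561_44 : List Job := [
  ⟨19, 0x5d0ea763b9e0f27a3ddc0e272399f0fa7e3fc40221209c0e0501, 0, 48, 0x0, []⟩]

theorem t9_561_44 : jobs 8 S9 b8_561 j9_561_44 = true := by decide +kernel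

noncomputable def j9_561_45 : List Job := [
  ⟨18, 0x601028241a110a8643a21128a45a311a8e47dd0ea763b9e0f27a3ddc0e272399f0fa7e3fc40221209c0e0501, 0, 56, 0x0, []⟩]

theorem t9_561_45 : jobs 8 S9 b8_561 j9_561_45 = true := by decide +kernel

noncomputable def j9_561_46 : List Job := [
  ⟨17, 0x580c262319b0da6e37d50aa562b970ba5e2fd40a25229960b25a2dd108a46239309a4e27d00824221920924a25c804222118904a2613c48271008c0e0501, 0, 72, 0xa01000c01000e01001801001a01001c01006e01007401, []⟩]

theorem t9_561_46 : jobs 8 S9 b8_561 j9_561_46 = true := by decide +kernel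

noncomputable def j9_561_47 : List Job := [
  ⟨16, 0x601028241a110a8643a21128a45a311a8e47d80c262319b0da6e37d50aa562b970ba5e2fd40a25229960b25a2dd108a46239309a4e27d00824221920924a25c804222118904a2613c4427100940e0501, 0, 80, 0xa01000c01001601001801005a01005c01006601006801, []⟩]

theorem t9_561_47 : jobs 8 S9 b8_561 j9_561_47 = true := by decide +kernel

noncomputable def j9_561_48 : List Job := [
  ⟨15, 0x540a25229960b25a2dd108a46239309a4e27ce0723a1d8f07a3e1fc804222118904a2613c40221209c0e0501, 0, 44, 0x0, []⟩]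

theorem t9_561_48 : jobs 8 S9 b8_561 j9_561_48 = true := by decide +kernel

noncomputable def j9_561_49 : List Job := [
  ⟨14, 0x601028241a110a8643a21128a45a311a8e47d40a25229960b25a2dd108a46239309a4e27ce0723a1d8f07a3e1fc804222118904a2613c40221209c0e0501, 0, 48, 0x0, []⟩]

theorem t9_561_49 : jobs 8 S9 b8_561 j9_561_49 = true := by decide +kernel

noncomputable def j9_561_50 : List Job := [
  ⟨13, 0x590ca66339a0d26a35d80c262319b0da6e37d50aa562b970ba5e2fd00824221920924a25ce0723a1d8f07a3e1fc804222118904a2613c40221209c0e0501, 0, 48, 0x601000801000a01001401001601001801004801004e01, []⟩]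

theorem t9_561_50 : jobs 8 S9 b8_561 j9_561_50 = true := by decide +kernel

noncomputable def j9_561_51 : List Job := [
  ⟨12, 0x601028241a110a8643a21128a45a311a8e47d90ca66339a0d26a35d80c262319b0da6e37d50aa562b970ba5e2fd00824221920924a25ce0723a1d8f07a3e1fc804222118904a2613c40221209c0e0501, 0, 56, 0x601000801001201001401003e01004001004a01004c01, []⟩]

theorem t9_561_51 : jobs 8 S9 b8_561 j9_561_51 = true := by decide +kernel

noncomputable def j9_561_52 : List Job := [
  ⟨11, 0x5c0e272399f0fa7e3fc804222118904a2613c4427100940e0501, 0, 60, 0x0, []⟩]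

theorem t9_561_52 : jobs 8 S9 b8_561 j9_561_52 = true := by decide +kernel

noncomputable def j9_561_53 : List Job := [
  ⟨10, 0x440221209c0e0501, 0, 36, 0x0, []⟩]

theorem t9_561_53 : jobs 8 S9 b8_561 j9_561_53 = true := by decide +kernel

noncomputable def j9_561_54 : List Job := [
  ⟨9, 0x5d0ea763b9e0f27a3ddc0e272399f0fa7e3fc40221209c0e0501, 0, 42, 0x0, []⟩]

theorem t9_561_54 : jobs 8 S9 b8_561 j9_561_54 = true := by decide +kernel

noncomputable def j9_561_55 : List Job := [
  ⟨8, 0x641229249a512a964ba61329a4da713a9e4fe01028241a110a8643a21128a45a311a8e47dc0e272399f0fa7e3fc804222118904a2613c4427100940e0501, 0, 60, 0x0, []⟩]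

theorem t9_561_55 : jobs 8 S9 b8_561 j9_561_55 = true := by decide +kernel

noncomputable def j9_561_56 : List Job := [
  ⟨7, 0x641229249a512a964ba61329a4da713a9e4fe01028241a110a8643a21128a45a311a8e47c40221209c0e0501, 0, 36, 0x0, []⟩]

theorem t9_561_56 : jobs 8 S9 b8_561 j9_561_56 = true := by decide +kernel

noncomputable def j9_561_57 : List Job := [
  ⟨6, 0x641229249a512a964ba61329a4da713a9e4fe01028241a110a8643a21128a45a311a8e47dd0ea763b9e0f27a3ddc0e272399f0fa7e3fc40221209c0e0501, 0, 42, 0x0, []⟩]

theorem t9_561_57 : jobs 8 S9 b8_561 j9_561_57 = true := by decide +kernel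

noncomputable def j9_561_58 : List Job := [
  ⟨5, 0x580c262319b0da6e37d50aa562b970ba5e2fd40a25229960b25a2dd108a46239309a4e27d00824221920924a25c804222118904a2613c4427100940e0501, 0, 60, 0xa01000c01001601001801005601005c01, []⟩]

theorem t9_561_58 : jobs 8 S9 b8_561 j9_561_58 = true := by decide +kernel

noncomputable def j9_561_59 : List Job := [
  ⟨4, 0x540a25229960b25a2dd108a46239309a4e27ce0723a1d8f07a3e1fc804222118904a2613c40221209c0e0501, 0, 36, 0x0, []⟩]

theorem t9_561_59 : jobs 8 S9 b8_561 j9_561_59 = true := by decide +kernel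

noncomputable def j9_561_60 : List Job := [
  ⟨3, 0x590ca66339a0d26a35d80c262319b0da6e37d50aa562b970ba5e2fd00824221920924a25ce0723a1d8f07a3e1fc804222118904a2613c40221209c0e0501, 0, 42, 0x601000801001201001401003c01004201, []⟩]

theorem t9_561_60 : jobs 8 S9 b8_561 j9_561_60 = true := by decide +kernel

noncomputable def j9_561_61 : List Job := [
  ⟨2, 0x641229249a512a964ba61329a4da713a9e4fe01028241a110a8643a21128a45a311a8e47d80c262319b0da6e37d50aa562b970ba5e2fd40a25229960b25a2dd108a46239309a4e27d00824221920924a25c804222118904a2613c4427100940e0501, 0, 60, 0xa01000c01001601001801005601005c01, []⟩]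

theorem t9_561_61 : jobs 8 S9 b8_561 j9_561_61 = true := by decide +kernel

noncomputable def j9_561_62 : List Job := [
  ⟨1, 0x641229249a512a964ba61329a4da713a9e4fe01028241a110a8643a21128a45a311a8e47d40a25229960b25a2dd108a46239309a4e27ce0723a1d8f07a3e1fc804222118904a2613c40221209c0e0501, 0, 36, 0x0, []⟩]

theorem t9_561_62 : jobs 8 S9 b8_561 j9_561_62 = true := by decide +kernel

noncomputable def j9_561_63 : List Job := [
  ⟨0, 0x641229249a512a964ba61329a4da713a9e4fe01028241a110a8643a21128a45a311a8e47d90ca66339a0d26a35d80c262319b0da6e37d50aa562b970ba5e2fd00824221920924a25ce0723a1d8f07a3e1fc804222118904a2613c40221209c0e0501, 0, 42, 0x601000801001201001401003c01004201, []⟩]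

theorem t9_561_63 : jobs 8 S9 b8_561 j9_561_63 = true := by decide +kernel

theorem d9_561 : Dn 8 S9 b8_561 := dn_of (Js := j9_561_0 ++ (j9_561_1 ++ (j9_561_2 ++ (j9_561_3 ++ (j9_561_4 ++ (j9_561_5 ++ (j9_561_6 ++ (j9_561_7 ++ (j9_561_8 ++ (j9_561_9 ++ (j9_561_10 ++ (j9_561_11 ++ (j9_561_12 ++ (j9_561_13 ++ (j9_561_14 ++ (j9_561_15 ++ (j9_561_16 ++ (j9_561_17 ++ (j9_561_18 ++ (j9_561_19 ++ (j9_561_20 ++ (j9_561_21 ++ (j9_561_22 ++ (j9_561_23 ++ (j9_561_24 ++ (j9_561_25 ++ (j9_561_26 ++ (j9_561_27 ++ (j9_561_28 ++ (j9_561_29 ++ (j9_561_30 ++ (j9_561_31 ++ (j9_561_32 ++ (j9_561_33 ++ (j9_561_34 ++ (j9_561_35 ++ (j9_561_36 ++ (j9_561_37 ++ (j9_561_38 ++ (j9_561_39 ++ (j9_561_40 ++ (j9_561_41 ++ (j9_561_42 ++ (j9_561_43 ++ (j9_561_44 ++ (j9_561_45 ++ (j9_561_46 ++ (j9_561_47 ++ (j9_561_48 ++ (j9_561_49 ++ (j9_561_50 ++ (j9_561_51 ++ (j9_561_52 ++ (j9_561_53 ++ (j9_561_54 ++ (j9_561_55 ++ (j9_561_56 ++ (j9_561_57 ++ (j9_561_58 ++ (j9_561_59 ++ (j9_561_60 ++ (j9_561_61 ++ (j9_561_62 ++ (j9_561_63 ++ []))))))))))))))))))))))))))))))))))))))))))))))))))))))))))))))))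
  (jobs_append t9_561_0 <| jobs_append t9_561_1 <| jobs_append t9_561_2 <| jobs_append t9_561_3 <| jobs_append t9_561_4 <| jobs_append t9_561_5 <| jobs_append t9_561_6 <| jobs_append t9_561_7 <| jobs_append t9_561_8 <| jobs_append t9_561_9 <| jobs_append t9_561_10 <| jobs_append t9_561_11 <| jobs_append t9_561_12 <| jobs_append t9_561_13 <| jobs_append t9_561_14 <| jobs_append t9_561_15 <| jobs_append t9_561_16 <| jobs_append t9_561_17 <| jobs_append t9_561_18 <| jobs_append t9_561_19 <| jobs_append t9_561_20 <| jobs_append t9_561_21 <| jobs_append t9_561_22 <| jobs_append t9_561_23 <| jobs_append t9_561_24 <| jobs_append t9_561_25 <| jobs_append t9_561_26 <| jobs_append t9_561_27 <| jobs_append t9_561_28 <| jobs_append t9_561_29 <| jobs_append t9_561_30 <| jobs_append t9_561_31 <| jobs_append t9_561_32 <| jobs_append t9_561_33 <| jobs_append t9_561_34 <| jobs_append t9_561_35 <| jobs_append t9_561_36 <| jobs_append t9_561_37 <| jobs_append t9_561_38 <| jobs_append t9_561_39 <| jobs_append t9_561_40 <| jobs_append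 t9_561_41 <| jobs_append t9_561_42 <| jobs_append t9_561_43 <| jobs_append t9_561_44 <| jobs_append t9_561_45 <| jobs_append t9_561_46 <| jobs_append t9_561_47 <| jobs_append t9_561_48 <| jobs_append t9_561_49 <| jobs_append t9_561_50 <| jobs_append t9_561_51 <| jobs_append t9_561_52 <| jobs_append t9_561_53 <| jobs_append t9_561_54 <| jobs_append t9_561_55 <| jobs_append t9_561_56 <| jobs_append t9_561_57 <| jobs_append t9_561_58 <| jobs_append t9_561_59 <| jobs_append t9_561_60 <| jobs_append t9_561_61 <| jobs_append t9_561_62 <| jobs_append t9_561_63 <| List.forall_mem_nil _) (by decide +kernel)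

noncomputable def j9_562_0 : List Job := [
  ⟨49, 0x68142a251a914aa653aa152aa55ab15aae57e41229249a512a964ba61329a4da713a9e4fe05068945e01048845580c26231990ca66339a0d26a359b0da6e37d40a25229950aa562b960b25a2d970ba5e2fd04864925d00844825488462613c80422412c4826160bc4022140ac0e0501, 0, 30, 0x200000600000c02001000001400001e02003200, [(24, ⟨2320, 0x2400182000400005000040010500204000040080001, 0x1424508028080280802⟩), (9, ⟨2319, 0x20801810022a0008000050010400004004040000001, 0x14140840480a0200802⟩), (7, ⟨2317, 0x2480083002400005000040010500004000040000001, 0x1434588028080280802⟩), (2, ⟨2318, 0x20801810022a0008000050010400004004040000001, 0x14140840480a0200802⟩), (0, ⟨2316, 0x2480083002400005000040010500004000040000001, 0x1434588028080280802⟩)]⟩]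

theorem t9_562_0 : jobs 8 S9 b8_562 j9_562_0 = true := by decide +kernel

noncomputable def j9_562_1 : List Job := [
  ⟨48, 0x6914aa653ab15aae57e8142a251aa152aa55e05068443225168c47601048543a21148d47d44a4552b160b65c2fd40a6542b964b45d2f520924a259309a4e27d008242219108a4623cc866361b8e8763e1fcc062341a8e0723c1ec3e1d0d8642e15098441e0d058240e0501, 0, 18, 0x1201, []⟩]

theorem t9_562_1 : jobs 8 S9 b8_562 j9_562_1 = true := by decide +kernel

noncomputable def j9_562_2 : List Job := [
  ⟨12, 0x68142a251a914aa653aa152aa55ab15aae57e01028241a110a8643a21128a45a311a8e47dc0e272399d0ea763b9e0f27a3d9f0fa7e3fd008242219108a4623920924a259309a4e27c4427100940e0501, 0, 19, 0x0, []⟩]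

theorem t9_562_2 : jobs 8 S9 b8_562 j9_562_2 = true := by decide +kernel

noncomputable def j9_562_3 : List Job := [
  ⟨11, 0x6c162b259ad16ab65bae172ba5daf17abe5fe01028241a110a8643a21128a45a311a8e47dc0e272399d0ea763b9e0f27a3d9f0fa7e3fd008242219108a4623920924a259309a4e27c4427100940e0501, 0, 19, 0x0, []⟩]

theorem t9_562_3 : jobs 8 S9 b8_562 j9_562_3 = true := by decide +kernel

noncomputable def j9_562_4 : List Job := [
  ⟨10, 0x6c162b259ad16ab65bae172ba5daf17abe5fe01028241a110a8643a21128a45a311a8e47c4427100940e0501, 0, 19, 0x0, []⟩]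

theorem t9_562_4 : jobs 8 S9 b8_562 j9_562_4 = true := by decide +kernel

noncomputable def j9_562_5 : List Job := [
  ⟨9, 0x6c162b259ad16ab65bae172ba5daf17abe5fe01028241a110a8643a21128a45a311a8e47dc0e272399d0ea763b9e0f27a3d9f0fa7e3fd80c26231990ca66339a0d26a359b0da6e37d40a25229950aa562b960b25a2d970ba5e2fd008242219108a4623920924a259309a4e27c4427100940e0501, 0, 21, 0x0, []⟩]

theorem t9_562_5 : jobs 8 S9 b8_562 j9_562_5 = true := by decide +kernel

noncomputable def j9_562_6 : List Job := [
  ⟨8, 0x6c162b259ad16ab65bae172ba5daf17abe5fe01028241a110a8643a21128a45a311a8e47d40a25229950aa562b960b25a2d970ba5e2fd008242219108a4623920924a259309a4e27c4427100940e0501, 0, 28, 0x0, []⟩]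

theorem t9_562_6 : jobs 8 S9 b8_562 j9_562_6 = true := by decide +kernel

noncomputable def j9_562_7 : List Job := [
  ⟨7, 0x44e25118840e0501, 0, 10, 0x0, []⟩]

theorem t9_562_7 : jobs 8 S9 b8_562 j9_562_7 = true := by decide +kernel

noncomputable def j9_562_8 : List Job := [
  ⟨6, 0x5c0e272399d0ea763b9e0f27a3d9f0fa7e3fd80c26231990ca66339a0d26a359b0da6e37d40a25229950aa562b960b25a2d970ba5e2fd008242219108a4623920924a259309a4e27c4e25118840e0501, 0, 15, 0x0, []⟩]

theorem t9_562_8 : jobs 8 S9 b8_562 j9_562_8 = true := by decide +kernel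

noncomputable def j9_562_9 : List Job := [
  ⟨5, 0x540a25229950aa562b960b25a2d970ba5e2fd008242219108a4623920924a259309a4e27c4e25118840e0501, 0, 15, 0x0, []⟩]

theorem t9_562_9 : jobs 8 S9 b8_562 j9_562_9 = true := by decide +kernel

noncomputable def j9_562_10 : List Job := [
  ⟨4, 0x6c162b259ad16ab65bae172ba5daf17abe5fe8142a251a914aa653aa152aa55ab15aae57e41229249a512a964ba61329a4da713a9e4fe01028241a110a8643a21128a45a311a8e47d40a25229950aa562b960b25a2d970ba5e2fd008242219108a4623920924a259309a4e27c4e25118840e0501, 0, 18, 0x0, []⟩]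

theorem t9_562_10 : jobs 8 S9 b8_562 j9_562_10 = true := by decide +kernel

noncomputable def j9_562_11 : List Job := [
  ⟨3, 0x4502a160bc0e0501, 0, 58, 0x0, []⟩]

theorem t9_562_11 : jobs 8 S9 b8_562 j9_562_11 = true := by decide +kernel

noncomputable def j9_562_12 : List Job := [
  ⟨2, 0x5d0ea763b9e0f27a3dd90ca66339a0d26a35d40a25229960b25a2dd00824221920924a25c502a160bc0e0501, 0, 58, 0x0, []⟩]

theorem t9_562_12 : jobs 8 S9 b8_562 j9_562_12 = true := by decide +kernel

noncomputable def j9_562_13 : List Job := [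
  ⟨1, 0x590ca66339a0d26a35d00824221920924a25c502a160bc0e0501, 0, 128, 0x0, []⟩]

theorem t9_562_13 : jobs 8 S9 b8_562 j9_562_13 = true := by decide +kernel

noncomputable def j9_562_14 : List Job := [
  ⟨0, 0x590ca66339a0d26a35d00824221920924a25c44251009c0e0501, 0, 128, 0x1a04003a03005a05006e06008a06009e0500ae0600be06, []⟩]

theorem t9_562_14 : jobs 8 S9 b8_562 j9_562_14 = true := by decide +kernel

theorem d9_562 : Dn 8 S9 b8_562 := dn_of (Js := j9_562_0 ++ (j9_562_1 ++ (j9_562_2 ++ (j9_562_3 ++ (j9_562_4 ++ (j9_562_5 ++ (j9_562_6 ++ (j9_562_7 ++ (j9_562_8 ++ (j9_562_9 ++ (j9_562_10 ++ (j9_562_11 ++ (j9_562_12 ++ (j9_562_13 ++ (j9_562_14 ++ [])))))))))))))))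
  (jobs_append t9_562_0 <| jobs_append t9_562_1 <| jobs_append t9_562_2 <| jobs_append t9_562_3 <| jobs_append t9_562_4 <| jobs_append t9_562_5 <| jobs_append t9_562_6 <| jobs_append t9_562_7 <| jobs_append t9_562_8 <| jobs_append t9_562_9 <| jobs_append t9_562_10 <| jobs_append t9_562_11 <| jobs_append t9_562_12 <| jobs_append t9_562_13 <| jobs_append t9_562_14 <| List.forall_mem_nil _) (by decide +kernel)

noncomputable def j9_563_0 : List Job := [
  ⟨62, 0x4a8572814c88472010c2e15098440e0501, 0, 4, 0x201000401000601000801, []⟩]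

theorem t9_563_0 : jobs 8 S9 b8_563 j9_563_0 = true := by decide +kernel

noncomputable def j9_563_1 : List Job := [
  ⟨61, 0x4ae55299448e45219042e15098440e0501, 0, 29, 0x201000401000601000801000a01000c01000e01001001001201, []⟩]

theorem t9_563_1 : jobs 8 S9 b8_563 j9_563_1 = true := by decide +kernel

noncomputable def j9_563_2 : List Job := [
  ⟨58, 0x4e0723a1dcd06a361bcb05a2e17c8447201146837180cc542d140bc301a0e07c0e0501, 0, 12, 0x204000605000e04001205, []⟩]

theorem t9_563_2 : jobs 8 S9 b8_563 j9_563_2 = true := by decide +kernel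

noncomputable def j9_563_3 : List Job := [
  ⟨57, 0x4e877381ccd46d341bcb05a2e17c8e45219046837180cc542d140bc301a0e07c0e0501, 0, 12, 0x204000605000e04001205, []⟩]

theorem t9_563_3 : jobs 8 S9 b8_563 j9_563_3 = true := by decide +kernel

noncomputable def j9_563_4 : List Job := [
  ⟨56, 0x4f07a3e1fce0723a1dcd86f341acc4653019c301a0e07c241708054100a0603c0e0501, 0, 10, 0x204000805000a04001405, []⟩]

theorem t9_563_4 : jobs 8 S9 b8_563 j9_563_4 = true := by decide +kernel

noncomputable def j9_563_5 : List Job := [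
  ⟨55, 0x4f47d3c1fce0723a1dcd06a361bcc8673018c301a0e07c241708054100a0603c0e0501, 0, 12, 0x204000804000e04001404, []⟩]

theorem t9_563_5 : jobs 8 S9 b8_563 j9_563_5 = true := by decide +kernel

noncomputable def j9_563_6 : List Job := [
  ⟨54, 0x4b45d2c17ca45728154984f2412c844720114301a0e07c241708054100a0603c0e0501, 0, 10, 0x205000e05, []⟩]

theorem t9_563_6 : jobs 8 S9 b8_563 j9_563_6 = true := by decide +kernel

noncomputable def j9_563_7 : List Job := [
  ⟨53, 0x4b05a2e17ca45728154904a2613c8e4521904301a0e07c241708054100a0603c0e0501, 0, 16, 0x200000a04000e01001204001e01, [(0, ⟨2509, 0x830165012000100105010a00010102000001, 0x1833408020050500404⟩)]⟩]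

theorem t9_563_7 : jobs 8 S9 b8_563 j9_563_7 = true := by decide +kernel

noncomputable def j9_563_8 : List Job := [
  ⟨52, 0x4743d1c0fc60321a0dc502a160bc48271008c301a0e07c241708054100a0603c0e0501, 0, 10, 0x401000805000c01001001001205, []⟩]

theorem t9_563_8 : jobs 8 S9 b8_563 j9_563_8 = true := by decide +kernel

noncomputable def j9_563_9 : List Job := [
  ⟨51, 0x4743d1c0fc60321a0dc502a160bc48271008c301a0e07c241708054100a0603c0e0501, 0, 12, 0x204000401000804000a01000e04001001001404001601, []⟩]

theorem t9_563_9 : jobs 8 S9 b8_563 j9_563_9 = true := by decide +kernel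

noncomputable def j9_563_10 : List Job := [
  ⟨49, 0x4c8673018c88472010c4e25118840e0501, 0, 3, 0x201000401000601, []⟩]

theorem t9_563_10 : jobs 8 S9 b8_563 j9_563_10 = true := by decide +kernel

noncomputable def j9_563_11 : List Job := [
  ⟨47, 0x4e477381d4c0623219ca0522a15c80422211c60321a0dc48271008c24150805c0e0501, 0, 12, 0x201000a01000e01001601, []⟩]

theorem t9_563_11 : jobs 8 S9 b8_563 j9_563_11 = true := by decide +kernel

noncomputable def j9_563_12 : List Job := [
  ⟨45, 0x4ce65319848e45219044e25118840e0501, 0, 3, 0x201000401000601, []⟩]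

theorem t9_563_12 : jobs 8 S9 b8_563 j9_563_12 = true := by decide +kernel

noncomputable def j9_563_13 : List Job := [
  ⟨43, 0x4e0723a1dcc8673018ca4552815c8e452190460321a0dc48271008c24150805c0e0501, 0, 12, 0x205000404000801000a01000e05001004001401001601, []⟩]

theorem t9_563_13 : jobs 8 S9 b8_563 j9_563_13 = true := by decide +kernel

noncomputable def j9_563_14 : List Job := [
  ⟨42, 0x484462513c8044241341e0d058240e0501, 0, 8, 0x204000405, []⟩]

theorem t9_563_14 : jobs 8 S9 b8_563 j9_563_14 = true := by decide +kernel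

noncomputable def j9_563_15 : List Job := [
  ⟨41, 0x484462513c8044241341e0d058240e0501, 0, 7, 0x204000404, []⟩]

theorem t9_563_15 : jobs 8 S9 b8_563 j9_563_15 = true := by decide +kernel

noncomputable def j9_563_16 : List Job := [
  ⟨40, 0x4a457281548447201142e15098440e0501, 0, 32, 0x204000604002204002804002a04002c05003604003805, []⟩]

theorem t9_563_16 : jobs 8 S9 b8_563 j9_563_16 = true := by decide +kernel

noncomputable def j9_563_17 : List Job := [
  ⟨39, 0x4a457281548447201142e15098440e0501, 0, 21, 0x204000804001604001c04002004002604, []⟩]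

theorem t9_563_17 : jobs 8 S9 b8_563 j9_563_17 = true := by decide +kernel

noncomputable def j9_563_18 : List Job := [
  ⟨38, 0x4944f241348447201141e0d058240e0501, 0, 32, 0x204000804002404002805003808003c08, []⟩]

theorem t9_563_18 : jobs 8 S9 b8_563 j9_563_18 = true := by decide +kernel

noncomputable def j9_563_19 : List Job := [
  ⟨37, 0x4944f241348447201141e0d058240e0501, 0, 21, 0x204000605002008002604, []⟩]

theorem t9_563_19 : jobs 8 S9 b8_563 j9_563_19 = true := by decide +kernel

noncomputable def j9_563_20 : List Job := [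
  ⟨36, 0x43e1d0d8642e15098441e0d058240e0501, 0, 46, 0x208001a01002201002a01003608004608004c08005001005801, []⟩]

theorem t9_563_20 : jobs 8 S9 b8_563 j9_563_20 = true := by decide +kernel

noncomputable def j9_563_21 : List Job := [
  ⟨35, 0x43e1d0d8642e15098441e0d058240e0501, 0, 38, 0x208000401001401001601001c01001e01002001002201002601002801002c01002e01003400003601003c01003e01004208004808, [(25, ⟨2466, 0x1fa01660093800740206000a000100410020001, 0x1d6340a43a060080814⟩)]⟩]

theorem t9_563_21 : jobs 8 S9 b8_563 j9_563_21 = true := by decide +kernel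

noncomputable def j9_563_22 : List Job := [
  ⟨34, 0x4b85f2c16ca8572814c984f2412c88472010c3e1d0d8642e15098441e0d058240e0501, 0, 97, 0x208001808001e08002608002801002a08002e08003001003408003601003808003c08003e01004208004401004808004a01004c08005008005201005608005801005a08006608007608007e08008608008c08008e01009408009601009a08009c0100a00800a20100a40800a80900aa0100ae0800b00100b60800b80100ba0800be0800c001, []⟩]

theorem t9_563_22 : jobs 8 S9 b8_563 j9_563_22 = true := by decide +kernel

noncomputable def j9_563_23 : List Job := [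
  ⟨33, 0x4b85f2c16ca8572814c984f2412c88472010c3e1d0d8642e15098441e0d058240e0501, 0, 73, 0x208000401000801001208001808001a01002008002201002608002e09003601003801003c09003e01004a00004c01005001005201005608005e08006600006801006c09007410007e00008001008401008609008801008c08, [(62, ⟨2401, 0x4500048000580004000010010800002004100000001, 0x18c2209420040082004⟩), (50, ⟨2400, 0x4500048000580004000810010800002004100000001, 0x18c2209420040082004⟩), (36, ⟨2399, 0x4500048000580004000810010800002004100000001, 0x18c2209420040082004⟩)]⟩]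

theorem t9_563_23 : jobs 8 S9 b8_563 j9_563_23 = true := by decide +kernel

noncomputable def j9_563_24 : List Job := [
  ⟨32, 0x4e0723c1ecc062341ac301b0804c160901, 0, 28, 0x1601001a01002e02003201003601003802, []⟩]

theorem t9_563_24 : jobs 8 S9 b8_563 j9_563_24 = true := by decide +kernel

noncomputable def j9_563_25 : List Job := [
  ⟨31, 0x4a4592816c844b20124301b0804c160901, 0, 26, 0x203000603000a01000e01002202002602002a01002c01, []⟩]

theorem t9_563_25 : jobs 8 S9 b8_563 j9_563_25 = true := by decide +kernel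

noncomputable def j9_563_26 : List Job := [
  ⟨30, 0x4703b180cc582f1209c381f0a05c160901, 0, 36, 0x202000e02003e03004203004803, []⟩]

theorem t9_563_26 : jobs 8 S9 b8_563 j9_563_26 = true := by decide +kernel

noncomputable def j9_563_27 : List Job := [
  ⟨29, 0x4783f1a0dc502b1008c381f0a05c160901, 0, 36, 0x202000e02003c03004003004603, []⟩]

theorem t9_563_27 : jobs 8 S9 b8_563 j9_563_27 = true := by decide +kernel

noncomputable def j9_563_28 : List Job := [
  ⟨28, 0x4703b180cc502b1008c301b0804c160901, 0, 48, 0x201000401000601000801000a01000c01000e01001001001201001401001601001801002a01002c01002e01003001003201003401003601003801003a03003e01004203004601004a02005602, []⟩]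

theorem t9_563_28 : jobs 8 S9 b8_563 j9_563_28 = true := by decide +kernel

noncomputable def j9_563_29 : List Job := [
  ⟨27, 0x43e1d0d8642e15098441e0d058240e0501, 0, 28, 0x204000401001401002004002201002601002801002a01002e01003204003801, []⟩]

theorem t9_563_29 : jobs 8 S9 b8_563 j9_563_29 = true := by decide +kernel

noncomputable def j9_563_30 : List Job := [
  ⟨26, 0x43e1d0d8642e15098441e0d058240e0501, 0, 20, 0x204000401001201001400001601001a01001c01002004002601002801, [(9, ⟨2465, 0x10a016f0013000400006000c008200008000001, 0x18b3688c20060100412⟩)]⟩]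

theorem t9_563_30 : jobs 8 S9 b8_563 j9_563_30 = true := by decide +kernel

noncomputable def j9_563_31 : List Job := [
  ⟨25, 0x4e0723a1dcd06a361bcb45d2c17c8447201146837180cc582f140ac381f0c06c0e0501, 0, 56, 0x202001202001803001e02002403002e02003802004403004e03005603, []⟩]

theorem t9_563_31 : jobs 8 S9 b8_563 j9_563_31 = true := by decide +kernel

noncomputable def j9_563_32 : List Job := [
  ⟨24, 0x4f07a3e1fcc0623219cb45d2c17c844720114783f1c0ec48271008c381f0c06c0e0501, 0, 56, 0x202001202001403001e02002003002e02003802004203004c03005803, []⟩]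

theorem t9_563_32 : jobs 8 S9 b8_563 j9_563_32 = true := by decide +kernel

noncomputable def j9_563_33 : List Job := [
  ⟨23, 0x4e0723a1dcc0623219ca4552815c8447201146837180cc48271008c28170804c0e0501, 0, 96, 0x200000601000c01000e03001601001801001a03001e01002201002600002a01002e03003001003201003602003a01003c01004203004a03004e01005201005401005603005a01006001006202006a01006c01006e02007201007601007a01007e03008201008a02009202009602009a02009c02009e0200a20300b60300ba02, [(18, ⟨2394, 0x224007b000a400110001c01090000c00010040001, 0x1843909022050500c02⟩), (0, ⟨2393, 0x224017b004a401110001c01090040c00010000001, 0x1843909022050500c02⟩)]⟩]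

theorem t9_563_33 : jobs 8 S9 b8_563 j9_563_33 = true := by decide +kernel

noncomputable def j9_563_34 : List Job := [
  ⟨22, 0x4f07a3e1fce0723a1dcd06a361bcc0623219cb05a2e17ca0522a15c904a2613c80422211c7e3d1d8e46e35198c45e2d158a44e25118843e1d0d8642e15098441e0d058240e0501, 0, 138, 0x200001010001601001801001a01001c01002200002c00003201003424003601003801003e01004001004601004801004c01004e01005001005201005612005801005a01005e01006001006412006601006801006c01006e01007001007401007601007801007a01007e01008001008201008601008801008c01008e20009001009401009601009a01009c01009e0100a00100a20100a41300a60100a80100ac0100ae0100b00100b21300b40100b60100b80100ba0100be0100c00100c20100c40100c60100c80100ca0100d00100d20100d40100d60100da0100dc0100de0100e00100e21000e40100ea0100ec0100f00000f20100f40100f80100fa0100fe00010001010201010601010801010c00010e01011001, [(133, ⟨2382, 0xa8001d300011800020000080011c0008080040c00000001, 0x1d14a08438100400c04⟩), (126, ⟨2381, 0x1ba0014b0001300007000208001080008180000400200001, 0x1d3230ac38040400c02⟩),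 (119, ⟨2379, 0x15c0005b000148004480000a000080000100040400200001, 0x1aa2a89424040480802⟩), (21, ⟨2378, 0xa60018b0009880042000208001100008080000800000001, 0x1534389808100400404⟩), (16, ⟨2380, 0x82000910009a00002000008001100008080000800000001, 0x146410b008100400404⟩), (0, ⟨2377, 0x82001910009a00002000008000100000080040800000001, 0x146410b008100400404⟩)]⟩]

theorem t9_563_34 : jobs 8 S9 b8_563 j9_563_34 = true := by decide +kernel

noncomputable def j9_563_35 : List Job := [
  ⟨21, 0x43e1d0d8642e15098441e0d058240e0501, 0, 1, 0x208, []⟩]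

theorem t9_563_35 : jobs 8 S9 b8_563 j9_563_35 = true := by decide +kernel

theorem d9_563 : Dn 8 S9 b8_563 := dn_of (Js := j9_563_0 ++ (j9_563_1 ++ (j9_563_2 ++ (j9_563_3 ++ (j9_563_4 ++ (j9_563_5 ++ (j9_563_6 ++ (j9_563_7 ++ (j9_563_8 ++ (j9_563_9 ++ (j9_563_10 ++ (j9_563_11 ++ (j9_563_12 ++ (j9_563_13 ++ (j9_563_14 ++ (j9_563_15 ++ (j9_563_16 ++ (j9_563_17 ++ (j9_563_18 ++ (j9_563_19 ++ (j9_563_20 ++ (j9_563_21 ++ (j9_563_22 ++ (j9_563_23 ++ (j9_563_24 ++ (j9_563_25 ++ (j9_563_26 ++ (j9_563_27 ++ (j9_563_28 ++ (j9_563_29 ++ (j9_563_30 ++ (j9_563_31 ++ (j9_563_32 ++ (j9_563_33 ++ (j9_563_34 ++ (j9_563_35 ++ []))))))))))))))))))))))))))))))))))))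
  (jobs_append t9_563_0 <| jobs_append t9_563_1 <| jobs_append t9_563_2 <| jobs_append t9_563_3 <| jobs_append t9_563_4 <| jobs_append t9_563_5 <| jobs_append t9_563_6 <| jobs_append t9_563_7 <| jobs_append t9_563_8 <| jobs_append t9_563_9 <| jobs_append t9_563_10 <| jobs_append t9_563_11 <| jobs_append t9_563_12 <| jobs_append t9_563_13 <| jobs_append t9_563_14 <| jobs_append t9_563_15 <| jobs_append t9_563_16 <| jobs_append t9_563_17 <| jobs_append t9_563_18 <| jobs_append t9_563_19 <| jobs_append t9_563_20 <| jobs_append t9_563_21 <| jobs_append t9_563_22 <| jobs_append t9_563_23 <| jobs_append t9_563_24 <| jobs_append t9_563_25 <| jobs_append t9_563_26 <| jobs_append t9_563_27 <| jobs_append t9_563_28 <| jobs_append t9_563_29 <| jobs_append t9_563_30 <| jobs_append t9_563_31 <| jobs_append t9_563_32 <| jobs_append t9_563_33 <| jobs_append t9_563_34 <| jobs_append t9_563_35 <| List.forall_mem_nil _) (by decide +kernel)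

noncomputable def j9_564_0 : List Job := [
  ⟨63, 0x5d0ea763b9e0f27a3ddc0e272399f0fa7e3fd90ca66339a0d26a35d80c262319b0da6e37d08864a25d00824824ca0522a158b05a2e17c804222118904a2613c28170804c0e0501, 0, 46, 0x4601005601, []⟩]

theorem t9_564_0 : jobs 8 S9 b8_564 j9_564_0 = true := by decide +kernel

noncomputable def j9_564_1 : List Job := [
  ⟨62, 0x4502a160bc40221209c140f040340e0501, 0, 33, 0x1405, []⟩]

theorem t9_564_1 : jobs 8 S9 b8_564 j9_564_1 = true := by decide +kernel

noncomputable def j9_564_2 : List Job := [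
  ⟨61, 0x5d0ea763b9e0f27a3ddc0e272399f0fa7e3fd108a46239309a4e27d00824221920924a25c502a160bc40221209c180f0402c0e0501, 0, 33, 0xa03002c03, []⟩]

theorem t9_564_2 : jobs 8 S9 b8_564 j9_564_2 = true := by decide +kernel

noncomputable def j9_564_3 : List Job := [
  ⟨60, 0x5d0ea763b9e0f27a3dd00824221920924a25c301a0e07c20120a05c180f0402c0e0501, 0, 76, 0x3a01003c01004002004203004802004a02004e01005401005801005a01005e01006401008e01009001009203009601, []⟩]

theorem t9_564_3 : jobs 8 S9 b8_564 j9_564_3 = true := by decide +kernel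

noncomputable def j9_564_4 : List Job := [
  ⟨59, 0x5c0e272399f0fa7e3fd00824221920924a25c703a1e0fc60321a0dc542d140bc442710094301a0e07c20120a05c180f0402c0e0501, 0, 156, 0x200000600000c00001401001c01002401002c01002e04003205003401003604003801003a05003e04004205004604004a05004e01005001005201005401005601005801005a01006001006401006801006c01006e02007003007203007603007a02007c03007e02008402008603008a02009002009201009402009602009801009a01009c01009e0100a00100a20100a40100a60100a80100aa0100ac0100ae0100b00100b20600b60600b80100ba0600bc0100be0700c20600c60700ca0700ce0600ee0100f00100f20500f40500f60400f80100fa0100fc01010001010201010801010c01011001011404011601011c01011e03012203012403012603012803012c02012e02013203013602, [(5, ⟨2583, 0x294015e000ec00160042c00070000c01030000400, 0x6b8ac8f229090280601⟩), (2, ⟨2581, 0x29c014a004ec00160042c00070000c01030000400, 0x6b9244f229090280601⟩), (0, ⟨2579, 0x23400420008000120042401050000801020000400, 0x68ca088024088240401⟩)]⟩]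

theorem t9_564_4 : jobs 8 S9 b8_564 j9_564_4 = true := by decide +kernel

noncomputable def j9_564_5 : List Job := [
  ⟨58, 0x4341d0c07c28170804c140f040340e0501, 0, 27, 0x405000604000805001604001804001a05001c05001e05002005002205002404003005003205003404003605, []⟩]

theorem t9_564_5 : jobs 8 S9 b8_564 j9_564_5 = true := by decide +kernel

noncomputable def j9_564_6 : List Job := [
  ⟨57, 0x590ca66339a0d26a35d80c262319b0da6e37d108a46239309a4e27d00824221920924a25c341d0c07c28170804c140f040340e0501, 0, 28, 0x405001604001c05, []⟩]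

theorem t9_564_6 : jobs 8 S9 b8_564 j9_564_6 = true := by decide +kernel

noncomputable def j9_564_7 : List Job := [
  ⟨56, 0x4e0723a1d8f07a3e1fcc06232198d06a361bca4562c174a0542d17c84462513c804424134341d0c07c28170804c140f040340e0501, 0, 31, 0x404000804000c00, [(5, ⟨2664, 0x1b20169009300060001c0004008180008020001, 0x1fb358943a0d0200406⟩)]⟩]

theorem t9_564_7 : jobs 8 S9 b8_564 j9_564_7 = true := by decide +kernel

noncomputable def j9_564_8 : List Job := [
  ⟨55, 0x594cc6835d90ce6935584c46d37580c66c37d188e4c26d108a4e27d08864a25d00824824ce0723a1d8f07a3e1fcc06232198d06a361bca4562c174a0542d17c84462513c804424134341d0c07c28170804c140f040340e0501, 0, 42, 0x400001000, [(7, ⟨2663, 0x138016e00920044402180104008180408000001, 0x19a36890260c0200406⟩), (1, ⟨2662, 0x15e016700928045c021c0106008180008000001, 0x1ad308982e0c0280406⟩)]⟩]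

theorem t9_564_8 : jobs 8 S9 b8_564 j9_564_8 = true := by decide +kernel

noncomputable def j9_564_9 : List Job := [
  ⟨54, 0x4e0723a1d8f07a3e1fc84462513c804424134502a160bc40221209c140f040340e0501, 0, 68, 0xa04000c04000e04001205001405001605001a04001c04001e05004a05005205005a04006205006404006604007a05008204, []⟩]

theorem t9_564_9 : jobs 8 S9 b8_564 j9_564_9 = true := by decide +kernel

noncomputable def j9_564_10 : List Job := [
  ⟨53, 0x590ca66339a0d26a35d80c262319b0da6e37d108a46239309a4e27d00824221920924a25ce0723a1d8f07a3e1fc84462513c804424134502a160bc40221209c140f040340e0501, 0, 68, 0xa04000c04001605004a05, []⟩]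

theorem t9_564_10 : jobs 8 S9 b8_564 j9_564_10 = true := by decide +kernel

noncomputable def j9_564_11 : List Job := [
  ⟨52, 0x4e0723a1d8f07a3e1fcc06232198d06a361bc703a1e0fc60321a0dc502a160bc40221209c341d0c07c28170804c140f040340e0501, 0, 47, 0xc00002200002401002801002a01002c01003401003601003c01004c04005404, [(16, ⟨2660, 0x23c004f000a800130042c01050000401020000001, 0x18e270a8260b0300404⟩), (5, ⟨2661, 0x23c004f000a801130042c00050040401020040001, 0x18e270a8260b0300404⟩)]⟩]

theorem t9_564_11 : jobs 8 S9 b8_564 j9_564_11 = true := by decide +kernel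

noncomputable def j9_564_12 : List Job := [
  ⟨51, 0x4a4562c174a0542d17c84462513c804424134703a1e0fc60321a0dc502a160bc40221209c341d0c07c28170804c140f040340e0501, 0, 47, 0x604000a04002200002401002801002a00002c01003801003a01003c01005804, [(20, ⟨2654, 0x23c004f000a801130002c00050000401020000001, 0x18e270a8260b0300404⟩), (16, ⟨2653, 0x37c00400008401180002400060040401020000001, 0x1d520088340a0280404⟩)]⟩]

theorem t9_564_12 : jobs 8 S9 b8_564 j9_564_12 = true := by decide +kernel

noncomputable def j9_564_13 : List Job := [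
  ⟨50, 0x580c262319b0da6e37d00824221920924a25ce0723a1d8f07a3e1fc84462513c804424134301a0e07c20120a05c140f040340e0501, 0, 116, 0x204000c04000e04003204006a0400a40400aa0500b00400d404, []⟩]

theorem t9_564_13 : jobs 8 S9 b8_564 j9_564_13 = true := by decide +kernel

noncomputable def j9_564_14 : List Job := [
  ⟨49, 0x580c262319b0da6e37d00824221920924a25cc06232198d06a361bc88462613c80422412c703a1e0fc60321a0dc542d140bc442710094301a0e07c20120a05c180f0402c0e0501, 0, 196, 0x200000a00001200001a00002200002a00003200003a00004200004c01005401005c01006401006a01006c01006e01007201007401007601007a01007c01007e01008201008401008601008a00009200009a0000a20000aa0100ac0100b40100b60100bc0100c20100c40100c60100ca0100cc0000ce0100d20100d60100dc0100e40100ec0100f20100f60100fa0100fe01010201010601012202012402012603012a02012e03013202013603015203015602015a03015e02016203016602016a04016c01016e05017205017604017a04017e04018204018605, [(101, ⟨2649, 0x26401420008000120042800050040800010000001, 0x19921080240a0280802⟩), (80, ⟨2642, 0x26400420008000120042800050000800010000001,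 0x19921080240a0280802⟩), (76, ⟨2640, 0x26400420008000120042800050000800010000001, 0x19921080240a0280802⟩), (72, ⟨2641, 0x26400420008000120042800050000800010000001, 0x19921080240a0280802⟩), (68, ⟨2639, 0x26400420008000120042800050000800010000001, 0x19921080240a0280802⟩), (32, ⟨2647, 0x2e800430008c00170042c00050040c00010000001, 0x1bd210882e0a0280c02⟩), (28, ⟨2648, 0x2e801430008c00170042c01050040c00010000001, 0x1bd210882e0a0280c02⟩), (24, ⟨2646, 0x2e800430008c00170042c00050040c00010000001, 0x1bd210882e0a0280c02⟩), (20, ⟨2577, 0x2c4005c0009c00140002001040000c01030000400, 0x6b1ac09428080200601⟩), (16, ⟨2578, 0x2e80143000d001170042c01050000c01030000400, 0x6aca08c42d0a0240601⟩), (12, ⟨2575, 0x2e800430008c00170042c00050000c01030000400, 0x6bca08842d090240601⟩), (8, ⟨2644, 0x2e800430008c00170002c00050040c00010000001, 0x1bd210882e0a0280c02⟩), (4, ⟨2645, 0x2e801430008c00170002c01050040c00010000001, 0x1bd210882e0a0280c02⟩), (0, ⟨2643, 0x2e800430008c00170002c00050040c00010000001, 0x1bd210882e0a0280c02⟩)]⟩]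

theorem t9_564_14 : jobs 8 S9 b8_564 j9_564_14 = true := by decide +kernel

noncomputable def j9_564_15 : List Job := [
  ⟨48, 0x590ca66339a0d26a35d80c262319b0da6e37d40a25229960b25a2dc804222118904a2613c60321a0dc502a160bc381f0c06c0e0501, 0, 70, 0x3002004a03004e03005203005402, []⟩]

theorem t9_564_15 : jobs 8 S9 b8_564 j9_564_15 = true := by decide +kernel

noncomputable def j9_564_16 : List Job := [
  ⟨47, 0x594ce6835590cc6935d84c66d37d80c46c37500824221920924a25c804222118904a2613c60321a0dc502a160bc341f0c0740e0501, 0, 70, 0x4a04005804006405006c04007a04, []⟩]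

theorem t9_564_16 : jobs 8 S9 b8_564 j9_564_16 = true := by decide +kernel

noncomputable def j9_564_17 : List Job := [
  ⟨46, 0x590ca66339a0d26a35d80c262319b0da6e37c804222118904a2613c301a0e07c0e0501, 0, 48, 0x0, []⟩]

theorem t9_564_17 : jobs 8 S9 b8_564 j9_564_17 = true := by decide +kernel

noncomputable def j9_564_18 : List Job := [
  ⟨45, 0x540a25229960b25a2dd00824221920924a25c804222118904a2613c301a0e07c0e0501, 0, 44, 0x0, []⟩]

theorem t9_564_18 : jobs 8 S9 b8_564 j9_564_18 = true := by decide +kernel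

noncomputable def j9_564_19 : List Job := [
  ⟨44, 0x484442513480462413c301a0e07c0e0501, 0, 44, 0x1207001404002207, []⟩]

theorem t9_564_19 : jobs 8 S9 b8_564 j9_564_19 = true := by decide +kernel

noncomputable def j9_564_20 : List Job := [
  ⟨43, 0x590ca66339a0d26a35d80c262319b0da6e37d40a25229960b25a2dd00824221920924a25c88462613c80422412c301a0e07c0e0501, 0, 64, 0x1203, []⟩]

theorem t9_564_20 : jobs 8 S9 b8_564 j9_564_20 = true := by decide +kernel

noncomputable def j9_564_21 : List Job := [
  ⟨42, 0x484442513480462413c1e0d058240e0501, 0, 12, 0x202001205001403, []⟩]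

theorem t9_564_21 : jobs 8 S9 b8_564 j9_564_21 = true := by decide +kernel

noncomputable def j9_564_22 : List Job := [
  ⟨41, 0x550aa562b970ba5e2fd40a25229960b25a2dd108a46239309a4e27d00824221920924a25c88462613c80422412c1e0d058240e0501, 0, 31, 0x207001e03002e01003201003801003c01003e01, []⟩]

theorem t9_564_22 : jobs 8 S9 b8_564 j9_564_22 = true := by decide +kernel

noncomputable def j9_564_23 : List Job := [
  ⟨40, 0x48c4f22134844b201241e0d058240e0501, 0, 17, 0x202000605000804000e04001205001804, []⟩]

theorem t9_564_23 : jobs 8 S9 b8_564 j9_564_23 = true := by decide +kernel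

noncomputable def j9_564_24 : List Job := [
  ⟨39, 0x5d0ea763b9e0f27a3ddc0e272399f0fa7e3fd90ca66339a0d26a35d80c262319b0da6e37d50aa562b970ba5e2fd40a25229960b25a2dd108a46239309a4e27d00824221920924a25c8c4f22134844b201241e0d058240e0501, 0, 35, 0x204000802001a01, []⟩]

theorem t9_564_24 : jobs 8 S9 b8_564 j9_564_24 = true := by decide +kernel

noncomputable def j9_564_25 : List Job := [
  ⟨38, 0x5a4d46d375a0d66c37d04864523d00844423488462613c80422412c1e0d058240e0501, 0, 15, 0xe08, []⟩]

theorem t9_564_25 : jobs 8 S9 b8_564 j9_564_25 = true := by decide +kernel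

noncomputable def j9_564_26 : List Job := [
  ⟨37, 0x43e1d0d8642e15098441e0d058240e0501, 0, 20, 0x210001019001410001608001e10, []⟩]

theorem t9_564_26 : jobs 8 S9 b8_564 j9_564_26 = true := by decide +kernel

noncomputable def j9_564_27 : List Job := [
  ⟨36, 0x5108a46239309a4e27c804222118904a2613c40221209c0e0501, 0, 60, 0x0, []⟩]

theorem t9_564_27 : jobs 8 S9 b8_564 j9_564_27 = true := by decide +kernel

noncomputable def j9_564_28 : List Job := [
  ⟨35, 0x440221209c0e0501, 0, 26, 0x0, []⟩]

theorem t9_564_28 : jobs 8 S9 b8_564 j9_564_28 = true := by decide +kernel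

noncomputable def j9_564_29 : List Job := [
  ⟨34, 0x540a25229960b25a2dd108a46239309a4e27ce0723a1d8f07a3e1fc804222118904a2613c40221209c0e0501, 0, 26, 0x0, []⟩]

theorem t9_564_29 : jobs 8 S9 b8_564 j9_564_29 = true := by decide +kernel

noncomputable def j9_564_30 : List Job := [
  ⟨33, 0x5108a46239309a4e27c804222118904a2613c743d1c0fc48271008c341f0c0740e0501, 0, 70, 0x204000604000a04004e04005004005205005605005805005a04005e04006205006604006a05006e05007204007605007805007a04007c04007e04008001008201008401008601008801008a01008c04, []⟩]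

theorem t9_564_30 : jobs 8 S9 b8_564 j9_564_30 = true := by decide +kernel

noncomputable def j9_564_31 : List Job := [
  ⟨32, 0x540a25229960b25a2dc804222118904a2613c783f1c0ec0e0501, 0, 60, 0x404000803000c03001004005202005605005a02005e07006402006802, []⟩]

theorem t9_564_31 : jobs 8 S9 b8_564 j9_564_31 = true := by decide +kernel

noncomputable def j9_564_32 : List Job := [
  ⟨31, 0x4804222118904a2613c301a0e07c0e0501, 0, 32, 0x0, []⟩]

theorem t9_564_32 : jobs 8 S9 b8_564 j9_564_32 = true := by decide +kernel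

noncomputable def j9_564_33 : List Job := [
  ⟨30, 0x540a25229960b25a2dd108a46239309a4e27c84462513c804424134301a0e07c0e0501, 0, 40, 0x1e05, []⟩]

theorem t9_564_33 : jobs 8 S9 b8_564 j9_564_33 = true := by decide +kernel

noncomputable def j9_564_34 : List Job := [
  ⟨29, 0x5c0e272399f0fa7e3fd80c262319b0da6e37c7e3d1d8e40e0501, 0, 30, 0x204000604001e05002205002806002c05003405003c06, []⟩]

theorem t9_564_34 : jobs 8 S9 b8_564 j9_564_34 = true := by decide +kernel

noncomputable def j9_564_35 : List Job := [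
  ⟨28, 0x5d0ea763b9e0f27a3dd90ca66339a0d26a35ce0723a1d8f07a3e1fc804222118904a2613c7e3d1d8e40e0501, 0, 26, 0x204000602001a03001e06002603002c03002e04, []⟩]

theorem t9_564_35 : jobs 8 S9 b8_564 j9_564_35 = true := by decide +kernel

noncomputable def j9_564_36 : List Job := [
  ⟨27, 0x5d0ea763b9e0f27a3dd80c262319b0da6e37d00824221920924a25c804222118904a2613c40221209c0e0501, 0, 68, 0x1a07001c06, []⟩]

theorem t9_564_36 : jobs 8 S9 b8_564 j9_564_36 = true := by decide +kernel

noncomputable def j9_564_37 : List Job := [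
  ⟨26, 0x550aa562b970ba5e2fc804222118904a2613c743f1c0f40e0501, 0, 48, 0x204000604000a04001406001805002405, []⟩]

theorem t9_564_37 : jobs 8 S9 b8_564 j9_564_37 = true := by decide +kernel

noncomputable def j9_564_38 : List Job := [
  ⟨25, 0x5d0ea763b9e0f27a3ddc0e272399f0fa7e3fd90ca66339a0d26a35d80c262319b0da6e37d00824221920924a25c804222118904a2613c743f1c0f40e0501, 0, 48, 0x204000606000a04001005001c06002005005201005401, []⟩]

theorem t9_564_38 : jobs 8 S9 b8_564 j9_564_38 = true := by decide +kernel

noncomputable def j9_564_39 : List Job := [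
  ⟨24, 0x590ca66339a0d26a35d80c262319b0da6e37c40221209c0e0501, 0, 32, 0x0, []⟩]

theorem t9_564_39 : jobs 8 S9 b8_564 j9_564_39 = true := by decide +kernel

noncomputable def j9_564_40 : List Job := [
  ⟨23, 0x590ca66339a0d26a35d80c262319b0da6e37d50aa562b970ba5e2fd00824221920924a25ce0723a1d8f07a3e1fc804222118904a2613c40221209c0e0501, 0, 32, 0x3a01003c01, []⟩]

theorem t9_564_40 : jobs 8 S9 b8_564 j9_564_40 = true := by decide +kernel

noncomputable def j9_564_41 : List Job := [
  ⟨22, 0x5d0ea763b9e0f27a3ddc0e272399f0fa7e3fd94ce6835590cc6935d84c66d37d80c46c37500824221920924a25c804222118904a2613c743d1c0fc48271008c341f0c0740e0501, 0, 78, 0x200000600000a00005600006200006600006e00007a00007e00008601008c01008e01009401009601009c01, [(62, ⟨2601, 0x130004b0013804440210010600008040c020001, 0x1992509424080380c04⟩), (60, ⟨2600, 0x1da012700a480470000a0109008180004000001, 0x1e21392038050480c02⟩), (54, ⟨2599, 0x130004b0013804440210010600008040c020001, 0x1992509424080380c04⟩), (50, ⟨2598, 0x130004b0013800440210010600808040c020001,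 0x1992509424080380c04⟩), (48, ⟨2597, 0x1da0127002480070020a0009000180404020001, 0x1e21392038050480c02⟩), (42, ⟨2596, 0x130004b0013800440210010600808040c020001, 0x1992509424080380c04⟩), (4, ⟨2577, 0x1c4005200b1804700214010c008180404020401, 0x7a12a5d428088600202⟩), (2, ⟨2578, 0x1d00143003a0007c0210010f008180404020401, 0x7b1211e028080680202⟩), (0, ⟨2575, 0x1de004800b7804700212010c008180404020401, 0x7a0251b228090700202⟩)]⟩]

theorem t9_564_41 : jobs 8 S9 b8_564 j9_564_41 = true := by decide +kernel

noncomputable def j9_564_42 : List Job := [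
  ⟨21, 0x5c0e272399f0fa7e3fd80c262319b0da6e37d00824221920924a25c804222118904a2613c743f1c0f40e0501, 0, 68, 0x405000805000c05001003001405001805005a04006603006a04, []⟩]

theorem t9_564_42 : jobs 8 S9 b8_564 j9_564_42 = true := by decide +kernel

noncomputable def j9_564_43 : List Job := [
  ⟨20, 0x5d0ea763b9e0f27a3dd80c262319b0da6e37c40221209c0e0501, 0, 30, 0x0, []⟩]

theorem t9_564_43 : jobs 8 S9 b8_564 j9_564_43 = true := by decide +kernel

noncomputable def j9_564_44 : List Job := [
  ⟨19, 0x5c0e272399f0fa7e3fd90ca66339a0d26a35ce0723a1d8f07a3e1fc804222118904a2613c40221209c0e0501, 0, 26, 0x0, []⟩]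

theorem t9_564_44 : jobs 8 S9 b8_564 j9_564_44 = true := by decide +kernel

noncomputable def j9_564_45 : List Job := [
  ⟨18, 0x5d0ea763b9e0f27a3ddc0e272399f0fa7e3fd90ca66339a0d26a35d80c262319b0da6e37c804222118904a2613c301a0e07c0e0501, 0, 32, 0x0, []⟩]

theorem t9_564_45 : jobs 8 S9 b8_564 j9_564_45 = true := by decide +kernel

noncomputable def j9_564_46 : List Job := [
  ⟨17, 0x5d0ea763b9e0f27a3ddc0e272399f0fa7e3fd90ca66339a0d26a35d80c262319b0da6e37d50aa562b970ba5e2fd00824221920924a25c88462613c80422412c301a0e07c0e0501, 0, 40, 0x1003, []⟩]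

theorem t9_564_46 : jobs 8 S9 b8_564 j9_564_46 = true := by decide +kernel

noncomputable def j9_564_47 : List Job := [
  ⟨16, 0x47e3d1d8e40e0501, 0, 23, 0x204000c05001003001806001c05001e04002204, []⟩]

theorem t9_564_47 : jobs 8 S9 b8_564 j9_564_47 = true := by decide +kernel

noncomputable def j9_564_48 : List Job := [
  ⟨15, 0x5d0ea763b9e0f27a3ddc0e272399f0fa7e3fd90ca66339a0d26a35d80c262319b0da6e37c7e3d1d8e40e0501, 0, 23, 0x204000c06001006001803001c05001e04, []⟩]

theorem t9_564_48 : jobs 8 S9 b8_564 j9_564_48 = true := by decide +kernel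

noncomputable def j9_564_49 : List Job := [
  ⟨14, 0x550aa562b970ba5e2fd00824221920924a25ce0723a1d8f07a3e1fc804222118904a2613c7e3d1d8e40e0501, 0, 23, 0x204000c06001003001805001c03001e04002205, []⟩]

theorem t9_564_49 : jobs 8 S9 b8_564 j9_564_49 = true := by decide +kernel

noncomputable def j9_564_50 : List Job := [
  ⟨13, 0x5d0ea763b9e0f27a3ddc0e272399f0fa7e3fd90ca66339a0d26a35d80c262319b0da6e37d58ae5e2fd50aa5c2ed08864a25d00824824ce4743d1f4e0763c1fc84442513480462413c7e3d1d8e40e0501, 0, 68, 0x204000a00001c00002a06003402003606003a0600403d004801006238007804008200, [(64, ⟨2595, 0x200005c000f000100002000040000c00020000001, 0x1802e0f020080200406⟩), (13, ⟨2594, 0x23000210015400120041c00090040400020040001, 0x18c1d10822060580404⟩), (4, ⟨2593, 0x23001210015c00120001c00090000400020040001, 0x18c1d90822060580404⟩)]⟩]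

theorem t9_564_50 : jobs 8 S9 b8_564 j9_564_50 = true := by decide +kernel

noncomputable def j9_564_51 : List Job := [
  ⟨12, 0x4c866361bcc062341ac1e0d058240e0501, 0, 12, 0x204001405001607, []⟩]

theorem t9_564_51 : jobs 8 S9 b8_564 j9_564_51 = true := by decide +kernel

noncomputable def j9_564_52 : List Job := [
  ⟨11, 0x590ca66339a0d26a35d80c262319b0da6e37d108a46239309a4e27d00824221920924a25cc866361bcc062341ac1e0d058240e0501, 0, 25, 0x207001803002601002c01003201, []⟩]

theorem t9_564_52 : jobs 8 S9 b8_564 j9_564_52 = true := by decide +kernel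

noncomputable def j9_564_53 : List Job := [
  ⟨10, 0x48c4f22134844b201241e0d058240e0501, 0, 12, 0x204000605000802000e02001205001405, []⟩]

theorem t9_564_53 : jobs 8 S9 b8_564 j9_564_53 = true := by decide +kernel

noncomputable def j9_564_54 : List Job := [
  ⟨9, 0x590ca66339a0d26a35d80c262319b0da6e37d108a46239309a4e27d00824221920924a25c8c4f22134844b201241e0d058240e0501, 0, 27, 0x204000602000802001603002801002c01003401, []⟩]

theorem t9_564_54 : jobs 8 S9 b8_564 j9_564_54 = true := by decide +kernel

noncomputable def j9_564_55 : List Job := [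
  ⟨8, 0x590ca66339a0d26a35d80c262319b0da6e37d108a46239309a4e27cc06232198d06a361bc40221209c0e0501, 0, 48, 0x0, []⟩]

theorem t9_564_55 : jobs 8 S9 b8_564 j9_564_55 = true := by decide +kernel

noncomputable def j9_564_56 : List Job := [
  ⟨7, 0x590ca66339a0d26a35d80c262319b0da6e37d04864925d00844825488462613c80422412c40221209c0e0501, 0, 48, 0x1005005606005807, []⟩]

theorem t9_564_56 : jobs 8 S9 b8_564 j9_564_56 = true := by decide +kernel

theorem d9_564 : Dn 8 S9 b8_564 := dn_of (Js := j9_564_0 ++ (j9_564_1 ++ (j9_564_2 ++ (j9_564_3 ++ (j9_564_4 ++ (j9_564_5 ++ (j9_564_6 ++ (j9_564_7 ++ (j9_564_8 ++ (j9_564_9 ++ (j9_564_10 ++ (j9_564_11 ++ (j9_564_12 ++ (j9_564_13 ++ (j9_564_14 ++ (j9_564_15 ++ (j9_564_16 ++ (j9_564_17 ++ (j9_564_18 ++ (j9_564_19 ++ (j9_564_20 ++ (j9_564_21 ++ (j9_564_22 ++ (j9_564_23 ++ (j9_564_24 ++ (j9_564_25 ++ (j9_564_26 ++ (j9_564_27 ++ (j9_564_28 ++ (j9_564_29 ++ (j9_564_30 ++ (j9_564_31 ++ (j9_564_32 ++ (j9_564_33 ++ (j9_564_34 ++ (j9_564_35 ++ (j9_564_36 ++ (j9_564_37 ++ (j9_564_38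 ++ (j9_564_39 ++ (j9_564_40 ++ (j9_564_41 ++ (j9_564_42 ++ (j9_564_43 ++ (j9_564_44 ++ (j9_564_45 ++ (j9_564_46 ++ (j9_564_47 ++ (j9_564_48 ++ (j9_564_49 ++ (j9_564_50 ++ (j9_564_51 ++ (j9_564_52 ++ (j9_564_53 ++ (j9_564_54 ++ (j9_564_55 ++ (j9_564_56 ++ [])))))))))))))))))))))))))))))))))))))))))))))))))))))))))
  (jobs_append t9_564_0 <| jobs_append t9_564_1 <| jobs_append t9_564_2 <| jobs_append t9_564_3 <| jobs_append t9_564_4 <| jobs_append t9_564_5 <| jobs_append t9_564_6 <| jobs_append t9_564_7 <| jobs_append t9_564_8 <| jobs_append t9_564_9 <| jobs_append t9_564_10 <| jobs_append t9_564_11 <| jobs_append t9_564_12 <| jobs_append t9_564_13 <| jobs_append t9_564_14 <| jobs_append t9_564_15 <| jobs_append t9_564_16 <| jobs_append t9_564_17 <| jobs_append t9_564_18 <| jobs_append t9_564_19 <| jobs_append t9_564_20 <| jobs_append t9_564_21 <| jobs_append t9_564_22 <| jobs_append t9_564_23 <| jobs_append t9_564_24 <| jobs_append t9_564_25 <| jobs_append t9_564_26 <| jobs_append t9_564_27 <| jobs_append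 t9_564_28 <| jobs_append t9_564_29 <| jobs_append t9_564_30 <| jobs_append t9_564_31 <| jobs_append t9_564_32 <| jobs_append t9_564_33 <| jobs_append t9_564_34 <| jobs_append t9_564_35 <| jobs_append t9_564_36 <| jobs_append t9_564_37 <| jobs_append t9_564_38 <| jobs_append t9_564_39 <| jobs_append t9_564_40 <| jobs_append t9_564_41 <| jobs_append t9_564_42 <| jobs_append t9_564_43 <| jobs_append t9_564_44 <| jobs_append t9_564_45 <| jobs_append t9_564_46 <| jobs_append t9_564_47 <| jobs_append t9_564_48 <| jobs_append t9_564_49 <| jobs_append t9_564_50 <| jobs_append t9_564_51 <| jobs_append t9_564_52 <| jobs_append t9_564_53 <| jobs_append t9_564_54 <| jobs_append t9_564_55 <| jobs_append t9_564_56 <| List.forall_mem_nil _) (by decide +kernel)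

noncomputable def j9_565_0 : List Job := [
  ⟨63, 0x520924a259309a4e27d008242219108a4623c2e15098440e0501, 0, 3, 0x401, []⟩]

theorem t9_565_0 : jobs 8 S9 b8_565 j9_565_0 = true := by decide +kernel

noncomputable def j9_565_1 : List Job := [
  ⟨61, 0x520924a259309a4e27d008242219108a4623c2e15098440e0501, 0, 3, 0x401, []⟩]

theorem t9_565_1 : jobs 8 S9 b8_565 j9_565_1 = true := by decide +kernel

noncomputable def j9_565_2 : List Job := [
  ⟨60, 0x4502a160bc0e0501, 0, 16, 0x0, []⟩]

theorem t9_565_2 : jobs 8 S9 b8_565 j9_565_2 = true := by decide +kernel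

noncomputable def j9_565_3 : List Job := [
  ⟨59, 0x4502a160bc0e0501, 0, 16, 0x0, []⟩]

theorem t9_565_3 : jobs 8 S9 b8_565 j9_565_3 = true := by decide +kernel

noncomputable def j9_565_4 : List Job := [
  ⟨58, 0x444251009c0e0501, 0, 20, 0x0, []⟩]

theorem t9_565_4 : jobs 8 S9 b8_565 j9_565_4 = true := by decide +kernel

noncomputable def j9_565_5 : List Job := [
  ⟨57, 0x4502a160bc0e0501, 0, 15, 0x0, []⟩]

theorem t9_565_5 : jobs 8 S9 b8_565 j9_565_5 = true := by decide +kernel

noncomputable def j9_565_6 : List Job := [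
  ⟨56, 0x540a25229950aa562b960b25a2d970ba5e2fd008242219108a4623920924a259309a4e27c502a160bc0e0501, 0, 15, 0x0, []⟩]

theorem t9_565_6 : jobs 8 S9 b8_565 j9_565_6 = true := by decide +kernel

noncomputable def j9_565_7 : List Job := [
  ⟨55, 0x5008242219108a4623920924a259309a4e27c502a160bc0e0501, 0, 20, 0x0, []⟩]

theorem t9_565_7 : jobs 8 S9 b8_565 j9_565_7 = true := by decide +kernel

noncomputable def j9_565_8 : List Job := [
  ⟨54, 0x44e25118840e0501, 0, 15, 0x207000607001806001c07, []⟩]

theorem t9_565_8 : jobs 8 S9 b8_565 j9_565_8 = true := by decide +kernel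

noncomputable def j9_565_9 : List Job := [
  ⟨53, 0x540a25229950aa562b960b25a2d970ba5e2fd008242219108a4623920924a259309a4e27c4e25118840e0501, 0, 15, 0x203000603001802001c03, []⟩]

theorem t9_565_9 : jobs 8 S9 b8_565 j9_565_9 = true := by decide +kernel

noncomputable def j9_565_10 : List Job := [
  ⟨52, 0x4502a160bc0e0501, 0, 15, 0x0, []⟩]

theorem t9_565_10 : jobs 8 S9 b8_565 j9_565_10 = true := by decide +kernel

noncomputable def j9_565_11 : List Job := [
  ⟨51, 0x540a25229950aa562b960b25a2d970ba5e2fd008242219108a4623920924a259309a4e27c502a160bc0e0501, 0, 15, 0x0, []⟩]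

theorem t9_565_11 : jobs 8 S9 b8_565 j9_565_11 = true := by decide +kernel

noncomputable def j9_565_12 : List Job := [
  ⟨50, 0x5008242219108a4623920924a259309a4e27c502a160bc0e0501, 0, 20, 0x0, []⟩]

theorem t9_565_12 : jobs 8 S9 b8_565 j9_565_12 = true := by decide +kernel

noncomputable def j9_565_13 : List Job := [
  ⟨49, 0x5008242219108a4623920924a259309a4e27c44251009c0e0501, 0, 20, 0x0, []⟩]

theorem t9_565_13 : jobs 8 S9 b8_565 j9_565_13 = true := by decide +kernel

noncomputable def j9_565_14 : List Job := [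
  ⟨48, 0x4e0723a1d8f07a3e1fc804222118904a2613c502a160bc0e0501, 0, 22, 0x0, []⟩]

theorem t9_565_14 : jobs 8 S9 b8_565 j9_565_14 = true := by decide +kernel

noncomputable def j9_565_15 : List Job := [
  ⟨47, 0x448271008c0e0501, 0, 15, 0x202000602, []⟩]

theorem t9_565_15 : jobs 8 S9 b8_565 j9_565_15 = true := by decide +kernel

noncomputable def j9_565_16 : List Job := [
  ⟨46, 0x4e0723a1d8f07a3e1fcc06232198d06a361bca0522a158b05a2e17c804222118904a2613c48271008c0e0501, 0, 15, 0x206000607, []⟩]

theorem t9_565_16 : jobs 8 S9 b8_565 j9_565_16 = true := by decide +kernel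

noncomputable def j9_565_17 : List Job := [
  ⟨45, 0x4a0522a158b05a2e17c804222118904a2613c502a160bc0e0501, 0, 18, 0x0, []⟩]

theorem t9_565_17 : jobs 8 S9 b8_565 j9_565_17 = true := by decide +kernel

noncomputable def j9_565_18 : List Job := [
  ⟨44, 0x4c06232198d06a361bc804222118904a2613c44251009c0e0501, 0, 26, 0x207000606000807000c01, []⟩]

theorem t9_565_18 : jobs 8 S9 b8_565 j9_565_18 = true := by decide +kernel

noncomputable def j9_565_19 : List Job := [
  ⟨43, 0x4a0522a158b05a2e17c804222118904a2613c502a160bc0e0501, 0, 18, 0x0, []⟩]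

theorem t9_565_19 : jobs 8 S9 b8_565 j9_565_19 = true := by decide +kernel

noncomputable def j9_565_20 : List Job := [
  ⟨42, 0x540a25229950aa562b960b25a2d970ba5e2fd008242219108a4623920924a259309a4e27ca0522a158b05a2e17c804222118904a2613c502a160bc0e0501, 0, 18, 0x0, []⟩]

theorem t9_565_20 : jobs 8 S9 b8_565 j9_565_20 = true := by decide +kernel

noncomputable def j9_565_21 : List Job := [
  ⟨41, 0x5008242219108a4623920924a259309a4e27ce0723a1d8f07a3e1fc804222118904a2613c502a160bc0e0501, 0, 28, 0x0, []⟩]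

theorem t9_565_21 : jobs 8 S9 b8_565 j9_565_21 = true := by decide +kernel

noncomputable def j9_565_22 : List Job := [
  ⟨40, 0x5008242219108a4623920924a259309a4e27c4427100940e0501, 0, 20, 0x204000604000a04000e04, []⟩]

theorem t9_565_22 : jobs 8 S9 b8_565 j9_565_22 = true := by decide +kernel

noncomputable def j9_565_23 : List Job := [
  ⟨39, 0x5008242219108a4623920924a259309a4e27ce0723a1d8f07a3e1fcc06232198d06a361bca0522a158b05a2e17c804222118904a2613c48271008c0e0501, 0, 28, 0x204000604000a02000e02002a00002e00003200003600, [(26, ⟨2951, 0xb3004701210110000d010501030001000001, 0x1b323084200d0280c02⟩), (24, ⟨2950, 0xb3004701210110000d010501030001000001, 0x1b323084200d0280c02⟩), (22, ⟨2949, 0xb3004701210010000d000501030001000001, 0x1b323084200d0280c02⟩), (20, ⟨2948, 0xb3004701210010000d000501030001000001, 0x1b323084200d0280c02⟩)]⟩]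

theorem t9_565_23 : jobs 8 S9 b8_565 j9_565_23 = true := by decide +kernel

noncomputable def j9_565_24 : List Job := [
  ⟨38, 0x4c06232198d06a361bc804222118904a2613c4e25118840e0501, 0, 26, 0x204000604000804000c04002604002a05002c04003005, []⟩]

theorem t9_565_24 : jobs 8 S9 b8_565 j9_565_24 = true := by decide +kernel

noncomputable def j9_565_25 : List Job := [
  ⟨37, 0x540a25229950aa562b960b25a2d970ba5e2fd008242219108a4623920924a259309a4e27cc06232198d06a361bc804222118904a2613c4e25118840e0501, 0, 26, 0x204000602000804000c02002602002a03002c02003003, []⟩]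

theorem t9_565_25 : jobs 8 S9 b8_565 j9_565_25 = true := by decide +kernel

noncomputable def j9_565_26 : List Job := [
  ⟨36, 0x4e0723a1d8f07a3e1fc804222118904a2613c502a160bc0e0501, 0, 22, 0x0, []⟩]

theorem t9_565_26 : jobs 8 S9 b8_565 j9_565_26 = true := by decide +kernel

noncomputable def j9_565_27 : List Job := [
  ⟨35, 0x540a25229950aa562b960b25a2d970ba5e2fd008242219108a4623920924a259309a4e27ce0723a1d8f07a3e1fc804222118904a2613c502a160bc0e0501, 0, 22, 0x0, []⟩]

theorem t9_565_27 : jobs 8 S9 b8_565 j9_565_27 = true := by decide +kernel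

noncomputable def j9_565_28 : List Job := [
  ⟨34, 0x5008242219108a4623920924a259309a4e27ca0522a158b05a2e17c804222118904a2613c502a160bc0e0501, 0, 24, 0x0, []⟩]

theorem t9_565_28 : jobs 8 S9 b8_565 j9_565_28 = true := by decide +kernel

noncomputable def j9_565_29 : List Job := [
  ⟨33, 0x5008242219108a4623920924a259309a4e27cc06232198d06a361bc804222118904a2613c48271008c0e0501, 0, 36, 0x203000602000803000c01000e03001202001403001801, []⟩]

theorem t9_565_29 : jobs 8 S9 b8_565 j9_565_29 = true := by decide +kernel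

noncomputable def j9_565_30 : List Job := [
  ⟨32, 0x44e25118840e0501, 0, 15, 0x204000604001804001c05, []⟩]

theorem t9_565_30 : jobs 8 S9 b8_565 j9_565_30 = true := by decide +kernel

noncomputable def j9_565_31 : List Job := [
  ⟨31, 0x540a25229950aa562b960b25a2d970ba5e2fd008242219108a4623920924a259309a4e27c4e25118840e0501, 0, 15, 0x204000604001804001c05, []⟩]

theorem t9_565_31 : jobs 8 S9 b8_565 j9_565_31 = true := by decide +kernel

noncomputable def j9_565_32 : List Job := [
  ⟨30, 0x4e0723a1d8f07a3e1fcc06232198d06a361bca0522a158b05a2e17c804222118904a2613c4e25118840e0501, 0, 26, 0x200000401000600000801000a00000c04001420001601001a01001e01003000003201, [(23, ⟨2947, 0x83005b013c00100109000601010102000001, 0x1832d8f0200a0280404⟩), (4, ⟨2946, 0x83005b003c01100109000601010102000001, 0x1832d8f0200a0280404⟩), (2, ⟨2945, 0xaf014400260110000f010400030102000001, 0x1ac22890200f0200406⟩), (0, ⟨2944, 0xaf014400260110010f010400030102000001, 0x1ac22890200f0200406⟩)]⟩]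

theorem t9_565_32 : jobs 8 S9 b8_565 j9_565_32 = true := by decide +kernel

noncomputable def j9_565_33 : List Job := [
  ⟨29, 0x540a25229950aa562b960b25a2d970ba5e2fd008242219108a4623920924a259309a4e27ce0723a1d8f07a3e1fcc06232198d06a361bca0522a158b05a2e17c804222118904a2613c4e25118840e0501, 0, 45, 0x1c00002200003820003c20003e00004420004804005001005401, [(30, ⟨2943, 0x106005b001e8044002140005008100404000001, 0x1832d8f4200a0280802⟩), (16, ⟨2942, 0x1640043009500440021e0006008180404020001, 0x1bf210b0200c0380c02⟩), (13, ⟨2941, 0x140014d00190044000180007008180004020001, 0x1b3258cc200f0300c02⟩)]⟩]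

theorem t9_565_33 : jobs 8 S9 b8_565 j9_565_33 = true := by decide +kernel

noncomputable def j9_565_34 : List Job := [
  ⟨28, 0x4301a0e07c241708054100a0603c0e0501, 0, 9, 0x804000a04000c05000e04001004001205, []⟩]

theorem t9_565_34 : jobs 8 S9 b8_565 j9_565_34 = true := by decide +kernel

noncomputable def j9_565_35 : List Job := [
  ⟨27, 0x4301a0e07c241708054100a0603c0e0501, 0, 9, 0x204000404000e05001004, []⟩]

theorem t9_565_35 : jobs 8 S9 b8_565 j9_565_35 = true := by decide +kernel

noncomputable def j9_565_36 : List Job := [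
  ⟨26, 0x4d06a361b8f07a3e1fcc06232198e0723a1dc944e2d17c904c2c17484462815480442915c301a0e07c241708054100a0603c0e0501, 0, 11, 0xc00001200, [(8, ⟨2721, 0x7a806400400054006810b0204040408001, 0x1da370803e070700802⟩), (5, ⟨2722, 0x4f81430052004400380090004000400001, 0x19e2189022050580802⟩)]⟩]

theorem t9_565_36 : jobs 8 S9 b8_565 j9_565_36 = true := by decide +kernel

noncomputable def j9_565_37 : List Job := [
  ⟨25, 0x4d06a361b8f07a3e1fcc06232198e0723a1dc944e2c174904c2d17c84462915c804428154301a0e07c241708054100a0603c0e0501, 0, 9, 0x200001001, [(0, ⟨2720, 0x5d81400054006808281080004000400001, 0x1b7200982c040480802⟩)]⟩]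

theorem t9_565_37 : jobs 8 S9 b8_565 j9_565_37 = true := by decide +kernel

noncomputable def j9_565_38 : List Job := [
  ⟨24, 0x488462814c80422a15c2e15098440e0501, 0, 4, 0x201000401000605, []⟩]

theorem t9_565_38 : jobs 8 S9 b8_565 j9_565_38 = true := by decide +kernel

noncomputable def j9_565_39 : List Job := [
  ⟨23, 0x488462a15c80422814c2e15098440e0501, 0, 6, 0x201000401000605000804, []⟩]

theorem t9_565_39 : jobs 8 S9 b8_565 j9_565_39 = true := by decide +kernel

noncomputable def j9_565_40 : List Job := [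
  ⟨22, 0x48c552215c84512014c2e15098440e0501, 0, 7, 0x201000401000601000802, []⟩]

theorem t9_565_40 : jobs 8 S9 b8_565 j9_565_40 = true := by decide +kernel

noncomputable def j9_565_41 : List Job := [
  ⟨21, 0x48c57221548453201442e15098440e0501, 0, 13, 0x201000401000601000801001602001a01, []⟩]

theorem t9_565_41 : jobs 8 S9 b8_565 j9_565_41 = true := by decide +kernel

noncomputable def j9_565_42 : List Job := [
  ⟨20, 0x4804222118a0522a15c28170804c0e0501, 0, 8, 0x605000c05, []⟩]

theorem t9_565_42 : jobs 8 S9 b8_565 j9_565_42 = true := by decide +kernel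

noncomputable def j9_565_43 : List Job := [
  ⟨19, 0x4804222118a0522a15c28170804c0e0501, 0, 8, 0x605001005, []⟩]

theorem t9_565_43 : jobs 8 S9 b8_565 j9_565_43 = true := by decide +kernel

noncomputable def j9_565_44 : List Job := [
  ⟨18, 0x488462814c80422a15c28170804c0e0501, 0, 12, 0x205000403000a05000c04, []⟩]

theorem t9_565_44 : jobs 8 S9 b8_565 j9_565_44 = true := by decide +kernel

noncomputable def j9_565_45 : List Job := [
  ⟨17, 0x488462a15c80422814c28170804c0e0501, 0, 12, 0x205000403000a05000c04001205001403001605001804, []⟩]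

theorem t9_565_45 : jobs 8 S9 b8_565 j9_565_45 = true := by decide +kernel

noncomputable def j9_565_46 : List Job := [
  ⟨16, 0x460321a0dc40221209c28170804c0e0501, 0, 11, 0x804000c05001201001401001601, []⟩]

theorem t9_565_46 : jobs 8 S9 b8_565 j9_565_46 = true := by decide +kernel

noncomputable def j9_565_47 : List Job := [
  ⟨15, 0x460321a0dc40221209c28170804c0e0501, 0, 11, 0x804000c05001201001401001601, []⟩]

theorem t9_565_47 : jobs 8 S9 b8_565 j9_565_47 = true := by decide +kernel

noncomputable def j9_565_48 : List Job := [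
  ⟨14, 0x4d06a361b8f07a3e1fc84462815480442915c60321a0dc40221209c2417080540e0501, 0, 28, 0x605000a05000c05001a00001c04002204002601002801002e04003205003405, [(12, ⟨2715, 0x5000420244046c002000b0004040c00001, 0x1a22108828050400806⟩)]⟩]

theorem t9_565_48 : jobs 8 S9 b8_565 j9_565_48 = true := by decide +kernel

noncomputable def j9_565_49 : List Job := [
  ⟨13, 0x4d06a361b8f07a3e1fc84462915c80442815460321a0dc40221209c2417080540e0501, 0, 28, 0x204000404000605000a04000c04000e05001605001a05001c05002a05002c05003205, []⟩]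

theorem t9_565_49 : jobs 8 S9 b8_565 j9_565_49 = true := by decide +kernel

noncomputable def j9_565_50 : List Job := [
  ⟨12, 0x4904a26138b05a2e17c804222118a0522a15c703a1e0fc60321a0dc502a160bc40221209c301a0e07c28170804c100a0603c0e0501, 0, 13, 0xa03000c02, []⟩]

theorem t9_565_50 : jobs 8 S9 b8_565 j9_565_50 = true := by decide +kernel

noncomputable def j9_565_51 : List Job := [
  ⟨11, 0x4904a26138b05a2e17c804222118a0522a15c703a1e0fc60321a0dc502a160bc40221209c301a0e07c28170804c100a0603c0e0501, 0, 18, 0x802000c01001c01, []⟩]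

theorem t9_565_51 : jobs 8 S9 b8_565 j9_565_51 = true := by decide +kernel

noncomputable def j9_565_52 : List Job := [
  ⟨10, 0x4984e2e17c904a2c16c88462814c80422a15c703a1e0fc60321a0dc502a160bc40221209c301a0e07c28170804c100a0603c0e0501, 0, 18, 0xc00001000002000, [(15, ⟨2711, 0x19c004600100007c000e010a00808040c020001, 0x1c2250803e070480c04⟩), (7, ⟨2712, 0x11c004200100044c000a000a000080408000001, 0x18e2088026050500404⟩), (5, ⟨2713, 0x110005100120044400080108000080408000001, 0x184280a024040400404⟩)]⟩]

theorem t9_565_52 : jobs 8 S9 b8_565 j9_565_52 = true := by decide +kernel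

noncomputable def j9_565_53 : List Job := [
  ⟨9, 0x4984e2c16c904a2e17c88462a15c80422814c703a1e0fc60321a0dc502a160bc40221209c301a0e07c28170804c100a0603c0e0501, 0, 14, 0x200001001001400001a00, [(12, ⟨2708, 0x11401510013000440008010a008080008020001, 0x184280a424050400404⟩), (9, ⟨2710, 0x11400510012004440008010a000080008000001, 0x184280a024050400404⟩), (0, ⟨2709, 0x154014d009480064020e0009000080008020001, 0x1a32789028060580404⟩)]⟩]

theorem t9_565_53 : jobs 8 S9 b8_565 j9_565_53 = true := by decide +kernel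

noncomputable def j9_565_54 : List Job := [
  ⟨8, 0x4c866381ccc0623a1dc2e15098440e0501, 0, 4, 0x404000601000801, []⟩]

theorem t9_565_54 : jobs 8 S9 b8_565 j9_565_54 = true := by decide +kernel

noncomputable def j9_565_55 : List Job := [
  ⟨7, 0x4c8663a1dcc062381cc2e15098440e0501, 0, 6, 0x201000401000804000a05, []⟩]

theorem t9_565_55 : jobs 8 S9 b8_565 j9_565_55 = true := by decide +kernel

noncomputable def j9_565_56 : List Job := [
  ⟨6, 0x48c53221448457201542e15098440e0501, 0, 3, 0x205000601, []⟩]

theorem t9_565_56 : jobs 8 S9 b8_565 j9_565_56 = true := by decide +kernel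

noncomputable def j9_565_57 : List Job := [
  ⟨5, 0x48c57221548453201442e15098440e0501, 0, 8, 0x201000401000601000801000a05000e05, []⟩]

theorem t9_565_57 : jobs 8 S9 b8_565 j9_565_57 = true := by decide +kernel

noncomputable def j9_565_58 : List Job := [
  ⟨4, 0x4783f1c0ec48271008c381f0c06c0e0501, 0, 28, 0x201000801000c02000e01001001001201001601001a01001c01002001002202002801002a01002c01002e01003001003201003402003801, []⟩]

theorem t9_565_58 : jobs 8 S9 b8_565 j9_565_58 = true := by decide +kernel

noncomputable def j9_565_59 : List Job := [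
  ⟨3, 0x46837180cc48271008c28170804c0e0501, 0, 22, 0x201000401000601000a01000c01000e02001601001c02002002002202002802, []⟩]

theorem t9_565_59 : jobs 8 S9 b8_565 j9_565_59 = true := by decide +kernel

noncomputable def j9_565_60 : List Job := [
  ⟨2, 0x540a25229960b25a2dc24150805c0e0501, 0, 22, 0x2807, []⟩]

theorem t9_565_60 : jobs 8 S9 b8_565 j9_565_60 = true := by decide +kernel

noncomputable def j9_565_61 : List Job := [
  ⟨1, 0x5148e4c275108c4d27ca0522a158b05a2e17c804222118904a2613c2417080540e0501, 0, 41, 0x0, []⟩]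

theorem t9_565_61 : jobs 8 S9 b8_565 j9_565_61 = true := by decide +kernel

noncomputable def j9_565_62 : List Job := [
  ⟨0, 0x5d0ea763b9e0f27a3ddc0e272399f0fa7e3fd90ca66339a0d26a35d80c262319b0da6e37d50aa562b970ba5e2fc28170804c0e0501, 0, 22, 0x2003, []⟩]

theorem t9_565_62 : jobs 8 S9 b8_565 j9_565_62 = true := by decide +kernel

theorem d9_565 : Dn 8 S9 b8_565 := dn_of (Js := j9_565_0 ++ (j9_565_1 ++ (j9_565_2 ++ (j9_565_3 ++ (j9_565_4 ++ (j9_565_5 ++ (j9_565_6 ++ (j9_565_7 ++ (j9_565_8 ++ (j9_565_9 ++ (j9_565_10 ++ (j9_565_11 ++ (j9_565_12 ++ (j9_565_13 ++ (j9_565_14 ++ (j9_565_15 ++ (j9_565_16 ++ (j9_565_17 ++ (j9_565_18 ++ (j9_565_19 ++ (j9_565_20 ++ (j9_565_21 ++ (j9_565_22 ++ (j9_565_23 ++ (j9_565_24 ++ (j9_565_25 ++ (j9_565_26 ++ (j9_565_27 ++ (j9_565_28 ++ (j9_565_29 ++ (j9_565_30 ++ (j9_565_31 ++ (j9_565_32 ++ (j9_565_33 ++ (j9_565_34 ++ (j9_565_35 ++ (j9_565_36 ++ (j9_565_37 ++ (j9_565_38 ++ (j9_565_39 ++ (j9_565_40 ++ (j9_565_41 ++ (j9_565_42 ++ (j9_565_43 ++ (j9_565_44 ++ (j9_565_45 ++ (j9_565_46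 ++ (j9_565_47 ++ (j9_565_48 ++ (j9_565_49 ++ (j9_565_50 ++ (j9_565_51 ++ (j9_565_52 ++ (j9_565_53 ++ (j9_565_54 ++ (j9_565_55 ++ (j9_565_56 ++ (j9_565_57 ++ (j9_565_58 ++ (j9_565_59 ++ (j9_565_60 ++ (j9_565_61 ++ (j9_565_62 ++ [])))))))))))))))))))))))))))))))))))))))))))))))))))))))))))))))
  (jobs_append t9_565_0 <| jobs_append t9_565_1 <| jobs_append t9_565_2 <| jobs_append t9_565_3 <| jobs_append t9_565_4 <| jobs_append t9_565_5 <| jobs_append t9_565_6 <| jobs_append t9_565_7 <| jobs_append t9_565_8 <| jobs_append t9_565_9 <| jobs_append t9_565_10 <| jobs_append t9_565_11 <| jobs_append t9_565_12 <| jobs_append t9_565_13 <| jobs_append t9_565_14 <| jobs_append t9_565_15 <| jobs_append t9_565_16 <| jobs_append t9_565_17 <| jobs_append t9_565_18 <| jobs_append t9_565_19 <| jobs_append t9_565_20 <| jobs_append t9_565_21 <| jobs_append t9_565_22 <| jobs_append t9_565_23 <| jobs_append t9_565_24 <| jobs_append t9_565_25 <| jobs_append t9_565_26 <| jobs_append t9_565_27 <| jobs_append t9_565_28 <| jobs_append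 t9_565_29 <| jobs_append t9_565_30 <| jobs_append t9_565_31 <| jobs_append t9_565_32 <| jobs_append t9_565_33 <| jobs_append t9_565_34 <| jobs_append t9_565_35 <| jobs_append t9_565_36 <| jobs_append t9_565_37 <| jobs_append t9_565_38 <| jobs_append t9_565_39 <| jobs_append t9_565_40 <| jobs_append t9_565_41 <| jobs_append t9_565_42 <| jobs_append t9_565_43 <| jobs_append t9_565_44 <| jobs_append t9_565_45 <| jobs_append t9_565_46 <| jobs_append t9_565_47 <| jobs_append t9_565_48 <| jobs_append t9_565_49 <| jobs_append t9_565_50 <| jobs_append t9_565_51 <| jobs_append t9_565_52 <| jobs_append t9_565_53 <| jobs_append t9_565_54 <| jobs_append t9_565_55 <| jobs_append t9_565_56 <| jobs_append t9_565_57 <| jobs_append t9_565_58 <| jobs_append t9_565_59 <| jobs_append t9_565_60 <| jobs_append t9_565_61 <| jobs_append t9_565_62 <| List.forall_mem_nil _) (by decide +kernel)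

noncomputable def j9_566_0 : List Job := [
  ⟨63, 0x4ae55299448e45219042e15098440e0501, 0, 14, 0x401000a01000e05001204001605, []⟩]

theorem t9_566_0 : jobs 8 S9 b8_566 j9_566_0 = true := by decide +kernel

noncomputable def j9_566_1 : List Job := [
  ⟨62, 0x5a0d26a359b0da6e37d80c26231990ca6633d20924a259309a4e27d008242219108a4623c2e15098440e0501, 0, 12, 0x200000800001200001601, [(8, ⟨3024, 0x8e0046012000130007010101080102000001, 0x18a240802a020680408⟩), (3, ⟨3026, 0xb10160002001180007010100080002000001, 0x1b53088024020680408⟩), (0, ⟨3025, 0xb10060002001180107000100080002000001, 0x1b53088024020680408⟩)]⟩]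

theorem t9_566_1 : jobs 8 S9 b8_566 j9_566_1 = true := by decide +kernel

noncomputable def j9_566_2 : List Job := [
  ⟨61, 0x5a0d26a359b0da6e37d80c26231990ca6633d20924a259309a4e27d008242219108a4623cae55299448e45219042e15098440e0501, 0, 28, 0x200000804001400001a00002401002a01002c01003201003401, [(12, ⟨3003, 0x1ec004500950007000080002000500404020001, 0x1fa2688834060401002⟩), (9, ⟨3002, 0x1e6004300100047c020e0102008500004020001, 0x1fd2288034060681002⟩), (0, ⟨3004, 0x14a0165009500044020a010200040000c020001, 0x1aa350982a02068100a⟩)]⟩]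

theorem t9_566_2 : jobs 8 S9 b8_566 j9_566_2 = true := by decide +kernel

noncomputable def j9_566_3 : List Job := [
  ⟨60, 0x5008242219108a4623920924a259309a4e27c582f140ac0e0501, 0, 8, 0x207000604000a07000e04, []⟩]

theorem t9_566_3 : jobs 8 S9 b8_566 j9_566_3 = true := by decide +kernel

noncomputable def j9_566_4 : List Job := [
  ⟨59, 0x5008242219108a4623920924a259309a4e27c582f140ac0e0501, 0, 12, 0x0, []⟩]

theorem t9_566_4 : jobs 8 S9 b8_566 j9_566_4 = true := by decide +kernel

noncomputable def j9_566_5 : List Job := [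
  ⟨58, 0x5008242219108a4623920924a259309a4e27c783f1c0ec0e0501, 0, 6, 0x0, []⟩]

theorem t9_566_5 : jobs 8 S9 b8_566 j9_566_5 = true := by decide +kernel

noncomputable def j9_566_6 : List Job := [
  ⟨57, 0x5008242219108a4623920924a259309a4e27c783f1c0ec0e0501, 0, 6, 0x0, []⟩]

theorem t9_566_6 : jobs 8 S9 b8_566 j9_566_6 = true := by decide +kernel

noncomputable def j9_566_7 : List Job := [
  ⟨56, 0x4582f140ac0e0501, 0, 6, 0x0, []⟩]

theorem t9_566_7 : jobs 8 S9 b8_566 j9_566_7 = true := by decide +kernel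

noncomputable def j9_566_8 : List Job := [
  ⟨55, 0x4783f1c0ec0e0501, 0, 5, 0x0, []⟩]

theorem t9_566_8 : jobs 8 S9 b8_566 j9_566_8 = true := by decide +kernel

noncomputable def j9_566_9 : List Job := [
  ⟨54, 0x5c0e272399d0ea763b9e0f27a3d9f0fa7e3fd008242219108a4623920924a259309a4e27c582f140ac0e0501, 0, 12, 0x0, []⟩]

theorem t9_566_9 : jobs 8 S9 b8_566 j9_566_9 = true := by decide +kernel

noncomputable def j9_566_10 : List Job := [
  ⟨53, 0x4743f1c0f40e0501, 0, 5, 0x0, []⟩]

theorem t9_566_10 : jobs 8 S9 b8_566 j9_566_10 = true := by decide +kernel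

noncomputable def j9_566_11 : List Job := [
  ⟨52, 0x5c0e272399d0ea763b9e0f27a3d9f0fa7e3fd80c26231990ca66339a0d26a359b0da6e37d40a25229950aa562b960b25a2d970ba5e2fd008242219108a4623920924a259309a4e27c783f1c0ec0e0501, 0, 6, 0x0, []⟩]

theorem t9_566_11 : jobs 8 S9 b8_566 j9_566_11 = true := by decide +kernel

noncomputable def j9_566_12 : List Job := [
  ⟨51, 0x540a25229950aa562b960b25a2d970ba5e2fd008242219108a4623920924a259309a4e27c783f1c0ec0e0501, 0, 8, 0x0, []⟩]

theorem t9_566_12 : jobs 8 S9 b8_566 j9_566_12 = true := by decide +kernel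

noncomputable def j9_566_13 : List Job := [
  ⟨50, 0x4582f140ac0e0501, 0, 10, 0x203000604000a03000e04, []⟩]

theorem t9_566_13 : jobs 8 S9 b8_566 j9_566_13 = true := by decide +kernel

noncomputable def j9_566_14 : List Job := [
  ⟨49, 0x4783f1c0ec0e0501, 0, 8, 0x0, []⟩]

theorem t9_566_14 : jobs 8 S9 b8_566 j9_566_14 = true := by decide +kernel

noncomputable def j9_566_15 : List Job := [
  ⟨48, 0x4783f1c0ec0e0501, 0, 5, 0x0, []⟩]

theorem t9_566_15 : jobs 8 S9 b8_566 j9_566_15 = true := by decide +kernel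

noncomputable def j9_566_16 : List Job := [
  ⟨47, 0x4783f1c0ec0e0501, 0, 5, 0x0, []⟩]

theorem t9_566_16 : jobs 8 S9 b8_566 j9_566_16 = true := by decide +kernel

noncomputable def j9_566_17 : List Job := [
  ⟨46, 0x45e2d158a40e0501, 0, 4, 0x402, []⟩]

theorem t9_566_17 : jobs 8 S9 b8_566 j9_566_17 = true := by decide +kernel

noncomputable def j9_566_18 : List Job := [
  ⟨45, 0x45e2d158a40e0501, 0, 4, 0x402, []⟩]

theorem t9_566_18 : jobs 8 S9 b8_566 j9_566_18 = true := by decide +kernel

noncomputable def j9_566_19 : List Job := [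
  ⟨44, 0x4743f1c0f40e0501, 0, 18, 0x0, []⟩]

theorem t9_566_19 : jobs 8 S9 b8_566 j9_566_19 = true := by decide +kernel

noncomputable def j9_566_20 : List Job := [
  ⟨43, 0x5c0e272399d0ea763b9e0f27a3d9f0fa7e3fd80c26231990ca66339a0d26a359b0da6e37d40a25229950aa562b960b25a2d970ba5e2fd008242219108a4623920924a259309a4e27c783f1c0ec0e0501, 0, 18, 0x0, []⟩]

theorem t9_566_20 : jobs 8 S9 b8_566 j9_566_20 = true := by decide +kernel

noncomputable def j9_566_21 : List Job := [
  ⟨42, 0x540a25229950aa562b960b25a2d970ba5e2fd008242219108a4623920924a259309a4e27c783f1c0ec0e0501, 0, 22, 0x0, []⟩]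

theorem t9_566_21 : jobs 8 S9 b8_566 j9_566_21 = true := by decide +kernel

noncomputable def j9_566_22 : List Job := [
  ⟨41, 0x5c0e272399d0ea763b9e0f27a3d9f0fa7e3fd008242219108a4623920924a259309a4e27c582f140ac0e0501, 0, 36, 0x203000603000a03000e03001403001803, []⟩]

theorem t9_566_22 : jobs 8 S9 b8_566 j9_566_22 = true := by decide +kernel

noncomputable def j9_566_23 : List Job := [
  ⟨40, 0x5c0e272399d0ea763b9e0f27a3d9f0fa7e3fd008242219108a4623920924a259309a4e27c783f1c0ec0e0501, 0, 18, 0x0, []⟩]

theorem t9_566_23 : jobs 8 S9 b8_566 j9_566_23 = true := by decide +kernel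

noncomputable def j9_566_24 : List Job := [
  ⟨39, 0x5c0e272399d0ea763b9e0f27a3d9f0fa7e3fd008242219108a4623920924a259309a4e27c783f1c0ec0e0501, 0, 18, 0x0, []⟩]

theorem t9_566_24 : jobs 8 S9 b8_566 j9_566_24 = true := by decide +kernel

noncomputable def j9_566_25 : List Job := [
  ⟨38, 0x45e2d158a40e0501, 0, 12, 0x1204, []⟩]

theorem t9_566_25 : jobs 8 S9 b8_566 j9_566_25 = true := by decide +kernel

noncomputable def j9_566_26 : List Job := [
  ⟨37, 0x5c0e272399d0ea763b9e0f27a3d9f0fa7e3fd80c26231990ca66339a0d26a359b0da6e37d40a25229950aa562b960b25a2d970ba5e2fd008242219108a4623920924a259309a4e27c5e2d158a40e0501, 0, 17, 0x1402, []⟩]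

theorem t9_566_26 : jobs 8 S9 b8_566 j9_566_26 = true := by decide +kernel

noncomputable def j9_566_27 : List Job := [
  ⟨36, 0x45e2d158a40e0501, 0, 13, 0x1404, []⟩]

theorem t9_566_27 : jobs 8 S9 b8_566 j9_566_27 = true := by decide +kernel

noncomputable def j9_566_28 : List Job := [
  ⟨35, 0x5c0e272399d0ea763b9e0f27a3d9f0fa7e3fd80c26231990ca66339a0d26a359b0da6e37d40a25229950aa562b960b25a2d970ba5e2fd008242219108a4623920924a259309a4e27c5e2d158a40e0501, 0, 28, 0x3202, []⟩]

theorem t9_566_28 : jobs 8 S9 b8_566 j9_566_28 = true := by decide +kernel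

noncomputable def j9_566_29 : List Job := [
  ⟨34, 0x540a25229950aa562b960b25a2d970ba5e2fd008242219108a4623920924a259309a4e27c5e2d158a40e0501, 0, 13, 0x1202, []⟩]

theorem t9_566_29 : jobs 8 S9 b8_566 j9_566_29 = true := by decide +kernel

noncomputable def j9_566_30 : List Job := [
  ⟨33, 0x540a25229950aa562b960b25a2d970ba5e2fd008242219108a4623920924a259309a4e27c5e2d158a40e0501, 0, 15, 0x1602, []⟩]

theorem t9_566_30 : jobs 8 S9 b8_566 j9_566_30 = true := by decide +kernel

noncomputable def j9_566_31 : List Job := [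
  ⟨32, 0x4301a0e07c0e0501, 0, 7, 0x0, []⟩]

theorem t9_566_31 : jobs 8 S9 b8_566 j9_566_31 = true := by decide +kernel

noncomputable def j9_566_32 : List Job := [
  ⟨31, 0x4301a0e07c0e0501, 0, 7, 0x0, []⟩]

theorem t9_566_32 : jobs 8 S9 b8_566 j9_566_32 = true := by decide +kernel

noncomputable def j9_566_33 : List Job := [
  ⟨30, 0x4301a0e07c0e0501, 0, 7, 0x0, []⟩]

theorem t9_566_33 : jobs 8 S9 b8_566 j9_566_33 = true := by decide +kernel

noncomputable def j9_566_34 : List Job := [
  ⟨29, 0x4301a0e07c0e0501, 0, 7, 0x0, []⟩]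

theorem t9_566_34 : jobs 8 S9 b8_566 j9_566_34 = true := by decide +kernel

noncomputable def j9_566_35 : List Job := [
  ⟨28, 0x540a25229950aa562bd008242219108a4623c301a0e07c0e0501, 0, 9, 0x0, []⟩]

theorem t9_566_35 : jobs 8 S9 b8_566 j9_566_35 = true := by decide +kernel

noncomputable def j9_566_36 : List Job := [
  ⟨27, 0x540a25229950aa562bd008242219108a4623c301a0e07c0e0501, 0, 9, 0x0, []⟩]

theorem t9_566_36 : jobs 8 S9 b8_566 j9_566_36 = true := by decide +kernel

noncomputable def j9_566_37 : List Job := [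
  ⟨26, 0x560b25a2d970ba5e2fd008242219108a4623c301a0e07c0e0501, 0, 9, 0x0, []⟩]

theorem t9_566_37 : jobs 8 S9 b8_566 j9_566_37 = true := by decide +kernel

noncomputable def j9_566_38 : List Job := [
  ⟨25, 0x560b25a2d970ba5e2fd008242219108a4623c301a0e07c0e0501, 0, 9, 0x0, []⟩]

theorem t9_566_38 : jobs 8 S9 b8_566 j9_566_38 = true := by decide +kernel

noncomputable def j9_566_39 : List Job := [
  ⟨24, 0x42e15098440e0501, 0, 8, 0x1001, []⟩]

theorem t9_566_39 : jobs 8 S9 b8_566 j9_566_39 = true := by decide +kernel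

noncomputable def j9_566_40 : List Job := [
  ⟨23, 0x560b25a2d970ba5e2fd40a25229950aa562bd20924a259309a4e27d008242219108a4623c2e15098440e0501, 0, 16, 0x401000801000a01000e01001001001e01002001, []⟩]

theorem t9_566_40 : jobs 8 S9 b8_566 j9_566_40 = true := by decide +kernel

noncomputable def j9_566_41 : List Job := [
  ⟨22, 0x42e15098440e0501, 0, 8, 0x1001, []⟩]

theorem t9_566_41 : jobs 8 S9 b8_566 j9_566_41 = true := by decide +kernel

noncomputable def j9_566_42 : List Job := [
  ⟨21, 0x560b25a2d970ba5e2fd40a25229950aa562bd20924a259309a4e27d008242219108a4623c2e15098440e0501, 0, 21, 0xe01001401001601002401002601002801002a01, []⟩]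

theorem t9_566_42 : jobs 8 S9 b8_566 j9_566_42 = true := by decide +kernel

noncomputable def j9_566_43 : List Job := [
  ⟨20, 0x42e15098440e0501, 0, 6, 0x0, []⟩]

theorem t9_566_43 : jobs 8 S9 b8_566 j9_566_43 = true := by decide +kernel

noncomputable def j9_566_44 : List Job := [
  ⟨19, 0x520924a259309a4e27d008242219108a4623c2e15098440e0501, 0, 9, 0xe01, []⟩]

theorem t9_566_44 : jobs 8 S9 b8_566 j9_566_44 = true := by decide +kernel

noncomputable def j9_566_45 : List Job := [
  ⟨18, 0x42e15098440e0501, 0, 6, 0x0, []⟩]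

theorem t9_566_45 : jobs 8 S9 b8_566 j9_566_45 = true := by decide +kernel

noncomputable def j9_566_46 : List Job := [
  ⟨17, 0x520924a259309a4e27d008242219108a4623c2e15098440e0501, 0, 9, 0x1201, []⟩]

theorem t9_566_46 : jobs 8 S9 b8_566 j9_566_46 = true := by decide +kernel

noncomputable def j9_566_47 : List Job := [
  ⟨12, 0x5008242219108a4623c743d1c0fc48271008c301a0e07c0e0501, 0, 12, 0x204000405000804000a05, []⟩]

theorem t9_566_47 : jobs 8 S9 b8_566 j9_566_47 = true := by decide +kernel

noncomputable def j9_566_48 : List Job := [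
  ⟨11, 0x5008242219108a4623c743d1c0fc48271008c301a0e07c0e0501, 0, 12, 0x204000405000804000a05, []⟩]

theorem t9_566_48 : jobs 8 S9 b8_566 j9_566_48 = true := by decide +kernel

noncomputable def j9_566_49 : List Job := [
  ⟨10, 0x42e15098440e0501, 0, 2, 0x401, []⟩]

theorem t9_566_49 : jobs 8 S9 b8_566 j9_566_49 = true := by decide +kernel

noncomputable def j9_566_50 : List Job := [
  ⟨9, 0x560b25a2d970ba5e2fd40a25229950aa562bd20924a259309a4e27d008242219108a4623c2e15098440e0501, 0, 8, 0x401000601000a01000c01000e01, []⟩]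

theorem t9_566_50 : jobs 8 S9 b8_566 j9_566_50 = true := by decide +kernel

noncomputable def j9_566_51 : List Job := [
  ⟨8, 0x42e15098440e0501, 0, 2, 0x401, []⟩]

theorem t9_566_51 : jobs 8 S9 b8_566 j9_566_51 = true := by decide +kernel

noncomputable def j9_566_52 : List Job := [
  ⟨7, 0x560b25a2d970ba5e2fd40a25229950aa562bd20924a259309a4e27d008242219108a4623c2e15098440e0501, 0, 12, 0x201000401000c01001201, []⟩]

theorem t9_566_52 : jobs 8 S9 b8_566 j9_566_52 = true := by decide +kernel

noncomputable def j9_566_53 : List Job := [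
  ⟨6, 0x520924a25d00824221c28170804c0e0501, 0, 11, 0x201000601000801000a01000c02001002001402, []⟩]

theorem t9_566_53 : jobs 8 S9 b8_566 j9_566_53 = true := by decide +kernel

noncomputable def j9_566_54 : List Job := [
  ⟨5, 0x524954825d04874021428170804c0e0501, 0, 11, 0x202000602000801000a01000c02001002001402, []⟩]

theorem t9_566_54 : jobs 8 S9 b8_566 j9_566_54 = true := by decide +kernel

noncomputable def j9_566_55 : List Job := [
  ⟨4, 0x520924a25d00824221c2e15098440e0501, 0, 18, 0x1a04001c05, []⟩]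

theorem t9_566_55 : jobs 8 S9 b8_566 j9_566_55 = true := by decide +kernel

noncomputable def j9_566_56 : List Job := [
  ⟨3, 0x5108a4623d00824221c1e0d058240e0501, 0, 15, 0x1804, []⟩]

theorem t9_566_56 : jobs 8 S9 b8_566 j9_566_56 = true := by decide +kernel

noncomputable def j9_566_57 : List Job := [
  ⟨2, 0x43e1d0d8642e15098441e0d058240e0501, 0, 39, 0x401001801001c08001e01002001002401002810002a01002c01003001003c10004210004401004601004811004a08004c01004e01, []⟩]

theorem t9_566_57 : jobs 8 S9 b8_566 j9_566_57 = true := by decide +kernel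

noncomputable def j9_566_58 : List Job := [
  ⟨1, 0x5309a4e27d20924a25d108a4623d00824221c3e1d0d8642e15098441e0d058240e0501, 0, 84, 0x208000401000a08001208001401002a08002c01003209003a08003c01004a08005208005a09006401006608006a08006c01007008007201007c01007e08008208008401008601008c01008e09009401009609009a08009c0100a20800a40100a601, []⟩]

theorem t9_566_58 : jobs 8 S9 b8_566 j9_566_58 = true := by decide +kernel

theorem d9_566 : Dn 8 S9 b8_566 := dn_of (Js := j9_566_0 ++ (j9_566_1 ++ (j9_566_2 ++ (j9_566_3 ++ (j9_566_4 ++ (j9_566_5 ++ (j9_566_6 ++ (j9_566_7 ++ (j9_566_8 ++ (j9_566_9 ++ (j9_566_10 ++ (j9_566_11 ++ (j9_566_12 ++ (j9_566_13 ++ (j9_566_14 ++ (j9_566_15 ++ (j9_566_16 ++ (j9_566_17 ++ (j9_566_18 ++ (j9_566_19 ++ (j9_566_20 ++ (j9_566_21 ++ (j9_566_22 ++ (j9_566_23 ++ (j9_566_24 ++ (j9_566_25 ++ (j9_566_26 ++ (j9_566_27 ++ (j9_566_28 ++ (j9_566_29 ++ (j9_566_30 ++ (j9_566_31 ++ (j9_566_32 ++ (j9_566_33 ++ (j9_566_34 ++ (j9_566_35 ++ (j9_566_36 ++ (j9_566_37 ++ (j9_566_38 ++ (j9_566_39 ++ (j9_566_40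 ++ (j9_566_41 ++ (j9_566_42 ++ (j9_566_43 ++ (j9_566_44 ++ (j9_566_45 ++ (j9_566_46 ++ (j9_566_47 ++ (j9_566_48 ++ (j9_566_49 ++ (j9_566_50 ++ (j9_566_51 ++ (j9_566_52 ++ (j9_566_53 ++ (j9_566_54 ++ (j9_566_55 ++ (j9_566_56 ++ (j9_566_57 ++ (j9_566_58 ++ [])))))))))))))))))))))))))))))))))))))))))))))))))))))))))))
  (jobs_append t9_566_0 <| jobs_append t9_566_1 <| jobs_append t9_566_2 <| jobs_append t9_566_3 <| jobs_append t9_566_4 <| jobs_append t9_566_5 <| jobs_append t9_566_6 <| jobs_append t9_566_7 <| jobs_append t9_566_8 <| jobs_append t9_566_9 <| jobs_append t9_566_10 <| jobs_append t9_566_11 <| jobs_append t9_566_12 <| jobs_append t9_566_13 <| jobs_append t9_566_14 <| jobs_append t9_566_15 <| jobs_append t9_566_16 <| jobs_append t9_566_17 <| jobs_append t9_566_18 <| jobs_append t9_566_19 <| jobs_append t9_566_20 <| jobs_append t9_566_21 <| jobs_append t9_566_22 <| jobs_append t9_566_23 <| jobs_append t9_566_24 <| jobs_append t9_566_25 <| jobs_append t9_566_26 <| jobs_append t9_566_27 <| jobs_append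 t9_566_28 <| jobs_append t9_566_29 <| jobs_append t9_566_30 <| jobs_append t9_566_31 <| jobs_append t9_566_32 <| jobs_append t9_566_33 <| jobs_append t9_566_34 <| jobs_append t9_566_35 <| jobs_append t9_566_36 <| jobs_append t9_566_37 <| jobs_append t9_566_38 <| jobs_append t9_566_39 <| jobs_append t9_566_40 <| jobs_append t9_566_41 <| jobs_append t9_566_42 <| jobs_append t9_566_43 <| jobs_append t9_566_44 <| jobs_append t9_566_45 <| jobs_append t9_566_46 <| jobs_append t9_566_47 <| jobs_append t9_566_48 <| jobs_append t9_566_49 <| jobs_append t9_566_50 <| jobs_append t9_566_51 <| jobs_append t9_566_52 <| jobs_append t9_566_53 <| jobs_append t9_566_54 <| jobs_append t9_566_55 <| jobs_append t9_566_56 <| jobs_append t9_566_57 <| jobs_append t9_566_58 <| List.forall_mem_nil _) (by decide +kernel)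

noncomputable def j9_567_0 : List Job := [
  ⟨62, 0x4301b0804c160901, 0, 5, 0x201000401000601000801000a01, []⟩]

theorem t9_567_0 : jobs 8 S9 b8_567 j9_567_0 = true := by decide +kernel

noncomputable def j9_567_1 : List Job := [
  ⟨61, 0x4301b0804c160901, 0, 5, 0x201000401000601000801000a01, []⟩]

theorem t9_567_1 : jobs 8 S9 b8_567 j9_567_1 = true := by decide +kernel

noncomputable def j9_567_2 : List Job := [
  ⟨60, 0x42e15098440e0501, 0, 5, 0x601000801, []⟩]

theorem t9_567_2 : jobs 8 S9 b8_567 j9_567_2 = true := by decide +kernel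

noncomputable def j9_567_3 : List Job := [
  ⟨59, 0x41e0d058240e0501, 0, 4, 0x401, []⟩]

theorem t9_567_3 : jobs 8 S9 b8_567 j9_567_3 = true := by decide +kernel

noncomputable def j9_567_4 : List Job := [
  ⟨58, 0x41e0d058240e0501, 0, 1, 0x201, []⟩]

theorem t9_567_4 : jobs 8 S9 b8_567 j9_567_4 = true := by decide +kernel

noncomputable def j9_567_5 : List Job := [
  ⟨57, 0x41e0d058240e0501, 0, 2, 0x201000401, []⟩]

theorem t9_567_5 : jobs 8 S9 b8_567 j9_567_5 = true := by decide +kernel

noncomputable def j9_567_6 : List Job := [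
  ⟨56, 0x42e15098440e0501, 0, 1, 0x201, []⟩]

theorem t9_567_6 : jobs 8 S9 b8_567 j9_567_6 = true := by decide +kernel

noncomputable def j9_567_7 : List Job := [
  ⟨55, 0x42e15098440e0501, 0, 2, 0x201000401, []⟩]

theorem t9_567_7 : jobs 8 S9 b8_567 j9_567_7 = true := by decide +kernel

noncomputable def j9_567_8 : List Job := [
  ⟨54, 0x41e0d058240e0501, 0, 2, 0x201000401, []⟩]

theorem t9_567_8 : jobs 8 S9 b8_567 j9_567_8 = true := by decide +kernel

noncomputable def j9_567_9 : List Job := [
  ⟨53, 0x41e0d058240e0501, 0, 1, 0x201, []⟩]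

theorem t9_567_9 : jobs 8 S9 b8_567 j9_567_9 = true := by decide +kernel

noncomputable def j9_567_10 : List Job := [
  ⟨52, 0x428170804c0e0501, 0, 2, 0x0, []⟩]

theorem t9_567_10 : jobs 8 S9 b8_567 j9_567_10 = true := by decide +kernel

noncomputable def j9_567_11 : List Job := [
  ⟨51, 0x428170804c0e0501, 0, 2, 0x0, []⟩]

theorem t9_567_11 : jobs 8 S9 b8_567 j9_567_11 = true := by decide +kernel

noncomputable def j9_567_12 : List Job := [
  ⟨50, 0x428170804c0e0501, 0, 2, 0x201000401, []⟩]

theorem t9_567_12 : jobs 8 S9 b8_567 j9_567_12 = true := by decide +kernel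

noncomputable def j9_567_13 : List Job := [
  ⟨49, 0x428170804c0e0501, 0, 2, 0x201000401, []⟩]

theorem t9_567_13 : jobs 8 S9 b8_567 j9_567_13 = true := by decide +kernel

noncomputable def j9_567_14 : List Job := [
  ⟨46, 0x590ca6633d00824221c8447201140e0501, 0, 18, 0x1a04001c05, []⟩]

theorem t9_567_14 : jobs 8 S9 b8_567 j9_567_14 = true := by decide +kernel

noncomputable def j9_567_15 : List Job := [
  ⟨45, 0x584c56031d08874020c8447201140e0501, 0, 12, 0x204000405000e04, []⟩]

theorem t9_567_15 : jobs 8 S9 b8_567 j9_567_15 = true := by decide +kernel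

noncomputable def j9_567_16 : List Job := [
  ⟨44, 0x41e0d058240e0501, 0, 14, 0x1608001a08001c08, []⟩]

theorem t9_567_16 : jobs 8 S9 b8_567 j9_567_16 = true := by decide +kernel

noncomputable def j9_567_17 : List Job := [
  ⟨43, 0x590ca6633d80c26231d108a4623d00824221c1e0d058240e0501, 0, 28, 0x401000a01002c01003208, []⟩]

theorem t9_567_17 : jobs 8 S9 b8_567 j9_567_17 = true := by decide +kernel

noncomputable def j9_567_18 : List Job := [
  ⟨42, 0x5108a4623d00824221c984f2412c88472010c1e0d058240e0501, 0, 48, 0x208000608001408001a08002808002e08003208003808003c08004008004208004401004808004e01005401005808005a01005e08, []⟩]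

theorem t9_567_18 : jobs 8 S9 b8_567 j9_567_18 = true := by decide +kernel

noncomputable def j9_567_19 : List Job := [
  ⟨41, 0x4944f241348447201141e0d058240e0501, 0, 17, 0xa08000c01000e08001008001201001408001601001808001e08, []⟩]

theorem t9_567_19 : jobs 8 S9 b8_567 j9_567_19 = true := by decide +kernel

noncomputable def j9_567_20 : List Job := [
  ⟨34, 0x5008242219108a4623cb05a2e17c80422211c301a0e07c0e0501, 0, 12, 0x204000405000804000a05, []⟩]

theorem t9_567_20 : jobs 8 S9 b8_567 j9_567_20 = true := by decide +kernel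

noncomputable def j9_567_21 : List Job := [
  ⟨33, 0x5008242219108a4623cb45d2c17c88472010c301a0e07c0e0501, 0, 12, 0x204000405000804000a05000e04001005001404001605, []⟩]

theorem t9_567_21 : jobs 8 S9 b8_567 j9_567_21 = true := by decide +kernel

noncomputable def j9_567_22 : List Job := [
  ⟨32, 0x4b05a2e17c88472010c301a0e07c0e0501, 0, 10, 0x202000403000602000803000a02000e02001003001202001402, []⟩]

theorem t9_567_22 : jobs 8 S9 b8_567 j9_567_22 = true := by decide +kernel

noncomputable def j9_567_23 : List Job := [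
  ⟨31, 0x4b05a2e17c8e4521904301a0e07c0e0501, 0, 10, 0x202000403000602000803000a02000c03000e02001003001202001402, []⟩]

theorem t9_567_23 : jobs 8 S9 b8_567 j9_567_23 = true := by decide +kernel

noncomputable def j9_567_24 : List Job := [
  ⟨30, 0x580c26231990ca6633d008242219108a4623cb05a2e17c844720114301a0e07c0e0501, 0, 12, 0x204, []⟩]

theorem t9_567_24 : jobs 8 S9 b8_567 j9_567_24 = true := by decide +kernel

noncomputable def j9_567_25 : List Job := [
  ⟨29, 0x580c26231990ca6633d008242219108a4623cb05a2e17c8e4521904301a0e07c0e0501, 0, 12, 0x204000a04, []⟩]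

theorem t9_567_25 : jobs 8 S9 b8_567 j9_567_25 = true := by decide +kernel

noncomputable def j9_567_26 : List Job := [
  ⟨28, 0x42e15098440e0501, 0, 2, 0x0, []⟩]

theorem t9_567_26 : jobs 8 S9 b8_567 j9_567_26 = true := by decide +kernel

noncomputable def j9_567_27 : List Job := [
  ⟨27, 0x520924a259309a4e27d008242219108a4623c2e15098440e0501, 0, 5, 0xa01, []⟩]

theorem t9_567_27 : jobs 8 S9 b8_567 j9_567_27 = true := by decide +kernel

noncomputable def j9_567_28 : List Job := [
  ⟨26, 0x4c8663a1dcc062381cc2e15098440e0501, 0, 6, 0x210000410000610000812000a11000c03, []⟩]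

theorem t9_567_28 : jobs 8 S9 b8_567 j9_567_28 = true := by decide +kernel

noncomputable def j9_567_29 : List Job := [
  ⟨25, 0x520924a259309a4e27d008242219108a4623cc466391dcc064381d42e15098440e0501, 0, 10, 0x204000405000605000804001201001401, []⟩]

theorem t9_567_29 : jobs 8 S9 b8_567 j9_567_29 = true := by decide +kernel

noncomputable def j9_567_30 : List Job := [
  ⟨23, 0x520924a259309a4e27d008242219108a4623c2e15098440e0501, 0, 3, 0x401, []⟩]

theorem t9_567_30 : jobs 8 S9 b8_567 j9_567_30 = true := by decide +kernel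

noncomputable def j9_567_31 : List Job := [
  ⟨22, 0x4e0723a1dcc0623219c2e15098440e0501, 0, 8, 0x210000401000602000811000a01000c02000e02001010, []⟩]

theorem t9_567_31 : jobs 8 S9 b8_567 j9_567_31 = true := by decide +kernel

noncomputable def j9_567_32 : List Job := [
  ⟨21, 0x520924a259309a4e27d008242219108a4623ce0723a1dcc0623219c2e15098440e0501, 0, 10, 0x205000604000804000c05, []⟩]

theorem t9_567_32 : jobs 8 S9 b8_567 j9_567_32 = true := by decide +kernel

noncomputable def j9_567_33 : List Job := [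
  ⟨20, 0x42e15098440e0501, 0, 4, 0x401000601000801, []⟩]

theorem t9_567_33 : jobs 8 S9 b8_567 j9_567_33 = true := by decide +kernel

noncomputable def j9_567_34 : List Job := [
  ⟨19, 0x48c53221448457201542e15098440e0501, 0, 10, 0xa04001004001205, []⟩]

theorem t9_567_34 : jobs 8 S9 b8_567 j9_567_34 = true := by decide +kernel

noncomputable def j9_567_35 : List Job := [
  ⟨18, 0x590ca66339a0d26a35d80c262319b0da6e37d20924a259309a4e27d008242219108a4623c2e15098440e0501, 0, 13, 0x1201001601001a01, []⟩]

theorem t9_567_35 : jobs 8 S9 b8_567 j9_567_35 = true := by decide +kernel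

noncomputable def j9_567_36 : List Job := [
  ⟨17, 0x590ca66339a0d26a35d80c262319b0da6e37d20924a259309a4e27d008242219108a4623c8c552215c84512014c2e15098440e0501, 0, 21, 0x211000611002001002601, []⟩]

theorem t9_567_36 : jobs 8 S9 b8_567 j9_567_36 = true := by decide +kernel

noncomputable def j9_567_37 : List Job := [
  ⟨16, 0x42e15098440e0501, 0, 2, 0x401, []⟩]

theorem t9_567_37 : jobs 8 S9 b8_567 j9_567_37 = true := by decide +kernel

noncomputable def j9_567_38 : List Job := [
  ⟨15, 0x4a457281548447201142e15098440e0501, 0, 14, 0x204000605000a04001401001a01, []⟩]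

theorem t9_567_38 : jobs 8 S9 b8_567 j9_567_38 = true := by decide +kernel

noncomputable def j9_567_39 : List Job := [
  ⟨14, 0x5a0d26a359b0da6e37d80c26231990ca6633d20924a259309a4e27d008242219108a4623c2e15098440e0501, 0, 8, 0x201000401000601000a01000e01, []⟩]

theorem t9_567_39 : jobs 8 S9 b8_567 j9_567_39 = true := by decide +kernel

noncomputable def j9_567_40 : List Job := [
  ⟨13, 0x5a0d26a359b0da6e37d80c26231990ca6633d20924a259309a4e27d008242219108a4623ca457281548447201142e15098440e0501, 0, 16, 0x200000804001201001401001a01001c01, [(0, ⟨3096, 0x88006a002200100006000100080003000001, 0x1823109420020681408⟩)]⟩]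

theorem t9_567_40 : jobs 8 S9 b8_567 j9_567_40 = true := by decide +kernel

noncomputable def j9_567_41 : List Job := [
  ⟨12, 0x42e15098440e0501, 0, 2, 0x0, []⟩]

theorem t9_567_41 : jobs 8 S9 b8_567 j9_567_41 = true := by decide +kernel

noncomputable def j9_567_42 : List Job := [
  ⟨11, 0x520924a259309a4e27d008242219108a4623c2e15098440e0501, 0, 5, 0xa00, [(4, ⟨3056, 0x5500450040004000380010216000c08001, 0x1a52408020030481408⟩)]⟩]

theorem t9_567_42 : jobs 8 S9 b8_567 j9_567_42 = true := by decide +kernel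

noncomputable def j9_567_43 : List Job := [
  ⟨10, 0x4c8663a1dcc062381cc2e15098440e0501, 0, 6, 0x210000410000610000812000a11000c03, []⟩]

theorem t9_567_43 : jobs 8 S9 b8_567 j9_567_43 = true := by decide +kernel

noncomputable def j9_567_44 : List Job := [
  ⟨9, 0x520924a259309a4e27d008242219108a4623cc466391dcc064381d42e15098440e0501, 0, 10, 0x204000405000605000804001200001401, [(8, ⟨3055, 0x5401440240004000201030010000400001, 0x1a02688020020401402⟩)]⟩]

theorem t9_567_44 : jobs 8 S9 b8_567 j9_567_44 = true := by decide +kernel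

noncomputable def j9_567_45 : List Job := [
  ⟨7, 0x520924a259309a4e27d008242219108a4623c2e15098440e0501, 0, 3, 0x401, []⟩]

theorem t9_567_45 : jobs 8 S9 b8_567 j9_567_45 = true := by decide +kernel

noncomputable def j9_567_46 : List Job := [
  ⟨6, 0x4e0723a1dcc0623219c2e15098440e0501, 0, 8, 0x210000401000602000811000a01000c02000e02001010, []⟩]

theorem t9_567_46 : jobs 8 S9 b8_567 j9_567_46 = true := by decide +kernel

noncomputable def j9_567_47 : List Job := [
  ⟨5, 0x520924a259309a4e27d008242219108a4623ce0723a1dcc0623219c2e15098440e0501, 0, 10, 0x205000604000804000c05, []⟩]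

theorem t9_567_47 : jobs 8 S9 b8_567 j9_567_47 = true := by decide +kernel

noncomputable def j9_567_48 : List Job := [
  ⟨4, 0x42e15098440e0501, 0, 4, 0x401000601000801, []⟩]

theorem t9_567_48 : jobs 8 S9 b8_567 j9_567_48 = true := by decide +kernel

noncomputable def j9_567_49 : List Job := [
  ⟨3, 0x48c57221548453201442e15098440e0501, 0, 10, 0xa05001005001204, []⟩]

theorem t9_567_49 : jobs 8 S9 b8_567 j9_567_49 = true := by decide +kernel

noncomputable def j9_567_50 : List Job := [
  ⟨2, 0x590ca66339a0d26a35d80c262319b0da6e37d20924a259309a4e27d008242219108a4623c2e15098440e0501, 0, 11, 0x600000800000a01000c01001001001401, [(3, ⟨3047, 0x87016e01280013000f000301080002000001, 0x18f358882802070040a⟩), (2, ⟨3046, 0x87006e01280113000f000301080102000001, 0x18f358882802070040a⟩)]⟩]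

theorem t9_567_50 : jobs 8 S9 b8_567 j9_567_50 = true := by decide +kernel

noncomputable def j9_567_51 : List Job := [
  ⟨1, 0x590ca66339a0d26a35d80c262319b0da6e37d20924a259309a4e27d008242219108a4623c8c512214c84552015c2e15098440e0501, 0, 14, 0x211000611000e00001001001201001801, [(6, ⟨3038, 0x80016300200010000f010100080003000001, 0x1803088020020581408⟩)]⟩]

theorem t9_567_51 : jobs 8 S9 b8_567 j9_567_51 = true := by decide +kernel

noncomputable def j9_567_52 : List Job := [
  ⟨0, 0x42e15098440e0501, 0, 2, 0x400, [(1, ⟨3030, 0x4e814e0240006408200030214040800001, 0x19f278802c03040040a⟩)]⟩]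

theorem t9_567_52 : jobs 8 S9 b8_567 j9_567_52 = true := by decide +kernel

theorem d9_567 : Dn 8 S9 b8_567 := dn_of (Js := j9_567_0 ++ (j9_567_1 ++ (j9_567_2 ++ (j9_567_3 ++ (j9_567_4 ++ (j9_567_5 ++ (j9_567_6 ++ (j9_567_7 ++ (j9_567_8 ++ (j9_567_9 ++ (j9_567_10 ++ (j9_567_11 ++ (j9_567_12 ++ (j9_567_13 ++ (j9_567_14 ++ (j9_567_15 ++ (j9_567_16 ++ (j9_567_17 ++ (j9_567_18 ++ (j9_567_19 ++ (j9_567_20 ++ (j9_567_21 ++ (j9_567_22 ++ (j9_567_23 ++ (j9_567_24 ++ (j9_567_25 ++ (j9_567_26 ++ (j9_567_27 ++ (j9_567_28 ++ (j9_567_29 ++ (j9_567_30 ++ (j9_567_31 ++ (j9_567_32 ++ (j9_567_33 ++ (j9_567_34 ++ (j9_567_35 ++ (j9_567_36 ++ (j9_567_37 ++ (j9_567_38 ++ (j9_567_39 ++ (j9_567_40 ++ (j9_567_41 ++ (j9_567_42 ++ (j9_567_43 ++ (j9_567_44 ++ (j9_567_45 ++ (j9_567_46 ++ (j9_567_47 ++ (j9_567_48 ++ (j9_567_49 ++ (j9_567_50 ++ (j9_567_51 ++ (j9_567_52 ++ [])))))))))))))))))))))))))))))))))))))))))))))))))))))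
  (jobs_append t9_567_0 <| jobs_append t9_567_1 <| jobs_append t9_567_2 <| jobs_append t9_567_3 <| jobs_append t9_567_4 <| jobs_append t9_567_5 <| jobs_append t9_567_6 <| jobs_append t9_567_7 <| jobs_append t9_567_8 <| jobs_append t9_567_9 <| jobs_append t9_567_10 <| jobs_append t9_567_11 <| jobs_append t9_567_12 <| jobs_append t9_567_13 <| jobs_append t9_567_14 <| jobs_append t9_567_15 <| jobs_append t9_567_16 <| jobs_append t9_567_17 <| jobs_append t9_567_18 <| jobs_append t9_567_19 <| jobs_append t9_567_20 <| jobs_append t9_567_21 <| jobs_append t9_567_22 <| jobs_append t9_567_23 <| jobs_append t9_567_24 <| jobs_append t9_567_25 <| jobs_append t9_567_26 <| jobs_append t9_567_27 <| jobs_append t9_567_28 <| jobs_append t9_567_29 <| jobs_append t9_567_30 <| jobs_append t9_567_31 <| jobs_append t9_567_32 <| jobs_append t9_567_33 <| jobs_append t9_567_34 <| jobs_append t9_567_35 <| jobs_append t9_567_36 <| jobs_append t9_567_37 <| jobs_append t9_567_38 <| jobs_append t9_567_39 <| jobs_append t9_567_40 <| jobs_append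 t9_567_41 <| jobs_append t9_567_42 <| jobs_append t9_567_43 <| jobs_append t9_567_44 <| jobs_append t9_567_45 <| jobs_append t9_567_46 <| jobs_append t9_567_47 <| jobs_append t9_567_48 <| jobs_append t9_567_49 <| jobs_append t9_567_50 <| jobs_append t9_567_51 <| jobs_append t9_567_52 <| List.forall_mem_nil _) (by decide +kernel)

noncomputable def j9_568_0 : List Job := [
  ⟨63, 0x601028241a21128a45a41229249a61329a4dc804222118904a26138a0522a158b05a2e17c2e15098440e0501, 0, 24, 0x203, []⟩]

theorem t9_568_0 : jobs 8 S9 b8_568 j9_568_0 = true := by decide +kernel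

noncomputable def j9_568_1 : List Job := [
  ⟨62, 0x4140d0403c0e0501, 0, 15, 0xa03000c02, []⟩]

theorem t9_568_1 : jobs 8 S9 b8_568 j9_568_1 = true := by decide +kernel

noncomputable def j9_568_2 : List Job := [
  ⟨61, 0x601028241a21128a45a41229249a61329a4dc140d0403c0e0501, 0, 18, 0xa02000c03, []⟩]

theorem t9_568_2 : jobs 8 S9 b8_568 j9_568_2 = true := by decide +kernel

noncomputable def j9_568_3 : List Job := [
  ⟨60, 0x601028241a21128a45a41229249a61329a4dd20924a259309a4e27960b25a2d970ba5e2fd008242219108a4623940a25229950aa562bc804222118904a26138a0522a158b05a2e17c2e15098440e0501, 0, 24, 0x202, []⟩]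

theorem t9_568_3 : jobs 8 S9 b8_568 j9_568_3 = true := by decide +kernel

noncomputable def j9_568_4 : List Job := [
  ⟨59, 0x520924a259309a4e27960b25a2d970ba5e2fd008242219108a4623940a25229950aa562bcc06232198d06a361b8e0723a1d8f07a3e1fc804222118904a26138a0522a158b05a2e17c140d0403c0e0501, 0, 15, 0x0, []⟩]

theorem t9_568_4 : jobs 8 S9 b8_568 j9_568_4 = true := by decide +kernel

noncomputable def j9_568_5 : List Job := [
  ⟨58, 0x601028241a21128a45a41229249a61329a4dd20924a259309a4e27960b25a2d970ba5e2fd008242219108a4623940a25229950aa562bcc06232198d06a361b8e0723a1d8f07a3e1fc804222118904a26138a0522a158b05a2e17c140d0403c0e0501, 0, 30, 0x2e01003401, []⟩]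

theorem t9_568_5 : jobs 8 S9 b8_568 j9_568_5 = true := by decide +kernel

noncomputable def j9_568_6 : List Job := [
  ⟨57, 0x4703a1e0fc502a160bc2417080540e0501, 0, 30, 0x0, []⟩]

theorem t9_568_6 : jobs 8 S9 b8_568 j9_568_6 = true := by decide +kernel

noncomputable def j9_568_7 : List Job := [
  ⟨56, 0x601028241a21128a45a41229249a61329a4dc804222118904a26138a0522a158b05a2e17c703a1e0fc502a160bc28170804c0e0501, 0, 30, 0x0, []⟩]

theorem t9_568_7 : jobs 8 S9 b8_568 j9_568_7 = true := by decide +kernel

noncomputable def j9_568_8 : List Job := [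
  ⟨55, 0x46435180dc502a160bc381f0c06c0e0501, 0, 34, 0x1205001405001604001805001a05001c05001e04, []⟩]

theorem t9_568_8 : jobs 8 S9 b8_568 j9_568_8 = true := by decide +kernel

noncomputable def j9_568_9 : List Job := [
  ⟨54, 0x524964d27964b65c2f520944c27160b45d2fd04864523944a6542b500844423140a4552bc6435180dc502a160bc381f0c06c0e0501, 0, 34, 0x0, []⟩]

theorem t9_568_9 : jobs 8 S9 b8_568 j9_568_9 = true := by decide +kernel

noncomputable def j9_568_10 : List Job := [
  ⟨53, 0x601028241a21128a45a41229249a61329a4dc804222118904a26138a0522a158b05a2e17c6435180dc502a160bc381f0c06c0e0501, 0, 34, 0x1205001404001805001c04, []⟩]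

theorem t9_568_10 : jobs 8 S9 b8_568 j9_568_10 = true := by decide +kernel

noncomputable def j9_568_11 : List Job := [
  ⟨52, 0x601028241a21128a45a41229249a61329a4dd24964d27964b65c2f520944c27160b45d2fd04864523944a6542b500844423140a4552bc804222118904a26138a0522a158b05a2e17c6435180dc502a160bc381f0c06c0e0501, 0, 34, 0x0, []⟩]

theorem t9_568_11 : jobs 8 S9 b8_568 j9_568_11 = true := by decide +kernel

noncomputable def j9_568_12 : List Job := [
  ⟨51, 0x504864523944a6542b500844423140a4552bc703a1e0fc502a160bc2417080540e0501, 0, 46, 0x1204001405001604001804001a04001c04003a01003c01003e01004001004201004401, []⟩]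

theorem t9_568_12 : jobs 8 S9 b8_568 j9_568_12 = true := by decide +kernel

noncomputable def j9_568_13 : List Job := [
  ⟨50, 0x601028241a21128a45a41229249a61329a4dd04864523944a6542b500844423140a4552bc804222118904a26138a0522a158b05a2e17c703a1e0fc502a160bc2417080540e0501, 0, 46, 0x1204001800003a01004001, [(11, ⟨3273, 0x880042012b00120008000601030002000001, 0x188208a822080280406⟩)]⟩]

theorem t9_568_13 : jobs 8 S9 b8_568 j9_568_13 = true := by decide +kernel

noncomputable def j9_568_14 : List Job := [
  ⟨49, 0x4502a160bc48271008c140d0403c0e0501, 0, 34, 0x204000607000a04000e04002605002a07, []⟩]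

theorem t9_568_14 : jobs 8 S9 b8_568 j9_568_14 = true := by decide +kernel

noncomputable def j9_568_15 : List Job := [
  ⟨48, 0x524964d27964b65c2f520944c27160b45d2fd04864523944a6542b500844423140a4552bc502a160bc48271008c140d0403c0e0501, 0, 34, 0x204000a07, []⟩]

theorem t9_568_15 : jobs 8 S9 b8_568 j9_568_15 = true := by decide +kernel

noncomputable def j9_568_16 : List Job := [
  ⟨47, 0x601028241a21128a45a41229249a61329a4dc804222118904a26138a0522a158b05a2e17c502a160bc48271008c140d0403c0e0501, 0, 34, 0x204000605000a04000e05002603002a03, []⟩]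

theorem t9_568_16 : jobs 8 S9 b8_568 j9_568_16 = true := by decide +kernel

noncomputable def j9_568_17 : List Job := [
  ⟨46, 0x601028241a21128a45a41229249a61329a4dd24964d27964b65c2f520944c27160b45d2fd04864523944a6542b500844423140a4552bc804222118904a26138a0522a158b05a2e17c502a160bc48271008c140d0403c0e0501, 0, 34, 0x203000a03, []⟩]

theorem t9_568_17 : jobs 8 S9 b8_568 j9_568_17 = true := by decide +kernel

noncomputable def j9_568_18 : List Job := [
  ⟨45, 0x504864523944a6542b500844423140a4552bc703a1e0fc60321a0dc502a160bc48271008c301a0e07c241708054140d0403c0e0501, 0, 46, 0x1204001400001604001805, [(9, ⟨3268, 0x210144018000040108001301010102000001, 0x120282080e080800404⟩)]⟩]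

theorem t9_568_18 : jobs 8 S9 b8_568 j9_568_18 = true := by decide +kernel

noncomputable def j9_568_19 : List Job := [
  ⟨44, 0x504864523944a6542b500844423140a4552bc884626138a8562c16c804224128a0522e17c703a1e0fc60321a0dc502a160bc48271008c301a0e07c241708054140d0403c0e0501, 0, 52, 0x1200001404001600003204003404003a00003e01004200004601004a01004c01005201, [(32, ⟨3267, 0x11e012e00230042c02220106000180404020001, 0x1971215812120380c02⟩), (28, ⟨3266, 0x116004600108004402100104000180408020001, 0x18a2288c26080200406⟩), (10, ⟨3265, 0x116004600918004400100004008180008000001, 0x18a2288826080200406⟩), (8, ⟨3264, 0x116004600118004400100004008180008000001, 0x18a2288826080200406⟩)]⟩]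

theorem t9_568_19 : jobs 8 S9 b8_568 j9_568_19 = true := by decide +kernel

noncomputable def j9_568_20 : List Job := [
  ⟨43, 0x41e0d058240e0501, 0, 24, 0x204000406000602000804, []⟩]

theorem t9_568_20 : jobs 8 S9 b8_568 j9_568_20 = true := by decide +kernel

noncomputable def j9_568_21 : List Job := [
  ⟨42, 0x520924a259309a4e27960b25a2d970ba5e2fd008242219108a4623940a25229950aa562bc2e15098440e0501, 0, 24, 0xe02001004001204001406, []⟩]

theorem t9_568_21 : jobs 8 S9 b8_568 j9_568_21 = true := by decide +kernel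

noncomputable def j9_568_22 : List Job := [
  ⟨41, 0x508864623948a6562bd00824422940a2542ac844425130a4542d174804624138a0562c17c1e0d058240e0501, 0, 30, 0x202000404000604, []⟩]

theorem t9_568_22 : jobs 8 S9 b8_568 j9_568_22 = true := by decide +kernel

noncomputable def j9_568_23 : List Job := [
  ⟨40, 0x6110a8643a311a8e47a512a964ba713a9e4fe01028241a21128a45a41229249a61329a4dd04864523944a6552bd00844423140a4542b4884626138a8562e17c804224128a0522c16c1e0d058240e0501, 0, 57, 0x202000406000601006208006808006e01, []⟩]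

theorem t9_568_23 : jobs 8 S9 b8_568 j9_568_23 = true := by decide +kernel

noncomputable def j9_568_24 : List Job := [
  ⟨38, 0x41e0d058240e0501, 0, 2, 0x201000401, []⟩]

theorem t9_568_24 : jobs 8 S9 b8_568 j9_568_24 = true := by decide +kernel

noncomputable def j9_568_25 : List Job := [
  ⟨37, 0x488472010c0e0501, 0, 5, 0x0, []⟩]

theorem t9_568_25 : jobs 8 S9 b8_568 j9_568_25 = true := by decide +kernel

noncomputable def j9_568_26 : List Job := [
  ⟨36, 0x488472010c0e0501, 0, 4, 0x0, []⟩]

theorem t9_568_26 : jobs 8 S9 b8_568 j9_568_26 = true := by decide +kernel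

noncomputable def j9_568_27 : List Job := [
  ⟨35, 0x41e0d058240e0501, 0, 9, 0x401000a01000c01000e01001001001201, []⟩]

theorem t9_568_27 : jobs 8 S9 b8_568 j9_568_27 = true := by decide +kernel

noncomputable def j9_568_28 : List Job := [
  ⟨34, 0x4984f2412c88472010c1e0d058240e0501, 0, 17, 0xa08000c01001008001408001601001808001a08001c01001e08002001, []⟩]

theorem t9_568_28 : jobs 8 S9 b8_568 j9_568_28 = true := by decide +kernel

noncomputable def j9_568_29 : List Job := [
  ⟨27, 0x448271008c0e0501, 0, 2, 0x0, []⟩]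

theorem t9_568_29 : jobs 8 S9 b8_568 j9_568_29 = true := by decide +kernel

noncomputable def j9_568_30 : List Job := [
  ⟨26, 0x448271008c0e0501, 0, 2, 0x0, []⟩]

theorem t9_568_30 : jobs 8 S9 b8_568 j9_568_30 = true := by decide +kernel

noncomputable def j9_568_31 : List Job := [
  ⟨25, 0x448271008c0e0501, 0, 8, 0x0, []⟩]

theorem t9_568_31 : jobs 8 S9 b8_568 j9_568_31 = true := by decide +kernel

noncomputable def j9_568_32 : List Job := [
  ⟨24, 0x448271008c0e0501, 0, 8, 0x0, []⟩]

theorem t9_568_32 : jobs 8 S9 b8_568 j9_568_32 = true := by decide +kernel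

noncomputable def j9_568_33 : List Job := [
  ⟨23, 0x4542f140b40e0501, 0, 4, 0x0, []⟩]

theorem t9_568_33 : jobs 8 S9 b8_568 j9_568_33 = true := by decide +kernel

noncomputable def j9_568_34 : List Job := [
  ⟨22, 0x4542f140b40e0501, 0, 4, 0x0, []⟩]

theorem t9_568_34 : jobs 8 S9 b8_568 j9_568_34 = true := by decide +kernel

noncomputable def j9_568_35 : List Job := [
  ⟨21, 0x44e25118840e0501, 0, 4, 0x0, []⟩]

theorem t9_568_35 : jobs 8 S9 b8_568 j9_568_35 = true := by decide +kernel

noncomputable def j9_568_36 : List Job := [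
  ⟨20, 0x44e25118840e0501, 0, 6, 0x0, []⟩]

theorem t9_568_36 : jobs 8 S9 b8_568 j9_568_36 = true := by decide +kernel

noncomputable def j9_568_37 : List Job := [
  ⟨19, 0x4542f140b40e0501, 0, 3, 0x0, []⟩]

theorem t9_568_37 : jobs 8 S9 b8_568 j9_568_37 = true := by decide +kernel

noncomputable def j9_568_38 : List Job := [
  ⟨18, 0x4542f140b40e0501, 0, 3, 0x0, []⟩]

theorem t9_568_38 : jobs 8 S9 b8_568 j9_568_38 = true := by decide +kernel

noncomputable def j9_568_39 : List Job := [
  ⟨17, 0x44e25118840e0501, 0, 3, 0x0, []⟩]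

theorem t9_568_39 : jobs 8 S9 b8_568 j9_568_39 = true := by decide +kernel

noncomputable def j9_568_40 : List Job := [
  ⟨16, 0x44e25118840e0501, 0, 3, 0x0, []⟩]

theorem t9_568_40 : jobs 8 S9 b8_568 j9_568_40 = true := by decide +kernel

noncomputable def j9_568_41 : List Job := [
  ⟨15, 0x41e0d058240e0501, 0, 5, 0xa01, []⟩]

theorem t9_568_41 : jobs 8 S9 b8_568 j9_568_41 = true := by decide +kernel

noncomputable def j9_568_42 : List Job := [
  ⟨14, 0x4a0522a158b05a2e17c804222118904a2613c502a160bc0e0501, 0, 6, 0x0, []⟩]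

theorem t9_568_42 : jobs 8 S9 b8_568 j9_568_42 = true := by decide +kernel

noncomputable def j9_568_43 : List Job := [
  ⟨13, 0x4a0522a158b05a2e17c804222118904a2613c502a160bc0e0501, 0, 6, 0x0, []⟩]

theorem t9_568_43 : jobs 8 S9 b8_568 j9_568_43 = true := by decide +kernel

noncomputable def j9_568_44 : List Job := [
  ⟨12, 0x44e25118840e0501, 0, 4, 0x0, []⟩]

theorem t9_568_44 : jobs 8 S9 b8_568 j9_568_44 = true := by decide +kernel

noncomputable def j9_568_45 : List Job := [
  ⟨11, 0x44e25118840e0501, 0, 4, 0x0, []⟩]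

theorem t9_568_45 : jobs 8 S9 b8_568 j9_568_45 = true := by decide +kernel

noncomputable def j9_568_46 : List Job := [
  ⟨10, 0x4e0723a1d8f07a3e1fcc06232198d06a361bca0522a158b05a2e17c804222118904a2613c4e25118840e0501, 0, 17, 0x821001820, []⟩]

theorem t9_568_46 : jobs 8 S9 b8_568 j9_568_46 = true := by decide +kernel

noncomputable def j9_568_47 : List Job := [
  ⟨9, 0x4e0723a1d8f07a3e1fcc06232198d06a361bca0522a158b05a2e17c804222118904a2613c4e25118840e0501, 0, 14, 0x1420001a20, []⟩]

theorem t9_568_47 : jobs 8 S9 b8_568 j9_568_47 = true := by decide +kernel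

noncomputable def j9_568_48 : List Job := [
  ⟨8, 0x4502a160bc0e0501, 0, 8, 0x0, []⟩]

theorem t9_568_48 : jobs 8 S9 b8_568 j9_568_48 = true := by decide +kernel

noncomputable def j9_568_49 : List Job := [
  ⟨7, 0x4e0723a1d8f07a3e1fc804222118904a2613c502a160bc0e0501, 0, 12, 0x0, []⟩]

theorem t9_568_49 : jobs 8 S9 b8_568 j9_568_49 = true := by decide +kernel

noncomputable def j9_568_50 : List Job := [
  ⟨6, 0x44e25118840e0501, 0, 5, 0x0, []⟩]

theorem t9_568_50 : jobs 8 S9 b8_568 j9_568_50 = true := by decide +kernel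

noncomputable def j9_568_51 : List Job := [
  ⟨5, 0x4c06232198d06a361bc804222118904a2613c4e25118840e0501, 0, 8, 0x0, []⟩]

theorem t9_568_51 : jobs 8 S9 b8_568 j9_568_51 = true := by decide +kernel

noncomputable def j9_568_52 : List Job := [
  ⟨4, 0x44e25118840e0501, 0, 5, 0x0, []⟩]

theorem t9_568_52 : jobs 8 S9 b8_568 j9_568_52 = true := by decide +kernel

noncomputable def j9_568_53 : List Job := [
  ⟨3, 0x4c06232198d06a361bc804222118904a2613c4e25118840e0501, 0, 8, 0x0, []⟩]

theorem t9_568_53 : jobs 8 S9 b8_568 j9_568_53 = true := by decide +kernel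

theorem d9_568 : Dn 8 S9 b8_568 := dn_of (Js := j9_568_0 ++ (j9_568_1 ++ (j9_568_2 ++ (j9_568_3 ++ (j9_568_4 ++ (j9_568_5 ++ (j9_568_6 ++ (j9_568_7 ++ (j9_568_8 ++ (j9_568_9 ++ (j9_568_10 ++ (j9_568_11 ++ (j9_568_12 ++ (j9_568_13 ++ (j9_568_14 ++ (j9_568_15 ++ (j9_568_16 ++ (j9_568_17 ++ (j9_568_18 ++ (j9_568_19 ++ (j9_568_20 ++ (j9_568_21 ++ (j9_568_22 ++ (j9_568_23 ++ (j9_568_24 ++ (j9_568_25 ++ (j9_568_26 ++ (j9_568_27 ++ (j9_568_28 ++ (j9_568_29 ++ (j9_568_30 ++ (j9_568_31 ++ (j9_568_32 ++ (j9_568_33 ++ (j9_568_34 ++ (j9_568_35 ++ (j9_568_36 ++ (j9_568_37 ++ (j9_568_38 ++ (j9_568_39 ++ (j9_568_40 ++ (j9_568_41 ++ (j9_568_42 ++ (j9_568_43 ++ (j9_568_44 ++ (j9_568_45 ++ (j9_568_46 ++ (j9_568_47 ++ (j9_568_48 ++ (j9_568_49 ++ (j9_568_50 ++ (j9_568_51 ++ (j9_568_52 ++ (j9_568_53 ++ []))))))))))))))))))))))))))))))))))))))))))))))))))))))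
  (jobs_append t9_568_0 <| jobs_append t9_568_1 <| jobs_append t9_568_2 <| jobs_append t9_568_3 <| jobs_append t9_568_4 <| jobs_append t9_568_5 <| jobs_append t9_568_6 <| jobs_append t9_568_7 <| jobs_append t9_568_8 <| jobs_append t9_568_9 <| jobs_append t9_568_10 <| jobs_append t9_568_11 <| jobs_append t9_568_12 <| jobs_append t9_568_13 <| jobs_append t9_568_14 <| jobs_append t9_568_15 <| jobs_append t9_568_16 <| jobs_append t9_568_17 <| jobs_append t9_568_18 <| jobs_append t9_568_19 <| jobs_append t9_568_20 <| jobs_append t9_568_21 <| jobs_append t9_568_22 <| jobs_append t9_568_23 <| jobs_append t9_568_24 <| jobs_append t9_568_25 <| jobs_append t9_568_26 <| jobs_append t9_568_27 <| jobs_append t9_568_28 <| jobs_append t9_568_29 <| jobs_append t9_568_30 <| jobs_append t9_568_31 <| jobs_append t9_568_32 <| jobs_append t9_568_33 <| jobs_append t9_568_34 <| jobs_append t9_568_35 <| jobs_append t9_568_36 <| jobs_append t9_568_37 <| jobs_append t9_568_38 <| jobs_append t9_568_39 <| jobs_append t9_568_40 <| jobs_append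 t9_568_41 <| jobs_append t9_568_42 <| jobs_append t9_568_43 <| jobs_append t9_568_44 <| jobs_append t9_568_45 <| jobs_append t9_568_46 <| jobs_append t9_568_47 <| jobs_append t9_568_48 <| jobs_append t9_568_49 <| jobs_append t9_568_50 <| jobs_append t9_568_51 <| jobs_append t9_568_52 <| jobs_append t9_568_53 <| List.forall_mem_nil _) (by decide +kernel)

noncomputable def j9_569_0 : List Job := [
  ⟨63, 0x44e25118840e0501, 0, 9, 0x1004001204, []⟩]

theorem t9_569_0 : jobs 8 S9 b8_569 j9_569_0 = true := by decide +kernel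

noncomputable def j9_569_1 : List Job := [
  ⟨62, 0x641229249a512a964ba61329a4da713a9e4fe01028241a110a8643a21128a45a311a8e47c4e25118840e0501, 0, 20, 0xa04000c04002020002420, []⟩]

theorem t9_569_1 : jobs 8 S9 b8_569 j9_569_1 = true := by decide +kernel

noncomputable def j9_569_2 : List Job := [
  ⟨61, 0x4703a1e0fc60321a0dc502a160bc48271008c301a0e07c20120a05c100a0603c0e0501, 0, 11, 0x1401, []⟩]

theorem t9_569_2 : jobs 8 S9 b8_569 j9_569_2 = true := by decide +kernel

noncomputable def j9_569_3 : List Job := [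
  ⟨60, 0x605068543a25168c47601048443221148d47c703a1e0fc60321a0dc502a160bc442710094301a0e07c20120a05c100a0603c0e0501, 0, 24, 0xc00001000001200001400002000002c00, [(21, ⟨3300, 0x86004e0128000b0006001001020001010001, 0x1882d8cc08130500802⟩), (15, ⟨3301, 0x86014f0128000b0106011000020101000001, 0x1882d0cc08130500802⟩), (9, ⟨3303, 0x86004f0129000b0006001001020101010001, 0x1882d0c808130500802⟩), (8, ⟨3302, 0x86004f0129000b0006001001020101010001, 0x1882d0c808130500802⟩), (7, ⟨3305, 0x86014f0029000b0006001001020101000001, 0x1882d0c808130500802⟩), (5, ⟨3304, 0x88004a0077000a000c011100020103000001, 0x192281a80e120d00806⟩)]⟩]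

theorem t9_569_3 : jobs 8 S9 b8_569 j9_569_3 = true := by decide +kernel

noncomputable def j9_569_4 : List Job := [
  ⟨59, 0x4703a1e0fc60321a0dc502a160bc48271008c301a0e07c20120a05c100a0603c0e0501, 0, 7, 0xa01000c01, []⟩]

theorem t9_569_4 : jobs 8 S9 b8_569 j9_569_4 = true := by decide +kernel

noncomputable def j9_569_5 : List Job := [
  ⟨58, 0x605068543a25168c47601048443221148d47c703a1e0fc60321a0dc502a160bc442710094301a0e07c20120a05c100a0603c0e0501, 0, 17, 0xc00000e00001200001800002000, [(15, ⟨3296, 0x1040053003880428021e011000810000c020001, 0x1822299808120d80806⟩), (11, ⟨3295, 0x1040053003880028021e011000810000c020001, 0x1822299808120d80806⟩), (8, ⟨3297, 0x10c005d009580424020c0011008100004000001, 0x1882f8c80a110500802⟩), (6, ⟨3299, 0x10c002600368041802180112008100004020001, 0x1903c1400c1a0900802⟩), (5, ⟨3298, 0x104017d00a48003c00100112008100004000001, 0x182149f00c080d80802⟩)]⟩]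

theorem t9_569_5 : jobs 8 S9 b8_569 j9_569_5 = true := by decide +kernel

noncomputable def j9_569_6 : List Job := [
  ⟨57, 0x444251009c0e0501, 0, 8, 0x0, []⟩]

theorem t9_569_6 : jobs 8 S9 b8_569 j9_569_6 = true := by decide +kernel

noncomputable def j9_569_7 : List Job := [
  ⟨56, 0x601028241a110a8643a21128a45a311a8e47c44251009c0e0501, 0, 8, 0x0, []⟩]

theorem t9_569_7 : jobs 8 S9 b8_569 j9_569_7 = true := by decide +kernel

noncomputable def j9_569_8 : List Job := [
  ⟨55, 0x444251009c0e0501, 0, 6, 0x206000406, []⟩]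

theorem t9_569_8 : jobs 8 S9 b8_569 j9_569_8 = true := by decide +kernel

noncomputable def j9_569_9 : List Job := [
  ⟨54, 0x601028241a110a8643a21128a45a311a8e47c44251009c0e0501, 0, 14, 0x206000406, []⟩]

theorem t9_569_9 : jobs 8 S9 b8_569 j9_569_9 = true := by decide +kernel

noncomputable def j9_569_10 : List Job := [
  ⟨53, 0x444251009c0e0501, 0, 6, 0x0, []⟩]

theorem t9_569_10 : jobs 8 S9 b8_569 j9_569_10 = true := by decide +kernel

noncomputable def j9_569_11 : List Job := [
  ⟨52, 0x601028241a110a8643a21128a45a311a8e47c44251009c0e0501, 0, 6, 0x0, []⟩]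

theorem t9_569_11 : jobs 8 S9 b8_569 j9_569_11 = true := by decide +kernel

noncomputable def j9_569_12 : List Job := [
  ⟨51, 0x444251009c0e0501, 0, 8, 0x206000406000606000806, []⟩]

theorem t9_569_12 : jobs 8 S9 b8_569 j9_569_12 = true := by decide +kernel

noncomputable def j9_569_13 : List Job := [
  ⟨50, 0x601028241a110a8643a21128a45a311a8e47c44251009c0e0501, 0, 18, 0x206000406000606000806, []⟩]

theorem t9_569_13 : jobs 8 S9 b8_569 j9_569_13 = true := by decide +kernel

noncomputable def j9_569_14 : List Job := [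
  ⟨49, 0x448271008c0e0501, 0, 14, 0x0, []⟩]

theorem t9_569_14 : jobs 8 S9 b8_569 j9_569_14 = true := by decide +kernel

noncomputable def j9_569_15 : List Job := [
  ⟨48, 0x601028241a110a8643a21128a45a311a8e47c4427100940e0501, 0, 14, 0x0, []⟩]

theorem t9_569_15 : jobs 8 S9 b8_569 j9_569_15 = true := by decide +kernel

noncomputable def j9_569_16 : List Job := [
  ⟨47, 0x448271008c0e0501, 0, 14, 0x202000402000602000802000a02000c02, []⟩]

theorem t9_569_16 : jobs 8 S9 b8_569 j9_569_16 = true := by decide +kernel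

noncomputable def j9_569_17 : List Job := [
  ⟨46, 0x601028241a110a8643a21128a45a311a8e47c4427100940e0501, 0, 26, 0x204000404000604000804000a04000c04, []⟩]

theorem t9_569_17 : jobs 8 S9 b8_569 j9_569_17 = true := by decide +kernel

noncomputable def j9_569_18 : List Job := [
  ⟨45, 0x4502a160bc48271008c100a0603c0e0501, 0, 14, 0x0, []⟩]

theorem t9_569_18 : jobs 8 S9 b8_569 j9_569_18 = true := by decide +kernel

noncomputable def j9_569_19 : List Job := [
  ⟨44, 0x605068543a25168c47601048443221148d47c502a160bc442710094100a0603c0e0501, 0, 24, 0x1004001201001400001604001804001a04001c04001e00002004, [(14, ⟨3293, 0x420049006a042408200130204000408001, 0x188290b80e110400802⟩), (9, ⟨3294, 0x420149026a042408200130004000408001, 0x188290b80e110400802⟩)]⟩]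

theorem t9_569_19 : jobs 8 S9 b8_569 j9_569_19 = true := by decide +kernel

noncomputable def j9_569_20 : List Job := [
  ⟨43, 0x4502a160bc48271008c100a0603c0e0501, 0, 14, 0x0, []⟩]

theorem t9_569_20 : jobs 8 S9 b8_569 j9_569_20 = true := by decide +kernel

noncomputable def j9_569_21 : List Job := [
  ⟨42, 0x605068543a25168c47601048443221148d47c502a160bc442710094100a0603c0e0501, 0, 24, 0x1e04002004002204002405002600002804002e05003000, [(23, ⟨3291, 0x4201490268042400200120004000408001, 0x188290b80c110400802⟩), (18, ⟨3292, 0x4201490268002408200120204000408001, 0x188290b80c110400802⟩)]⟩]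

theorem t9_569_21 : jobs 8 S9 b8_569 j9_569_21 = true := by decide +kernel

noncomputable def j9_569_22 : List Job := [
  ⟨41, 0x44e25118840e0501, 0, 12, 0x0, []⟩]

theorem t9_569_22 : jobs 8 S9 b8_569 j9_569_22 = true := by decide +kernel

noncomputable def j9_569_23 : List Job := [
  ⟨40, 0x44e25118840e0501, 0, 10, 0x0, []⟩]

theorem t9_569_23 : jobs 8 S9 b8_569 j9_569_23 = true := by decide +kernel

noncomputable def j9_569_24 : List Job := [
  ⟨39, 0x500824221920924a25940a25229960b25a2dc804222118904a26138c06232198d06a361bc4e25118840e0501, 0, 10, 0x0, []⟩]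

theorem t9_569_24 : jobs 8 S9 b8_569 j9_569_24 = true := by decide +kernel

noncomputable def j9_569_25 : List Job := [
  ⟨38, 0x500824221920924a25940a25229960b25a2dc804222118904a26138c06232198d06a361bc4e25118840e0501, 0, 12, 0x0, []⟩]

theorem t9_569_25 : jobs 8 S9 b8_569 j9_569_25 = true := by decide +kernel

noncomputable def j9_569_26 : List Job := [
  ⟨37, 0x4703a1e0fc0e0501, 0, 12, 0x0, []⟩]

theorem t9_569_26 : jobs 8 S9 b8_569 j9_569_26 = true := by decide +kernel

noncomputable def j9_569_27 : List Job := [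
  ⟨36, 0x4703a1e0fc0e0501, 0, 10, 0x0, []⟩]

theorem t9_569_27 : jobs 8 S9 b8_569 j9_569_27 = true := by decide +kernel

noncomputable def j9_569_28 : List Job := [
  ⟨35, 0x500824221920924a25940a25229960b25a2dc804222118904a26138c06232198d06a361bc703a1e0fc0e0501, 0, 10, 0x0, []⟩]

theorem t9_569_28 : jobs 8 S9 b8_569 j9_569_28 = true := by decide +kernel

noncomputable def j9_569_29 : List Job := [
  ⟨34, 0x500824221920924a25940a25229960b25a2dc804222118904a26138c06232198d06a361bc703a1e0fc0e0501, 0, 12, 0x0, []⟩]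

theorem t9_569_29 : jobs 8 S9 b8_569 j9_569_29 = true := by decide +kernel

noncomputable def j9_569_30 : List Job := [
  ⟨33, 0x44e25118840e0501, 0, 9, 0x0, []⟩]

theorem t9_569_30 : jobs 8 S9 b8_569 j9_569_30 = true := by decide +kernel

noncomputable def j9_569_31 : List Job := [
  ⟨32, 0x44e25118840e0501, 0, 9, 0x0, []⟩]

theorem t9_569_31 : jobs 8 S9 b8_569 j9_569_31 = true := by decide +kernel

noncomputable def j9_569_32 : List Job := [
  ⟨31, 0x504864925940a4582d500844825144a6592dc884626138c062341ac804224128c866361bc4e25118840e0501, 0, 22, 0x1027001200001400001601001801, [(9, ⟨3283, 0x940153012600080004011300020001000001, 0x18e220ac0e100400802⟩), (8, ⟨3282, 0x97004a0033010a0005001301020101010001, 0x18c290900e120480802⟩)]⟩]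

theorem t9_569_32 : jobs 8 S9 b8_569 j9_569_32 = true := by decide +kernel

noncomputable def j9_569_33 : List Job := [
  ⟨30, 0x504864925944a6592dd00844825140a4582d4884626138c866361bc804224128c062341ac4e25118840e0501, 0, 24, 0x1420001620001821001a01001c01, []⟩]

theorem t9_569_33 : jobs 8 S9 b8_569 j9_569_33 = true := by decide +kernel

noncomputable def j9_569_34 : List Job := [
  ⟨29, 0x4703a1e0fc0e0501, 0, 10, 0x0, []⟩]

theorem t9_569_34 : jobs 8 S9 b8_569 j9_569_34 = true := by decide +kernel

noncomputable def j9_569_35 : List Job := [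
  ⟨28, 0x4703a1e0fc0e0501, 0, 12, 0x0, []⟩]

theorem t9_569_35 : jobs 8 S9 b8_569 j9_569_35 = true := by decide +kernel

noncomputable def j9_569_36 : List Job := [
  ⟨27, 0x500824221920924a25940a25229960b25a2dc804222118904a26138c06232198d06a361bc703a1e0fc0e0501, 0, 10, 0x0, []⟩]

theorem t9_569_36 : jobs 8 S9 b8_569 j9_569_36 = true := by decide +kernel

noncomputable def j9_569_37 : List Job := [
  ⟨26, 0x500824221920924a25940a25229960b25a2dc804222118904a26138c06232198d06a361bc703a1e0fc0e0501, 0, 12, 0x0, []⟩]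

theorem t9_569_37 : jobs 8 S9 b8_569 j9_569_37 = true := by decide +kernel

noncomputable def j9_569_38 : List Job := [
  ⟨25, 0x47e3d1d8e40e0501, 0, 12, 0x202000402001605001805, []⟩]

theorem t9_569_38 : jobs 8 S9 b8_569 j9_569_38 = true := by decide +kernel

noncomputable def j9_569_39 : List Job := [
  ⟨24, 0x4c06232198d06a361b8e0723a1d8f07a3e1fc804222118904a26138a0522a158b05a2e17c7e3d1d8e40e0501, 0, 12, 0x206000404001607, []⟩]

theorem t9_569_39 : jobs 8 S9 b8_569 j9_569_39 = true := by decide +kernel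

noncomputable def j9_569_40 : List Job := [
  ⟨23, 0x4c06232198d06a361b8e0723a1d8f07a3e1fc804222118904a26138a0522a158b05a2e17c7e3d1d8e40e0501, 0, 12, 0x206000404001607, []⟩]

theorem t9_569_40 : jobs 8 S9 b8_569 j9_569_40 = true := by decide +kernel

noncomputable def j9_569_41 : List Job := [
  ⟨22, 0x47e3d1d8e40e0501, 0, 22, 0x204000404002a04002c04, []⟩]

theorem t9_569_41 : jobs 8 S9 b8_569 j9_569_41 = true := by decide +kernel

noncomputable def j9_569_42 : List Job := [
  ⟨21, 0x6110a8643a311a8e47a512a964ba713a9e4fe01028241a21128a45a41229249a61329a4dc7e3d1d8e40e0501, 0, 24, 0x204000404002e04, []⟩]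

theorem t9_569_42 : jobs 8 S9 b8_569 j9_569_42 = true := by decide +kernel

noncomputable def j9_569_43 : List Job := [
  ⟨20, 0x520924a259309a4e27960b25a2d970ba5e2fd008242219108a4623940a25229950aa562bcc06232198d06a361b8e0723a1d8f07a3e1fc804222118904a26138a0522a158b05a2e17c7e3d1d8e40e0501, 0, 24, 0x204002e04003005, []⟩]

theorem t9_569_43 : jobs 8 S9 b8_569 j9_569_43 = true := by decide +kernel

noncomputable def j9_569_44 : List Job := [
  ⟨19, 0x4783f1c0ec0e0501, 0, 24, 0xa06000e02001202, []⟩]

theorem t9_569_44 : jobs 8 S9 b8_569 j9_569_44 = true := by decide +kernel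

noncomputable def j9_569_45 : List Job := [
  ⟨18, 0x601028241a21128a45a41229249a61329a4dd008242219108a4623940a25229950aa562bc743f1c0f40e0501, 0, 40, 0xa04000e04001204, []⟩]

theorem t9_569_45 : jobs 8 S9 b8_569 j9_569_45 = true := by decide +kernel

noncomputable def j9_569_46 : List Job := [
  ⟨17, 0x4c06232198d06a361b8e0723a1d8f07a3e1fc804222118904a26138a0522a158b05a2e17c783f1c0ec0e0501, 0, 24, 0xa04000e02001202, []⟩]

theorem t9_569_46 : jobs 8 S9 b8_569 j9_569_46 = true := by decide +kernel

noncomputable def j9_569_47 : List Job := [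
  ⟨16, 0x601028241a21128a45a41229249a61329a4dd008242219108a4623940a25229950aa562bcc06232198d06a361b8e0723a1d8f07a3e1fc804222118904a26138a0522a158b05a2e17c743f1c0f40e0501, 0, 42, 0xa02000e04001204, []⟩]

theorem t9_569_47 : jobs 8 S9 b8_569 j9_569_47 = true := by decide +kernel

noncomputable def j9_569_48 : List Job := [
  ⟨15, 0x4140d0403c0e0501, 0, 30, 0x1202001402001602001804001a03001c03, []⟩]

theorem t9_569_48 : jobs 8 S9 b8_569 j9_569_48 = true := by decide +kernel

noncomputable def j9_569_49 : List Job := [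
  ⟨14, 0x601028241a21128a45a41229249a61329a4dc140d0403c0e0501, 0, 34, 0x1204001403001603001804001a02001c02, []⟩]

theorem t9_569_49 : jobs 8 S9 b8_569 j9_569_49 = true := by decide +kernel

noncomputable def j9_569_50 : List Job := [
  ⟨13, 0x504864523944a6542b500844423140a4552bc884626138a8562c16c804224128a0522e17c140d0403c0e0501, 0, 30, 0x1206001806, []⟩]

theorem t9_569_50 : jobs 8 S9 b8_569 j9_569_50 = true := by decide +kernel

noncomputable def j9_569_51 : List Job := [
  ⟨12, 0x601028241a21128a45a41229249a61329a4dd04864523944a6542b500844423140a4552bc884626138a8562c16c804224128a0522e17c140d0403c0e0501, 0, 54, 0x4a01005001005606005c06, []⟩]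

theorem t9_569_51 : jobs 8 S9 b8_569 j9_569_51 = true := by decide +kernel

noncomputable def j9_569_52 : List Job := [
  ⟨11, 0x4703a1e0fc0e0501, 0, 30, 0x0, []⟩]

theorem t9_569_52 : jobs 8 S9 b8_569 j9_569_52 = true := by decide +kernel

noncomputable def j9_569_53 : List Job := [
  ⟨10, 0x5008242219108a4623940a25229950aa562bc804222118904a26138a0522a158b05a2e17c703a1e0fc0e0501, 0, 30, 0x0, []⟩]

theorem t9_569_53 : jobs 8 S9 b8_569 j9_569_53 = true := by decide +kernel

noncomputable def j9_569_54 : List Job := [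
  ⟨9, 0x601028241a21128a45a41229249a61329a4dc703a1e0fc0e0501, 0, 34, 0x0, []⟩]

theorem t9_569_54 : jobs 8 S9 b8_569 j9_569_54 = true := by decide +kernel

noncomputable def j9_569_55 : List Job := [
  ⟨8, 0x601028241a21128a45a41229249a61329a4dd008242219108a4623940a25229950aa562bc804222118904a26138a0522a158b05a2e17c703a1e0fc0e0501, 0, 34, 0x0, []⟩]

theorem t9_569_55 : jobs 8 S9 b8_569 j9_569_55 = true := by decide +kernel

noncomputable def j9_569_56 : List Job := [
  ⟨7, 0x601028241a21128a45a41229249a61329a4dc703a1e0fc0e0501, 0, 34, 0x0, []⟩]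

theorem t9_569_56 : jobs 8 S9 b8_569 j9_569_56 = true := by decide +kernel

noncomputable def j9_569_57 : List Job := [
  ⟨6, 0x601028241a21128a45a41229249a61329a4dc804222118904a26138a0522a158b05a2e17c703a1e0fc0e0501, 0, 30, 0x0, []⟩]

theorem t9_569_57 : jobs 8 S9 b8_569 j9_569_57 = true := by decide +kernel

noncomputable def j9_569_58 : List Job := [
  ⟨5, 0x42e15098440e0501, 0, 24, 0x203000407000606000803, []⟩]

theorem t9_569_58 : jobs 8 S9 b8_569 j9_569_58 = true := by decide +kernel

noncomputable def j9_569_59 : List Job := [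
  ⟨4, 0x4180f0402c0e0501, 0, 15, 0x0, []⟩]

theorem t9_569_59 : jobs 8 S9 b8_569 j9_569_59 = true := by decide +kernel

noncomputable def j9_569_60 : List Job := [
  ⟨3, 0x601028241a21128a45a41229249a61329a4dc140f040340e0501, 0, 30, 0x2e01003401, []⟩]

theorem t9_569_60 : jobs 8 S9 b8_569 j9_569_60 = true := by decide +kernel

noncomputable def j9_569_61 : List Job := [
  ⟨2, 0x520924a259309a4e27960b25a2d970ba5e2fd008242219108a4623940a25229950aa562bc2e15098440e0501, 0, 24, 0x203000404000606000802, []⟩]

theorem t9_569_61 : jobs 8 S9 b8_569 j9_569_61 = true := by decide +kernel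

noncomputable def j9_569_62 : List Job := [
  ⟨1, 0x4140d0403c0e0501, 0, 15, 0xa03000c02, []⟩]

theorem t9_569_62 : jobs 8 S9 b8_569 j9_569_62 = true := by decide +kernel

noncomputable def j9_569_63 : List Job := [
  ⟨0, 0x601028241a21128a45a41229249a61329a4dc140d0403c0e0501, 0, 18, 0xa02000c03, []⟩]

theorem t9_569_63 : jobs 8 S9 b8_569 j9_569_63 = true := by decide +kernel

theorem d9_569 : Dn 8 S9 b8_569 := dn_of (Js := j9_569_0 ++ (j9_569_1 ++ (j9_569_2 ++ (j9_569_3 ++ (j9_569_4 ++ (j9_569_5 ++ (j9_569_6 ++ (j9_569_7 ++ (j9_569_8 ++ (j9_569_9 ++ (j9_569_10 ++ (j9_569_11 ++ (j9_569_12 ++ (j9_569_13 ++ (j9_569_14 ++ (j9_569_15 ++ (j9_569_16 ++ (j9_569_17 ++ (j9_569_18 ++ (j9_569_19 ++ (j9_569_20 ++ (j9_569_21 ++ (j9_569_22 ++ (j9_569_23 ++ (j9_569_24 ++ (j9_569_25 ++ (j9_569_26 ++ (j9_569_27 ++ (j9_569_28 ++ (j9_569_29 ++ (j9_569_30 ++ (j9_569_31 ++ (j9_569_32 ++ (j9_569_33 ++ (j9_569_34 ++ (j9_569_35 ++ (j9_569_36 ++ (j9_569_37 ++ (j9_569_38 ++ (j9_569_39 ++ (j9_569_40 ++ (j9_569_41 ++ (j9_569_42 ++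 (j9_569_43 ++ (j9_569_44 ++ (j9_569_45 ++ (j9_569_46 ++ (j9_569_47 ++ (j9_569_48 ++ (j9_569_49 ++ (j9_569_50 ++ (j9_569_51 ++ (j9_569_52 ++ (j9_569_53 ++ (j9_569_54 ++ (j9_569_55 ++ (j9_569_56 ++ (j9_569_57 ++ (j9_569_58 ++ (j9_569_59 ++ (j9_569_60 ++ (j9_569_61 ++ (j9_569_62 ++ (j9_569_63 ++ []))))))))))))))))))))))))))))))))))))))))))))))))))))))))))))))))
  (jobs_append t9_569_0 <| jobs_append t9_569_1 <| jobs_append t9_569_2 <| jobs_append t9_569_3 <| jobs_append t9_569_4 <| jobs_append t9_569_5 <| jobs_append t9_569_6 <| jobs_append t9_569_7 <| jobs_append t9_569_8 <| jobs_append t9_569_9 <| jobs_append t9_569_10 <| jobs_append t9_569_11 <| jobs_append t9_569_12 <| jobs_append t9_569_13 <| jobs_append t9_569_14 <| jobs_append t9_569_15 <| jobs_append t9_569_16 <| jobs_append t9_569_17 <| jobs_append t9_569_18 <| jobs_append t9_569_19 <| jobs_append t9_569_20 <| jobs_append t9_569_21 <| jobs_append t9_569_22 <| jobs_append t9_569_23 <| jobs_append t9_569_24 <| jobs_append t9_569_25 <| jobs_append t9_569_26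 <| jobs_append t9_569_27 <| jobs_append t9_569_28 <| jobs_append t9_569_29 <| jobs_append t9_569_30 <| jobs_append t9_569_31 <| jobs_append t9_569_32 <| jobs_append t9_569_33 <| jobs_append t9_569_34 <| jobs_append t9_569_35 <| jobs_append t9_569_36 <| jobs_append t9_569_37 <| jobs_append t9_569_38 <| jobs_append t9_569_39 <| jobs_append t9_569_40 <| jobs_append t9_569_41 <| jobs_append t9_569_42 <| jobs_append t9_569_43 <| jobs_append t9_569_44 <| jobs_append t9_569_45 <| jobs_append t9_569_46 <| jobs_append t9_569_47 <| jobs_append t9_569_48 <| jobs_append t9_569_49 <| jobs_append t9_569_50 <| jobs_append t9_569_51 <| jobs_append t9_569_52 <| jobs_append t9_569_53 <| jobs_append t9_569_54 <| jobs_append t9_569_55 <| jobs_append t9_569_56 <| jobs_append t9_569_57 <| jobs_append t9_569_58 <| jobs_append t9_569_59 <| jobs_append t9_569_60 <| jobs_append t9_569_61 <| jobs_append t9_569_62 <| jobs_append t9_569_63 <| List.forall_mem_nil _) (by decide +kernel)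

noncomputable def j9_570_0 : List Job := [
  ⟨53, 0x578bf5c2ed68b7582cd58af542ad48a75028d389f4c26d28974824d188f4422d08874020cf87f3c1ece877381ccd86f341acc8673018cb85f2c16ca8572814c984f2412c88472010c7e3d1d8e46e35198c45e2d158a44e25118843e1d0d8642e15098441e0d058240e0501, 0, 52, 0x204000401000a01000c04000e01001004001201001604001801002801002c01003201003404003601003c01004e04005204005c00005e01006204, [(45, ⟨6, 0x20400001420000048800001120000042800001040000000800001010000000000001, 0x18121088240a0200802⟩)]⟩]

theorem t9_570_0 : jobs 8 S9 b8_570 j9_570_0 = true := by decide +kernel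

noncomputable def j9_570_1 : List Job := [
  ⟨51, 0x4fe7d3d9e4ee75399c4de6d359a4ce6531984be5d2d964ae55299449e4d259248e45219047e3d1d8e46e35198c45e2d158a44e25118843e1d0d8642e15098441e0d058240e0501, 0, 17, 0x0, []⟩]

theorem t9_570_1 : jobs 8 S9 b8_570 j9_570_1 = true := by decide +kernel

noncomputable def j9_570_2 : List Job := [
  ⟨50, 0x5f8ff7c3ede8f7783cdd8ef743adc8e77038db8df6c36da8d76834d98cf6432d88c76030d78bf5c2ed68b7582cd58af542ad48a75028d389f4c26d28974824d188f4422d08874020cfe7d3d9e4ee75399c4de6d359a4ce6531984be5d2d964ae55299449e4d259248e45219047e3d1d8e46e35198c45e2d158a44e25118843e1d0d8642e15098441e0d058240e0501, 0, 36, 0x200000400000800000c01000e00001800001c01002c00003001003c01, [(21, ⟨5, 0x5400000054000000200000003000000100000003800000004000000040000000000001, 0x1a42e020402c1e00802⟩), (11, ⟨2, 0x410000004000000040000000a000000180000003c00000004000000040000080000001, 0x1822008050301e00802⟩), (6, ⟨4, 0x59800000590000003e0000002c00000118000003800000204000000040000000000001, 0x1942702c38131600802⟩),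 (3, ⟨1, 0x58000000780000003a0000041800000080000002000000004000000040000000000001, 0x18c3b810103b0900802⟩), (1, ⟨3, 0x4e8000014c000000400000045c00000060000010800000004000004040000080000001, 0x196240803e040600802⟩), (0, ⟨0, 0x5400000054000000200000003000000100000003800000004000000040000000000001, 0x1a42e020402c1e00802⟩)]⟩]

theorem t9_570_2 : jobs 8 S9 b8_570 j9_570_2 = true := by decide +kernel

noncomputable def j9_570_3 : List Job := [
  ⟨48, 0x5008242219108a4623920924a259309a4e27940a25229950aa562b960b25a2d970ba5e2fc0e0501, 0, 2, 0x0, []⟩]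

theorem t9_570_3 : jobs 8 S9 b8_570 j9_570_3 = true := by decide +kernel

noncomputable def j9_570_4 : List Job := [
  ⟨47, 0x40e0501, 0, 1, 0x0, []⟩]

theorem t9_570_4 : jobs 8 S9 b8_570 j9_570_4 = true := by decide +kernel

noncomputable def j9_570_5 : List Job := [
  ⟨46, 0x580c26231990ca66339a0d26a359b0da6e379c0e272399d0ea763b9e0f27a3d9f0fa7e3fd008242219108a4623920924a259309a4e27940a25229950aa562b960b25a2d970ba5e2fc0e0501, 0, 6, 0x200, [(0, ⟨3484, 0x176062010047820e101087000c2001, 0x1ba35080260a0481408⟩)]⟩]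

theorem t9_570_5 : jobs 8 S9 b8_570 j9_570_5 = true := by decide +kernel

noncomputable def j9_570_6 : List Job := [
  ⟨45, 0x4301a0e07c0e0501, 0, 3, 0x202000602, []⟩]

theorem t9_570_6 : jobs 8 S9 b8_570 j9_570_6 = true := by decide +kernel

noncomputable def j9_570_7 : List Job := [
  ⟨44, 0x5008242219108a4623c301a0e07c0e0501, 0, 4, 0x204, []⟩]

theorem t9_570_7 : jobs 8 S9 b8_570 j9_570_7 = true := by decide +kernel

noncomputable def j9_570_8 : List Job := [
  ⟨43, 0x42e15098440e0501, 0, 7, 0xa10000e10, []⟩]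

theorem t9_570_8 : jobs 8 S9 b8_570 j9_570_8 = true := by decide +kernel

noncomputable def j9_570_9 : List Job := [
  ⟨42, 0x520924a259309a4e27d008242219108a4623c2e15098440e0501, 0, 15, 0x210000a01001001001411001a11, []⟩]

theorem t9_570_9 : jobs 8 S9 b8_570 j9_570_9 = true := by decide +kernel

noncomputable def j9_570_10 : List Job := [
  ⟨41, 0x41e0d058240e0501, 0, 5, 0x201000a01, []⟩]

theorem t9_570_10 : jobs 8 S9 b8_570 j9_570_10 = true := by decide +kernel

noncomputable def j9_570_11 : List Job := [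
  ⟨40, 0x4c464341bcc066351b41e0d058240e0501, 0, 4, 0x20100040100080e, []⟩]

theorem t9_570_11 : jobs 8 S9 b8_570 j9_570_11 = true := by decide +kernel

noncomputable def j9_570_12 : List Job := [
  ⟨37, 0x4703a1e0fc4e2511884301a0e07c0e0501, 0, 8, 0x204000a04000c05, []⟩]

theorem t9_570_12 : jobs 8 S9 b8_570 j9_570_12 = true := by decide +kernel

noncomputable def j9_570_13 : List Job := [
  ⟨36, 0x4502a160bc442710094100a0603c0e0501, 0, 8, 0x204000405000a04, []⟩]

theorem t9_570_13 : jobs 8 S9 b8_570 j9_570_13 = true := by decide +kernel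

noncomputable def j9_570_14 : List Job := [
  ⟨35, 0x4703a1e0fc502a160bc2e15098440e0501, 0, 4, 0x204, []⟩]

theorem t9_570_14 : jobs 8 S9 b8_570 j9_570_14 = true := by decide +kernel

noncomputable def j9_570_15 : List Job := [
  ⟨34, 0x4301a0e07c2e1509844100a0603c0e0501, 0, 6, 0x204, []⟩]

theorem t9_570_15 : jobs 8 S9 b8_570 j9_570_15 = true := by decide +kernel

noncomputable def j9_570_16 : List Job := [
  ⟨33, 0x46e35198c44e25118842e15098440e0501, 0, 24, 0x220000c00001200001801001c01001e01002001002201002401002601002801002a01002c01002e01003001, [(8, ⟨3416, 0x710150007e001c088000a0202040800001, 0x1fa240f010050980404⟩), (5, ⟨3415, 0x710150007e041c088000a0002040808001, 0x1fa240f010050980404⟩)]⟩]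

theorem t9_570_16 : jobs 8 S9 b8_570 j9_570_16 = true := by decide +kernel

noncomputable def j9_570_17 : List Job := [
  ⟨32, 0x4703a1e0fc6837180cc502a160bc48271008c301a0e07c2e1509844100a0603c0e0501, 0, 30, 0x200000810000e10001001001410001601001a10001c01002010002201002610003211, [(0, ⟨3414, 0x5e01740256041000d81080004040408001, 0x1b83e09c1e040800802⟩)]⟩]

theorem t9_570_17 : jobs 8 S9 b8_570 j9_570_17 = true := by decide +kernel

noncomputable def j9_570_18 : List Job := [
  ⟨31, 0x4c466341b4c064351bc1e0d058240e0501, 0, 7, 0x408, []⟩]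

theorem t9_570_18 : jobs 8 S9 b8_570 j9_570_18 = true := by decide +kernel

noncomputable def j9_570_19 : List Job := [
  ⟨30, 0x41e0d058240e0501, 0, 13, 0xa01000c01000e01001001001201001401001601001801001a01, []⟩]

theorem t9_570_19 : jobs 8 S9 b8_570 j9_570_19 = true := by decide +kernel

noncomputable def j9_570_20 : List Job := [
  ⟨29, 0x41e0d058240e0501, 0, 4, 0x200000401000601000801, [(0, ⟨3398, 0x10004a090002802a10600100042001, 0x1802b0801e120300802⟩)]⟩]

theorem t9_570_20 : jobs 8 S9 b8_570 j9_570_20 = true := by decide +kernel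

noncomputable def j9_570_21 : List Job := [
  ⟨28, 0x4c464341bcc066351b48c4b22124844f201344c2d120bc4429100ac1e0d058240e0501, 0, 37, 0x200000608000a09001608001809001e09002008002401002601002a01002e01003e01004001004601004801, [(0, ⟨3383, 0x5000640040003800b00060004000408001, 0x1a03308018140300802⟩)]⟩]

theorem t9_570_21 : jobs 8 S9 b8_570 j9_570_21 = true := by decide +kernel

noncomputable def j9_570_22 : List Job := [
  ⟨27, 0x428170804c0e0501, 0, 4, 0x0, []⟩]

theorem t9_570_22 : jobs 8 S9 b8_570 j9_570_22 = true := by decide +kernel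

noncomputable def j9_570_23 : List Job := [
  ⟨26, 0x601028241a110a8643a61329a4da713a9e4fc2417080540e0501, 0, 10, 0xe01001001001201001401, []⟩]

theorem t9_570_23 : jobs 8 S9 b8_570 j9_570_23 = true := by decide +kernel

noncomputable def j9_570_24 : List Job := [
  ⟨25, 0x44e25118840e0501, 0, 4, 0x0, []⟩]

theorem t9_570_24 : jobs 8 S9 b8_570 j9_570_24 = true := by decide +kernel

noncomputable def j9_570_25 : List Job := [
  ⟨24, 0x621128a45a311a8e47a41229249a512a964be01028241a110a8643a61329a4da713a9e4fc4e25118840e0501, 0, 8, 0x0, []⟩]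

theorem t9_570_25 : jobs 8 S9 b8_570 j9_570_25 = true := by decide +kernel

noncomputable def j9_570_26 : List Job := [
  ⟨23, 0x428170804c0e0501, 0, 4, 0x0, []⟩]

theorem t9_570_26 : jobs 8 S9 b8_570 j9_570_26 = true := by decide +kernel

noncomputable def j9_570_27 : List Job := [
  ⟨22, 0x44e25118840e0501, 0, 4, 0x0, []⟩]

theorem t9_570_27 : jobs 8 S9 b8_570 j9_570_27 = true := by decide +kernel

noncomputable def j9_570_28 : List Job := [
  ⟨21, 0x601028241a110a8643a61329a4da713a9e4fc2417080540e0501, 0, 12, 0xe01001001001201001401001601001801, []⟩]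

theorem t9_570_28 : jobs 8 S9 b8_570 j9_570_28 = true := by decide +kernel

noncomputable def j9_570_29 : List Job := [
  ⟨20, 0x44e25118840e0501, 0, 5, 0x0, []⟩]

theorem t9_570_29 : jobs 8 S9 b8_570 j9_570_29 = true := by decide +kernel

noncomputable def j9_570_30 : List Job := [
  ⟨19, 0x621128a45a311a8e47a41229249a512a964be01028241a110a8643a61329a4da713a9e4fc4e25118840e0501, 0, 9, 0x0, []⟩]

theorem t9_570_30 : jobs 8 S9 b8_570 j9_570_30 = true := by decide +kernel

noncomputable def j9_570_31 : List Job := [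
  ⟨18, 0x44e25118840e0501, 0, 5, 0x0, []⟩]

theorem t9_570_31 : jobs 8 S9 b8_570 j9_570_31 = true := by decide +kernel

noncomputable def j9_570_32 : List Job := [
  ⟨17, 0x4743d1c0fc0e0501, 0, 4, 0x0, []⟩]

theorem t9_570_32 : jobs 8 S9 b8_570 j9_570_32 = true := by decide +kernel

noncomputable def j9_570_33 : List Job := [
  ⟨16, 0x4743d1c0fc0e0501, 0, 4, 0x0, []⟩]

theorem t9_570_33 : jobs 8 S9 b8_570 j9_570_33 = true := by decide +kernel

noncomputable def j9_570_34 : List Job := [
  ⟨15, 0x4804222118a0522a158c06232198e0723a1dc743d1c0fc0e0501, 0, 10, 0x0, []⟩]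

theorem t9_570_34 : jobs 8 S9 b8_570 j9_570_34 = true := by decide +kernel

noncomputable def j9_570_35 : List Job := [
  ⟨14, 0x4804222118a0522a158c06232198e0723a1dc743d1c0fc0e0501, 0, 14, 0xe01001001001201001401001601001801001a01001c01, []⟩]

theorem t9_570_35 : jobs 8 S9 b8_570 j9_570_35 = true := by decide +kernel

noncomputable def j9_570_36 : List Job := [
  ⟨13, 0x4140f040340e0501, 0, 7, 0x0, []⟩]

theorem t9_570_36 : jobs 8 S9 b8_570 j9_570_36 = true := by decide +kernel

noncomputable def j9_570_37 : List Job := [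
  ⟨12, 0x4140f040340e0501, 0, 9, 0x0, []⟩]

theorem t9_570_37 : jobs 8 S9 b8_570 j9_570_37 = true := by decide +kernel

noncomputable def j9_570_38 : List Job := [
  ⟨11, 0x4904a26138b05a2e178d06a361b8f07a3e1fc804222118a0522a158c06232198e0723a1dc140d0403c0e0501, 0, 9, 0x0, []⟩]

theorem t9_570_38 : jobs 8 S9 b8_570 j9_570_38 = true := by decide +kernel

noncomputable def j9_570_39 : List Job := [
  ⟨10, 0x4904a26138b05a2e178d06a361b8f07a3e1fc804222118a0522a158c06232198e0723a1dc140d0403c0e0501, 0, 9, 0x0, []⟩]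

theorem t9_570_39 : jobs 8 S9 b8_570 j9_570_39 = true := by decide +kernel

noncomputable def j9_570_40 : List Job := [
  ⟨9, 0x44e25118840e0501, 0, 4, 0x0, []⟩]

theorem t9_570_40 : jobs 8 S9 b8_570 j9_570_40 = true := by decide +kernel

noncomputable def j9_570_41 : List Job := [
  ⟨8, 0x44e25118840e0501, 0, 6, 0x0, []⟩]

theorem t9_570_41 : jobs 8 S9 b8_570 j9_570_41 = true := by decide +kernel

noncomputable def j9_570_42 : List Job := [
  ⟨7, 0x44e25118840e0501, 0, 5, 0x801000a01, []⟩]

theorem t9_570_42 : jobs 8 S9 b8_570 j9_570_42 = true := by decide +kernel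

noncomputable def j9_570_43 : List Job := [
  ⟨6, 0x44e25118840e0501, 0, 5, 0x801000a01, []⟩]

theorem t9_570_43 : jobs 8 S9 b8_570 j9_570_43 = true := by decide +kernel

noncomputable def j9_570_44 : List Job := [
  ⟨5, 0x44e25118840e0501, 0, 9, 0xe27001000001200, [(8, ⟨3310, 0x4d00590046042000200130004040400001, 0x1972a08c0e100400802⟩), (7, ⟨3311, 0x4d00580046042008200130204040400001, 0x1972a88c0e100400802⟩)]⟩]

theorem t9_570_44 : jobs 8 S9 b8_570 j9_570_44 = true := by decide +kernel

noncomputable def j9_570_45 : List Job := [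
  ⟨4, 0x44e25118840e0501, 0, 12, 0x1420001620001821, []⟩]

theorem t9_570_45 : jobs 8 S9 b8_570 j9_570_45 = true := by decide +kernel

noncomputable def j9_570_46 : List Job := [
  ⟨3, 0x44e25118840e0501, 0, 10, 0xe04001004001204001404, []⟩]

theorem t9_570_46 : jobs 8 S9 b8_570 j9_570_46 = true := by decide +kernel

noncomputable def j9_570_47 : List Job := [
  ⟨2, 0x44e25118840e0501, 0, 10, 0x0, []⟩]

theorem t9_570_47 : jobs 8 S9 b8_570 j9_570_47 = true := by decide +kernel

noncomputable def j9_570_48 : List Job := [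
  ⟨1, 0x44e25118840e0501, 0, 9, 0x0, []⟩]

theorem t9_570_48 : jobs 8 S9 b8_570 j9_570_48 = true := by decide +kernel

noncomputable def j9_570_49 : List Job := [
  ⟨0, 0x641229249a512a964ba61329a4da713a9e4fe01028241a110a8643a21128a45a311a8e47c4e25118840e0501, 0, 10, 0xe01, []⟩]

theorem t9_570_49 : jobs 8 S9 b8_570 j9_570_49 = true := by decide +kernel

theorem d9_570 : Dn 8 S9 b8_570 := dn_of (Js := j9_570_0 ++ (j9_570_1 ++ (j9_570_2 ++ (j9_570_3 ++ (j9_570_4 ++ (j9_570_5 ++ (j9_570_6 ++ (j9_570_7 ++ (j9_570_8 ++ (j9_570_9 ++ (j9_570_10 ++ (j9_570_11 ++ (j9_570_12 ++ (j9_570_13 ++ (j9_570_14 ++ (j9_570_15 ++ (j9_570_16 ++ (j9_570_17 ++ (j9_570_18 ++ (j9_570_19 ++ (j9_570_20 ++ (j9_570_21 ++ (j9_570_22 ++ (j9_570_23 ++ (j9_570_24 ++ (j9_570_25 ++ (j9_570_26 ++ (j9_570_27 ++ (j9_570_28 ++ (j9_570_29 ++ (j9_570_30 ++ (j9_570_31 ++ (j9_570_32 ++ (j9_570_33 ++ (j9_570_34 ++ (j9_570_35 ++ (j9_570_36 ++ (j9_570_37 ++ (j9_570_38 ++ (j9_570_39 ++ (j9_570_40 ++ (j9_570_41 ++ (j9_570_42 ++ (j9_570_43 ++ (j9_570_44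 ++ (j9_570_45 ++ (j9_570_46 ++ (j9_570_47 ++ (j9_570_48 ++ (j9_570_49 ++ []))))))))))))))))))))))))))))))))))))))))))))))))))
  (jobs_append t9_570_0 <| jobs_append t9_570_1 <| jobs_append t9_570_2 <| jobs_append t9_570_3 <| jobs_append t9_570_4 <| jobs_append t9_570_5 <| jobs_append t9_570_6 <| jobs_append t9_570_7 <| jobs_append t9_570_8 <| jobs_append t9_570_9 <| jobs_append t9_570_10 <| jobs_append t9_570_11 <| jobs_append t9_570_12 <| jobs_append t9_570_13 <| jobs_append t9_570_14 <| jobs_append t9_570_15 <| jobs_append t9_570_16 <| jobs_append t9_570_17 <| jobs_append t9_570_18 <| jobs_append t9_570_19 <| jobs_append t9_570_20 <| jobs_append t9_570_21 <| jobs_append t9_570_22 <| jobs_append t9_570_23 <| jobs_append t9_570_24 <| jobs_append t9_570_25 <| jobs_append t9_570_26 <| jobs_append t9_570_27 <| jobs_append t9_570_28 <| jobs_append t9_570_29 <| jobs_append t9_570_30 <| jobs_append t9_570_31 <| jobs_append t9_570_32 <| jobs_append t9_570_33 <| jobs_append t9_570_34 <| jobs_append t9_570_35 <| jobs_append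 t9_570_36 <| jobs_append t9_570_37 <| jobs_append t9_570_38 <| jobs_append t9_570_39 <| jobs_append t9_570_40 <| jobs_append t9_570_41 <| jobs_append t9_570_42 <| jobs_append t9_570_43 <| jobs_append t9_570_44 <| jobs_append t9_570_45 <| jobs_append t9_570_46 <| jobs_append t9_570_47 <| jobs_append t9_570_48 <| jobs_append t9_570_49 <| List.forall_mem_nil _) (by decide +kernel)

noncomputable def j9_571_0 : List Job := [
  ⟨63, 0x570ba5e2fd60b25a2dd50aa562bd40a25229d309a4e27d20924a25d108a4623d00824221cf87f381ccd86f3018cb85f2814c984f2010c783f180cc582f1008c3e1d098441e0d01, 79, 71, 0xa00100a60100aa0100ae0100b20200b40100bc0100c00100c60100ca0100cc0100e40100e80100ec0300f00100f40100f80300fc01010001010401010801010c01011001, []⟩]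

theorem t9_571_0 : jobs 8 S9 b8_571 j9_571_0 = true := by decide +kernel

noncomputable def j9_571_1 : List Job := [
  ⟨63, 0x570ba5e2fd60b25a2dd50aa562bd40a25229d309a4e27d20924a25d108a4623d00824221cf87f381ccd86f3018cb85f2814c984f2010c783f180cc582f1008c3e1d098441e0d01, 0, 79, 0x403000801001203002003002401002801003001003401003801003c01004001004401004c01005001005801006001006403006801006c01007801008001008401008e01009203009601009a01009e01, []⟩]

theorem t9_571_1 : jobs 8 S9 b8_571 j9_571_1 = true := by decide +kernel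

noncomputable def j9_571_2 : List Job := [
  ⟨62, 0x570ba5e2fd60b25a2dd50aa562bd40a25229d309a4e27d20924a25d108a4623d00824221cf87f381ccd86f3018cb85f2814c984f2010c7e3d198c45e2d118843e1d098441e0d01, 0, 62, 0x400001003001803003403006403, [(1, ⟨107, 0xf800005a0000390000090000110000070001030001000001010000, 0x2fa2d0e211108340a01⟩)]⟩]

theorem t9_571_2 : jobs 8 S9 b8_571 j9_571_2 = true := by decide +kernel

noncomputable def j9_571_3 : List Job := [
  ⟨61, 0x570ba5e2fd60b25a2dd50aa562bd40a25229d309a4e27d20924a25d108a4623d00824221cf87f381ccd86f3018cb85f2814c984f2010c7e3d198c45e2d118843e1d098441e0d01, 0, 62, 0x403000801001003001803001c01002401002801002c01003001003403003801004001004801004c02005401005801006403006801006c01, []⟩]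

theorem t9_571_3 : jobs 8 S9 b8_571 j9_571_3 = true := by decide +kernel

noncomputable def j9_571_4 : List Job := [
  ⟨60, 0x4f87f381ccd86f3018cb85f2814c984f2010c7e3d198c45e2d118843e1d098441e0d01, 0, 53, 0x403000801000c02001002001603001a01002201002601002801002c01003002003401003802003c01004001004402004c01005001005c03006001006401, []⟩]

theorem t9_571_4 : jobs 8 S9 b8_571 j9_571_4 = true := by decide +kernel

noncomputable def j9_571_5 : List Job := [
  ⟨59, 0x5f0fa7e3fde0f27a3ddd0ea763bdc0e27239db0da6e37da0d26a35d90ca6633d80c26231d70ba5e2fd60b25a2dd50aa562bd40a25229d309a4e27d20924a25d108a4623d00824221cf87f381ccd86f3018cb85f2814c984f2010c7e3d198c45e2d118843e1d098441e0d01, 0, 53, 0x403000801001603001a01002201002601002801002c01003401003c01004001004402004c01005001005c03006001006401, []⟩]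

theorem t9_571_5 : jobs 8 S9 b8_571 j9_571_5 = true := by decide +kernel

noncomputable def j9_571_6 : List Job := [
  ⟨58, 0x4fe7d399c4de6d31984be5d299449e4d219047e3d198c45e2d118843e1d098441e0d01, 0, 24, 0x400000c02001003002402, [(1, ⟨106, 0xc80001730000110001090001390001060001020001000001010000, 0x2ca2d0e241108340801⟩)]⟩]

theorem t9_571_6 : jobs 8 S9 b8_571 j9_571_6 = true := by decide +kernel

noncomputable def j9_571_7 : List Job := [
  ⟨57, 0x5f0fa7e3fde0f27a3ddd0ea763bdc0e27239db0da6e37da0d26a35d90ca6633d80c26231d70ba5e2fd60b25a2dd50aa562bd40a25229d309a4e27d20924a25d108a4623d00824221cfe7d399c4de6d31984be5d299449e4d219047e3d198c45e2d118843e1d098441e0d01, 0, 51, 0x200000c00002600003800004402, [(27, ⟨105, 0x18800005100001000004a000027000010700008100004000002020001, 0x2deac48030300300801⟩), (18, ⟨116, 0x16e00015a000014000008000007000000400000100000040000000001, 0x1bf2d84050300200802⟩), (5, ⟨115, 0x11800014f000014000048000026000010500008180004040002000001, 0x1b43b84030300280c02⟩), (0, ⟨114, 0x10200014500000f800003c00007e00000400008100004040000000001,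 0x181220a060170200802⟩)]⟩]

theorem t9_571_7 : jobs 8 S9 b8_571 j9_571_7 = true := by decide +kernel

noncomputable def j9_571_8 : List Job := [
  ⟨56, 0x5f0fa7e3fdd0ea763bda0d26a35d80c26231d60b25a2dd40a25229d20924a25d00824221cf87f3a1dcd86f3219cb05b2814c904b2010c703b180cc502b1008c301b0804c100b01, 123, 149, 0xfa01010801011801012601013e01014401014601015001015401015a01016e02017401017a01018201018601018a01018c0101940101ac0101b00301bc0101c40101ca0101dc0201e00301ec0201f601020201021201021a01, []⟩]

theorem t9_571_8 : jobs 8 S9 b8_571 j9_571_8 = true := by decide +kernel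

noncomputable def j9_571_9 : List Job := [
  ⟨56, 0x5f0fa7e3fdd0ea763bda0d26a35d80c26231d60b25a2dd40a25229d20924a25d00824221cf87f3a1dcd86f3219cb05b2814c904b2010c703b180cc502b1008c301b0804c100b01, 0, 123, 0x601001e01005601005c01006001006601006a01006e03007003007201007603007a01008201008e0200c60100d20200d60200e20100e60100ee01, []⟩]

theorem t9_571_9 : jobs 8 S9 b8_571 j9_571_9 = true := by decide +kernel

noncomputable def j9_571_10 : List Job := [
  ⟨55, 0x5f0fa7e3fdd0ea763bda0d26a35d80c26231d60b25a2dd40a25229d20924a25d00824221cf87f3a1dcd86f3219cb05b2814c904b2010c703b180cc502b1008c301b09844100b01, 123, 149, 0xfa01010801011401012601014001014400014e01015601016602016c01017e0301940101ac0101b00301bc0101c40101ca0101cc0301d00101d40301d80101f00101f60101fc03020201021201021a01, [(161, ⟨113, 0x8400015200011900002c0000080000040000030001010000000001, 0x1843587052080200c02⟩)]⟩]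

theorem t9_571_10 : jobs 8 S9 b8_571 j9_571_10 = true := by decide +kernel

noncomputable def j9_571_11 : List Job := [
  ⟨55, 0x5f0fa7e3fdd0ea763bda0d26a35d80c26231d60b25a2dd40a25229d20924a25d00824221cf87f3a1dcd86f3219cb05b2814c904b2010c703b180cc502b1008c301b09844100b01, 0, 123, 0x601000a00001e01003202005600005c03006001006601006a03007001007201007603007a01007e03008201008600008e02009e0200ae0300c60000d20200d60200e20100e60300ee01, [(98, ⟨112, 0x8000017c00002500001c0000080000040000020000010000000001, 0x1803a09438080200802⟩), (66, ⟨110, 0x8e00015300003200012c0000080000050000020000010000000001, 0x18e3e0747e080280802⟩), (42, ⟨111, 0x8d0001480000360001100000080000040000030000010000000001, 0x18d240d820080200c02⟩), (4, ⟨109, 0x8d00014a00003e0001200000080000040000030001010000000001, 0x18d250407e080200c02⟩)]⟩]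

theorem t9_571_11 : jobs 8 S9 b8_571 j9_571_11 = true := by decide +kernel

noncomputable def j9_571_12 : List Job := [
  ⟨54, 0x5e0f27a3ddc0e27239da0d26a35d80c26231d60b25a2dd40a25229d20924a25d00824221cf07b381ccd06b3018cb05b2814c904b2010c703b198c4502b11884301b09844100b01, 124, 94, 0xfa0100fe01010201010601011a03011e01012603012e03013601013a01013e01014a01014e01015201015601015a01015e03016201016603016a01016e01017a01017e03018201018a03018e01019203019a01019e0101a20101a60101aa0301ae01, []⟩]

theorem t9_571_12 : jobs 8 S9 b8_571 j9_571_12 = true := by decide +kernel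

noncomputable def j9_571_13 : List Job := [
  ⟨54, 0x5e0f27a3ddc0e27239da0d26a35d80c26231d60b25a2dd40a25229d20924a25d00824221cf07b381ccd06b3018cb05b2814c904b2010c703b198c4502b11884301b09844100b01, 0, 124, 0x203000601000a02000e03001603001a01001e03002603003201003601003a01003e01004a01004e01005601005e01006202006a02008601009a0300a20100a60100aa0100b20100b60100c20100c60100ca0100ce0100d60100da01, []⟩]

theorem t9_571_13 : jobs 8 S9 b8_571 j9_571_13 = true := by decide +kernel

noncomputable def j9_571_14 : List Job := [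
  ⟨53, 0x5e0f27a3ddc0e27239da0d26a35d80c26231d60b25a2dd40a25229d20924a25d00824221cf07b399c4d06b31984b05b29944904b21904703b198c4502b11884301b09844100b01, 0, 78, 0x200000601000a00000e00001201001603001e03002a01002e01003a01003e01004601004a02005a03006201006601006e01007e01008a00008e01009203009a01, [(68, ⟨106, 0x8600016a0001090000310000110000050000020000010000000001, 0x1863d06012210280802⟩), (6, ⟨107, 0x820000700001090000310000210000050000030001010000000001, 0x1822882430210280c02⟩), (4, ⟨108, 0xa70000410001110000290000210000050000020001010000000001, 0x18e2082442180280802⟩), (0, ⟨105, 0x8600016a0001090000310000110000050000020000010000000001, 0x1863d06012210280802⟩)]⟩]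

theorem t9_571_14 : jobs 8 S9 b8_571 j9_571_14 = true := by decide +kernel

noncomputable def j9_571_15 : List Job := [
  ⟨52, 0x5f4fd7c3fde4f5783ddd4ed743bdc4e57039db4dd6c37da4d56835d94cd6433d84c56031d74bf5c2f564b7582d554af542b544a750295349f4c275249748255148f44235048740214f87f3c1ece877381ccd86f341acc8673018cb85f2c16ca8572814c984f2412c88472010c7e3d1d8e46e35198c45e2d158a44e25118843e1d0d8642e15098441e0d058240e0501, 30, 41, 0x440a004e01005c00006401006800006c01008601, [(51, ⟨31, 0x42000004a000004c000006000000800000040000004000000400008000001, 0x1842d09810180200802⟩), (45, ⟨30, 0x5b00001500000054000042000000800000050000204000040400008000001, 0x1bd240c810100280802⟩)]⟩]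

theorem t9_571_15 : jobs 8 S9 b8_571 j9_571_15 = true := by decide +kernel

noncomputable def j9_571_16 : List Job := [
  ⟨52, 0x5f4fd7c3fde4f5783ddd4ed743bdc4e57039db4dd6c37da4d56835d94cd6433d84c56031d74bf5c2f564b7582d554af542b544a750295349f4c275249748255148f44235048740214f87f3c1ece877381ccd86f341acc8673018cb85f2c16ca8572814c984f2412c88472010c7e3d1d8e46e35198c45e2d158a44e25118843e1d0d8642e15098441e0d058240e0501, 0, 30, 0x208000c08001800002600, [(18, ⟨29, 0x5c80000600000062000006000008b00001050000206000000400000000001, 0x1be378bc1c1e0280c02⟩), (11, ⟨28, 0x5c80000600000062000006000008b00000050000006000000400000000001, 0x1be378bc1c1e0280c02⟩)]⟩]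

theorem t9_571_16 : jobs 8 S9 b8_571 j9_571_16 = true := by decide +kernel

noncomputable def j9_571_17 : List Job := [
  ⟨9, 0x6f17abe5fee172ba5ded16ab65bec162b259eb15aae57ea152aa55e914aa653e8142a251e713a9e4fe61329a4de512a964be41229249e311a8e47e21128a45e110a8643e01028241df0fa7e3fde0f27a3ddd0ea763bdc0e27239db0da6e37da0d26a35d90ca6633d80c26231d70ba5e2fd60b25a2dd50aa562bd40a25229d309a4e27d20924a25d108a4623d00824221cf679399c4d66931984b659299449649219047639198c4562911884361909844160901, 0, 17, 0x200000800001e00, [(14, ⟨23, 0x1100000080000000e00000120000000b0000011c0000040c00001010000040000001, 0x1405a040382c1a00c02⟩), (3, ⟨24, 0x12400001860000005000001200000006000001100000040800001010000000000001, 0x16746840080c1200802⟩), (0, ⟨22, 0x1100000080000000e00000120000000b0000011c0000040c00001010000040000001, 0x1405a040382c1a00c02⟩)]⟩]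

theorem t9_571_17 : jobs 8 S9 b8_571 j9_571_17 = true := by decide +kernel

noncomputable def j9_571_18 : List Job := [
  ⟨8, 0x6f17abe5fee172ba5ded16ab65bec162b259eb15aae57ea152aa55e914aa653e8142a251e713a9e4fe61329a4de512a964be41229249e311a8e47e21128a45e110a8643e01028241df0fa7e3fde0f27a3ddd0ea763bdc0e27239db0da6e37da0d26a35d90ca6633d80c26231d70ba5e2fd60b25a2dd50aa562bd40a25229d309a4e27d20924a25d108a4623d00824221c7e3d1d8e46e35198c45e2d158a44e25118843e1d0d8642e15098441e0d058240e0501, 0, 33, 0x0, []⟩]

theorem t9_571_18 : jobs 8 S9 b8_571 j9_571_18 = true := by decide +kernel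

noncomputable def j9_571_19 : List Job := [
  ⟨7, 0x6713a9e4fe61329a4de512a964be41229249e311a8e47e21128a45e110a8643e01028241df4fd7c3fde4f5783ddd4ed743bdc4e57039db4dd6c37da4d56835d94cd6433d84c56031d74bf5c2f564b7582d554af542b544a750295349f4c275249748255148f44235048740214f87f3c1ece877381ccd86f341acc8673018cb85f2c16ca8572814c984f2412c88472010c7e3d1d8e46e35198c45e2d158a44e25118843e1d0d8642e15098441e0d058240e0501, 37, 42, 0x6c00007a00, [(60, ⟨11, 0x4e000001460000027c0000041000000840000011800000204000004040000080000001, 0x194290d818080800802⟩), (53, ⟨8, 0x4c0000015c0000025800000470000008a0000000c00000004000000040000000000001, 0x18c2809028180e00802⟩)]⟩]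

theorem t9_571_19 : jobs 8 S9 b8_571 j9_571_19 = true := by decide +kernel

noncomputable def j9_571_20 : List Job := [
  ⟨7, 0x6713a9e4fe61329a4de512a964be41229249e311a8e47e21128a45e110a8643e01028241df4fd7c3fde4f5783ddd4ed743bdc4e57039db4dd6c37da4d56835d94cd6433d84c56031d74bf5c2f564b7582d554af542b544a750295349f4c275249748255148f44235048740214f87f3c1ece877381ccd86f341acc8673018cb85f2c16ca8572814c984f2412c88472010c7e3d1d8e46e35198c45e2d158a44e25118843e1d0d8642e15098441e0d058240e0501, 0, 37, 0x200002200002e00, [(22, ⟨9, 0x400000016e0000007e00000038000000c8000000900000006000004040000080000001, 0x180368f418050b00c02⟩), (16, ⟨7, 0x4c0000015c0000025800000470000008a0000000c00000004000000040000000000001, 0x18c2809028180e00802⟩), (0, ⟨10, 0x4c0000005c0000005800000070000000a0000000c00000004000000040000000000001, 0x18c2809028180e00802⟩)]⟩]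

theorem t9_571_20 : jobs 8 S9 b8_571 j9_571_20 = true := by decide +kernel

theorem d9_571 : Dn 8 S9 b8_571 := dn_of (Js := j9_571_0 ++ (j9_571_1 ++ (j9_571_2 ++ (j9_571_3 ++ (j9_571_4 ++ (j9_571_5 ++ (j9_571_6 ++ (j9_571_7 ++ (j9_571_8 ++ (j9_571_9 ++ (j9_571_10 ++ (j9_571_11 ++ (j9_571_12 ++ (j9_571_13 ++ (j9_571_14 ++ (j9_571_15 ++ (j9_571_16 ++ (j9_571_17 ++ (j9_571_18 ++ (j9_571_19 ++ (j9_571_20 ++ [])))))))))))))))))))))
  (jobs_append t9_571_0 <| jobs_append t9_571_1 <| jobs_append t9_571_2 <| jobs_append t9_571_3 <| jobs_append t9_571_4 <| jobs_append t9_571_5 <| jobs_append t9_571_6 <| jobs_append t9_571_7 <| jobs_append t9_571_8 <| jobs_append t9_571_9 <| jobs_append t9_571_10 <| jobs_append t9_571_11 <| jobs_append t9_571_12 <| jobs_append t9_571_13 <| jobs_append t9_571_14 <| jobs_append t9_571_15 <| jobs_append t9_571_16 <| jobs_append t9_571_17 <| jobs_append t9_571_18 <| jobs_append t9_571_19 <| jobs_append t9_571_20 <| List.forall_mem_nil _) (by decide +kernel)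

end Cfsg.Agent.FS.N.Sw
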