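import Cfsg.Agent.FS.N.Sw.Seg
import Cfsg.Agent.FS.N.G.S9
import Cfsg.Agent.FS.N.G.L.L24
import Cfsg.Agent.FS.N.G.L.L25

/-! The filter on the pairs for the order 512, part 62 (generated; helper52, project FS) -/

set_option autoImplicit false
set_option maxRecDepth 100000
set_option Elab.async false

namespace Cfsg.Agent.FS.N.Sw

open G

noncomputable def j9_624_0 : List Job := [
  ⟨60, 0x540a25229950aa562bd008242219108a4623cf07a3e1fce0723a1dcc8673018cb05a2e17ca0522a15c88472010c703a1e0fc60321a0dc482711884301a0e07c20120a05c080701, 0, 42, 0x200000601000a01001200001601002200002a01003200003401003601003e00004001004201004601004a00004c01005001, [(36, ⟨1194, 0xa30004000030001100000900005000030000100000001, 0x1b2200c020090280c02⟩), (30, ⟨1195, 0xaf0014000031000100000a00007000030000100100001, 0x1be200c4200b0300c02⟩), (24, ⟨1193, 0xa30014000030001100000900005000030000100000001, 0x1b2200c020090280c02⟩), (16, ⟨1191, 0xa30014000130001100000900005000030000100000001, 0x1b2200c020090280c02⟩), (8, ⟨1192, 0xaf0004000131000100000a00107000030000100100001, 0x1be200c4200b0300c02⟩),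 (0, ⟨1190, 0xa30004000130001100000900005000030000100000001, 0x1b2200c020090280c02⟩)]⟩]

theorem t9_624_0 : jobs 8 S9 b8_624 j9_624_0 = true := by decide +kernel

noncomputable def j9_624_1 : List Job := [
  ⟨59, 0x4f07a3e1fce0723a1dcc86731984b05a2e17ca0522a15c884721904703a1e0fc60321a0dc482711884301a0e07c20120a05c080701, 0, 21, 0x200000601000801000e00001201001401001a01001c01001e00002001002201002400002601002801002a01, [(17, ⟨1189, 0x8c0014000110000200000b00006001030000100000001, 0x18d20040400a0380c02⟩), (14, ⟨1188, 0x8c0014000110000200000b00006001030000100000001, 0x18d20040400a0380c02⟩), (6, ⟨1187, 0x840014600110000200000a00007001020010100100001, 0x18622040400a0380802⟩), (0, ⟨1186, 0xe10006200130000100000c00004000020000100000001, 0x1c2390c0200d0200802⟩)]⟩]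

theorem t9_624_1 : jobs 8 S9 b8_624 j9_624_1 = true := by decide +kernel

noncomputable def j9_624_2 : List Job := [
  ⟨58, 0x5c0e272399d0ea763bd80c26231990ca6633d40a25229950aa562bd008242219108a4623cf07a3e1fce0723a1dcc86731984b05a2e17ca0522a15c884721904703a1e0fc60321a0dc482711884301a0e07c20120a05c080701, 0, 33, 0x200000601000e00001201001a01002600002a01002e00003001003400003601003a01004000004201, [(31, ⟨1184, 0x970004600130000100000b00107000020010100100001, 0x195220c0200b0380802⟩), (25, ⟨1185, 0x930014500110000200000900007001020010100100001, 0x1a32384040090380802⟩), (22, ⟨1183, 0x970014600130000100000b00107000020010100100001, 0x195220c0200b0380802⟩), (18, ⟨1181, 0xe00016200030000100000d00104001020010100000001, 0x1c2390c0200c0200802⟩), (6, ⟨1182, 0xe60006100111000200000f00104000020010100000001, 0x1c728840420e0200802⟩), (0, ⟨1180, 0xe00006200030000100000d00004001020010100000001, 0x1c2390c0200c0200802⟩)]⟩]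

theorem t9_624_2 : jobs 8 S9 b8_624 j9_624_2 = true := by decide +kernel

noncomputable def j9_624_3 : List Job := [
  ⟨47, 0x5c4e6753b5c0e4743bd84c66533580c46433d44a6552b540a4542bd04864523500844423ce0723a1dcd06a361bcc86731984a0522a15c904a2613c88472190460321a0dc502a160bc48271188420120a05c100a0603c080701, 0, 28, 0x200000601000e00001201001a01001e00002201002a00002e01003601, [(20, ⟨1179, 0x800004000031000200000800004000020000100000001, 0x1802004062080200802⟩), (14, ⟨1178, 0xa00005000010000300000800004000020000100000001, 0x1b0300c040080200802⟩), (6, ⟨1177, 0x800004000031000200000800004000020000100000001, 0x1802004062080200802⟩), (0, ⟨1176, 0xa00005000010000300000800004000020000100000001, 0x1b0300c040080200802⟩)]⟩]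

theorem t9_624_3 : jobs 8 S9 b8_624 j9_624_3 = true := by decide +kernel

noncomputable def j9_624_4 : List Job := [
  ⟨27, 0x5e0f27a3d9f0fa7e3fdc0e272399d0ea763bda0d26a359b0da6e37d80c26231990ca6633d60b25a2d970ba5e2fd40a25229950aa562bd20924a259309a4e27d008242219108a4623cfe7d31984be5d219047e3d118843e1d01, 0, 20, 0x200000c00001c00, [(13, ⟨1175, 0x900017c00010000200010800004001020000100000001, 0x1a03e84040080200802⟩), (5, ⟨1174, 0x900017c00110000200000800104001020000100000001, 0x1a03e84040080200802⟩), (0, ⟨1173, 0x8300076001200001f0000900105001020010100000001, 0x1823c0803e090280802⟩)]⟩]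

theorem t9_624_4 : jobs 8 S9 b8_624 j9_624_4 = true := by decide +kernel

noncomputable def j9_624_5 : List Job := [
  ⟨26, 0x4180f05824080701, 0, 30, 0x0, []⟩]

theorem t9_624_5 : jobs 8 S9 b8_624 j9_624_5 = true := by decide +kernel

noncomputable def j9_624_6 : List Job := [
  ⟨25, 0x5e0f27a3d9f0fa7e3fd80c26231990ca6633d40a25229950aa562bd108a4623d00824221c180f05824080701, 0, 44, 0x0, []⟩]

theorem t9_624_6 : jobs 8 S9 b8_624 j9_624_6 = true := by decide +kernel

noncomputable def j9_624_7 : List Job := [
  ⟨24, 0x580c26231990ca6633d40a25229950aa562bc180f05824080701, 0, 72, 0x0, []⟩]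

theorem t9_624_7 : jobs 8 S9 b8_624 j9_624_7 = true := by decide +kernel

noncomputable def j9_624_8 : List Job := [
  ⟨23, 0x5e0f27a3d9f0fa7e3fd108a4623d00824221c180f05824080701, 0, 80, 0x0, []⟩]

theorem t9_624_8 : jobs 8 S9 b8_624 j9_624_8 = true := by decide +kernel

noncomputable def j9_624_9 : List Job := [
  ⟨22, 0x580c26231990ca6633d40a25229950aa562bc88462613c80422412c4826160bc4022140ac180f05824080701, 0, 72, 0x0, []⟩]

theorem t9_624_9 : jobs 8 S9 b8_624 j9_624_9 = true := by decide +kernel

noncomputable def j9_624_10 : List Job := [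
  ⟨21, 0x5e0f27a3d9f0fa7e3fd108a4623d00824221c88462613c80422412c4826160bc4022140ac180f05824080701, 0, 80, 0x0, []⟩]

theorem t9_624_10 : jobs 8 S9 b8_624 j9_624_10 = true := by decide +kernel

noncomputable def j9_624_11 : List Job := [
  ⟨20, 0x5e0f27a3d9f0fa7e3fd80c26231990ca6633c88462613c80422412c4826160bc4429100ac180f05824080701, 0, 128, 0x0, []⟩]

theorem t9_624_11 : jobs 8 S9 b8_624 j9_624_11 = true := by decide +kernel

noncomputable def j9_624_12 : List Job := [
  ⟨19, 0x540a25229950aa562bd108a4623d00824221c88462613c80422412c4826160bc4429100ac180f05824080701, 0, 128, 0x0, []⟩]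

theorem t9_624_12 : jobs 8 S9 b8_624 j9_624_12 = true := by decide +kernel

noncomputable def j9_624_13 : List Job := [
  ⟨18, 0x488462613c84492012c4826160bc4429100ac180f05824080701, 0, 72, 0x0, []⟩]

theorem t9_624_13 : jobs 8 S9 b8_624 j9_624_13 = true := by decide +kernel

noncomputable def j9_624_14 : List Job := [
  ⟨17, 0x5e0f27a3d9f0fa7e3fd80c26231990ca6633d40a25229950aa562bd108a4623d00824221c88462613c84492012c4826160bc4429100ac180f05824080701, 0, 96, 0x0, []⟩]

theorem t9_624_14 : jobs 8 S9 b8_624 j9_624_14 = true := by decide +kernel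

noncomputable def j9_624_15 : List Job := [
  ⟨16, 0x540a25229950aa562bc4826160bc4022140ac180f05824080701, 0, 72, 0x0, []⟩]

theorem t9_624_15 : jobs 8 S9 b8_624 j9_624_15 = true := by decide +kernel

noncomputable def j9_624_16 : List Job := [
  ⟨15, 0x5e0f27a3d9f0fa7e3fd80c26231990ca6633d108a4623d00824221c4826160bc4022140ac180f05824080701, 0, 72, 0x0, []⟩]

theorem t9_624_16 : jobs 8 S9 b8_624 j9_624_16 = true := by decide +kernel

noncomputable def j9_624_17 : List Job := [
  ⟨14, 0x5e0f27a3d9f0fa7e3fd80c26231990ca6633d40a25229950aa562bc4826160bc4022140ac180f05824080701, 0, 72, 0x0, []⟩]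

theorem t9_624_17 : jobs 8 S9 b8_624 j9_624_17 = true := by decide +kernel

noncomputable def j9_624_18 : List Job := [
  ⟨13, 0x5108a4623d00824221c4826160bc4022140ac180f05824080701, 0, 72, 0x0, []⟩]

theorem t9_624_18 : jobs 8 S9 b8_624 j9_624_18 = true := by decide +kernel

noncomputable def j9_624_19 : List Job := [
  ⟨12, 0x5e0f27a3d9f0fa7e3fd80c26231990ca6633d40a25229950aa562bce8763e1fce0723c1ec88462613c80422412c4826160bc4022140ac180f05824080701, 0, 60, 0x208000c08001601001801003608, []⟩]

theorem t9_624_19 : jobs 8 S9 b8_624 j9_624_19 = true := by decide +kernel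

noncomputable def j9_624_20 : List Job := [
  ⟨11, 0x5108a4623d00824221ce8763e1fce0723c1ec88462613c80422412c4826160bc4022140ac180f05824080701, 0, 60, 0x3e08004008004209004408004609005201005401005801005e08006008006601007201, []⟩]

theorem t9_624_20 : jobs 8 S9 b8_624 j9_624_20 = true := by decide +kernel

noncomputable def j9_624_21 : List Job := [
  ⟨10, 0x580c26231990ca6633c4826160bc442b100a4180f05824080701, 0, 128, 0x0, []⟩]

theorem t9_624_21 : jobs 8 S9 b8_624 j9_624_21 = true := by decide +kernel

noncomputable def j9_624_22 : List Job := [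
  ⟨9, 0x5e0f27a3d9f0fa7e3fd40a25229950aa562bd108a4623d00824221c4826160bc442b100a4180f05824080701, 0, 128, 0x0, []⟩]

theorem t9_624_22 : jobs 8 S9 b8_624 j9_624_22 = true := by decide +kernel

noncomputable def j9_624_23 : List Job := [
  ⟨8, 0x5e0f27a3d9f0fa7e3fce8763e1fce0723c1ec88462613c844b201244826160bc442b100a4180f05824080701, 0, 132, 0x208000408000808000a09000c08000e09001601001e09002001002401003201003801004001004201005208005801006201006e01007401007601, []⟩]

theorem t9_624_23 : jobs 8 S9 b8_624 j9_624_23 = true := by decide +kernel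

noncomputable def j9_624_24 : List Job := [
  ⟨7, 0x580c26231990ca6633d40a25229950aa562bd108a4623d00824221ce8763e1fce0723c1ec88462613c844b201244826160bc442b100a4180f05824080701, 0, 132, 0x20800060000080000240100ba0800c80100de01, [(3, ⟨1172, 0x4700045000200008000068010300008000040000001, 0x18e21840400b0101402⟩), (2, ⟨1171, 0x4700045000200008000068010300008000040000001, 0x18e21840400b0101402⟩)]⟩]

theorem t9_624_24 : jobs 8 S9 b8_624 j9_624_24 = true := by decide +kernel

noncomputable def j9_624_25 : List Job := [
  ⟨6, 0x5e0f27a3d9f0fa7e3fd80c26231990ca6633ce8763e1fc80422412c4022140ac160901, 0, 256, 0x0, []⟩]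

theorem t9_624_25 : jobs 8 S9 b8_624 j9_624_25 = true := by decide +kernel

noncomputable def j9_624_26 : List Job := [
  ⟨5, 0x540a25229950aa562bd108a4623d00824221ce8763e1fc80422412c4022140ac160901, 0, 256, 0x0, []⟩]

theorem t9_624_26 : jobs 8 S9 b8_624 j9_624_26 = true := by decide +kernel

noncomputable def j9_624_27 : List Job := [
  ⟨4, 0x5e0f27a3d9f0fa7e3fd80c26231990ca6633ce8763e1fc80422412c4429100ac160901, 0, 144, 0x208002203003e0300560800920800b20300ce0300e608, []⟩]

theorem t9_624_27 : jobs 8 S9 b8_624 j9_624_27 = true := by decide +kernel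

noncomputable def j9_624_28 : List Job := [
  ⟨3, 0x540a25229950aa562bd108a4623d00824221ce8763e1fc80422412c4429100ac160901, 0, 144, 0x0, []⟩]

theorem t9_624_28 : jobs 8 S9 b8_624 j9_624_28 = true := by decide +kernel

noncomputable def j9_624_29 : List Job := [
  ⟨2, 0x5e0f27a3d9f0fa7e3fd80c26231990ca6633ce8763e1fc80422412c4429100ac160901, 0, 144, 0x208002203003e0300560800920800b20300ce0300e608, []⟩]

theorem t9_624_29 : jobs 8 S9 b8_624 j9_624_29 = true := by decide +kernel

noncomputable def j9_624_30 : List Job := [
  ⟨1, 0x540a25229950aa562bd108a4623d00824221ce8763e1fc80422412c4429100ac160901, 0, 144, 0x0, []⟩]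

theorem t9_624_30 : jobs 8 S9 b8_624 j9_624_30 = true := by decide +kernel

noncomputable def j9_624_31 : List Job := [
  ⟨0, 0x4e8763e1fc80422412c4429100ac160901, 0, 144, 0x20200220b003e0b00560200920900b20b00ce0b00e609, []⟩]

theorem t9_624_31 : jobs 8 S9 b8_624 j9_624_31 = true := by decide +kernel

theorem d9_624 : Dn 8 S9 b8_624 := dn_of (Js := j9_624_0 ++ (j9_624_1 ++ (j9_624_2 ++ (j9_624_3 ++ (j9_624_4 ++ (j9_624_5 ++ (j9_624_6 ++ (j9_624_7 ++ (j9_624_8 ++ (j9_624_9 ++ (j9_624_10 ++ (j9_624_11 ++ (j9_624_12 ++ (j9_624_13 ++ (j9_624_14 ++ (j9_624_15 ++ (j9_624_16 ++ (j9_624_17 ++ (j9_624_18 ++ (j9_624_19 ++ (j9_624_20 ++ (j9_624_21 ++ (j9_624_22 ++ (j9_624_23 ++ (j9_624_24 ++ (j9_624_25 ++ (j9_624_26 ++ (j9_624_27 ++ (j9_624_28 ++ (j9_624_29 ++ (j9_624_30 ++ (j9_624_31 ++ []))))))))))))))))))))))))))))))))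
  (jobs_append t9_624_0 <| jobs_append t9_624_1 <| jobs_append t9_624_2 <| jobs_append t9_624_3 <| jobs_append t9_624_4 <| jobs_append t9_624_5 <| jobs_append t9_624_6 <| jobs_append t9_624_7 <| jobs_append t9_624_8 <| jobs_append t9_624_9 <| jobs_append t9_624_10 <| jobs_append t9_624_11 <| jobs_append t9_624_12 <| jobs_append t9_624_13 <| jobs_append t9_624_14 <| jobs_append t9_624_15 <| jobs_append t9_624_16 <| jobs_append t9_624_17 <| jobs_append t9_624_18 <| jobs_append t9_624_19 <| jobs_append t9_624_20 <| jobs_append t9_624_21 <| jobs_append t9_624_22 <| jobs_append t9_624_23 <| jobs_append t9_624_24 <| jobs_append t9_624_25 <| jobs_append t9_624_26 <| jobs_append t9_624_27 <| jobs_append t9_624_28 <| jobs_append t9_624_29 <| jobs_append t9_624_30 <| jobs_append t9_624_31 <| List.forall_mem_nil _) (by decide +kernel)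

noncomputable def j9_625_0 : List Job := [
  ⟨56, 0x4b05a2e17ca0522a15c904a2613c80422211c703a1e0fc60321a0dc502a160bc40221209c361909844160901, 0, 6, 0x208000401000808000a01, []⟩]

theorem t9_625_0 : jobs 8 S9 b8_625 j9_625_0 = true := by decide +kernel

noncomputable def j9_625_1 : List Job := [
  ⟨54, 0x4b05a2e17ca0522a15c904a2613c80422211c703a1e0fc60321a0dc502a160bc40221209c361909844160901, 0, 18, 0x208000401000608000810000a01000c01000e08001408001601001800001a10001c01001e01002008, [(11, ⟨1205, 0x20000c00023e004a000020000c00204004040000001, 0x1c8400704c0c0400802⟩)]⟩]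

theorem t9_625_1 : jobs 8 S9 b8_625 j9_625_1 = true := by decide +kernel

noncomputable def j9_625_2 : List Job := [
  ⟨53, 0x43e1d0d8642e15098441e0d058240e0501, 0, 3, 0x201000401000601, []⟩]

theorem t9_625_2 : jobs 8 S9 b8_625 j9_625_2 = true := by decide +kernel

noncomputable def j9_625_3 : List Job := [
  ⟨51, 0x43e1d0d8642e15098441e0d058240e0501, 0, 4, 0x201000401000601000801, []⟩]

theorem t9_625_3 : jobs 8 S9 b8_625 j9_625_3 = true := by decide +kernel

noncomputable def j9_625_4 : List Job := [
  ⟨50, 0x4f07a3e1fce0723a1dcd06a361bcc0623219cb05a2e17ca0522a15c904a2613c80422211c703a1e0fc60321a0dc502a160bc40221209c3e1d0d8642e15098441e0d058240e0501, 0, 3, 0x201000401, []⟩]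

theorem t9_625_4 : jobs 8 S9 b8_625 j9_625_4 = true := by decide +kernel

noncomputable def j9_625_5 : List Job := [
  ⟨33, 0x47639198c4562911884361909844160901, 0, 6, 0x201000401000601000801000a01000c01, []⟩]

theorem t9_625_5 : jobs 8 S9 b8_625 j9_625_5 = true := by decide +kernel

noncomputable def j9_625_6 : List Job := [
  ⟨32, 0x47639198c4562911884361909844160901, 0, 19, 0x401000c01001201001801002201, []⟩]

theorem t9_625_6 : jobs 8 S9 b8_625 j9_625_6 = true := by decide +kernel

noncomputable def j9_625_7 : List Job := [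
  ⟨31, 0x47639198c4562911884361909844160901, 0, 5, 0x401000a01, []⟩]

theorem t9_625_7 : jobs 8 S9 b8_625 j9_625_7 = true := by decide +kernel

noncomputable def j9_625_8 : List Job := [
  ⟨30, 0x43e1d0d8642e15098441e0d058240e0501, 0, 22, 0x401000c01001201001801002201002a01, []⟩]

theorem t9_625_8 : jobs 8 S9 b8_625 j9_625_8 = true := by decide +kernel

noncomputable def j9_625_9 : List Job := [
  ⟨20, 0x43e1d0d8642e15098441e0d058240e0501, 0, 16, 0x401000c01000e01001401001c01001e01, []⟩]

theorem t9_625_9 : jobs 8 S9 b8_625 j9_625_9 = true := by decide +kernel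

noncomputable def j9_625_10 : List Job := [
  ⟨17, 0x4783f1c0ec6837180cc582f140ac48271008c3e1d0d8642e15098441e0d058240e0501, 0, 22, 0x200000401000604000a00000c01000e04001001001401001601001801001a04002001002801, [(4, ⟨924, 0x870011600164001220000800101001060010200000001, 0x1861984484080180408⟩), (0, ⟨923, 0x870001600064000220000800101001060000200000001, 0x1861984484080180408⟩)]⟩]

theorem t9_625_10 : jobs 8 S9 b8_625 j9_625_10 = true := by decide +kernel

noncomputable def j9_625_11 : List Job := [
  ⟨16, 0x47e3d1d8e46e35198c45e2d158a44e25118843e1d0d8642e15098441e0d058240e0501, 0, 30, 0x204000401000801000a01000e00001001001401001604001800001a01002200002401002801002c01002e01003401003601, [(16, ⟨472, 0xda001830001e0004680000c001010000400040800200001, 0x1455b0e026020480408⟩), (11, ⟨471, 0xb40019c0009780044800208001010000400000800200001, 0x15b490bc22020400408⟩), (6, ⟨473, 0xb40019c0009780044800008000010000400040800000001, 0x15b490bc22020400408⟩)]⟩]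

theorem t9_625_11 : jobs 8 S9 b8_625 j9_625_11 = true := by decide +kernel

theorem d9_625 : Dn 8 S9 b8_625 := dn_of (Js := j9_625_0 ++ (j9_625_1 ++ (j9_625_2 ++ (j9_625_3 ++ (j9_625_4 ++ (j9_625_5 ++ (j9_625_6 ++ (j9_625_7 ++ (j9_625_8 ++ (j9_625_9 ++ (j9_625_10 ++ (j9_625_11 ++ []))))))))))))
  (jobs_append t9_625_0 <| jobs_append t9_625_1 <| jobs_append t9_625_2 <| jobs_append t9_625_3 <| jobs_append t9_625_4 <| jobs_append t9_625_5 <| jobs_append t9_625_6 <| jobs_append t9_625_7 <| jobs_append t9_625_8 <| jobs_append t9_625_9 <| jobs_append t9_625_10 <| jobs_append t9_625_11 <| List.forall_mem_nil _) (by decide +kernel)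

noncomputable def j9_626_0 : List Job := [
  ⟨63, 0x4f07a3e1fce0723a1dcd06a361bcc0623219cb05a2e17ca0522a15c904a2613c80422211c7e3d198c45e2d118843e1d098441e0d01, 0, 91, 0x4c10005210005810005e02006410006a01007001007801007e01008210008401008a01008c10008e1000900100960100981100a21000a81100aa0100b00100b210, []⟩]

theorem t9_626_0 : jobs 8 S9 b8_626 j9_626_0 = true := by decide +kernel

noncomputable def j9_626_1 : List Job := [
  ⟨62, 0x4f07a3e1fce0723a1dcd06a361bcc0623219cb05a2e17ca0522a15c904a2613c80422211c7e3d198c45e2d118843e1d098441e0d01, 0, 76, 0x4c13005213005812005e03006413006801006c01007000007401007801007c00008401008a01009000009401, [(71, ⟨1231, 0x84000460002d001100010800104001020010100000001, 0x185230b020080200802⟩), (61, ⟨1230, 0x910015c00038000160000800105001030010100100001, 0x1972d8f82c080280c02⟩), (55, ⟨1229, 0x84001460012d000100000800104001020000100000001, 0x185230b020080200802⟩)]⟩]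

theorem t9_626_1 : jobs 8 S9 b8_626 j9_626_1 = true := by decide +kernel

noncomputable def j9_626_2 : List Job := [
  ⟨61, 0x4f07a3e1fcc0623219cb05a2e17c80422211c783f1a0dc502b1008c381f0a05c100b01, 0, 150, 0x403000601000a01001201001403001e01002201002403002e01003403003601003a01004801004c01005801005a01006001006203006801007803007a01007c01008201008401008601008c01008e01009003009401009a01009c0100a20100a40100a60100a80300ac0100ae0100b00300b40100b80100ba0100c00100c20100c40100c60100cc0100ec03, []⟩]

theorem t9_626_2 : jobs 8 S9 b8_626 j9_626_2 = true := by decide +kernel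

noncomputable def j9_626_3 : List Job := [
  ⟨60, 0x4f07a3e1fcc0623219cb05a2e17c80422211c783f1a0dc502b11884381f0a05c100b01, 0, 150, 0x403000601000a01001201001403001e01002201002403002e01003403003601003a01004801004c01005801005a01006003006201006a01007803007a01007c01008003008201008401008601008c01008e01009003009401009a01009c0100a00300a20100a40100a60100ac0100ae0100b00300b40100b80100ba0100c00100c20100c40100c60100cc0300d001, []⟩]

theorem t9_626_3 : jobs 8 S9 b8_626 j9_626_3 = true := by decide +kernel

noncomputable def j9_626_4 : List Job := [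
  ⟨59, 0x4e0723a1dcc0623219ca0522a15c80422211c703b180cc502b1008c301b09844100b01, 0, 152, 0x203000e03001a10002603006a03007610009210009401009611009810009a01009c10009e1000a00100a40300a60100aa1000ac0100ae1000b01000b20100b41000b61000b80100bc1000be0100c21000c41100c60300ca1000cc1000ce1000d00300d21000d61000d81000de10, []⟩]

theorem t9_626_4 : jobs 8 S9 b8_626 j9_626_4 = true := by decide +kernel

noncomputable def j9_626_5 : List Job := [
  ⟨58, 0x4e0723a1dcc0623219ca0522a15c80422211c703b180cc502b1008c301b09844100b01, 0, 154, 0x203000e03001a11002611006203006603008610008801008a10008c10008e01009010009210009401009810009a01009e1000a00100a21200a41000a60100a81000aa1000ac0100b01100b20100b61000b80100ba0300be1000c01000c20300c41000c60300ca0300ce1000d00100d20300d61000d81000da03, []⟩]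

theorem t9_626_5 : jobs 8 S9 b8_626 j9_626_5 = true := by decide +kernel

noncomputable def j9_626_6 : List Job := [
  ⟨57, 0x4e0723a1dcc0623219ca0522a15c80422211c703b180cc502b1008c301b09844100b01, 0, 142, 0x203000e03001a03002613005e03006603007e03008001008210008411008601008810008a10008c01009003009201009603009801009a10009c10009e0100a01000a20300a40100a80300aa0100ae0300b01300b20300b60300b80100ba1000bc0300be0300c20300c41000c60300ca03, []⟩]

theorem t9_626_6 : jobs 8 S9 b8_626 j9_626_6 = true := by decide +kernel

noncomputable def j9_626_7 : List Job := [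
  ⟨56, 0x4e0723a1dcc0623219ca0522a15c80422211c703b198c4502b11884301b09844100b01, 0, 130, 0x203000e03001a03002603005c03006e12007001007201007412007601007811007a03007c01008003008201008600008801008a10008c12008e01009012009212009401009803009a01009e1200a01200a20300a61200a81200aa1200ac0300ae0300b21200b612, [(66, ⟨1228, 0x4b8005f000700046400040000500004004040000001, 0x19e2b0c432080280802⟩)]⟩]

theorem t9_626_7 : jobs 8 S9 b8_626 j9_626_7 = true := by decide +kernel

noncomputable def j9_626_8 : List Job := [
  ⟨55, 0x4e0723a1dcc0623219ca0522a15c80422211c703b198c4502b11884301b09844100b01, 0, 130, 0x203000e03001a03002611005c03006e10007001007210007410007601007811007a11007c01008003008201008600008801008a10008c10008e01009010009210009401009803009a01009e1000a01000a21100a61000a81100aa1000ac0300ae0300b21000b610, [(66, ⟨1227, 0x4680143002440046400040000500006000040000001, 0x18c2188832080280c02⟩)]⟩]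

theorem t9_626_8 : jobs 8 S9 b8_626 j9_626_8 = true := by decide +kernel

noncomputable def j9_626_9 : List Job := [
  ⟨54, 0x4e0723a1dcd06a361bcb05a2e17c80422211c783f1c0ec48271008c381f0c06c0e0501, 0, 72, 0x7202007a02008202, []⟩]

theorem t9_626_9 : jobs 8 S9 b8_626 j9_626_9 = true := by decide +kernel

noncomputable def j9_626_10 : List Job := [
  ⟨53, 0x4f07a3e1fcc4653019cb05a2e17c844720114783f1c0ec48271008c381f0c06c0e0501, 0, 54, 0x202000e02001202001e02003602003e02004003004602004c03004e02005003005602005c03, []⟩]

theorem t9_626_10 : jobs 8 S9 b8_626 j9_626_10 = true := by decide +kernel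

noncomputable def j9_626_11 : List Job := [
  ⟨52, 0x4f07a3e1fcc46730194b05a2e17c844720114783f1c0ec4e2511884381f0c06c0e0501, 0, 54, 0x202000e02001202001e02003602003e02004003004602004c03004e02005003005602005c03, []⟩]

theorem t9_626_11 : jobs 8 S9 b8_626 j9_626_11 = true := by decide +kernel

noncomputable def j9_626_12 : List Job := [
  ⟨51, 0x4f07a3e1fcd06a361bca0522a15c80422211c6837180cc48271008c2e15098440e0501, 0, 68, 0x7010007401007c11008001008402008802, []⟩]

theorem t9_626_12 : jobs 8 S9 b8_626 j9_626_12 = true := by decide +kernel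

noncomputable def j9_626_13 : List Job := [
  ⟨50, 0x4f07a3e1fcd06a361bca0522a15c80422211c6837180cc48271008c2e15098440e0501, 0, 58, 0x401000a01001001001601003001003601003c01004201005610005a03005c10006202006610006803007002, []⟩]

theorem t9_626_13 : jobs 8 S9 b8_626 j9_626_13 = true := by decide +kernel

noncomputable def j9_626_14 : List Job := [
  ⟨49, 0x4f07a3e1fcd06a361bca0522a15c80422211c6837180cc48271008c2e15098440e0501, 0, 58, 0x401000a01001001001601003001003601003c01004201005612005a03005c12006202006612006803007002, []⟩]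

theorem t9_626_14 : jobs 8 S9 b8_626 j9_626_14 = true := by decide +kernel

noncomputable def j9_626_15 : List Job := [
  ⟨48, 0x4e0723a1dcc0623219ca457281548447201146837180cc48271008c2e15098440e0501, 0, 48, 0x212000c12000e13001802002a02003012003a12003e01004002004403004600004a12004c02005003005202005401005a02005c12, [(34, ⟨1226, 0x5080066002400004c00840000700004004040000001, 0x1a13208026080380802⟩)]⟩]

theorem t9_626_15 : jobs 8 S9 b8_626 j9_626_15 = true := by decide +kernel

noncomputable def j9_626_16 : List Job := [
  ⟨47, 0x4e0723a1dcc0623219ca0522a15c80422211c6837180cc48271008c2e15098440e0501, 0, 38, 0x401000a01001001001601002e02003402003803003a02004002004403, []⟩]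

theorem t9_626_16 : jobs 8 S9 b8_626 j9_626_16 = true := by decide +kernel

noncomputable def j9_626_17 : List Job := [
  ⟨46, 0x4e475381dcc4653019ca457281548447201146837180cc48271008c2e15098440e0501, 0, 38, 0x202000401000a01000c02000e02001001001601001802002602002802002e10003402003803003a11004002004403, []⟩]

theorem t9_626_17 : jobs 8 S9 b8_626 j9_626_17 = true := by decide +kernel

noncomputable def j9_626_18 : List Job := [
  ⟨45, 0x4e0723a1dcc0623219ca457281548447201146837180cc48271008c2e15098440e0501, 0, 48, 0x202000401000a01000c12000e02001001001601001810002a02002e02003a10004002004403004611004c02005003005602005e02, []⟩]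

theorem t9_626_18 : jobs 8 S9 b8_626 j9_626_18 = true := by decide +kernel

noncomputable def j9_626_19 : List Job := [
  ⟨44, 0x4e0723a1dcc0623219ca0522a15c80422211c6e35198c44e25118842e15098440e0501, 0, 54, 0x4e12005201005402005a02005e12006002006602006a02, []⟩]

theorem t9_626_19 : jobs 8 S9 b8_626 j9_626_19 = true := by decide +kernel

noncomputable def j9_626_20 : List Job := [
  ⟨43, 0x4e477381d4c46730194a457281548447201146e35198c44e25118842e15098440e0501, 0, 61, 0x1c02002602002802003202003e02005010005401005602005a03005c00006010006202006603006810006c02007001007401007601007a01, [(45, ⟨1225, 0x8c00045001220001b0000800005000020000100000001, 0x18c2288836080280802⟩)]⟩]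

theorem t9_626_20 : jobs 8 S9 b8_626 j9_626_20 = true := by decide +kernel

noncomputable def j9_626_21 : List Job := [
  ⟨42, 0x4e477381d4c46730194a457281548447201146e35198c44e25118842e15098440e0501, 0, 53, 0x401000801000c01000e01001202001c02001e02002802003402003a01003e01004000004401004602004a03004c00005001005202005603005802005c02006201006401006801006a01, [(37, ⟨1224, 0x8e000570003a0001b0000800105000020010100000001, 0x18e2e0c436080280802⟩), (31, ⟨1223, 0xa00006b00020000110000800006001020000100000001, 0x1a03588022080300802⟩)]⟩]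

theorem t9_626_21 : jobs 8 S9 b8_626 j9_626_21 = true := by decide +kernel

noncomputable def j9_626_22 : List Job := [
  ⟨19, 0x4984f2412c88472010c582f140ac48271008c1e0d058240e0501, 0, 30, 0x204000401000601000804000a04000c01000e01001004001204001401001601001804002004002201002401002604002804002a01002c01002e04003004003201003401003604, []⟩]

theorem t9_626_22 : jobs 8 S9 b8_626 j9_626_22 = true := by decide +kernel

noncomputable def j9_626_23 : List Job := [
  ⟨13, 0x45e2d158a44e25118841e0d058240e0501, 0, 22, 0x401000c01001201001a01002601, []⟩]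

theorem t9_626_23 : jobs 8 S9 b8_626 j9_626_23 = true := by decide +kernel

noncomputable def j9_626_24 : List Job := [
  ⟨12, 0x45e2d158a44e25118841e0d058240e0501, 0, 19, 0x401000601000c01000e01001201001401001801001a01002201002401, []⟩]

theorem t9_626_24 : jobs 8 S9 b8_626 j9_626_24 = true := by decide +kernel

noncomputable def j9_626_25 : List Job := [
  ⟨10, 0x4d86f341acc8673018c984f2412c88472010c5e2d158a44e25118841e0d058240e0501, 0, 37, 0x204000401000604000a04000c01000e04001204001401001604001a04001c01001e04002a04002c01002e04003404003601003a04003e04004001004404, []⟩]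

theorem t9_626_25 : jobs 8 S9 b8_626 j9_626_25 = true := by decide +kernel

noncomputable def j9_626_26 : List Job := [
  ⟨9, 0x4d86f341acc8673018c984f2412c88472010c5e2d158a44e25118841e0d058240e0501, 0, 41, 0x205000a05001205002005002a08003404003c04004404, []⟩]

theorem t9_626_26 : jobs 8 S9 b8_626 j9_626_26 = true := by decide +kernel

noncomputable def j9_626_27 : List Job := [
  ⟨8, 0x4de6d359a4ce65319849e4d259248e45219045e2d158a44e25118841e0d058240e0501, 0, 45, 0x204000401000801000c04000e01002c00002e01003400003601003a01003c01004204004a04005004, [(25, ⟨484, 0x1ec0014a0009b8000580021a000010000300000800200001, 0x1e8278d0240f0180408⟩), (21, ⟨483, 0x140000500001900004800010000010000200000800000001, 0x1b0288c022080100408⟩)]⟩]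

theorem t9_626_27 : jobs 8 S9 b8_626 j9_626_27 = true := by decide +kernel

theorem d9_626 : Dn 8 S9 b8_626 := dn_of (Js := j9_626_0 ++ (j9_626_1 ++ (j9_626_2 ++ (j9_626_3 ++ (j9_626_4 ++ (j9_626_5 ++ (j9_626_6 ++ (j9_626_7 ++ (j9_626_8 ++ (j9_626_9 ++ (j9_626_10 ++ (j9_626_11 ++ (j9_626_12 ++ (j9_626_13 ++ (j9_626_14 ++ (j9_626_15 ++ (j9_626_16 ++ (j9_626_17 ++ (j9_626_18 ++ (j9_626_19 ++ (j9_626_20 ++ (j9_626_21 ++ (j9_626_22 ++ (j9_626_23 ++ (j9_626_24 ++ (j9_626_25 ++ (j9_626_26 ++ (j9_626_27 ++ []))))))))))))))))))))))))))))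
  (jobs_append t9_626_0 <| jobs_append t9_626_1 <| jobs_append t9_626_2 <| jobs_append t9_626_3 <| jobs_append t9_626_4 <| jobs_append t9_626_5 <| jobs_append t9_626_6 <| jobs_append t9_626_7 <| jobs_append t9_626_8 <| jobs_append t9_626_9 <| jobs_append t9_626_10 <| jobs_append t9_626_11 <| jobs_append t9_626_12 <| jobs_append t9_626_13 <| jobs_append t9_626_14 <| jobs_append t9_626_15 <| jobs_append t9_626_16 <| jobs_append t9_626_17 <| jobs_append t9_626_18 <| jobs_append t9_626_19 <| jobs_append t9_626_20 <| jobs_append t9_626_21 <| jobs_append t9_626_22 <| jobs_append t9_626_23 <| jobs_append t9_626_24 <| jobs_append t9_626_25 <| jobs_append t9_626_26 <| jobs_append t9_626_27 <| List.forall_mem_nil _) (by decide +kernel)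

noncomputable def j9_627_0 : List Job := [
  ⟨63, 0x46837180cc48271008c2e15098440e0501, 0, 26, 0x401000a01000e01001401002401002a01, []⟩]

theorem t9_627_0 : jobs 8 S9 b8_627 j9_627_0 = true := by decide +kernel

noncomputable def j9_627_1 : List Job := [
  ⟨62, 0x46e35198c44e25118842e15098440e0501, 0, 19, 0x0, []⟩]

theorem t9_627_1 : jobs 8 S9 b8_627 j9_627_1 = true := by decide +kernel

noncomputable def j9_627_2 : List Job := [
  ⟨61, 0x46e35198c44e25118842e15098440e0501, 0, 36, 0x3e01004001004201004401004601004801, []⟩]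

theorem t9_627_2 : jobs 8 S9 b8_627 j9_627_2 = true := by decide +kernel

noncomputable def j9_627_3 : List Job := [
  ⟨60, 0x46e35198c44e25118842e15098440e0501, 0, 31, 0x3401003601003801003a01003c01003e01, []⟩]

theorem t9_627_3 : jobs 8 S9 b8_627 j9_627_3 = true := by decide +kernel

noncomputable def j9_627_4 : List Job := [
  ⟨59, 0x4783f1c0ec48271008c381f0c06c0e0501, 0, 4, 0x0, []⟩]

theorem t9_627_4 : jobs 8 S9 b8_627 j9_627_4 = true := by decide +kernel

noncomputable def j9_627_5 : List Job := [
  ⟨58, 0x4783f1c0ec48271008c381f0c06c0e0501, 0, 7, 0x0, []⟩]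

theorem t9_627_5 : jobs 8 S9 b8_627 j9_627_5 = true := by decide +kernel

noncomputable def j9_627_6 : List Job := [
  ⟨57, 0x4783f1c0ec4e2511884381f0c06c0e0501, 0, 6, 0x0, []⟩]

theorem t9_627_6 : jobs 8 S9 b8_627 j9_627_6 = true := by decide +kernel

noncomputable def j9_627_7 : List Job := [
  ⟨56, 0x4783f1c0ec4e2511884381f0c06c0e0501, 0, 6, 0x0, []⟩]

theorem t9_627_7 : jobs 8 S9 b8_627 j9_627_7 = true := by decide +kernel

noncomputable def j9_627_8 : List Job := [
  ⟨55, 0x46837180cc48271008c2e15098440e0501, 0, 6, 0x201000401000601000801000a01000c01, []⟩]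

theorem t9_627_8 : jobs 8 S9 b8_627 j9_627_8 = true := by decide +kernel

noncomputable def j9_627_9 : List Job := [
  ⟨54, 0x46837180cc48271008c2e15098440e0501, 0, 6, 0x0, []⟩]

theorem t9_627_9 : jobs 8 S9 b8_627 j9_627_9 = true := by decide +kernel

noncomputable def j9_627_10 : List Job := [
  ⟨53, 0x46837180cc48271008c2e15098440e0501, 0, 6, 0x0, []⟩]

theorem t9_627_10 : jobs 8 S9 b8_627 j9_627_10 = true := by decide +kernel

noncomputable def j9_627_11 : List Job := [
  ⟨52, 0x46837180cc48271008c2e15098440e0501, 0, 2, 0x0, []⟩]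

theorem t9_627_11 : jobs 8 S9 b8_627 j9_627_11 = true := by decide +kernel

noncomputable def j9_627_12 : List Job := [
  ⟨51, 0x46837180cc48271008c2e15098440e0501, 0, 2, 0x0, []⟩]

theorem t9_627_12 : jobs 8 S9 b8_627 j9_627_12 = true := by decide +kernel

noncomputable def j9_627_13 : List Job := [
  ⟨50, 0x46e35198c44e25118842e15098440e0501, 0, 6, 0x0, []⟩]

theorem t9_627_13 : jobs 8 S9 b8_627 j9_627_13 = true := by decide +kernel

noncomputable def j9_627_14 : List Job := [
  ⟨49, 0x46e35198c44e25118842e15098440e0501, 0, 6, 0xa01000c01, []⟩]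

theorem t9_627_14 : jobs 8 S9 b8_627 j9_627_14 = true := by decide +kernel

noncomputable def j9_627_15 : List Job := [
  ⟨48, 0x46e35198c44e25118842e15098440e0501, 0, 20, 0x0, []⟩]

theorem t9_627_15 : jobs 8 S9 b8_627 j9_627_15 = true := by decide +kernel

noncomputable def j9_627_16 : List Job := [
  ⟨47, 0x4783f180cc582f1008c381f0804c180f01, 0, 28, 0x0, []⟩]

theorem t9_627_16 : jobs 8 S9 b8_627 j9_627_16 = true := by decide +kernel

noncomputable def j9_627_17 : List Job := [
  ⟨46, 0x4783f180cc582f11884381f0804c180f01, 0, 52, 0x0, []⟩]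

theorem t9_627_17 : jobs 8 S9 b8_627 j9_627_17 = true := by decide +kernel

noncomputable def j9_627_18 : List Job := [
  ⟨45, 0x4783f1c0ec48271008c381f0c06c0e0501, 0, 32, 0x0, []⟩]

theorem t9_627_18 : jobs 8 S9 b8_627 j9_627_18 = true := by decide +kernel

noncomputable def j9_627_19 : List Job := [
  ⟨44, 0x4783f1c0ec48271008c381f0c06c0e0501, 0, 16, 0x0, []⟩]

theorem t9_627_19 : jobs 8 S9 b8_627 j9_627_19 = true := by decide +kernel

noncomputable def j9_627_20 : List Job := [
  ⟨43, 0x4783f1c0ec4e2511884381f0c06c0e0501, 0, 13, 0x0, []⟩]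

theorem t9_627_20 : jobs 8 S9 b8_627 j9_627_20 = true := by decide +kernel

noncomputable def j9_627_21 : List Job := [
  ⟨42, 0x4783f1c0ec4e2511884381f0c06c0e0501, 0, 13, 0x0, []⟩]

theorem t9_627_21 : jobs 8 S9 b8_627 j9_627_21 = true := by decide +kernel

noncomputable def j9_627_22 : List Job := [
  ⟨41, 0x46837180cc48271008c2e15098440e0501, 0, 34, 0x0, []⟩]

theorem t9_627_22 : jobs 8 S9 b8_627 j9_627_22 = true := by decide +kernel

noncomputable def j9_627_23 : List Job := [
  ⟨40, 0x46837180cc48271008c2e15098440e0501, 0, 34, 0x0, []⟩]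

theorem t9_627_23 : jobs 8 S9 b8_627 j9_627_23 = true := by decide +kernel

noncomputable def j9_627_24 : List Job := [
  ⟨39, 0x46837180cc48271008c2e15098440e0501, 0, 20, 0x0, []⟩]

theorem t9_627_24 : jobs 8 S9 b8_627 j9_627_24 = true := by decide +kernel

noncomputable def j9_627_25 : List Job := [
  ⟨38, 0x46837180cc48271008c2e15098440e0501, 0, 20, 0x0, []⟩]

theorem t9_627_25 : jobs 8 S9 b8_627 j9_627_25 = true := by decide +kernel

noncomputable def j9_627_26 : List Job := [
  ⟨37, 0x46837180cc48271008c2e15098440e0501, 0, 15, 0x0, []⟩]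

theorem t9_627_26 : jobs 8 S9 b8_627 j9_627_26 = true := by decide +kernel

noncomputable def j9_627_27 : List Job := [
  ⟨36, 0x46837180cc48271008c2e15098440e0501, 0, 18, 0x0, []⟩]

theorem t9_627_27 : jobs 8 S9 b8_627 j9_627_27 = true := by decide +kernel

noncomputable def j9_627_28 : List Job := [
  ⟨35, 0x46e35198c44e25118842e15098440e0501, 0, 15, 0x0, []⟩]

theorem t9_627_28 : jobs 8 S9 b8_627 j9_627_28 = true := by decide +kernel

noncomputable def j9_627_29 : List Job := [
  ⟨34, 0x46e35198c44e25118842e15098440e0501, 0, 20, 0x2601002801, []⟩]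

theorem t9_627_29 : jobs 8 S9 b8_627 j9_627_29 = true := by decide +kernel

noncomputable def j9_627_30 : List Job := [
  ⟨33, 0x46e35198c44e25118842e15098440e0501, 0, 28, 0x0, []⟩]

theorem t9_627_30 : jobs 8 S9 b8_627 j9_627_30 = true := by decide +kernel

noncomputable def j9_627_31 : List Job := [
  ⟨32, 0x46e35198c44e25118842e15098440e0501, 0, 18, 0x0, []⟩]

theorem t9_627_31 : jobs 8 S9 b8_627 j9_627_31 = true := by decide +kernel

noncomputable def j9_627_32 : List Job := [
  ⟨31, 0x43e1d0d8642e15098441e0d058240e0501, 0, 10, 0x0, []⟩]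

theorem t9_627_32 : jobs 8 S9 b8_627 j9_627_32 = true := by decide +kernel

noncomputable def j9_627_33 : List Job := [
  ⟨30, 0x4d06a361bcc0623219c904a2613c80422211c783f1c0ec48271008c381f0c06c080701, 0, 86, 0x403000c03001403002403002c03, []⟩]

theorem t9_627_33 : jobs 8 S9 b8_627 j9_627_33 = true := by decide +kernel

noncomputable def j9_627_34 : List Job := [
  ⟨29, 0x4d06a361bcc0623219c904a2613c80422211c783f1c0ec482711884381f0c06c080701, 0, 86, 0x403000c03001403001c03002403002c03, []⟩]

theorem t9_627_34 : jobs 8 S9 b8_627 j9_627_34 = true := by decide +kernel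

noncomputable def j9_627_35 : List Job := [
  ⟨28, 0x4b05a2e17ca0522a15c904a2613c80422211c6837180cc48271008c281709844080701, 0, 78, 0x203000803000e03001a03002003002603002a03003003003803003a03005201007600, [(58, ⟨1232, 0x4e8014f000400046c00848010400206000040080800, 0x3962708035090200a01⟩)]⟩]

theorem t9_627_35 : jobs 8 S9 b8_627 j9_627_35 = true := by decide +kernel

noncomputable def j9_627_36 : List Job := [
  ⟨27, 0x4b05a2e17ca0522a15c904a2613c80422211c6837180cc48271008c281709844080701, 0, 88, 0x203000813000e03001a03002003002603002a03003003003813003a03, []⟩]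

theorem t9_627_36 : jobs 8 S9 b8_627 j9_627_36 = true := by decide +kernel

noncomputable def j9_627_37 : List Job := [
  ⟨26, 0x46837180cc48271008c281709844080701, 0, 64, 0x203001403002003002603003203, []⟩]

theorem t9_627_37 : jobs 8 S9 b8_627 j9_627_37 = true := by decide +kernel

noncomputable def j9_627_38 : List Job := [
  ⟨25, 0x4f07a3e1fce0723a1dcd06a361bcc0623219cb05a2e17ca0522a15c904a2613c80422211c6837180cc48271008c281709844080701, 0, 64, 0x200000e10001410001a10002000002601003200, [(24, ⟨1225, 0x5800076002400004400048000700006000040080800, 0x3b0ba08021088300a01⟩), (15, ⟨1226, 0x4080047000420004800040000400206000040080800, 0x380a348225080200a01⟩), (0, ⟨1224, 0x5980076000400004400040000700206000040080800, 0x3b2ba08021080300a01⟩)]⟩]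

theorem t9_627_38 : jobs 8 S9 b8_627 j9_627_38 = true := by decide +kernel

noncomputable def j9_627_39 : List Job := [
  ⟨24, 0x46837198c4482711884281709844080701, 0, 82, 0x203000803000e12001403001a03002003002603002803003003003212, []⟩]

theorem t9_627_39 : jobs 8 S9 b8_627 j9_627_39 = true := by decide +kernel

noncomputable def j9_627_40 : List Job := [
  ⟨23, 0x4f07a3e1fce0723a1dcd06a361bcc0623219cb05a2e17ca0522a15c904a2613c80422211c6837198c4482711884281709844080701, 0, 92, 0x200000813000e12001412001a12002013002613003013003212, [(0, ⟨1223, 0x5800076000400004400040000700206000040080800, 0x3b0ba08021080300a01⟩)]⟩]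

theorem t9_627_40 : jobs 8 S9 b8_627 j9_627_40 = true := by decide +kernel

noncomputable def j9_627_41 : List Job := [
  ⟨22, 0x4f07a3e1fcc0623219cb05a2e17c80422211c582f140ac48271008c180f0402c080701, 0, 88, 0x403001403002403002c03004e02005201005401005602005a01005c01005e01006001006201006601006801006a01006e01007201007401007601007a01007c01007e01008001008201008601008801008a01009001009201009401009601009c01009e0100aa0200ac0200ae0100b001, []⟩]

theorem t9_627_41 : jobs 8 S9 b8_627 j9_627_41 = true := by decide +kernel

noncomputable def j9_627_42 : List Job := [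
  ⟨21, 0x4f07a3e1fcc0623219cb05a2e17c80422211c582f140ac482711884180f0402c080701, 0, 88, 0x403001403002403002c03004e02005201005401005602005a01005c01005e01006001006201006601006801006a01006e01007201007401007601007a01007c01007e01008001008201008601008801008a01009001009201009801009a01009c01009e0100aa0200ac0200ae0100b001, []⟩]

theorem t9_627_42 : jobs 8 S9 b8_627 j9_627_42 = true := by decide +kernel

noncomputable def j9_627_43 : List Job := [
  ⟨20, 0x4f07a3e1fcd06a361bca0522a15c80422211c381f0c06c281709844180f0402c080701, 0, 94, 0x603000811001203001e03002403004403004611004e03005210005401005810005a01006001006210006601006810006a10006c01007010007201007801007a10007e01008010008212008610008a10008e10009211009401009810009a0100a00100a20100a81000ac1100ae1100b41200b611, []⟩]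

theorem t9_627_43 : jobs 8 S9 b8_627 j9_627_43 = true := by decide +kernel

noncomputable def j9_627_44 : List Job := [
  ⟨19, 0x4f07a3e1fcd06a361bca0522a15c80422211c381f0c06c281709844180f0402c080701, 0, 84, 0x603000801001203001e03002403004403004603004e03005210005401005812005a01006001006210006601006812006a10006c01007010007201007801007a10007e01008013008410008612008a02008e10009010009410009e1100a01100a613, []⟩]

theorem t9_627_44 : jobs 8 S9 b8_627 j9_627_44 = true := by decide +kernel

noncomputable def j9_627_45 : List Job := [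
  ⟨18, 0x4e0723a1dcc0623219ca0522a15c80422211c783f1c0ec6837180cc582f140ac48271008c381f0c06c281709844180f0402c080701, 0, 84, 0x200000c12000e12001a11002000003a01004c00005200005810006201006801006a01007001007a01008001008210008c01008e01009401009601009801009a01009c01009e0000a01300a611, [(78, ⟨1228, 0x4c0005d000400006000048000400206004040080800, 0x3902a88031088200c01⟩), (40, ⟨1227, 0x4100155002740006000048000400004004040080800, 0x3822e0c831088200801⟩), (37, ⟨1225, 0x5980077002400004000040000600006000000080800, 0x2b23a08020080340a01⟩), (15, ⟨1226, 0x5680177002440006000048000600004000000080800, 0x2acbf48831088300801⟩), (0, ⟨1224, 0x5980077000400004000040000600206000000080800, 0x2b23a08020080340a01⟩)]⟩]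

theorem t9_627_45 : jobs 8 S9 b8_627 j9_627_45 = true := by decide +kernel

noncomputable def j9_627_46 : List Job := [
  ⟨17, 0x4e0723a1dcc0623219ca0522a15c80422211c783f1c0ec6837198c4582f140ac482711884381f0c06c281709844180f0402c080701, 0, 149, 0x200000c01000e10001a10002011003a11004c10005200005401005601005810005a01005c01005e00006001006201006410006601006810006a10006c01006e10007001007201007400007601007801007a10007c10007e01008001008210008401008610008810008a01008c10008e00009011009210009401009600009801009a01009c1000a00100a60100a81000ac0100ba0100c01000c61000d00100d60100d80100de0100e80100ee0100f01000f60100f801010001010401010610011001011201011410011801011a11011c11012211012811012a11, [(74, ⟨1233, 0xb00007700020000100000800106000030000100100001, 0x1b03a08020080380c02⟩), (70, ⟨1234, 0xb00017700020000100000800106001030000100100001, 0x1b03a08020080380c02⟩), (57, ⟨1236, 0x980005800028000100000800004000020000100000001, 0x1982c0a020080200802⟩), (46, ⟨1237, 0x950015000022001180010800104000030000100100001, 0x19d2c08c30080200c02⟩), (40, ⟨1235, 0x980005800028000100000800004000020000100000001,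 0x1982c0a020080200802⟩), (0, ⟨1223, 0xb00007700020000100000800006001030000000101000, 0x2b03a08020080340a01⟩)]⟩]

theorem t9_627_46 : jobs 8 S9 b8_627 j9_627_46 = true := by decide +kernel

noncomputable def j9_627_47 : List Job := [
  ⟨16, 0x4d06a361bcc0623219c904a2613c80422211c703b1a0dc582f1008c301b0a05c1e0d01, 0, 72, 0x601000a01001201001e01002601002a01002e01005000006e02007202007403007602007a02007c03007e02008003008202008403008602008803008a02008c03008e02009002, [(39, ⟨1232, 0x4b0004b000420044000848000400206004040000001, 0x1972588420090200c02⟩)]⟩]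

theorem t9_627_47 : jobs 8 S9 b8_627 j9_627_47 = true := by decide +kernel

noncomputable def j9_627_48 : List Job := [
  ⟨15, 0x4d06a361bcc0623219c904a2613c80422211c703b1a0dc582f1008c301b0a05c1e0d01, 0, 78, 0x601000a01001201001e01002801002c01003001007602007a02007c03007e02008202008403008602008a02008c03008e02009003009202009403009602009803009c02, []⟩]

theorem t9_627_48 : jobs 8 S9 b8_627 j9_627_48 = true := by decide +kernel

noncomputable def j9_627_49 : List Job := [
  ⟨14, 0x4d06a361bcc0623219c904a2613c80422211c703b1a0dc582f1008c301b0a05c1e0d01, 0, 72, 0x601000a01001201001e01002601002a01003001006e02007202007403007602007803007a02007c03007e02008202008403008602008803008a02008c03008e02009002, []⟩]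

theorem t9_627_49 : jobs 8 S9 b8_627 j9_627_49 = true := by decide +kernel

noncomputable def j9_627_50 : List Job := [
  ⟨13, 0x4d06a361bcc0623219c904a2613c80422211c703b1a0dc5e2d11884301b0a05c1e0d01, 0, 78, 0x601000a01001201001e01002601002a01003201007602007803007a02007c03007e02008003008202008403008602008803008a02008c03008e02009003009202009403009602009803009a02009c03, []⟩]

theorem t9_627_50 : jobs 8 S9 b8_627 j9_627_50 = true := by decide +kernel

noncomputable def j9_627_51 : List Job := [
  ⟨12, 0x4b05a2e17ca0522a15c904a2613c80422211c783f180cc582f1008c3e1d098441e0d01, 0, 72, 0x7213007813007e12008411008a13008c13, []⟩]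

theorem t9_627_51 : jobs 8 S9 b8_627 j9_627_51 = true := by decide +kernel

noncomputable def j9_627_52 : List Job := [
  ⟨11, 0x4b05a2e17ca0522a15c904a2613c80422211c783f180cc582f1008c3e1d098441e0d01, 0, 68, 0x6a11007011007610007c10008211008603, []⟩]

theorem t9_627_52 : jobs 8 S9 b8_627 j9_627_52 = true := by decide +kernel

noncomputable def j9_627_53 : List Job := [
  ⟨10, 0x4b05a2e17ca0522a15c904a2613c80422211c783f180cc582f1008c3e1d098441e0d01, 0, 68, 0x6a03006c01006e10007003007201007410007610007801007a11007c03007e01008011008203008410008603008811, []⟩]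

theorem t9_627_53 : jobs 8 S9 b8_627 j9_627_53 = true := by decide +kernel

noncomputable def j9_627_54 : List Job := [
  ⟨9, 0x4b05a2e17ca0522a15c904a2613c80422211c783f180cc582f1008c3e1d098441e0d01, 0, 58, 0x5a03005c01005e10006011006201006411006612006801006a11006c03006e01007010007203007411, []⟩]

theorem t9_627_54 : jobs 8 S9 b8_627 j9_627_54 = true := by decide +kernel

noncomputable def j9_627_55 : List Job := [
  ⟨8, 0x4b05a2e17ca0522a15c904a2613c80422211c783f180cc582f1008c3e1d098441e0d01, 0, 58, 0x5a03005c01005e01006013006201006410006603006801006a13006c03006e01007013007203007411, []⟩]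

theorem t9_627_55 : jobs 8 S9 b8_627 j9_627_55 = true := by decide +kernel

noncomputable def j9_627_56 : List Job := [
  ⟨7, 0x4783f180cc582f1008c3e1d098441e0d01, 0, 56, 0x5603005801005a12005c03005e01006012006203006401006613006803006a01006c13006e03007013, []⟩]

theorem t9_627_56 : jobs 8 S9 b8_627 j9_627_56 = true := by decide +kernel

noncomputable def j9_627_57 : List Job := [
  ⟨6, 0x4f07a3e1fce0723a1dcd06a361bcc0623219cb05a2e17ca0522a15c904a2613c80422211c783f180cc582f1008c3e1d098441e0d01, 0, 56, 0x5613005801005a12005c13005e01006012006212006401006613006803006a01006c13006e13007013, []⟩]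

theorem t9_627_57 : jobs 8 S9 b8_627 j9_627_57 = true := by decide +kernel

noncomputable def j9_627_58 : List Job := [
  ⟨5, 0x4783f180cc582f1008c3e1d098441e0d01, 0, 60, 0x5a03005c01005e10006003006201006410006603006801006a11006c03006e01007013007211007410007603007813, []⟩]

theorem t9_627_58 : jobs 8 S9 b8_627 j9_627_58 = true := by decide +kernel

noncomputable def j9_627_59 : List Job := [
  ⟨4, 0x4f07a3e1fce0723a1dcd06a361bcc0623219cb05a2e17ca0522a15c904a2613c80422211c783f180cc582f1008c3e1d098441e0d01, 0, 60, 0x5a03005c01005e10006011006201006410006610006801006a11006c10006e01007012007213007410007603007813, []⟩]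

theorem t9_627_59 : jobs 8 S9 b8_627 j9_627_59 = true := by decide +kernel

noncomputable def j9_627_60 : List Job := [
  ⟨3, 0x4783f180cc582f1008c3e1d098441e0d01, 0, 54, 0x5211005811005e10006403006a11, []⟩]

theorem t9_627_60 : jobs 8 S9 b8_627 j9_627_60 = true := by decide +kernel

noncomputable def j9_627_61 : List Job := [
  ⟨2, 0x4f07a3e1fce0723a1dcd06a361bcc0623219cb05a2e17ca0522a15c904a2613c80422211c783f180cc582f1008c3e1d098441e0d01, 0, 54, 0x5200005811005e10006403006a00, [(52, ⟨1227, 0x560006f0006c0044400848010700006000000080800, 0x2ba3c4d021088340a01⟩), (40, ⟨1228, 0x5d80163000660006400840000700006000000080800, 0x2a83c4e831080340a01⟩)]⟩]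

theorem t9_627_61 : jobs 8 S9 b8_627 j9_627_61 = true := by decide +kernel

noncomputable def j9_627_62 : List Job := [
  ⟨1, 0x47e3d198c45e2d118843e1d098441e0d01, 0, 51, 0x4c11005211005810005e03006411, []⟩]

theorem t9_627_62 : jobs 8 S9 b8_627 j9_627_62 = true := by decide +kernel

noncomputable def j9_627_63 : List Job := [
  ⟨0, 0x47e3d198c45e2d118843e1d098441e0d01, 0, 51, 0x4c13005213005812005e03006413, []⟩]

theorem t9_627_63 : jobs 8 S9 b8_627 j9_627_63 = true := by decide +kernel

theorem d9_627 : Dn 8 S9 b8_627 := dn_of (Js := j9_627_0 ++ (j9_627_1 ++ (j9_627_2 ++ (j9_627_3 ++ (j9_627_4 ++ (j9_627_5 ++ (j9_627_6 ++ (j9_627_7 ++ (j9_627_8 ++ (j9_627_9 ++ (j9_627_10 ++ (j9_627_11 ++ (j9_627_12 ++ (j9_627_13 ++ (j9_627_14 ++ (j9_627_15 ++ (j9_627_16 ++ (j9_627_17 ++ (j9_627_18 ++ (j9_627_19 ++ (j9_627_20 ++ (j9_627_21 ++ (j9_627_22 ++ (j9_627_23 ++ (j9_627_24 ++ (j9_627_25 ++ (j9_627_26 ++ (j9_627_27 ++ (j9_627_28 ++ (j9_627_29 ++ (j9_627_30 ++ (j9_627_31 ++ (j9_627_32 ++ (j9_627_33 ++ (j9_627_34 ++ (j9_627_35 ++ (j9_627_36 ++ (j9_627_37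 ++ (j9_627_38 ++ (j9_627_39 ++ (j9_627_40 ++ (j9_627_41 ++ (j9_627_42 ++ (j9_627_43 ++ (j9_627_44 ++ (j9_627_45 ++ (j9_627_46 ++ (j9_627_47 ++ (j9_627_48 ++ (j9_627_49 ++ (j9_627_50 ++ (j9_627_51 ++ (j9_627_52 ++ (j9_627_53 ++ (j9_627_54 ++ (j9_627_55 ++ (j9_627_56 ++ (j9_627_57 ++ (j9_627_58 ++ (j9_627_59 ++ (j9_627_60 ++ (j9_627_61 ++ (j9_627_62 ++ (j9_627_63 ++ []))))))))))))))))))))))))))))))))))))))))))))))))))))))))))))))))
  (jobs_append t9_627_0 <| jobs_append t9_627_1 <| jobs_append t9_627_2 <| jobs_append t9_627_3 <| jobs_append t9_627_4 <| jobs_append t9_627_5 <| jobs_append t9_627_6 <| jobs_append t9_627_7 <| jobs_append t9_627_8 <| jobs_append t9_627_9 <| jobs_append t9_627_10 <| jobs_append t9_627_11 <| jobs_append t9_627_12 <| jobs_append t9_627_13 <| jobs_append t9_627_14 <| jobs_append t9_627_15 <| jobs_append t9_627_16 <| jobs_append t9_627_17 <| jobs_append t9_627_18 <| jobs_append t9_627_19 <| jobs_append t9_627_20 <| jobs_append t9_627_21 <| jobs_append t9_627_22 <| jobs_append t9_627_23 <| jobs_append t9_627_24 <| jobs_append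 t9_627_25 <| jobs_append t9_627_26 <| jobs_append t9_627_27 <| jobs_append t9_627_28 <| jobs_append t9_627_29 <| jobs_append t9_627_30 <| jobs_append t9_627_31 <| jobs_append t9_627_32 <| jobs_append t9_627_33 <| jobs_append t9_627_34 <| jobs_append t9_627_35 <| jobs_append t9_627_36 <| jobs_append t9_627_37 <| jobs_append t9_627_38 <| jobs_append t9_627_39 <| jobs_append t9_627_40 <| jobs_append t9_627_41 <| jobs_append t9_627_42 <| jobs_append t9_627_43 <| jobs_append t9_627_44 <| jobs_append t9_627_45 <| jobs_append t9_627_46 <| jobs_append t9_627_47 <| jobs_append t9_627_48 <| jobs_append t9_627_49 <| jobs_append t9_627_50 <| jobs_append t9_627_51 <| jobs_append t9_627_52 <| jobs_append t9_627_53 <| jobs_append t9_627_54 <| jobs_append t9_627_55 <| jobs_append t9_627_56 <| jobs_append t9_627_57 <| jobs_append t9_627_58 <| jobs_append t9_627_59 <| jobs_append t9_627_60 <| jobs_append t9_627_61 <| jobs_append t9_627_62 <| jobs_append t9_627_63 <| List.forall_mem_nil _) (by decide +kernel)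

noncomputable def j9_628_0 : List Job := [
  ⟨62, 0x46437180d44427100942e15098440e0501, 0, 13, 0x0, []⟩]

theorem t9_628_0 : jobs 8 S9 b8_628 j9_628_0 = true := by decide +kernel

noncomputable def j9_628_1 : List Job := [
  ⟨61, 0x46437180d44427100942e15098440e0501, 0, 3, 0x0, []⟩]

theorem t9_628_1 : jobs 8 S9 b8_628 j9_628_1 = true := by decide +kernel

noncomputable def j9_628_2 : List Job := [
  ⟨47, 0x46437180d44427100942e15098440e0501, 0, 2, 0x201000401, []⟩]

theorem t9_628_2 : jobs 8 S9 b8_628 j9_628_2 = true := by decide +kernel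

noncomputable def j9_628_3 : List Job := [
  ⟨46, 0x46437180d44427100942e15098440e0501, 0, 16, 0x0, []⟩]

theorem t9_628_3 : jobs 8 S9 b8_628 j9_628_3 = true := by decide +kernel

noncomputable def j9_628_4 : List Job := [
  ⟨45, 0x46437180d44427100942e15098440e0501, 0, 3, 0x0, []⟩]

theorem t9_628_4 : jobs 8 S9 b8_628 j9_628_4 = true := by decide +kernel

noncomputable def j9_628_5 : List Job := [
  ⟨33, 0x4e477381d4c46730194a457281548447201146437180d44427100942e15098440e0501, 0, 13, 0x0, []⟩]

theorem t9_628_5 : jobs 8 S9 b8_628 j9_628_5 = true := by decide +kernel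

noncomputable def j9_628_6 : List Job := [
  ⟨32, 0x4e477381d4c46730194a457281548447201146437180d44427100942e15098440e0501, 0, 3, 0x201000401000601, []⟩]

theorem t9_628_6 : jobs 8 S9 b8_628 j9_628_6 = true := by decide +kernel

noncomputable def j9_628_7 : List Job := [
  ⟨31, 0x4703b1a0dc582f1008c301b0a05c180f01, 0, 38, 0x601000802001401001601002001002401002e01003002003801003a01003c01004401004801, []⟩]

theorem t9_628_7 : jobs 8 S9 b8_628 j9_628_7 = true := by decide +kernel

noncomputable def j9_628_8 : List Job := [
  ⟨30, 0x4703b1a0dc582f11884301b0a05c180f01, 0, 54, 0x601000a01001601001a01002601002a01003801003c01003e01004601004e01005401005c01006401, []⟩]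

theorem t9_628_8 : jobs 8 S9 b8_628 j9_628_8 = true := by decide +kernel

noncomputable def j9_628_9 : List Job := [
  ⟨29, 0x4783f180cc582f1008c381f09844180f01, 0, 62, 0x0, []⟩]

theorem t9_628_9 : jobs 8 S9 b8_628 j9_628_9 = true := by decide +kernel

noncomputable def j9_628_10 : List Job := [
  ⟨28, 0x4783f180cc582f1008c381f09844180f01, 0, 54, 0x0, []⟩]

theorem t9_628_10 : jobs 8 S9 b8_628 j9_628_10 = true := by decide +kernel

noncomputable def j9_628_11 : List Job := [
  ⟨27, 0x4783f198c4582f11884381f09844180f01, 0, 38, 0x0, []⟩]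

theorem t9_628_11 : jobs 8 S9 b8_628 j9_628_11 = true := by decide +kernel

noncomputable def j9_628_12 : List Job := [
  ⟨26, 0x4783f198c4582f11884381f09844180f01, 0, 38, 0x0, []⟩]

theorem t9_628_12 : jobs 8 S9 b8_628 j9_628_12 = true := by decide +kernel

noncomputable def j9_628_13 : List Job := [
  ⟨25, 0x4783f1a0dc502b1008c381f0a05c160901, 0, 15, 0x601000801001401001a01001c01, []⟩]

theorem t9_628_13 : jobs 8 S9 b8_628 j9_628_13 = true := by decide +kernel

noncomputable def j9_628_14 : List Job := [
  ⟨24, 0x4783f1a0dc502b1008c381f0a05c160901, 0, 17, 0x601000801001401001c01001e01002201, []⟩]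

theorem t9_628_14 : jobs 8 S9 b8_628 j9_628_14 = true := by decide +kernel

noncomputable def j9_628_15 : List Job := [
  ⟨23, 0x4783f1a0dc502b1008c381f0a05c160901, 0, 22, 0x601000a01001601001e01002601002a01, []⟩]

theorem t9_628_15 : jobs 8 S9 b8_628 j9_628_15 = true := by decide +kernel

noncomputable def j9_628_16 : List Job := [
  ⟨22, 0x4783f1a0dc562911884381f0a05c160901, 0, 18, 0x601000a01001601001e01002201, []⟩]

theorem t9_628_16 : jobs 8 S9 b8_628 j9_628_16 = true := by decide +kernel

noncomputable def j9_628_17 : List Job := [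
  ⟨21, 0x4783f1a0dc562911884381f0a05c160901, 0, 18, 0x601000a02001601001e01002202, []⟩]

theorem t9_628_17 : jobs 8 S9 b8_628 j9_628_17 = true := by decide +kernel

noncomputable def j9_628_18 : List Job := [
  ⟨20, 0x4703b180cc502b1008c361909844160901, 0, 24, 0x0, []⟩]

theorem t9_628_18 : jobs 8 S9 b8_628 j9_628_18 = true := by decide +kernel

noncomputable def j9_628_19 : List Job := [
  ⟨19, 0x4703b180cc502b1008c361909844160901, 0, 28, 0x0, []⟩]

theorem t9_628_19 : jobs 8 S9 b8_628 j9_628_19 = true := by decide +kernel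

noncomputable def j9_628_20 : List Job := [
  ⟨18, 0x4703b180cc502b1008c361909844160901, 0, 15, 0x0, []⟩]

theorem t9_628_20 : jobs 8 S9 b8_628 j9_628_20 = true := by decide +kernel

noncomputable def j9_628_21 : List Job := [
  ⟨17, 0x4703b180cc502b1008c361909844160901, 0, 15, 0x0, []⟩]

theorem t9_628_21 : jobs 8 S9 b8_628 j9_628_21 = true := by decide +kernel

noncomputable def j9_628_22 : List Job := [
  ⟨16, 0x4703b180cc502b1008c361909844160901, 0, 15, 0x0, []⟩]

theorem t9_628_22 : jobs 8 S9 b8_628 j9_628_22 = true := by decide +kernel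

noncomputable def j9_628_23 : List Job := [
  ⟨15, 0x4703b180cc502b1008c361909844160901, 0, 15, 0x0, []⟩]

theorem t9_628_23 : jobs 8 S9 b8_628 j9_628_23 = true := by decide +kernel

noncomputable def j9_628_24 : List Job := [
  ⟨14, 0x4703b180cc502b1008c361909844160901, 0, 15, 0x0, []⟩]

theorem t9_628_24 : jobs 8 S9 b8_628 j9_628_24 = true := by decide +kernel

noncomputable def j9_628_25 : List Job := [
  ⟨13, 0x4703b180cc502b1008c361909844160901, 0, 15, 0x0, []⟩]

theorem t9_628_25 : jobs 8 S9 b8_628 j9_628_25 = true := by decide +kernel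

noncomputable def j9_628_26 : List Job := [
  ⟨12, 0x47639198c4562911884361909844160901, 0, 19, 0x0, []⟩]

theorem t9_628_26 : jobs 8 S9 b8_628 j9_628_26 = true := by decide +kernel

noncomputable def j9_628_27 : List Job := [
  ⟨11, 0x47639198c4562911884361909844160901, 0, 36, 0x1e01002401002801002e01003801004001004601, []⟩]

theorem t9_628_27 : jobs 8 S9 b8_628 j9_628_27 = true := by decide +kernel

noncomputable def j9_628_28 : List Job := [
  ⟨10, 0x47639198c4562911884361909844160901, 0, 13, 0x0, []⟩]

theorem t9_628_28 : jobs 8 S9 b8_628 j9_628_28 = true := by decide +kernel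

noncomputable def j9_628_29 : List Job := [
  ⟨9, 0x47639198c4562911884361909844160901, 0, 13, 0x0, []⟩]

theorem t9_628_29 : jobs 8 S9 b8_628 j9_628_29 = true := by decide +kernel

noncomputable def j9_628_30 : List Job := [
  ⟨8, 0x4783f1c0ec48271008c381f0c06c0e0501, 0, 26, 0x0, []⟩]

theorem t9_628_30 : jobs 8 S9 b8_628 j9_628_30 = true := by decide +kernel

noncomputable def j9_628_31 : List Job := [
  ⟨7, 0x4783f1c0ec48271008c381f0c06c0e0501, 0, 24, 0x0, []⟩]

theorem t9_628_31 : jobs 8 S9 b8_628 j9_628_31 = true := by decide +kernel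

noncomputable def j9_628_32 : List Job := [
  ⟨6, 0x4783f1c0ec4e2511884381f0c06c0e0501, 0, 24, 0x0, []⟩]

theorem t9_628_32 : jobs 8 S9 b8_628 j9_628_32 = true := by decide +kernel

noncomputable def j9_628_33 : List Job := [
  ⟨5, 0x46837180cc48271008c2e15098440e0501, 0, 26, 0x0, []⟩]

theorem t9_628_33 : jobs 8 S9 b8_628 j9_628_33 = true := by decide +kernel

noncomputable def j9_628_34 : List Job := [
  ⟨4, 0x46837180cc48271008c2e15098440e0501, 0, 21, 0x401000a01001001001601002601, []⟩]

theorem t9_628_34 : jobs 8 S9 b8_628 j9_628_34 = true := by decide +kernel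

noncomputable def j9_628_35 : List Job := [
  ⟨3, 0x46837180cc48271008c2e15098440e0501, 0, 21, 0x401000a01001001001601002601, []⟩]

theorem t9_628_35 : jobs 8 S9 b8_628 j9_628_35 = true := by decide +kernel

noncomputable def j9_628_36 : List Job := [
  ⟨2, 0x46837180cc48271008c2e15098440e0501, 0, 18, 0x401000a01001001001601002001, []⟩]

theorem t9_628_36 : jobs 8 S9 b8_628 j9_628_36 = true := by decide +kernel

noncomputable def j9_628_37 : List Job := [
  ⟨1, 0x46837180cc48271008c2e15098440e0501, 0, 19, 0x401000a01000e01001401001e01002401, []⟩]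

theorem t9_628_37 : jobs 8 S9 b8_628 j9_628_37 = true := by decide +kernel

noncomputable def j9_628_38 : List Job := [
  ⟨0, 0x46837180cc48271008c2e15098440e0501, 0, 26, 0x0, []⟩]

theorem t9_628_38 : jobs 8 S9 b8_628 j9_628_38 = true := by decide +kernel

theorem d9_628 : Dn 8 S9 b8_628 := dn_of (Js := j9_628_0 ++ (j9_628_1 ++ (j9_628_2 ++ (j9_628_3 ++ (j9_628_4 ++ (j9_628_5 ++ (j9_628_6 ++ (j9_628_7 ++ (j9_628_8 ++ (j9_628_9 ++ (j9_628_10 ++ (j9_628_11 ++ (j9_628_12 ++ (j9_628_13 ++ (j9_628_14 ++ (j9_628_15 ++ (j9_628_16 ++ (j9_628_17 ++ (j9_628_18 ++ (j9_628_19 ++ (j9_628_20 ++ (j9_628_21 ++ (j9_628_22 ++ (j9_628_23 ++ (j9_628_24 ++ (j9_628_25 ++ (j9_628_26 ++ (j9_628_27 ++ (j9_628_28 ++ (j9_628_29 ++ (j9_628_30 ++ (j9_628_31 ++ (j9_628_32 ++ (j9_628_33 ++ (j9_628_34 ++ (j9_628_35 ++ (j9_628_36 ++ (j9_628_37 ++ (j9_628_38 ++ [])))))))))))))))))))))))))))))))))))))))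
  (jobs_append t9_628_0 <| jobs_append t9_628_1 <| jobs_append t9_628_2 <| jobs_append t9_628_3 <| jobs_append t9_628_4 <| jobs_append t9_628_5 <| jobs_append t9_628_6 <| jobs_append t9_628_7 <| jobs_append t9_628_8 <| jobs_append t9_628_9 <| jobs_append t9_628_10 <| jobs_append t9_628_11 <| jobs_append t9_628_12 <| jobs_append t9_628_13 <| jobs_append t9_628_14 <| jobs_append t9_628_15 <| jobs_append t9_628_16 <| jobs_append t9_628_17 <| jobs_append t9_628_18 <| jobs_append t9_628_19 <| jobs_append t9_628_20 <| jobs_append t9_628_21 <| jobs_append t9_628_22 <| jobs_append t9_628_23 <| jobs_append t9_628_24 <| jobs_append t9_628_25 <| jobs_append t9_628_26 <| jobs_append t9_628_27 <| jobs_append t9_628_28 <| jobs_append t9_628_29 <| jobs_append t9_628_30 <| jobs_append t9_628_31 <| jobs_append t9_628_32 <| jobs_append t9_628_33 <| jobs_append t9_628_34 <| jobs_append t9_628_35 <| jobs_append t9_628_36 <| jobs_append t9_628_37 <| jobs_append t9_628_38 <| List.forall_mem_nil _) (by decide +kernel)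

noncomputable def j9_629_0 : List Job := [
  ⟨63, 0x4703a1e0fc60321a0dc502a160bc40221209c361909844160901, 0, 24, 0x0, []⟩]

theorem t9_629_0 : jobs 8 S9 b8_629 j9_629_0 = true := by decide +kernel

noncomputable def j9_629_1 : List Job := [
  ⟨62, 0x4703a1e0fc60321a0dc502a160bc40221209c361909844160901, 0, 24, 0x0, []⟩]

theorem t9_629_1 : jobs 8 S9 b8_629 j9_629_1 = true := by decide +kernel

noncomputable def j9_629_2 : List Job := [
  ⟨61, 0x4b05a2e17ca0522a15c904a2613c80422211c703a1e0fc60321a0dc502a160bc40221209c361909844160901, 0, 36, 0x0, []⟩]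

theorem t9_629_2 : jobs 8 S9 b8_629 j9_629_2 = true := by decide +kernel

noncomputable def j9_629_3 : List Job := [
  ⟨60, 0x4b05a2e17ca0522a15c904a2613c80422211c703a1e0fc60321a0dc502a160bc40221209c361909844160901, 0, 17, 0x0, []⟩]

theorem t9_629_3 : jobs 8 S9 b8_629 j9_629_3 = true := by decide +kernel

noncomputable def j9_629_4 : List Job := [
  ⟨59, 0x4b05a2e17ca0522a15c904a2613c80422211c703a1e0fc60321a0dc502a160bc40221209c361909844160901, 0, 23, 0x2408002809002c01002e01, []⟩]

theorem t9_629_4 : jobs 8 S9 b8_629 j9_629_4 = true := by decide +kernel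

noncomputable def j9_629_5 : List Job := [
  ⟨58, 0x4b05a2e17ca0522a15c904a2613c80422211c703a1e0fc60321a0dc502a160bc40221209c361909844160901, 0, 17, 0x0, []⟩]

theorem t9_629_5 : jobs 8 S9 b8_629 j9_629_5 = true := by decide +kernel

noncomputable def j9_629_6 : List Job := [
  ⟨57, 0x4b05a2e17ca0522a15c904a2613c80422211c703a1e0fc60321a0dc502a160bc40221209c361909844160901, 0, 43, 0x2408002810002a10002e08003008003410003810003e09004010004209004410004a01004c01004e01005001005201005401005601, []⟩]

theorem t9_629_6 : jobs 8 S9 b8_629 j9_629_6 = true := by decide +kernel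

noncomputable def j9_629_7 : List Job := [
  ⟨56, 0x4b05a2e17c80422211c703a1e0fc40221209c381f0c06c0e0501, 0, 28, 0x0, []⟩]

theorem t9_629_7 : jobs 8 S9 b8_629 j9_629_7 = true := by decide +kernel

noncomputable def j9_629_8 : List Job := [
  ⟨55, 0x4b05a2e17c80422211c703a1e0fc442710094381f0c06c0e0501, 0, 40, 0x202000a02001202001e02002202002602002a02003202003e02004602004a02004e02, []⟩]

theorem t9_629_8 : jobs 8 S9 b8_629 j9_629_8 = true := by decide +kernel

noncomputable def j9_629_9 : List Job := [
  ⟨54, 0x4b05a2e17c844720114703a1e0fc442710094381f0c06c0e0501, 0, 32, 0x202000602000a02000e02001202001602001e02002a02002e02003202003602, []⟩]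

theorem t9_629_9 : jobs 8 S9 b8_629 j9_629_9 = true := by decide +kernel

noncomputable def j9_629_10 : List Job := [
  ⟨53, 0x4a0522a15c80422211c60321a0dc40221209c2e15098440e0501, 0, 23, 0x0, []⟩]

theorem t9_629_10 : jobs 8 S9 b8_629 j9_629_10 = true := by decide +kernel

noncomputable def j9_629_11 : List Job := [
  ⟨52, 0x4a0522a15c80422211c60321a0dc40221209c2e15098440e0501, 0, 23, 0x0, []⟩]

theorem t9_629_11 : jobs 8 S9 b8_629 j9_629_11 = true := by decide +kernel

noncomputable def j9_629_12 : List Job := [
  ⟨51, 0x4a0522a15c80422211c60321a0dc40221209c2e15098440e0501, 0, 24, 0x0, []⟩]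

theorem t9_629_12 : jobs 8 S9 b8_629 j9_629_12 = true := by decide +kernel

noncomputable def j9_629_13 : List Job := [
  ⟨50, 0x4a0522a15c80422211c60321a0dc40221209c2e15098440e0501, 0, 24, 0x0, []⟩]

theorem t9_629_13 : jobs 8 S9 b8_629 j9_629_13 = true := by decide +kernel

noncomputable def j9_629_14 : List Job := [
  ⟨49, 0x4a0522a15c80422211c60321a0dc40221209c2e15098440e0501, 0, 36, 0x0, []⟩]

theorem t9_629_14 : jobs 8 S9 b8_629 j9_629_14 = true := by decide +kernel

noncomputable def j9_629_15 : List Job := [
  ⟨48, 0x4a0522a15c80422211c60321a0dc40221209c2e15098440e0501, 0, 36, 0x0, []⟩]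

theorem t9_629_15 : jobs 8 S9 b8_629 j9_629_15 = true := by decide +kernel

noncomputable def j9_629_16 : List Job := [
  ⟨47, 0x4a0522a15c80422211c60321a0dc40221209c2e15098440e0501, 0, 19, 0x0, []⟩]

theorem t9_629_16 : jobs 8 S9 b8_629 j9_629_16 = true := by decide +kernel

noncomputable def j9_629_17 : List Job := [
  ⟨46, 0x4a0522a15c80422211c60321a0dc40221209c2e15098440e0501, 0, 19, 0x0, []⟩]

theorem t9_629_17 : jobs 8 S9 b8_629 j9_629_17 = true := by decide +kernel

noncomputable def j9_629_18 : List Job := [
  ⟨45, 0x4a0522a15c80422211c6437180d44427100942e15098440e0501, 0, 36, 0x202000802000e02001402001a10001e10002211002610002a02002e02003202003602003a10003e10004211004610, []⟩]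

theorem t9_629_18 : jobs 8 S9 b8_629 j9_629_18 = true := by decide +kernel

noncomputable def j9_629_19 : List Job := [
  ⟨44, 0x4a0522a15c80422211c6437180d44427100942e15098440e0501, 0, 36, 0x202000802000e02001402001a10001e13002213002612002a02002e02003202003602003a10003e10004211004611, []⟩]

theorem t9_629_19 : jobs 8 S9 b8_629 j9_629_19 = true := by decide +kernel

noncomputable def j9_629_20 : List Job := [
  ⟨43, 0x4a0522a15c80422211c6437180d44427100942e15098440e0501, 0, 27, 0x202000802000e02001410001802001c11002002002402002802002c10003010003410, []⟩]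

theorem t9_629_20 : jobs 8 S9 b8_629 j9_629_20 = true := by decide +kernel

noncomputable def j9_629_21 : List Job := [
  ⟨42, 0x4a0522a15c80422211c6437180d44427100942e15098440e0501, 0, 27, 0x202000802000e02001402001813001c11002002002402002802002c10003010003402, []⟩]

theorem t9_629_21 : jobs 8 S9 b8_629 j9_629_21 = true := by decide +kernel

noncomputable def j9_629_22 : List Job := [
  ⟨41, 0x4a457281548447201146437180d44427100942e15098440e0501, 0, 43, 0x2402002810002a02002e10003002003410003810003e02004010004202004410004a01004c01004e01005001005201005401005601, []⟩]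

theorem t9_629_22 : jobs 8 S9 b8_629 j9_629_22 = true := by decide +kernel

noncomputable def j9_629_23 : List Job := [
  ⟨40, 0x4a457281548447201146437180d44427100942e15098440e0501, 0, 24, 0x802000c02000e02001212001402001810001c13002202002402002602002810002e01003001, []⟩]

theorem t9_629_23 : jobs 8 S9 b8_629 j9_629_23 = true := by decide +kernel

noncomputable def j9_629_24 : List Job := [
  ⟨26, 0x46437180d44427100942e15098440e0501, 0, 15, 0x0, []⟩]

theorem t9_629_24 : jobs 8 S9 b8_629 j9_629_24 = true := by decide +kernel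

noncomputable def j9_629_25 : List Job := [
  ⟨25, 0x46437180d44427100942e15098440e0501, 0, 9, 0x0, []⟩]

theorem t9_629_25 : jobs 8 S9 b8_629 j9_629_25 = true := by decide +kernel

noncomputable def j9_629_26 : List Job := [
  ⟨14, 0x46437180d44427100942e15098440e0501, 0, 6, 0x201000401000601000801000a01000c01, []⟩]

theorem t9_629_26 : jobs 8 S9 b8_629 j9_629_26 = true := by decide +kernel

noncomputable def j9_629_27 : List Job := [
  ⟨11, 0x46437180d44427100942e15098440e0501, 0, 15, 0x0, []⟩]

theorem t9_629_27 : jobs 8 S9 b8_629 j9_629_27 = true := by decide +kernel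

noncomputable def j9_629_28 : List Job := [
  ⟨10, 0x46437180d44427100942e15098440e0501, 0, 6, 0x0, []⟩]

theorem t9_629_28 : jobs 8 S9 b8_629 j9_629_28 = true := by decide +kernel

theorem d9_629 : Dn 8 S9 b8_629 := dn_of (Js := j9_629_0 ++ (j9_629_1 ++ (j9_629_2 ++ (j9_629_3 ++ (j9_629_4 ++ (j9_629_5 ++ (j9_629_6 ++ (j9_629_7 ++ (j9_629_8 ++ (j9_629_9 ++ (j9_629_10 ++ (j9_629_11 ++ (j9_629_12 ++ (j9_629_13 ++ (j9_629_14 ++ (j9_629_15 ++ (j9_629_16 ++ (j9_629_17 ++ (j9_629_18 ++ (j9_629_19 ++ (j9_629_20 ++ (j9_629_21 ++ (j9_629_22 ++ (j9_629_23 ++ (j9_629_24 ++ (j9_629_25 ++ (j9_629_26 ++ (j9_629_27 ++ (j9_629_28 ++ [])))))))))))))))))))))))))))))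
  (jobs_append t9_629_0 <| jobs_append t9_629_1 <| jobs_append t9_629_2 <| jobs_append t9_629_3 <| jobs_append t9_629_4 <| jobs_append t9_629_5 <| jobs_append t9_629_6 <| jobs_append t9_629_7 <| jobs_append t9_629_8 <| jobs_append t9_629_9 <| jobs_append t9_629_10 <| jobs_append t9_629_11 <| jobs_append t9_629_12 <| jobs_append t9_629_13 <| jobs_append t9_629_14 <| jobs_append t9_629_15 <| jobs_append t9_629_16 <| jobs_append t9_629_17 <| jobs_append t9_629_18 <| jobs_append t9_629_19 <| jobs_append t9_629_20 <| jobs_append t9_629_21 <| jobs_append t9_629_22 <| jobs_append t9_629_23 <| jobs_append t9_629_24 <| jobs_append t9_629_25 <| jobs_append t9_629_26 <| jobs_append t9_629_27 <| jobs_append t9_629_28 <| List.forall_mem_nil _) (by decide +kernel)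

noncomputable def j9_630_0 : List Job := [
  ⟨58, 0x4d66931984964921904562911884160901, 0, 10, 0x401000a01000e01, []⟩]

theorem t9_630_0 : jobs 8 S9 b8_630 j9_630_0 = true := by decide +kernel

noncomputable def j9_630_1 : List Job := [
  ⟨57, 0x4d66931984964921904562911884160901, 0, 8, 0x401000a01000e01, []⟩]

theorem t9_630_1 : jobs 8 S9 b8_630 j9_630_1 = true := by decide +kernel

noncomputable def j9_630_2 : List Job := [
  ⟨56, 0x45e2d158a44e25118841e0d058240e0501, 0, 14, 0x401000a01000e01001801, []⟩]

theorem t9_630_2 : jobs 8 S9 b8_630 j9_630_2 = true := by decide +kernel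

noncomputable def j9_630_3 : List Job := [
  ⟨47, 0x42e15098440e0501, 0, 10, 0x0, []⟩]

theorem t9_630_3 : jobs 8 S9 b8_630 j9_630_3 = true := by decide +kernel

noncomputable def j9_630_4 : List Job := [
  ⟨46, 0x42e15098440e0501, 0, 2, 0x0, []⟩]

theorem t9_630_4 : jobs 8 S9 b8_630 j9_630_4 = true := by decide +kernel

noncomputable def j9_630_5 : List Job := [
  ⟨37, 0x42e15098440e0501, 0, 10, 0x0, []⟩]

theorem t9_630_5 : jobs 8 S9 b8_630 j9_630_5 = true := by decide +kernel

noncomputable def j9_630_6 : List Job := [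
  ⟨36, 0x42e15098440e0501, 0, 2, 0x0, []⟩]

theorem t9_630_6 : jobs 8 S9 b8_630 j9_630_6 = true := by decide +kernel

noncomputable def j9_630_7 : List Job := [
  ⟨20, 0x4a45f28174844f20134643f180f4442f100b43e1d098441e0d01, 0, 17, 0x0, []⟩]

theorem t9_630_7 : jobs 8 S9 b8_630 j9_630_7 = true := by decide +kernel

noncomputable def j9_630_8 : List Job := [
  ⟨19, 0x4a45d2817c844d2013c643d180fc442d100bc3e1d098441e0d01, 0, 3, 0x0, []⟩]

theorem t9_630_8 : jobs 8 S9 b8_630 j9_630_8 = true := by decide +kernel

noncomputable def j9_630_9 : List Job := [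
  ⟨18, 0x4b05a2e17c80422211c703a1e0fc40221209c301b0a05c180f01, 0, 44, 0x403000803000c03000e03001203001403001603002803003403003a03004203, []⟩]

theorem t9_630_9 : jobs 8 S9 b8_630 j9_630_9 = true := by decide +kernel

noncomputable def j9_630_10 : List Job := [
  ⟨17, 0x4b05a2e17c80422211c703a1e0fc40221209c301b0a05c180f01, 0, 60, 0x403000803000c03001003001403001803004003004403004803004c03005003005403, []⟩]

theorem t9_630_10 : jobs 8 S9 b8_630 j9_630_10 = true := by decide +kernel

noncomputable def j9_630_11 : List Job := [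
  ⟨16, 0x4a0522a15c80422211c60321a0dc40221209c381f09844180f01, 0, 144, 0x203000611000803000c11000e03001210001403001810001a10002a03004210005203006a10007a0300921300a20300a41000a60300a81000aa0300ac1000ae0300b01000b20300c20300d21200e20300f212010203011212, []⟩]

theorem t9_630_11 : jobs 8 S9 b8_630 j9_630_11 = true := by decide +kernel

noncomputable def j9_630_12 : List Job := [
  ⟨15, 0x4a0522a15c80422211c60321a0dc40221209c381f09844180f01, 0, 55, 0x203000603000803000c12000e03001203004003004212004403004612004803004a12, []⟩]

theorem t9_630_12 : jobs 8 S9 b8_630 j9_630_12 = true := by decide +kernel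

noncomputable def j9_630_13 : List Job := [
  ⟨14, 0x4a0522a15c80422211c60321a0dc40221209c381f09844180f01, 0, 55, 0x203000611000803000c11000e03001203004003004210004403004610004803004a10, []⟩]

theorem t9_630_13 : jobs 8 S9 b8_630 j9_630_13 = true := by decide +kernel

noncomputable def j9_630_14 : List Job := [
  ⟨13, 0x4a0522a15c80422211c60321a0dc40221209c381f09844180f01, 0, 55, 0x203000610000803000c10000e03001210004003004210004403004610004803004a10, []⟩]

theorem t9_630_14 : jobs 8 S9 b8_630 j9_630_14 = true := by decide +kernel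

noncomputable def j9_630_15 : List Job := [
  ⟨12, 0x4a0522a15c80422211c60321a0dc40221209c381f09844180f01, 0, 55, 0x203000603000803000c13000e03001210004003004210004403004610004803004a10, []⟩]

theorem t9_630_15 : jobs 8 S9 b8_630 j9_630_15 = true := by decide +kernel

noncomputable def j9_630_16 : List Job := [
  ⟨11, 0x4904a2613c80422211c502a160bc40221209c381f0a05c160901, 0, 36, 0x0, []⟩]

theorem t9_630_16 : jobs 8 S9 b8_630 j9_630_16 = true := by decide +kernel

noncomputable def j9_630_17 : List Job := [
  ⟨10, 0x4904a2613c80422211c502a160bc40221209c381f0a05c160901, 0, 28, 0x0, []⟩]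

theorem t9_630_17 : jobs 8 S9 b8_630 j9_630_17 = true := by decide +kernel

noncomputable def j9_630_18 : List Job := [
  ⟨9, 0x4904a2613c80422211c502a160bc40221209c381f0a05c160901, 0, 28, 0x0, []⟩]

theorem t9_630_18 : jobs 8 S9 b8_630 j9_630_18 = true := by decide +kernel

noncomputable def j9_630_19 : List Job := [
  ⟨8, 0x4361909844160901, 0, 36, 0x0, []⟩]

theorem t9_630_19 : jobs 8 S9 b8_630 j9_630_19 = true := by decide +kernel

noncomputable def j9_630_20 : List Job := [
  ⟨7, 0x4361909844160901, 0, 17, 0x0, []⟩]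

theorem t9_630_20 : jobs 8 S9 b8_630 j9_630_20 = true := by decide +kernel

noncomputable def j9_630_21 : List Job := [
  ⟨6, 0x4361909844160901, 0, 17, 0x0, []⟩]

theorem t9_630_21 : jobs 8 S9 b8_630 j9_630_21 = true := by decide +kernel

noncomputable def j9_630_22 : List Job := [
  ⟨5, 0x4361909844160901, 0, 17, 0x0, []⟩]

theorem t9_630_22 : jobs 8 S9 b8_630 j9_630_22 = true := by decide +kernel

noncomputable def j9_630_23 : List Job := [
  ⟨4, 0x4361909844160901, 0, 17, 0x0, []⟩]

theorem t9_630_23 : jobs 8 S9 b8_630 j9_630_23 = true := by decide +kernel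

noncomputable def j9_630_24 : List Job := [
  ⟨3, 0x4703a1e0fc60321a0dc502a160bc40221209c361909844160901, 0, 36, 0x0, []⟩]

theorem t9_630_24 : jobs 8 S9 b8_630 j9_630_24 = true := by decide +kernel

noncomputable def j9_630_25 : List Job := [
  ⟨2, 0x4703a1e0fc60321a0dc502a160bc40221209c361909844160901, 0, 36, 0x0, []⟩]

theorem t9_630_25 : jobs 8 S9 b8_630 j9_630_25 = true := by decide +kernel

noncomputable def j9_630_26 : List Job := [
  ⟨1, 0x4703a1e0fc60321a0dc502a160bc40221209c361909844160901, 0, 24, 0x0, []⟩]

theorem t9_630_26 : jobs 8 S9 b8_630 j9_630_26 = true := by decide +kernel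

noncomputable def j9_630_27 : List Job := [
  ⟨0, 0x4703a1e0fc60321a0dc502a160bc40221209c361909844160901, 0, 24, 0x0, []⟩]

theorem t9_630_27 : jobs 8 S9 b8_630 j9_630_27 = true := by decide +kernel

theorem d9_630 : Dn 8 S9 b8_630 := dn_of (Js := j9_630_0 ++ (j9_630_1 ++ (j9_630_2 ++ (j9_630_3 ++ (j9_630_4 ++ (j9_630_5 ++ (j9_630_6 ++ (j9_630_7 ++ (j9_630_8 ++ (j9_630_9 ++ (j9_630_10 ++ (j9_630_11 ++ (j9_630_12 ++ (j9_630_13 ++ (j9_630_14 ++ (j9_630_15 ++ (j9_630_16 ++ (j9_630_17 ++ (j9_630_18 ++ (j9_630_19 ++ (j9_630_20 ++ (j9_630_21 ++ (j9_630_22 ++ (j9_630_23 ++ (j9_630_24 ++ (j9_630_25 ++ (j9_630_26 ++ (j9_630_27 ++ []))))))))))))))))))))))))))))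
  (jobs_append t9_630_0 <| jobs_append t9_630_1 <| jobs_append t9_630_2 <| jobs_append t9_630_3 <| jobs_append t9_630_4 <| jobs_append t9_630_5 <| jobs_append t9_630_6 <| jobs_append t9_630_7 <| jobs_append t9_630_8 <| jobs_append t9_630_9 <| jobs_append t9_630_10 <| jobs_append t9_630_11 <| jobs_append t9_630_12 <| jobs_append t9_630_13 <| jobs_append t9_630_14 <| jobs_append t9_630_15 <| jobs_append t9_630_16 <| jobs_append t9_630_17 <| jobs_append t9_630_18 <| jobs_append t9_630_19 <| jobs_append t9_630_20 <| jobs_append t9_630_21 <| jobs_append t9_630_22 <| jobs_append t9_630_23 <| jobs_append t9_630_24 <| jobs_append t9_630_25 <| jobs_append t9_630_26 <| jobs_append t9_630_27 <| List.forall_mem_nil _) (by decide +kernel)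

noncomputable def j9_631_0 : List Job := [
  ⟨59, 0x4e67131984a65121904663111884261101, 0, 10, 0x0, []⟩]

theorem t9_631_0 : jobs 8 S9 b8_631 j9_631_0 = true := by decide +kernel

noncomputable def j9_631_1 : List Job := [
  ⟨58, 0x4e67131984a65121904663111884261101, 0, 3, 0x0, []⟩]

theorem t9_631_1 : jobs 8 S9 b8_631 j9_631_1 = true := by decide +kernel

noncomputable def j9_631_2 : List Job := [
  ⟨40, 0x4e477381d48447201144427100940e0501, 0, 16, 0x0, []⟩]

theorem t9_631_2 : jobs 8 S9 b8_631 j9_631_2 = true := by decide +kernel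

noncomputable def j9_631_3 : List Job := [
  ⟨39, 0x4e477381d48447201144427100940e0501, 0, 5, 0x0, []⟩]

theorem t9_631_3 : jobs 8 S9 b8_631 j9_631_3 = true := by decide +kernel

noncomputable def j9_631_4 : List Job := [
  ⟨27, 0x4c467301948447201144427100940e0501, 0, 13, 0x0, []⟩]

theorem t9_631_4 : jobs 8 S9 b8_631 j9_631_4 = true := by decide +kernel

noncomputable def j9_631_5 : List Job := [
  ⟨26, 0x4c467301948447201144427100940e0501, 0, 11, 0x0, []⟩]

theorem t9_631_5 : jobs 8 S9 b8_631 j9_631_5 = true := by decide +kernel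

noncomputable def j9_631_6 : List Job := [
  ⟨14, 0x4c467301948447201144e25118840e0501, 0, 13, 0x0, []⟩]

theorem t9_631_6 : jobs 8 S9 b8_631 j9_631_6 = true := by decide +kernel

noncomputable def j9_631_7 : List Job := [
  ⟨13, 0x4c467301948447201144e25118840e0501, 0, 11, 0x0, []⟩]

theorem t9_631_7 : jobs 8 S9 b8_631 j9_631_7 = true := by decide +kernel

noncomputable def j9_631_8 : List Job := [
  ⟨5, 0x4c4653019c84452011c4e25118840e0501, 0, 5, 0x201000401000601000801000a01, []⟩]

theorem t9_631_8 : jobs 8 S9 b8_631 j9_631_8 = true := by decide +kernel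

noncomputable def j9_631_9 : List Job := [
  ⟨4, 0x4c467301948447201144e25118840e0501, 0, 10, 0x0, []⟩]

theorem t9_631_9 : jobs 8 S9 b8_631 j9_631_9 = true := by decide +kernel

noncomputable def j9_631_10 : List Job := [
  ⟨3, 0x4c467301948447201144e25118840e0501, 0, 8, 0x0, []⟩]

theorem t9_631_10 : jobs 8 S9 b8_631 j9_631_10 = true := by decide +kernel

theorem d9_631 : Dn 8 S9 b8_631 := dn_of (Js := j9_631_0 ++ (j9_631_1 ++ (j9_631_2 ++ (j9_631_3 ++ (j9_631_4 ++ (j9_631_5 ++ (j9_631_6 ++ (j9_631_7 ++ (j9_631_8 ++ (j9_631_9 ++ (j9_631_10 ++ [])))))))))))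
  (jobs_append t9_631_0 <| jobs_append t9_631_1 <| jobs_append t9_631_2 <| jobs_append t9_631_3 <| jobs_append t9_631_4 <| jobs_append t9_631_5 <| jobs_append t9_631_6 <| jobs_append t9_631_7 <| jobs_append t9_631_8 <| jobs_append t9_631_9 <| jobs_append t9_631_10 <| List.forall_mem_nil _) (by decide +kernel)

noncomputable def j9_632_0 : List Job := [
  ⟨56, 0x47639198c4562911884361909844160901, 0, 8, 0x201000601000a01000e01, []⟩]

theorem t9_632_0 : jobs 8 S9 b8_632 j9_632_0 = true := by decide +kernel

noncomputable def j9_632_1 : List Job := [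
  ⟨55, 0x47639198c4562911884361909844160901, 0, 16, 0x401000a01001001001601, []⟩]

theorem t9_632_1 : jobs 8 S9 b8_632 j9_632_1 = true := by decide +kernel

noncomputable def j9_632_2 : List Job := [
  ⟨54, 0x47639198c4562911884361909844160901, 0, 6, 0x401000a01, []⟩]

theorem t9_632_2 : jobs 8 S9 b8_632 j9_632_2 = true := by decide +kernel

noncomputable def j9_632_3 : List Job := [
  ⟨53, 0x47639198c4562911884361909844160901, 0, 6, 0x201000801, []⟩]

theorem t9_632_3 : jobs 8 S9 b8_632 j9_632_3 = true := by decide +kernel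

noncomputable def j9_632_4 : List Job := [
  ⟨52, 0x46837180cc48271008c28170804c080701, 0, 18, 0x1201, []⟩]

theorem t9_632_4 : jobs 8 S9 b8_632 j9_632_4 = true := by decide +kernel

noncomputable def j9_632_5 : List Job := [
  ⟨51, 0x46837180cc48271188428170804c080701, 0, 18, 0x0, []⟩]

theorem t9_632_5 : jobs 8 S9 b8_632 j9_632_5 = true := by decide +kernel

noncomputable def j9_632_6 : List Job := [
  ⟨50, 0x4a0522a158b05a2e17c804222118904a2613c783f1c0ec48271008c381f0d864080701, 0, 66, 0x0, []⟩]

theorem t9_632_6 : jobs 8 S9 b8_632 j9_632_6 = true := by decide +kernel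

noncomputable def j9_632_7 : List Job := [
  ⟨49, 0x4a0522a158b05a2e17c804222118904a2613c783f1c0ec48271008c381f0d864080701, 0, 66, 0x0, []⟩]

theorem t9_632_7 : jobs 8 S9 b8_632 j9_632_7 = true := by decide +kernel

noncomputable def j9_632_8 : List Job := [
  ⟨48, 0x4783f1c0ec48271008c381f0d864080701, 0, 50, 0x0, []⟩]

theorem t9_632_8 : jobs 8 S9 b8_632 j9_632_8 = true := by decide +kernel

noncomputable def j9_632_9 : List Job := [
  ⟨47, 0x4e0723a1d8f07a3e1fcc06232198d06a361bca0522a158b05a2e17c804222118904a2613c783f1c0ec48271008c381f0d864080701, 0, 50, 0x0, []⟩]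

theorem t9_632_9 : jobs 8 S9 b8_632 j9_632_9 = true := by decide +kernel

noncomputable def j9_632_10 : List Job := [
  ⟨46, 0x4783f1d8e4482711884381f0d864080701, 0, 50, 0x0, []⟩]

theorem t9_632_10 : jobs 8 S9 b8_632 j9_632_10 = true := by decide +kernel

noncomputable def j9_632_11 : List Job := [
  ⟨45, 0x4e0723a1d8f07a3e1fcc06232198d06a361bca0522a158b05a2e17c804222118904a2613c783f1d8e4482711884381f0d864080701, 0, 50, 0x0, []⟩]

theorem t9_632_11 : jobs 8 S9 b8_632 j9_632_11 = true := by decide +kernel

noncomputable def j9_632_12 : List Job := [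
  ⟨44, 0x4c06232198d06a361bc804222118904a2613c783f1a0dc502b1008c381f0a05c160901, 0, 30, 0x801000c01001401002001002801002c01003801, []⟩]

theorem t9_632_12 : jobs 8 S9 b8_632 j9_632_12 = true := by decide +kernel

noncomputable def j9_632_13 : List Job := [
  ⟨43, 0x4c06232198d06a361bc804222118904a2613c783f1a0dc502b1008c381f0a05c160901, 0, 30, 0x801000c01001401002001002801002c01003801, []⟩]

theorem t9_632_13 : jobs 8 S9 b8_632 j9_632_13 = true := by decide +kernel

noncomputable def j9_632_14 : List Job := [
  ⟨42, 0x4c06232198d06a361bc804222118904a2613c783f1a0dc502b1008c381f0a05c160901, 0, 30, 0x801000c01001401002001002801002c01003801, []⟩]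

theorem t9_632_14 : jobs 8 S9 b8_632 j9_632_14 = true := by decide +kernel

noncomputable def j9_632_15 : List Job := [
  ⟨41, 0x4c06232198d06a361bc804222118904a2613c783f1a0dc562911884381f0a05c160901, 0, 30, 0x801000c01001401002001002801002c01003801, []⟩]

theorem t9_632_15 : jobs 8 S9 b8_632 j9_632_15 = true := by decide +kernel

noncomputable def j9_632_16 : List Job := [
  ⟨40, 0x4c06232198d06a361bc804222118904a2613c6837180cc48271008c28170804c080701, 0, 70, 0x203000603000801000a03000c01000e03001203001401001603001a03001e03002001002201002401002601002a01002e01003001003201003601003801003a01003c01003e01004203004603004803004c03004e01005003005203005401005601005801005a01005c01005e01006201006601006801006a01006c01006e01007001007201007401007801007a01007c01007e01008001008401008801008a01, []⟩]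

theorem t9_632_16 : jobs 8 S9 b8_632 j9_632_16 = true := by decide +kernel

noncomputable def j9_632_17 : List Job := [
  ⟨39, 0x4c06232198d06a361bc804222118904a2613c6837180cc48271188428170804c080701, 0, 70, 0x203000603000801000a03000c01000e03001201001401001601001a01001e01002001002203002401002601002a03002e01003001003203003601003801003a03003c01003e01004203004603004a01004c01004e01005001005203005401005601005801005a01005c03006001006203006401006803006a01006c01006e03007001007203007601007801007a03007c01007e01008203008601008a03008c03, []⟩]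

theorem t9_632_17 : jobs 8 S9 b8_632 j9_632_17 = true := by decide +kernel

noncomputable def j9_632_18 : List Job := [
  ⟨38, 0x4a0522a158b05a2e17c804222118904a2613c703b180cc502b1008c361909844160901, 0, 25, 0x201000801000e01001401002a01, []⟩]

theorem t9_632_18 : jobs 8 S9 b8_632 j9_632_18 = true := by decide +kernel

noncomputable def j9_632_19 : List Job := [
  ⟨37, 0x4a0522a158b05a2e17c804222118904a2613c703b180cc502b1008c361909844160901, 0, 25, 0x201000801000e01001401002a01, []⟩]

theorem t9_632_19 : jobs 8 S9 b8_632 j9_632_19 = true := by decide +kernel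

noncomputable def j9_632_20 : List Job := [
  ⟨36, 0x4a0522a158b05a2e17c804222118904a2613c703b180cc502b1008c361909844160901, 0, 30, 0x201000801000e01001401002a01003001, []⟩]

theorem t9_632_20 : jobs 8 S9 b8_632 j9_632_20 = true := by decide +kernel

noncomputable def j9_632_21 : List Job := [
  ⟨35, 0x4a0522a158b05a2e17c804222118904a2613c703b180cc502b1008c361909844160901, 0, 30, 0x201000801000e01001401002a01003001, []⟩]

theorem t9_632_21 : jobs 8 S9 b8_632 j9_632_21 = true := by decide +kernel

noncomputable def j9_632_22 : List Job := [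
  ⟨34, 0x4a0522a158b05a2e17c804222118904a2613c703b180cc502b1008c361909844160901, 0, 30, 0x201000801000e01001401002a01003001, []⟩]

theorem t9_632_22 : jobs 8 S9 b8_632 j9_632_22 = true := by decide +kernel

noncomputable def j9_632_23 : List Job := [
  ⟨33, 0x4703b180cc502b1008c361909844160901, 0, 21, 0x201000801000e01001401002401, []⟩]

theorem t9_632_23 : jobs 8 S9 b8_632 j9_632_23 = true := by decide +kernel

noncomputable def j9_632_24 : List Job := [
  ⟨32, 0x4e0723a1d8f07a3e1fcc06232198d06a361bca0522a158b05a2e17c804222118904a2613c703b180cc502b1008c361909844160901, 0, 21, 0x201000801000e01001401002401, []⟩]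

theorem t9_632_24 : jobs 8 S9 b8_632 j9_632_24 = true := by decide +kernel

noncomputable def j9_632_25 : List Job := [
  ⟨31, 0x4703b180cc502b1008c361909844160901, 0, 24, 0x201000801000e01001401002201002801, []⟩]

theorem t9_632_25 : jobs 8 S9 b8_632 j9_632_25 = true := by decide +kernel

noncomputable def j9_632_26 : List Job := [
  ⟨30, 0x4e0723a1d8f07a3e1fcc06232198d06a361bca0522a158b05a2e17c804222118904a2613c703b180cc502b1008c361909844160901, 0, 24, 0x201000801000e01001401002201002801, []⟩]

theorem t9_632_26 : jobs 8 S9 b8_632 j9_632_26 = true := by decide +kernel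

noncomputable def j9_632_27 : List Job := [
  ⟨29, 0x4703b180cc502b1008c361909844160901, 0, 21, 0x201000801000e01001401002401, []⟩]

theorem t9_632_27 : jobs 8 S9 b8_632 j9_632_27 = true := by decide +kernel

noncomputable def j9_632_28 : List Job := [
  ⟨28, 0x4e0723a1d8f07a3e1fcc06232198d06a361bca0522a158b05a2e17c804222118904a2613c703b180cc502b1008c361909844160901, 0, 21, 0x201000801000e01001401002401, []⟩]

theorem t9_632_28 : jobs 8 S9 b8_632 j9_632_28 = true := by decide +kernel

noncomputable def j9_632_29 : List Job := [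
  ⟨27, 0x47639198c4562911884361909844160901, 0, 20, 0x201000801000e01001401002201, []⟩]

theorem t9_632_29 : jobs 8 S9 b8_632 j9_632_29 = true := by decide +kernel

noncomputable def j9_632_30 : List Job := [
  ⟨26, 0x47639198c4562911884361909844160901, 0, 20, 0x201000801000e01001401002201, []⟩]

theorem t9_632_30 : jobs 8 S9 b8_632 j9_632_30 = true := by decide +kernel

noncomputable def j9_632_31 : List Job := [
  ⟨25, 0x4e0723a1d8f07a3e1fcc06232198d06a361bca0522a158b05a2e17c804222118904a2613c7639198c4562911884361909844160901, 0, 38, 0x201000801000e01001401002201002a01002c01003001003201003401003801003e01004401, []⟩]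

theorem t9_632_31 : jobs 8 S9 b8_632 j9_632_31 = true := by decide +kernel

noncomputable def j9_632_32 : List Job := [
  ⟨24, 0x4e0723a1d8f07a3e1fcc06232198d06a361bca0522a158b05a2e17c804222118904a2613c7639198c4562911884361909844160901, 0, 47, 0x401000a01001001001601002801002a01002e01003001003801003e01004401004a01005801, []⟩]

theorem t9_632_32 : jobs 8 S9 b8_632 j9_632_32 = true := by decide +kernel

noncomputable def j9_632_33 : List Job := [
  ⟨23, 0x4a0522a158b05a2e17c804222118904a2613c703b1a0dc582f1008c36190b8541e0d01, 0, 28, 0x401000a01001001001601, []⟩]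

theorem t9_632_33 : jobs 8 S9 b8_632 j9_632_33 = true := by decide +kernel

noncomputable def j9_632_34 : List Job := [
  ⟨22, 0x4a0522a158b05a2e17c804222118904a2613c703b1a0dc582f1008c36190b8541e0d01, 0, 28, 0x0, []⟩]

theorem t9_632_34 : jobs 8 S9 b8_632 j9_632_34 = true := by decide +kernel

noncomputable def j9_632_35 : List Job := [
  ⟨21, 0x4a0522a158b05a2e17c804222118904a2613c703b1a0dc582f1008c36190b8541e0d01, 0, 28, 0x0, []⟩]

theorem t9_632_35 : jobs 8 S9 b8_632 j9_632_35 = true := by decide +kernel

noncomputable def j9_632_36 : List Job := [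
  ⟨20, 0x4a0522a158b05a2e17c804222118904a2613c703b1a0dc582f1008c36190b8541e0d01, 0, 24, 0x401000a01001001001601, []⟩]

theorem t9_632_36 : jobs 8 S9 b8_632 j9_632_36 = true := by decide +kernel

noncomputable def j9_632_37 : List Job := [
  ⟨19, 0x4a0522a158b05a2e17c804222118904a2613c703b1a0dc582f1008c36190b8541e0d01, 0, 24, 0x401000a01001001001601, []⟩]

theorem t9_632_37 : jobs 8 S9 b8_632 j9_632_37 = true := by decide +kernel

noncomputable def j9_632_38 : List Job := [
  ⟨18, 0x4703b1a0dc582f1008c36190b8541e0d01, 0, 22, 0x0, []⟩]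

theorem t9_632_38 : jobs 8 S9 b8_632 j9_632_38 = true := by decide +kernel

noncomputable def j9_632_39 : List Job := [
  ⟨17, 0x4e0723a1d8f07a3e1fcc06232198d06a361bca0522a158b05a2e17c804222118904a2613c703b1a0dc582f1008c36190b8541e0d01, 0, 22, 0x0, []⟩]

theorem t9_632_39 : jobs 8 S9 b8_632 j9_632_39 = true := by decide +kernel

noncomputable def j9_632_40 : List Job := [
  ⟨16, 0x4703b1a0dc582f1008c36190b8541e0d01, 0, 20, 0x401000a01001001001601, []⟩]

theorem t9_632_40 : jobs 8 S9 b8_632 j9_632_40 = true := by decide +kernel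

noncomputable def j9_632_41 : List Job := [
  ⟨15, 0x4e0723a1d8f07a3e1fcc06232198d06a361bca0522a158b05a2e17c804222118904a2613c703b1a0dc582f1008c36190b8541e0d01, 0, 20, 0x401000a01001001001601, []⟩]

theorem t9_632_41 : jobs 8 S9 b8_632 j9_632_41 = true := by decide +kernel

noncomputable def j9_632_42 : List Job := [
  ⟨14, 0x4703b1a0dc582f1008c36190b8541e0d01, 0, 20, 0x401000a01001001001601, []⟩]

theorem t9_632_42 : jobs 8 S9 b8_632 j9_632_42 = true := by decide +kernel

noncomputable def j9_632_43 : List Job := [
  ⟨13, 0x4e0723a1d8f07a3e1fcc06232198d06a361bca0522a158b05a2e17c804222118904a2613c703b1a0dc582f1008c36190b8541e0d01, 0, 20, 0x401000a01001001001601, []⟩]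

theorem t9_632_43 : jobs 8 S9 b8_632 j9_632_43 = true := by decide +kernel

noncomputable def j9_632_44 : List Job := [
  ⟨12, 0x476391b8d45e2d1188436190b8541e0d01, 0, 19, 0x0, []⟩]

theorem t9_632_44 : jobs 8 S9 b8_632 j9_632_44 = true := by decide +kernel

noncomputable def j9_632_45 : List Job := [
  ⟨11, 0x476391b8d45e2d1188436190b8541e0d01, 0, 19, 0x0, []⟩]

theorem t9_632_45 : jobs 8 S9 b8_632 j9_632_45 = true := by decide +kernel

noncomputable def j9_632_46 : List Job := [
  ⟨10, 0x4e0723a1d8f07a3e1fcc06232198d06a361bca0522a158b05a2e17c804222118904a2613c76391b8d45e2d1188436190b8541e0d01, 0, 34, 0x2a01003201003e01, []⟩]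

theorem t9_632_46 : jobs 8 S9 b8_632 j9_632_46 = true := by decide +kernel

noncomputable def j9_632_47 : List Job := [
  ⟨9, 0x4e0723a1d8f07a3e1fcc06232198d06a361bca0522a158b05a2e17c804222118904a2613c76391b8d45e2d1188436190b8541e0d01, 0, 47, 0x2a01003001003601003c01004a01005201005801, []⟩]

theorem t9_632_47 : jobs 8 S9 b8_632 j9_632_47 = true := by decide +kernel

noncomputable def j9_632_48 : List Job := [
  ⟨8, 0x4c06232198d06a361bc804222118904a2613c783f180cc582f1008c381f0804c1e0d01, 0, 30, 0x201000601000a01000e01001201001602001a01001e02002201002601002a01002e02003001003202003601003801003a01003c01, []⟩]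

theorem t9_632_48 : jobs 8 S9 b8_632 j9_632_48 = true := by decide +kernel

noncomputable def j9_632_49 : List Job := [
  ⟨7, 0x4c06232198d06a361bc804222118904a2613c783f180cc582f1008c381f0804c1e0d01, 0, 28, 0x201000601000a01000e01001202001602001a02001e02002201002601002a02002e02003002003401003601003801, []⟩]

theorem t9_632_49 : jobs 8 S9 b8_632 j9_632_49 = true := by decide +kernel

noncomputable def j9_632_50 : List Job := [
  ⟨6, 0x4c06232198d06a361bc804222118904a2613c783f180cc582f1008c381f0804c1e0d01, 0, 28, 0x201000601000a01000e01001202001601001a02001e01002201002601002a02002e01003001003401003601003801, []⟩]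

theorem t9_632_50 : jobs 8 S9 b8_632 j9_632_50 = true := by decide +kernel

noncomputable def j9_632_51 : List Job := [
  ⟨5, 0x4c06232198d06a361bc804222118904a2613c783f180cc5e2d11884381f0804c1e0d01, 0, 27, 0x202000601000a02000e01001201001601001a01001e01002202002601002a01002e01003001003402003602, []⟩]

theorem t9_632_51 : jobs 8 S9 b8_632 j9_632_51 = true := by decide +kernel

noncomputable def j9_632_52 : List Job := [
  ⟨4, 0x4c06232198d06a361bc804222118904a2613c783f180cc5e2d11884381f0804c1e0d01, 0, 27, 0x202000602000a02000e02001202001602001a02001e02002202002602002a02002e02003002003402003602, []⟩]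

theorem t9_632_52 : jobs 8 S9 b8_632 j9_632_52 = true := by decide +kernel

theorem d9_632 : Dn 8 S9 b8_632 := dn_of (Js := j9_632_0 ++ (j9_632_1 ++ (j9_632_2 ++ (j9_632_3 ++ (j9_632_4 ++ (j9_632_5 ++ (j9_632_6 ++ (j9_632_7 ++ (j9_632_8 ++ (j9_632_9 ++ (j9_632_10 ++ (j9_632_11 ++ (j9_632_12 ++ (j9_632_13 ++ (j9_632_14 ++ (j9_632_15 ++ (j9_632_16 ++ (j9_632_17 ++ (j9_632_18 ++ (j9_632_19 ++ (j9_632_20 ++ (j9_632_21 ++ (j9_632_22 ++ (j9_632_23 ++ (j9_632_24 ++ (j9_632_25 ++ (j9_632_26 ++ (j9_632_27 ++ (j9_632_28 ++ (j9_632_29 ++ (j9_632_30 ++ (j9_632_31 ++ (j9_632_32 ++ (j9_632_33 ++ (j9_632_34 ++ (j9_632_35 ++ (j9_632_36 ++ (j9_632_37 ++ (j9_632_38 ++ (j9_632_39 ++ (j9_632_40 ++ (j9_632_41 ++ (j9_632_42 ++ (j9_632_43 ++ (j9_632_44 ++ (j9_632_45 ++ (j9_632_46 ++ (j9_632_47 ++ (j9_632_48 ++ (j9_632_49 ++ (j9_632_50 ++ (j9_632_51 ++ (j9_632_52 ++ [])))))))))))))))))))))))))))))))))))))))))))))))))))))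
  (jobs_append t9_632_0 <| jobs_append t9_632_1 <| jobs_append t9_632_2 <| jobs_append t9_632_3 <| jobs_append t9_632_4 <| jobs_append t9_632_5 <| jobs_append t9_632_6 <| jobs_append t9_632_7 <| jobs_append t9_632_8 <| jobs_append t9_632_9 <| jobs_append t9_632_10 <| jobs_append t9_632_11 <| jobs_append t9_632_12 <| jobs_append t9_632_13 <| jobs_append t9_632_14 <| jobs_append t9_632_15 <| jobs_append t9_632_16 <| jobs_append t9_632_17 <| jobs_append t9_632_18 <| jobs_append t9_632_19 <| jobs_append t9_632_20 <| jobs_append t9_632_21 <| jobs_append t9_632_22 <| jobs_append t9_632_23 <| jobs_append t9_632_24 <| jobs_append t9_632_25 <| jobs_append t9_632_26 <| jobs_append t9_632_27 <| jobs_append t9_632_28 <| jobs_append t9_632_29 <| jobs_append t9_632_30 <| jobs_append t9_632_31 <| jobs_append t9_632_32 <| jobs_append t9_632_33 <| jobs_append t9_632_34 <| jobs_append t9_632_35 <| jobs_append t9_632_36 <| jobs_append t9_632_37 <| jobs_append t9_632_38 <| jobs_append t9_632_39 <| jobs_append t9_632_40 <| jobs_append t9_632_41 <| jobs_append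 t9_632_42 <| jobs_append t9_632_43 <| jobs_append t9_632_44 <| jobs_append t9_632_45 <| jobs_append t9_632_46 <| jobs_append t9_632_47 <| jobs_append t9_632_48 <| jobs_append t9_632_49 <| jobs_append t9_632_50 <| jobs_append t9_632_51 <| jobs_append t9_632_52 <| List.forall_mem_nil _) (by decide +kernel)

noncomputable def j9_633_0 : List Job := [
  ⟨40, 0x4a0522a158b05a2e17c804222118904a2613c703a1e0fc60321a0dc502a160bc40221209c361909844160901, 0, 6, 0x201000801, []⟩]

theorem t9_633_0 : jobs 8 S9 b8_633 j9_633_0 = true := by decide +kernel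

noncomputable def j9_633_1 : List Job := [
  ⟨38, 0x4a0522a158b05a2e17c804222118904a2613c703a1e0fc60321a0dc502a160bc40221209c361909844160901, 0, 8, 0x208000a08, []⟩]

theorem t9_633_1 : jobs 8 S9 b8_633 j9_633_1 = true := by decide +kernel

noncomputable def j9_633_2 : List Job := [
  ⟨36, 0x4a0522a158b05a2e17c804222118904a2613c703a1e0fc60321a0dc502a160bc40221209c361909844160901, 0, 28, 0x210000401000810000a01000e08001210001609001a11001e08002001002418002601002a11002e10003210003608, []⟩]

theorem t9_633_2 : jobs 8 S9 b8_633 j9_633_2 = true := by decide +kernel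

noncomputable def j9_633_3 : List Job := [
  ⟨10, 0x4e0723a1d8f07a3e1fcc06232198d06a361bca45b28164844b20124703a1e0fc60321a0dc502a160bc40221209c361909844160901, 0, 8, 0x200, [(0, ⟨1303, 0x214004100090011e0002001040000c00010040001, 0x185208903c080200c02⟩)]⟩]

theorem t9_633_3 : jobs 8 S9 b8_633 j9_633_3 = true := by decide +kernel

noncomputable def j9_633_4 : List Job := [
  ⟨9, 0x4e0723a1d8f07a3e1fcc06232198d06a361bca45b28164844b20124703a1e0fc60321a0dc502a160bc40221209c361909844160901, 0, 27, 0x210000e00001818002000002800003010, [(19, ⟨1302, 0x224014a00080011c0002001040040c00010040001, 0x1892508038080200c02⟩), (15, ⟨1301, 0x220004a00480011c0042000040040c00010040001, 0x1882508038080200c02⟩), (6, ⟨1300, 0x224014a00080011c0042001040000c00010040001, 0x1892508038080200c02⟩)]⟩]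

theorem t9_633_4 : jobs 8 S9 b8_633 j9_633_4 = true := by decide +kernel

noncomputable def j9_633_5 : List Job := [
  ⟨6, 0x43e1d0d8642e15098441e0d058240e0501, 0, 2, 0x201000401, []⟩]

theorem t9_633_5 : jobs 8 S9 b8_633 j9_633_5 = true := by decide +kernel

noncomputable def j9_633_6 : List Job := [
  ⟨5, 0x43e1d0d8642e15098441e0d058240e0501, 0, 2, 0x201000401, []⟩]

theorem t9_633_6 : jobs 8 S9 b8_633 j9_633_6 = true := by decide +kernel

theorem d9_633 : Dn 8 S9 b8_633 := dn_of (Js := j9_633_0 ++ (j9_633_1 ++ (j9_633_2 ++ (j9_633_3 ++ (j9_633_4 ++ (j9_633_5 ++ (j9_633_6 ++ [])))))))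
  (jobs_append t9_633_0 <| jobs_append t9_633_1 <| jobs_append t9_633_2 <| jobs_append t9_633_3 <| jobs_append t9_633_4 <| jobs_append t9_633_5 <| jobs_append t9_633_6 <| List.forall_mem_nil _) (by decide +kernel)

noncomputable def j9_634_0 : List Job := [
  ⟨56, 0x4e0723a1d8f07a3e1fcc06232198d06a361bca0522a158b05a2e17c804222118904a2613c361909844160901, 0, 4, 0x0, []⟩]

theorem t9_634_0 : jobs 8 S9 b8_634 j9_634_0 = true := by decide +kernel

noncomputable def j9_634_1 : List Job := [
  ⟨52, 0x4e0723a1d8f07a3e1fcc06232198d06a361bca0522a158b05a2e17c804222118904a2613c361909844160901, 0, 24, 0x401000a01001001001c01002201002801, []⟩]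

theorem t9_634_1 : jobs 8 S9 b8_634 j9_634_1 = true := by decide +kernel

noncomputable def j9_634_2 : List Job := [
  ⟨35, 0x4a45b28164844b20124361909844160901, 0, 4, 0x0, []⟩]

theorem t9_634_2 : jobs 8 S9 b8_634 j9_634_2 = true := by decide +kernel

noncomputable def j9_634_3 : List Job := [
  ⟨31, 0x4a45b28164844b20124361909844160901, 0, 19, 0x0, []⟩]

theorem t9_634_3 : jobs 8 S9 b8_634 j9_634_3 = true := by decide +kernel

noncomputable def j9_634_4 : List Job := [
  ⟨3, 0x4a0522a158b05a2e17c804222118904a2613c703a1e0fc60321a0dc502a160bc40221209c361909844160901, 0, 8, 0x208000809, []⟩]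

theorem t9_634_4 : jobs 8 S9 b8_634 j9_634_4 = true := by decide +kernel

noncomputable def j9_634_5 : List Job := [
  ⟨0, 0x4a0522a158b05a2e17c804222118904a2613c703a1e0fc60321a0dc502a160bc40221209c361909844160901, 0, 27, 0x208000809000e08001410001808001c10002008002410002808002c10003008003411, []⟩]

theorem t9_634_5 : jobs 8 S9 b8_634 j9_634_5 = true := by decide +kernel

theorem d9_634 : Dn 8 S9 b8_634 := dn_of (Js := j9_634_0 ++ (j9_634_1 ++ (j9_634_2 ++ (j9_634_3 ++ (j9_634_4 ++ (j9_634_5 ++ []))))))
  (jobs_append t9_634_0 <| jobs_append t9_634_1 <| jobs_append t9_634_2 <| jobs_append t9_634_3 <| jobs_append t9_634_4 <| jobs_append t9_634_5 <| List.forall_mem_nil _) (by decide +kernel)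

noncomputable def j9_635_0 : List Job := [
  ⟨63, 0x4e0723e1fcc062361bca0522c16c80422412c703a1e0fc60321a0dc502a160bc40221209c281709844080701, 0, 154, 0x1c10001e10002011002211002410002611002803002a11002c10002e10004a10004c03004e03005003005210005410005610005810005a03005c03005e10006a0300921200ae1000b61300d61200ee10011610, []⟩]

theorem t9_635_0 : jobs 8 S9 b8_635 j9_635_0 = true := by decide +kernel

noncomputable def j9_635_1 : List Job := [
  ⟨62, 0x4e0723e1fcc062361bca0522c16c80422412c703a1e0fc60321a0dc502a160bc40221209c281709844080701, 0, 160, 0x1c10001e10002013002213002410002613002803002a13002c10002e10004a12004c03004e03005003005203005403005603005810005a03005c03005e10006a1000921200aa1000b61300de1000f610011c10, []⟩]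

theorem t9_635_1 : jobs 8 S9 b8_635 j9_635_1 = true := by decide +kernel

noncomputable def j9_635_2 : List Job := [
  ⟨61, 0x520924a259309a4e27d008242219108a4623ce0723e1fcc062361bca0522c16c80422412c703a1e0fc60321a0dc502a160bc40221209c281709844080701, 0, 154, 0x212000612000812000c12000e10001012001212001410001812001a12003010003410003610003a13003c10003e13004013004213004610004810005e10006a1100921100ae1000b61100d61100ee10011610, []⟩]

theorem t9_635_2 : jobs 8 S9 b8_635 j9_635_2 = true := by decide +kernel

noncomputable def j9_635_3 : List Job := [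
  ⟨60, 0x520924a259309a4e27d008242219108a4623ce0723e1fcc062361bca0522c16c80422412c703a1e0fc60321a0dc502a160bc40221209c281709844080701, 0, 184, 0x210000610000810000c10000e10001010001210001410001810001a10003010003410003610003a11003c10003e11004011004211004610004810005e10006a13009210009a1100ba1000c61300ee1000f613011610013010014410015e10, []⟩]

theorem t9_635_3 : jobs 8 S9 b8_635 j9_635_3 = true := by decide +kernel

noncomputable def j9_635_4 : List Job := [
  ⟨59, 0x5008242219108a4623ce8763c1ecc062361bca8562e17c80422412c703a1e0fc40221209c180f0402c080701, 0, 64, 0x401000c03001a01004403004c01005a03, []⟩]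

theorem t9_635_4 : jobs 8 S9 b8_635 j9_635_4 = true := by decide +kernel

noncomputable def j9_635_5 : List Job := [
  ⟨58, 0x504864523500844423ce8763c1ecc062361bca8562e17c80422412c703a1e0fc40221209c180f0402c080701, 0, 64, 0x403000c01001a03004401004c03005a01, []⟩]

theorem t9_635_5 : jobs 8 S9 b8_635 j9_635_5 = true := by decide +kernel

noncomputable def j9_635_6 : List Job := [
  ⟨57, 0x4e0723e1fcc062361bca0522c16c80422412c60321a0dc40221209c381f0c06c281709844180f0402c080701, 0, 92, 0x3610003a10003e03004203004610004a03004e03005211005610005a10009210009603009a10009e0300a21000a61000aa1000ae1000b20300b603, []⟩]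

theorem t9_635_6 : jobs 8 S9 b8_635 j9_635_6 = true := by decide +kernel

noncomputable def j9_635_7 : List Job := [
  ⟨56, 0x4e0723e1fcc062361bca0522c16c80422412c60321a0dc40221209c381f0c06c281709844180f0402c080701, 0, 92, 0x3610003a10003e01004203004610004a03004e01005213005610005a10009212009603009a12009e0300a20300a61200aa1200ae1000b20300b603, []⟩]

theorem t9_635_7 : jobs 8 S9 b8_635 j9_635_7 = true := by decide +kernel

noncomputable def j9_635_8 : List Job := [
  ⟨55, 0x520924a259309a4e27d008242219108a4623ce0723e1fcc062361bca0522c16c80422412c60321a0dc40221209c381f0c06c281709844180f0402c080701, 0, 92, 0x212000812000e11001412001a10001e12002212002610002c12003212005e10006410006a13007001007610007a01007e13008213008810008e10, []⟩]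

theorem t9_635_8 : jobs 8 S9 b8_635 j9_635_8 = true := by decide +kernel

noncomputable def j9_635_9 : List Job := [
  ⟨54, 0x524964d27520944c27d04864523500844423ce0723e1fcc062361bca0522c16c80422412c60321a0dc40221209c381f0c06c281709844180f0402c080701, 0, 132, 0x210000810000e11001410001a10001e10002210002610002c10003210005e10006410006a11007011007610007a11007e11008211008810008e1000ba1000be1000c01000c41000c61000ca1000cc1000d01000d61100da1100de1100e21000e41100e81000ee1000f811, []⟩]

theorem t9_635_9 : jobs 8 S9 b8_635 j9_635_9 = true := by decide +kernel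

noncomputable def j9_635_10 : List Job := [
  ⟨53, 0x5008242219108a4623cc866341acc062361bc88462613c80422412c703a1e0fc40221209c381f0c06c0e0501, 0, 160, 0x202000403000602000a02000c03000e02002202002403002602002a02002c03002e02, []⟩]

theorem t9_635_10 : jobs 8 S9 b8_635 j9_635_10 = true := by decide +kernel

noncomputable def j9_635_11 : List Job := [
  ⟨52, 0x5008242219108a4623cc866341acc062361bc88462613c80422412c703a1e0fc442710094381f0c06c0e0501, 0, 96, 0x202000403000602000a02000c03000e02002202002403002602002a02002c03002e0200420200520200620200720200820200920200a20200b202, []⟩]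

theorem t9_635_11 : jobs 8 S9 b8_635 j9_635_11 = true := by decide +kernel

noncomputable def j9_635_12 : List Job := [
  ⟨51, 0x5008242219108a4623cc866341acc062361bc88462613c80422412c703a1e0fc442710094381f0c06c0e0501, 0, 96, 0x202000403000602000a02000c03000e02002202002403002602002a02002c03002e0200420200520200620200720200820200920200a20200b202, []⟩]

theorem t9_635_12 : jobs 8 S9 b8_635 j9_635_12 = true := by decide +kernel

noncomputable def j9_635_13 : List Job := [
  ⟨50, 0x4a8562e17ca0522c16c88462613c80422412c60321a0dc40221209c2e15098440e0501, 0, 92, 0x202000401000602000802000a01000c10000e03001003001203001411001602001801001a02001c02001e01002011002203002410002603002810, []⟩]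

theorem t9_635_13 : jobs 8 S9 b8_635 j9_635_13 = true := by decide +kernel

noncomputable def j9_635_14 : List Job := [
  ⟨49, 0x4a8562e17ca0522c16c88462613c80422412c60321a0dc40221209c2e15098440e0501, 0, 92, 0x212000401000612000812000a01000c12000e03001010001213001402001602001801001a13001c13001e01002002002203002410002612002812, []⟩]

theorem t9_635_14 : jobs 8 S9 b8_635 j9_635_14 = true := by decide +kernel

noncomputable def j9_635_15 : List Job := [
  ⟨48, 0x520924a259309a4e27d008242219108a4623ca8562e17ca0522c16c88462613c80422412c60321a0dc40221209c2e15098440e0501, 0, 92, 0x212000610000812000c12001613001a10001c13002002, []⟩]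

theorem t9_635_15 : jobs 8 S9 b8_635 j9_635_15 = true := by decide +kernel

noncomputable def j9_635_16 : List Job := [
  ⟨47, 0x520924a259309a4e27d008242219108a4623ca8562e17ca0522c16c88462613c80422412c60321a0dc40221209c2e15098440e0501, 0, 92, 0x210000602000810000c10001611001a02001c11002011, []⟩]

theorem t9_635_16 : jobs 8 S9 b8_635 j9_635_16 = true := by decide +kernel

noncomputable def j9_635_17 : List Job := [
  ⟨46, 0x4a8562e17ca0522c16c88462613c80422412c60321a0dc40221209c2e15098440e0501, 0, 92, 0x202000401000612000812000a01000c10000e03001011001212001402001602001801001a12001c12001e01002002002203002410002612002810, []⟩]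

theorem t9_635_17 : jobs 8 S9 b8_635 j9_635_17 = true := by decide +kernel

noncomputable def j9_635_18 : List Job := [
  ⟨45, 0x4a8562e17ca0522c16c88462613c80422412c60321a0dc40221209c2e15098440e0501, 0, 92, 0x210000401000612000802000a01000c10000e10001002001203001413001610001801001a02001c02001e01002010002210002412002603002812, []⟩]

theorem t9_635_18 : jobs 8 S9 b8_635 j9_635_18 = true := by decide +kernel

noncomputable def j9_635_19 : List Job := [
  ⟨44, 0x520924a259309a4e27d008242219108a4623ca8562e17ca0522c16c88462613c80422412c60321a0dc40221209c2e15098440e0501, 0, 92, 0x210000602000812000c12001610001a02001c13002013, []⟩]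

theorem t9_635_19 : jobs 8 S9 b8_635 j9_635_19 = true := by decide +kernel

noncomputable def j9_635_20 : List Job := [
  ⟨43, 0x520924a259309a4e27d008242219108a4623ca8562e17ca0522c16c88462613c80422412c60321a0dc40221209c2e15098440e0501, 0, 92, 0x210000610000812000c02001611001a11001c12002002, []⟩]

theorem t9_635_20 : jobs 8 S9 b8_635 j9_635_20 = true := by decide +kernel

noncomputable def j9_635_21 : List Job := [
  ⟨42, 0x460321a0dc40221209c2e15098440e0501, 0, 92, 0x212000401000610000812000a01000c12000e03001010001213001403001602001801001a10001c13001e01002002002203002410002612002812, []⟩]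

theorem t9_635_21 : jobs 8 S9 b8_635 j9_635_21 = true := by decide +kernel

noncomputable def j9_635_22 : List Job := [
  ⟨41, 0x520924a259309a4e27d008242219108a4623c60321a0dc40221209c2e15098440e0501, 0, 92, 0x210000602000810000c12001611001a02001c11002012, []⟩]

theorem t9_635_22 : jobs 8 S9 b8_635 j9_635_22 = true := by decide +kernel

noncomputable def j9_635_23 : List Job := [
  ⟨40, 0x4e8763c1ece0723e1fcc866341acc062361bca8562e17ca0522c16c88462613c80422412c60321a0dc40221209c2e15098440e0501, 0, 92, 0x202000401000612000812000a01000c02000e03001013001213001402001602001801001a13001c13001e01002002002203002412002612002812, []⟩]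

theorem t9_635_23 : jobs 8 S9 b8_635 j9_635_23 = true := by decide +kernel

noncomputable def j9_635_24 : List Job := [
  ⟨39, 0x520924a259309a4e27d008242219108a4623ce8763c1ece0723e1fcc866341acc062361bca8562e17ca0522c16c88462613c80422412c60321a0dc40221209c2e15098440e0501, 0, 92, 0x212000610000810000c10001612001a02001c11002011, []⟩]

theorem t9_635_24 : jobs 8 S9 b8_635 j9_635_24 = true := by decide +kernel

noncomputable def j9_635_25 : List Job := [
  ⟨38, 0x46437180d44427100942e15098440e0501, 0, 56, 0x210000401000610000812000a01000c10000e03001011001212001403001602001801001a11001c12001e01002002002210002410002612002802002a10003012003413003a11003e12004410004812004e03005212005610005a11005e03006210006612006a13006e02, []⟩]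

theorem t9_635_25 : jobs 8 S9 b8_635 j9_635_25 = true := by decide +kernel

noncomputable def j9_635_26 : List Job := [
  ⟨37, 0x46437180d44427100942e15098440e0501, 0, 56, 0x210000401000612000802000a01000c12000e10001002001203001410001610001801001a02001c02001e01002013002210002412002603002810002a12003010003413003a11003e13004403004813004e11005210005610005a02005e11006210006610006a11006e02, []⟩]

theorem t9_635_26 : jobs 8 S9 b8_635 j9_635_26 = true := by decide +kernel

noncomputable def j9_635_27 : List Job := [
  ⟨36, 0x520924a259309a4e27d008242219108a4623c6437180d44427100942e15098440e0501, 0, 56, 0x210000602000812000c02000e13001213001610001a02001c13002002002212002612002a02003010003411003a11003e13004402004813004e11005210005610005a02005e11006202006610006a12006e03, []⟩]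

theorem t9_635_27 : jobs 8 S9 b8_635 j9_635_27 = true := by decide +kernel

noncomputable def j9_635_28 : List Job := [
  ⟨35, 0x520924a259309a4e27d008242219108a4623c6437180d44427100942e15098440e0501, 0, 56, 0x210000610000812000c10000e10001212001610001a11001c12002002002210002612002a10003012003413003a11003e12004402004812004e03005212005610005a11005e13006213006603006a02006e13, []⟩]

theorem t9_635_28 : jobs 8 S9 b8_635 j9_635_28 = true := by decide +kernel

noncomputable def j9_635_29 : List Job := [
  ⟨34, 0x4e8763c1ece0723e1fcc866341acc062361bca8562e17ca0522c16c88462613c80422412c6437180d44427100942e15098440e0501, 0, 56, 0x210000401000612000810000a01000c02000e11001011001211001403001611001801001a12001c11001e01002002002210002410002610002810002a10003411003e10004811005210005a11006211006a10, []⟩]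

theorem t9_635_29 : jobs 8 S9 b8_635 j9_635_29 = true := by decide +kernel

noncomputable def j9_635_30 : List Job := [
  ⟨33, 0x4e8763c1ece0723e1fcc866341acc062361bca8562e17ca0522c16c88462613c80422412c6437180d44427100942e15098440e0501, 0, 56, 0x210000401000612000812000a01000c10000e10001002001212001410001610001801001a02001c12001e01002010002210002412002612002810002a10003411003e10004813005210005a11006211006a11, []⟩]

theorem t9_635_30 : jobs 8 S9 b8_635 j9_635_30 = true := by decide +kernel

noncomputable def j9_635_31 : List Job := [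
  ⟨32, 0x520924a259309a4e27d008242219108a4623ce8763c1ece0723e1fcc866341acc062361bca8562e17ca0522c16c88462613c80422412c6437180d44427100942e15098440e0501, 0, 76, 0x210000602000812000c10001610001a02001c12002010002a10003411003e10004810005210005a11006212006a02007200007401007601007800007a01007c01008601008801008a01008c01, [(59, ⟨1320, 0x83001470002d000120000800104001020000100000001, 0x183230b024080200802⟩), (56, ⟨1319, 0x830004500035001180010800106000020010100000001, 0x183230f830080300802⟩)]⟩]

theorem t9_635_31 : jobs 8 S9 b8_635 j9_635_31 = true := by decide +kernel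

noncomputable def j9_635_32 : List Job := [
  ⟨31, 0x520924a259309a4e27d008242219108a4623ce8763c1ece0723e1fcc866341acc062361bca8562e17ca0522c16c88462613c80422412c6437180d44427100942e15098440e0501, 0, 95, 0x210000610000810000c10001611001a11001c11002002002a10003411003e11004811005210005a11006210006a11007210007401007811007a01008411008601008c10009011009a1100a00100a20100a40100a60100ae0100b401, []⟩]

theorem t9_635_32 : jobs 8 S9 b8_635 j9_635_32 = true := by decide +kernel

noncomputable def j9_635_33 : List Job := [
  ⟨25, 0x45e2d158a44e25118841e0d058240e0501, 0, 10, 0x201000401000601000801000a01000c01000e01001001001201001401, []⟩]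

theorem t9_635_33 : jobs 8 S9 b8_635 j9_635_33 = true := by decide +kernel

noncomputable def j9_635_34 : List Job := [
  ⟨18, 0x4e0723a1d8f07a3e1fcc06232198d06a361bca0522a158b05a2e17c804222118904a2613c361909844160901, 0, 4, 0x0, []⟩]

theorem t9_635_34 : jobs 8 S9 b8_635 j9_635_34 = true := by decide +kernel

noncomputable def j9_635_35 : List Job := [
  ⟨14, 0x4e0723a1d8f07a3e1fcc06232198d06a361bca0522a158b05a2e17c804222118904a2613c361909844160901, 0, 19, 0x0, []⟩]

theorem t9_635_35 : jobs 8 S9 b8_635 j9_635_35 = true := by decide +kernel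

theorem d9_635 : Dn 8 S9 b8_635 := dn_of (Js := j9_635_0 ++ (j9_635_1 ++ (j9_635_2 ++ (j9_635_3 ++ (j9_635_4 ++ (j9_635_5 ++ (j9_635_6 ++ (j9_635_7 ++ (j9_635_8 ++ (j9_635_9 ++ (j9_635_10 ++ (j9_635_11 ++ (j9_635_12 ++ (j9_635_13 ++ (j9_635_14 ++ (j9_635_15 ++ (j9_635_16 ++ (j9_635_17 ++ (j9_635_18 ++ (j9_635_19 ++ (j9_635_20 ++ (j9_635_21 ++ (j9_635_22 ++ (j9_635_23 ++ (j9_635_24 ++ (j9_635_25 ++ (j9_635_26 ++ (j9_635_27 ++ (j9_635_28 ++ (j9_635_29 ++ (j9_635_30 ++ (j9_635_31 ++ (j9_635_32 ++ (j9_635_33 ++ (j9_635_34 ++ (j9_635_35 ++ []))))))))))))))))))))))))))))))))))))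
  (jobs_append t9_635_0 <| jobs_append t9_635_1 <| jobs_append t9_635_2 <| jobs_append t9_635_3 <| jobs_append t9_635_4 <| jobs_append t9_635_5 <| jobs_append t9_635_6 <| jobs_append t9_635_7 <| jobs_append t9_635_8 <| jobs_append t9_635_9 <| jobs_append t9_635_10 <| jobs_append t9_635_11 <| jobs_append t9_635_12 <| jobs_append t9_635_13 <| jobs_append t9_635_14 <| jobs_append t9_635_15 <| jobs_append t9_635_16 <| jobs_append t9_635_17 <| jobs_append t9_635_18 <| jobs_append t9_635_19 <| jobs_append t9_635_20 <| jobs_append t9_635_21 <| jobs_append t9_635_22 <| jobs_append t9_635_23 <| jobs_append t9_635_24 <| jobs_append t9_635_25 <| jobs_append t9_635_26 <| jobs_append t9_635_27 <| jobs_append t9_635_28 <| jobs_append t9_635_29 <| jobs_append t9_635_30 <| jobs_append t9_635_31 <| jobs_append t9_635_32 <| jobs_append t9_635_33 <| jobs_append t9_635_34 <| jobs_append t9_635_35 <| List.forall_mem_nil _) (by decide +kernel)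

noncomputable def j9_636_0 : List Job := [
  ⟨53, 0x520924a259309a4e27d008242219108a4623c643b180e4442b100a4361909844160901, 0, 8, 0x401000a01, []⟩]

theorem t9_636_0 : jobs 8 S9 b8_636 j9_636_0 = true := by decide +kernel

noncomputable def j9_636_1 : List Job := [
  ⟨52, 0x520924a259309a4e27d008242219108a4623c643b180e4442b100a4361909844160901, 0, 23, 0x401000a01001001, []⟩]

theorem t9_636_1 : jobs 8 S9 b8_636 j9_636_1 = true := by decide +kernel

noncomputable def j9_636_2 : List Job := [
  ⟨34, 0x520924a259309a4e27d008242219108a4623c6439180ec4429100ac361909844160901, 0, 6, 0x201000401000601000801, []⟩]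

theorem t9_636_2 : jobs 8 S9 b8_636 j9_636_2 = true := by decide +kernel

noncomputable def j9_636_3 : List Job := [
  ⟨33, 0x520924a259309a4e27d008242219108a4623c6439180ec4429100ac361909844160901, 0, 6, 0x201000401000601000801, []⟩]

theorem t9_636_3 : jobs 8 S9 b8_636 j9_636_3 = true := by decide +kernel

noncomputable def j9_636_4 : List Job := [
  ⟨30, 0x520924a259309a4e27d008242219108a4623c643b180e4442b100a4361909844160901, 0, 8, 0x201000401000601000801000a01000c01, []⟩]

theorem t9_636_4 : jobs 8 S9 b8_636 j9_636_4 = true := by decide +kernel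

noncomputable def j9_636_5 : List Job := [
  ⟨29, 0x520924a259309a4e27d008242219108a4623c643b180e4442b100a4361909844160901, 0, 23, 0x401000c01001601, []⟩]

theorem t9_636_5 : jobs 8 S9 b8_636 j9_636_5 = true := by decide +kernel

noncomputable def j9_636_6 : List Job := [
  ⟨7, 0x520924a259309a4e27d008242219108a4623ce0723a1d8f07a3e1fcc06232198d06a361bca0522a158b05a2e17c804222118904a2613c643b180e4442b100a4361909844160901, 0, 10, 0x201000401000801000a01, []⟩]

theorem t9_636_6 : jobs 8 S9 b8_636 j9_636_6 = true := by decide +kernel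

noncomputable def j9_636_7 : List Job := [
  ⟨6, 0x520924a259309a4e27d008242219108a4623ce0723a1d8f07a3e1fcc06232198d06a361bca0522a158b05a2e17c804222118904a2613c643b180e4442b100a4361909844160901, 0, 23, 0x401000a01001001, []⟩]

theorem t9_636_7 : jobs 8 S9 b8_636 j9_636_7 = true := by decide +kernel

noncomputable def j9_636_8 : List Job := [
  ⟨5, 0x5008242219108a4623ce8763c1ecc062361bca8562e17c80422412c502a160bc40221209c381f0c06c080701, 0, 160, 0x401000801000c03001003001a01001e01004401004801004c03005003005a01005e0100820200840300900300ae0200c20200c40300d00300ee02010202010403012202012403, []⟩]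

theorem t9_636_8 : jobs 8 S9 b8_636 j9_636_8 = true := by decide +kernel

noncomputable def j9_636_9 : List Job := [
  ⟨4, 0x5008242219108a4623ce8763c1ecc062361bca8562e17c80422412c502a160bc40221209c381f0c06c080701, 0, 160, 0x403000803000c01001001001a03001e03004403004803004c01005001005a03005e03008202008c0300a20200ac0300c20200cc0300e20200ec03010202011202012202013202, []⟩]

theorem t9_636_9 : jobs 8 S9 b8_636 j9_636_9 = true := by decide +kernel

noncomputable def j9_636_10 : List Job := [
  ⟨3, 0x4e8763c1ecc866341aca0522c16c80422412c281709844080701, 0, 154, 0x1c03001e03002003002203002403002603002803002a03002c03002e03004a13004c13004e10005010005210005413005610005813005a13005c10006210006e12007a1000aa1300b01300b81200c21000ea13, []⟩]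

theorem t9_636_10 : jobs 8 S9 b8_636 j9_636_10 = true := by decide +kernel

noncomputable def j9_636_11 : List Job := [
  ⟨2, 0x4e8763c1ecc866341aca0522c16c80422412c281709844080701, 0, 156, 0x1c13001e13002003002213002413002613002803002a03002c13002e13004a13004c13004e12005012005212005413005612005813005a13005c12006213006c0300781200a21000aa0300b40300c01200ea10, []⟩]

theorem t9_636_11 : jobs 8 S9 b8_636 j9_636_11 = true := by decide +kernel

noncomputable def j9_636_12 : List Job := [
  ⟨1, 0x520924a259309a4e27d008242219108a4623ce8763c1ecc866341aca0522c16c80422412c281709844080701, 0, 154, 0x212000612000812000c12000e12001013001213001413001812001a03003003003403003613003a13003c03003e03004003004213004603004813006213006e10007a0200aa1000b00300b81000c21200ea12, []⟩]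

theorem t9_636_12 : jobs 8 S9 b8_636 j9_636_12 = true := by decide +kernel

noncomputable def j9_636_13 : List Job := [
  ⟨0, 0x520924a259309a4e27d008242219108a4623ce8763c1ecc866341aca0522c16c80422412c281709844080701, 0, 164, 0x210000610000810000c10000e10001013001213001413001810001a03003003003403003603003a03003c03003e03004003004203004603004803006210006a12008810008e1300aa1000b21200d01000d613, []⟩]

theorem t9_636_13 : jobs 8 S9 b8_636 j9_636_13 = true := by decide +kernel

theorem d9_636 : Dn 8 S9 b8_636 := dn_of (Js := j9_636_0 ++ (j9_636_1 ++ (j9_636_2 ++ (j9_636_3 ++ (j9_636_4 ++ (j9_636_5 ++ (j9_636_6 ++ (j9_636_7 ++ (j9_636_8 ++ (j9_636_9 ++ (j9_636_10 ++ (j9_636_11 ++ (j9_636_12 ++ (j9_636_13 ++ []))))))))))))))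
  (jobs_append t9_636_0 <| jobs_append t9_636_1 <| jobs_append t9_636_2 <| jobs_append t9_636_3 <| jobs_append t9_636_4 <| jobs_append t9_636_5 <| jobs_append t9_636_6 <| jobs_append t9_636_7 <| jobs_append t9_636_8 <| jobs_append t9_636_9 <| jobs_append t9_636_10 <| jobs_append t9_636_11 <| jobs_append t9_636_12 <| jobs_append t9_636_13 <| List.forall_mem_nil _) (by decide +kernel)

noncomputable def j9_637_0 : List Job := [
  ⟨58, 0x520924a259309a4e27d008242219108a4623c643b180e4442b100a4361909844160901, 0, 8, 0x0, []⟩]

theorem t9_637_0 : jobs 8 S9 b8_637 j9_637_0 = true := by decide +kernel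

noncomputable def j9_637_1 : List Job := [
  ⟨57, 0x520924a259309a4e27d008242219108a4623c643b180e4442b100a4361909844160901, 0, 36, 0x0, []⟩]

theorem t9_637_1 : jobs 8 S9 b8_637 j9_637_1 = true := by decide +kernel

noncomputable def j9_637_2 : List Job := [
  ⟨56, 0x5008242219108a4623cc06232198d06a361bca8562e17c80422412c703a1e0fc40221209c301b0a05c180f01, 0, 64, 0x202000403000601000801000a01000c01000e01001001001202001401001601001801001a01001c01001e01002001002201002401002601002801002a01002c01002e01003001003201003403003601003801003a01003c01003e01004001004202004403004601004801004a01004c01004e01005001005202005401005601005801005a01005c01005e01006001006201006401006601006801006a01006c01006e01007001007201007403007601007801007a01007c01007e01008001, []⟩]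

theorem t9_637_2 : jobs 8 S9 b8_637 j9_637_2 = true := by decide +kernel

noncomputable def j9_637_3 : List Job := [
  ⟨55, 0x5008242219108a4623cc06232198d06a361bca8562e17c80422412c703a1e0fc40221209c301b0a05c180f01, 0, 64, 0x202000401000601000801000a01000c01000e02001001001201001401001601001801001a01001c01001e01002001002201002401002601002801002a01002c03002e01003001003201003401003601003801003a02003c01003e01004001004202004401004601004801004a01004c01004e02005001005201005401005601005801005a01005c01005e01006001006201006401006601006801006a01006c03006e01007001007201007401007601007801007a02007c01007e01008001, []⟩]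

theorem t9_637_3 : jobs 8 S9 b8_637 j9_637_3 = true := by decide +kernel

noncomputable def j9_637_4 : List Job := [
  ⟨54, 0x4a8562e17c88462613c60321a0dc40221209c381f09844180f01, 0, 72, 0x1810003013003813003a10006011007813008013008211, []⟩]

theorem t9_637_4 : jobs 8 S9 b8_637 j9_637_4 = true := by decide +kernel

noncomputable def j9_637_5 : List Job := [
  ⟨53, 0x4a8562e17c88462613c60321a0dc40221209c381f09844180f01, 0, 72, 0x1a03003413004002004203006213007813008002008213, []⟩]

theorem t9_637_5 : jobs 8 S9 b8_637 j9_637_5 = true := by decide +kernel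

noncomputable def j9_637_6 : List Job := [
  ⟨52, 0x520924a259309a4e27d008242219108a4623ca8562e17c88462613c60321a0dc40221209c381f09844180f01, 0, 72, 0x1603002602003803004613005e03006e13008003008e02, []⟩]

theorem t9_637_6 : jobs 8 S9 b8_637 j9_637_6 = true := by decide +kernel

noncomputable def j9_637_7 : List Job := [
  ⟨51, 0x520924a259309a4e27d008242219108a4623ca8562e17c88462613c60321a0dc40221209c381f09844180f01, 0, 72, 0x1a10003413004013004210006211007813008013008211, []⟩]

theorem t9_637_7 : jobs 8 S9 b8_637 j9_637_7 = true := by decide +kernel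

noncomputable def j9_637_8 : List Job := [
  ⟨50, 0x4e0723a1d8f07a3e1fcc06232198d06a361bca0522c16c80422412c60321a0dc40221209c381f09844180f01, 0, 72, 0x210000e02002a03005200005a02007203, [(40, ⟨1378, 0x30401430004c00280042001020001000010000401, 0x3c42206048080101002⟩)]⟩]

theorem t9_637_8 : jobs 8 S9 b8_637 j9_637_8 = true := by decide +kernel

noncomputable def j9_637_9 : List Job := [
  ⟨49, 0x4e0723a1d8f07a3e1fcc06232198d06a361bca0522c16c80422412c60321a0dc40221209c381f09844180f01, 0, 76, 0x200000e02002a03004e00005a10007603, [(38, ⟨1379, 0x20400490008400120002000040000c00010040400, 0x380a448224080200a01⟩), (0, ⟨1375, 0x20400490008400120002000040000c00010040400, 0x380a448224080200a01⟩)]⟩]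

theorem t9_637_9 : jobs 8 S9 b8_637 j9_637_9 = true := by decide +kernel

noncomputable def j9_637_10 : List Job := [
  ⟨48, 0x520924a259309a4e27d008242219108a4623ce0723a1d8f07a3e1fcc06232198d06a361bca0522c16c80422412c60321a0dc40221209c381f09844180f01, 0, 72, 0x200000e10002a12005200005a10007213, [(40, ⟨1382, 0x20000490008400120002000040000c00010040400, 0x3802448224080200a01⟩), (0, ⟨1374, 0x20000490008400120002000040000c00010040400, 0x3802448224080200a01⟩)]⟩]

theorem t9_637_10 : jobs 8 S9 b8_637 j9_637_10 = true := by decide +kernel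

noncomputable def j9_637_11 : List Job := [
  ⟨47, 0x520924a259309a4e27d008242219108a4623ce0723a1d8f07a3e1fcc06232198d06a361bca0522c16c80422412c60321a0dc40221209c381f09844180f01, 0, 92, 0x210000e10003600003e10005e00006a10009210009a10, [(46, ⟨1377, 0x20000490008400120002000040000c00010040400, 0x3802448224080200a01⟩), (26, ⟨1381, 0x20000490008400120002000040000c00010040400, 0x3802448224080200a01⟩)]⟩]

theorem t9_637_11 : jobs 8 S9 b8_637 j9_637_11 = true := by decide +kernel

noncomputable def j9_637_12 : List Job := [
  ⟨46, 0x5008242219108a4623cc06232198d06a361bc88462613c80422412c703a1e0fc40221209c381f0c06c0e0501, 0, 64, 0x201000601000a01000e01001201001601001a01001e01002201002601002a01002e01003201003601003a01003e01004201004601004a01004e01005201005601005a01005e01006201006601006a01006e01007201007601007a01007e01, []⟩]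

theorem t9_637_12 : jobs 8 S9 b8_637 j9_637_12 = true := by decide +kernel

noncomputable def j9_637_13 : List Job := [
  ⟨45, 0x5008242219108a4623cc06232198d06a361bc88462613c80422412c703a1e0fc40221209c381f0c06c0e0501, 0, 64, 0x201000601000a01000e01001201001601001a01001e01002201002601002a01002e01003201003601003a01003e01004201004601004a01004e01005201005601005a01005e01006201006601006a01006e01007201007601007a01007e01, []⟩]

theorem t9_637_13 : jobs 8 S9 b8_637 j9_637_13 = true := by decide +kernel

noncomputable def j9_637_14 : List Job := [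
  ⟨44, 0x5008242219108a4623cc06232198d06a361bc88462613c80422412c703a1e0fc442710094381f0c06c0e0501, 0, 64, 0x202000601000a01000e01001202001601001a01001e01002201002601002a02002e01003201003601003a02003e01004202004601004a01004e01005202005601005a01005e01006201006601006a02006e01007201007601007a02007e01, []⟩]

theorem t9_637_14 : jobs 8 S9 b8_637 j9_637_14 = true := by decide +kernel

noncomputable def j9_637_15 : List Job := [
  ⟨43, 0x5008242219108a4623cc06232198d06a361bc88462613c80422412c703a1e0fc442710094381f0c06c0e0501, 0, 64, 0x202000601000a01000e01001202001601001a01001e01002201002601002a02002e01003201003601003a02003e01004202004601004a01004e01005202005601005a01005e01006201006601006a02006e01007201007601007a02007e01, []⟩]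

theorem t9_637_15 : jobs 8 S9 b8_637 j9_637_15 = true := by decide +kernel

noncomputable def j9_637_16 : List Job := [
  ⟨42, 0x4e0723a1d8f07a3e1fcc06232198d06a361bc60321a0dc40221209c2e15098440e0501, 0, 36, 0x401000a01001001001601, []⟩]

theorem t9_637_16 : jobs 8 S9 b8_637 j9_637_16 = true := by decide +kernel

noncomputable def j9_637_17 : List Job := [
  ⟨41, 0x4e0723a1d8f07a3e1fcc06232198d06a361bc60321a0dc40221209c2e15098440e0501, 0, 36, 0x401000a01001001001601, []⟩]

theorem t9_637_17 : jobs 8 S9 b8_637 j9_637_17 = true := by decide +kernel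

noncomputable def j9_637_18 : List Job := [
  ⟨40, 0x520924a259309a4e27d008242219108a4623ce0723a1d8f07a3e1fcc06232198d06a361bc60321a0dc40221209c2e15098440e0501, 0, 36, 0x401000a01001001001601, []⟩]

theorem t9_637_18 : jobs 8 S9 b8_637 j9_637_18 = true := by decide +kernel

noncomputable def j9_637_19 : List Job := [
  ⟨39, 0x520924a259309a4e27d008242219108a4623ce0723a1d8f07a3e1fcc06232198d06a361bc60321a0dc40221209c2e15098440e0501, 0, 36, 0x401000a01001001001601, []⟩]

theorem t9_637_19 : jobs 8 S9 b8_637 j9_637_19 = true := by decide +kernel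

noncomputable def j9_637_20 : List Job := [
  ⟨38, 0x4a8562e17ca0522c16c88462613c80422412c60321a0dc40221209c2e15098440e0501, 0, 36, 0x401000a01001001001601, []⟩]

theorem t9_637_20 : jobs 8 S9 b8_637 j9_637_20 = true := by decide +kernel

noncomputable def j9_637_21 : List Job := [
  ⟨37, 0x4a8562e17ca0522c16c88462613c80422412c60321a0dc40221209c2e15098440e0501, 0, 36, 0x401000a01001001001601, []⟩]

theorem t9_637_21 : jobs 8 S9 b8_637 j9_637_21 = true := by decide +kernel

noncomputable def j9_637_22 : List Job := [
  ⟨36, 0x520924a259309a4e27d008242219108a4623ca8562e17ca0522c16c88462613c80422412c60321a0dc40221209c2e15098440e0501, 0, 36, 0x401000a01001001001601, []⟩]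

theorem t9_637_22 : jobs 8 S9 b8_637 j9_637_22 = true := by decide +kernel

noncomputable def j9_637_23 : List Job := [
  ⟨35, 0x520924a259309a4e27d008242219108a4623ca8562e17ca0522c16c88462613c80422412c60321a0dc40221209c2e15098440e0501, 0, 36, 0x401000a01001001001601, []⟩]

theorem t9_637_23 : jobs 8 S9 b8_637 j9_637_23 = true := by decide +kernel

noncomputable def j9_637_24 : List Job := [
  ⟨34, 0x4e0723a1d8f07a3e1fcc06232198d06a361bc60321a0dc40221209c2e15098440e0501, 0, 36, 0x401000a01001001001601, []⟩]

theorem t9_637_24 : jobs 8 S9 b8_637 j9_637_24 = true := by decide +kernel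

noncomputable def j9_637_25 : List Job := [
  ⟨33, 0x4e0723a1d8f07a3e1fcc06232198d06a361bc60321a0dc40221209c2e15098440e0501, 0, 36, 0x401000a01001001001601, []⟩]

theorem t9_637_25 : jobs 8 S9 b8_637 j9_637_25 = true := by decide +kernel

noncomputable def j9_637_26 : List Job := [
  ⟨32, 0x520924a259309a4e27d008242219108a4623ce0723a1d8f07a3e1fcc06232198d06a361bc60321a0dc40221209c2e15098440e0501, 0, 36, 0x401000a01001001001601, []⟩]

theorem t9_637_26 : jobs 8 S9 b8_637 j9_637_26 = true := by decide +kernel

noncomputable def j9_637_27 : List Job := [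
  ⟨31, 0x520924a259309a4e27d008242219108a4623ce0723a1d8f07a3e1fcc06232198d06a361bc60321a0dc40221209c2e15098440e0501, 0, 36, 0x401000a01001001001601, []⟩]

theorem t9_637_27 : jobs 8 S9 b8_637 j9_637_27 = true := by decide +kernel

noncomputable def j9_637_28 : List Job := [
  ⟨30, 0x4a8562e17ca0522c16c88462613c80422412c60321a0dc40221209c2e15098440e0501, 0, 36, 0x401000a01001001001601, []⟩]

theorem t9_637_28 : jobs 8 S9 b8_637 j9_637_28 = true := by decide +kernel

noncomputable def j9_637_29 : List Job := [
  ⟨29, 0x4a8562e17ca0522c16c88462613c80422412c60321a0dc40221209c2e15098440e0501, 0, 36, 0x401000a01001001001601, []⟩]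

theorem t9_637_29 : jobs 8 S9 b8_637 j9_637_29 = true := by decide +kernel

noncomputable def j9_637_30 : List Job := [
  ⟨28, 0x520924a259309a4e27d008242219108a4623ca8562e17ca0522c16c88462613c80422412c60321a0dc40221209c2e15098440e0501, 0, 36, 0x401000a01001001001601, []⟩]

theorem t9_637_30 : jobs 8 S9 b8_637 j9_637_30 = true := by decide +kernel

noncomputable def j9_637_31 : List Job := [
  ⟨27, 0x520924a259309a4e27d008242219108a4623ca8562e17ca0522c16c88462613c80422412c60321a0dc40221209c2e15098440e0501, 0, 36, 0x401000a01001001001601, []⟩]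

theorem t9_637_31 : jobs 8 S9 b8_637 j9_637_31 = true := by decide +kernel

noncomputable def j9_637_32 : List Job := [
  ⟨26, 0x460321a0dc40221209c2e15098440e0501, 0, 36, 0x401000a01001001001601, []⟩]

theorem t9_637_32 : jobs 8 S9 b8_637 j9_637_32 = true := by decide +kernel

noncomputable def j9_637_33 : List Job := [
  ⟨25, 0x460321a0dc40221209c2e15098440e0501, 0, 36, 0x401000a01001001001601, []⟩]

theorem t9_637_33 : jobs 8 S9 b8_637 j9_637_33 = true := by decide +kernel

noncomputable def j9_637_34 : List Job := [
  ⟨24, 0x520924a259309a4e27d008242219108a4623c60321a0dc40221209c2e15098440e0501, 0, 36, 0x401000a01001001001601, []⟩]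

theorem t9_637_34 : jobs 8 S9 b8_637 j9_637_34 = true := by decide +kernel

noncomputable def j9_637_35 : List Job := [
  ⟨23, 0x520924a259309a4e27d008242219108a4623c60321a0dc40221209c2e15098440e0501, 0, 36, 0x401000a01001001001601, []⟩]

theorem t9_637_35 : jobs 8 S9 b8_637 j9_637_35 = true := by decide +kernel

noncomputable def j9_637_36 : List Job := [
  ⟨22, 0x4e0723a1d8f07a3e1fcc06232198d06a361bca8562e17ca0522c16c88462613c80422412c60321a0dc40221209c2e15098440e0501, 0, 36, 0x401000a01001001001601, []⟩]

theorem t9_637_36 : jobs 8 S9 b8_637 j9_637_36 = true := by decide +kernel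

noncomputable def j9_637_37 : List Job := [
  ⟨21, 0x4e0723a1d8f07a3e1fcc06232198d06a361bca8562e17ca0522c16c88462613c80422412c60321a0dc40221209c2e15098440e0501, 0, 36, 0x401000a01001001001601, []⟩]

theorem t9_637_37 : jobs 8 S9 b8_637 j9_637_37 = true := by decide +kernel

noncomputable def j9_637_38 : List Job := [
  ⟨20, 0x520924a259309a4e27d008242219108a4623ce0723a1d8f07a3e1fcc06232198d06a361bca8562e17ca0522c16c88462613c80422412c60321a0dc40221209c2e15098440e0501, 0, 36, 0x401000a01001001001601, []⟩]

theorem t9_637_38 : jobs 8 S9 b8_637 j9_637_38 = true := by decide +kernel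

noncomputable def j9_637_39 : List Job := [
  ⟨19, 0x520924a259309a4e27d008242219108a4623ce0723a1d8f07a3e1fcc06232198d06a361bca8562e17ca0522c16c88462613c80422412c60321a0dc40221209c2e15098440e0501, 0, 36, 0x401000a01001001001601, []⟩]

theorem t9_637_39 : jobs 8 S9 b8_637 j9_637_39 = true := by decide +kernel

noncomputable def j9_637_40 : List Job := [
  ⟨18, 0x46437180d44427100942e15098440e0501, 0, 36, 0x210000401000803000a01000e02001001001403001601001a03001e10002211002611002a02002e02003210003602003a02003e11004202004610, []⟩]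

theorem t9_637_40 : jobs 8 S9 b8_637 j9_637_40 = true := by decide +kernel

noncomputable def j9_637_41 : List Job := [
  ⟨17, 0x46437180d44427100942e15098440e0501, 0, 36, 0x212000401000803000a01000e13001001001413001601001a03001e12002203002613002a13002e02003202003602003a02003e02004202004612, []⟩]

theorem t9_637_41 : jobs 8 S9 b8_637 j9_637_41 = true := by decide +kernel

noncomputable def j9_637_42 : List Job := [
  ⟨16, 0x520924a259309a4e27d008242219108a4623c6437180d44427100942e15098440e0501, 0, 36, 0x202000401000802000a01000e13001001001402001601001a02001e12002202002602002a13002e13003202003603003a03003e02004203004612, []⟩]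

theorem t9_637_42 : jobs 8 S9 b8_637 j9_637_42 = true := by decide +kernel

noncomputable def j9_637_43 : List Job := [
  ⟨15, 0x520924a259309a4e27d008242219108a4623c6437180d44427100942e15098440e0501, 0, 36, 0x210000401000802000a01000e02001001001402001601001a02001e10002202002611002a02002e03003210003603003a11003e11004203004610, []⟩]

theorem t9_637_43 : jobs 8 S9 b8_637 j9_637_43 = true := by decide +kernel

noncomputable def j9_637_44 : List Job := [
  ⟨14, 0x4e0723a1d8f07a3e1fcc06232198d06a361bca8562e17ca0522c16c88462613c80422412c6437180d44427100942e15098440e0501, 0, 36, 0x210000401000a01000e00001001001601001e02002602002a00003210003e11004610, [(20, ⟨1382, 0x334004f0004c012d0042001020001000000040400, 0x2c4a706849080101001⟩), (6, ⟨1379, 0x31c014d00464012d0042001020041000000040400, 0x2cca506851080101001⟩)]⟩]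

theorem t9_637_44 : jobs 8 S9 b8_637 j9_637_44 = true := by decide +kernel

noncomputable def j9_637_45 : List Job := [
  ⟨13, 0x4e0723a1d8f07a3e1fcc06232198d06a361bca8562e17ca0522c16c88462613c80422412c6437180d44427100942e15098440e0501, 0, 36, 0x200000401000a01000e00001001001601001e02002613002a00003200003e13004612, [(24, ⟨1382, 0x204004a0049000180042000050000800010000001, 0x1812509030080280802⟩), (20, ⟨1381, 0x20400480008000120002000040000801010000001, 0x1812408024080200802⟩), (6, ⟨1378, 0x31c014c00460012c0042401020041000000040400, 0x2cca506851088101001⟩), (0, ⟨1375, 0x310004f0044801280002400020001400000040400, 0x2cca706248088141001⟩)]⟩]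

theorem t9_637_45 : jobs 8 S9 b8_637 j9_637_45 = true := by decide +kernel

noncomputable def j9_637_46 : List Job := [
  ⟨12, 0x520924a259309a4e27d008242219108a4623ce0723a1d8f07a3e1fcc06232198d06a361bca8562e17ca0522c16c88462613c80422412c6437180d44427100942e15098440e0501, 0, 48, 0x200000401000a01000e00001001001601001e12002613002a00003200003e02004602004a00005a01005c00, [(45, ⟨1380, 0x4000048002400004800040000400004004040000001, 0x1802408024080200802⟩), (36, ⟨1376, 0x4000044002400004800040000500204000040080001, 0x1802208024080280802⟩), (24, ⟨1379, 0x400004e002500006000840000500004000040000001, 0x180270a030080280802⟩), (20, ⟨1378, 0x4000048000400004800040000400004004040000001, 0x1802408024080200802⟩), (6, ⟨1377, 0x400004e002500006000840000500004000040000001, 0x180270a030080280802⟩), (0, ⟨1374, 0x600004a00224004940004800020000a000000080800, 0x2cca644a48088141001⟩)]⟩]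

theorem t9_637_46 : jobs 8 S9 b8_637 j9_637_46 = true := by decide +kernel

noncomputable def j9_637_47 : List Job := [
  ⟨11, 0x520924a259309a4e27d008242219108a4623ce0723a1d8f07a3e1fcc06232198d06a361bca8562e17ca0522c16c88462613c80422412c6437180d44427100942e15098440e0501, 0, 82, 0x210000401000a01000e00001001001601001e10002611002a00003210003e02004602004a10005410005e00006811007200007810008211008811009210009401009610009810009a01009c10, [(56, ⟨1373, 0x4000048000400004800040000400004000040000001, 0x1802408024080200802⟩), (46, ⟨1372, 0x4080148002400004800040010400004000040000001, 0x1812408024080200802⟩), (20, ⟨1375, 0x4000048000400004800040000400004004040000001, 0x1802408024080200802⟩), (6, ⟨1374, 0x4400046002400004000840000500004000040000001, 0x1882308020080280802⟩)]⟩]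

theorem t9_637_47 : jobs 8 S9 b8_637 j9_637_47 = true := by decide +kernel

theorem d9_637 : Dn 8 S9 b8_637 := dn_of (Js := j9_637_0 ++ (j9_637_1 ++ (j9_637_2 ++ (j9_637_3 ++ (j9_637_4 ++ (j9_637_5 ++ (j9_637_6 ++ (j9_637_7 ++ (j9_637_8 ++ (j9_637_9 ++ (j9_637_10 ++ (j9_637_11 ++ (j9_637_12 ++ (j9_637_13 ++ (j9_637_14 ++ (j9_637_15 ++ (j9_637_16 ++ (j9_637_17 ++ (j9_637_18 ++ (j9_637_19 ++ (j9_637_20 ++ (j9_637_21 ++ (j9_637_22 ++ (j9_637_23 ++ (j9_637_24 ++ (j9_637_25 ++ (j9_637_26 ++ (j9_637_27 ++ (j9_637_28 ++ (j9_637_29 ++ (j9_637_30 ++ (j9_637_31 ++ (j9_637_32 ++ (j9_637_33 ++ (j9_637_34 ++ (j9_637_35 ++ (j9_637_36 ++ (j9_637_37 ++ (j9_637_38 ++ (j9_637_39 ++ (j9_637_40 ++ (j9_637_41 ++ (j9_637_42 ++ (j9_637_43 ++ (j9_637_44 ++ (j9_637_45 ++ (j9_637_46 ++ (j9_637_47 ++ []))))))))))))))))))))))))))))))))))))))))))))))))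
  (jobs_append t9_637_0 <| jobs_append t9_637_1 <| jobs_append t9_637_2 <| jobs_append t9_637_3 <| jobs_append t9_637_4 <| jobs_append t9_637_5 <| jobs_append t9_637_6 <| jobs_append t9_637_7 <| jobs_append t9_637_8 <| jobs_append t9_637_9 <| jobs_append t9_637_10 <| jobs_append t9_637_11 <| jobs_append t9_637_12 <| jobs_append t9_637_13 <| jobs_append t9_637_14 <| jobs_append t9_637_15 <| jobs_append t9_637_16 <| jobs_append t9_637_17 <| jobs_append t9_637_18 <| jobs_append t9_637_19 <| jobs_append t9_637_20 <| jobs_append t9_637_21 <| jobs_append t9_637_22 <| jobs_append t9_637_23 <| jobs_append t9_637_24 <| jobs_append t9_637_25 <| jobs_append t9_637_26 <| jobs_append t9_637_27 <| jobs_append t9_637_28 <| jobs_append t9_637_29 <| jobs_append t9_637_30 <| jobs_append t9_637_31 <| jobs_append t9_637_32 <| jobs_append t9_637_33 <| jobs_append t9_637_34 <| jobs_append t9_637_35 <| jobs_append t9_637_36 <| jobs_append t9_637_37 <| jobs_append t9_637_38 <| jobs_append t9_637_39 <| jobs_append t9_637_40 <| jobs_append t9_637_41 <| jobs_append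 t9_637_42 <| jobs_append t9_637_43 <| jobs_append t9_637_44 <| jobs_append t9_637_45 <| jobs_append t9_637_46 <| jobs_append t9_637_47 <| List.forall_mem_nil _) (by decide +kernel)

noncomputable def j9_638_0 : List Job := [
  ⟨63, 0x4a0522a158b05a2e17c804222118904a2613c703a1e0fc60321a0dc502a160bc40221209c361909844160901, 0, 40, 0x401000801000c01001001001c01002001002401002801, []⟩]

theorem t9_638_0 : jobs 8 S9 b8_638 j9_638_0 = true := by decide +kernel

noncomputable def j9_638_1 : List Job := [
  ⟨62, 0x520924a259309a4e27d008242219108a4623ca0522a158b05a2e17c804222118904a2613c703a1e0fc60321a0dc502a160bc40221209c361909844160901, 0, 40, 0x401000801000c01001001001c01002001002401002801, []⟩]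

theorem t9_638_1 : jobs 8 S9 b8_638 j9_638_1 = true := by decide +kernel

noncomputable def j9_638_2 : List Job := [
  ⟨61, 0x520924a259309a4e27d008242219108a4623ca0522a158b05a2e17c804222118904a2613c703a1e0fc60321a0dc502a160bc40221209c361909844160901, 0, 63, 0x401000801000c01001001001c01002001002401002801004210004401004808004a01004e10005211005610005801005c10006009006408006811006c10007001007201007601007801, []⟩]

theorem t9_638_2 : jobs 8 S9 b8_638 j9_638_2 = true := by decide +kernel

noncomputable def j9_638_3 : List Job := [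
  ⟨60, 0x5008242219108a4623c804222118904a2613c703a1e0fc40221209c381f0c06c0e0501, 0, 30, 0x201000601000801000c01000e01001201001401001801001a01001e01002001002401002601002a01002c01003001003201003601003801003c01, []⟩]

theorem t9_638_3 : jobs 8 S9 b8_638 j9_638_3 = true := by decide +kernel

noncomputable def j9_638_4 : List Job := [
  ⟨59, 0x5008242219108a4623c804222118904a2613c703a1e0fc40221209c381f0c06c0e0501, 0, 30, 0x201000601000801000c01000e01001201001401001801001a01001e01002001002401002601002a01002c01003001003201003601003801003c01, []⟩]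

theorem t9_638_4 : jobs 8 S9 b8_638 j9_638_4 = true := by decide +kernel

noncomputable def j9_638_5 : List Job := [
  ⟨58, 0x5008242219108a4623c804222118904a2613c703a1e0fc40221209c381f0c06c0e0501, 0, 30, 0x201000601000801000c01000e01001201001401001801001a01001e01002001002401002601002a01002c01003001003201003601003801003c01, []⟩]

theorem t9_638_5 : jobs 8 S9 b8_638 j9_638_5 = true := by decide +kernel

noncomputable def j9_638_6 : List Job := [
  ⟨57, 0x5008242219108a4623c804222118904a2613c703a1e0fc40221209c381f0c06c0e0501, 0, 30, 0x201000601000801000c01000e01001201001401001801001a01001e01002001002401002601002a01002c01003001003201003601003801003c01, []⟩]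

theorem t9_638_6 : jobs 8 S9 b8_638 j9_638_6 = true := by decide +kernel

noncomputable def j9_638_7 : List Job := [
  ⟨56, 0x5008242219108a4623c804222118904a2613c703a1e0fc40221209c381f0c06c0e0501, 0, 30, 0x201000601000801000c01000e01001201001401001801001a01001e01002001002401002601002a01002c01003001003201003601003801003c01, []⟩]

theorem t9_638_7 : jobs 8 S9 b8_638 j9_638_7 = true := by decide +kernel

noncomputable def j9_638_8 : List Job := [
  ⟨55, 0x5008242219108a4623c804222118904a2613c703a1e0fc40221209c381f0c06c0e0501, 0, 30, 0x201000601000801000c01000e01001201001401001801001a01001e01002001002401002601002a01002c01003001003201003601003801003c01, []⟩]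

theorem t9_638_8 : jobs 8 S9 b8_638 j9_638_8 = true := by decide +kernel

noncomputable def j9_638_9 : List Job := [
  ⟨54, 0x5008242219108a4623c804222118904a2613c743d1c0fc442710094381f0c06c0e0501, 0, 30, 0x202000601000802000c01000e02001201001402001801001a02001e01002002002401002602002a01002c02003001003202003601003802003c01, []⟩]

theorem t9_638_9 : jobs 8 S9 b8_638 j9_638_9 = true := by decide +kernel

noncomputable def j9_638_10 : List Job := [
  ⟨53, 0x5008242219108a4623c804222118904a2613c743d1c0fc442710094381f0c06c0e0501, 0, 30, 0x202000601000802000c01000e02001201001402001801001a02001e01002002002401002602002a01002c02003001003202003601003802003c01, []⟩]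

theorem t9_638_10 : jobs 8 S9 b8_638 j9_638_10 = true := by decide +kernel

noncomputable def j9_638_11 : List Job := [
  ⟨52, 0x460321a0dc40221209c2e15098440e0501, 0, 23, 0x0, []⟩]

theorem t9_638_11 : jobs 8 S9 b8_638 j9_638_11 = true := by decide +kernel

noncomputable def j9_638_12 : List Job := [
  ⟨51, 0x460321a0dc40221209c2e15098440e0501, 0, 23, 0x0, []⟩]

theorem t9_638_12 : jobs 8 S9 b8_638 j9_638_12 = true := by decide +kernel

noncomputable def j9_638_13 : List Job := [
  ⟨50, 0x4a0522a158b05a2e17c804222118904a2613c60321a0dc40221209c2e15098440e0501, 0, 36, 0x0, []⟩]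

theorem t9_638_13 : jobs 8 S9 b8_638 j9_638_13 = true := by decide +kernel

noncomputable def j9_638_14 : List Job := [
  ⟨49, 0x4a0522a158b05a2e17c804222118904a2613c60321a0dc40221209c2e15098440e0501, 0, 36, 0x0, []⟩]

theorem t9_638_14 : jobs 8 S9 b8_638 j9_638_14 = true := by decide +kernel

noncomputable def j9_638_15 : List Job := [
  ⟨48, 0x520924a259309a4e27d008242219108a4623ca0522a158b05a2e17c804222118904a2613c60321a0dc40221209c2e15098440e0501, 0, 23, 0x0, []⟩]

theorem t9_638_15 : jobs 8 S9 b8_638 j9_638_15 = true := by decide +kernel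

noncomputable def j9_638_16 : List Job := [
  ⟨47, 0x520924a259309a4e27d008242219108a4623ca0522a158b05a2e17c804222118904a2613c60321a0dc40221209c2e15098440e0501, 0, 23, 0x0, []⟩]

theorem t9_638_16 : jobs 8 S9 b8_638 j9_638_16 = true := by decide +kernel

noncomputable def j9_638_17 : List Job := [
  ⟨46, 0x460321a0dc40221209c2e15098440e0501, 0, 23, 0x0, []⟩]

theorem t9_638_17 : jobs 8 S9 b8_638 j9_638_17 = true := by decide +kernel

noncomputable def j9_638_18 : List Job := [
  ⟨45, 0x460321a0dc40221209c2e15098440e0501, 0, 23, 0x0, []⟩]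

theorem t9_638_18 : jobs 8 S9 b8_638 j9_638_18 = true := by decide +kernel

noncomputable def j9_638_19 : List Job := [
  ⟨44, 0x4a0522a158b05a2e17c804222118904a2613c60321a0dc40221209c2e15098440e0501, 0, 36, 0x0, []⟩]

theorem t9_638_19 : jobs 8 S9 b8_638 j9_638_19 = true := by decide +kernel

noncomputable def j9_638_20 : List Job := [
  ⟨43, 0x4a0522a158b05a2e17c804222118904a2613c60321a0dc40221209c2e15098440e0501, 0, 36, 0x0, []⟩]

theorem t9_638_20 : jobs 8 S9 b8_638 j9_638_20 = true := by decide +kernel

noncomputable def j9_638_21 : List Job := [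
  ⟨42, 0x520924a259309a4e27d008242219108a4623ca0522a158b05a2e17c804222118904a2613c60321a0dc40221209c2e15098440e0501, 0, 23, 0x0, []⟩]

theorem t9_638_21 : jobs 8 S9 b8_638 j9_638_21 = true := by decide +kernel

noncomputable def j9_638_22 : List Job := [
  ⟨41, 0x520924a259309a4e27d008242219108a4623ca0522a158b05a2e17c804222118904a2613c60321a0dc40221209c2e15098440e0501, 0, 23, 0x0, []⟩]

theorem t9_638_22 : jobs 8 S9 b8_638 j9_638_22 = true := by decide +kernel

noncomputable def j9_638_23 : List Job := [
  ⟨40, 0x460321a0dc40221209c2e15098440e0501, 0, 23, 0x0, []⟩]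

theorem t9_638_23 : jobs 8 S9 b8_638 j9_638_23 = true := by decide +kernel

noncomputable def j9_638_24 : List Job := [
  ⟨39, 0x460321a0dc40221209c2e15098440e0501, 0, 23, 0x0, []⟩]

theorem t9_638_24 : jobs 8 S9 b8_638 j9_638_24 = true := by decide +kernel

noncomputable def j9_638_25 : List Job := [
  ⟨38, 0x4a0522a158b05a2e17c804222118904a2613c60321a0dc40221209c2e15098440e0501, 0, 36, 0x0, []⟩]

theorem t9_638_25 : jobs 8 S9 b8_638 j9_638_25 = true := by decide +kernel

noncomputable def j9_638_26 : List Job := [
  ⟨37, 0x4a0522a158b05a2e17c804222118904a2613c60321a0dc40221209c2e15098440e0501, 0, 36, 0x0, []⟩]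

theorem t9_638_26 : jobs 8 S9 b8_638 j9_638_26 = true := by decide +kernel

noncomputable def j9_638_27 : List Job := [
  ⟨36, 0x520924a259309a4e27d008242219108a4623ca0522a158b05a2e17c804222118904a2613c60321a0dc40221209c2e15098440e0501, 0, 23, 0x0, []⟩]

theorem t9_638_27 : jobs 8 S9 b8_638 j9_638_27 = true := by decide +kernel

noncomputable def j9_638_28 : List Job := [
  ⟨35, 0x520924a259309a4e27d008242219108a4623ca0522a158b05a2e17c804222118904a2613c60321a0dc40221209c2e15098440e0501, 0, 23, 0x0, []⟩]

theorem t9_638_28 : jobs 8 S9 b8_638 j9_638_28 = true := by decide +kernel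

noncomputable def j9_638_29 : List Job := [
  ⟨34, 0x46437180d44427100942e15098440e0501, 0, 23, 0x202000802000e12001211001612001c02002002002402002802002c12, []⟩]

theorem t9_638_29 : jobs 8 S9 b8_638 j9_638_29 = true := by decide +kernel

noncomputable def j9_638_30 : List Job := [
  ⟨33, 0x46437180d44427100942e15098440e0501, 0, 23, 0x210000802000e10001211001610001c10002002002402002813002c12, []⟩]

theorem t9_638_30 : jobs 8 S9 b8_638 j9_638_30 = true := by decide +kernel

noncomputable def j9_638_31 : List Job := [
  ⟨32, 0x4a0522a158b05a2e17c804222118904a2613c6437180d44427100942e15098440e0501, 0, 36, 0x212000802000e12001213001612001c13002212002602002a10002e11003202003611003a02003e11004210004611, []⟩]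

theorem t9_638_31 : jobs 8 S9 b8_638 j9_638_31 = true := by decide +kernel

noncomputable def j9_638_32 : List Job := [
  ⟨31, 0x4a0522a158b05a2e17c804222118904a2613c6437180d44427100942e15098440e0501, 0, 36, 0x202000802000e10001213001610001c13002202002602002a10002e13003202003602003a02003e02004210004613, []⟩]

theorem t9_638_32 : jobs 8 S9 b8_638 j9_638_32 = true := by decide +kernel

noncomputable def j9_638_33 : List Job := [
  ⟨30, 0x520924a259309a4e27d008242219108a4623ca0522a158b05a2e17c804222118904a2613c6437180d44427100942e15098440e0501, 0, 29, 0x202000802000e12001211001612001c02002002002402002802002c10003001003201, []⟩]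

theorem t9_638_33 : jobs 8 S9 b8_638 j9_638_33 = true := by decide +kernel

noncomputable def j9_638_34 : List Job := [
  ⟨29, 0x520924a259309a4e27d008242219108a4623ca0522a158b05a2e17c804222118904a2613c6437180d44427100942e15098440e0501, 0, 63, 0x210000802000e10001211001610001c10002002002402002811002c10003201003601003a01003e01004a01004e01005201005601007201007801, []⟩]

theorem t9_638_34 : jobs 8 S9 b8_638 j9_638_34 = true := by decide +kernel

theorem d9_638 : Dn 8 S9 b8_638 := dn_of (Js := j9_638_0 ++ (j9_638_1 ++ (j9_638_2 ++ (j9_638_3 ++ (j9_638_4 ++ (j9_638_5 ++ (j9_638_6 ++ (j9_638_7 ++ (j9_638_8 ++ (j9_638_9 ++ (j9_638_10 ++ (j9_638_11 ++ (j9_638_12 ++ (j9_638_13 ++ (j9_638_14 ++ (j9_638_15 ++ (j9_638_16 ++ (j9_638_17 ++ (j9_638_18 ++ (j9_638_19 ++ (j9_638_20 ++ (j9_638_21 ++ (j9_638_22 ++ (j9_638_23 ++ (j9_638_24 ++ (j9_638_25 ++ (j9_638_26 ++ (j9_638_27 ++ (j9_638_28 ++ (j9_638_29 ++ (j9_638_30 ++ (j9_638_31 ++ (j9_638_32 ++ (j9_638_33 ++ (j9_638_34 ++ [])))))))))))))))))))))))))))))))))))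
  (jobs_append t9_638_0 <| jobs_append t9_638_1 <| jobs_append t9_638_2 <| jobs_append t9_638_3 <| jobs_append t9_638_4 <| jobs_append t9_638_5 <| jobs_append t9_638_6 <| jobs_append t9_638_7 <| jobs_append t9_638_8 <| jobs_append t9_638_9 <| jobs_append t9_638_10 <| jobs_append t9_638_11 <| jobs_append t9_638_12 <| jobs_append t9_638_13 <| jobs_append t9_638_14 <| jobs_append t9_638_15 <| jobs_append t9_638_16 <| jobs_append t9_638_17 <| jobs_append t9_638_18 <| jobs_append t9_638_19 <| jobs_append t9_638_20 <| jobs_append t9_638_21 <| jobs_append t9_638_22 <| jobs_append t9_638_23 <| jobs_append t9_638_24 <| jobs_append t9_638_25 <| jobs_append t9_638_26 <| jobs_append t9_638_27 <| jobs_append t9_638_28 <| jobs_append t9_638_29 <| jobs_append t9_638_30 <| jobs_append t9_638_31 <| jobs_append t9_638_32 <| jobs_append t9_638_33 <| jobs_append t9_638_34 <| List.forall_mem_nil _) (by decide +kernel)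

end Cfsg.Agent.FS.N.Sw
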