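import Cfsg.Agent.FS.N.Sw.Seg
import Cfsg.Agent.FS.N.G.S9
import Cfsg.Agent.FS.N.G.L.L27
import Cfsg.Agent.FS.N.G.L.L28

/-! The filter on the pairs for the order 512, part 70 (generated; helper52, project FS) -/

set_option autoImplicit false
set_option maxRecDepth 100000
set_option Elab.async false

namespace Cfsg.Agent.FS.N.Sw

open G

noncomputable def j9_675_0 : List Job := [
  ⟨59, 0x64122944aa61329e4fe01028442a21128e47dc0e272399f0fa7e3fd80c262319b0da6e37d44a4592dd40a6582d504844925d008648254c466351b4c064341bc84462513480442413c60321a0dc502a160bc48271188420120a05c100a0603c080701, 0, 54, 0x200000600000a01001000001200002600002a00003400003600005800, [(43, ⟨2035, 0x8f001270005b00110000070000a000030000100000001, 0x18f1a92020070500c02⟩), (26, ⟨2032, 0x85000270004800010000050010b000030010100100001, 0x1881312c20060480c02⟩), (25, ⟨2034, 0x8f000270005b00010000070000a000030000100000001, 0x18f1a92020070500c02⟩), (20, ⟨2033, 0x85000270004800010000050010b000030010100100001, 0x1881312c20060480c02⟩), (18, ⟨2031, 0x85000270004800010000050010b000030010100100001,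 0x1881312c20060480c02⟩), (8, ⟨2028, 0x9f0005100021000100000a00107000030010100000001, 0x19e28884200b0300c02⟩), (7, ⟨2030, 0x8f001270015b00010000070000a000030000100000001, 0x18f1a92020070500c02⟩), (2, ⟨2029, 0x85001270014800010000050010b000030010100100001, 0x1881312c20060480c02⟩), (0, ⟨2027, 0x85001270014800010000050010b000030010100100001, 0x1881312c20060480c02⟩)]⟩]

theorem t9_675_0 : jobs 8 S9 b8_675 j9_675_0 = true := by decide +kernel

noncomputable def j9_675_1 : List Job := [
  ⟨26, 0x641229249a512a964ba61329a4da713a9e4fe01028241a110a8643a21128a45a311a8e47dd0ea763b9e0f27a3ddc0e272399f0fa7e3fd90ca66339a0d26a35d80c262319b0da6e37d50aa562b970ba5e2fd40a25229960b25a2dd108a46239309a4e27d00824221920924a25cc46b301a4844b20124562911884160901, 0, 33, 0x200000c00001a00, [(12, ⟨1934, 0x9a0014000024000100000b00004000030010100100001, 0x19a20090200b0200c02⟩), (5, ⟨1935, 0x880007b00020000150010d00004000020010100000001, 0x18e3c0802a0d0200802⟩), (0, ⟨1933, 0x9a0014000024000100000b00004000030010100100001, 0x19a20090200b0200c02⟩)]⟩]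

theorem t9_675_1 : jobs 8 S9 b8_675 j9_675_1 = true := by decide +kernel

noncomputable def j9_675_2 : List Job := [
  ⟨25, 0x508864623928964e27d00824422920924c26c3e1d098441e0d01, 0, 80, 0x210000413000612000813000a12000c12000e12001012001210001410001612001813001a12001c12001e13002012, []⟩]

theorem t9_675_2 : jobs 8 S9 b8_675 j9_675_2 = true := by decide +kernel

noncomputable def j9_675_3 : List Job := [
  ⟨24, 0x508864623928964e27d00824422920924c26c904a26138b05a2e17c804222118a0522a15c3e1d098441e0d01, 0, 80, 0x212000413000612000811000a13000c13000e13001010001212001411001611001811001a13001c10001e10002010, []⟩]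

theorem t9_675_3 : jobs 8 S9 b8_675 j9_675_3 = true := by decide +kernel

noncomputable def j9_675_4 : List Job := [
  ⟨23, 0x508864623928964e27d00824422920924c26c3e1d098441e0d01, 0, 60, 0x210000411000610000810000a11000c10000e10001010001210001410001611001810, []⟩]

theorem t9_675_4 : jobs 8 S9 b8_675 j9_675_4 = true := by decide +kernel

noncomputable def j9_675_5 : List Job := [
  ⟨22, 0x508864623928964e27d00824422920924c26c3e1d098441e0d01, 0, 60, 0x210000411000612000811000a10000c10000e10001010001210001410001613001810, []⟩]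

theorem t9_675_5 : jobs 8 S9 b8_675 j9_675_5 = true := by decide +kernel

noncomputable def j9_675_6 : List Job := [
  ⟨21, 0x508864623928964e27d00824422920924c26c904a26138b05a2e17c804222118a0522a15c3e1d098441e0d01, 0, 60, 0x212000412000612000811000a10000c10000e10001013001212001413001613001813, []⟩]

theorem t9_675_6 : jobs 8 S9 b8_675 j9_675_6 = true := by decide +kernel

noncomputable def j9_675_7 : List Job := [
  ⟨20, 0x508864623928964e27d00824422920924c26c904a26138b05a2e17c804222118a0522a15c3e1d098441e0d01, 0, 60, 0x210000413000610000810000a11000c13000e11001011001210001410001611001811, []⟩]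

theorem t9_675_7 : jobs 8 S9 b8_675 j9_675_7 = true := by decide +kernel

noncomputable def j9_675_8 : List Job := [
  ⟨19, 0x43e1d098441e0d01, 0, 56, 0x210000413000612000813000a13000c11000e12001012001211001410001611001812, []⟩]

theorem t9_675_8 : jobs 8 S9 b8_675 j9_675_8 = true := by decide +kernel

noncomputable def j9_675_9 : List Job := [
  ⟨18, 0x548a6562b968b65e2fd40a2542a960b25c2ed08864623928964e27d00824422920924c26c3e1d098441e0d01, 0, 56, 0x210000410000610000813000a12000c12000e12001011001213001410001613001812, []⟩]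

theorem t9_675_9 : jobs 8 S9 b8_675 j9_675_9 = true := by decide +kernel

noncomputable def j9_675_10 : List Job := [
  ⟨17, 0x4904a26138b05a2e17c804222118a0522a15c3e1d098441e0d01, 0, 56, 0x210000411000612000811000a10000c10000e10001010001210001410001613001810, []⟩]

theorem t9_675_10 : jobs 8 S9 b8_675 j9_675_10 = true := by decide +kernel

noncomputable def j9_675_11 : List Job := [
  ⟨16, 0x548a6562b968b65e2fd40a2542a960b25c2ed08864623928964e27d00824422920924c26c904a26138b05a2e17c804222118a0522a15c3e1d098441e0d01, 0, 56, 0x213000411000612000810000a13000c13000e10001010001210001412001613001810, []⟩]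

theorem t9_675_11 : jobs 8 S9 b8_675 j9_675_11 = true := by decide +kernel

noncomputable def j9_675_12 : List Job := [
  ⟨15, 0x43e1d098441e0d01, 0, 43, 0x210000413000610000812000a11000c13000e12001013001210, []⟩]

theorem t9_675_12 : jobs 8 S9 b8_675 j9_675_12 = true := by decide +kernel

noncomputable def j9_675_13 : List Job := [
  ⟨14, 0x43e1d098441e0d01, 0, 43, 0x210000411000610000811000a10000c10000e10001011001210, []⟩]

theorem t9_675_13 : jobs 8 S9 b8_675 j9_675_13 = true := by decide +kernel

noncomputable def j9_675_14 : List Job := [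
  ⟨13, 0x548a6562b968b65e2fd40a2542a960b25c2ed08864623928964e27d00824422920924c26c3e1d098441e0d01, 0, 43, 0x210000410000610000813000a11000c11000e13001010001211, []⟩]

theorem t9_675_14 : jobs 8 S9 b8_675 j9_675_14 = true := by decide +kernel

noncomputable def j9_675_15 : List Job := [
  ⟨12, 0x548a6562b968b65e2fd40a2542a960b25c2ed08864623928964e27d00824422920924c26c3e1d098441e0d01, 0, 43, 0x212000411000612000812000a10000c13000e10001013001213, []⟩]

theorem t9_675_15 : jobs 8 S9 b8_675 j9_675_15 = true := by decide +kernel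

noncomputable def j9_675_16 : List Job := [
  ⟨11, 0x4904a26138b05a2e17c804222118a0522a15c3e1d098441e0d01, 0, 43, 0x210000411000610000811000a10000c10000e13001012001210, []⟩]

theorem t9_675_16 : jobs 8 S9 b8_675 j9_675_16 = true := by decide +kernel

noncomputable def j9_675_17 : List Job := [
  ⟨10, 0x4904a26138b05a2e17c804222118a0522a15c3e1d098441e0d01, 0, 43, 0x210000410000610000811000a10000c10000e11001010001210, []⟩]

theorem t9_675_17 : jobs 8 S9 b8_675 j9_675_17 = true := by decide +kernel

noncomputable def j9_675_18 : List Job := [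
  ⟨9, 0x548a6562b968b65e2fd40a2542a960b25c2ed08864623928964e27d00824422920924c26c904a26138b05a2e17c804222118a0522a15c3e1d098441e0d01, 0, 43, 0x211000411000610000811000a10000c10000e10001010001213, []⟩]

theorem t9_675_18 : jobs 8 S9 b8_675 j9_675_18 = true := by decide +kernel

noncomputable def j9_675_19 : List Job := [
  ⟨8, 0x548a6562b968b65e2fd40a2542a960b25c2ed08864623928964e27d00824422920924c26c904a26138b05a2e17c804222118a0522a15c3e1d098441e0d01, 0, 76, 0x213000413000610000811000a13000c13000e10001010001212, []⟩]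

theorem t9_675_19 : jobs 8 S9 b8_675 j9_675_19 = true := by decide +kernel

noncomputable def j9_675_20 : List Job := [
  ⟨7, 0x508864623928964e27d00824422920924c26c804222118a0522a15c301b09844100b01, 0, 128, 0x0, []⟩]

theorem t9_675_20 : jobs 8 S9 b8_675 j9_675_20 = true := by decide +kernel

noncomputable def j9_675_21 : List Job := [
  ⟨6, 0x508864623928964e27d00824422920924c26c804222118a0522a15c301b09844100b01, 0, 192, 0x0, []⟩]

theorem t9_675_21 : jobs 8 S9 b8_675 j9_675_21 = true := by decide +kernel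

noncomputable def j9_675_22 : List Job := [
  ⟨5, 0x4804222118a0522a15c301b09844100b01, 0, 92, 0x0, []⟩]

theorem t9_675_22 : jobs 8 S9 b8_675 j9_675_22 = true := by decide +kernel

noncomputable def j9_675_23 : List Job := [
  ⟨4, 0x548a6562b968b65e2fd40a2542a960b25c2ed08864623928964e27d00824422920924c26c804222118a0522a15c301b09844100b01, 0, 92, 0x0, []⟩]

theorem t9_675_23 : jobs 8 S9 b8_675 j9_675_23 = true := by decide +kernel

noncomputable def j9_675_24 : List Job := [
  ⟨3, 0x4804222118a0522a15c301b09844100b01, 0, 132, 0x0, []⟩]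

theorem t9_675_24 : jobs 8 S9 b8_675 j9_675_24 = true := by decide +kernel

noncomputable def j9_675_25 : List Job := [
  ⟨2, 0x548a6562b968b65e2fd40a2542a960b25c2ed08864623928964e27d00824422920924c26c804222118a0522a15c301b09844100b01, 0, 132, 0x0, []⟩]

theorem t9_675_25 : jobs 8 S9 b8_675 j9_675_25 = true := by decide +kernel

noncomputable def j9_675_26 : List Job := [
  ⟨1, 0x548a6562b968b65e2fd00824422920924c26c804222118a0522a15c381f09844180f01, 0, 136, 0x0, []⟩]

theorem t9_675_26 : jobs 8 S9 b8_675 j9_675_26 = true := by decide +kernel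

noncomputable def j9_675_27 : List Job := [
  ⟨0, 0x548a6562b968b65e2fd00824422920924c26c804222118a0522a15c381f09844180f01, 0, 192, 0x0, []⟩]

theorem t9_675_27 : jobs 8 S9 b8_675 j9_675_27 = true := by decide +kernel

theorem d9_675 : Dn 8 S9 b8_675 := dn_of (Js := j9_675_0 ++ (j9_675_1 ++ (j9_675_2 ++ (j9_675_3 ++ (j9_675_4 ++ (j9_675_5 ++ (j9_675_6 ++ (j9_675_7 ++ (j9_675_8 ++ (j9_675_9 ++ (j9_675_10 ++ (j9_675_11 ++ (j9_675_12 ++ (j9_675_13 ++ (j9_675_14 ++ (j9_675_15 ++ (j9_675_16 ++ (j9_675_17 ++ (j9_675_18 ++ (j9_675_19 ++ (j9_675_20 ++ (j9_675_21 ++ (j9_675_22 ++ (j9_675_23 ++ (j9_675_24 ++ (j9_675_25 ++ (j9_675_26 ++ (j9_675_27 ++ []))))))))))))))))))))))))))))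
  (jobs_append t9_675_0 <| jobs_append t9_675_1 <| jobs_append t9_675_2 <| jobs_append t9_675_3 <| jobs_append t9_675_4 <| jobs_append t9_675_5 <| jobs_append t9_675_6 <| jobs_append t9_675_7 <| jobs_append t9_675_8 <| jobs_append t9_675_9 <| jobs_append t9_675_10 <| jobs_append t9_675_11 <| jobs_append t9_675_12 <| jobs_append t9_675_13 <| jobs_append t9_675_14 <| jobs_append t9_675_15 <| jobs_append t9_675_16 <| jobs_append t9_675_17 <| jobs_append t9_675_18 <| jobs_append t9_675_19 <| jobs_append t9_675_20 <| jobs_append t9_675_21 <| jobs_append t9_675_22 <| jobs_append t9_675_23 <| jobs_append t9_675_24 <| jobs_append t9_675_25 <| jobs_append t9_675_26 <| jobs_append t9_675_27 <| List.forall_mem_nil _) (by decide +kernel)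

noncomputable def j9_676_0 : List Job := [
  ⟨63, 0x4582f140ac48271008c180f05824080701, 0, 30, 0x0, []⟩]

theorem t9_676_0 : jobs 8 S9 b8_676 j9_676_0 = true := by decide +kernel

noncomputable def j9_676_1 : List Job := [
  ⟨62, 0x4582f158a4482711884180f05824080701, 0, 27, 0x0, []⟩]

theorem t9_676_1 : jobs 8 S9 b8_676 j9_676_1 = true := by decide +kernel

noncomputable def j9_676_2 : List Job := [
  ⟨61, 0x4582f158a4482711884180f05824080701, 0, 23, 0x0, []⟩]

theorem t9_676_2 : jobs 8 S9 b8_676 j9_676_2 = true := by decide +kernel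

noncomputable def j9_676_3 : List Job := [
  ⟨60, 0x4c062341a8e0723c1ec804224128a0522c16c703b1a0dc582f1008c36190a05c180f01, 0, 50, 0x0, []⟩]

theorem t9_676_3 : jobs 8 S9 b8_676 j9_676_3 = true := by decide +kernel

noncomputable def j9_676_4 : List Job := [
  ⟨59, 0x4c062341a8e0723c1ec804224128a0522c16c703b1a0dc582f1008c36190a05c180f01, 0, 76, 0x0, []⟩]

theorem t9_676_4 : jobs 8 S9 b8_676 j9_676_4 = true := by decide +kernel

noncomputable def j9_676_5 : List Job := [
  ⟨58, 0x4c062341a8e0723c1ec804224128a0522c16c76391a0dc582f1188436190a05c180f01, 0, 40, 0x0, []⟩]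

theorem t9_676_5 : jobs 8 S9 b8_676 j9_676_5 = true := by decide +kernel

noncomputable def j9_676_6 : List Job := [
  ⟨57, 0x4c062341a8e0723c1ec804224128a0522c16c76391a0dc582f1188436190a05c180f01, 0, 40, 0x0, []⟩]

theorem t9_676_6 : jobs 8 S9 b8_676 j9_676_6 = true := by decide +kernel

noncomputable def j9_676_7 : List Job := [
  ⟨56, 0x4884626138a8562e17c804224128a0522c16c783f1c0ec48271008c3e1d0d8640e0501, 0, 17, 0x1601001801001a01001c01001e01, []⟩]

theorem t9_676_7 : jobs 8 S9 b8_676 j9_676_7 = true := by decide +kernel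

noncomputable def j9_676_8 : List Job := [
  ⟨55, 0x4884626138a8562e17c804224128a0522c16c783f1c0ec48271008c3e1d0d8640e0501, 0, 17, 0x1601001801001a01001c01001e01, []⟩]

theorem t9_676_8 : jobs 8 S9 b8_676 j9_676_8 = true := by decide +kernel

noncomputable def j9_676_9 : List Job := [
  ⟨54, 0x4884626138a8562e17c804224128a0522c16c783f1c0ec48271008c3e1d0d8640e0501, 0, 32, 0x2a01002c01002e01003001, []⟩]

theorem t9_676_9 : jobs 8 S9 b8_676 j9_676_9 = true := by decide +kernel

noncomputable def j9_676_10 : List Job := [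
  ⟨53, 0x4884626138a8562e17c804224128a0522c16c783f1c0ec48271008c3e1d0d8640e0501, 0, 21, 0x1e01002001002201002401002601, []⟩]

theorem t9_676_10 : jobs 8 S9 b8_676 j9_676_10 = true := by decide +kernel

noncomputable def j9_676_11 : List Job := [
  ⟨52, 0x4783f1c0ec48271008c3e1d0d8640e0501, 0, 19, 0x1a01001c01001e01, []⟩]

theorem t9_676_11 : jobs 8 S9 b8_676 j9_676_11 = true := by decide +kernel

noncomputable def j9_676_12 : List Job := [
  ⟨51, 0x4c866361b8e8763e1fcc062341a8e0723c1ec884626138a8562e17c804224128a0522c16c783f1c0ec48271008c3e1d0d8640e0501, 0, 21, 0x1a01001c01001e01, []⟩]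

theorem t9_676_12 : jobs 8 S9 b8_676 j9_676_12 = true := by decide +kernel

noncomputable def j9_676_13 : List Job := [
  ⟨50, 0x4783f1c0ec48271008c3e1d0d8640e0501, 0, 26, 0x2201002401002601002801002a01002c01002e01003001003201003401, []⟩]

theorem t9_676_13 : jobs 8 S9 b8_676 j9_676_13 = true := by decide +kernel

noncomputable def j9_676_14 : List Job := [
  ⟨49, 0x4c866361b8e8763e1fcc062341a8e0723c1ec884626138a8562e17c804224128a0522c16c783f1c0ec48271008c3e1d0d8640e0501, 0, 26, 0x2201002401002601002801002a01002e01, []⟩]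

theorem t9_676_14 : jobs 8 S9 b8_676 j9_676_14 = true := by decide +kernel

noncomputable def j9_676_15 : List Job := [
  ⟨48, 0x47e3d1d8e44e25118843e1d0d8640e0501, 0, 16, 0x1401001601001801, []⟩]

theorem t9_676_15 : jobs 8 S9 b8_676 j9_676_15 = true := by decide +kernel

noncomputable def j9_676_16 : List Job := [
  ⟨47, 0x47e3d1d8e44e25118843e1d0d8640e0501, 0, 16, 0x1401001601001801, []⟩]

theorem t9_676_16 : jobs 8 S9 b8_676 j9_676_16 = true := by decide +kernel

noncomputable def j9_676_17 : List Job := [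
  ⟨46, 0x4c866361b8e8763e1fcc062341a8e0723c1ec884626138a8562e17c804224128a0522c16c7e3d1d8e44e25118843e1d0d8640e0501, 0, 23, 0x1401001601001801002601002c01002e01, []⟩]

theorem t9_676_17 : jobs 8 S9 b8_676 j9_676_17 = true := by decide +kernel

noncomputable def j9_676_18 : List Job := [
  ⟨45, 0x4c866361b8e8763e1fcc062341a8e0723c1ec884626138a8562e17c804224128a0522c16c7e3d1d8e44e25118843e1d0d8640e0501, 0, 42, 0x2c01002e01003001003201003401003601003801004601004801, []⟩]

theorem t9_676_18 : jobs 8 S9 b8_676 j9_676_18 = true := by decide +kernel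

noncomputable def j9_676_19 : List Job := [
  ⟨44, 0x4c866361b8e8763e1fc804224128a0522c16c703b180cc502b1008c361909844160901, 0, 18, 0x1c01001e01, []⟩]

theorem t9_676_19 : jobs 8 S9 b8_676 j9_676_19 = true := by decide +kernel

noncomputable def j9_676_20 : List Job := [
  ⟨43, 0x4c866361b8e8763e1fc804224128a0522c16c703b180cc502b1008c361909844160901, 0, 21, 0x2201002401, []⟩]

theorem t9_676_20 : jobs 8 S9 b8_676 j9_676_20 = true := by decide +kernel

noncomputable def j9_676_21 : List Job := [
  ⟨42, 0x4c866361b8e8763e1fc804224128a0522c16c703b180cc502b1008c361909844160901, 0, 32, 0x2c01002e01003601003c01, []⟩]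

theorem t9_676_21 : jobs 8 S9 b8_676 j9_676_21 = true := by decide +kernel

noncomputable def j9_676_22 : List Job := [
  ⟨41, 0x4c866361b8e8763e1fc804224128a0522c16c703b180cc502b1008c361909844160901, 0, 24, 0x2601002c01, []⟩]

theorem t9_676_22 : jobs 8 S9 b8_676 j9_676_22 = true := by decide +kernel

noncomputable def j9_676_23 : List Job := [
  ⟨40, 0x4c468381ecc06a391e4844a2916c804828164703b180cc502b1008c361909844160901, 0, 24, 0x2601002c01, []⟩]

theorem t9_676_23 : jobs 8 S9 b8_676 j9_676_23 = true := by decide +kernel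

noncomputable def j9_676_24 : List Job := [
  ⟨39, 0x4c468391e4c06a381ec844a2916c804828164703b180cc502b1008c361909844160901, 0, 40, 0x3201003801004401004601004c01004e01, []⟩]

theorem t9_676_24 : jobs 8 S9 b8_676 j9_676_24 = true := by decide +kernel

noncomputable def j9_676_25 : List Job := [
  ⟨38, 0x4c468381ecc06a391e484482816c804a291647639198c4562911884361909844160901, 0, 24, 0x401000601, []⟩]

theorem t9_676_25 : jobs 8 S9 b8_676 j9_676_25 = true := by decide +kernel

noncomputable def j9_676_26 : List Job := [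
  ⟨37, 0x4c46a381e4c068391ec844a2816480482916c7639198c4562911884361909844160901, 0, 37, 0x401000601000e01001001001201001401001a01001c01001e01002001004201004401, []⟩]

theorem t9_676_26 : jobs 8 S9 b8_676 j9_676_26 = true := by decide +kernel

noncomputable def j9_676_27 : List Job := [
  ⟨36, 0x4c46a391ecc068381e4844a2916c8048281647639198c4562911884361909844160901, 0, 33, 0x3401003601003a01003c01, []⟩]

theorem t9_676_27 : jobs 8 S9 b8_676 j9_676_27 = true := by decide +kernel

noncomputable def j9_676_28 : List Job := [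
  ⟨35, 0x4c062341a8e0723c1ec804224128a0522c16c783f1a0dc502b1008c381f0a05c100b01, 0, 98, 0x801000a01001801001a01003601004e01005001005201005401005601005801005a01005c03005e01006003006201006401006601006801006a01006c01006e01007001007201007403007601007801007a01007c01007e01008003008203008401008601008803, []⟩]

theorem t9_676_28 : jobs 8 S9 b8_676 j9_676_28 = true := by decide +kernel

noncomputable def j9_676_29 : List Job := [
  ⟨34, 0x4c062341a8e0723c1ec804224128a0522c16c783f1a0dc502b11884381f0a05c100b01, 0, 98, 0x801000a01001801001a01003601004e03005001005201005401005601005801005a01005c01005e01006001006201006401006601006801006a03006c01006e03007001007201007401007601007801007a01007c01007e03008001008201008403008603008801, []⟩]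

theorem t9_676_29 : jobs 8 S9 b8_676 j9_676_29 = true := by decide +kernel

noncomputable def j9_676_30 : List Job := [
  ⟨33, 0x4884626138a8562e17c804224128a0522c16c582f140ac48271008c180f0402c080701, 0, 88, 0x401000601001c01001e01004601004801, []⟩]

theorem t9_676_30 : jobs 8 S9 b8_676 j9_676_30 = true := by decide +kernel

noncomputable def j9_676_31 : List Job := [
  ⟨32, 0x4582f140ac482711884180f0402c080701, 0, 74, 0x2601002801002a01002c01, []⟩]

theorem t9_676_31 : jobs 8 S9 b8_676 j9_676_31 = true := by decide +kernel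

noncomputable def j9_676_32 : List Job := [
  ⟨31, 0x4c866361b8e8763e1fcc062341a8e0723c1ec884626138a8562e17c804224128a0522c16c582f140ac482711884180f0402c080701, 0, 74, 0xa01001001001201001801, []⟩]

theorem t9_676_32 : jobs 8 S9 b8_676 j9_676_32 = true := by decide +kernel

noncomputable def j9_676_33 : List Job := [
  ⟨30, 0x641229249a512a964ba61329a4da713a9e4fe01028241a110a8643a21128a45a311a8e47dd0ea763b9e0f27a3dd00824221920924a25c804222118904a2613c40221209c0e0501, 0, 72, 0x0, []⟩]

theorem t9_676_33 : jobs 8 S9 b8_676 j9_676_33 = true := by decide +kernel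

noncomputable def j9_676_34 : List Job := [
  ⟨29, 0x641229249a512a964ba61329a4da713a9e4fe01028241a110a8643a21128a45a311a8e47d80c262319b0da6e37d00824221920924a25c804222118904a2613c40221209c0e0501, 0, 72, 0x601000801000e01001001006401006801, []⟩]

theorem t9_676_34 : jobs 8 S9 b8_676 j9_676_34 = true := by decide +kernel

noncomputable def j9_676_35 : List Job := [
  ⟨28, 0x641229249a512a964ba61329a4da713a9e4fe01028241a110a8643a21128a45a311a8e47c502a160bc0e0501, 0, 21, 0x0, []⟩]

theorem t9_676_35 : jobs 8 S9 b8_676 j9_676_35 = true := by decide +kernel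

noncomputable def j9_676_36 : List Job := [
  ⟨27, 0x641229249a512a964ba61329a4da713a9e4fe01028241a110a8643a21128a45a311a8e47c4e25118840e0501, 0, 21, 0x604000e03001204001c03, []⟩]

theorem t9_676_36 : jobs 8 S9 b8_676 j9_676_36 = true := by decide +kernel

noncomputable def j9_676_37 : List Job := [
  ⟨26, 0x641229249a512a964ba61329a4da713a9e4fe01028241a110a8643a21128a45a311a8e47dc0e272399f0fa7e3fd80c262319b0da6e37d40a25229960b25a2dd00824221920924a25ce0723a1d8f07a3e1fc804222118904a2613c502a160bc0e0501, 0, 33, 0x0, []⟩]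

theorem t9_676_37 : jobs 8 S9 b8_676 j9_676_37 = true := by decide +kernel

noncomputable def j9_676_38 : List Job := [
  ⟨25, 0x641229249a512a964ba61329a4da713a9e4fe01028241a110a8643a21128a45a311a8e47dc0e272399f0fa7e3fd80c262319b0da6e37d40a25229960b25a2dd00824221920924a25cc06232198d06a361bc804222118904a2613c4e25118840e0501, 0, 33, 0x200000605000a00000e05002e00, [(22, ⟨1966, 0x208006d0009c00100003001050000c01020000400, 0x78137098200c0240401⟩), (4, ⟨1996, 0x208006d0009c00100003001050000c01020000400, 0x78137098200c0240401⟩), (0, ⟨1940, 0x208006d0009c00100003001050000c01020000400, 0x78137098200c0240401⟩)]⟩]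

theorem t9_676_38 : jobs 8 S9 b8_676 j9_676_38 = true := by decide +kernel

theorem d9_676 : Dn 8 S9 b8_676 := dn_of (Js := j9_676_0 ++ (j9_676_1 ++ (j9_676_2 ++ (j9_676_3 ++ (j9_676_4 ++ (j9_676_5 ++ (j9_676_6 ++ (j9_676_7 ++ (j9_676_8 ++ (j9_676_9 ++ (j9_676_10 ++ (j9_676_11 ++ (j9_676_12 ++ (j9_676_13 ++ (j9_676_14 ++ (j9_676_15 ++ (j9_676_16 ++ (j9_676_17 ++ (j9_676_18 ++ (j9_676_19 ++ (j9_676_20 ++ (j9_676_21 ++ (j9_676_22 ++ (j9_676_23 ++ (j9_676_24 ++ (j9_676_25 ++ (j9_676_26 ++ (j9_676_27 ++ (j9_676_28 ++ (j9_676_29 ++ (j9_676_30 ++ (j9_676_31 ++ (j9_676_32 ++ (j9_676_33 ++ (j9_676_34 ++ (j9_676_35 ++ (j9_676_36 ++ (j9_676_37 ++ (j9_676_38 ++ [])))))))))))))))))))))))))))))))))))))))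
  (jobs_append t9_676_0 <| jobs_append t9_676_1 <| jobs_append t9_676_2 <| jobs_append t9_676_3 <| jobs_append t9_676_4 <| jobs_append t9_676_5 <| jobs_append t9_676_6 <| jobs_append t9_676_7 <| jobs_append t9_676_8 <| jobs_append t9_676_9 <| jobs_append t9_676_10 <| jobs_append t9_676_11 <| jobs_append t9_676_12 <| jobs_append t9_676_13 <| jobs_append t9_676_14 <| jobs_append t9_676_15 <| jobs_append t9_676_16 <| jobs_append t9_676_17 <| jobs_append t9_676_18 <| jobs_append t9_676_19 <| jobs_append t9_676_20 <| jobs_append t9_676_21 <| jobs_append t9_676_22 <| jobs_append t9_676_23 <| jobs_append t9_676_24 <| jobs_append t9_676_25 <| jobs_append t9_676_26 <| jobs_append t9_676_27 <| jobs_append t9_676_28 <| jobs_append t9_676_29 <| jobs_append t9_676_30 <| jobs_append t9_676_31 <| jobs_append t9_676_32 <| jobs_append t9_676_33 <| jobs_append t9_676_34 <| jobs_append t9_676_35 <| jobs_append t9_676_36 <| jobs_append t9_676_37 <| jobs_append t9_676_38 <| List.forall_mem_nil _) (by decide +kernel)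

noncomputable def j9_677_0 : List Job := [
  ⟨63, 0x4c464381dcc066391d484462915c80442815460321a0dc40221209c2e15098440e0501, 0, 8, 0x201000a01, []⟩]

theorem t9_677_0 : jobs 8 S9 b8_677 j9_677_0 = true := by decide +kernel

noncomputable def j9_677_1 : List Job := [
  ⟨62, 0x601028241a110a8643a21128a45a311a8e47cc464381dcc066391d484462915c80442815460321a0dc40221209c2e15098440e0501, 0, 8, 0x201, []⟩]

theorem t9_677_1 : jobs 8 S9 b8_677 j9_677_1 = true := by decide +kernel

noncomputable def j9_677_2 : List Job := [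
  ⟨61, 0x4c466381d4c064391dc84462915c8044281546435180dc44251009c2e15098440e0501, 0, 8, 0x201000a01, []⟩]

theorem t9_677_2 : jobs 8 S9 b8_677 j9_677_2 = true := by decide +kernel

noncomputable def j9_677_3 : List Job := [
  ⟨60, 0x601028241a110a8643a21128a45a311a8e47cc466381d4c064391dc84462915c8044281546435180dc44251009c2e15098440e0501, 0, 8, 0x201, []⟩]

theorem t9_677_3 : jobs 8 S9 b8_677 j9_677_3 = true := by decide +kernel

noncomputable def j9_677_4 : List Job := [
  ⟨59, 0x4c466381d4c064391dc84462815480442915c6437180d44427100942e15098440e0501, 0, 4, 0x201, []⟩]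

theorem t9_677_4 : jobs 8 S9 b8_677 j9_677_4 = true := by decide +kernel

noncomputable def j9_677_5 : List Job := [
  ⟨58, 0x601028241a110a8643a21128a45a311a8e47cc466381d4c064391dc84462815480442915c6437180d44427100942e15098440e0501, 0, 12, 0xe01, []⟩]

theorem t9_677_5 : jobs 8 S9 b8_677 j9_677_5 = true := by decide +kernel

noncomputable def j9_677_6 : List Job := [
  ⟨57, 0x4c466391dcc064381d484462915c8044281546437180d44427100942e15098440e0501, 0, 4, 0x201, []⟩]

theorem t9_677_6 : jobs 8 S9 b8_677 j9_677_6 = true := by decide +kernel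

noncomputable def j9_677_7 : List Job := [
  ⟨56, 0x601028241a110a8643a21128a45a311a8e47cc466391dcc064381d484462915c8044281546437180d44427100942e15098440e0501, 0, 20, 0x1a01, []⟩]

theorem t9_677_7 : jobs 8 S9 b8_677 j9_677_7 = true := by decide +kernel

noncomputable def j9_677_8 : List Job := [
  ⟨55, 0x4904a26138b05a2e17c502a160bc40221209c381f0c06c080701, 0, 40, 0x0, []⟩]

theorem t9_677_8 : jobs 8 S9 b8_677 j9_677_8 = true := by decide +kernel

noncomputable def j9_677_9 : List Job := [
  ⟨54, 0x601028241a110a8643a21128a45a311a8e47c904a26138b05a2e17c502a160bc40221209c381f0c06c080701, 0, 40, 0x0, []⟩]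

theorem t9_677_9 : jobs 8 S9 b8_677 j9_677_9 = true := by decide +kernel

noncomputable def j9_677_10 : List Job := [
  ⟨53, 0x4d06a361b8f07a3e1fcc06232198e0723a1dc804222118a0522a15c502a160bc40221209c381f0c06c080701, 0, 40, 0x0, []⟩]

theorem t9_677_10 : jobs 8 S9 b8_677 j9_677_10 = true := by decide +kernel

noncomputable def j9_677_11 : List Job := [
  ⟨52, 0x601028241a110a8643a21128a45a311a8e47cd06a361b8f07a3e1fcc06232198e0723a1dc804222118a0522a15c502a160bc40221209c381f0c06c080701, 0, 40, 0x0, []⟩]

theorem t9_677_11 : jobs 8 S9 b8_677 j9_677_11 = true := by decide +kernel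

noncomputable def j9_677_12 : List Job := [
  ⟨51, 0x4703b180cc502b1008c361909844160901, 0, 4, 0x0, []⟩]

theorem t9_677_12 : jobs 8 S9 b8_677 j9_677_12 = true := by decide +kernel

noncomputable def j9_677_13 : List Job := [
  ⟨50, 0x4703b180cc502b1008c361909844160901, 0, 4, 0x201000401000601000801, []⟩]

theorem t9_677_13 : jobs 8 S9 b8_677 j9_677_13 = true := by decide +kernel

noncomputable def j9_677_14 : List Job := [
  ⟨49, 0x4703b180cc502b1008c361909844160901, 0, 4, 0x201000401000601000801, []⟩]

theorem t9_677_14 : jobs 8 S9 b8_677 j9_677_14 = true := by decide +kernel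

noncomputable def j9_677_15 : List Job := [
  ⟨48, 0x4703b180cc502b1008c361909844160901, 0, 4, 0x0, []⟩]

theorem t9_677_15 : jobs 8 S9 b8_677 j9_677_15 = true := by decide +kernel

noncomputable def j9_677_16 : List Job := [
  ⟨47, 0x4703b180cc502b1008c361909844160901, 0, 4, 0x201000401000601000801, []⟩]

theorem t9_677_16 : jobs 8 S9 b8_677 j9_677_16 = true := by decide +kernel

noncomputable def j9_677_17 : List Job := [
  ⟨46, 0x4703b180cc502b1008c361909844160901, 0, 4, 0x201000401000601000801, []⟩]

theorem t9_677_17 : jobs 8 S9 b8_677 j9_677_17 = true := by decide +kernel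

noncomputable def j9_677_18 : List Job := [
  ⟨45, 0x47639198c4562911884361909844160901, 0, 8, 0x601000801, []⟩]

theorem t9_677_18 : jobs 8 S9 b8_677 j9_677_18 = true := by decide +kernel

noncomputable def j9_677_19 : List Job := [
  ⟨44, 0x47639198c4562911884361909844160901, 0, 12, 0x1201001401001601001801, []⟩]

theorem t9_677_19 : jobs 8 S9 b8_677 j9_677_19 = true := by decide +kernel

noncomputable def j9_677_20 : List Job := [
  ⟨43, 0x47639198c4562911884361909844160901, 0, 15, 0x1401001601, []⟩]

theorem t9_677_20 : jobs 8 S9 b8_677 j9_677_20 = true := by decide +kernel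

noncomputable def j9_677_21 : List Job := [
  ⟨42, 0x4703b1a0dc582f1008c301b0a05c180f01, 0, 18, 0x401000601000c01000e01001401001601001c01001e01, []⟩]

theorem t9_677_21 : jobs 8 S9 b8_677 j9_677_21 = true := by decide +kernel

noncomputable def j9_677_22 : List Job := [
  ⟨41, 0x4703b1a0dc582f11884301b0a05c180f01, 0, 18, 0x401000601000c01000e01001401001601001c01001e01, []⟩]

theorem t9_677_22 : jobs 8 S9 b8_677 j9_677_22 = true := by decide +kernel

noncomputable def j9_677_23 : List Job := [
  ⟨40, 0x4783f1c0ec48271008c381f0c06c080701, 0, 18, 0x201000801000a01001001001201001801001a01002001, []⟩]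

theorem t9_677_23 : jobs 8 S9 b8_677 j9_677_23 = true := by decide +kernel

noncomputable def j9_677_24 : List Job := [
  ⟨39, 0x4783f1c0ec482711884381f0c06c080701, 0, 18, 0x401000601000c01000e01001401001601001c01001e01, []⟩]

theorem t9_677_24 : jobs 8 S9 b8_677 j9_677_24 = true := by decide +kernel

noncomputable def j9_677_25 : List Job := [
  ⟨38, 0x6512a964ba61329a4de01028241a311a8e47c703b1a0dc582f1008c301b0a05c180f01, 0, 72, 0x201000401000601000802000a01000c01000e01001001001201001401001601001801001a01001c02001e01002001002201002401002601002801002a01002c02002e01003002003202003401003601003802003a01003c01003e01004001004201004401004602004801004a01004c02004e01005002005201005402, []⟩]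

theorem t9_677_25 : jobs 8 S9 b8_677 j9_677_25 = true := by decide +kernel

noncomputable def j9_677_26 : List Job := [
  ⟨37, 0x641229249a713a9e4fe01028241a311a8e47c703b1a0dc582f11884301b0a05c180f01, 0, 72, 0x202000401000601000801000a01000c01000e01001001001201001401001601001801001a01001c01001e02002001002202002401002601002801002a01002c01002e02003001003201003402003602003801003a02003c01003e01004001004201004401004601004801004a02004c01004e02005001005202005401, []⟩]

theorem t9_677_26 : jobs 8 S9 b8_677 j9_677_26 = true := by decide +kernel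

noncomputable def j9_677_27 : List Job := [
  ⟨36, 0x6512a964ba61329a4de01028241a311a8e47c783f1c0ec48271008c381f0c06c080701, 0, 30, 0x0, []⟩]

theorem t9_677_27 : jobs 8 S9 b8_677 j9_677_27 = true := by decide +kernel

noncomputable def j9_677_28 : List Job := [
  ⟨35, 0x645269c4fe41249d4f605068c47e01048d474783f1c0ec482711884381f0c06c080701, 0, 30, 0x0, []⟩]

theorem t9_677_28 : jobs 8 S9 b8_677 j9_677_28 = true := by decide +kernel

noncomputable def j9_677_29 : List Job := [
  ⟨34, 0x6512a964ba61329a4de41229249a713a9e4fc703b180cc502b1008c361909844160901, 0, 48, 0x5a01005c01005e01006001, []⟩]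

theorem t9_677_29 : jobs 8 S9 b8_677 j9_677_29 = true := by decide +kernel

noncomputable def j9_677_30 : List Job := [
  ⟨33, 0x6110a8643a21128a45e01028241a311a8e47c703b180cc502b1008c361909844160901, 0, 48, 0x5a01005c01005e01006001, []⟩]

theorem t9_677_30 : jobs 8 S9 b8_677 j9_677_30 = true := by decide +kernel

noncomputable def j9_677_31 : List Job := [
  ⟨32, 0x4703b180cc502b1008c361909844160901, 0, 48, 0x5a01005c01005e01006001, []⟩]

theorem t9_677_31 : jobs 8 S9 b8_677 j9_677_31 = true := by decide +kernel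

noncomputable def j9_677_32 : List Job := [
  ⟨31, 0x6512a964ba61329a4de41229249a713a9e4fe110a8643a21128a45e01028241a311a8e47c703b180cc502b1008c361909844160901, 0, 48, 0x5a01005c01005e01006001, []⟩]

theorem t9_677_32 : jobs 8 S9 b8_677 j9_677_32 = true := by decide +kernel

noncomputable def j9_677_33 : List Job := [
  ⟨30, 0x6110a8643a21128a45e01028241a311a8e47c703b180cc502b1008c361909844160901, 0, 39, 0x4a01004c01004e01, []⟩]

theorem t9_677_33 : jobs 8 S9 b8_677 j9_677_33 = true := by decide +kernel

noncomputable def j9_677_34 : List Job := [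
  ⟨29, 0x4703b180cc502b1008c361909844160901, 0, 29, 0x3601003801003a01, []⟩]

theorem t9_677_34 : jobs 8 S9 b8_677 j9_677_34 = true := by decide +kernel

noncomputable def j9_677_35 : List Job := [
  ⟨28, 0x6512a964ba61329a4de41229249a713a9e4fe110a8643a21128a45e01028241a311a8e47c703b180cc502b1008c361909844160901, 0, 33, 0x3e01004001004201, []⟩]

theorem t9_677_35 : jobs 8 S9 b8_677 j9_677_35 = true := by decide +kernel

noncomputable def j9_677_36 : List Job := [
  ⟨27, 0x6110a8643a21128a45e01028241a311a8e47c703b180cc502b1008c361909844160901, 0, 27, 0x3201003401003601, []⟩]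

theorem t9_677_36 : jobs 8 S9 b8_677 j9_677_36 = true := by decide +kernel

noncomputable def j9_677_37 : List Job := [
  ⟨26, 0x6110a8643a21128a45e01028241a311a8e47c703b180cc502b1008c361909844160901, 0, 27, 0x3201003401003601, []⟩]

theorem t9_677_37 : jobs 8 S9 b8_677 j9_677_37 = true := by decide +kernel

noncomputable def j9_677_38 : List Job := [
  ⟨25, 0x47639198c4562911884361909844160901, 0, 29, 0x3401003601003801003a01, []⟩]

theorem t9_677_38 : jobs 8 S9 b8_677 j9_677_38 = true := by decide +kernel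

noncomputable def j9_677_39 : List Job := [
  ⟨24, 0x6512a964ba61329a4de41229249a713a9e4fe110a8643a21128a45e01028241a311a8e47c7639198c4562911884361909844160901, 0, 34, 0x3401003601003801003a01003c01003e01004001, []⟩]

theorem t9_677_39 : jobs 8 S9 b8_677 j9_677_39 = true := by decide +kernel

noncomputable def j9_677_40 : List Job := [
  ⟨23, 0x47639198c4562911884361909844160901, 0, 19, 0x2201002401002601, []⟩]

theorem t9_677_40 : jobs 8 S9 b8_677 j9_677_40 = true := by decide +kernel

noncomputable def j9_677_41 : List Job := [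
  ⟨22, 0x6512a964ba61329a4de41229249a713a9e4fe110a8643a21128a45e01028241a311a8e47c7639198c4562911884361909844160901, 0, 32, 0x2801002a01002c01002e01003001003201003401, []⟩]

theorem t9_677_41 : jobs 8 S9 b8_677 j9_677_41 = true := by decide +kernel

noncomputable def j9_677_42 : List Job := [
  ⟨21, 0x47639198c4562911884361909844160901, 0, 19, 0x2201002401002601, []⟩]

theorem t9_677_42 : jobs 8 S9 b8_677 j9_677_42 = true := by decide +kernel

noncomputable def j9_677_43 : List Job := [
  ⟨20, 0x6512a964ba61329a4de41229249a713a9e4fe110a8643a21128a45e01028241a311a8e47c7639198c4562911884361909844160901, 0, 39, 0x2801002a01002c01004c01004e01, []⟩]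

theorem t9_677_43 : jobs 8 S9 b8_677 j9_677_43 = true := by decide +kernel

noncomputable def j9_677_44 : List Job := [
  ⟨19, 0x4703b180cc502b1008c361909844160901, 0, 16, 0x0, []⟩]

theorem t9_677_44 : jobs 8 S9 b8_677 j9_677_44 = true := by decide +kernel

noncomputable def j9_677_45 : List Job := [
  ⟨18, 0x4703b180cc502b1008c361909844160901, 0, 16, 0x0, []⟩]

theorem t9_677_45 : jobs 8 S9 b8_677 j9_677_45 = true := by decide +kernel

noncomputable def j9_677_46 : List Job := [
  ⟨17, 0x4703b180cc502b1008c361909844160901, 0, 20, 0x0, []⟩]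

theorem t9_677_46 : jobs 8 S9 b8_677 j9_677_46 = true := by decide +kernel

noncomputable def j9_677_47 : List Job := [
  ⟨16, 0x4703b180cc502b1008c361909844160901, 0, 14, 0x0, []⟩]

theorem t9_677_47 : jobs 8 S9 b8_677 j9_677_47 = true := by decide +kernel

noncomputable def j9_677_48 : List Job := [
  ⟨15, 0x4703b180cc502b1008c361909844160901, 0, 16, 0x0, []⟩]

theorem t9_677_48 : jobs 8 S9 b8_677 j9_677_48 = true := by decide +kernel

noncomputable def j9_677_49 : List Job := [
  ⟨14, 0x4703b180cc502b1008c361909844160901, 0, 10, 0x0, []⟩]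

theorem t9_677_49 : jobs 8 S9 b8_677 j9_677_49 = true := by decide +kernel

noncomputable def j9_677_50 : List Job := [
  ⟨13, 0x4703b180cc502b1008c361909844160901, 0, 10, 0x0, []⟩]

theorem t9_677_50 : jobs 8 S9 b8_677 j9_677_50 = true := by decide +kernel

noncomputable def j9_677_51 : List Job := [
  ⟨12, 0x47639198c4562911884361909844160901, 0, 16, 0x601000801, []⟩]

theorem t9_677_51 : jobs 8 S9 b8_677 j9_677_51 = true := by decide +kernel

noncomputable def j9_677_52 : List Job := [
  ⟨11, 0x47639198c4562911884361909844160901, 0, 15, 0x1c01001e01, []⟩]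

theorem t9_677_52 : jobs 8 S9 b8_677 j9_677_52 = true := by decide +kernel

noncomputable def j9_677_53 : List Job := [
  ⟨10, 0x47639198c4562911884361909844160901, 0, 23, 0x1601001801001a01001c01, []⟩]

theorem t9_677_53 : jobs 8 S9 b8_677 j9_677_53 = true := by decide +kernel

noncomputable def j9_677_54 : List Job := [
  ⟨9, 0x4783f1a0dc502b1008c3e1d0b854160901, 0, 24, 0x0, []⟩]

theorem t9_677_54 : jobs 8 S9 b8_677 j9_677_54 = true := by decide +kernel

noncomputable def j9_677_55 : List Job := [
  ⟨8, 0x4783f1a0dc502b1008c3e1d0b854160901, 0, 20, 0x0, []⟩]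

theorem t9_677_55 : jobs 8 S9 b8_677 j9_677_55 = true := by decide +kernel

noncomputable def j9_677_56 : List Job := [
  ⟨7, 0x4783f1a0dc502b1008c3e1d0b854160901, 0, 16, 0x0, []⟩]

theorem t9_677_56 : jobs 8 S9 b8_677 j9_677_56 = true := by decide +kernel

noncomputable def j9_677_57 : List Job := [
  ⟨6, 0x4783f1a0dc502b1008c3e1d0b854160901, 0, 16, 0x0, []⟩]

theorem t9_677_57 : jobs 8 S9 b8_677 j9_677_57 = true := by decide +kernel

noncomputable def j9_677_58 : List Job := [
  ⟨5, 0x4783f1a0dc502b1008c3e1d0b854160901, 0, 12, 0x0, []⟩]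

theorem t9_677_58 : jobs 8 S9 b8_677 j9_677_58 = true := by decide +kernel

noncomputable def j9_677_59 : List Job := [
  ⟨4, 0x4783f1a0dc502b1008c3e1d0b854160901, 0, 10, 0x0, []⟩]

theorem t9_677_59 : jobs 8 S9 b8_677 j9_677_59 = true := by decide +kernel

noncomputable def j9_677_60 : List Job := [
  ⟨3, 0x47e3d1b8d45629118843e1d0b854160901, 0, 14, 0x1601001801001a01001c01, []⟩]

theorem t9_677_60 : jobs 8 S9 b8_677 j9_677_60 = true := by decide +kernel

noncomputable def j9_677_61 : List Job := [
  ⟨2, 0x47e3d1b8d45629118843e1d0b854160901, 0, 23, 0x0, []⟩]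

theorem t9_677_61 : jobs 8 S9 b8_677 j9_677_61 = true := by decide +kernel

noncomputable def j9_677_62 : List Job := [
  ⟨1, 0x47e3d1b8d45629118843e1d0b854160901, 0, 20, 0x0, []⟩]

theorem t9_677_62 : jobs 8 S9 b8_677 j9_677_62 = true := by decide +kernel

noncomputable def j9_677_63 : List Job := [
  ⟨0, 0x4582f140ac48271008c180f05824080701, 0, 52, 0x0, []⟩]

theorem t9_677_63 : jobs 8 S9 b8_677 j9_677_63 = true := by decide +kernel

theorem d9_677 : Dn 8 S9 b8_677 := dn_of (Js := j9_677_0 ++ (j9_677_1 ++ (j9_677_2 ++ (j9_677_3 ++ (j9_677_4 ++ (j9_677_5 ++ (j9_677_6 ++ (j9_677_7 ++ (j9_677_8 ++ (j9_677_9 ++ (j9_677_10 ++ (j9_677_11 ++ (j9_677_12 ++ (j9_677_13 ++ (j9_677_14 ++ (j9_677_15 ++ (j9_677_16 ++ (j9_677_17 ++ (j9_677_18 ++ (j9_677_19 ++ (j9_677_20 ++ (j9_677_21 ++ (j9_677_22 ++ (j9_677_23 ++ (j9_677_24 ++ (j9_677_25 ++ (j9_677_26 ++ (j9_677_27 ++ (j9_677_28 ++ (j9_677_29 ++ (j9_677_30 ++ (j9_677_31 ++ (j9_677_32 ++ (j9_677_33 ++ (j9_677_34 ++ (j9_677_35 ++ (j9_677_36 ++ (j9_677_37 ++ (j9_677_38 ++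 (j9_677_39 ++ (j9_677_40 ++ (j9_677_41 ++ (j9_677_42 ++ (j9_677_43 ++ (j9_677_44 ++ (j9_677_45 ++ (j9_677_46 ++ (j9_677_47 ++ (j9_677_48 ++ (j9_677_49 ++ (j9_677_50 ++ (j9_677_51 ++ (j9_677_52 ++ (j9_677_53 ++ (j9_677_54 ++ (j9_677_55 ++ (j9_677_56 ++ (j9_677_57 ++ (j9_677_58 ++ (j9_677_59 ++ (j9_677_60 ++ (j9_677_61 ++ (j9_677_62 ++ (j9_677_63 ++ []))))))))))))))))))))))))))))))))))))))))))))))))))))))))))))))))
  (jobs_append t9_677_0 <| jobs_append t9_677_1 <| jobs_append t9_677_2 <| jobs_append t9_677_3 <| jobs_append t9_677_4 <| jobs_append t9_677_5 <| jobs_append t9_677_6 <| jobs_append t9_677_7 <| jobs_append t9_677_8 <| jobs_append t9_677_9 <| jobs_append t9_677_10 <| jobs_append t9_677_11 <| jobs_append t9_677_12 <| jobs_append t9_677_13 <| jobs_append t9_677_14 <| jobs_append t9_677_15 <| jobs_append t9_677_16 <| jobs_append t9_677_17 <| jobs_append t9_677_18 <| jobs_append t9_677_19 <| jobs_append t9_677_20 <| jobs_append t9_677_21 <| jobs_append t9_677_22 <| jobs_append t9_677_23 <| jobs_append t9_677_24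 <| jobs_append t9_677_25 <| jobs_append t9_677_26 <| jobs_append t9_677_27 <| jobs_append t9_677_28 <| jobs_append t9_677_29 <| jobs_append t9_677_30 <| jobs_append t9_677_31 <| jobs_append t9_677_32 <| jobs_append t9_677_33 <| jobs_append t9_677_34 <| jobs_append t9_677_35 <| jobs_append t9_677_36 <| jobs_append t9_677_37 <| jobs_append t9_677_38 <| jobs_append t9_677_39 <| jobs_append t9_677_40 <| jobs_append t9_677_41 <| jobs_append t9_677_42 <| jobs_append t9_677_43 <| jobs_append t9_677_44 <| jobs_append t9_677_45 <| jobs_append t9_677_46 <| jobs_append t9_677_47 <| jobs_append t9_677_48 <| jobs_append t9_677_49 <| jobs_append t9_677_50 <| jobs_append t9_677_51 <| jobs_append t9_677_52 <| jobs_append t9_677_53 <| jobs_append t9_677_54 <| jobs_append t9_677_55 <| jobs_append t9_677_56 <| jobs_append t9_677_57 <| jobs_append t9_677_58 <| jobs_append t9_677_59 <| jobs_append t9_677_60 <| jobs_append t9_677_61 <| jobs_append t9_677_62 <| jobs_append t9_677_63 <| List.forall_mem_nil _) (by decide +kernel)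

noncomputable def j9_678_0 : List Job := [
  ⟨61, 0x45439140ec4431100cc361909844160901, 0, 4, 0x201000401000601000801, []⟩]

theorem t9_678_0 : jobs 8 S9 b8_678 j9_678_0 = true := by decide +kernel

noncomputable def j9_678_1 : List Job := [
  ⟨60, 0x4543b140e44433100c4361909844160901, 0, 4, 0x0, []⟩]

theorem t9_678_1 : jobs 8 S9 b8_678 j9_678_1 = true := by decide +kernel

noncomputable def j9_678_2 : List Job := [
  ⟨59, 0x45439140ec4431100cc361909844160901, 0, 2, 0x201000401, []⟩]

theorem t9_678_2 : jobs 8 S9 b8_678 j9_678_2 = true := by decide +kernel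

noncomputable def j9_678_3 : List Job := [
  ⟨58, 0x4543b140e44433100c4361909844160901, 0, 14, 0x0, []⟩]

theorem t9_678_3 : jobs 8 S9 b8_678 j9_678_3 = true := by decide +kernel

noncomputable def j9_678_4 : List Job := [
  ⟨57, 0x6110a8643a311a8e47e01028241a21128a45c60321c0ec4022140ac361909844160901, 0, 4, 0x201000401000601000801, []⟩]

theorem t9_678_4 : jobs 8 S9 b8_678 j9_678_4 = true := by decide +kernel

noncomputable def j9_678_5 : List Job := [
  ⟨56, 0x64926944aa69369c4ee4122964ba61329e4fc60321c0ec4022140ac361909844160901, 0, 3, 0x201000401000601, []⟩]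

theorem t9_678_5 : jobs 8 S9 b8_678 j9_678_5 = true := by decide +kernel

noncomputable def j9_678_6 : List Job := [
  ⟨55, 0x6110a8643a311a8e47e01028241a21128a45c60321c0ec4022140ac361909844160901, 0, 3, 0x201000401000601, []⟩]

theorem t9_678_6 : jobs 8 S9 b8_678 j9_678_6 = true := by decide +kernel

noncomputable def j9_678_7 : List Job := [
  ⟨54, 0x460321c0ec4022140ac361909844160901, 0, 3, 0x201000401000601, []⟩]

theorem t9_678_7 : jobs 8 S9 b8_678 j9_678_7 = true := by decide +kernel

noncomputable def j9_678_8 : List Job := [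
  ⟨53, 0x64926944aa69369c4ee4122964ba61329e4fe110a8643a311a8e47e01028241a21128a45c60321c0ec4022140ac361909844160901, 0, 3, 0x201000401000601, []⟩]

theorem t9_678_8 : jobs 8 S9 b8_678 j9_678_8 = true := by decide +kernel

noncomputable def j9_678_9 : List Job := [
  ⟨52, 0x460321c0ec4022140ac361909844160901, 0, 3, 0x201000401000601, []⟩]

theorem t9_678_9 : jobs 8 S9 b8_678 j9_678_9 = true := by decide +kernel

noncomputable def j9_678_10 : List Job := [
  ⟨51, 0x64926944aa69369c4ee4122964ba61329e4fe110a8643a311a8e47e01028241a21128a45c60321c0ec4022140ac361909844160901, 0, 3, 0x201000401000601, []⟩]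

theorem t9_678_10 : jobs 8 S9 b8_678 j9_678_10 = true := by decide +kernel

noncomputable def j9_678_11 : List Job := [
  ⟨50, 0x6110a8643a311a8e47e01028241a21128a45c60321c0ec4022140ac361909844160901, 0, 4, 0x201000401000601000801, []⟩]

theorem t9_678_11 : jobs 8 S9 b8_678 j9_678_11 = true := by decide +kernel

noncomputable def j9_678_12 : List Job := [
  ⟨49, 0x6110a8643a311a8e47e01028241a21128a45c60321c0ec4022140ac361909844160901, 0, 3, 0x201000401000601, []⟩]

theorem t9_678_12 : jobs 8 S9 b8_678 j9_678_12 = true := by decide +kernel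

noncomputable def j9_678_13 : List Job := [
  ⟨48, 0x6110a8643a311a8e47e01028241a21128a45c60321c0ec4022140ac361909844160901, 0, 3, 0x201000401000601, []⟩]

theorem t9_678_13 : jobs 8 S9 b8_678 j9_678_13 = true := by decide +kernel

noncomputable def j9_678_14 : List Job := [
  ⟨47, 0x4643b180e4442b100a4361909844160901, 0, 4, 0x201000401000601000801, []⟩]

theorem t9_678_14 : jobs 8 S9 b8_678 j9_678_14 = true := by decide +kernel

noncomputable def j9_678_15 : List Job := [
  ⟨46, 0x64926944aa69369c4ee4122964ba61329e4fe110a8643a311a8e47e01028241a21128a45c643b180e4442b100a4361909844160901, 0, 4, 0x201000401000601000801, []⟩]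

theorem t9_678_15 : jobs 8 S9 b8_678 j9_678_15 = true := by decide +kernel

noncomputable def j9_678_16 : List Job := [
  ⟨45, 0x4643b180e4442b100a4361909844160901, 0, 3, 0x201000401000601, []⟩]

theorem t9_678_16 : jobs 8 S9 b8_678 j9_678_16 = true := by decide +kernel

noncomputable def j9_678_17 : List Job := [
  ⟨44, 0x64926944aa69369c4ee4122964ba61329e4fe110a8643a311a8e47e01028241a21128a45c643b180e4442b100a4361909844160901, 0, 13, 0x201000401000601000801001601001801001a01, []⟩]

theorem t9_678_17 : jobs 8 S9 b8_678 j9_678_17 = true := by decide +kernel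

noncomputable def j9_678_18 : List Job := [
  ⟨43, 0x4643b180e4442b100a4361909844160901, 0, 3, 0x201000401000601, []⟩]

theorem t9_678_18 : jobs 8 S9 b8_678 j9_678_18 = true := by decide +kernel

noncomputable def j9_678_19 : List Job := [
  ⟨42, 0x64926944aa69369c4ee4122964ba61329e4fe110a8643a311a8e47e01028241a21128a45c643b180e4442b100a4361909844160901, 0, 21, 0x201000401000601002801002a01, []⟩]

theorem t9_678_19 : jobs 8 S9 b8_678 j9_678_19 = true := by decide +kernel

noncomputable def j9_678_20 : List Job := [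
  ⟨41, 0x64122964ba61329e4fe01028241a21128a45c4826160bc4022140ac381f0a05c100b01, 0, 40, 0x203000401000603000803000a03000c01000e03001003001203001401001601001801001a03001c01001e01002001002203002401002603002803002a01002c03002e03003001003201003403003601003801003a01003c03003e01004003004201004401004601004801004a01004c01004e01005001, []⟩]

theorem t9_678_20 : jobs 8 S9 b8_678 j9_678_20 = true := by decide +kernel

noncomputable def j9_678_21 : List Job := [
  ⟨40, 0x64122964ba61329e4fe01028241a21128a45c4826160bc4022140ac381f0a05c100b01, 0, 40, 0x203000401000601000801000a03000c01000e01001001001203001401001601001801001a03001c01001e01002001002203002401002601002803002a01002c01002e03003001003201003403003601003801003a01003c01003e01004001004201004401004601004801004a01004c01004e01005001, []⟩]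

theorem t9_678_21 : jobs 8 S9 b8_678 j9_678_21 = true := by decide +kernel

noncomputable def j9_678_22 : List Job := [
  ⟨32, 0x4c468381ecc06a391e4a4592816c84492012c5439140ec4431100cc361909844160901, 0, 2, 0x0, []⟩]

theorem t9_678_22 : jobs 8 S9 b8_678 j9_678_22 = true := by decide +kernel

noncomputable def j9_678_23 : List Job := [
  ⟨31, 0x4c46a381e4c068391eca45b28164844b201245439140ec4431100cc361909844160901, 0, 4, 0x201000401000601000801, []⟩]

theorem t9_678_23 : jobs 8 S9 b8_678 j9_678_23 = true := by decide +kernel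

noncomputable def j9_678_24 : List Job := [
  ⟨30, 0x4c46a391ecc068381e4a45b28164844b20124543b140e44433100c4361909844160901, 0, 10, 0x0, []⟩]

theorem t9_678_24 : jobs 8 S9 b8_678 j9_678_24 = true := by decide +kernel

noncomputable def j9_678_25 : List Job := [
  ⟨20, 0x601028241a110a8643a21128a45a311a8e47c643b180e4442b100a4361909844160901, 0, 2, 0x0, []⟩]

theorem t9_678_25 : jobs 8 S9 b8_678 j9_678_25 = true := by decide +kernel

noncomputable def j9_678_26 : List Job := [
  ⟨18, 0x601028241a110a8643a21128a45a311a8e47c643b180e4442b100a4361909844160901, 0, 4, 0x201000401, []⟩]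

theorem t9_678_26 : jobs 8 S9 b8_678 j9_678_26 = true := by decide +kernel

noncomputable def j9_678_27 : List Job := [
  ⟨16, 0x601028241a110a8643a21128a45a311a8e47c643b180e4442b100a4361909844160901, 0, 14, 0x0, []⟩]

theorem t9_678_27 : jobs 8 S9 b8_678 j9_678_27 = true := by decide +kernel

noncomputable def j9_678_28 : List Job := [
  ⟨8, 0x601028241a110a8643a21128a45a311a8e47c643b180e4442b100a4361909844160901, 0, 4, 0x201000401, []⟩]

theorem t9_678_28 : jobs 8 S9 b8_678 j9_678_28 = true := by decide +kernel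

noncomputable def j9_678_29 : List Job := [
  ⟨6, 0x601028241a110a8643a21128a45a311a8e47c643b180e4442b100a4361909844160901, 0, 4, 0x201000401, []⟩]

theorem t9_678_29 : jobs 8 S9 b8_678 j9_678_29 = true := by decide +kernel

noncomputable def j9_678_30 : List Job := [
  ⟨4, 0x601028241a110a8643a21128a45a311a8e47c643b180e4442b100a4361909844160901, 0, 12, 0x0, []⟩]

theorem t9_678_30 : jobs 8 S9 b8_678 j9_678_30 = true := by decide +kernel

noncomputable def j9_678_31 : List Job := [
  ⟨3, 0x4d06a361b8f07a3e1fc804222118a0522a15c60321a0dc40221209c2e15098440e0501, 0, 8, 0x401000c01, []⟩]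

theorem t9_678_31 : jobs 8 S9 b8_678 j9_678_31 = true := by decide +kernel

noncomputable def j9_678_32 : List Job := [
  ⟨2, 0x601028241a110a8643a21128a45a311a8e47cd06a361b8f07a3e1fc804222118a0522a15c60321a0dc40221209c2e15098440e0501, 0, 8, 0x401, []⟩]

theorem t9_678_32 : jobs 8 S9 b8_678 j9_678_32 = true := by decide +kernel

noncomputable def j9_678_33 : List Job := [
  ⟨1, 0x4d06a361b8f07a3e1fc804222118a0522a15c60321a0dc40221209c2e15098440e0501, 0, 8, 0x401000c01, []⟩]

theorem t9_678_33 : jobs 8 S9 b8_678 j9_678_33 = true := by decide +kernel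

noncomputable def j9_678_34 : List Job := [
  ⟨0, 0x601028241a110a8643a21128a45a311a8e47cd06a361b8f07a3e1fc804222118a0522a15c60321a0dc40221209c2e15098440e0501, 0, 8, 0x401, []⟩]

theorem t9_678_34 : jobs 8 S9 b8_678 j9_678_34 = true := by decide +kernel

theorem d9_678 : Dn 8 S9 b8_678 := dn_of (Js := j9_678_0 ++ (j9_678_1 ++ (j9_678_2 ++ (j9_678_3 ++ (j9_678_4 ++ (j9_678_5 ++ (j9_678_6 ++ (j9_678_7 ++ (j9_678_8 ++ (j9_678_9 ++ (j9_678_10 ++ (j9_678_11 ++ (j9_678_12 ++ (j9_678_13 ++ (j9_678_14 ++ (j9_678_15 ++ (j9_678_16 ++ (j9_678_17 ++ (j9_678_18 ++ (j9_678_19 ++ (j9_678_20 ++ (j9_678_21 ++ (j9_678_22 ++ (j9_678_23 ++ (j9_678_24 ++ (j9_678_25 ++ (j9_678_26 ++ (j9_678_27 ++ (j9_678_28 ++ (j9_678_29 ++ (j9_678_30 ++ (j9_678_31 ++ (j9_678_32 ++ (j9_678_33 ++ (j9_678_34 ++ [])))))))))))))))))))))))))))))))))))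
  (jobs_append t9_678_0 <| jobs_append t9_678_1 <| jobs_append t9_678_2 <| jobs_append t9_678_3 <| jobs_append t9_678_4 <| jobs_append t9_678_5 <| jobs_append t9_678_6 <| jobs_append t9_678_7 <| jobs_append t9_678_8 <| jobs_append t9_678_9 <| jobs_append t9_678_10 <| jobs_append t9_678_11 <| jobs_append t9_678_12 <| jobs_append t9_678_13 <| jobs_append t9_678_14 <| jobs_append t9_678_15 <| jobs_append t9_678_16 <| jobs_append t9_678_17 <| jobs_append t9_678_18 <| jobs_append t9_678_19 <| jobs_append t9_678_20 <| jobs_append t9_678_21 <| jobs_append t9_678_22 <| jobs_append t9_678_23 <| jobs_append t9_678_24 <| jobs_append t9_678_25 <| jobs_append t9_678_26 <| jobs_append t9_678_27 <| jobs_append t9_678_28 <| jobs_append t9_678_29 <| jobs_append t9_678_30 <| jobs_append t9_678_31 <| jobs_append t9_678_32 <| jobs_append t9_678_33 <| jobs_append t9_678_34 <| List.forall_mem_nil _) (by decide +kernel)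

noncomputable def j9_679_0 : List Job := [
  ⟨60, 0x601028241a110a8643a21128a45a311a8e47c643b180e4442b100a4361909844160901, 0, 4, 0x201000401, []⟩]

theorem t9_679_0 : jobs 8 S9 b8_679 j9_679_0 = true := by decide +kernel

noncomputable def j9_679_1 : List Job := [
  ⟨58, 0x601028241a110a8643a21128a45a311a8e47c643b180e4442b100a4361909844160901, 0, 20, 0x0, []⟩]

theorem t9_679_1 : jobs 8 S9 b8_679 j9_679_1 = true := by decide +kernel

noncomputable def j9_679_2 : List Job := [
  ⟨57, 0x4c06232198e0723a1dc984e2e17c80422814c60321a0dc40221209c381f09844180f01, 0, 128, 0x20300220300420300620300820300a20300c20300e203, []⟩]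

theorem t9_679_2 : jobs 8 S9 b8_679 j9_679_2 = true := by decide +kernel

noncomputable def j9_679_3 : List Job := [
  ⟨56, 0x601028241a110a8643a21128a45a311a8e47cc06232198e0723a1dc984e2e17c80422814c60321a0dc40221209c381f09844180f01, 0, 128, 0x20300220300420300620300820300a20300c20300e203, []⟩]

theorem t9_679_3 : jobs 8 S9 b8_679 j9_679_3 = true := by decide +kernel

noncomputable def j9_679_4 : List Job := [
  ⟨55, 0x4c06232198e0723a1dc984e2e17c84512014c60321a0dc40221209c381f09844180f01, 0, 80, 0x203001e03003a03005203006e03008a03, []⟩]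

theorem t9_679_4 : jobs 8 S9 b8_679 j9_679_4 = true := by decide +kernel

noncomputable def j9_679_5 : List Job := [
  ⟨54, 0x601028241a110a8643a21128a45a311a8e47cc06232198e0723a1dc984e2e17c84512014c60321a0dc40221209c381f09844180f01, 0, 80, 0x203001e03003a03005203006e03008a03, []⟩]

theorem t9_679_5 : jobs 8 S9 b8_679 j9_679_5 = true := by decide +kernel

noncomputable def j9_679_6 : List Job := [
  ⟨53, 0x4c06232198e0723a1dc984e2e17c84532014460321a0dc40221209c381f09844180f01, 0, 80, 0x203001e03003a03005203006e03008a03, []⟩]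

theorem t9_679_6 : jobs 8 S9 b8_679 j9_679_6 = true := by decide +kernel

noncomputable def j9_679_7 : List Job := [
  ⟨52, 0x601028241a110a8643a21128a45a311a8e47cc06232198e0723a1dc984e2e17c84532014460321a0dc40221209c381f09844180f01, 0, 80, 0x203001e03003a03005203006e03008a03, []⟩]

theorem t9_679_7 : jobs 8 S9 b8_679 j9_679_7 = true := by decide +kernel

noncomputable def j9_679_8 : List Job := [
  ⟨51, 0x4d06a361b8f07a3e1fcc06232198e0723a1dc984e2e17c88462a15c361909844160901, 0, 20, 0x0, []⟩]

theorem t9_679_8 : jobs 8 S9 b8_679 j9_679_8 = true := by decide +kernel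

noncomputable def j9_679_9 : List Job := [
  ⟨50, 0x601028241a110a8643a21128a45a311a8e47cd06a361b8f07a3e1fcc06232198e0723a1dc984e2e17c88462a15c361909844160901, 0, 20, 0x0, []⟩]

theorem t9_679_9 : jobs 8 S9 b8_679 j9_679_9 = true := by decide +kernel

noncomputable def j9_679_10 : List Job := [
  ⟨49, 0x4d06a361b8f07a3e1fcc06232198e0723a1dc984e2e17c88462a15c361909844160901, 0, 20, 0x0, []⟩]

theorem t9_679_10 : jobs 8 S9 b8_679 j9_679_10 = true := by decide +kernel

noncomputable def j9_679_11 : List Job := [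
  ⟨48, 0x601028241a110a8643a21128a45a311a8e47cd06a361b8f07a3e1fcc06232198e0723a1dc984e2e17c88462a15c361909844160901, 0, 20, 0x0, []⟩]

theorem t9_679_11 : jobs 8 S9 b8_679 j9_679_11 = true := by decide +kernel

noncomputable def j9_679_12 : List Job := [
  ⟨47, 0x4d06a361b8f07a3e1fcc06232198e0723a1dc984e2e17c88462a15c361909844160901, 0, 32, 0x0, []⟩]

theorem t9_679_12 : jobs 8 S9 b8_679 j9_679_12 = true := by decide +kernel

noncomputable def j9_679_13 : List Job := [
  ⟨46, 0x601028241a110a8643a21128a45a311a8e47cd06a361b8f07a3e1fcc06232198e0723a1dc984e2e17c88462a15c361909844160901, 0, 32, 0x0, []⟩]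

theorem t9_679_13 : jobs 8 S9 b8_679 j9_679_13 = true := by decide +kernel

noncomputable def j9_679_14 : List Job := [
  ⟨45, 0x4904a2c16c80422814c361909844160901, 0, 32, 0x0, []⟩]

theorem t9_679_14 : jobs 8 S9 b8_679 j9_679_14 = true := by decide +kernel

noncomputable def j9_679_15 : List Job := [
  ⟨44, 0x601028241a110a8643a21128a45a311a8e47c904a2c16c80422814c361909844160901, 0, 32, 0x0, []⟩]

theorem t9_679_15 : jobs 8 S9 b8_679 j9_679_15 = true := by decide +kernel

noncomputable def j9_679_16 : List Job := [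
  ⟨43, 0x494592416c84512014c361909844160901, 0, 20, 0x0, []⟩]

theorem t9_679_16 : jobs 8 S9 b8_679 j9_679_16 = true := by decide +kernel

noncomputable def j9_679_17 : List Job := [
  ⟨42, 0x601028241a110a8643a21128a45a311a8e47c94592416c84512014c361909844160901, 0, 20, 0x0, []⟩]

theorem t9_679_17 : jobs 8 S9 b8_679 j9_679_17 = true := by decide +kernel

noncomputable def j9_679_18 : List Job := [
  ⟨41, 0x4945b24164845320144361909844160901, 0, 20, 0x0, []⟩]

theorem t9_679_18 : jobs 8 S9 b8_679 j9_679_18 = true := by decide +kernel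

noncomputable def j9_679_19 : List Job := [
  ⟨40, 0x601028241a110a8643a21128a45a311a8e47c945b24164845320144361909844160901, 0, 20, 0x0, []⟩]

theorem t9_679_19 : jobs 8 S9 b8_679 j9_679_19 = true := by decide +kernel

noncomputable def j9_679_20 : List Job := [
  ⟨39, 0x4984e2e17c88462a15c703a1e0fc60321a0dc502a160bc40221209c361909844160901, 0, 20, 0x0, []⟩]

theorem t9_679_20 : jobs 8 S9 b8_679 j9_679_20 = true := by decide +kernel

noncomputable def j9_679_21 : List Job := [
  ⟨38, 0x601028241a110a8643a21128a45a311a8e47c984e2e17c88462a15c703a1e0fc60321a0dc502a160bc40221209c361909844160901, 0, 20, 0x0, []⟩]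

theorem t9_679_21 : jobs 8 S9 b8_679 j9_679_21 = true := by decide +kernel

noncomputable def j9_679_22 : List Job := [
  ⟨37, 0x4984e2e17c88462a15c703a1e0fc60321a0dc502a160bc40221209c361909844160901, 0, 20, 0x0, []⟩]

theorem t9_679_22 : jobs 8 S9 b8_679 j9_679_22 = true := by decide +kernel

noncomputable def j9_679_23 : List Job := [
  ⟨36, 0x601028241a110a8643a21128a45a311a8e47c984e2e17c88462a15c703a1e0fc60321a0dc502a160bc40221209c361909844160901, 0, 20, 0x0, []⟩]

theorem t9_679_23 : jobs 8 S9 b8_679 j9_679_23 = true := by decide +kernel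

noncomputable def j9_679_24 : List Job := [
  ⟨35, 0x4984e2e17c88462a15c703a1e0fc60321a0dc502a160bc40221209c361909844160901, 0, 32, 0x0, []⟩]

theorem t9_679_24 : jobs 8 S9 b8_679 j9_679_24 = true := by decide +kernel

noncomputable def j9_679_25 : List Job := [
  ⟨34, 0x601028241a110a8643a21128a45a311a8e47c984e2e17c88462a15c703a1e0fc60321a0dc502a160bc40221209c361909844160901, 0, 32, 0x0, []⟩]

theorem t9_679_25 : jobs 8 S9 b8_679 j9_679_25 = true := by decide +kernel

noncomputable def j9_679_26 : List Job := [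
  ⟨33, 0x4d06a361b8f07a3e1fcc06232198e0723a1dc904a2c16c80422814c703a1e0fc60321a0dc502a160bc40221209c361909844160901, 0, 32, 0x0, []⟩]

theorem t9_679_26 : jobs 8 S9 b8_679 j9_679_26 = true := by decide +kernel

noncomputable def j9_679_27 : List Job := [
  ⟨32, 0x601028241a110a8643a21128a45a311a8e47cd06a361b8f07a3e1fcc06232198e0723a1dc904a2c16c80422814c703a1e0fc60321a0dc502a160bc40221209c361909844160901, 0, 32, 0x0, []⟩]

theorem t9_679_27 : jobs 8 S9 b8_679 j9_679_27 = true := by decide +kernel

noncomputable def j9_679_28 : List Job := [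
  ⟨31, 0x4d06a361b8f07a3e1fcc06232198e0723a1dc94592416c84512014c703a1e0fc60321a0dc502a160bc40221209c361909844160901, 0, 20, 0x0, []⟩]

theorem t9_679_28 : jobs 8 S9 b8_679 j9_679_28 = true := by decide +kernel

noncomputable def j9_679_29 : List Job := [
  ⟨30, 0x601028241a110a8643a21128a45a311a8e47cd06a361b8f07a3e1fcc06232198e0723a1dc94592416c84512014c703a1e0fc60321a0dc502a160bc40221209c361909844160901, 0, 28, 0x2a01, []⟩]

theorem t9_679_29 : jobs 8 S9 b8_679 j9_679_29 = true := by decide +kernel

noncomputable def j9_679_30 : List Job := [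
  ⟨29, 0x4d06a361b8f07a3e1fcc06232198e0723a1dc945b24164845320144703a1e0fc60321a0dc502a160bc40221209c361909844160901, 0, 20, 0x0, []⟩]

theorem t9_679_30 : jobs 8 S9 b8_679 j9_679_30 = true := by decide +kernel

noncomputable def j9_679_31 : List Job := [
  ⟨28, 0x601028241a110a8643a21128a45a311a8e47cd06a361b8f07a3e1fcc06232198e0723a1dc945b24164845320144703a1e0fc60321a0dc502a160bc40221209c361909844160901, 0, 50, 0x2a08003608003e00004209004e09005600, [(42, ⟨2111, 0x23001480049400120001000080040c01010040001, 0x18c220a424040400c02⟩), (30, ⟨2110, 0x23001480049400120001000080040c01010040001, 0x18c220a424040400c02⟩)]⟩]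

theorem t9_679_31 : jobs 8 S9 b8_679 j9_679_31 = true := by decide +kernel

noncomputable def j9_679_32 : List Job := [
  ⟨27, 0x4d06a361b8f07a3e1fc88462a15c80422814c60321a0dc40221209c2e15098440e0501, 0, 32, 0x0, []⟩]

theorem t9_679_32 : jobs 8 S9 b8_679 j9_679_32 = true := by decide +kernel

noncomputable def j9_679_33 : List Job := [
  ⟨26, 0x601028241a110a8643a21128a45a311a8e47cd06a361b8f07a3e1fc88462a15c80422814c60321a0dc40221209c2e15098440e0501, 0, 32, 0x0, []⟩]

theorem t9_679_33 : jobs 8 S9 b8_679 j9_679_33 = true := by decide +kernel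

noncomputable def j9_679_34 : List Job := [
  ⟨25, 0x4d06a361b8f07a3e1fc88462a15c80422814c60321a0dc40221209c2e15098440e0501, 0, 32, 0x0, []⟩]

theorem t9_679_34 : jobs 8 S9 b8_679 j9_679_34 = true := by decide +kernel

noncomputable def j9_679_35 : List Job := [
  ⟨24, 0x601028241a110a8643a21128a45a311a8e47cd06a361b8f07a3e1fc88462a15c80422814c60321a0dc40221209c2e15098440e0501, 0, 32, 0x0, []⟩]

theorem t9_679_35 : jobs 8 S9 b8_679 j9_679_35 = true := by decide +kernel

noncomputable def j9_679_36 : List Job := [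
  ⟨23, 0x4d06a361b8f07a3e1fc88462a15c80422814c60321a0dc40221209c2e15098440e0501, 0, 32, 0x0, []⟩]

theorem t9_679_36 : jobs 8 S9 b8_679 j9_679_36 = true := by decide +kernel

noncomputable def j9_679_37 : List Job := [
  ⟨22, 0x601028241a110a8643a21128a45a311a8e47cd06a361b8f07a3e1fc88462a15c80422814c60321a0dc40221209c2e15098440e0501, 0, 32, 0x0, []⟩]

theorem t9_679_37 : jobs 8 S9 b8_679 j9_679_37 = true := by decide +kernel

noncomputable def j9_679_38 : List Job := [
  ⟨21, 0x4d06a361b8f07a3e1fc88462a15c80422814c60321a0dc40221209c2e15098440e0501, 0, 32, 0x0, []⟩]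

theorem t9_679_38 : jobs 8 S9 b8_679 j9_679_38 = true := by decide +kernel

noncomputable def j9_679_39 : List Job := [
  ⟨20, 0x601028241a110a8643a21128a45a311a8e47cd06a361b8f07a3e1fc88462a15c80422814c60321a0dc40221209c2e15098440e0501, 0, 32, 0x0, []⟩]

theorem t9_679_39 : jobs 8 S9 b8_679 j9_679_39 = true := by decide +kernel

noncomputable def j9_679_40 : List Job := [
  ⟨19, 0x4c466391dcc064381d488462a15c80422814c60321a0dc40221209c2e15098440e0501, 0, 32, 0x0, []⟩]

theorem t9_679_40 : jobs 8 S9 b8_679 j9_679_40 = true := by decide +kernel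

noncomputable def j9_679_41 : List Job := [
  ⟨18, 0x601028241a110a8643a21128a45a311a8e47cc466391dcc064381d488462a15c80422814c60321a0dc40221209c2e15098440e0501, 0, 32, 0x0, []⟩]

theorem t9_679_41 : jobs 8 S9 b8_679 j9_679_41 = true := by decide +kernel

noncomputable def j9_679_42 : List Job := [
  ⟨17, 0x4c464391d4c066381dc8c552215c84512014c60321a0dc40221209c2e15098440e0501, 0, 24, 0x0, []⟩]

theorem t9_679_42 : jobs 8 S9 b8_679 j9_679_42 = true := by decide +kernel

noncomputable def j9_679_43 : List Job := [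
  ⟨16, 0x601028241a110a8643a21128a45a311a8e47cc464391d4c066381dc8c552215c84512014c60321a0dc40221209c2e15098440e0501, 0, 24, 0x0, []⟩]

theorem t9_679_43 : jobs 8 S9 b8_679 j9_679_43 = true := by decide +kernel

noncomputable def j9_679_44 : List Job := [
  ⟨15, 0x4c464381dcc066391d48c572215484532014460321a0dc40221209c2e15098440e0501, 0, 24, 0x0, []⟩]

theorem t9_679_44 : jobs 8 S9 b8_679 j9_679_44 = true := by decide +kernel

noncomputable def j9_679_45 : List Job := [
  ⟨14, 0x601028241a110a8643a21128a45a311a8e47cc464381dcc066391d48c572215484532014460321a0dc40221209c2e15098440e0501, 0, 24, 0x0, []⟩]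

theorem t9_679_45 : jobs 8 S9 b8_679 j9_679_45 = true := by decide +kernel

noncomputable def j9_679_46 : List Job := [
  ⟨13, 0x4c464381dcc066391d488462a15c80422814c6437180d44427100942e15098440e0501, 0, 32, 0x202000e02001202001e02002202002e02003202003e02, []⟩]

theorem t9_679_46 : jobs 8 S9 b8_679 j9_679_46 = true := by decide +kernel

noncomputable def j9_679_47 : List Job := [
  ⟨12, 0x601028241a110a8643a21128a45a311a8e47cc464381dcc066391d488462a15c80422814c6437180d44427100942e15098440e0501, 0, 32, 0x202000e02001202001e02002202002e02003202003e02, []⟩]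

theorem t9_679_47 : jobs 8 S9 b8_679 j9_679_47 = true := by decide +kernel

noncomputable def j9_679_48 : List Job := [
  ⟨11, 0x4c466381d4c064391dc8c552215c84512014c6437180d44427100942e15098440e0501, 0, 24, 0x202000e02001602001a02002602002e02, []⟩]

theorem t9_679_48 : jobs 8 S9 b8_679 j9_679_48 = true := by decide +kernel

noncomputable def j9_679_49 : List Job := [
  ⟨10, 0x601028241a110a8643a21128a45a311a8e47cc466381d4c064391dc8c552215c84512014c6437180d44427100942e15098440e0501, 0, 30, 0x202000e02001602001a02002602002e02, []⟩]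

theorem t9_679_49 : jobs 8 S9 b8_679 j9_679_49 = true := by decide +kernel

noncomputable def j9_679_50 : List Job := [
  ⟨9, 0x4c466391dcc064381d48c57221548453201446437180d44427100942e15098440e0501, 0, 24, 0x202000e02001602001a02002602002e02, []⟩]

theorem t9_679_50 : jobs 8 S9 b8_679 j9_679_50 = true := by decide +kernel

noncomputable def j9_679_51 : List Job := [
  ⟨8, 0x601028241a110a8643a21128a45a311a8e47cc466391dcc064381d48c57221548453201446437180d44427100942e15098440e0501, 0, 50, 0x202000e02001602001a02002602002e02, []⟩]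

theorem t9_679_51 : jobs 8 S9 b8_679 j9_679_51 = true := by decide +kernel

theorem d9_679 : Dn 8 S9 b8_679 := dn_of (Js := j9_679_0 ++ (j9_679_1 ++ (j9_679_2 ++ (j9_679_3 ++ (j9_679_4 ++ (j9_679_5 ++ (j9_679_6 ++ (j9_679_7 ++ (j9_679_8 ++ (j9_679_9 ++ (j9_679_10 ++ (j9_679_11 ++ (j9_679_12 ++ (j9_679_13 ++ (j9_679_14 ++ (j9_679_15 ++ (j9_679_16 ++ (j9_679_17 ++ (j9_679_18 ++ (j9_679_19 ++ (j9_679_20 ++ (j9_679_21 ++ (j9_679_22 ++ (j9_679_23 ++ (j9_679_24 ++ (j9_679_25 ++ (j9_679_26 ++ (j9_679_27 ++ (j9_679_28 ++ (j9_679_29 ++ (j9_679_30 ++ (j9_679_31 ++ (j9_679_32 ++ (j9_679_33 ++ (j9_679_34 ++ (j9_679_35 ++ (j9_679_36 ++ (j9_679_37 ++ (j9_679_38 ++ (j9_679_39 ++ (j9_679_40 ++ (j9_679_41 ++ (j9_679_42 ++ (j9_679_43 ++ (j9_679_44 ++ (j9_679_45 ++ (j9_679_46 ++ (j9_679_47 ++ (j9_679_48 ++ (j9_679_49 ++ (j9_679_50 ++ (j9_679_51 ++ []))))))))))))))))))))))))))))))))))))))))))))))))))))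
  (jobs_append t9_679_0 <| jobs_append t9_679_1 <| jobs_append t9_679_2 <| jobs_append t9_679_3 <| jobs_append t9_679_4 <| jobs_append t9_679_5 <| jobs_append t9_679_6 <| jobs_append t9_679_7 <| jobs_append t9_679_8 <| jobs_append t9_679_9 <| jobs_append t9_679_10 <| jobs_append t9_679_11 <| jobs_append t9_679_12 <| jobs_append t9_679_13 <| jobs_append t9_679_14 <| jobs_append t9_679_15 <| jobs_append t9_679_16 <| jobs_append t9_679_17 <| jobs_append t9_679_18 <| jobs_append t9_679_19 <| jobs_append t9_679_20 <| jobs_append t9_679_21 <| jobs_append t9_679_22 <| jobs_append t9_679_23 <| jobs_append t9_679_24 <| jobs_append t9_679_25 <| jobs_append t9_679_26 <| jobs_append t9_679_27 <| jobs_append t9_679_28 <| jobs_append t9_679_29 <| jobs_append t9_679_30 <| jobs_append t9_679_31 <| jobs_append t9_679_32 <| jobs_append t9_679_33 <| jobs_append t9_679_34 <| jobs_append t9_679_35 <| jobs_append t9_679_36 <| jobs_append t9_679_37 <| jobs_append t9_679_38 <| jobs_append t9_679_39 <| jobs_append t9_679_40 <| jobs_append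 t9_679_41 <| jobs_append t9_679_42 <| jobs_append t9_679_43 <| jobs_append t9_679_44 <| jobs_append t9_679_45 <| jobs_append t9_679_46 <| jobs_append t9_679_47 <| jobs_append t9_679_48 <| jobs_append t9_679_49 <| jobs_append t9_679_50 <| jobs_append t9_679_51 <| List.forall_mem_nil _) (by decide +kernel)

noncomputable def j9_680_0 : List Job := [
  ⟨63, 0x64926964ba61329c4ee4122944aa69369e4fe09068643a29168e47c904a26138b05a2e17c804222118a0522a15c361909844160901, 0, 32, 0x0, []⟩]

theorem t9_680_0 : jobs 8 S9 b8_680 j9_680_0 = true := by decide +kernel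

noncomputable def j9_680_1 : List Job := [
  ⟨62, 0x6050a8946e010888464904a26138b05a2e17c804222118a0522a15c361909844160901, 0, 32, 0x0, []⟩]

theorem t9_680_1 : jobs 8 S9 b8_680 j9_680_1 = true := by decide +kernel

noncomputable def j9_680_2 : List Job := [
  ⟨61, 0x609068643a29168e47c703a1e0fc60321a0dc502a160bc40221209c361909844160901, 0, 32, 0x0, []⟩]

theorem t9_680_2 : jobs 8 S9 b8_680 j9_680_2 = true := by decide +kernel

noncomputable def j9_680_3 : List Job := [
  ⟨60, 0x64926964ba61329c4ee4122944aa69369e4fe050a8846601088946c703a1e0fc60321a0dc502a160bc40221209c361909844160901, 0, 32, 0x0, []⟩]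

theorem t9_680_3 : jobs 8 S9 b8_680 j9_680_3 = true := by decide +kernel

noncomputable def j9_680_4 : List Job := [
  ⟨59, 0x609068643a29168e47c703a1e0fc60321a0dc502a160bc40221209c361909844160901, 0, 32, 0x0, []⟩]

theorem t9_680_4 : jobs 8 S9 b8_680 j9_680_4 = true := by decide +kernel

noncomputable def j9_680_5 : List Job := [
  ⟨58, 0x64926964ba61329c4ee4122944aa69369e4fe050a8946e010888464703a1e0fc60321a0dc502a160bc40221209c361909844160901, 0, 32, 0x0, []⟩]

theorem t9_680_5 : jobs 8 S9 b8_680 j9_680_5 = true := by decide +kernel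

noncomputable def j9_680_6 : List Job := [
  ⟨57, 0x609068643a29168e47c703a1e0fc60321a0dc502a160bc40221209c361909844160901, 0, 32, 0x0, []⟩]

theorem t9_680_6 : jobs 8 S9 b8_680 j9_680_6 = true := by decide +kernel

noncomputable def j9_680_7 : List Job := [
  ⟨56, 0x64926964ba61329c4ee4122944aa69369e4fe050a8846601088946c703a1e0fc60321a0dc502a160bc40221209c361909844160901, 0, 32, 0x0, []⟩]

theorem t9_680_7 : jobs 8 S9 b8_680 j9_680_7 = true := by decide +kernel

noncomputable def j9_680_8 : List Job := [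
  ⟨55, 0x609068643a29168e47c703a1e0fc60321a0dc502a160bc40221209c361909844160901, 0, 32, 0x0, []⟩]

theorem t9_680_8 : jobs 8 S9 b8_680 j9_680_8 = true := by decide +kernel

noncomputable def j9_680_9 : List Job := [
  ⟨54, 0x64926964ba61329c4ee4122944aa69369e4fe050a8946e010888464703a1e0fc60321a0dc502a160bc40221209c361909844160901, 0, 32, 0x0, []⟩]

theorem t9_680_9 : jobs 8 S9 b8_680 j9_680_9 = true := by decide +kernel

noncomputable def j9_680_10 : List Job := [
  ⟨53, 0x609068643a29168e47c904a26138b05a2e17c804222118a0522a15c703a1e0fc60321a0dc502a160bc40221209c361909844160901, 0, 32, 0x0, []⟩]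

theorem t9_680_10 : jobs 8 S9 b8_680 j9_680_10 = true := by decide +kernel

noncomputable def j9_680_11 : List Job := [
  ⟨52, 0x64926964ba61329c4ee4122944aa69369e4fe050a8846601088946c904a26138b05a2e17c804222118a0522a15c703a1e0fc60321a0dc502a160bc40221209c361909844160901, 0, 38, 0x4a01004c01, []⟩]

theorem t9_680_11 : jobs 8 S9 b8_680 j9_680_11 = true := by decide +kernel

noncomputable def j9_680_12 : List Job := [
  ⟨51, 0x609068643a29168e47c904a26138b05a2e17c804222118a0522a15c703a1e0fc60321a0dc502a160bc40221209c361909844160901, 0, 32, 0x0, []⟩]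

theorem t9_680_12 : jobs 8 S9 b8_680 j9_680_12 = true := by decide +kernel

noncomputable def j9_680_13 : List Job := [
  ⟨50, 0x64926964ba61329c4ee4122944aa69369e4fe050a8946e010888464904a26138b05a2e17c804222118a0522a15c703a1e0fc60321a0dc502a160bc40221209c361909844160901, 0, 38, 0x4201004a01, []⟩]

theorem t9_680_13 : jobs 8 S9 b8_680 j9_680_13 = true := by decide +kernel

noncomputable def j9_680_14 : List Job := [
  ⟨49, 0x609068643a29168e47c904a26138b05a2e17c804222118a0522a15c703a1e0fc60321a0dc502a160bc40221209c361909844160901, 0, 32, 0x0, []⟩]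

theorem t9_680_14 : jobs 8 S9 b8_680 j9_680_14 = true := by decide +kernel

noncomputable def j9_680_15 : List Job := [
  ⟨48, 0x64926964ba61329c4ee4122944aa69369e4fe050a8846601088946c904a26138b05a2e17c804222118a0522a15c703a1e0fc60321a0dc502a160bc40221209c361909844160901, 0, 38, 0x4401004601004a01004c01, []⟩]

theorem t9_680_15 : jobs 8 S9 b8_680 j9_680_15 = true := by decide +kernel

noncomputable def j9_680_16 : List Job := [
  ⟨47, 0x609068643a29168e47c904a26138b05a2e17c804222118a0522a15c703a1e0fc60321a0dc502a160bc40221209c361909844160901, 0, 32, 0x0, []⟩]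

theorem t9_680_16 : jobs 8 S9 b8_680 j9_680_16 = true := by decide +kernel

noncomputable def j9_680_17 : List Job := [
  ⟨46, 0x64926964ba61329c4ee4122944aa69369e4fe050a8946e010888464904a26138b05a2e17c804222118a0522a15c703a1e0fc60321a0dc502a160bc40221209c361909844160901, 0, 72, 0x4218004611005218005619006210006611007210007611008201008601008a01008e01, []⟩]

theorem t9_680_17 : jobs 8 S9 b8_680 j9_680_17 = true := by decide +kernel

noncomputable def j9_680_18 : List Job := [
  ⟨45, 0x64926964ba61329c4ee4122944aa69369e4fc804222118a0522a15c60321a0dc40221209c2e15098440e0501, 0, 32, 0x0, []⟩]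

theorem t9_680_18 : jobs 8 S9 b8_680 j9_680_18 = true := by decide +kernel

noncomputable def j9_680_19 : List Job := [
  ⟨44, 0x609068643a29168e47e01028442a21128c46c804222118a0522a15c60321a0dc40221209c2e15098440e0501, 0, 32, 0x0, []⟩]

theorem t9_680_19 : jobs 8 S9 b8_680 j9_680_19 = true := by decide +kernel

noncomputable def j9_680_20 : List Job := [
  ⟨43, 0x64926964ba61329c4ee4122944aa69369e4fc804222118a0522a15c60321a0dc40221209c2e15098440e0501, 0, 32, 0x0, []⟩]

theorem t9_680_20 : jobs 8 S9 b8_680 j9_680_20 = true := by decide +kernel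

noncomputable def j9_680_21 : List Job := [
  ⟨42, 0x609068643a29168e47e01028442a21128c46c804222118a0522a15c60321a0dc40221209c2e15098440e0501, 0, 32, 0x0, []⟩]

theorem t9_680_21 : jobs 8 S9 b8_680 j9_680_21 = true := by decide +kernel

noncomputable def j9_680_22 : List Job := [
  ⟨41, 0x64926964ba61329c4ee4122944aa69369e4fc84462815480442915c60321a0dc40221209c2e15098440e0501, 0, 32, 0x0, []⟩]

theorem t9_680_22 : jobs 8 S9 b8_680 j9_680_22 = true := by decide +kernel

noncomputable def j9_680_23 : List Job := [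
  ⟨40, 0x609068643a29168e47e01028442a21128c46c84462815480442915c60321a0dc40221209c2e15098440e0501, 0, 32, 0x0, []⟩]

theorem t9_680_23 : jobs 8 S9 b8_680 j9_680_23 = true := by decide +kernel

noncomputable def j9_680_24 : List Job := [
  ⟨39, 0x64926964ba61329c4ee4122944aa69369e4fc84462915c80442815460321a0dc40221209c2e15098440e0501, 0, 32, 0x0, []⟩]

theorem t9_680_24 : jobs 8 S9 b8_680 j9_680_24 = true := by decide +kernel

noncomputable def j9_680_25 : List Job := [
  ⟨38, 0x609068643a29168e47e01028442a21128c46c84462915c80442815460321a0dc40221209c2e15098440e0501, 0, 32, 0x0, []⟩]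

theorem t9_680_25 : jobs 8 S9 b8_680 j9_680_25 = true := by decide +kernel

noncomputable def j9_680_26 : List Job := [
  ⟨37, 0x4804222118a0522a15c60321a0dc40221209c2e15098440e0501, 0, 32, 0x0, []⟩]

theorem t9_680_26 : jobs 8 S9 b8_680 j9_680_26 = true := by decide +kernel

noncomputable def j9_680_27 : List Job := [
  ⟨36, 0x64926964ba61329c4ee4122944aa69369e4fe09068643a29168e47e01028442a21128c46c804222118a0522a15c60321a0dc40221209c2e15098440e0501, 0, 32, 0x0, []⟩]

theorem t9_680_27 : jobs 8 S9 b8_680 j9_680_27 = true := by decide +kernel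

noncomputable def j9_680_28 : List Job := [
  ⟨35, 0x4804222118a0522a15c60321a0dc40221209c2e15098440e0501, 0, 32, 0x0, []⟩]

theorem t9_680_28 : jobs 8 S9 b8_680 j9_680_28 = true := by decide +kernel

noncomputable def j9_680_29 : List Job := [
  ⟨34, 0x64926964ba61329c4ee4122944aa69369e4fe09068643a29168e47e01028442a21128c46c804222118a0522a15c60321a0dc40221209c2e15098440e0501, 0, 32, 0x0, []⟩]

theorem t9_680_29 : jobs 8 S9 b8_680 j9_680_29 = true := by decide +kernel

noncomputable def j9_680_30 : List Job := [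
  ⟨33, 0x484462815480442915c60321a0dc40221209c2e15098440e0501, 0, 32, 0x0, []⟩]

theorem t9_680_30 : jobs 8 S9 b8_680 j9_680_30 = true := by decide +kernel

noncomputable def j9_680_31 : List Job := [
  ⟨32, 0x64926964ba61329c4ee4122944aa69369e4fe09068643a29168e47e01028442a21128c46c84462815480442915c60321a0dc40221209c2e15098440e0501, 0, 32, 0x0, []⟩]

theorem t9_680_31 : jobs 8 S9 b8_680 j9_680_31 = true := by decide +kernel

noncomputable def j9_680_32 : List Job := [
  ⟨31, 0x484462915c80442815460321a0dc40221209c2e15098440e0501, 0, 32, 0x0, []⟩]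

theorem t9_680_32 : jobs 8 S9 b8_680 j9_680_32 = true := by decide +kernel

noncomputable def j9_680_33 : List Job := [
  ⟨30, 0x64926964ba61329c4ee4122944aa69369e4fe09068643a29168e47e01028442a21128c46c84462915c80442815460321a0dc40221209c2e15098440e0501, 0, 32, 0x0, []⟩]

theorem t9_680_33 : jobs 8 S9 b8_680 j9_680_33 = true := by decide +kernel

noncomputable def j9_680_34 : List Job := [
  ⟨29, 0x64926964ba61329c4ee4122944aa69369e4fc804222118a0522a15c60321a0dc40221209c2e15098440e0501, 0, 32, 0x0, []⟩]

theorem t9_680_34 : jobs 8 S9 b8_680 j9_680_34 = true := by decide +kernel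

noncomputable def j9_680_35 : List Job := [
  ⟨28, 0x609068643a29168e47e01028442a21128c46c804222118a0522a15c60321a0dc40221209c2e15098440e0501, 0, 32, 0x0, []⟩]

theorem t9_680_35 : jobs 8 S9 b8_680 j9_680_35 = true := by decide +kernel

noncomputable def j9_680_36 : List Job := [
  ⟨27, 0x64926964ba61329c4ee4122944aa69369e4fc804222118a0522a15c60321a0dc40221209c2e15098440e0501, 0, 32, 0x0, []⟩]

theorem t9_680_36 : jobs 8 S9 b8_680 j9_680_36 = true := by decide +kernel

noncomputable def j9_680_37 : List Job := [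
  ⟨26, 0x609068643a29168e47e01028442a21128c46c804222118a0522a15c60321a0dc40221209c2e15098440e0501, 0, 32, 0x0, []⟩]

theorem t9_680_37 : jobs 8 S9 b8_680 j9_680_37 = true := by decide +kernel

noncomputable def j9_680_38 : List Job := [
  ⟨25, 0x64926964ba61329c4ee4122944aa69369e4fc84462815480442915c60321a0dc40221209c2e15098440e0501, 0, 32, 0x0, []⟩]

theorem t9_680_38 : jobs 8 S9 b8_680 j9_680_38 = true := by decide +kernel

noncomputable def j9_680_39 : List Job := [
  ⟨24, 0x609068643a29168e47e01028442a21128c46c84462815480442915c60321a0dc40221209c2e15098440e0501, 0, 32, 0x0, []⟩]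

theorem t9_680_39 : jobs 8 S9 b8_680 j9_680_39 = true := by decide +kernel

noncomputable def j9_680_40 : List Job := [
  ⟨23, 0x64926964ba61329c4ee4122944aa69369e4fc84462915c80442815460321a0dc40221209c2e15098440e0501, 0, 32, 0x0, []⟩]

theorem t9_680_40 : jobs 8 S9 b8_680 j9_680_40 = true := by decide +kernel

noncomputable def j9_680_41 : List Job := [
  ⟨22, 0x609068643a29168e47e01028442a21128c46c84462915c80442815460321a0dc40221209c2e15098440e0501, 0, 32, 0x0, []⟩]

theorem t9_680_41 : jobs 8 S9 b8_680 j9_680_41 = true := by decide +kernel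

noncomputable def j9_680_42 : List Job := [
  ⟨21, 0x4804222118a0522a15c6437180d44427100942e15098440e0501, 0, 32, 0x210000602000a10000e03001202001602001a02001e02002210002602002a10002e03003202003602003a02003e02, []⟩]

theorem t9_680_42 : jobs 8 S9 b8_680 j9_680_42 = true := by decide +kernel

noncomputable def j9_680_43 : List Job := [
  ⟨20, 0x64926964ba61329c4ee4122944aa69369e4fe09068643a29168e47e01028442a21128c46c804222118a0522a15c6437180d44427100942e15098440e0501, 0, 32, 0x202000602001210001611002202002602003210003611, []⟩]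

theorem t9_680_43 : jobs 8 S9 b8_680 j9_680_43 = true := by decide +kernel

noncomputable def j9_680_44 : List Job := [
  ⟨19, 0x4804222118a0522a15c6437180d44427100942e15098440e0501, 0, 32, 0x210000611000a10000e11001210001611001a02001e02002210002611002a10002e11003210003611003a02003e02, []⟩]

theorem t9_680_44 : jobs 8 S9 b8_680 j9_680_44 = true := by decide +kernel

noncomputable def j9_680_45 : List Job := [
  ⟨18, 0x64926964ba61329c4ee4122944aa69369e4fe09068643a29168e47e01028442a21128c46c804222118a0522a15c6437180d44427100942e15098440e0501, 0, 32, 0x202000602001202001611002202002602003202003611, []⟩]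

theorem t9_680_45 : jobs 8 S9 b8_680 j9_680_45 = true := by decide +kernel

noncomputable def j9_680_46 : List Job := [
  ⟨17, 0x484462815480442915c6437180d44427100942e15098440e0501, 0, 32, 0x202000611000a10000e11001210001602001a02001e02002210002611002a10002e11003202003602003a02003e02, []⟩]

theorem t9_680_46 : jobs 8 S9 b8_680 j9_680_46 = true := by decide +kernel

noncomputable def j9_680_47 : List Job := [
  ⟨16, 0x64926964ba61329c4ee4122944aa69369e4fe09068643a29168e47e01028442a21128c46c84462815480442915c6437180d44427100942e15098440e0501, 0, 38, 0x202000602001202001611002202002602003210003602004a01, []⟩]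

theorem t9_680_47 : jobs 8 S9 b8_680 j9_680_47 = true := by decide +kernel

noncomputable def j9_680_48 : List Job := [
  ⟨15, 0x484462915c8044281546437180d44427100942e15098440e0501, 0, 32, 0x210000602000a10000e03001202001602001a02001e02002202002611002a03002e11003202003602003a02003e02, []⟩]

theorem t9_680_48 : jobs 8 S9 b8_680 j9_680_48 = true := by decide +kernel

noncomputable def j9_680_49 : List Job := [
  ⟨14, 0x64926964ba61329c4ee4122944aa69369e4fe09068643a29168e47e01028442a21128c46c84462915c8044281546437180d44427100942e15098440e0501, 0, 72, 0x202000602001210001611002202002602003210003611008201008601008a01008e01, []⟩]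

theorem t9_680_49 : jobs 8 S9 b8_680 j9_680_49 = true := by decide +kernel

theorem d9_680 : Dn 8 S9 b8_680 := dn_of (Js := j9_680_0 ++ (j9_680_1 ++ (j9_680_2 ++ (j9_680_3 ++ (j9_680_4 ++ (j9_680_5 ++ (j9_680_6 ++ (j9_680_7 ++ (j9_680_8 ++ (j9_680_9 ++ (j9_680_10 ++ (j9_680_11 ++ (j9_680_12 ++ (j9_680_13 ++ (j9_680_14 ++ (j9_680_15 ++ (j9_680_16 ++ (j9_680_17 ++ (j9_680_18 ++ (j9_680_19 ++ (j9_680_20 ++ (j9_680_21 ++ (j9_680_22 ++ (j9_680_23 ++ (j9_680_24 ++ (j9_680_25 ++ (j9_680_26 ++ (j9_680_27 ++ (j9_680_28 ++ (j9_680_29 ++ (j9_680_30 ++ (j9_680_31 ++ (j9_680_32 ++ (j9_680_33 ++ (j9_680_34 ++ (j9_680_35 ++ (j9_680_36 ++ (j9_680_37 ++ (j9_680_38 ++ (j9_680_39 ++ (j9_680_40 ++ (j9_680_41 ++ (j9_680_42 ++ (j9_680_43 ++ (j9_680_44 ++ (j9_680_45 ++ (j9_680_46 ++ (j9_680_47 ++ (j9_680_48 ++ (j9_680_49 ++ []))))))))))))))))))))))))))))))))))))))))))))))))))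
  (jobs_append t9_680_0 <| jobs_append t9_680_1 <| jobs_append t9_680_2 <| jobs_append t9_680_3 <| jobs_append t9_680_4 <| jobs_append t9_680_5 <| jobs_append t9_680_6 <| jobs_append t9_680_7 <| jobs_append t9_680_8 <| jobs_append t9_680_9 <| jobs_append t9_680_10 <| jobs_append t9_680_11 <| jobs_append t9_680_12 <| jobs_append t9_680_13 <| jobs_append t9_680_14 <| jobs_append t9_680_15 <| jobs_append t9_680_16 <| jobs_append t9_680_17 <| jobs_append t9_680_18 <| jobs_append t9_680_19 <| jobs_append t9_680_20 <| jobs_append t9_680_21 <| jobs_append t9_680_22 <| jobs_append t9_680_23 <| jobs_append t9_680_24 <| jobs_append t9_680_25 <| jobs_append t9_680_26 <| jobs_append t9_680_27 <| jobs_append t9_680_28 <| jobs_append t9_680_29 <| jobs_append t9_680_30 <| jobs_append t9_680_31 <| jobs_append t9_680_32 <| jobs_append t9_680_33 <| jobs_append t9_680_34 <| jobs_append t9_680_35 <| jobs_append t9_680_36 <| jobs_append t9_680_37 <| jobs_append t9_680_38 <| jobs_append t9_680_39 <| jobs_append t9_680_40 <| jobs_append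 t9_680_41 <| jobs_append t9_680_42 <| jobs_append t9_680_43 <| jobs_append t9_680_44 <| jobs_append t9_680_45 <| jobs_append t9_680_46 <| jobs_append t9_680_47 <| jobs_append t9_680_48 <| jobs_append t9_680_49 <| List.forall_mem_nil _) (by decide +kernel)

noncomputable def j9_681_0 : List Job := [
  ⟨63, 0x484442915480462815c60321a0dc40221209c2e15098440e0501, 0, 32, 0x0, []⟩]

theorem t9_681_0 : jobs 8 S9 b8_681 j9_681_0 = true := by decide +kernel

noncomputable def j9_681_1 : List Job := [
  ⟨62, 0x601028241a110a8643a21128a45a311a8e47c84442915480462815c60321a0dc40221209c2e15098440e0501, 0, 32, 0x0, []⟩]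

theorem t9_681_1 : jobs 8 S9 b8_681 j9_681_1 = true := by decide +kernel

noncomputable def j9_681_2 : List Job := [
  ⟨61, 0x4804222118a0522a15c6437180d44427100942e15098440e0501, 0, 32, 0x202000602000a02000e02001202001602001a02001e02002202002610002a11002e02003210003602003a02003e11, []⟩]

theorem t9_681_2 : jobs 8 S9 b8_681 j9_681_2 = true := by decide +kernel

noncomputable def j9_681_3 : List Job := [
  ⟨60, 0x601028241a110a8643a21128a45a311a8e47c804222118a0522a15c6437180d44427100942e15098440e0501, 0, 32, 0x202000602000a02000e02001210001602001a11001e02002202002610002a02002e11003202003610003a02003e11, []⟩]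

theorem t9_681_3 : jobs 8 S9 b8_681 j9_681_3 = true := by decide +kernel

noncomputable def j9_681_4 : List Job := [
  ⟨59, 0x4804222118a0522a15c6437180d44427100942e15098440e0501, 0, 32, 0x210000602000a11000e02001210001602001a11001e02002202002610002a02002e11003202003610003a02003e11, []⟩]

theorem t9_681_4 : jobs 8 S9 b8_681 j9_681_4 = true := by decide +kernel

noncomputable def j9_681_5 : List Job := [
  ⟨58, 0x601028241a110a8643a21128a45a311a8e47c804222118a0522a15c6437180d44427100942e15098440e0501, 0, 32, 0x202000602000a02000e02001211001610001a11001e10002202002610002a11002e02003210003602003a02003e11, []⟩]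

theorem t9_681_5 : jobs 8 S9 b8_681 j9_681_5 = true := by decide +kernel

noncomputable def j9_681_6 : List Job := [
  ⟨57, 0x484462815480442915c6437180d44427100942e15098440e0501, 0, 32, 0x202000611000a11000e02001202001602001a02001e02002211002610002a11002e11003210003610003a10003e11, []⟩]

theorem t9_681_6 : jobs 8 S9 b8_681 j9_681_6 = true := by decide +kernel

noncomputable def j9_681_7 : List Job := [
  ⟨56, 0x601028241a110a8643a21128a45a311a8e47c84462815480442915c6437180d44427100942e15098440e0501, 0, 38, 0x202000602000a02000e02001202001602001a13001e12002213002612002a02002e02003202003602003a12003e13004a01, []⟩]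

theorem t9_681_7 : jobs 8 S9 b8_681 j9_681_7 = true := by decide +kernel

noncomputable def j9_681_8 : List Job := [
  ⟨55, 0x484462915c8044281546437180d44427100942e15098440e0501, 0, 32, 0x212000613000a02000e02001202001602001a13001e12002213002612002a02002e02003202003602003a12003e13, []⟩]

theorem t9_681_8 : jobs 8 S9 b8_681 j9_681_8 = true := by decide +kernel

noncomputable def j9_681_9 : List Job := [
  ⟨54, 0x601028241a110a8643a21128a45a311a8e47c84462915c8044281546437180d44427100942e15098440e0501, 0, 72, 0x202000602000a02000e02001210001610001a11001e10002211002610002a11002e11003210003610003a10003e11008201008401008601008801, []⟩]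

theorem t9_681_9 : jobs 8 S9 b8_681 j9_681_9 = true := by decide +kernel

noncomputable def j9_681_10 : List Job := [
  ⟨24, 0x4844829164804a2816c543b140e44433100c4361909844160901, 0, 4, 0x0, []⟩]

theorem t9_681_10 : jobs 8 S9 b8_681 j9_681_10 = true := by decide +kernel

noncomputable def j9_681_11 : List Job := [
  ⟨22, 0x4844a2916c804828164543b140e44433100c4361909844160901, 0, 32, 0x0, []⟩]

theorem t9_681_11 : jobs 8 S9 b8_681 j9_681_11 = true := by decide +kernel

noncomputable def j9_681_12 : List Job := [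
  ⟨21, 0x609068643a29168e47c804222118a0522a15c60321a0dc40221209c381f09844180f01, 0, 128, 0x820300920300a21000b20300c21000d21000e21000f203, []⟩]

theorem t9_681_12 : jobs 8 S9 b8_681 j9_681_12 = true := by decide +kernel

noncomputable def j9_681_13 : List Job := [
  ⟨20, 0x64926964ba61329c4ee4122944aa69369e4fe01028442a21128c46c804222118a0522a15c60321a0dc40221209c381f09844180f01, 0, 128, 0x203001210002203003203004203005203006203007210, []⟩]

theorem t9_681_13 : jobs 8 S9 b8_681 j9_681_13 = true := by decide +kernel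

noncomputable def j9_681_14 : List Job := [
  ⟨19, 0x609068643a29168e47c804222118a0522a15c60321a0dc40221209c381f09844180f01, 0, 128, 0x820300920300a21000b21000c21000d21000e20300f203, []⟩]

theorem t9_681_14 : jobs 8 S9 b8_681 j9_681_14 = true := by decide +kernel

noncomputable def j9_681_15 : List Job := [
  ⟨18, 0x64926964ba61329c4ee4122944aa69369e4fe01028442a21128c46c804222118a0522a15c60321a0dc40221209c381f09844180f01, 0, 128, 0x203001210002203003203004203005210006203007210, []⟩]

theorem t9_681_15 : jobs 8 S9 b8_681 j9_681_15 = true := by decide +kernel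

noncomputable def j9_681_16 : List Job := [
  ⟨17, 0x609068643a29168e47c804222118a0522a15c60321a0dc40221209c381f09844180f01, 0, 128, 0x821000920300a21000b20300c20300d21000e21000f203, []⟩]

theorem t9_681_16 : jobs 8 S9 b8_681 j9_681_16 = true := by decide +kernel

noncomputable def j9_681_17 : List Job := [
  ⟨16, 0x64926964ba61329c4ee4122944aa69369e4fe01028442a21128c46c804222118a0522a15c60321a0dc40221209c381f09844180f01, 0, 128, 0x203001210002203003210004203005203006203007210, []⟩]

theorem t9_681_17 : jobs 8 S9 b8_681 j9_681_17 = true := by decide +kernel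

noncomputable def j9_681_18 : List Job := [
  ⟨15, 0x609068643a29168e47c804222118a0522a15c60321a0dc40221209c381f09844180f01, 0, 128, 0x821000920300a21000b20300c21000d21000e20300f203, []⟩]

theorem t9_681_18 : jobs 8 S9 b8_681 j9_681_18 = true := by decide +kernel

noncomputable def j9_681_19 : List Job := [
  ⟨14, 0x64926964ba61329c4ee4122944aa69369e4fe01028442a21128c46c804222118a0522a15c60321a0dc40221209c381f09844180f01, 0, 128, 0x203001210002203003210004203005210006203007210, []⟩]

theorem t9_681_19 : jobs 8 S9 b8_681 j9_681_19 = true := by decide +kernel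

noncomputable def j9_681_20 : List Job := [
  ⟨13, 0x64926964ba61329c4ee4122944aa69369e4fe09068643a29168e47c361909844160901, 0, 32, 0x0, []⟩]

theorem t9_681_20 : jobs 8 S9 b8_681 j9_681_20 = true := by decide +kernel

noncomputable def j9_681_21 : List Job := [
  ⟨12, 0x6050a8846601088946c361909844160901, 0, 32, 0x0, []⟩]

theorem t9_681_21 : jobs 8 S9 b8_681 j9_681_21 = true := by decide +kernel

noncomputable def j9_681_22 : List Job := [
  ⟨11, 0x64926964ba61329c4ee4122944aa69369e4fe09068643a29168e47c361909844160901, 0, 32, 0x0, []⟩]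

theorem t9_681_22 : jobs 8 S9 b8_681 j9_681_22 = true := by decide +kernel

noncomputable def j9_681_23 : List Job := [
  ⟨10, 0x6050a8946e010888464361909844160901, 0, 32, 0x0, []⟩]

theorem t9_681_23 : jobs 8 S9 b8_681 j9_681_23 = true := by decide +kernel

noncomputable def j9_681_24 : List Job := [
  ⟨9, 0x64926964ba61329c4ee4122944aa69369e4fe09068643a29168e47c361909844160901, 0, 32, 0x0, []⟩]

theorem t9_681_24 : jobs 8 S9 b8_681 j9_681_24 = true := by decide +kernel

noncomputable def j9_681_25 : List Job := [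
  ⟨8, 0x6050a8846601088946c361909844160901, 0, 32, 0x0, []⟩]

theorem t9_681_25 : jobs 8 S9 b8_681 j9_681_25 = true := by decide +kernel

noncomputable def j9_681_26 : List Job := [
  ⟨7, 0x64926964ba61329c4ee4122944aa69369e4fe09068643a29168e47c361909844160901, 0, 32, 0x0, []⟩]

theorem t9_681_26 : jobs 8 S9 b8_681 j9_681_26 = true := by decide +kernel

noncomputable def j9_681_27 : List Job := [
  ⟨6, 0x6050a8946e010888464361909844160901, 0, 32, 0x0, []⟩]

theorem t9_681_27 : jobs 8 S9 b8_681 j9_681_27 = true := by decide +kernel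

noncomputable def j9_681_28 : List Job := [
  ⟨5, 0x64926964ba61329c4ee4122944aa69369e4fe09068643a29168e47c904a26138b05a2e17c804222118a0522a15c361909844160901, 0, 32, 0x0, []⟩]

theorem t9_681_28 : jobs 8 S9 b8_681 j9_681_28 = true := by decide +kernel

noncomputable def j9_681_29 : List Job := [
  ⟨4, 0x6050a8846601088946c904a26138b05a2e17c804222118a0522a15c361909844160901, 0, 32, 0x0, []⟩]

theorem t9_681_29 : jobs 8 S9 b8_681 j9_681_29 = true := by decide +kernel

noncomputable def j9_681_30 : List Job := [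
  ⟨3, 0x64926964ba61329c4ee4122944aa69369e4fe09068643a29168e47c904a26138b05a2e17c804222118a0522a15c361909844160901, 0, 32, 0x0, []⟩]

theorem t9_681_30 : jobs 8 S9 b8_681 j9_681_30 = true := by decide +kernel

noncomputable def j9_681_31 : List Job := [
  ⟨2, 0x6050a8946e010888464904a26138b05a2e17c804222118a0522a15c361909844160901, 0, 32, 0x0, []⟩]

theorem t9_681_31 : jobs 8 S9 b8_681 j9_681_31 = true := by decide +kernel

noncomputable def j9_681_32 : List Job := [
  ⟨1, 0x64926964ba61329c4ee4122944aa69369e4fe09068643a29168e47c904a26138b05a2e17c804222118a0522a15c361909844160901, 0, 32, 0x0, []⟩]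

theorem t9_681_32 : jobs 8 S9 b8_681 j9_681_32 = true := by decide +kernel

noncomputable def j9_681_33 : List Job := [
  ⟨0, 0x6050a8846601088946c904a26138b05a2e17c804222118a0522a15c361909844160901, 0, 32, 0x0, []⟩]

theorem t9_681_33 : jobs 8 S9 b8_681 j9_681_33 = true := by decide +kernel

theorem d9_681 : Dn 8 S9 b8_681 := dn_of (Js := j9_681_0 ++ (j9_681_1 ++ (j9_681_2 ++ (j9_681_3 ++ (j9_681_4 ++ (j9_681_5 ++ (j9_681_6 ++ (j9_681_7 ++ (j9_681_8 ++ (j9_681_9 ++ (j9_681_10 ++ (j9_681_11 ++ (j9_681_12 ++ (j9_681_13 ++ (j9_681_14 ++ (j9_681_15 ++ (j9_681_16 ++ (j9_681_17 ++ (j9_681_18 ++ (j9_681_19 ++ (j9_681_20 ++ (j9_681_21 ++ (j9_681_22 ++ (j9_681_23 ++ (j9_681_24 ++ (j9_681_25 ++ (j9_681_26 ++ (j9_681_27 ++ (j9_681_28 ++ (j9_681_29 ++ (j9_681_30 ++ (j9_681_31 ++ (j9_681_32 ++ (j9_681_33 ++ []))))))))))))))))))))))))))))))))))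
  (jobs_append t9_681_0 <| jobs_append t9_681_1 <| jobs_append t9_681_2 <| jobs_append t9_681_3 <| jobs_append t9_681_4 <| jobs_append t9_681_5 <| jobs_append t9_681_6 <| jobs_append t9_681_7 <| jobs_append t9_681_8 <| jobs_append t9_681_9 <| jobs_append t9_681_10 <| jobs_append t9_681_11 <| jobs_append t9_681_12 <| jobs_append t9_681_13 <| jobs_append t9_681_14 <| jobs_append t9_681_15 <| jobs_append t9_681_16 <| jobs_append t9_681_17 <| jobs_append t9_681_18 <| jobs_append t9_681_19 <| jobs_append t9_681_20 <| jobs_append t9_681_21 <| jobs_append t9_681_22 <| jobs_append t9_681_23 <| jobs_append t9_681_24 <| jobs_append t9_681_25 <| jobs_append t9_681_26 <| jobs_append t9_681_27 <| jobs_append t9_681_28 <| jobs_append t9_681_29 <| jobs_append t9_681_30 <| jobs_append t9_681_31 <| jobs_append t9_681_32 <| jobs_append t9_681_33 <| List.forall_mem_nil _) (by decide +kernel)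

noncomputable def j9_682_0 : List Job := [
  ⟨62, 0x641229249a512a964ba61329a4da713a9e4fc844a2916c804828164543b140e44433100c4361909844160901, 0, 32, 0x0, []⟩]

theorem t9_682_0 : jobs 8 S9 b8_682 j9_682_0 = true := by decide +kernel

noncomputable def j9_682_1 : List Job := [
  ⟨61, 0x4804222118a0522a15c60321a0dc40221209c381f09844180f01, 0, 128, 0x21000120300221000320300420300521000620300721000820300920300a20300b20300c20300d20300e20300f203, []⟩]

theorem t9_682_1 : jobs 8 S9 b8_682 j9_682_1 = true := by decide +kernel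

noncomputable def j9_682_2 : List Job := [
  ⟨60, 0x601028241a110a8643a21128a45a311a8e47c804222118a0522a15c60321a0dc40221209c381f09844180f01, 0, 128, 0x20300121000220300320300420300521200620300721000820300920300a21000b21000c21000d21000e20300f203, []⟩]

theorem t9_682_2 : jobs 8 S9 b8_682 j9_682_2 = true := by decide +kernel

noncomputable def j9_682_3 : List Job := [
  ⟨59, 0x4804222118a0522a15c60321a0dc40221209c381f09844180f01, 0, 128, 0x21000121000220300320300420300520300621000721000820300920300a21000b20300c21000d21000e20300f203, []⟩]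

theorem t9_682_3 : jobs 8 S9 b8_682 j9_682_3 = true := by decide +kernel

noncomputable def j9_682_4 : List Job := [
  ⟨58, 0x601028241a110a8643a21128a45a311a8e47c804222118a0522a15c60321a0dc40221209c381f09844180f01, 0, 128, 0x20300120300220300320300420300521000620300721000820300921000a20300b21000c21000d20300e21000f203, []⟩]

theorem t9_682_4 : jobs 8 S9 b8_682 j9_682_4 = true := by decide +kernel

noncomputable def j9_682_5 : List Job := [
  ⟨57, 0x4804222118a0522a15c60321a0dc40221209c381f09844180f01, 0, 128, 0x21000121000221000321100421100521000621000721000821100920300a21000b20300c20300d21000e20300f211, []⟩]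

theorem t9_682_5 : jobs 8 S9 b8_682 j9_682_5 = true := by decide +kernel

noncomputable def j9_682_6 : List Job := [
  ⟨56, 0x601028241a110a8643a21128a45a311a8e47c804222118a0522a15c60321a0dc40221209c381f09844180f01, 0, 128, 0x20300120300220300321300420300521200620300721200821300920300a20300b21200c21200d20300e20300f213, []⟩]

theorem t9_682_6 : jobs 8 S9 b8_682 j9_682_6 = true := by decide +kernel

noncomputable def j9_682_7 : List Job := [
  ⟨55, 0x4804222118a0522a15c60321a0dc40221209c381f09844180f01, 0, 128, 0x21200120300220300321300421300520300620300721200821300920300a20300b20300c21200d20300e20300f213, []⟩]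

theorem t9_682_7 : jobs 8 S9 b8_682 j9_682_7 = true := by decide +kernel

noncomputable def j9_682_8 : List Job := [
  ⟨54, 0x601028241a110a8643a21128a45a311a8e47c804222118a0522a15c60321a0dc40221209c381f09844180f01, 0, 128, 0x20300121000220300321100420300521000620300721000821100921000a21000b21000c21000d21000e21000f211, []⟩]

theorem t9_682_8 : jobs 8 S9 b8_682 j9_682_8 = true := by decide +kernel

noncomputable def j9_682_9 : List Job := [
  ⟨53, 0x4361909844160901, 0, 32, 0x0, []⟩]

theorem t9_682_9 : jobs 8 S9 b8_682 j9_682_9 = true := by decide +kernel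

noncomputable def j9_682_10 : List Job := [
  ⟨52, 0x601028241a110a8643a21128a45a311a8e47c361909844160901, 0, 32, 0x0, []⟩]

theorem t9_682_10 : jobs 8 S9 b8_682 j9_682_10 = true := by decide +kernel

noncomputable def j9_682_11 : List Job := [
  ⟨51, 0x4361909844160901, 0, 32, 0x0, []⟩]

theorem t9_682_11 : jobs 8 S9 b8_682 j9_682_11 = true := by decide +kernel

noncomputable def j9_682_12 : List Job := [
  ⟨50, 0x601028241a110a8643a21128a45a311a8e47c361909844160901, 0, 32, 0x0, []⟩]

theorem t9_682_12 : jobs 8 S9 b8_682 j9_682_12 = true := by decide +kernel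

noncomputable def j9_682_13 : List Job := [
  ⟨49, 0x4361909844160901, 0, 32, 0x0, []⟩]

theorem t9_682_13 : jobs 8 S9 b8_682 j9_682_13 = true := by decide +kernel

noncomputable def j9_682_14 : List Job := [
  ⟨48, 0x601028241a110a8643a21128a45a311a8e47c361909844160901, 0, 32, 0x0, []⟩]

theorem t9_682_14 : jobs 8 S9 b8_682 j9_682_14 = true := by decide +kernel

noncomputable def j9_682_15 : List Job := [
  ⟨47, 0x4361909844160901, 0, 32, 0x0, []⟩]

theorem t9_682_15 : jobs 8 S9 b8_682 j9_682_15 = true := by decide +kernel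

noncomputable def j9_682_16 : List Job := [
  ⟨46, 0x601028241a110a8643a21128a45a311a8e47c361909844160901, 0, 32, 0x0, []⟩]

theorem t9_682_16 : jobs 8 S9 b8_682 j9_682_16 = true := by decide +kernel

noncomputable def j9_682_17 : List Job := [
  ⟨45, 0x4904a26138b05a2e17c804222118a0522a15c361909844160901, 0, 32, 0x0, []⟩]

theorem t9_682_17 : jobs 8 S9 b8_682 j9_682_17 = true := by decide +kernel

noncomputable def j9_682_18 : List Job := [
  ⟨44, 0x601028241a110a8643a21128a45a311a8e47c904a26138b05a2e17c804222118a0522a15c361909844160901, 0, 32, 0x0, []⟩]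

theorem t9_682_18 : jobs 8 S9 b8_682 j9_682_18 = true := by decide +kernel

noncomputable def j9_682_19 : List Job := [
  ⟨43, 0x4904a26138b05a2e17c804222118a0522a15c361909844160901, 0, 32, 0x0, []⟩]

theorem t9_682_19 : jobs 8 S9 b8_682 j9_682_19 = true := by decide +kernel

noncomputable def j9_682_20 : List Job := [
  ⟨42, 0x601028241a110a8643a21128a45a311a8e47c904a26138b05a2e17c804222118a0522a15c361909844160901, 0, 32, 0x0, []⟩]

theorem t9_682_20 : jobs 8 S9 b8_682 j9_682_20 = true := by decide +kernel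

noncomputable def j9_682_21 : List Job := [
  ⟨41, 0x4904a26138b05a2e17c804222118a0522a15c361909844160901, 0, 32, 0x0, []⟩]

theorem t9_682_21 : jobs 8 S9 b8_682 j9_682_21 = true := by decide +kernel

noncomputable def j9_682_22 : List Job := [
  ⟨40, 0x601028241a110a8643a21128a45a311a8e47c904a26138b05a2e17c804222118a0522a15c361909844160901, 0, 32, 0x0, []⟩]

theorem t9_682_22 : jobs 8 S9 b8_682 j9_682_22 = true := by decide +kernel

noncomputable def j9_682_23 : List Job := [
  ⟨39, 0x4904a26138b05a2e17c804222118a0522a15c361909844160901, 0, 32, 0x0, []⟩]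

theorem t9_682_23 : jobs 8 S9 b8_682 j9_682_23 = true := by decide +kernel

noncomputable def j9_682_24 : List Job := [
  ⟨38, 0x601028241a110a8643a21128a45a311a8e47c904a26138b05a2e17c804222118a0522a15c361909844160901, 0, 32, 0x0, []⟩]

theorem t9_682_24 : jobs 8 S9 b8_682 j9_682_24 = true := by decide +kernel

noncomputable def j9_682_25 : List Job := [
  ⟨37, 0x4703a1e0fc60321a0dc502a160bc40221209c361909844160901, 0, 32, 0x0, []⟩]

theorem t9_682_25 : jobs 8 S9 b8_682 j9_682_25 = true := by decide +kernel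

noncomputable def j9_682_26 : List Job := [
  ⟨36, 0x601028241a110a8643a21128a45a311a8e47c703a1e0fc60321a0dc502a160bc40221209c361909844160901, 0, 32, 0x0, []⟩]

theorem t9_682_26 : jobs 8 S9 b8_682 j9_682_26 = true := by decide +kernel

noncomputable def j9_682_27 : List Job := [
  ⟨35, 0x4703a1e0fc60321a0dc502a160bc40221209c361909844160901, 0, 32, 0x0, []⟩]

theorem t9_682_27 : jobs 8 S9 b8_682 j9_682_27 = true := by decide +kernel

noncomputable def j9_682_28 : List Job := [
  ⟨34, 0x601028241a110a8643a21128a45a311a8e47c703a1e0fc60321a0dc502a160bc40221209c361909844160901, 0, 32, 0x0, []⟩]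

theorem t9_682_28 : jobs 8 S9 b8_682 j9_682_28 = true := by decide +kernel

noncomputable def j9_682_29 : List Job := [
  ⟨33, 0x4703a1e0fc60321a0dc502a160bc40221209c361909844160901, 0, 32, 0x0, []⟩]

theorem t9_682_29 : jobs 8 S9 b8_682 j9_682_29 = true := by decide +kernel

noncomputable def j9_682_30 : List Job := [
  ⟨32, 0x601028241a110a8643a21128a45a311a8e47c703a1e0fc60321a0dc502a160bc40221209c361909844160901, 0, 32, 0x0, []⟩]

theorem t9_682_30 : jobs 8 S9 b8_682 j9_682_30 = true := by decide +kernel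

noncomputable def j9_682_31 : List Job := [
  ⟨31, 0x4703a1e0fc60321a0dc502a160bc40221209c361909844160901, 0, 32, 0x0, []⟩]

theorem t9_682_31 : jobs 8 S9 b8_682 j9_682_31 = true := by decide +kernel

noncomputable def j9_682_32 : List Job := [
  ⟨30, 0x601028241a110a8643a21128a45a311a8e47c703a1e0fc60321a0dc502a160bc40221209c361909844160901, 0, 32, 0x0, []⟩]

theorem t9_682_32 : jobs 8 S9 b8_682 j9_682_32 = true := by decide +kernel

noncomputable def j9_682_33 : List Job := [
  ⟨29, 0x4904a26138b05a2e17c804222118a0522a15c703a1e0fc60321a0dc502a160bc40221209c361909844160901, 0, 32, 0x0, []⟩]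

theorem t9_682_33 : jobs 8 S9 b8_682 j9_682_33 = true := by decide +kernel

noncomputable def j9_682_34 : List Job := [
  ⟨28, 0x601028241a110a8643a21128a45a311a8e47c904a26138b05a2e17c804222118a0522a15c703a1e0fc60321a0dc502a160bc40221209c361909844160901, 0, 32, 0x0, []⟩]

theorem t9_682_34 : jobs 8 S9 b8_682 j9_682_34 = true := by decide +kernel

noncomputable def j9_682_35 : List Job := [
  ⟨27, 0x4904a26138b05a2e17c804222118a0522a15c703a1e0fc60321a0dc502a160bc40221209c361909844160901, 0, 32, 0x0, []⟩]

theorem t9_682_35 : jobs 8 S9 b8_682 j9_682_35 = true := by decide +kernel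

noncomputable def j9_682_36 : List Job := [
  ⟨26, 0x601028241a110a8643a21128a45a311a8e47c904a26138b05a2e17c804222118a0522a15c703a1e0fc60321a0dc502a160bc40221209c361909844160901, 0, 38, 0x4201, []⟩]

theorem t9_682_36 : jobs 8 S9 b8_682 j9_682_36 = true := by decide +kernel

noncomputable def j9_682_37 : List Job := [
  ⟨25, 0x4904a26138b05a2e17c804222118a0522a15c703a1e0fc60321a0dc502a160bc40221209c361909844160901, 0, 32, 0x0, []⟩]

theorem t9_682_37 : jobs 8 S9 b8_682 j9_682_37 = true := by decide +kernel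

noncomputable def j9_682_38 : List Job := [
  ⟨24, 0x601028241a110a8643a21128a45a311a8e47c904a26138b05a2e17c804222118a0522a15c703a1e0fc60321a0dc502a160bc40221209c361909844160901, 0, 32, 0x0, []⟩]

theorem t9_682_38 : jobs 8 S9 b8_682 j9_682_38 = true := by decide +kernel

noncomputable def j9_682_39 : List Job := [
  ⟨23, 0x4904a26138b05a2e17c804222118a0522a15c703a1e0fc60321a0dc502a160bc40221209c361909844160901, 0, 32, 0x0, []⟩]

theorem t9_682_39 : jobs 8 S9 b8_682 j9_682_39 = true := by decide +kernel

noncomputable def j9_682_40 : List Job := [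
  ⟨22, 0x601028241a110a8643a21128a45a311a8e47c904a26138b05a2e17c804222118a0522a15c703a1e0fc60321a0dc502a160bc40221209c361909844160901, 0, 72, 0x4208004609004a09004e08005210005610005a11005e10006211006610006a11006e11007208007609007a09007e08008201008401008601008801, []⟩]

theorem t9_682_40 : jobs 8 S9 b8_682 j9_682_40 = true := by decide +kernel

noncomputable def j9_682_41 : List Job := [
  ⟨21, 0x4804222118a0522a15c60321a0dc40221209c2e15098440e0501, 0, 32, 0x0, []⟩]

theorem t9_682_41 : jobs 8 S9 b8_682 j9_682_41 = true := by decide +kernel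

noncomputable def j9_682_42 : List Job := [
  ⟨20, 0x601028241a110a8643a21128a45a311a8e47c804222118a0522a15c60321a0dc40221209c2e15098440e0501, 0, 32, 0x0, []⟩]

theorem t9_682_42 : jobs 8 S9 b8_682 j9_682_42 = true := by decide +kernel

noncomputable def j9_682_43 : List Job := [
  ⟨19, 0x4804222118a0522a15c60321a0dc40221209c2e15098440e0501, 0, 32, 0x0, []⟩]

theorem t9_682_43 : jobs 8 S9 b8_682 j9_682_43 = true := by decide +kernel

noncomputable def j9_682_44 : List Job := [
  ⟨18, 0x601028241a110a8643a21128a45a311a8e47c804222118a0522a15c60321a0dc40221209c2e15098440e0501, 0, 32, 0x0, []⟩]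

theorem t9_682_44 : jobs 8 S9 b8_682 j9_682_44 = true := by decide +kernel

noncomputable def j9_682_45 : List Job := [
  ⟨17, 0x484442815c80462915460321a0dc40221209c2e15098440e0501, 0, 32, 0x0, []⟩]

theorem t9_682_45 : jobs 8 S9 b8_682 j9_682_45 = true := by decide +kernel

noncomputable def j9_682_46 : List Job := [
  ⟨16, 0x601028241a110a8643a21128a45a311a8e47c84442815c80462915460321a0dc40221209c2e15098440e0501, 0, 32, 0x0, []⟩]

theorem t9_682_46 : jobs 8 S9 b8_682 j9_682_46 = true := by decide +kernel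

noncomputable def j9_682_47 : List Job := [
  ⟨15, 0x484442915480462815c60321a0dc40221209c2e15098440e0501, 0, 32, 0x0, []⟩]

theorem t9_682_47 : jobs 8 S9 b8_682 j9_682_47 = true := by decide +kernel

noncomputable def j9_682_48 : List Job := [
  ⟨14, 0x601028241a110a8643a21128a45a311a8e47c84442915480462815c60321a0dc40221209c2e15098440e0501, 0, 32, 0x0, []⟩]

theorem t9_682_48 : jobs 8 S9 b8_682 j9_682_48 = true := by decide +kernel

noncomputable def j9_682_49 : List Job := [
  ⟨13, 0x4804222118a0522a15c60321a0dc40221209c2e15098440e0501, 0, 32, 0x0, []⟩]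

theorem t9_682_49 : jobs 8 S9 b8_682 j9_682_49 = true := by decide +kernel

noncomputable def j9_682_50 : List Job := [
  ⟨12, 0x601028241a110a8643a21128a45a311a8e47c804222118a0522a15c60321a0dc40221209c2e15098440e0501, 0, 32, 0x0, []⟩]

theorem t9_682_50 : jobs 8 S9 b8_682 j9_682_50 = true := by decide +kernel

noncomputable def j9_682_51 : List Job := [
  ⟨11, 0x4804222118a0522a15c60321a0dc40221209c2e15098440e0501, 0, 32, 0x0, []⟩]

theorem t9_682_51 : jobs 8 S9 b8_682 j9_682_51 = true := by decide +kernel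

noncomputable def j9_682_52 : List Job := [
  ⟨10, 0x601028241a110a8643a21128a45a311a8e47c804222118a0522a15c60321a0dc40221209c2e15098440e0501, 0, 32, 0x0, []⟩]

theorem t9_682_52 : jobs 8 S9 b8_682 j9_682_52 = true := by decide +kernel

noncomputable def j9_682_53 : List Job := [
  ⟨9, 0x484462815480442915c60321a0dc40221209c2e15098440e0501, 0, 32, 0x0, []⟩]

theorem t9_682_53 : jobs 8 S9 b8_682 j9_682_53 = true := by decide +kernel

noncomputable def j9_682_54 : List Job := [
  ⟨8, 0x601028241a110a8643a21128a45a311a8e47c84462815480442915c60321a0dc40221209c2e15098440e0501, 0, 32, 0x0, []⟩]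

theorem t9_682_54 : jobs 8 S9 b8_682 j9_682_54 = true := by decide +kernel

noncomputable def j9_682_55 : List Job := [
  ⟨7, 0x484462915c80442815460321a0dc40221209c2e15098440e0501, 0, 32, 0x0, []⟩]

theorem t9_682_55 : jobs 8 S9 b8_682 j9_682_55 = true := by decide +kernel

noncomputable def j9_682_56 : List Job := [
  ⟨6, 0x601028241a110a8643a21128a45a311a8e47c84462915c80442815460321a0dc40221209c2e15098440e0501, 0, 32, 0x0, []⟩]

theorem t9_682_56 : jobs 8 S9 b8_682 j9_682_56 = true := by decide +kernel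

noncomputable def j9_682_57 : List Job := [
  ⟨5, 0x4804222118a0522a15c60321a0dc40221209c2e15098440e0501, 0, 32, 0x0, []⟩]

theorem t9_682_57 : jobs 8 S9 b8_682 j9_682_57 = true := by decide +kernel

noncomputable def j9_682_58 : List Job := [
  ⟨4, 0x601028241a110a8643a21128a45a311a8e47c804222118a0522a15c60321a0dc40221209c2e15098440e0501, 0, 32, 0x0, []⟩]

theorem t9_682_58 : jobs 8 S9 b8_682 j9_682_58 = true := by decide +kernel

noncomputable def j9_682_59 : List Job := [
  ⟨3, 0x4804222118a0522a15c60321a0dc40221209c2e15098440e0501, 0, 32, 0x0, []⟩]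

theorem t9_682_59 : jobs 8 S9 b8_682 j9_682_59 = true := by decide +kernel

noncomputable def j9_682_60 : List Job := [
  ⟨2, 0x601028241a110a8643a21128a45a311a8e47c804222118a0522a15c60321a0dc40221209c2e15098440e0501, 0, 32, 0x0, []⟩]

theorem t9_682_60 : jobs 8 S9 b8_682 j9_682_60 = true := by decide +kernel

noncomputable def j9_682_61 : List Job := [
  ⟨1, 0x484442815c80462915460321a0dc40221209c2e15098440e0501, 0, 32, 0x0, []⟩]

theorem t9_682_61 : jobs 8 S9 b8_682 j9_682_61 = true := by decide +kernel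

noncomputable def j9_682_62 : List Job := [
  ⟨0, 0x601028241a110a8643a21128a45a311a8e47c84442815c80462915460321a0dc40221209c2e15098440e0501, 0, 32, 0x0, []⟩]

theorem t9_682_62 : jobs 8 S9 b8_682 j9_682_62 = true := by decide +kernel

theorem d9_682 : Dn 8 S9 b8_682 := dn_of (Js := j9_682_0 ++ (j9_682_1 ++ (j9_682_2 ++ (j9_682_3 ++ (j9_682_4 ++ (j9_682_5 ++ (j9_682_6 ++ (j9_682_7 ++ (j9_682_8 ++ (j9_682_9 ++ (j9_682_10 ++ (j9_682_11 ++ (j9_682_12 ++ (j9_682_13 ++ (j9_682_14 ++ (j9_682_15 ++ (j9_682_16 ++ (j9_682_17 ++ (j9_682_18 ++ (j9_682_19 ++ (j9_682_20 ++ (j9_682_21 ++ (j9_682_22 ++ (j9_682_23 ++ (j9_682_24 ++ (j9_682_25 ++ (j9_682_26 ++ (j9_682_27 ++ (j9_682_28 ++ (j9_682_29 ++ (j9_682_30 ++ (j9_682_31 ++ (j9_682_32 ++ (j9_682_33 ++ (j9_682_34 ++ (j9_682_35 ++ (j9_682_36 ++ (j9_682_37 ++ (j9_682_38 ++ (j9_682_39 ++ (j9_682_40 ++ (j9_682_41 ++ (j9_682_42 ++ (j9_682_43 ++ (j9_682_44 ++ (j9_682_45 ++ (j9_682_46 ++ (j9_682_47 ++ (j9_682_48 ++ (j9_682_49 ++ (j9_682_50 ++ (j9_682_51 ++ (j9_682_52 ++ (j9_682_53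 ++ (j9_682_54 ++ (j9_682_55 ++ (j9_682_56 ++ (j9_682_57 ++ (j9_682_58 ++ (j9_682_59 ++ (j9_682_60 ++ (j9_682_61 ++ (j9_682_62 ++ [])))))))))))))))))))))))))))))))))))))))))))))))))))))))))))))))
  (jobs_append t9_682_0 <| jobs_append t9_682_1 <| jobs_append t9_682_2 <| jobs_append t9_682_3 <| jobs_append t9_682_4 <| jobs_append t9_682_5 <| jobs_append t9_682_6 <| jobs_append t9_682_7 <| jobs_append t9_682_8 <| jobs_append t9_682_9 <| jobs_append t9_682_10 <| jobs_append t9_682_11 <| jobs_append t9_682_12 <| jobs_append t9_682_13 <| jobs_append t9_682_14 <| jobs_append t9_682_15 <| jobs_append t9_682_16 <| jobs_append t9_682_17 <| jobs_append t9_682_18 <| jobs_append t9_682_19 <| jobs_append t9_682_20 <| jobs_append t9_682_21 <| jobs_append t9_682_22 <| jobs_append t9_682_23 <| jobs_append t9_682_24 <| jobs_append t9_682_25 <| jobs_append t9_682_26 <| jobs_append t9_682_27 <| jobs_append t9_682_28 <| jobs_append t9_682_29 <| jobs_append t9_682_30 <| jobs_append t9_682_31 <| jobs_append t9_682_32 <| jobs_append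 t9_682_33 <| jobs_append t9_682_34 <| jobs_append t9_682_35 <| jobs_append t9_682_36 <| jobs_append t9_682_37 <| jobs_append t9_682_38 <| jobs_append t9_682_39 <| jobs_append t9_682_40 <| jobs_append t9_682_41 <| jobs_append t9_682_42 <| jobs_append t9_682_43 <| jobs_append t9_682_44 <| jobs_append t9_682_45 <| jobs_append t9_682_46 <| jobs_append t9_682_47 <| jobs_append t9_682_48 <| jobs_append t9_682_49 <| jobs_append t9_682_50 <| jobs_append t9_682_51 <| jobs_append t9_682_52 <| jobs_append t9_682_53 <| jobs_append t9_682_54 <| jobs_append t9_682_55 <| jobs_append t9_682_56 <| jobs_append t9_682_57 <| jobs_append t9_682_58 <| jobs_append t9_682_59 <| jobs_append t9_682_60 <| jobs_append t9_682_61 <| jobs_append t9_682_62 <| List.forall_mem_nil _) (by decide +kernel)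

noncomputable def j9_683_0 : List Job := [
  ⟨63, 0x601028241a110a8643a21128a45a311a8e47c904a2c16c80422814c361909844160901, 0, 24, 0x0, []⟩]

theorem t9_683_0 : jobs 8 S9 b8_683 j9_683_0 = true := by decide +kernel

noncomputable def j9_683_1 : List Job := [
  ⟨62, 0x4904a2c16c80422814c361909844160901, 0, 20, 0x0, []⟩]

theorem t9_683_1 : jobs 8 S9 b8_683 j9_683_1 = true := by decide +kernel

noncomputable def j9_683_2 : List Job := [
  ⟨61, 0x641229249a512a964ba61329a4da713a9e4fe01028241a110a8643a21128a45a311a8e47c904a2c16c80422814c361909844160901, 0, 20, 0x0, []⟩]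

theorem t9_683_2 : jobs 8 S9 b8_683 j9_683_2 = true := by decide +kernel

noncomputable def j9_683_3 : List Job := [
  ⟨60, 0x4904a2c16c80422814c361909844160901, 0, 24, 0x0, []⟩]

theorem t9_683_3 : jobs 8 S9 b8_683 j9_683_3 = true := by decide +kernel

noncomputable def j9_683_4 : List Job := [
  ⟨59, 0x641229249a512a964ba61329a4da713a9e4fe01028241a110a8643a21128a45a311a8e47c904a2c16c80422814c361909844160901, 0, 24, 0x0, []⟩]

theorem t9_683_4 : jobs 8 S9 b8_683 j9_683_4 = true := by decide +kernel

noncomputable def j9_683_5 : List Job := [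
  ⟨58, 0x601028241a110a8643a21128a45a311a8e47c904a2c16c80422814c361909844160901, 0, 32, 0x0, []⟩]

theorem t9_683_5 : jobs 8 S9 b8_683 j9_683_5 = true := by decide +kernel

noncomputable def j9_683_6 : List Job := [
  ⟨57, 0x601028241a110a8643a21128a45a311a8e47c94592416c84512014c361909844160901, 0, 24, 0x0, []⟩]

theorem t9_683_6 : jobs 8 S9 b8_683 j9_683_6 = true := by decide +kernel

noncomputable def j9_683_7 : List Job := [
  ⟨56, 0x601028241a110a8643a21128a45a311a8e47c945b24164845320144361909844160901, 0, 24, 0x0, []⟩]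

theorem t9_683_7 : jobs 8 S9 b8_683 j9_683_7 = true := by decide +kernel

noncomputable def j9_683_8 : List Job := [
  ⟨55, 0x4904a2c16c80422814c361909844160901, 0, 24, 0x0, []⟩]

theorem t9_683_8 : jobs 8 S9 b8_683 j9_683_8 = true := by decide +kernel

noncomputable def j9_683_9 : List Job := [
  ⟨54, 0x641229249a512a964ba61329a4da713a9e4fe01028241a110a8643a21128a45a311a8e47c904a2c16c80422814c361909844160901, 0, 24, 0x0, []⟩]

theorem t9_683_9 : jobs 8 S9 b8_683 j9_683_9 = true := by decide +kernel

noncomputable def j9_683_10 : List Job := [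
  ⟨53, 0x494592416c84512014c361909844160901, 0, 18, 0x0, []⟩]

theorem t9_683_10 : jobs 8 S9 b8_683 j9_683_10 = true := by decide +kernel

noncomputable def j9_683_11 : List Job := [
  ⟨52, 0x641229249a512a964ba61329a4da713a9e4fe01028241a110a8643a21128a45a311a8e47c94592416c84512014c361909844160901, 0, 30, 0x3401003801, []⟩]

theorem t9_683_11 : jobs 8 S9 b8_683 j9_683_11 = true := by decide +kernel

noncomputable def j9_683_12 : List Job := [
  ⟨51, 0x4945b24164845320144361909844160901, 0, 18, 0x0, []⟩]

theorem t9_683_12 : jobs 8 S9 b8_683 j9_683_12 = true := by decide +kernel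

noncomputable def j9_683_13 : List Job := [
  ⟨50, 0x641229249a512a964ba61329a4da713a9e4fe01028241a110a8643a21128a45a311a8e47c945b24164845320144361909844160901, 0, 40, 0x4801004c01, []⟩]

theorem t9_683_13 : jobs 8 S9 b8_683 j9_683_13 = true := by decide +kernel

noncomputable def j9_683_14 : List Job := [
  ⟨40, 0x6110a8643a311a8e47e01028241a21128a45c844829164804a2816c361909844160901, 0, 2, 0x0, []⟩]

theorem t9_683_14 : jobs 8 S9 b8_683 j9_683_14 = true := by decide +kernel

noncomputable def j9_683_15 : List Job := [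
  ⟨38, 0x6110a8643a311a8e47e01028241a21128a45c844a2816480482916c361909844160901, 0, 2, 0x201000401, []⟩]

theorem t9_683_15 : jobs 8 S9 b8_683 j9_683_15 = true := by decide +kernel

noncomputable def j9_683_16 : List Job := [
  ⟨36, 0x6110a8643a311a8e47e01028241a21128a45c844a2916c804828164361909844160901, 0, 4, 0x201000401000601000801, []⟩]

theorem t9_683_16 : jobs 8 S9 b8_683 j9_683_16 = true := by decide +kernel

noncomputable def j9_683_17 : List Job := [
  ⟨34, 0x6110a8643a311a8e47e01028241a21128a45c844829164804a2816c361909844160901, 0, 2, 0x201000401, []⟩]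

theorem t9_683_17 : jobs 8 S9 b8_683 j9_683_17 = true := by decide +kernel

noncomputable def j9_683_18 : List Job := [
  ⟨32, 0x6110a8643a311a8e47e01028241a21128a45c844a2816480482916c361909844160901, 0, 4, 0x201000401, []⟩]

theorem t9_683_18 : jobs 8 S9 b8_683 j9_683_18 = true := by decide +kernel

noncomputable def j9_683_19 : List Job := [
  ⟨30, 0x6110a8643a311a8e47e01028241a21128a45c844a2916c804828164361909844160901, 0, 20, 0x0, []⟩]

theorem t9_683_19 : jobs 8 S9 b8_683 j9_683_19 = true := by decide +kernel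

noncomputable def j9_683_20 : List Job := [
  ⟨0, 0x641229249a512a964ba61329a4da713a9e4fc844829164804a2816c543b140e44433100c4361909844160901, 0, 4, 0x0, []⟩]

theorem t9_683_20 : jobs 8 S9 b8_683 j9_683_20 = true := by decide +kernel

theorem d9_683 : Dn 8 S9 b8_683 := dn_of (Js := j9_683_0 ++ (j9_683_1 ++ (j9_683_2 ++ (j9_683_3 ++ (j9_683_4 ++ (j9_683_5 ++ (j9_683_6 ++ (j9_683_7 ++ (j9_683_8 ++ (j9_683_9 ++ (j9_683_10 ++ (j9_683_11 ++ (j9_683_12 ++ (j9_683_13 ++ (j9_683_14 ++ (j9_683_15 ++ (j9_683_16 ++ (j9_683_17 ++ (j9_683_18 ++ (j9_683_19 ++ (j9_683_20 ++ [])))))))))))))))))))))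
  (jobs_append t9_683_0 <| jobs_append t9_683_1 <| jobs_append t9_683_2 <| jobs_append t9_683_3 <| jobs_append t9_683_4 <| jobs_append t9_683_5 <| jobs_append t9_683_6 <| jobs_append t9_683_7 <| jobs_append t9_683_8 <| jobs_append t9_683_9 <| jobs_append t9_683_10 <| jobs_append t9_683_11 <| jobs_append t9_683_12 <| jobs_append t9_683_13 <| jobs_append t9_683_14 <| jobs_append t9_683_15 <| jobs_append t9_683_16 <| jobs_append t9_683_17 <| jobs_append t9_683_18 <| jobs_append t9_683_19 <| jobs_append t9_683_20 <| List.forall_mem_nil _) (by decide +kernel)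

noncomputable def j9_684_0 : List Job := [
  ⟨61, 0x4844a2916c804828164361909844160901, 0, 2, 0x0, []⟩]

theorem t9_684_0 : jobs 8 S9 b8_684 j9_684_0 = true := by decide +kernel

noncomputable def j9_684_1 : List Job := [
  ⟨58, 0x4844829164804a2816c361909844160901, 0, 4, 0x0, []⟩]

theorem t9_684_1 : jobs 8 S9 b8_684 j9_684_1 = true := by decide +kernel

noncomputable def j9_684_2 : List Job := [
  ⟨56, 0x4844a2916c804828164361909844160901, 0, 14, 0x0, []⟩]

theorem t9_684_2 : jobs 8 S9 b8_684 j9_684_2 = true := by decide +kernel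

noncomputable def j9_684_3 : List Job := [
  ⟨44, 0x641229249a512a964ba61329a4da713a9e4fe01028241a110a8643a21128a45a311a8e47c844829164804a2816c361909844160901, 0, 3, 0x401, []⟩]

theorem t9_684_3 : jobs 8 S9 b8_684 j9_684_3 = true := by decide +kernel

noncomputable def j9_684_4 : List Job := [
  ⟨42, 0x641229249a512a964ba61329a4da713a9e4fe01028241a110a8643a21128a45a311a8e47c844a2816480482916c361909844160901, 0, 6, 0x0, []⟩]

theorem t9_684_4 : jobs 8 S9 b8_684 j9_684_4 = true := by decide +kernel

noncomputable def j9_684_5 : List Job := [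
  ⟨40, 0x641229249a512a964ba61329a4da713a9e4fe01028241a110a8643a21128a45a311a8e47c844a2916c804828164361909844160901, 0, 16, 0x0, []⟩]

theorem t9_684_5 : jobs 8 S9 b8_684 j9_684_5 = true := by decide +kernel

noncomputable def j9_684_6 : List Job := [
  ⟨29, 0x4a4592816c84492012c361909844160901, 0, 4, 0x0, []⟩]

theorem t9_684_6 : jobs 8 S9 b8_684 j9_684_6 = true := by decide +kernel

noncomputable def j9_684_7 : List Job := [
  ⟨28, 0x4a4592816c84492012c361909844160901, 0, 4, 0x0, []⟩]

theorem t9_684_7 : jobs 8 S9 b8_684 j9_684_7 = true := by decide +kernel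

noncomputable def j9_684_8 : List Job := [
  ⟨27, 0x4a45b28164844b20124361909844160901, 0, 4, 0x0, []⟩]

theorem t9_684_8 : jobs 8 S9 b8_684 j9_684_8 = true := by decide +kernel

noncomputable def j9_684_9 : List Job := [
  ⟨26, 0x4a45b28164844b20124361909844160901, 0, 14, 0x0, []⟩]

theorem t9_684_9 : jobs 8 S9 b8_684 j9_684_9 = true := by decide +kernel

noncomputable def j9_684_10 : List Job := [
  ⟨25, 0x4984e2e17c80422814c381f09844180f01, 0, 52, 0x0, []⟩]

theorem t9_684_10 : jobs 8 S9 b8_684 j9_684_10 = true := by decide +kernel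

noncomputable def j9_684_11 : List Job := [
  ⟨24, 0x641229249a512a964ba61329a4da713a9e4fe01028241a110a8643a21128a45a311a8e47c984e2e17c80422814c381f09844180f01, 0, 52, 0x0, []⟩]

theorem t9_684_11 : jobs 8 S9 b8_684 j9_684_11 = true := by decide +kernel

noncomputable def j9_684_12 : List Job := [
  ⟨23, 0x601028241a110a8643a21128a45a311a8e47c984e2e17c80422814c381f09844180f01, 0, 80, 0x0, []⟩]

theorem t9_684_12 : jobs 8 S9 b8_684 j9_684_12 = true := by decide +kernel

noncomputable def j9_684_13 : List Job := [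
  ⟨22, 0x4984e2e17c845320144381f09844180f01, 0, 52, 0x0, []⟩]

theorem t9_684_13 : jobs 8 S9 b8_684 j9_684_13 = true := by decide +kernel

noncomputable def j9_684_14 : List Job := [
  ⟨21, 0x641229249a512a964ba61329a4da713a9e4fe01028241a110a8643a21128a45a311a8e47c984e2e17c845320144381f09844180f01, 0, 52, 0x0, []⟩]

theorem t9_684_14 : jobs 8 S9 b8_684 j9_684_14 = true := by decide +kernel

noncomputable def j9_684_15 : List Job := [
  ⟨20, 0x601028241a110a8643a21128a45a311a8e47c984e2e17c845320144381f09844180f01, 0, 80, 0x0, []⟩]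

theorem t9_684_15 : jobs 8 S9 b8_684 j9_684_15 = true := by decide +kernel

noncomputable def j9_684_16 : List Job := [
  ⟨19, 0x488462a15c80422814c2e15098440e0501, 0, 20, 0x0, []⟩]

theorem t9_684_16 : jobs 8 S9 b8_684 j9_684_16 = true := by decide +kernel

noncomputable def j9_684_17 : List Job := [
  ⟨18, 0x641229249a512a964ba61329a4da713a9e4fe01028241a110a8643a21128a45a311a8e47c88462a15c80422814c2e15098440e0501, 0, 20, 0x0, []⟩]

theorem t9_684_17 : jobs 8 S9 b8_684 j9_684_17 = true := by decide +kernel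

noncomputable def j9_684_18 : List Job := [
  ⟨17, 0x488462a15c80422814c2e15098440e0501, 0, 20, 0x0, []⟩]

theorem t9_684_18 : jobs 8 S9 b8_684 j9_684_18 = true := by decide +kernel

noncomputable def j9_684_19 : List Job := [
  ⟨16, 0x641229249a512a964ba61329a4da713a9e4fe01028241a110a8643a21128a45a311a8e47c88462a15c80422814c2e15098440e0501, 0, 20, 0x0, []⟩]

theorem t9_684_19 : jobs 8 S9 b8_684 j9_684_19 = true := by decide +kernel

noncomputable def j9_684_20 : List Job := [
  ⟨15, 0x601028241a110a8643a21128a45a311a8e47c88462a15c80422814c2e15098440e0501, 0, 32, 0x0, []⟩]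

theorem t9_684_20 : jobs 8 S9 b8_684 j9_684_20 = true := by decide +kernel

noncomputable def j9_684_21 : List Job := [
  ⟨14, 0x601028241a110a8643a21128a45a311a8e47c88462a15c80422814c2e15098440e0501, 0, 32, 0x0, []⟩]

theorem t9_684_21 : jobs 8 S9 b8_684 j9_684_21 = true := by decide +kernel

noncomputable def j9_684_22 : List Job := [
  ⟨13, 0x488462a15c80422814c2e15098440e0501, 0, 16, 0x0, []⟩]

theorem t9_684_22 : jobs 8 S9 b8_684 j9_684_22 = true := by decide +kernel

noncomputable def j9_684_23 : List Job := [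
  ⟨12, 0x641229249a512a964ba61329a4da713a9e4fe01028241a110a8643a21128a45a311a8e47c88462a15c80422814c2e15098440e0501, 0, 16, 0x0, []⟩]

theorem t9_684_23 : jobs 8 S9 b8_684 j9_684_23 = true := by decide +kernel

noncomputable def j9_684_24 : List Job := [
  ⟨11, 0x48c57221548453201442e15098440e0501, 0, 16, 0x0, []⟩]

theorem t9_684_24 : jobs 8 S9 b8_684 j9_684_24 = true := by decide +kernel

noncomputable def j9_684_25 : List Job := [
  ⟨10, 0x641229249a512a964ba61329a4da713a9e4fe01028241a110a8643a21128a45a311a8e47c8c57221548453201442e15098440e0501, 0, 16, 0x0, []⟩]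

theorem t9_684_25 : jobs 8 S9 b8_684 j9_684_25 = true := by decide +kernel

noncomputable def j9_684_26 : List Job := [
  ⟨9, 0x601028241a110a8643a21128a45a311a8e47c88462a15c80422814c2e15098440e0501, 0, 24, 0x0, []⟩]

theorem t9_684_26 : jobs 8 S9 b8_684 j9_684_26 = true := by decide +kernel

noncomputable def j9_684_27 : List Job := [
  ⟨8, 0x601028241a110a8643a21128a45a311a8e47c8c57221548453201442e15098440e0501, 0, 24, 0x0, []⟩]

theorem t9_684_27 : jobs 8 S9 b8_684 j9_684_27 = true := by decide +kernel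

noncomputable def j9_684_28 : List Job := [
  ⟨7, 0x488462a15c80422814c2e15098440e0501, 0, 16, 0x0, []⟩]

theorem t9_684_28 : jobs 8 S9 b8_684 j9_684_28 = true := by decide +kernel

noncomputable def j9_684_29 : List Job := [
  ⟨6, 0x641229249a512a964ba61329a4da713a9e4fe01028241a110a8643a21128a45a311a8e47c88462a15c80422814c2e15098440e0501, 0, 16, 0x0, []⟩]

theorem t9_684_29 : jobs 8 S9 b8_684 j9_684_29 = true := by decide +kernel

noncomputable def j9_684_30 : List Job := [
  ⟨5, 0x48c57221548453201442e15098440e0501, 0, 16, 0x0, []⟩]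

theorem t9_684_30 : jobs 8 S9 b8_684 j9_684_30 = true := by decide +kernel

noncomputable def j9_684_31 : List Job := [
  ⟨4, 0x641229249a512a964ba61329a4da713a9e4fe01028241a110a8643a21128a45a311a8e47c8c57221548453201442e15098440e0501, 0, 40, 0x0, []⟩]

theorem t9_684_31 : jobs 8 S9 b8_684 j9_684_31 = true := by decide +kernel

noncomputable def j9_684_32 : List Job := [
  ⟨3, 0x601028241a110a8643a21128a45a311a8e47c88462a15c80422814c2e15098440e0501, 0, 24, 0x0, []⟩]

theorem t9_684_32 : jobs 8 S9 b8_684 j9_684_32 = true := by decide +kernel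

noncomputable def j9_684_33 : List Job := [
  ⟨2, 0x601028241a110a8643a21128a45a311a8e47c8c57221548453201442e15098440e0501, 0, 24, 0x0, []⟩]

theorem t9_684_33 : jobs 8 S9 b8_684 j9_684_33 = true := by decide +kernel

noncomputable def j9_684_34 : List Job := [
  ⟨1, 0x601028241a110a8643a21128a45a311a8e47c904a2c16c80422814c361909844160901, 0, 32, 0x0, []⟩]

theorem t9_684_34 : jobs 8 S9 b8_684 j9_684_34 = true := by decide +kernel

noncomputable def j9_684_35 : List Job := [
  ⟨0, 0x641229249a512a964ba61329a4da713a9e4fc904a2c16c80422814c361909844160901, 0, 24, 0x0, []⟩]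

theorem t9_684_35 : jobs 8 S9 b8_684 j9_684_35 = true := by decide +kernel

theorem d9_684 : Dn 8 S9 b8_684 := dn_of (Js := j9_684_0 ++ (j9_684_1 ++ (j9_684_2 ++ (j9_684_3 ++ (j9_684_4 ++ (j9_684_5 ++ (j9_684_6 ++ (j9_684_7 ++ (j9_684_8 ++ (j9_684_9 ++ (j9_684_10 ++ (j9_684_11 ++ (j9_684_12 ++ (j9_684_13 ++ (j9_684_14 ++ (j9_684_15 ++ (j9_684_16 ++ (j9_684_17 ++ (j9_684_18 ++ (j9_684_19 ++ (j9_684_20 ++ (j9_684_21 ++ (j9_684_22 ++ (j9_684_23 ++ (j9_684_24 ++ (j9_684_25 ++ (j9_684_26 ++ (j9_684_27 ++ (j9_684_28 ++ (j9_684_29 ++ (j9_684_30 ++ (j9_684_31 ++ (j9_684_32 ++ (j9_684_33 ++ (j9_684_34 ++ (j9_684_35 ++ []))))))))))))))))))))))))))))))))))))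
  (jobs_append t9_684_0 <| jobs_append t9_684_1 <| jobs_append t9_684_2 <| jobs_append t9_684_3 <| jobs_append t9_684_4 <| jobs_append t9_684_5 <| jobs_append t9_684_6 <| jobs_append t9_684_7 <| jobs_append t9_684_8 <| jobs_append t9_684_9 <| jobs_append t9_684_10 <| jobs_append t9_684_11 <| jobs_append t9_684_12 <| jobs_append t9_684_13 <| jobs_append t9_684_14 <| jobs_append t9_684_15 <| jobs_append t9_684_16 <| jobs_append t9_684_17 <| jobs_append t9_684_18 <| jobs_append t9_684_19 <| jobs_append t9_684_20 <| jobs_append t9_684_21 <| jobs_append t9_684_22 <| jobs_append t9_684_23 <| jobs_append t9_684_24 <| jobs_append t9_684_25 <| jobs_append t9_684_26 <| jobs_append t9_684_27 <| jobs_append t9_684_28 <| jobs_append t9_684_29 <| jobs_append t9_684_30 <| jobs_append t9_684_31 <| jobs_append t9_684_32 <| jobs_append t9_684_33 <| jobs_append t9_684_34 <| jobs_append t9_684_35 <| List.forall_mem_nil _) (by decide +kernel)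

noncomputable def j9_685_0 : List Job := [
  ⟨63, 0x6110a8643a311a8e47e01028241a21128a45c84482816c804a29164361909844160901, 0, 2, 0x201000401, []⟩]

theorem t9_685_0 : jobs 8 S9 b8_685 j9_685_0 = true := by decide +kernel

noncomputable def j9_685_1 : List Job := [
  ⟨61, 0x6110a8643a311a8e47e01028241a21128a45c844829164804a2816c361909844160901, 0, 4, 0x201000401000601000801, []⟩]

theorem t9_685_1 : jobs 8 S9 b8_685 j9_685_1 = true := by decide +kernel

noncomputable def j9_685_2 : List Job := [
  ⟨59, 0x6110a8643a311a8e47e01028241a21128a45c844a2816480482916c361909844160901, 0, 4, 0x201000401, []⟩]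

theorem t9_685_2 : jobs 8 S9 b8_685 j9_685_2 = true := by decide +kernel

noncomputable def j9_685_3 : List Job := [
  ⟨57, 0x6110a8643a311a8e47e01028241a21128a45c844a2916c804828164361909844160901, 0, 20, 0x0, []⟩]

theorem t9_685_3 : jobs 8 S9 b8_685 j9_685_3 = true := by decide +kernel

noncomputable def j9_685_4 : List Job := [
  ⟨56, 0x601028241a311a8e47c88462e17c80422c16c301b0a05c180f01, 0, 28, 0x0, []⟩]

theorem t9_685_4 : jobs 8 S9 b8_685 j9_685_4 = true := by decide +kernel

noncomputable def j9_685_5 : List Job := [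
  ⟨55, 0x601028241a311a8e47c88462e17c80422c16c301b0a05c180f01, 0, 28, 0x0, []⟩]

theorem t9_685_5 : jobs 8 S9 b8_685 j9_685_5 = true := by decide +kernel

noncomputable def j9_685_6 : List Job := [
  ⟨54, 0x601028241a311a8e47c984e2a15c80422c16c381f0c06c080701, 0, 28, 0x0, []⟩]

theorem t9_685_6 : jobs 8 S9 b8_685 j9_685_6 = true := by decide +kernel

noncomputable def j9_685_7 : List Job := [
  ⟨53, 0x605068c47e01048d474984e2a15c80422c16c381f0c06c080701, 0, 28, 0x0, []⟩]

theorem t9_685_7 : jobs 8 S9 b8_685 j9_685_7 = true := by decide +kernel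

noncomputable def j9_685_8 : List Job := [
  ⟨52, 0x4904a2814c80422c16c361909844160901, 0, 4, 0x201000401000601000801, []⟩]

theorem t9_685_8 : jobs 8 S9 b8_685 j9_685_8 = true := by decide +kernel

noncomputable def j9_685_9 : List Job := [
  ⟨51, 0x6110a8643a21128a45e01028241a311a8e47c904a2814c80422c16c361909844160901, 0, 4, 0x0, []⟩]

theorem t9_685_9 : jobs 8 S9 b8_685 j9_685_9 = true := by decide +kernel

noncomputable def j9_685_10 : List Job := [
  ⟨50, 0x4904a2814c80422c16c361909844160901, 0, 4, 0x201000401000601000801, []⟩]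

theorem t9_685_10 : jobs 8 S9 b8_685 j9_685_10 = true := by decide +kernel

noncomputable def j9_685_11 : List Job := [
  ⟨49, 0x6110a8643a21128a45e01028241a311a8e47c904a2814c80422c16c361909844160901, 0, 4, 0x0, []⟩]

theorem t9_685_11 : jobs 8 S9 b8_685 j9_685_11 = true := by decide +kernel

noncomputable def j9_685_12 : List Job := [
  ⟨48, 0x4904a2814c80422c16c361909844160901, 0, 4, 0x201000401000601000801, []⟩]

theorem t9_685_12 : jobs 8 S9 b8_685 j9_685_12 = true := by decide +kernel

noncomputable def j9_685_13 : List Job := [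
  ⟨47, 0x6110a8643a21128a45e01028241a311a8e47c904a2814c80422c16c361909844160901, 0, 4, 0x0, []⟩]

theorem t9_685_13 : jobs 8 S9 b8_685 j9_685_13 = true := by decide +kernel

noncomputable def j9_685_14 : List Job := [
  ⟨46, 0x4945324144845b20164361909844160901, 0, 4, 0x201000401000601000801, []⟩]

theorem t9_685_14 : jobs 8 S9 b8_685 j9_685_14 = true := by decide +kernel

noncomputable def j9_685_15 : List Job := [
  ⟨45, 0x6110a8643a21128a45e01028241a311a8e47c945324144845b20164361909844160901, 0, 4, 0x0, []⟩]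

theorem t9_685_15 : jobs 8 S9 b8_685 j9_685_15 = true := by decide +kernel

noncomputable def j9_685_16 : List Job := [
  ⟨44, 0x4904a2814c80422c16c361909844160901, 0, 4, 0x201000401000601000801, []⟩]

theorem t9_685_16 : jobs 8 S9 b8_685 j9_685_16 = true := by decide +kernel

noncomputable def j9_685_17 : List Job := [
  ⟨43, 0x6110a8643a21128a45e01028241a311a8e47c904a2814c80422c16c361909844160901, 0, 4, 0x0, []⟩]

theorem t9_685_17 : jobs 8 S9 b8_685 j9_685_17 = true := by decide +kernel

noncomputable def j9_685_18 : List Job := [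
  ⟨42, 0x494512414c84592016c361909844160901, 0, 4, 0x201000401000601000801, []⟩]

theorem t9_685_18 : jobs 8 S9 b8_685 j9_685_18 = true := by decide +kernel

noncomputable def j9_685_19 : List Job := [
  ⟨41, 0x6110a8643a21128a45e01028241a311a8e47c94512414c84592016c361909844160901, 0, 13, 0xa01000c01000e01001001001201001401001601, []⟩]

theorem t9_685_19 : jobs 8 S9 b8_685 j9_685_19 = true := by decide +kernel

noncomputable def j9_685_20 : List Job := [
  ⟨40, 0x4945324144845b20164361909844160901, 0, 4, 0x201000401000601000801, []⟩]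

theorem t9_685_20 : jobs 8 S9 b8_685 j9_685_20 = true := by decide +kernel

noncomputable def j9_685_21 : List Job := [
  ⟨39, 0x6110a8643a21128a45e01028241a311a8e47c945324144845b20164361909844160901, 0, 20, 0x2601002801, []⟩]

theorem t9_685_21 : jobs 8 S9 b8_685 j9_685_21 = true := by decide +kernel

noncomputable def j9_685_22 : List Job := [
  ⟨38, 0x601028241a21128a45c984e2e17c80422814c381f09844180f01, 0, 128, 0x0, []⟩]

theorem t9_685_22 : jobs 8 S9 b8_685 j9_685_22 = true := by decide +kernel

noncomputable def j9_685_23 : List Job := [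
  ⟨37, 0x601028241a21128a45c984e2e17c80422814c381f09844180f01, 0, 40, 0x0, []⟩]

theorem t9_685_23 : jobs 8 S9 b8_685 j9_685_23 = true := by decide +kernel

noncomputable def j9_685_24 : List Job := [
  ⟨36, 0x601028241a21128a45c9c5d2617c845320144381f09844180f01, 0, 56, 0x0, []⟩]

theorem t9_685_24 : jobs 8 S9 b8_685 j9_685_24 = true := by decide +kernel

noncomputable def j9_685_25 : List Job := [
  ⟨35, 0x601028241a21128a45c984e2e17c80422814c381f09844180f01, 0, 40, 0x0, []⟩]

theorem t9_685_25 : jobs 8 S9 b8_685 j9_685_25 = true := by decide +kernel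

noncomputable def j9_685_26 : List Job := [
  ⟨34, 0x601028241a21128a45c9c5d2617c845320144381f09844180f01, 0, 40, 0x0, []⟩]

theorem t9_685_26 : jobs 8 S9 b8_685 j9_685_26 = true := by decide +kernel

noncomputable def j9_685_27 : List Job := [
  ⟨33, 0x601028241a21128a45c88462a15c80422814c2e15098440e0501, 0, 32, 0x0, []⟩]

theorem t9_685_27 : jobs 8 S9 b8_685 j9_685_27 = true := by decide +kernel

noncomputable def j9_685_28 : List Job := [
  ⟨32, 0x601028241a21128a45c88462a15c80422814c2e15098440e0501, 0, 32, 0x0, []⟩]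

theorem t9_685_28 : jobs 8 S9 b8_685 j9_685_28 = true := by decide +kernel

noncomputable def j9_685_29 : List Job := [
  ⟨31, 0x605068845601048945c88462a15c80422814c2e15098440e0501, 0, 32, 0x0, []⟩]

theorem t9_685_29 : jobs 8 S9 b8_685 j9_685_29 = true := by decide +kernel

noncomputable def j9_685_30 : List Job := [
  ⟨30, 0x605068945e01048845488462a15c80422814c2e15098440e0501, 0, 32, 0x0, []⟩]

theorem t9_685_30 : jobs 8 S9 b8_685 j9_685_30 = true := by decide +kernel

noncomputable def j9_685_31 : List Job := [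
  ⟨29, 0x601028241a21128a45c88462a15c80422814c2e15098440e0501, 0, 20, 0x0, []⟩]

theorem t9_685_31 : jobs 8 S9 b8_685 j9_685_31 = true := by decide +kernel

noncomputable def j9_685_32 : List Job := [
  ⟨28, 0x601028241a21128a45c8c552215c84512014c2e15098440e0501, 0, 14, 0x0, []⟩]

theorem t9_685_32 : jobs 8 S9 b8_685 j9_685_32 = true := by decide +kernel

noncomputable def j9_685_33 : List Job := [
  ⟨27, 0x601028241a21128a45c8c57221548453201442e15098440e0501, 0, 14, 0x0, []⟩]

theorem t9_685_33 : jobs 8 S9 b8_685 j9_685_33 = true := by decide +kernel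

noncomputable def j9_685_34 : List Job := [
  ⟨26, 0x605068945e01048845488462a15c80422814c2e15098440e0501, 0, 20, 0x0, []⟩]

theorem t9_685_34 : jobs 8 S9 b8_685 j9_685_34 = true := by decide +kernel

noncomputable def j9_685_35 : List Job := [
  ⟨25, 0x605068845601048945c8c552215c84512014c2e15098440e0501, 0, 18, 0x0, []⟩]

theorem t9_685_35 : jobs 8 S9 b8_685 j9_685_35 = true := by decide +kernel

noncomputable def j9_685_36 : List Job := [
  ⟨24, 0x605068945e0104884548c57221548453201442e15098440e0501, 0, 33, 0x0, []⟩]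

theorem t9_685_36 : jobs 8 S9 b8_685 j9_685_36 = true := by decide +kernel

noncomputable def j9_685_37 : List Job := [
  ⟨23, 0x601028241a21128a45c88462a15c80422814c2e15098440e0501, 0, 20, 0x0, []⟩]

theorem t9_685_37 : jobs 8 S9 b8_685 j9_685_37 = true := by decide +kernel

noncomputable def j9_685_38 : List Job := [
  ⟨22, 0x601028241a21128a45c8c57221548453201442e15098440e0501, 0, 20, 0x0, []⟩]

theorem t9_685_38 : jobs 8 S9 b8_685 j9_685_38 = true := by decide +kernel

noncomputable def j9_685_39 : List Job := [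
  ⟨21, 0x605068945e01048845488462a15c80422814c2e15098440e0501, 0, 20, 0x0, []⟩]

theorem t9_685_39 : jobs 8 S9 b8_685 j9_685_39 = true := by decide +kernel

noncomputable def j9_685_40 : List Job := [
  ⟨20, 0x605068945e0104884548c57221548453201442e15098440e0501, 0, 20, 0x0, []⟩]

theorem t9_685_40 : jobs 8 S9 b8_685 j9_685_40 = true := by decide +kernel

noncomputable def j9_685_41 : List Job := [
  ⟨19, 0x4904a2c16c80422814c361909844160901, 0, 32, 0x0, []⟩]

theorem t9_685_41 : jobs 8 S9 b8_685 j9_685_41 = true := by decide +kernel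

noncomputable def j9_685_42 : List Job := [
  ⟨18, 0x6110a8643a311a8e47e01028241a21128a45c904a2c16c80422814c361909844160901, 0, 32, 0x0, []⟩]

theorem t9_685_42 : jobs 8 S9 b8_685 j9_685_42 = true := by decide +kernel

noncomputable def j9_685_43 : List Job := [
  ⟨17, 0x4904a2c16c80422814c361909844160901, 0, 32, 0x0, []⟩]

theorem t9_685_43 : jobs 8 S9 b8_685 j9_685_43 = true := by decide +kernel

noncomputable def j9_685_44 : List Job := [
  ⟨16, 0x6110a8643a311a8e47e01028241a21128a45c904a2c16c80422814c361909844160901, 0, 32, 0x0, []⟩]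

theorem t9_685_44 : jobs 8 S9 b8_685 j9_685_44 = true := by decide +kernel

noncomputable def j9_685_45 : List Job := [
  ⟨15, 0x4904a2c16c80422814c361909844160901, 0, 20, 0x0, []⟩]

theorem t9_685_45 : jobs 8 S9 b8_685 j9_685_45 = true := by decide +kernel

noncomputable def j9_685_46 : List Job := [
  ⟨14, 0x6110a8643a311a8e47e01028241a21128a45c904a2c16c80422814c361909844160901, 0, 20, 0x0, []⟩]

theorem t9_685_46 : jobs 8 S9 b8_685 j9_685_46 = true := by decide +kernel

noncomputable def j9_685_47 : List Job := [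
  ⟨13, 0x4945b24164845320144361909844160901, 0, 20, 0x0, []⟩]

theorem t9_685_47 : jobs 8 S9 b8_685 j9_685_47 = true := by decide +kernel

noncomputable def j9_685_48 : List Job := [
  ⟨12, 0x6110a8643a311a8e47e01028241a21128a45c945b24164845320144361909844160901, 0, 20, 0x0, []⟩]

theorem t9_685_48 : jobs 8 S9 b8_685 j9_685_48 = true := by decide +kernel

noncomputable def j9_685_49 : List Job := [
  ⟨11, 0x4904a2c16c80422814c361909844160901, 0, 20, 0x0, []⟩]

theorem t9_685_49 : jobs 8 S9 b8_685 j9_685_49 = true := by decide +kernel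

noncomputable def j9_685_50 : List Job := [
  ⟨10, 0x6110a8643a311a8e47e01028241a21128a45c904a2c16c80422814c361909844160901, 0, 20, 0x0, []⟩]

theorem t9_685_50 : jobs 8 S9 b8_685 j9_685_50 = true := by decide +kernel

noncomputable def j9_685_51 : List Job := [
  ⟨9, 0x494592416c84512014c361909844160901, 0, 14, 0x0, []⟩]

theorem t9_685_51 : jobs 8 S9 b8_685 j9_685_51 = true := by decide +kernel

noncomputable def j9_685_52 : List Job := [
  ⟨8, 0x6110a8643a311a8e47e01028241a21128a45c94592416c84512014c361909844160901, 0, 20, 0x1e01002001002601002801, []⟩]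

theorem t9_685_52 : jobs 8 S9 b8_685 j9_685_52 = true := by decide +kernel

noncomputable def j9_685_53 : List Job := [
  ⟨7, 0x4945b24164845320144361909844160901, 0, 14, 0x0, []⟩]

theorem t9_685_53 : jobs 8 S9 b8_685 j9_685_53 = true := by decide +kernel

noncomputable def j9_685_54 : List Job := [
  ⟨6, 0x6110a8643a311a8e47e01028241a21128a45c945b24164845320144361909844160901, 0, 33, 0x3a01003c01003e01004001004201, []⟩]

theorem t9_685_54 : jobs 8 S9 b8_685 j9_685_54 = true := by decide +kernel

theorem d9_685 : Dn 8 S9 b8_685 := dn_of (Js := j9_685_0 ++ (j9_685_1 ++ (j9_685_2 ++ (j9_685_3 ++ (j9_685_4 ++ (j9_685_5 ++ (j9_685_6 ++ (j9_685_7 ++ (j9_685_8 ++ (j9_685_9 ++ (j9_685_10 ++ (j9_685_11 ++ (j9_685_12 ++ (j9_685_13 ++ (j9_685_14 ++ (j9_685_15 ++ (j9_685_16 ++ (j9_685_17 ++ (j9_685_18 ++ (j9_685_19 ++ (j9_685_20 ++ (j9_685_21 ++ (j9_685_22 ++ (j9_685_23 ++ (j9_685_24 ++ (j9_685_25 ++ (j9_685_26 ++ (j9_685_27 ++ (j9_685_28 ++ (j9_685_29 ++ (j9_685_30 ++ (j9_685_31 ++ (j9_685_32 ++ (j9_685_33 ++ (j9_685_34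 ++ (j9_685_35 ++ (j9_685_36 ++ (j9_685_37 ++ (j9_685_38 ++ (j9_685_39 ++ (j9_685_40 ++ (j9_685_41 ++ (j9_685_42 ++ (j9_685_43 ++ (j9_685_44 ++ (j9_685_45 ++ (j9_685_46 ++ (j9_685_47 ++ (j9_685_48 ++ (j9_685_49 ++ (j9_685_50 ++ (j9_685_51 ++ (j9_685_52 ++ (j9_685_53 ++ (j9_685_54 ++ [])))))))))))))))))))))))))))))))))))))))))))))))))))))))
  (jobs_append t9_685_0 <| jobs_append t9_685_1 <| jobs_append t9_685_2 <| jobs_append t9_685_3 <| jobs_append t9_685_4 <| jobs_append t9_685_5 <| jobs_append t9_685_6 <| jobs_append t9_685_7 <| jobs_append t9_685_8 <| jobs_append t9_685_9 <| jobs_append t9_685_10 <| jobs_append t9_685_11 <| jobs_append t9_685_12 <| jobs_append t9_685_13 <| jobs_append t9_685_14 <| jobs_append t9_685_15 <| jobs_append t9_685_16 <| jobs_append t9_685_17 <| jobs_append t9_685_18 <| jobs_append t9_685_19 <| jobs_append t9_685_20 <| jobs_append t9_685_21 <| jobs_append t9_685_22 <| jobs_append t9_685_23 <| jobs_append t9_685_24 <| jobs_append t9_685_25 <| jobs_append t9_685_26 <| jobs_append t9_685_27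 <| jobs_append t9_685_28 <| jobs_append t9_685_29 <| jobs_append t9_685_30 <| jobs_append t9_685_31 <| jobs_append t9_685_32 <| jobs_append t9_685_33 <| jobs_append t9_685_34 <| jobs_append t9_685_35 <| jobs_append t9_685_36 <| jobs_append t9_685_37 <| jobs_append t9_685_38 <| jobs_append t9_685_39 <| jobs_append t9_685_40 <| jobs_append t9_685_41 <| jobs_append t9_685_42 <| jobs_append t9_685_43 <| jobs_append t9_685_44 <| jobs_append t9_685_45 <| jobs_append t9_685_46 <| jobs_append t9_685_47 <| jobs_append t9_685_48 <| jobs_append t9_685_49 <| jobs_append t9_685_50 <| jobs_append t9_685_51 <| jobs_append t9_685_52 <| jobs_append t9_685_53 <| jobs_append t9_685_54 <| List.forall_mem_nil _) (by decide +kernel)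

noncomputable def j9_686_0 : List Job := [
  ⟨57, 0x4a4592816c84492012c361909844160901, 0, 4, 0x0, []⟩]

theorem t9_686_0 : jobs 8 S9 b8_686 j9_686_0 = true := by decide +kernel

noncomputable def j9_686_1 : List Job := [
  ⟨56, 0x4a45b28164844b20124361909844160901, 0, 12, 0x0, []⟩]

theorem t9_686_1 : jobs 8 S9 b8_686 j9_686_1 = true := by decide +kernel

noncomputable def j9_686_2 : List Job := [
  ⟨55, 0x488462a15c80422814c2e15098440e0501, 0, 64, 0x0, []⟩]

theorem t9_686_2 : jobs 8 S9 b8_686 j9_686_2 = true := by decide +kernel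

noncomputable def j9_686_3 : List Job := [
  ⟨54, 0x641229249a512a964ba61329a4da713a9e4fe01028241a110a8643a21128a45a311a8e47c88462a15c80422814c2e15098440e0501, 0, 64, 0x0, []⟩]

theorem t9_686_3 : jobs 8 S9 b8_686 j9_686_3 = true := by decide +kernel

noncomputable def j9_686_4 : List Job := [
  ⟨53, 0x488462a15c80422814c2e15098440e0501, 0, 64, 0x0, []⟩]

theorem t9_686_4 : jobs 8 S9 b8_686 j9_686_4 = true := by decide +kernel

noncomputable def j9_686_5 : List Job := [
  ⟨52, 0x641229249a512a964ba61329a4da713a9e4fe01028241a110a8643a21128a45a311a8e47c88462a15c80422814c2e15098440e0501, 0, 64, 0x0, []⟩]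

theorem t9_686_5 : jobs 8 S9 b8_686 j9_686_5 = true := by decide +kernel

noncomputable def j9_686_6 : List Job := [
  ⟨51, 0x641229249a512a964ba61329a4da713a9e4fc88462a15c80422814c2e15098440e0501, 0, 64, 0x0, []⟩]

theorem t9_686_6 : jobs 8 S9 b8_686 j9_686_6 = true := by decide +kernel

noncomputable def j9_686_7 : List Job := [
  ⟨50, 0x601028241a110a8643a21128a45a311a8e47c88462a15c80422814c2e15098440e0501, 0, 64, 0x0, []⟩]

theorem t9_686_7 : jobs 8 S9 b8_686 j9_686_7 = true := by decide +kernel

noncomputable def j9_686_8 : List Job := [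
  ⟨49, 0x641229249a512a964ba61329a4da713a9e4fc88462a15c80422814c2e15098440e0501, 0, 64, 0x0, []⟩]

theorem t9_686_8 : jobs 8 S9 b8_686 j9_686_8 = true := by decide +kernel

noncomputable def j9_686_9 : List Job := [
  ⟨48, 0x601028241a110a8643a21128a45a311a8e47c88462a15c80422814c2e15098440e0501, 0, 64, 0x0, []⟩]

theorem t9_686_9 : jobs 8 S9 b8_686 j9_686_9 = true := by decide +kernel

noncomputable def j9_686_10 : List Job := [
  ⟨47, 0x488462a15c80422814c2e15098440e0501, 0, 36, 0x0, []⟩]

theorem t9_686_10 : jobs 8 S9 b8_686 j9_686_10 = true := by decide +kernel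

noncomputable def j9_686_11 : List Job := [
  ⟨46, 0x641229249a512a964ba61329a4da713a9e4fe01028241a110a8643a21128a45a311a8e47c88462a15c80422814c2e15098440e0501, 0, 36, 0x0, []⟩]

theorem t9_686_11 : jobs 8 S9 b8_686 j9_686_11 = true := by decide +kernel

noncomputable def j9_686_12 : List Job := [
  ⟨45, 0x48c552215c84512014c2e15098440e0501, 0, 24, 0x0, []⟩]

theorem t9_686_12 : jobs 8 S9 b8_686 j9_686_12 = true := by decide +kernel

noncomputable def j9_686_13 : List Job := [
  ⟨44, 0x641229249a512a964ba61329a4da713a9e4fe01028241a110a8643a21128a45a311a8e47c8c552215c84512014c2e15098440e0501, 0, 27, 0x3201, []⟩]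

theorem t9_686_13 : jobs 8 S9 b8_686 j9_686_13 = true := by decide +kernel

noncomputable def j9_686_14 : List Job := [
  ⟨43, 0x48c57221548453201442e15098440e0501, 0, 24, 0x0, []⟩]

theorem t9_686_14 : jobs 8 S9 b8_686 j9_686_14 = true := by decide +kernel

noncomputable def j9_686_15 : List Job := [
  ⟨42, 0x641229249a512a964ba61329a4da713a9e4fe01028241a110a8643a21128a45a311a8e47c8c57221548453201442e15098440e0501, 0, 48, 0x0, []⟩]

theorem t9_686_15 : jobs 8 S9 b8_686 j9_686_15 = true := by decide +kernel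

noncomputable def j9_686_16 : List Job := [
  ⟨41, 0x601028241a110a8643a21128a45a311a8e47c88462a15c80422814c2e15098440e0501, 0, 64, 0x0, []⟩]

theorem t9_686_16 : jobs 8 S9 b8_686 j9_686_16 = true := by decide +kernel

noncomputable def j9_686_17 : List Job := [
  ⟨40, 0x601028241a110a8643a21128a45a311a8e47c8c552215c84512014c2e15098440e0501, 0, 40, 0x0, []⟩]

theorem t9_686_17 : jobs 8 S9 b8_686 j9_686_17 = true := by decide +kernel

noncomputable def j9_686_18 : List Job := [
  ⟨39, 0x601028241a110a8643a21128a45a311a8e47c8c57221548453201442e15098440e0501, 0, 40, 0x0, []⟩]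

theorem t9_686_18 : jobs 8 S9 b8_686 j9_686_18 = true := by decide +kernel

noncomputable def j9_686_19 : List Job := [
  ⟨38, 0x488462a15c80422814c2e15098440e0501, 0, 36, 0x0, []⟩]

theorem t9_686_19 : jobs 8 S9 b8_686 j9_686_19 = true := by decide +kernel

noncomputable def j9_686_20 : List Job := [
  ⟨37, 0x641229249a512a964ba61329a4da713a9e4fe01028241a110a8643a21128a45a311a8e47c88462a15c80422814c2e15098440e0501, 0, 36, 0x0, []⟩]

theorem t9_686_20 : jobs 8 S9 b8_686 j9_686_20 = true := by decide +kernel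

noncomputable def j9_686_21 : List Job := [
  ⟨36, 0x48c57221548453201442e15098440e0501, 0, 40, 0x0, []⟩]

theorem t9_686_21 : jobs 8 S9 b8_686 j9_686_21 = true := by decide +kernel

noncomputable def j9_686_22 : List Job := [
  ⟨35, 0x641229249a512a964ba61329a4da713a9e4fe01028241a110a8643a21128a45a311a8e47c8c57221548453201442e15098440e0501, 0, 40, 0x0, []⟩]

theorem t9_686_22 : jobs 8 S9 b8_686 j9_686_22 = true := by decide +kernel

noncomputable def j9_686_23 : List Job := [
  ⟨34, 0x601028241a110a8643a21128a45a311a8e47c88462a15c80422814c2e15098440e0501, 0, 64, 0x0, []⟩]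

theorem t9_686_23 : jobs 8 S9 b8_686 j9_686_23 = true := by decide +kernel

noncomputable def j9_686_24 : List Job := [
  ⟨33, 0x641229249a512a964ba61329a4da713a9e4fc8c57221548453201442e15098440e0501, 0, 40, 0x0, []⟩]

theorem t9_686_24 : jobs 8 S9 b8_686 j9_686_24 = true := by decide +kernel

noncomputable def j9_686_25 : List Job := [
  ⟨32, 0x601028241a110a8643a21128a45a311a8e47c8c57221548453201442e15098440e0501, 0, 40, 0x0, []⟩]

theorem t9_686_25 : jobs 8 S9 b8_686 j9_686_25 = true := by decide +kernel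

noncomputable def j9_686_26 : List Job := [
  ⟨31, 0x641229249a512a964ba61329a4da713a9e4fc904a2c16c80422814c361909844160901, 0, 64, 0x0, []⟩]

theorem t9_686_26 : jobs 8 S9 b8_686 j9_686_26 = true := by decide +kernel

noncomputable def j9_686_27 : List Job := [
  ⟨30, 0x601028241a110a8643a21128a45a311a8e47c904a2c16c80422814c361909844160901, 0, 64, 0x0, []⟩]

theorem t9_686_27 : jobs 8 S9 b8_686 j9_686_27 = true := by decide +kernel

noncomputable def j9_686_28 : List Job := [
  ⟨29, 0x4904a2c16c80422814c361909844160901, 0, 64, 0x0, []⟩]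

theorem t9_686_28 : jobs 8 S9 b8_686 j9_686_28 = true := by decide +kernel

noncomputable def j9_686_29 : List Job := [
  ⟨28, 0x641229249a512a964ba61329a4da713a9e4fe01028241a110a8643a21128a45a311a8e47c904a2c16c80422814c361909844160901, 0, 64, 0x0, []⟩]

theorem t9_686_29 : jobs 8 S9 b8_686 j9_686_29 = true := by decide +kernel

noncomputable def j9_686_30 : List Job := [
  ⟨27, 0x601028241a110a8643a21128a45a311a8e47c904a2c16c80422814c361909844160901, 0, 32, 0x0, []⟩]

theorem t9_686_30 : jobs 8 S9 b8_686 j9_686_30 = true := by decide +kernel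

noncomputable def j9_686_31 : List Job := [
  ⟨26, 0x601028241a110a8643a21128a45a311a8e47c945b24164845320144361909844160901, 0, 40, 0x0, []⟩]

theorem t9_686_31 : jobs 8 S9 b8_686 j9_686_31 = true := by decide +kernel

noncomputable def j9_686_32 : List Job := [
  ⟨25, 0x4904a2c16c80422814c361909844160901, 0, 18, 0x0, []⟩]

theorem t9_686_32 : jobs 8 S9 b8_686 j9_686_32 = true := by decide +kernel

noncomputable def j9_686_33 : List Job := [
  ⟨24, 0x641229249a512a964ba61329a4da713a9e4fe01028241a110a8643a21128a45a311a8e47c904a2c16c80422814c361909844160901, 0, 22, 0x0, []⟩]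

theorem t9_686_33 : jobs 8 S9 b8_686 j9_686_33 = true := by decide +kernel

noncomputable def j9_686_34 : List Job := [
  ⟨23, 0x4945b24164845320144361909844160901, 0, 22, 0x0, []⟩]

theorem t9_686_34 : jobs 8 S9 b8_686 j9_686_34 = true := by decide +kernel

noncomputable def j9_686_35 : List Job := [
  ⟨22, 0x641229249a512a964ba61329a4da713a9e4fe01028241a110a8643a21128a45a311a8e47c945b24164845320144361909844160901, 0, 22, 0x0, []⟩]

theorem t9_686_35 : jobs 8 S9 b8_686 j9_686_35 = true := by decide +kernel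

noncomputable def j9_686_36 : List Job := [
  ⟨21, 0x601028241a110a8643a21128a45a311a8e47c904a2c16c80422814c361909844160901, 0, 32, 0x0, []⟩]

theorem t9_686_36 : jobs 8 S9 b8_686 j9_686_36 = true := by decide +kernel

noncomputable def j9_686_37 : List Job := [
  ⟨20, 0x601028241a110a8643a21128a45a311a8e47c94592416c84512014c361909844160901, 0, 20, 0x0, []⟩]

theorem t9_686_37 : jobs 8 S9 b8_686 j9_686_37 = true := by decide +kernel

noncomputable def j9_686_38 : List Job := [
  ⟨19, 0x601028241a110a8643a21128a45a311a8e47c945b24164845320144361909844160901, 0, 20, 0x0, []⟩]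

theorem t9_686_38 : jobs 8 S9 b8_686 j9_686_38 = true := by decide +kernel

noncomputable def j9_686_39 : List Job := [
  ⟨18, 0x4904a2c16c80422814c361909844160901, 0, 18, 0x0, []⟩]

theorem t9_686_39 : jobs 8 S9 b8_686 j9_686_39 = true := by decide +kernel

noncomputable def j9_686_40 : List Job := [
  ⟨17, 0x641229249a512a964ba61329a4da713a9e4fe01028241a110a8643a21128a45a311a8e47c904a2c16c80422814c361909844160901, 0, 22, 0x0, []⟩]

theorem t9_686_40 : jobs 8 S9 b8_686 j9_686_40 = true := by decide +kernel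

noncomputable def j9_686_41 : List Job := [
  ⟨16, 0x494592416c84512014c361909844160901, 0, 15, 0x0, []⟩]

theorem t9_686_41 : jobs 8 S9 b8_686 j9_686_41 = true := by decide +kernel

noncomputable def j9_686_42 : List Job := [
  ⟨15, 0x641229249a512a964ba61329a4da713a9e4fe01028241a110a8643a21128a45a311a8e47c94592416c84512014c361909844160901, 0, 25, 0x0, []⟩]

theorem t9_686_42 : jobs 8 S9 b8_686 j9_686_42 = true := by decide +kernel

noncomputable def j9_686_43 : List Job := [
  ⟨14, 0x4945b24164845320144361909844160901, 0, 15, 0x0, []⟩]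

theorem t9_686_43 : jobs 8 S9 b8_686 j9_686_43 = true := by decide +kernel

noncomputable def j9_686_44 : List Job := [
  ⟨13, 0x641229249a512a964ba61329a4da713a9e4fe01028241a110a8643a21128a45a311a8e47c945b24164845320144361909844160901, 0, 38, 0x0, []⟩]

theorem t9_686_44 : jobs 8 S9 b8_686 j9_686_44 = true := by decide +kernel

theorem d9_686 : Dn 8 S9 b8_686 := dn_of (Js := j9_686_0 ++ (j9_686_1 ++ (j9_686_2 ++ (j9_686_3 ++ (j9_686_4 ++ (j9_686_5 ++ (j9_686_6 ++ (j9_686_7 ++ (j9_686_8 ++ (j9_686_9 ++ (j9_686_10 ++ (j9_686_11 ++ (j9_686_12 ++ (j9_686_13 ++ (j9_686_14 ++ (j9_686_15 ++ (j9_686_16 ++ (j9_686_17 ++ (j9_686_18 ++ (j9_686_19 ++ (j9_686_20 ++ (j9_686_21 ++ (j9_686_22 ++ (j9_686_23 ++ (j9_686_24 ++ (j9_686_25 ++ (j9_686_26 ++ (j9_686_27 ++ (j9_686_28 ++ (j9_686_29 ++ (j9_686_30 ++ (j9_686_31 ++ (j9_686_32 ++ (j9_686_33 ++ (j9_686_34 ++ (j9_686_35 ++ (j9_686_36 ++ (j9_686_37 ++ (j9_686_38 ++ (j9_686_39 ++ (j9_686_40 ++ (j9_686_41 ++ (j9_686_42 ++ (j9_686_43 ++ (j9_686_44 ++ [])))))))))))))))))))))))))))))))))))))))))))))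
  (jobs_append t9_686_0 <| jobs_append t9_686_1 <| jobs_append t9_686_2 <| jobs_append t9_686_3 <| jobs_append t9_686_4 <| jobs_append t9_686_5 <| jobs_append t9_686_6 <| jobs_append t9_686_7 <| jobs_append t9_686_8 <| jobs_append t9_686_9 <| jobs_append t9_686_10 <| jobs_append t9_686_11 <| jobs_append t9_686_12 <| jobs_append t9_686_13 <| jobs_append t9_686_14 <| jobs_append t9_686_15 <| jobs_append t9_686_16 <| jobs_append t9_686_17 <| jobs_append t9_686_18 <| jobs_append t9_686_19 <| jobs_append t9_686_20 <| jobs_append t9_686_21 <| jobs_append t9_686_22 <| jobs_append t9_686_23 <| jobs_append t9_686_24 <| jobs_append t9_686_25 <| jobs_append t9_686_26 <| jobs_append t9_686_27 <| jobs_append t9_686_28 <| jobs_append t9_686_29 <| jobs_append t9_686_30 <| jobs_append t9_686_31 <| jobs_append t9_686_32 <| jobs_append t9_686_33 <| jobs_append t9_686_34 <| jobs_append t9_686_35 <| jobs_append t9_686_36 <| jobs_append t9_686_37 <| jobs_append t9_686_38 <| jobs_append t9_686_39 <| jobs_append t9_686_40 <| jobs_append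 t9_686_41 <| jobs_append t9_686_42 <| jobs_append t9_686_43 <| jobs_append t9_686_44 <| List.forall_mem_nil _) (by decide +kernel)

noncomputable def j9_687_0 : List Job := [
  ⟨52, 0x4844829164804a2816c361909844160901, 0, 4, 0x0, []⟩]

theorem t9_687_0 : jobs 8 S9 b8_687 j9_687_0 = true := by decide +kernel

noncomputable def j9_687_1 : List Job := [
  ⟨50, 0x4844a2916c804828164361909844160901, 0, 14, 0x0, []⟩]

theorem t9_687_1 : jobs 8 S9 b8_687 j9_687_1 = true := by decide +kernel

noncomputable def j9_687_2 : List Job := [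
  ⟨36, 0x641229249a512a964ba61329a4da713a9e4fe01028241a110a8643a21128a45a311a8e47c844a2816480482916c361909844160901, 0, 6, 0x0, []⟩]

theorem t9_687_2 : jobs 8 S9 b8_687 j9_687_2 = true := by decide +kernel

noncomputable def j9_687_3 : List Job := [
  ⟨34, 0x641229249a512a964ba61329a4da713a9e4fe01028241a110a8643a21128a45a311a8e47c844a2916c804828164361909844160901, 0, 16, 0x0, []⟩]

theorem t9_687_3 : jobs 8 S9 b8_687 j9_687_3 = true := by decide +kernel

noncomputable def j9_687_4 : List Job := [
  ⟨23, 0x494512414c84592016c361909844160901, 0, 4, 0x0, []⟩]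

theorem t9_687_4 : jobs 8 S9 b8_687 j9_687_4 = true := by decide +kernel

noncomputable def j9_687_5 : List Job := [
  ⟨22, 0x4945324144845b20164361909844160901, 0, 12, 0x0, []⟩]

theorem t9_687_5 : jobs 8 S9 b8_687 j9_687_5 = true := by decide +kernel

noncomputable def j9_687_6 : List Job := [
  ⟨21, 0x601028241a110a8643a21128a45a311a8e47c904a2814c80422c16c361909844160901, 0, 8, 0x0, []⟩]

theorem t9_687_6 : jobs 8 S9 b8_687 j9_687_6 = true := by decide +kernel

noncomputable def j9_687_7 : List Job := [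
  ⟨20, 0x4904a2814c80422c16c361909844160901, 0, 6, 0x201000401000601000801000a01000c01, []⟩]

theorem t9_687_7 : jobs 8 S9 b8_687 j9_687_7 = true := by decide +kernel

noncomputable def j9_687_8 : List Job := [
  ⟨19, 0x641229249a512a964ba61329a4da713a9e4fe01028241a110a8643a21128a45a311a8e47c904a2814c80422c16c361909844160901, 0, 6, 0x401000801, []⟩]

theorem t9_687_8 : jobs 8 S9 b8_687 j9_687_8 = true := by decide +kernel

noncomputable def j9_687_9 : List Job := [
  ⟨18, 0x601028241a110a8643a21128a45a311a8e47c904a2814c80422c16c361909844160901, 0, 2, 0x201, []⟩]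

theorem t9_687_9 : jobs 8 S9 b8_687 j9_687_9 = true := by decide +kernel

noncomputable def j9_687_10 : List Job := [
  ⟨17, 0x601028241a110a8643a21128a45a311a8e47c945324144845b20164361909844160901, 0, 4, 0x201000401, []⟩]

theorem t9_687_10 : jobs 8 S9 b8_687 j9_687_10 = true := by decide +kernel

noncomputable def j9_687_11 : List Job := [
  ⟨16, 0x4904a2814c80422c16c361909844160901, 0, 2, 0x0, []⟩]

theorem t9_687_11 : jobs 8 S9 b8_687 j9_687_11 = true := by decide +kernel

noncomputable def j9_687_12 : List Job := [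
  ⟨15, 0x641229249a512a964ba61329a4da713a9e4fe01028241a110a8643a21128a45a311a8e47c904a2814c80422c16c361909844160901, 0, 3, 0x0, []⟩]

theorem t9_687_12 : jobs 8 S9 b8_687 j9_687_12 = true := by decide +kernel

noncomputable def j9_687_13 : List Job := [
  ⟨14, 0x4945324144845b20164361909844160901, 0, 3, 0x0, []⟩]

theorem t9_687_13 : jobs 8 S9 b8_687 j9_687_13 = true := by decide +kernel

noncomputable def j9_687_14 : List Job := [
  ⟨13, 0x641229249a512a964ba61329a4da713a9e4fe01028241a110a8643a21128a45a311a8e47c945324144845b20164361909844160901, 0, 3, 0x0, []⟩]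

theorem t9_687_14 : jobs 8 S9 b8_687 j9_687_14 = true := by decide +kernel

noncomputable def j9_687_15 : List Job := [
  ⟨12, 0x601028241a110a8643a21128a45a311a8e47c904a2814c80422c16c361909844160901, 0, 2, 0x201, []⟩]

theorem t9_687_15 : jobs 8 S9 b8_687 j9_687_15 = true := by decide +kernel

noncomputable def j9_687_16 : List Job := [
  ⟨11, 0x601028241a110a8643a21128a45a311a8e47c945324144845b20164361909844160901, 0, 4, 0x201000401, []⟩]

theorem t9_687_16 : jobs 8 S9 b8_687 j9_687_16 = true := by decide +kernel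

noncomputable def j9_687_17 : List Job := [
  ⟨10, 0x4904a2814c80422c16c361909844160901, 0, 2, 0x0, []⟩]

theorem t9_687_17 : jobs 8 S9 b8_687 j9_687_17 = true := by decide +kernel

noncomputable def j9_687_18 : List Job := [
  ⟨9, 0x641229249a512a964ba61329a4da713a9e4fe01028241a110a8643a21128a45a311a8e47c904a2814c80422c16c361909844160901, 0, 3, 0x0, []⟩]

theorem t9_687_18 : jobs 8 S9 b8_687 j9_687_18 = true := by decide +kernel

noncomputable def j9_687_19 : List Job := [
  ⟨8, 0x4945324144845b20164361909844160901, 0, 4, 0x0, []⟩]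

theorem t9_687_19 : jobs 8 S9 b8_687 j9_687_19 = true := by decide +kernel

noncomputable def j9_687_20 : List Job := [
  ⟨7, 0x641229249a512a964ba61329a4da713a9e4fe01028241a110a8643a21128a45a311a8e47c945324144845b20164361909844160901, 0, 27, 0x0, []⟩]

theorem t9_687_20 : jobs 8 S9 b8_687 j9_687_20 = true := by decide +kernel

noncomputable def j9_687_21 : List Job := [
  ⟨6, 0x488462e17c80422c16c301b0a05c180f01, 0, 24, 0x801001201, []⟩]

theorem t9_687_21 : jobs 8 S9 b8_687 j9_687_21 = true := by decide +kernel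

noncomputable def j9_687_22 : List Job := [
  ⟨5, 0x641229249a512a964ba61329a4da713a9e4fe01028241a110a8643a21128a45a311a8e47c88462e17c80422c16c301b0a05c180f01, 0, 24, 0x801001201, []⟩]

theorem t9_687_22 : jobs 8 S9 b8_687 j9_687_22 = true := by decide +kernel

noncomputable def j9_687_23 : List Job := [
  ⟨4, 0x601028241a110a8643a21128a45a311a8e47c88462e17c80422c16c301b0a05c180f01, 0, 40, 0x403000c03000e03001603001c01002401, []⟩]

theorem t9_687_23 : jobs 8 S9 b8_687 j9_687_23 = true := by decide +kernel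

theorem d9_687 : Dn 8 S9 b8_687 := dn_of (Js := j9_687_0 ++ (j9_687_1 ++ (j9_687_2 ++ (j9_687_3 ++ (j9_687_4 ++ (j9_687_5 ++ (j9_687_6 ++ (j9_687_7 ++ (j9_687_8 ++ (j9_687_9 ++ (j9_687_10 ++ (j9_687_11 ++ (j9_687_12 ++ (j9_687_13 ++ (j9_687_14 ++ (j9_687_15 ++ (j9_687_16 ++ (j9_687_17 ++ (j9_687_18 ++ (j9_687_19 ++ (j9_687_20 ++ (j9_687_21 ++ (j9_687_22 ++ (j9_687_23 ++ []))))))))))))))))))))))))
  (jobs_append t9_687_0 <| jobs_append t9_687_1 <| jobs_append t9_687_2 <| jobs_append t9_687_3 <| jobs_append t9_687_4 <| jobs_append t9_687_5 <| jobs_append t9_687_6 <| jobs_append t9_687_7 <| jobs_append t9_687_8 <| jobs_append t9_687_9 <| jobs_append t9_687_10 <| jobs_append t9_687_11 <| jobs_append t9_687_12 <| jobs_append t9_687_13 <| jobs_append t9_687_14 <| jobs_append t9_687_15 <| jobs_append t9_687_16 <| jobs_append t9_687_17 <| jobs_append t9_687_18 <| jobs_append t9_687_19 <| jobs_append t9_687_20 <| jobs_append t9_687_21 <| jobs_append t9_687_22 <| jobs_append t9_687_23 <| List.forall_mem_nil _) (by decide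 +kernel)

noncomputable def j9_688_0 : List Job := [
  ⟨63, 0x6512a964ba61329a4de41229249a713a9e4fcc062341a8e0723c1ec844a2916c804828164361909844160901, 0, 8, 0x0, []⟩]

theorem t9_688_0 : jobs 8 S9 b8_688 j9_688_0 = true := by decide +kernel

noncomputable def j9_688_1 : List Job := [
  ⟨62, 0x6512a964ba61329a4de41229249a713a9e4fcc062341a8e0723c1ec804224128a0522c16c361909844160901, 0, 8, 0x0, []⟩]

theorem t9_688_1 : jobs 8 S9 b8_688 j9_688_1 = true := by decide +kernel

noncomputable def j9_688_2 : List Job := [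
  ⟨61, 0x4c062341a8e0723c1ec804224128a0522c16c361909844160901, 0, 8, 0x0, []⟩]

theorem t9_688_2 : jobs 8 S9 b8_688 j9_688_2 = true := by decide +kernel

noncomputable def j9_688_3 : List Job := [
  ⟨60, 0x6512a964ba61329a4de41229249a713a9e4fcc468381ecc06a391e4844a2816480482916c361909844160901, 0, 8, 0x0, []⟩]

theorem t9_688_3 : jobs 8 S9 b8_688 j9_688_3 = true := by decide +kernel

noncomputable def j9_688_4 : List Job := [
  ⟨59, 0x4c468391e4c06a381ec844a2916c804828164361909844160901, 0, 8, 0x0, []⟩]

theorem t9_688_4 : jobs 8 S9 b8_688 j9_688_4 = true := by decide +kernel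

noncomputable def j9_688_5 : List Job := [
  ⟨58, 0x4c062341a8e0723c1ec804224128a0522c16c361909844160901, 0, 6, 0x0, []⟩]

theorem t9_688_5 : jobs 8 S9 b8_688 j9_688_5 = true := by decide +kernel

noncomputable def j9_688_6 : List Job := [
  ⟨57, 0x6512a964ba61329a4de41229249a713a9e4fcc062341a8e0723c1ec804224128a0522c16c361909844160901, 0, 6, 0x0, []⟩]

theorem t9_688_6 : jobs 8 S9 b8_688 j9_688_6 = true := by decide +kernel

noncomputable def j9_688_7 : List Job := [
  ⟨56, 0x4c062341a8e0723c1ec804224128a0522c16c361909844160901, 0, 6, 0x0, []⟩]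

theorem t9_688_7 : jobs 8 S9 b8_688 j9_688_7 = true := by decide +kernel

noncomputable def j9_688_8 : List Job := [
  ⟨55, 0x6512a964ba61329a4de41229249a713a9e4fcc062341a8e0723c1ec804224128a0522c16c361909844160901, 0, 6, 0x0, []⟩]

theorem t9_688_8 : jobs 8 S9 b8_688 j9_688_8 = true := by decide +kernel

noncomputable def j9_688_9 : List Job := [
  ⟨54, 0x4c468381ecc06a391e484482816c804a29164361909844160901, 0, 6, 0x0, []⟩]

theorem t9_688_9 : jobs 8 S9 b8_688 j9_688_9 = true := by decide +kernel

noncomputable def j9_688_10 : List Job := [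
  ⟨53, 0x6512a964ba61329a4de41229249a713a9e4fcc468391e4c06a381ec844829164804a2816c361909844160901, 0, 12, 0x201000401, []⟩]

theorem t9_688_10 : jobs 8 S9 b8_688 j9_688_10 = true := by decide +kernel

noncomputable def j9_688_11 : List Job := [
  ⟨52, 0x4c46a381e4c068391ec844a2816480482916c361909844160901, 0, 6, 0x0, []⟩]

theorem t9_688_11 : jobs 8 S9 b8_688 j9_688_11 = true := by decide +kernel

noncomputable def j9_688_12 : List Job := [
  ⟨51, 0x6512a964ba61329a4de41229249a713a9e4fcc46a391ecc068381e4844a2916c804828164361909844160901, 0, 28, 0x3601003801, []⟩]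

theorem t9_688_12 : jobs 8 S9 b8_688 j9_688_12 = true := by decide +kernel

noncomputable def j9_688_13 : List Job := [
  ⟨50, 0x6512a964ba61329a4dc180f0402c080701, 0, 40, 0x0, []⟩]

theorem t9_688_13 : jobs 8 S9 b8_688 j9_688_13 = true := by decide +kernel

noncomputable def j9_688_14 : List Job := [
  ⟨49, 0x6512a964ba61329a4dcc866361b8e8763e1fcc062341a8e0723c1ec884626138a8562e17c804224128a0522c16c180f0402c080701, 0, 40, 0x0, []⟩]

theorem t9_688_14 : jobs 8 S9 b8_688 j9_688_14 = true := by decide +kernel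

noncomputable def j9_688_15 : List Job := [
  ⟨48, 0x6512a964ba61329a4dc884626138a8562e17c804224128a0522c16c180f0402c080701, 0, 64, 0x0, []⟩]

theorem t9_688_15 : jobs 8 S9 b8_688 j9_688_15 = true := by decide +kernel

noncomputable def j9_688_16 : List Job := [
  ⟨47, 0x6512a964ba61329a4dcc866361b8e8763e1fc804224128a0522c16c381f0a05c100b01, 0, 72, 0x0, []⟩]

theorem t9_688_16 : jobs 8 S9 b8_688 j9_688_16 = true := by decide +kernel

noncomputable def j9_688_17 : List Job := [
  ⟨46, 0x6512a964ba61329a4dcc866361b8e8763e1fc804224128a0522c16c381f0a05c100b01, 0, 72, 0x0, []⟩]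

theorem t9_688_17 : jobs 8 S9 b8_688 j9_688_17 = true := by decide +kernel

noncomputable def j9_688_18 : List Job := [
  ⟨45, 0x6110a8643a311a8e47cc866361b8e8763e1fc804224128a0522c16c381f09844180f01, 0, 72, 0x0, []⟩]

theorem t9_688_18 : jobs 8 S9 b8_688 j9_688_18 = true := by decide +kernel

noncomputable def j9_688_19 : List Job := [
  ⟨44, 0x601028241a21128a45cc866361b8e8763e1fc804224128a0522c16c381f09844180f01, 0, 72, 0x0, []⟩]

theorem t9_688_19 : jobs 8 S9 b8_688 j9_688_19 = true := by decide +kernel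

noncomputable def j9_688_20 : List Job := [
  ⟨43, 0x601028241a21128a45cc866361b8e8763e1fc804224128a0522c16c381f09844180f01, 0, 128, 0x0, []⟩]

theorem t9_688_20 : jobs 8 S9 b8_688 j9_688_20 = true := by decide +kernel

noncomputable def j9_688_21 : List Job := [
  ⟨42, 0x601028241a21128a45cc866361b8e8763e1fc804224128a0522c16c381f09844180f01, 0, 128, 0x0, []⟩]

theorem t9_688_21 : jobs 8 S9 b8_688 j9_688_21 = true := by decide +kernel

noncomputable def j9_688_22 : List Job := [
  ⟨41, 0x6110a8643a311a8e47cc866361b8e8763e1fc804224128a0522c16c381f09844180f01, 0, 72, 0x0, []⟩]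

theorem t9_688_22 : jobs 8 S9 b8_688 j9_688_22 = true := by decide +kernel

noncomputable def j9_688_23 : List Job := [
  ⟨40, 0x601028241a21128a45cc866361b8e8763e1fc804224128a0522c16c381f09844180f01, 0, 72, 0x0, []⟩]

theorem t9_688_23 : jobs 8 S9 b8_688 j9_688_23 = true := by decide +kernel

noncomputable def j9_688_24 : List Job := [
  ⟨39, 0x6110a8643a311a8e47c2e15098440e0501, 0, 20, 0x0, []⟩]

theorem t9_688_24 : jobs 8 S9 b8_688 j9_688_24 = true := by decide +kernel

noncomputable def j9_688_25 : List Job := [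
  ⟨38, 0x601028241a21128a45c2e15098440e0501, 0, 20, 0x0, []⟩]

theorem t9_688_25 : jobs 8 S9 b8_688 j9_688_25 = true := by decide +kernel

noncomputable def j9_688_26 : List Job := [
  ⟨37, 0x6110a8643a311a8e47cc866361b8e8763e1fcc062341a8e0723c1ec884626138a8562e17c804224128a0522c16c2e15098440e0501, 0, 20, 0x0, []⟩]

theorem t9_688_26 : jobs 8 S9 b8_688 j9_688_26 = true := by decide +kernel

noncomputable def j9_688_27 : List Job := [
  ⟨36, 0x601028241a21128a45cc866361b8e8763e1fcc062341a8e0723c1ec884626138a8562e17c804224128a0522c16c2e15098440e0501, 0, 20, 0x0, []⟩]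

theorem t9_688_27 : jobs 8 S9 b8_688 j9_688_27 = true := by decide +kernel

noncomputable def j9_688_28 : List Job := [
  ⟨35, 0x605068945e0104884542e15098440e0501, 0, 32, 0x0, []⟩]

theorem t9_688_28 : jobs 8 S9 b8_688 j9_688_28 = true := by decide +kernel

noncomputable def j9_688_29 : List Job := [
  ⟨34, 0x605068945e010488454c866361b8e8763e1fcc062341a8e0723c1ec884626138a8562e17c804224128a0522c16c2e15098440e0501, 0, 32, 0x0, []⟩]

theorem t9_688_29 : jobs 8 S9 b8_688 j9_688_29 = true := by decide +kernel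

noncomputable def j9_688_30 : List Job := [
  ⟨33, 0x601028241a21128a45c2e15098440e0501, 0, 32, 0x0, []⟩]

theorem t9_688_30 : jobs 8 S9 b8_688 j9_688_30 = true := by decide +kernel

noncomputable def j9_688_31 : List Job := [
  ⟨32, 0x601028241a21128a45cc866361b8e8763e1fcc062341a8e0723c1ec884626138a8562e17c804224128a0522c16c2e15098440e0501, 0, 32, 0x0, []⟩]

theorem t9_688_31 : jobs 8 S9 b8_688 j9_688_31 = true := by decide +kernel

noncomputable def j9_688_32 : List Job := [
  ⟨31, 0x6150e8c476110c8d47c2e15098440e0501, 0, 20, 0x0, []⟩]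

theorem t9_688_32 : jobs 8 S9 b8_688 j9_688_32 = true := by decide +kernel

noncomputable def j9_688_33 : List Job := [
  ⟨30, 0x605068945e0104884542e15098440e0501, 0, 20, 0x0, []⟩]

theorem t9_688_33 : jobs 8 S9 b8_688 j9_688_33 = true := by decide +kernel

noncomputable def j9_688_34 : List Job := [
  ⟨29, 0x6150e8c476110c8d47cc866361b8e8763e1fcc062341a8e0723c1ec884626138a8562e17c804224128a0522c16c2e15098440e0501, 0, 25, 0x2a01002c01003001003201, []⟩]

theorem t9_688_34 : jobs 8 S9 b8_688 j9_688_34 = true := by decide +kernel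

noncomputable def j9_688_35 : List Job := [
  ⟨28, 0x605068945e010488454c866361b8e8763e1fcc062341a8e0723c1ec884626138a8562e17c804224128a0522c16c2e15098440e0501, 0, 46, 0x5201005401005601005801005a01005c01, []⟩]

theorem t9_688_35 : jobs 8 S9 b8_688 j9_688_35 = true := by decide +kernel

noncomputable def j9_688_36 : List Job := [
  ⟨27, 0x6110a8643a311a8e47c884626138a8562e17c804224128a0522c16c2e15098440e0501, 0, 32, 0x0, []⟩]

theorem t9_688_36 : jobs 8 S9 b8_688 j9_688_36 = true := by decide +kernel

noncomputable def j9_688_37 : List Job := [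
  ⟨26, 0x601028241a21128a45c884626138a8562e17c804224128a0522c16c2e15098440e0501, 0, 32, 0x0, []⟩]

theorem t9_688_37 : jobs 8 S9 b8_688 j9_688_37 = true := by decide +kernel

noncomputable def j9_688_38 : List Job := [
  ⟨25, 0x6150e8c476110c8d47c884626138a8562e17c804224128a0522c16c2e15098440e0501, 0, 32, 0x0, []⟩]

theorem t9_688_38 : jobs 8 S9 b8_688 j9_688_38 = true := by decide +kernel

noncomputable def j9_688_39 : List Job := [
  ⟨24, 0x605068945e010488454884626138a8562e17c804224128a0522c16c2e15098440e0501, 0, 32, 0x0, []⟩]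

theorem t9_688_39 : jobs 8 S9 b8_688 j9_688_39 = true := by decide +kernel

noncomputable def j9_688_40 : List Job := [
  ⟨23, 0x6110a8643a311a8e47c884626138a8562e17c804224128a0522c16c2e15098440e0501, 0, 32, 0x0, []⟩]

theorem t9_688_40 : jobs 8 S9 b8_688 j9_688_40 = true := by decide +kernel

noncomputable def j9_688_41 : List Job := [
  ⟨22, 0x601028241a21128a45c884626138a8562e17c804224128a0522c16c2e15098440e0501, 0, 32, 0x0, []⟩]

theorem t9_688_41 : jobs 8 S9 b8_688 j9_688_41 = true := by decide +kernel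

noncomputable def j9_688_42 : List Job := [
  ⟨21, 0x6150e8c476110c8d47c884626138a8562e17c804224128a0522c16c2e15098440e0501, 0, 32, 0x0, []⟩]

theorem t9_688_42 : jobs 8 S9 b8_688 j9_688_42 = true := by decide +kernel

noncomputable def j9_688_43 : List Job := [
  ⟨20, 0x605068945e010488454884626138a8562e17c804224128a0522c16c2e15098440e0501, 0, 32, 0x0, []⟩]

theorem t9_688_43 : jobs 8 S9 b8_688 j9_688_43 = true := by decide +kernel

noncomputable def j9_688_44 : List Job := [
  ⟨19, 0x4c062341a8e0723c1ec844a2816480482916c361909844160901, 0, 32, 0x0, []⟩]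

theorem t9_688_44 : jobs 8 S9 b8_688 j9_688_44 = true := by decide +kernel

noncomputable def j9_688_45 : List Job := [
  ⟨18, 0x6110a8643a311a8e47e01028241a21128a45cc062341a8e0723c1ec844a2816480482916c361909844160901, 0, 32, 0x0, []⟩]

theorem t9_688_45 : jobs 8 S9 b8_688 j9_688_45 = true := by decide +kernel

noncomputable def j9_688_46 : List Job := [
  ⟨17, 0x4c062341a8e0723c1ec844a2916c804828164361909844160901, 0, 32, 0x0, []⟩]

theorem t9_688_46 : jobs 8 S9 b8_688 j9_688_46 = true := by decide +kernel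

noncomputable def j9_688_47 : List Job := [
  ⟨16, 0x6110a8643a311a8e47e01028241a21128a45cc062341a8e0723c1ec844a2916c804828164361909844160901, 0, 32, 0x0, []⟩]

theorem t9_688_47 : jobs 8 S9 b8_688 j9_688_47 = true := by decide +kernel

noncomputable def j9_688_48 : List Job := [
  ⟨15, 0x4c062341a8e0723c1ec844a2816480482916c361909844160901, 0, 32, 0x0, []⟩]

theorem t9_688_48 : jobs 8 S9 b8_688 j9_688_48 = true := by decide +kernel

noncomputable def j9_688_49 : List Job := [
  ⟨14, 0x6110a8643a311a8e47e01028241a21128a45cc062341a8e0723c1ec844a2816480482916c361909844160901, 0, 32, 0x0, []⟩]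

theorem t9_688_49 : jobs 8 S9 b8_688 j9_688_49 = true := by decide +kernel

noncomputable def j9_688_50 : List Job := [
  ⟨13, 0x4c062341a8e0723c1ec844a2916c804828164361909844160901, 0, 32, 0x0, []⟩]

theorem t9_688_50 : jobs 8 S9 b8_688 j9_688_50 = true := by decide +kernel

noncomputable def j9_688_51 : List Job := [
  ⟨12, 0x6110a8643a311a8e47e01028241a21128a45cc062341a8e0723c1ec844a2916c804828164361909844160901, 0, 32, 0x0, []⟩]

theorem t9_688_51 : jobs 8 S9 b8_688 j9_688_51 = true := by decide +kernel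

noncomputable def j9_688_52 : List Job := [
  ⟨11, 0x4c062341a8e0723c1ec804224128a0522c16c361909844160901, 0, 32, 0x0, []⟩]

theorem t9_688_52 : jobs 8 S9 b8_688 j9_688_52 = true := by decide +kernel

noncomputable def j9_688_53 : List Job := [
  ⟨10, 0x6110a8643a311a8e47e01028241a21128a45cc062341a8e0723c1ec804224128a0522c16c361909844160901, 0, 32, 0x0, []⟩]

theorem t9_688_53 : jobs 8 S9 b8_688 j9_688_53 = true := by decide +kernel

noncomputable def j9_688_54 : List Job := [
  ⟨9, 0x4c46a381e4c068391ec844a2916c804828164361909844160901, 0, 32, 0x0, []⟩]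

theorem t9_688_54 : jobs 8 S9 b8_688 j9_688_54 = true := by decide +kernel

noncomputable def j9_688_55 : List Job := [
  ⟨8, 0x6110a8643a311a8e47e01028241a21128a45cc46a381e4c068391ec844a2916c804828164361909844160901, 0, 32, 0x0, []⟩]

theorem t9_688_55 : jobs 8 S9 b8_688 j9_688_55 = true := by decide +kernel

noncomputable def j9_688_56 : List Job := [
  ⟨7, 0x4c062341a8e0723c1ec804224128a0522c16c361909844160901, 0, 20, 0x0, []⟩]

theorem t9_688_56 : jobs 8 S9 b8_688 j9_688_56 = true := by decide +kernel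

noncomputable def j9_688_57 : List Job := [
  ⟨6, 0x6110a8643a311a8e47e01028241a21128a45cc062341a8e0723c1ec804224128a0522c16c361909844160901, 0, 20, 0x0, []⟩]

theorem t9_688_57 : jobs 8 S9 b8_688 j9_688_57 = true := by decide +kernel

noncomputable def j9_688_58 : List Job := [
  ⟨5, 0x4c062341a8e0723c1ec804224128a0522c16c361909844160901, 0, 20, 0x0, []⟩]

theorem t9_688_58 : jobs 8 S9 b8_688 j9_688_58 = true := by decide +kernel

noncomputable def j9_688_59 : List Job := [
  ⟨4, 0x6110a8643a311a8e47e01028241a21128a45cc062341a8e0723c1ec804224128a0522c16c361909844160901, 0, 20, 0x0, []⟩]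

theorem t9_688_59 : jobs 8 S9 b8_688 j9_688_59 = true := by decide +kernel

noncomputable def j9_688_60 : List Job := [
  ⟨3, 0x4c46a381e4c068391ec844a2816480482916c361909844160901, 0, 20, 0x0, []⟩]

theorem t9_688_60 : jobs 8 S9 b8_688 j9_688_60 = true := by decide +kernel

noncomputable def j9_688_61 : List Job := [
  ⟨2, 0x6110a8643a311a8e47e01028241a21128a45cc46a381e4c068391ec844a2816480482916c361909844160901, 0, 26, 0x3201003401, []⟩]

theorem t9_688_61 : jobs 8 S9 b8_688 j9_688_61 = true := by decide +kernel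

noncomputable def j9_688_62 : List Job := [
  ⟨1, 0x4c46a391ecc068381e4844a2916c804828164361909844160901, 0, 20, 0x0, []⟩]

theorem t9_688_62 : jobs 8 S9 b8_688 j9_688_62 = true := by decide +kernel

noncomputable def j9_688_63 : List Job := [
  ⟨0, 0x6110a8643a311a8e47e01028241a21128a45cc46a391ecc068381e4844a2916c804828164361909844160901, 0, 46, 0x5201005401005601005801005a01005c01, []⟩]

theorem t9_688_63 : jobs 8 S9 b8_688 j9_688_63 = true := by decide +kernel

theorem d9_688 : Dn 8 S9 b8_688 := dn_of (Js := j9_688_0 ++ (j9_688_1 ++ (j9_688_2 ++ (j9_688_3 ++ (j9_688_4 ++ (j9_688_5 ++ (j9_688_6 ++ (j9_688_7 ++ (j9_688_8 ++ (j9_688_9 ++ (j9_688_10 ++ (j9_688_11 ++ (j9_688_12 ++ (j9_688_13 ++ (j9_688_14 ++ (j9_688_15 ++ (j9_688_16 ++ (j9_688_17 ++ (j9_688_18 ++ (j9_688_19 ++ (j9_688_20 ++ (j9_688_21 ++ (j9_688_22 ++ (j9_688_23 ++ (j9_688_24 ++ (j9_688_25 ++ (j9_688_26 ++ (j9_688_27 ++ (j9_688_28 ++ (j9_688_29 ++ (j9_688_30 ++ (j9_688_31 ++ (j9_688_32 ++ (j9_688_33 ++ (j9_688_34 ++ (j9_688_35 ++ (j9_688_36 ++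 (j9_688_37 ++ (j9_688_38 ++ (j9_688_39 ++ (j9_688_40 ++ (j9_688_41 ++ (j9_688_42 ++ (j9_688_43 ++ (j9_688_44 ++ (j9_688_45 ++ (j9_688_46 ++ (j9_688_47 ++ (j9_688_48 ++ (j9_688_49 ++ (j9_688_50 ++ (j9_688_51 ++ (j9_688_52 ++ (j9_688_53 ++ (j9_688_54 ++ (j9_688_55 ++ (j9_688_56 ++ (j9_688_57 ++ (j9_688_58 ++ (j9_688_59 ++ (j9_688_60 ++ (j9_688_61 ++ (j9_688_62 ++ (j9_688_63 ++ []))))))))))))))))))))))))))))))))))))))))))))))))))))))))))))))))
  (jobs_append t9_688_0 <| jobs_append t9_688_1 <| jobs_append t9_688_2 <| jobs_append t9_688_3 <| jobs_append t9_688_4 <| jobs_append t9_688_5 <| jobs_append t9_688_6 <| jobs_append t9_688_7 <| jobs_append t9_688_8 <| jobs_append t9_688_9 <| jobs_append t9_688_10 <| jobs_append t9_688_11 <| jobs_append t9_688_12 <| jobs_append t9_688_13 <| jobs_append t9_688_14 <| jobs_append t9_688_15 <| jobs_append t9_688_16 <| jobs_append t9_688_17 <| jobs_append t9_688_18 <| jobs_append t9_688_19 <| jobs_append t9_688_20 <| jobs_append t9_688_21 <| jobs_append t9_688_22 <| jobs_append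 t9_688_23 <| jobs_append t9_688_24 <| jobs_append t9_688_25 <| jobs_append t9_688_26 <| jobs_append t9_688_27 <| jobs_append t9_688_28 <| jobs_append t9_688_29 <| jobs_append t9_688_30 <| jobs_append t9_688_31 <| jobs_append t9_688_32 <| jobs_append t9_688_33 <| jobs_append t9_688_34 <| jobs_append t9_688_35 <| jobs_append t9_688_36 <| jobs_append t9_688_37 <| jobs_append t9_688_38 <| jobs_append t9_688_39 <| jobs_append t9_688_40 <| jobs_append t9_688_41 <| jobs_append t9_688_42 <| jobs_append t9_688_43 <| jobs_append t9_688_44 <| jobs_append t9_688_45 <| jobs_append t9_688_46 <| jobs_append t9_688_47 <| jobs_append t9_688_48 <| jobs_append t9_688_49 <| jobs_append t9_688_50 <| jobs_append t9_688_51 <| jobs_append t9_688_52 <| jobs_append t9_688_53 <| jobs_append t9_688_54 <| jobs_append t9_688_55 <| jobs_append t9_688_56 <| jobs_append t9_688_57 <| jobs_append t9_688_58 <| jobs_append t9_688_59 <| jobs_append t9_688_60 <| jobs_append t9_688_61 <| jobs_append t9_688_62 <| jobs_append t9_688_63 <| List.forall_mem_nil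 _) (by decide +kernel)

noncomputable def j9_689_0 : List Job := [
  ⟨63, 0x601028241a110a8643a21128a45a311a8e47cc062341a8e0723c1ec844a2916c804828164361909844160901, 0, 32, 0x0, []⟩]

theorem t9_689_0 : jobs 8 S9 b8_689 j9_689_0 = true := by decide +kernel

noncomputable def j9_689_1 : List Job := [
  ⟨62, 0x4c062341a8e0723c1ec844a2816480482916c361909844160901, 0, 32, 0x0, []⟩]

theorem t9_689_1 : jobs 8 S9 b8_689 j9_689_1 = true := by decide +kernel

noncomputable def j9_689_2 : List Job := [
  ⟨61, 0x641229249a512a964ba61329a4da713a9e4fe01028241a110a8643a21128a45a311a8e47cc062341a8e0723c1ec844a2816480482916c361909844160901, 0, 32, 0x0, []⟩]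

theorem t9_689_2 : jobs 8 S9 b8_689 j9_689_2 = true := by decide +kernel

noncomputable def j9_689_3 : List Job := [
  ⟨60, 0x4c062341a8e0723c1ec844a2916c804828164361909844160901, 0, 32, 0x0, []⟩]

theorem t9_689_3 : jobs 8 S9 b8_689 j9_689_3 = true := by decide +kernel

noncomputable def j9_689_4 : List Job := [
  ⟨59, 0x641229249a512a964ba61329a4da713a9e4fe01028241a110a8643a21128a45a311a8e47cc062341a8e0723c1ec844a2916c804828164361909844160901, 0, 32, 0x0, []⟩]

theorem t9_689_4 : jobs 8 S9 b8_689 j9_689_4 = true := by decide +kernel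

noncomputable def j9_689_5 : List Job := [
  ⟨58, 0x641229249a512a964ba61329a4da713a9e4fcc062341a8e0723c1ec804224128a0522c16c361909844160901, 0, 32, 0x0, []⟩]

theorem t9_689_5 : jobs 8 S9 b8_689 j9_689_5 = true := by decide +kernel

noncomputable def j9_689_6 : List Job := [
  ⟨57, 0x601028241a110a8643a21128a45a311a8e47cc062341a8e0723c1ec804224128a0522c16c361909844160901, 0, 32, 0x0, []⟩]

theorem t9_689_6 : jobs 8 S9 b8_689 j9_689_6 = true := by decide +kernel

noncomputable def j9_689_7 : List Job := [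
  ⟨56, 0x641229249a512a964ba61329a4da713a9e4fcc46a381e4c068391ec844a2916c804828164361909844160901, 0, 32, 0x0, []⟩]

theorem t9_689_7 : jobs 8 S9 b8_689 j9_689_7 = true := by decide +kernel

noncomputable def j9_689_8 : List Job := [
  ⟨55, 0x601028241a110a8643a21128a45a311a8e47cc46a381e4c068391ec844a2916c804828164361909844160901, 0, 32, 0x0, []⟩]

theorem t9_689_8 : jobs 8 S9 b8_689 j9_689_8 = true := by decide +kernel

noncomputable def j9_689_9 : List Job := [
  ⟨54, 0x4c062341a8e0723c1ec804224128a0522c16c361909844160901, 0, 20, 0x0, []⟩]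

theorem t9_689_9 : jobs 8 S9 b8_689 j9_689_9 = true := by decide +kernel

noncomputable def j9_689_10 : List Job := [
  ⟨53, 0x641229249a512a964ba61329a4da713a9e4fe01028241a110a8643a21128a45a311a8e47cc062341a8e0723c1ec804224128a0522c16c361909844160901, 0, 20, 0x0, []⟩]

theorem t9_689_10 : jobs 8 S9 b8_689 j9_689_10 = true := by decide +kernel

noncomputable def j9_689_11 : List Job := [
  ⟨52, 0x4c062341a8e0723c1ec804224128a0522c16c361909844160901, 0, 20, 0x0, []⟩]

theorem t9_689_11 : jobs 8 S9 b8_689 j9_689_11 = true := by decide +kernel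

noncomputable def j9_689_12 : List Job := [
  ⟨51, 0x641229249a512a964ba61329a4da713a9e4fe01028241a110a8643a21128a45a311a8e47cc062341a8e0723c1ec804224128a0522c16c361909844160901, 0, 20, 0x0, []⟩]

theorem t9_689_12 : jobs 8 S9 b8_689 j9_689_12 = true := by decide +kernel

noncomputable def j9_689_13 : List Job := [
  ⟨50, 0x4c46a381e4c068391ec844a2816480482916c361909844160901, 0, 20, 0x0, []⟩]

theorem t9_689_13 : jobs 8 S9 b8_689 j9_689_13 = true := by decide +kernel

noncomputable def j9_689_14 : List Job := [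
  ⟨49, 0x641229249a512a964ba61329a4da713a9e4fe01028241a110a8643a21128a45a311a8e47cc46a381e4c068391ec844a2816480482916c361909844160901, 0, 26, 0x3201, []⟩]

theorem t9_689_14 : jobs 8 S9 b8_689 j9_689_14 = true := by decide +kernel

noncomputable def j9_689_15 : List Job := [
  ⟨48, 0x4c46a391ecc068381e4844a2916c804828164361909844160901, 0, 20, 0x0, []⟩]

theorem t9_689_15 : jobs 8 S9 b8_689 j9_689_15 = true := by decide +kernel

noncomputable def j9_689_16 : List Job := [
  ⟨47, 0x641229249a512a964ba61329a4da713a9e4fe01028241a110a8643a21128a45a311a8e47cc46a391ecc068381e4844a2916c804828164361909844160901, 0, 46, 0x5401005801, []⟩]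

theorem t9_689_16 : jobs 8 S9 b8_689 j9_689_16 = true := by decide +kernel

noncomputable def j9_689_17 : List Job := [
  ⟨29, 0x6512a964ba61329a4de41229249a713a9e4fc361909844160901, 0, 4, 0x0, []⟩]

theorem t9_689_17 : jobs 8 S9 b8_689 j9_689_17 = true := by decide +kernel

noncomputable def j9_689_18 : List Job := [
  ⟨27, 0x6512a964ba61329a4de41229249a713a9e4fc361909844160901, 0, 20, 0x0, []⟩]

theorem t9_689_18 : jobs 8 S9 b8_689 j9_689_18 = true := by decide +kernel

noncomputable def j9_689_19 : List Job := [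
  ⟨9, 0x6110a8643a311a8e47e01028241a21128a45c361909844160901, 0, 4, 0x0, []⟩]

theorem t9_689_19 : jobs 8 S9 b8_689 j9_689_19 = true := by decide +kernel

noncomputable def j9_689_20 : List Job := [
  ⟨7, 0x6110a8643a311a8e47e01028241a21128a45c361909844160901, 0, 20, 0x0, []⟩]

theorem t9_689_20 : jobs 8 S9 b8_689 j9_689_20 = true := by decide +kernel

noncomputable def j9_689_21 : List Job := [
  ⟨6, 0x6512a964ba61329a4de41229249a713a9e4fcc062341a8e0723c1ec84482816c804a29164361909844160901, 0, 8, 0x0, []⟩]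

theorem t9_689_21 : jobs 8 S9 b8_689 j9_689_21 = true := by decide +kernel

noncomputable def j9_689_22 : List Job := [
  ⟨5, 0x4c062341a8e0723c1ec844829164804a2816c361909844160901, 0, 8, 0x0, []⟩]

theorem t9_689_22 : jobs 8 S9 b8_689 j9_689_22 = true := by decide +kernel

noncomputable def j9_689_23 : List Job := [
  ⟨4, 0x6512a964ba61329a4de41229249a713a9e4fcc062341a8e0723c1ec844a2816480482916c361909844160901, 0, 8, 0x0, []⟩]

theorem t9_689_23 : jobs 8 S9 b8_689 j9_689_23 = true := by decide +kernel

noncomputable def j9_689_24 : List Job := [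
  ⟨3, 0x4c062341a8e0723c1ec844a2916c804828164361909844160901, 0, 8, 0x0, []⟩]

theorem t9_689_24 : jobs 8 S9 b8_689 j9_689_24 = true := by decide +kernel

noncomputable def j9_689_25 : List Job := [
  ⟨2, 0x4c062341a8e0723c1ec84482816c804a29164361909844160901, 0, 8, 0x0, []⟩]

theorem t9_689_25 : jobs 8 S9 b8_689 j9_689_25 = true := by decide +kernel

noncomputable def j9_689_26 : List Job := [
  ⟨1, 0x6512a964ba61329a4de41229249a713a9e4fcc062341a8e0723c1ec844829164804a2816c361909844160901, 0, 8, 0x0, []⟩]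

theorem t9_689_26 : jobs 8 S9 b8_689 j9_689_26 = true := by decide +kernel

noncomputable def j9_689_27 : List Job := [
  ⟨0, 0x4c062341a8e0723c1ec844a2816480482916c361909844160901, 0, 8, 0x0, []⟩]

theorem t9_689_27 : jobs 8 S9 b8_689 j9_689_27 = true := by decide +kernel

theorem d9_689 : Dn 8 S9 b8_689 := dn_of (Js := j9_689_0 ++ (j9_689_1 ++ (j9_689_2 ++ (j9_689_3 ++ (j9_689_4 ++ (j9_689_5 ++ (j9_689_6 ++ (j9_689_7 ++ (j9_689_8 ++ (j9_689_9 ++ (j9_689_10 ++ (j9_689_11 ++ (j9_689_12 ++ (j9_689_13 ++ (j9_689_14 ++ (j9_689_15 ++ (j9_689_16 ++ (j9_689_17 ++ (j9_689_18 ++ (j9_689_19 ++ (j9_689_20 ++ (j9_689_21 ++ (j9_689_22 ++ (j9_689_23 ++ (j9_689_24 ++ (j9_689_25 ++ (j9_689_26 ++ (j9_689_27 ++ []))))))))))))))))))))))))))))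
  (jobs_append t9_689_0 <| jobs_append t9_689_1 <| jobs_append t9_689_2 <| jobs_append t9_689_3 <| jobs_append t9_689_4 <| jobs_append t9_689_5 <| jobs_append t9_689_6 <| jobs_append t9_689_7 <| jobs_append t9_689_8 <| jobs_append t9_689_9 <| jobs_append t9_689_10 <| jobs_append t9_689_11 <| jobs_append t9_689_12 <| jobs_append t9_689_13 <| jobs_append t9_689_14 <| jobs_append t9_689_15 <| jobs_append t9_689_16 <| jobs_append t9_689_17 <| jobs_append t9_689_18 <| jobs_append t9_689_19 <| jobs_append t9_689_20 <| jobs_append t9_689_21 <| jobs_append t9_689_22 <| jobs_append t9_689_23 <| jobs_append t9_689_24 <| jobs_append t9_689_25 <| jobs_append t9_689_26 <| jobs_append t9_689_27 <| List.forall_mem_nil _) (by decide +kernel)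

noncomputable def j9_690_0 : List Job := [
  ⟨51, 0x641229249a512a964ba61329a4da713a9e4fe01028241a110a8643a21128a45a311a8e47c361909844160901, 0, 3, 0x0, []⟩]

theorem t9_690_0 : jobs 8 S9 b8_690 j9_690_0 = true := by decide +kernel

noncomputable def j9_690_1 : List Job := [
  ⟨49, 0x641229249a512a964ba61329a4da713a9e4fe01028241a110a8643a21128a45a311a8e47c361909844160901, 0, 20, 0x0, []⟩]

theorem t9_690_1 : jobs 8 S9 b8_690 j9_690_1 = true := by decide +kernel

noncomputable def j9_690_2 : List Job := [
  ⟨32, 0x4c468381ecc06a391e484482816c804a29164361909844160901, 0, 2, 0x0, []⟩]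

theorem t9_690_2 : jobs 8 S9 b8_690 j9_690_2 = true := by decide +kernel

noncomputable def j9_690_3 : List Job := [
  ⟨31, 0x4c468391e4c06a381ec844829164804a2816c361909844160901, 0, 3, 0x0, []⟩]

theorem t9_690_3 : jobs 8 S9 b8_690 j9_690_3 = true := by decide +kernel

noncomputable def j9_690_4 : List Job := [
  ⟨30, 0x4c46a381e4c068391ec844a2816480482916c361909844160901, 0, 2, 0x0, []⟩]

theorem t9_690_4 : jobs 8 S9 b8_690 j9_690_4 = true := by decide +kernel

noncomputable def j9_690_5 : List Job := [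
  ⟨29, 0x4c46a391ecc068381e4844a2916c804828164361909844160901, 0, 20, 0x0, []⟩]

theorem t9_690_5 : jobs 8 S9 b8_690 j9_690_5 = true := by decide +kernel

noncomputable def j9_690_6 : List Job := [
  ⟨28, 0x4c866361b8e8763e1fc804224128a0522c16c381f09844180f01, 0, 72, 0x0, []⟩]

theorem t9_690_6 : jobs 8 S9 b8_690 j9_690_6 = true := by decide +kernel

noncomputable def j9_690_7 : List Job := [
  ⟨27, 0x641229249a512a964ba61329a4da713a9e4fe01028241a110a8643a21128a45a311a8e47cc866361b8e8763e1fc804224128a0522c16c381f09844180f01, 0, 72, 0x0, []⟩]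

theorem t9_690_7 : jobs 8 S9 b8_690 j9_690_7 = true := by decide +kernel

noncomputable def j9_690_8 : List Job := [
  ⟨26, 0x601028241a110a8643a21128a45a311a8e47cc866361b8e8763e1fc804224128a0522c16c381f09844180f01, 0, 128, 0x0, []⟩]

theorem t9_690_8 : jobs 8 S9 b8_690 j9_690_8 = true := by decide +kernel

noncomputable def j9_690_9 : List Job := [
  ⟨25, 0x4c866361b8e8763e1fc804224128a0522c16c381f09844180f01, 0, 72, 0x0, []⟩]

theorem t9_690_9 : jobs 8 S9 b8_690 j9_690_9 = true := by decide +kernel

noncomputable def j9_690_10 : List Job := [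
  ⟨24, 0x641229249a512a964ba61329a4da713a9e4fe01028241a110a8643a21128a45a311a8e47cc866361b8e8763e1fc804224128a0522c16c381f09844180f01, 0, 72, 0x0, []⟩]

theorem t9_690_10 : jobs 8 S9 b8_690 j9_690_10 = true := by decide +kernel

noncomputable def j9_690_11 : List Job := [
  ⟨23, 0x601028241a110a8643a21128a45a311a8e47cc866361b8e8763e1fc804224128a0522c16c381f09844180f01, 0, 128, 0x0, []⟩]

theorem t9_690_11 : jobs 8 S9 b8_690 j9_690_11 = true := by decide +kernel

noncomputable def j9_690_12 : List Job := [
  ⟨22, 0x42e15098440e0501, 0, 20, 0x0, []⟩]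

theorem t9_690_12 : jobs 8 S9 b8_690 j9_690_12 = true := by decide +kernel

noncomputable def j9_690_13 : List Job := [
  ⟨21, 0x641229249a512a964ba61329a4da713a9e4fe01028241a110a8643a21128a45a311a8e47c2e15098440e0501, 0, 20, 0x0, []⟩]

theorem t9_690_13 : jobs 8 S9 b8_690 j9_690_13 = true := by decide +kernel

noncomputable def j9_690_14 : List Job := [
  ⟨20, 0x4c866361b8e8763e1fcc062341a8e0723c1ec884626138a8562e17c804224128a0522c16c2e15098440e0501, 0, 20, 0x0, []⟩]

theorem t9_690_14 : jobs 8 S9 b8_690 j9_690_14 = true := by decide +kernel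

noncomputable def j9_690_15 : List Job := [
  ⟨19, 0x641229249a512a964ba61329a4da713a9e4fe01028241a110a8643a21128a45a311a8e47cc866361b8e8763e1fcc062341a8e0723c1ec884626138a8562e17c804224128a0522c16c2e15098440e0501, 0, 20, 0x0, []⟩]

theorem t9_690_15 : jobs 8 S9 b8_690 j9_690_15 = true := by decide +kernel

noncomputable def j9_690_16 : List Job := [
  ⟨18, 0x601028241a110a8643a21128a45a311a8e47c2e15098440e0501, 0, 32, 0x0, []⟩]

theorem t9_690_16 : jobs 8 S9 b8_690 j9_690_16 = true := by decide +kernel

noncomputable def j9_690_17 : List Job := [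
  ⟨17, 0x601028241a110a8643a21128a45a311a8e47cc866361b8e8763e1fcc062341a8e0723c1ec884626138a8562e17c804224128a0522c16c2e15098440e0501, 0, 32, 0x0, []⟩]

theorem t9_690_17 : jobs 8 S9 b8_690 j9_690_17 = true := by decide +kernel

noncomputable def j9_690_18 : List Job := [
  ⟨16, 0x42e15098440e0501, 0, 20, 0x0, []⟩]

theorem t9_690_18 : jobs 8 S9 b8_690 j9_690_18 = true := by decide +kernel

noncomputable def j9_690_19 : List Job := [
  ⟨15, 0x641229249a512a964ba61329a4da713a9e4fe01028241a110a8643a21128a45a311a8e47c2e15098440e0501, 0, 20, 0x0, []⟩]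

theorem t9_690_19 : jobs 8 S9 b8_690 j9_690_19 = true := by decide +kernel

noncomputable def j9_690_20 : List Job := [
  ⟨14, 0x4c866361b8e8763e1fcc062341a8e0723c1ec884626138a8562e17c804224128a0522c16c2e15098440e0501, 0, 20, 0x0, []⟩]

theorem t9_690_20 : jobs 8 S9 b8_690 j9_690_20 = true := by decide +kernel

noncomputable def j9_690_21 : List Job := [
  ⟨13, 0x641229249a512a964ba61329a4da713a9e4fe01028241a110a8643a21128a45a311a8e47cc866361b8e8763e1fcc062341a8e0723c1ec884626138a8562e17c804224128a0522c16c2e15098440e0501, 0, 46, 0x5401005801, []⟩]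

theorem t9_690_21 : jobs 8 S9 b8_690 j9_690_21 = true := by decide +kernel

noncomputable def j9_690_22 : List Job := [
  ⟨12, 0x601028241a110a8643a21128a45a311a8e47c2e15098440e0501, 0, 32, 0x0, []⟩]

theorem t9_690_22 : jobs 8 S9 b8_690 j9_690_22 = true := by decide +kernel

noncomputable def j9_690_23 : List Job := [
  ⟨11, 0x601028241a110a8643a21128a45a311a8e47cc866361b8e8763e1fcc062341a8e0723c1ec884626138a8562e17c804224128a0522c16c2e15098440e0501, 0, 32, 0x0, []⟩]

theorem t9_690_23 : jobs 8 S9 b8_690 j9_690_23 = true := by decide +kernel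

noncomputable def j9_690_24 : List Job := [
  ⟨10, 0x4884626138a8562e17c804224128a0522c16c2e15098440e0501, 0, 32, 0x0, []⟩]

theorem t9_690_24 : jobs 8 S9 b8_690 j9_690_24 = true := by decide +kernel

noncomputable def j9_690_25 : List Job := [
  ⟨9, 0x641229249a512a964ba61329a4da713a9e4fe01028241a110a8643a21128a45a311a8e47c884626138a8562e17c804224128a0522c16c2e15098440e0501, 0, 32, 0x0, []⟩]

theorem t9_690_25 : jobs 8 S9 b8_690 j9_690_25 = true := by decide +kernel

noncomputable def j9_690_26 : List Job := [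
  ⟨8, 0x641229249a512a964ba61329a4da713a9e4fc884626138a8562e17c804224128a0522c16c2e15098440e0501, 0, 32, 0x0, []⟩]

theorem t9_690_26 : jobs 8 S9 b8_690 j9_690_26 = true := by decide +kernel

noncomputable def j9_690_27 : List Job := [
  ⟨7, 0x601028241a110a8643a21128a45a311a8e47c884626138a8562e17c804224128a0522c16c2e15098440e0501, 0, 32, 0x0, []⟩]

theorem t9_690_27 : jobs 8 S9 b8_690 j9_690_27 = true := by decide +kernel

noncomputable def j9_690_28 : List Job := [
  ⟨6, 0x4884626138a8562e17c804224128a0522c16c2e15098440e0501, 0, 32, 0x0, []⟩]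

theorem t9_690_28 : jobs 8 S9 b8_690 j9_690_28 = true := by decide +kernel

noncomputable def j9_690_29 : List Job := [
  ⟨5, 0x641229249a512a964ba61329a4da713a9e4fe01028241a110a8643a21128a45a311a8e47c884626138a8562e17c804224128a0522c16c2e15098440e0501, 0, 32, 0x0, []⟩]

theorem t9_690_29 : jobs 8 S9 b8_690 j9_690_29 = true := by decide +kernel

noncomputable def j9_690_30 : List Job := [
  ⟨4, 0x641229249a512a964ba61329a4da713a9e4fc884626138a8562e17c804224128a0522c16c2e15098440e0501, 0, 32, 0x0, []⟩]

theorem t9_690_30 : jobs 8 S9 b8_690 j9_690_30 = true := by decide +kernel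

noncomputable def j9_690_31 : List Job := [
  ⟨3, 0x601028241a110a8643a21128a45a311a8e47c884626138a8562e17c804224128a0522c16c2e15098440e0501, 0, 32, 0x0, []⟩]

theorem t9_690_31 : jobs 8 S9 b8_690 j9_690_31 = true := by decide +kernel

noncomputable def j9_690_32 : List Job := [
  ⟨2, 0x641229249a512a964ba61329a4da713a9e4fcc062341a8e0723c1ec844a2816480482916c361909844160901, 0, 32, 0x0, []⟩]

theorem t9_690_32 : jobs 8 S9 b8_690 j9_690_32 = true := by decide +kernel

noncomputable def j9_690_33 : List Job := [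
  ⟨1, 0x601028241a110a8643a21128a45a311a8e47cc062341a8e0723c1ec844a2816480482916c361909844160901, 0, 32, 0x0, []⟩]

theorem t9_690_33 : jobs 8 S9 b8_690 j9_690_33 = true := by decide +kernel

noncomputable def j9_690_34 : List Job := [
  ⟨0, 0x641229249a512a964ba61329a4da713a9e4fcc062341a8e0723c1ec844a2916c804828164361909844160901, 0, 32, 0x0, []⟩]

theorem t9_690_34 : jobs 8 S9 b8_690 j9_690_34 = true := by decide +kernel

theorem d9_690 : Dn 8 S9 b8_690 := dn_of (Js := j9_690_0 ++ (j9_690_1 ++ (j9_690_2 ++ (j9_690_3 ++ (j9_690_4 ++ (j9_690_5 ++ (j9_690_6 ++ (j9_690_7 ++ (j9_690_8 ++ (j9_690_9 ++ (j9_690_10 ++ (j9_690_11 ++ (j9_690_12 ++ (j9_690_13 ++ (j9_690_14 ++ (j9_690_15 ++ (j9_690_16 ++ (j9_690_17 ++ (j9_690_18 ++ (j9_690_19 ++ (j9_690_20 ++ (j9_690_21 ++ (j9_690_22 ++ (j9_690_23 ++ (j9_690_24 ++ (j9_690_25 ++ (j9_690_26 ++ (j9_690_27 ++ (j9_690_28 ++ (j9_690_29 ++ (j9_690_30 ++ (j9_690_31 ++ (j9_690_32 ++ (j9_690_33 ++ (j9_690_34 ++ [])))))))))))))))))))))))))))))))))))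
  (jobs_append t9_690_0 <| jobs_append t9_690_1 <| jobs_append t9_690_2 <| jobs_append t9_690_3 <| jobs_append t9_690_4 <| jobs_append t9_690_5 <| jobs_append t9_690_6 <| jobs_append t9_690_7 <| jobs_append t9_690_8 <| jobs_append t9_690_9 <| jobs_append t9_690_10 <| jobs_append t9_690_11 <| jobs_append t9_690_12 <| jobs_append t9_690_13 <| jobs_append t9_690_14 <| jobs_append t9_690_15 <| jobs_append t9_690_16 <| jobs_append t9_690_17 <| jobs_append t9_690_18 <| jobs_append t9_690_19 <| jobs_append t9_690_20 <| jobs_append t9_690_21 <| jobs_append t9_690_22 <| jobs_append t9_690_23 <| jobs_append t9_690_24 <| jobs_append t9_690_25 <| jobs_append t9_690_26 <| jobs_append t9_690_27 <| jobs_append t9_690_28 <| jobs_append t9_690_29 <| jobs_append t9_690_30 <| jobs_append t9_690_31 <| jobs_append t9_690_32 <| jobs_append t9_690_33 <| jobs_append t9_690_34 <| List.forall_mem_nil _) (by decide +kernel)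

noncomputable def j9_691_0 : List Job := [
  ⟨63, 0x548a6562b960b25c2ed40a2542a968b65e2fd08864623920924c26d00824422928964e27c783f1c0ec48271008c3e1d0d8640e0501, 0, 40, 0x0, []⟩]

theorem t9_691_0 : jobs 8 S9 b8_691 j9_691_0 = true := by decide +kernel

noncomputable def j9_691_1 : List Job := [
  ⟨62, 0x4783f1c0ec48271008c3e1d0d8640e0501, 0, 38, 0x0, []⟩]

theorem t9_691_1 : jobs 8 S9 b8_691 j9_691_1 = true := by decide +kernel

noncomputable def j9_691_2 : List Job := [
  ⟨61, 0x548a6562b960b25c2ed40a2542a968b65e2fd08864623920924c26d00824422928964e27c783f1c0ec48271008c3e1d0d8640e0501, 0, 38, 0x0, []⟩]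

theorem t9_691_2 : jobs 8 S9 b8_691 j9_691_2 = true := by decide +kernel

noncomputable def j9_691_3 : List Job := [
  ⟨60, 0x508864623920924c26d00824422928964e27c783f1c0ec48271008c3e1d0d8640e0501, 0, 48, 0x0, []⟩]

theorem t9_691_3 : jobs 8 S9 b8_691 j9_691_3 = true := by decide +kernel

noncomputable def j9_691_4 : List Job := [
  ⟨59, 0x508864623920924c26d00824422928964e27c783f1c0ec48271008c3e1d0d8640e0501, 0, 48, 0x0, []⟩]

theorem t9_691_4 : jobs 8 S9 b8_691 j9_691_4 = true := by decide +kernel

noncomputable def j9_691_5 : List Job := [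
  ⟨58, 0x508864623920924c26d00824422928964e27c783f1c0ec48271008c3e1d0d8640e0501, 0, 56, 0x0, []⟩]

theorem t9_691_5 : jobs 8 S9 b8_691 j9_691_5 = true := by decide +kernel

noncomputable def j9_691_6 : List Job := [
  ⟨57, 0x4783f1c0ec48271008c3e1d0d8640e0501, 0, 40, 0x0, []⟩]

theorem t9_691_6 : jobs 8 S9 b8_691 j9_691_6 = true := by decide +kernel

noncomputable def j9_691_7 : List Job := [
  ⟨56, 0x548a6562b960b25c2ed40a2542a968b65e2fd08864623920924c26d00824422928964e27c783f1c0ec48271008c3e1d0d8640e0501, 0, 40, 0x0, []⟩]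

theorem t9_691_7 : jobs 8 S9 b8_691 j9_691_7 = true := by decide +kernel

noncomputable def j9_691_8 : List Job := [
  ⟨55, 0x47e3d1d8e44e25118843e1d0d8640e0501, 0, 36, 0x0, []⟩]

theorem t9_691_8 : jobs 8 S9 b8_691 j9_691_8 = true := by decide +kernel

noncomputable def j9_691_9 : List Job := [
  ⟨54, 0x548a6562b960b25c2ed40a2542a968b65e2fd08864623920924c26d00824422928964e27c7e3d1d8e44e25118843e1d0d8640e0501, 0, 46, 0x4a01004c01004e01005001, []⟩]

theorem t9_691_9 : jobs 8 S9 b8_691 j9_691_9 = true := by decide +kernel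

noncomputable def j9_691_10 : List Job := [
  ⟨53, 0x47e3d1d8e44e25118843e1d0d8640e0501, 0, 36, 0x0, []⟩]

theorem t9_691_10 : jobs 8 S9 b8_691 j9_691_10 = true := by decide +kernel

noncomputable def j9_691_11 : List Job := [
  ⟨52, 0x548a6562b960b25c2ed40a2542a968b65e2fd08864623920924c26d00824422928964e27c7e3d1d8e44e25118843e1d0d8640e0501, 0, 66, 0x7401007801008001, []⟩]

theorem t9_691_11 : jobs 8 S9 b8_691 j9_691_11 = true := by decide +kernel

noncomputable def j9_691_12 : List Job := [
  ⟨51, 0x508864623920924c26d00824422928964e27c582f140ac48271008c180f0402c0e0501, 0, 96, 0x0, []⟩]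

theorem t9_691_12 : jobs 8 S9 b8_691 j9_691_12 = true := by decide +kernel

noncomputable def j9_691_13 : List Job := [
  ⟨50, 0x4582f140ac48271008c180f0402c0e0501, 0, 66, 0x0, []⟩]

theorem t9_691_13 : jobs 8 S9 b8_691 j9_691_13 = true := by decide +kernel

noncomputable def j9_691_14 : List Job := [
  ⟨49, 0x548a6562b960b25c2ed40a2542a968b65e2fd08864623920924c26d00824422928964e27c582f140ac48271008c180f0402c0e0501, 0, 66, 0x0, []⟩]

theorem t9_691_14 : jobs 8 S9 b8_691 j9_691_14 = true := by decide +kernel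

noncomputable def j9_691_15 : List Job := [
  ⟨48, 0x508864623920924c26d00824422928964e27c582f140ac48271008c180f0402c0e0501, 0, 96, 0x0, []⟩]

theorem t9_691_15 : jobs 8 S9 b8_691 j9_691_15 = true := by decide +kernel

noncomputable def j9_691_16 : List Job := [
  ⟨47, 0x4582f140ac4e2511884180f0402c0e0501, 0, 72, 0x0, []⟩]

theorem t9_691_16 : jobs 8 S9 b8_691 j9_691_16 = true := by decide +kernel

noncomputable def j9_691_17 : List Job := [
  ⟨46, 0x548a6562b960b25c2ed40a2542a968b65e2fd08864623920924c26d00824422928964e27c582f140ac4e2511884180f0402c0e0501, 0, 72, 0x0, []⟩]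

theorem t9_691_17 : jobs 8 S9 b8_691 j9_691_17 = true := by decide +kernel

noncomputable def j9_691_18 : List Job := [
  ⟨27, 0x641229249a512a964ba61329a4da713a9e4fe01028241a110a8643a21128a45a311a8e47cc471301cc84512014c663111884261101, 0, 6, 0x0, []⟩]

theorem t9_691_18 : jobs 8 S9 b8_691 j9_691_18 = true := by decide +kernel

noncomputable def j9_691_19 : List Job := [
  ⟨25, 0x641229249a512a964ba61329a4da713a9e4fe01028241a110a8643a21128a45a311a8e47cc473301c4845320144663111884261101, 0, 15, 0x0, []⟩]

theorem t9_691_19 : jobs 8 S9 b8_691 j9_691_19 = true := by decide +kernel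

noncomputable def j9_691_20 : List Job := [
  ⟨7, 0x4361909844160901, 0, 3, 0x0, []⟩]

theorem t9_691_20 : jobs 8 S9 b8_691 j9_691_20 = true := by decide +kernel

noncomputable def j9_691_21 : List Job := [
  ⟨5, 0x4361909844160901, 0, 20, 0x0, []⟩]

theorem t9_691_21 : jobs 8 S9 b8_691 j9_691_21 = true := by decide +kernel

theorem d9_691 : Dn 8 S9 b8_691 := dn_of (Js := j9_691_0 ++ (j9_691_1 ++ (j9_691_2 ++ (j9_691_3 ++ (j9_691_4 ++ (j9_691_5 ++ (j9_691_6 ++ (j9_691_7 ++ (j9_691_8 ++ (j9_691_9 ++ (j9_691_10 ++ (j9_691_11 ++ (j9_691_12 ++ (j9_691_13 ++ (j9_691_14 ++ (j9_691_15 ++ (j9_691_16 ++ (j9_691_17 ++ (j9_691_18 ++ (j9_691_19 ++ (j9_691_20 ++ (j9_691_21 ++ []))))))))))))))))))))))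
  (jobs_append t9_691_0 <| jobs_append t9_691_1 <| jobs_append t9_691_2 <| jobs_append t9_691_3 <| jobs_append t9_691_4 <| jobs_append t9_691_5 <| jobs_append t9_691_6 <| jobs_append t9_691_7 <| jobs_append t9_691_8 <| jobs_append t9_691_9 <| jobs_append t9_691_10 <| jobs_append t9_691_11 <| jobs_append t9_691_12 <| jobs_append t9_691_13 <| jobs_append t9_691_14 <| jobs_append t9_691_15 <| jobs_append t9_691_16 <| jobs_append t9_691_17 <| jobs_append t9_691_18 <| jobs_append t9_691_19 <| jobs_append t9_691_20 <| jobs_append t9_691_21 <| List.forall_mem_nil _) (by decide +kernel)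

noncomputable def j9_692_0 : List Job := [
  ⟨63, 0x44c35120dc4431100cc2e15098440e0501, 0, 24, 0x0, []⟩]

theorem t9_692_0 : jobs 8 S9 b8_692 j9_692_0 = true := by decide +kernel

noncomputable def j9_692_1 : List Job := [
  ⟨62, 0x601028241a110a8643a21128a45a311a8e47c4c35120dc4431100cc2e15098440e0501, 0, 30, 0x3201003401, []⟩]

theorem t9_692_1 : jobs 8 S9 b8_692 j9_692_1 = true := by decide +kernel

noncomputable def j9_692_2 : List Job := [
  ⟨61, 0x44c37120d44433100c42e15098440e0501, 0, 24, 0x0, []⟩]

theorem t9_692_2 : jobs 8 S9 b8_692 j9_692_2 = true := by decide +kernel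

noncomputable def j9_692_3 : List Job := [
  ⟨60, 0x601028241a110a8643a21128a45a311a8e47c4c37120d44433100c42e15098440e0501, 0, 24, 0x0, []⟩]

theorem t9_692_3 : jobs 8 S9 b8_692 j9_692_3 = true := by decide +kernel

noncomputable def j9_692_4 : List Job := [
  ⟨59, 0x44c35120dc4431100cc2e15098440e0501, 0, 24, 0x0, []⟩]

theorem t9_692_4 : jobs 8 S9 b8_692 j9_692_4 = true := by decide +kernel

noncomputable def j9_692_5 : List Job := [
  ⟨58, 0x601028241a110a8643a21128a45a311a8e47c4c35120dc4431100cc2e15098440e0501, 0, 24, 0x0, []⟩]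

theorem t9_692_5 : jobs 8 S9 b8_692 j9_692_5 = true := by decide +kernel

noncomputable def j9_692_6 : List Job := [
  ⟨57, 0x44c37120d44433100c42e15098440e0501, 0, 24, 0x0, []⟩]

theorem t9_692_6 : jobs 8 S9 b8_692 j9_692_6 = true := by decide +kernel

noncomputable def j9_692_7 : List Job := [
  ⟨56, 0x601028241a110a8643a21128a45a311a8e47c4c37120d44433100c42e15098440e0501, 0, 50, 0x0, []⟩]

theorem t9_692_7 : jobs 8 S9 b8_692 j9_692_7 = true := by decide +kernel

noncomputable def j9_692_8 : List Job := [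
  ⟨55, 0x520924a259309a4e27d008242219108a4623c582e1e0fc4022180cc381f09844180f01, 0, 128, 0x0, []⟩]

theorem t9_692_8 : jobs 8 S9 b8_692 j9_692_8 = true := by decide +kernel

noncomputable def j9_692_9 : List Job := [
  ⟨54, 0x601028241a110a8643a21128a45a311a8e47d20924a259309a4e27d008242219108a4623c582e1e0fc4022180cc381f09844180f01, 0, 128, 0x0, []⟩]

theorem t9_692_9 : jobs 8 S9 b8_692 j9_692_9 = true := by decide +kernel

noncomputable def j9_692_10 : List Job := [
  ⟨53, 0x4582e1e0fc4433100c4381f09844180f01, 0, 80, 0x0, []⟩]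

theorem t9_692_10 : jobs 8 S9 b8_692 j9_692_10 = true := by decide +kernel

noncomputable def j9_692_11 : List Job := [
  ⟨52, 0x601028241a110a8643a21128a45a311a8e47c582e1e0fc4433100c4381f09844180f01, 0, 80, 0x0, []⟩]

theorem t9_692_11 : jobs 8 S9 b8_692 j9_692_11 = true := by decide +kernel

noncomputable def j9_692_12 : List Job := [
  ⟨51, 0x550aa562b960b25a2dd40a25229970ba5e2fd20924a259309a4e27d008242219108a4623c582e1e0fc4433100c4381f09844180f01, 0, 80, 0x0, []⟩]

theorem t9_692_12 : jobs 8 S9 b8_692 j9_692_12 = true := by decide +kernel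

noncomputable def j9_692_13 : List Job := [
  ⟨50, 0x601028241a110a8643a21128a45a311a8e47d50aa562b960b25a2dd40a25229970ba5e2fd20924a259309a4e27d008242219108a4623c582e1e0fc4433100c4381f09844180f01, 0, 80, 0x0, []⟩]

theorem t9_692_13 : jobs 8 S9 b8_692 j9_692_13 = true := by decide +kernel

noncomputable def j9_692_14 : List Job := [
  ⟨49, 0x520924a259309a4e27d008242219108a4623c502a1c0ec4022180cc361909844160901, 0, 32, 0x0, []⟩]

theorem t9_692_14 : jobs 8 S9 b8_692 j9_692_14 = true := by decide +kernel

noncomputable def j9_692_15 : List Job := [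
  ⟨48, 0x601028241a110a8643a21128a45a311a8e47d20924a259309a4e27d008242219108a4623c502a1c0ec4022180cc361909844160901, 0, 32, 0x0, []⟩]

theorem t9_692_15 : jobs 8 S9 b8_692 j9_692_15 = true := by decide +kernel

noncomputable def j9_692_16 : List Job := [
  ⟨47, 0x520924a259309a4e27d008242219108a4623c502a1c0ec4022180cc361909844160901, 0, 32, 0x0, []⟩]

theorem t9_692_16 : jobs 8 S9 b8_692 j9_692_16 = true := by decide +kernel

noncomputable def j9_692_17 : List Job := [
  ⟨46, 0x601028241a110a8643a21128a45a311a8e47d20924a259309a4e27d008242219108a4623c502a1c0ec4022180cc361909844160901, 0, 32, 0x0, []⟩]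

theorem t9_692_17 : jobs 8 S9 b8_692 j9_692_17 = true := by decide +kernel

noncomputable def j9_692_18 : List Job := [
  ⟨45, 0x4502a1c0ec4022180cc361909844160901, 0, 20, 0x0, []⟩]

theorem t9_692_18 : jobs 8 S9 b8_692 j9_692_18 = true := by decide +kernel

noncomputable def j9_692_19 : List Job := [
  ⟨44, 0x601028241a110a8643a21128a45a311a8e47c502a1c0ec4022180cc361909844160901, 0, 20, 0x0, []⟩]

theorem t9_692_19 : jobs 8 S9 b8_692 j9_692_19 = true := by decide +kernel

noncomputable def j9_692_20 : List Job := [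
  ⟨43, 0x550aa562b960b25a2dd40a25229970ba5e2fd20924a259309a4e27d008242219108a4623c502a1c0ec4022180cc361909844160901, 0, 20, 0x0, []⟩]

theorem t9_692_20 : jobs 8 S9 b8_692 j9_692_20 = true := by decide +kernel

noncomputable def j9_692_21 : List Job := [
  ⟨42, 0x601028241a110a8643a21128a45a311a8e47d50aa562b960b25a2dd40a25229970ba5e2fd20924a259309a4e27d008242219108a4623c502a1c0ec4022180cc361909844160901, 0, 20, 0x0, []⟩]

theorem t9_692_21 : jobs 8 S9 b8_692 j9_692_21 = true := by decide +kernel

noncomputable def j9_692_22 : List Job := [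
  ⟨41, 0x4502a1c0ec4022180cc361909844160901, 0, 20, 0x0, []⟩]

theorem t9_692_22 : jobs 8 S9 b8_692 j9_692_22 = true := by decide +kernel

noncomputable def j9_692_23 : List Job := [
  ⟨40, 0x601028241a110a8643a21128a45a311a8e47c502a1c0ec4022180cc361909844160901, 0, 20, 0x0, []⟩]

theorem t9_692_23 : jobs 8 S9 b8_692 j9_692_23 = true := by decide +kernel

noncomputable def j9_692_24 : List Job := [
  ⟨39, 0x550aa562b960b25a2dd40a25229970ba5e2fd20924a259309a4e27d008242219108a4623c502a1c0ec4022180cc361909844160901, 0, 20, 0x0, []⟩]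

theorem t9_692_24 : jobs 8 S9 b8_692 j9_692_24 = true := by decide +kernel

noncomputable def j9_692_25 : List Job := [
  ⟨38, 0x601028241a110a8643a21128a45a311a8e47d50aa562b960b25a2dd40a25229970ba5e2fd20924a259309a4e27d008242219108a4623c502a1c0ec4022180cc361909844160901, 0, 20, 0x0, []⟩]

theorem t9_692_25 : jobs 8 S9 b8_692 j9_692_25 = true := by decide +kernel

noncomputable def j9_692_26 : List Job := [
  ⟨37, 0x520924a259309a4e27d008242219108a4623c502a1c0ec4022180cc361909844160901, 0, 32, 0x0, []⟩]

theorem t9_692_26 : jobs 8 S9 b8_692 j9_692_26 = true := by decide +kernel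

noncomputable def j9_692_27 : List Job := [
  ⟨36, 0x601028241a110a8643a21128a45a311a8e47d20924a259309a4e27d008242219108a4623c502a1c0ec4022180cc361909844160901, 0, 32, 0x0, []⟩]

theorem t9_692_27 : jobs 8 S9 b8_692 j9_692_27 = true := by decide +kernel

noncomputable def j9_692_28 : List Job := [
  ⟨35, 0x520924a259309a4e27d008242219108a4623c502a1c0ec4022180cc361909844160901, 0, 32, 0x0, []⟩]

theorem t9_692_28 : jobs 8 S9 b8_692 j9_692_28 = true := by decide +kernel

noncomputable def j9_692_29 : List Job := [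
  ⟨34, 0x601028241a110a8643a21128a45a311a8e47d20924a259309a4e27d008242219108a4623c502a1c0ec4022180cc361909844160901, 0, 32, 0x0, []⟩]

theorem t9_692_29 : jobs 8 S9 b8_692 j9_692_29 = true := by decide +kernel

noncomputable def j9_692_30 : List Job := [
  ⟨33, 0x45439140ec4431100cc361909844160901, 0, 20, 0x0, []⟩]

theorem t9_692_30 : jobs 8 S9 b8_692 j9_692_30 = true := by decide +kernel

noncomputable def j9_692_31 : List Job := [
  ⟨32, 0x601028241a110a8643a21128a45a311a8e47c5439140ec4431100cc361909844160901, 0, 20, 0x0, []⟩]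

theorem t9_692_31 : jobs 8 S9 b8_692 j9_692_31 = true := by decide +kernel

noncomputable def j9_692_32 : List Job := [
  ⟨31, 0x550aa562b960b25a2dd40a25229970ba5e2fd20924a259309a4e27d008242219108a4623c5439140ec4431100cc361909844160901, 0, 20, 0x0, []⟩]

theorem t9_692_32 : jobs 8 S9 b8_692 j9_692_32 = true := by decide +kernel

noncomputable def j9_692_33 : List Job := [
  ⟨30, 0x601028241a110a8643a21128a45a311a8e47d50aa562b960b25a2dd40a25229970ba5e2fd20924a259309a4e27d008242219108a4623c5439140ec4431100cc361909844160901, 0, 20, 0x0, []⟩]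

theorem t9_692_33 : jobs 8 S9 b8_692 j9_692_33 = true := by decide +kernel

noncomputable def j9_692_34 : List Job := [
  ⟨29, 0x4543b140e44433100c4361909844160901, 0, 20, 0x0, []⟩]

theorem t9_692_34 : jobs 8 S9 b8_692 j9_692_34 = true := by decide +kernel

noncomputable def j9_692_35 : List Job := [
  ⟨28, 0x601028241a110a8643a21128a45a311a8e47c543b140e44433100c4361909844160901, 0, 20, 0x0, []⟩]

theorem t9_692_35 : jobs 8 S9 b8_692 j9_692_35 = true := by decide +kernel

noncomputable def j9_692_36 : List Job := [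
  ⟨27, 0x550aa562b960b25a2dd40a25229970ba5e2fd20924a259309a4e27d008242219108a4623c543b140e44433100c4361909844160901, 0, 20, 0x0, []⟩]

theorem t9_692_36 : jobs 8 S9 b8_692 j9_692_36 = true := by decide +kernel

noncomputable def j9_692_37 : List Job := [
  ⟨26, 0x601028241a110a8643a21128a45a311a8e47d50aa562b960b25a2dd40a25229970ba5e2fd20924a259309a4e27d008242219108a4623c543b140e44433100c4361909844160901, 0, 50, 0x0, []⟩]

theorem t9_692_37 : jobs 8 S9 b8_692 j9_692_37 = true := by decide +kernel

noncomputable def j9_692_38 : List Job := [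
  ⟨25, 0x550aa562b960b25a2dd40a25229970ba5e2fc48261a0dc4022180cc2e15098440e0501, 0, 32, 0x0, []⟩]

theorem t9_692_38 : jobs 8 S9 b8_692 j9_692_38 = true := by decide +kernel

noncomputable def j9_692_39 : List Job := [
  ⟨24, 0x601028241a110a8643a21128a45a311a8e47d50aa562b960b25a2dd40a25229970ba5e2fc48261a0dc4022180cc2e15098440e0501, 0, 32, 0x0, []⟩]

theorem t9_692_39 : jobs 8 S9 b8_692 j9_692_39 = true := by decide +kernel

noncomputable def j9_692_40 : List Job := [
  ⟨23, 0x520924a259309a4e27d008242219108a4623c48261a0dc4022180cc2e15098440e0501, 0, 32, 0x0, []⟩]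

theorem t9_692_40 : jobs 8 S9 b8_692 j9_692_40 = true := by decide +kernel

noncomputable def j9_692_41 : List Job := [
  ⟨22, 0x601028241a110a8643a21128a45a311a8e47d20924a259309a4e27d008242219108a4623c48261a0dc4022180cc2e15098440e0501, 0, 32, 0x0, []⟩]

theorem t9_692_41 : jobs 8 S9 b8_692 j9_692_41 = true := by decide +kernel

noncomputable def j9_692_42 : List Job := [
  ⟨21, 0x448261a0dc4022180cc2e15098440e0501, 0, 32, 0x0, []⟩]

theorem t9_692_42 : jobs 8 S9 b8_692 j9_692_42 = true := by decide +kernel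

noncomputable def j9_692_43 : List Job := [
  ⟨20, 0x601028241a110a8643a21128a45a311a8e47c48261a0dc4022180cc2e15098440e0501, 0, 32, 0x0, []⟩]

theorem t9_692_43 : jobs 8 S9 b8_692 j9_692_43 = true := by decide +kernel

noncomputable def j9_692_44 : List Job := [
  ⟨19, 0x550aa562b960b25a2dd40a25229970ba5e2fd20924a259309a4e27d008242219108a4623c48261a0dc4022180cc2e15098440e0501, 0, 32, 0x0, []⟩]

theorem t9_692_44 : jobs 8 S9 b8_692 j9_692_44 = true := by decide +kernel

noncomputable def j9_692_45 : List Job := [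
  ⟨18, 0x601028241a110a8643a21128a45a311a8e47d50aa562b960b25a2dd40a25229970ba5e2fd20924a259309a4e27d008242219108a4623c48261a0dc4022180cc2e15098440e0501, 0, 32, 0x0, []⟩]

theorem t9_692_45 : jobs 8 S9 b8_692 j9_692_45 = true := by decide +kernel

noncomputable def j9_692_46 : List Job := [
  ⟨17, 0x520924a259309a4e27d008242219108a4623c48261a0dc4022180cc2e15098440e0501, 0, 32, 0x0, []⟩]

theorem t9_692_46 : jobs 8 S9 b8_692 j9_692_46 = true := by decide +kernel

noncomputable def j9_692_47 : List Job := [
  ⟨16, 0x601028241a110a8643a21128a45a311a8e47d20924a259309a4e27d008242219108a4623c48261a0dc4022180cc2e15098440e0501, 0, 32, 0x0, []⟩]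

theorem t9_692_47 : jobs 8 S9 b8_692 j9_692_47 = true := by decide +kernel

noncomputable def j9_692_48 : List Job := [
  ⟨15, 0x520924a259309a4e27d008242219108a4623c48261a0dc4022180cc2e15098440e0501, 0, 32, 0x0, []⟩]

theorem t9_692_48 : jobs 8 S9 b8_692 j9_692_48 = true := by decide +kernel

noncomputable def j9_692_49 : List Job := [
  ⟨14, 0x601028241a110a8643a21128a45a311a8e47d20924a259309a4e27d008242219108a4623c48261a0dc4022180cc2e15098440e0501, 0, 32, 0x0, []⟩]

theorem t9_692_49 : jobs 8 S9 b8_692 j9_692_49 = true := by decide +kernel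

noncomputable def j9_692_50 : List Job := [
  ⟨13, 0x44c37120d44433100c42e15098440e0501, 0, 24, 0x0, []⟩]

theorem t9_692_50 : jobs 8 S9 b8_692 j9_692_50 = true := by decide +kernel

noncomputable def j9_692_51 : List Job := [
  ⟨12, 0x601028241a110a8643a21128a45a311a8e47c4c37120d44433100c42e15098440e0501, 0, 24, 0x0, []⟩]

theorem t9_692_51 : jobs 8 S9 b8_692 j9_692_51 = true := by decide +kernel

noncomputable def j9_692_52 : List Job := [
  ⟨11, 0x550aa562b960b25a2dd40a25229970ba5e2fd20924a259309a4e27d008242219108a4623c4c37120d44433100c42e15098440e0501, 0, 24, 0x0, []⟩]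

theorem t9_692_52 : jobs 8 S9 b8_692 j9_692_52 = true := by decide +kernel

noncomputable def j9_692_53 : List Job := [
  ⟨10, 0x601028241a110a8643a21128a45a311a8e47d50aa562b960b25a2dd40a25229970ba5e2fd20924a259309a4e27d008242219108a4623c4c37120d44433100c42e15098440e0501, 0, 30, 0x3201003401, []⟩]

theorem t9_692_53 : jobs 8 S9 b8_692 j9_692_53 = true := by decide +kernel

noncomputable def j9_692_54 : List Job := [
  ⟨9, 0x44c37120d44433100c42e15098440e0501, 0, 24, 0x0, []⟩]

theorem t9_692_54 : jobs 8 S9 b8_692 j9_692_54 = true := by decide +kernel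

noncomputable def j9_692_55 : List Job := [
  ⟨8, 0x601028241a110a8643a21128a45a311a8e47c4c37120d44433100c42e15098440e0501, 0, 24, 0x0, []⟩]

theorem t9_692_55 : jobs 8 S9 b8_692 j9_692_55 = true := by decide +kernel

noncomputable def j9_692_56 : List Job := [
  ⟨7, 0x550aa562b960b25a2dd40a25229970ba5e2fd20924a259309a4e27d008242219108a4623c4c37120d44433100c42e15098440e0501, 0, 24, 0x0, []⟩]

theorem t9_692_56 : jobs 8 S9 b8_692 j9_692_56 = true := by decide +kernel

noncomputable def j9_692_57 : List Job := [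
  ⟨6, 0x601028241a110a8643a21128a45a311a8e47d50aa562b960b25a2dd40a25229970ba5e2fd20924a259309a4e27d008242219108a4623c4c37120d44433100c42e15098440e0501, 0, 50, 0x0, []⟩]

theorem t9_692_57 : jobs 8 S9 b8_692 j9_692_57 = true := by decide +kernel

noncomputable def j9_692_58 : List Job := [
  ⟨5, 0x508864623920924c26d00824422928964e27c783f1a0dc502b1008c381f0a05c100b01, 0, 40, 0x0, []⟩]

theorem t9_692_58 : jobs 8 S9 b8_692 j9_692_58 = true := by decide +kernel

noncomputable def j9_692_59 : List Job := [
  ⟨4, 0x4783f1a0dc502b11884381f0a05c100b01, 0, 30, 0x0, []⟩]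

theorem t9_692_59 : jobs 8 S9 b8_692 j9_692_59 = true := by decide +kernel

noncomputable def j9_692_60 : List Job := [
  ⟨3, 0x548a6562b960b25c2ed40a2542a968b65e2fd08864623920924c26d00824422928964e27c783f1a0dc502b11884381f0a05c100b01, 0, 30, 0x0, []⟩]

theorem t9_692_60 : jobs 8 S9 b8_692 j9_692_60 = true := by decide +kernel

noncomputable def j9_692_61 : List Job := [
  ⟨2, 0x508864623920924c26d00824422928964e27c783f1c0ec48271008c3e1d0d8640e0501, 0, 56, 0x0, []⟩]

theorem t9_692_61 : jobs 8 S9 b8_692 j9_692_61 = true := by decide +kernel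

noncomputable def j9_692_62 : List Job := [
  ⟨1, 0x508864623920924c26d00824422928964e27c783f1c0ec48271008c3e1d0d8640e0501, 0, 56, 0x0, []⟩]

theorem t9_692_62 : jobs 8 S9 b8_692 j9_692_62 = true := by decide +kernel

noncomputable def j9_692_63 : List Job := [
  ⟨0, 0x4783f1c0ec48271008c3e1d0d8640e0501, 0, 40, 0x0, []⟩]

theorem t9_692_63 : jobs 8 S9 b8_692 j9_692_63 = true := by decide +kernel

theorem d9_692 : Dn 8 S9 b8_692 := dn_of (Js := j9_692_0 ++ (j9_692_1 ++ (j9_692_2 ++ (j9_692_3 ++ (j9_692_4 ++ (j9_692_5 ++ (j9_692_6 ++ (j9_692_7 ++ (j9_692_8 ++ (j9_692_9 ++ (j9_692_10 ++ (j9_692_11 ++ (j9_692_12 ++ (j9_692_13 ++ (j9_692_14 ++ (j9_692_15 ++ (j9_692_16 ++ (j9_692_17 ++ (j9_692_18 ++ (j9_692_19 ++ (j9_692_20 ++ (j9_692_21 ++ (j9_692_22 ++ (j9_692_23 ++ (j9_692_24 ++ (j9_692_25 ++ (j9_692_26 ++ (j9_692_27 ++ (j9_692_28 ++ (j9_692_29 ++ (j9_692_30 ++ (j9_692_31 ++ (j9_692_32 ++ (j9_692_33 ++ (j9_692_34 ++ (j9_692_35 ++ (j9_692_36 ++ (j9_692_37 ++ (j9_692_38 ++ (j9_692_39 ++ (j9_692_40 ++ (j9_692_41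 ++ (j9_692_42 ++ (j9_692_43 ++ (j9_692_44 ++ (j9_692_45 ++ (j9_692_46 ++ (j9_692_47 ++ (j9_692_48 ++ (j9_692_49 ++ (j9_692_50 ++ (j9_692_51 ++ (j9_692_52 ++ (j9_692_53 ++ (j9_692_54 ++ (j9_692_55 ++ (j9_692_56 ++ (j9_692_57 ++ (j9_692_58 ++ (j9_692_59 ++ (j9_692_60 ++ (j9_692_61 ++ (j9_692_62 ++ (j9_692_63 ++ []))))))))))))))))))))))))))))))))))))))))))))))))))))))))))))))))
  (jobs_append t9_692_0 <| jobs_append t9_692_1 <| jobs_append t9_692_2 <| jobs_append t9_692_3 <| jobs_append t9_692_4 <| jobs_append t9_692_5 <| jobs_append t9_692_6 <| jobs_append t9_692_7 <| jobs_append t9_692_8 <| jobs_append t9_692_9 <| jobs_append t9_692_10 <| jobs_append t9_692_11 <| jobs_append t9_692_12 <| jobs_append t9_692_13 <| jobs_append t9_692_14 <| jobs_append t9_692_15 <| jobs_append t9_692_16 <| jobs_append t9_692_17 <| jobs_append t9_692_18 <| jobs_append t9_692_19 <| jobs_append t9_692_20 <| jobs_append t9_692_21 <| jobs_append t9_692_22 <| jobs_append t9_692_23 <| jobs_append t9_692_24 <| jobs_append t9_692_25 <| jobs_append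 t9_692_26 <| jobs_append t9_692_27 <| jobs_append t9_692_28 <| jobs_append t9_692_29 <| jobs_append t9_692_30 <| jobs_append t9_692_31 <| jobs_append t9_692_32 <| jobs_append t9_692_33 <| jobs_append t9_692_34 <| jobs_append t9_692_35 <| jobs_append t9_692_36 <| jobs_append t9_692_37 <| jobs_append t9_692_38 <| jobs_append t9_692_39 <| jobs_append t9_692_40 <| jobs_append t9_692_41 <| jobs_append t9_692_42 <| jobs_append t9_692_43 <| jobs_append t9_692_44 <| jobs_append t9_692_45 <| jobs_append t9_692_46 <| jobs_append t9_692_47 <| jobs_append t9_692_48 <| jobs_append t9_692_49 <| jobs_append t9_692_50 <| jobs_append t9_692_51 <| jobs_append t9_692_52 <| jobs_append t9_692_53 <| jobs_append t9_692_54 <| jobs_append t9_692_55 <| jobs_append t9_692_56 <| jobs_append t9_692_57 <| jobs_append t9_692_58 <| jobs_append t9_692_59 <| jobs_append t9_692_60 <| jobs_append t9_692_61 <| jobs_append t9_692_62 <| jobs_append t9_692_63 <| List.forall_mem_nil _) (by decide +kernel)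

noncomputable def j9_693_0 : List Job := [
  ⟨63, 0x601028241a110a8643a21128a45a311a8e47d008242219108a4623920924a259309a4e27c643d180fc442d100bc3e1d098441e0d01, 0, 18, 0x0, []⟩]

theorem t9_693_0 : jobs 8 S9 b8_693 j9_693_0 = true := by decide +kernel

noncomputable def j9_693_1 : List Job := [
  ⟨62, 0x4e0723a1d8f07a3e1fcc06232198d06a361bca0522a158b05a2e17c804222118904a2613c643d180fc442d100bc3e1d098441e0d01, 0, 18, 0x0, []⟩]

theorem t9_693_1 : jobs 8 S9 b8_693 j9_693_1 = true := by decide +kernel

noncomputable def j9_693_2 : List Job := [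
  ⟨61, 0x5008242219108a4623920924a259309a4e27ce0723a1d8f07a3e1fcc06232198d06a361bca0522a158b05a2e17c804222118904a2613c643d180fc442d100bc3e1d098441e0d01, 0, 24, 0x0, []⟩]

theorem t9_693_2 : jobs 8 S9 b8_693 j9_693_2 = true := by decide +kernel

noncomputable def j9_693_3 : List Job := [
  ⟨60, 0x601028241a110a8643a21128a45a311a8e47d008242219108a4623920924a259309a4e27ce0723a1d8f07a3e1fcc06232198d06a361bca0522a158b05a2e17c804222118904a2613c643d180fc442d100bc3e1d098441e0d01, 0, 42, 0x4a01004c01, []⟩]

theorem t9_693_3 : jobs 8 S9 b8_693 j9_693_3 = true := by decide +kernel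

noncomputable def j9_693_4 : List Job := [
  ⟨59, 0x4e0723a1d8f07a3e1fc804222118904a2613c4826140ac4022160bc1e0d058240e0501, 0, 20, 0x0, []⟩]

theorem t9_693_4 : jobs 8 S9 b8_693 j9_693_4 = true := by decide +kernel

noncomputable def j9_693_5 : List Job := [
  ⟨58, 0x5008242219108a4623920924a259309a4e27ce0723a1d8f07a3e1fc804222118904a2613c4826140ac4022160bc1e0d058240e0501, 0, 32, 0x0, []⟩]

theorem t9_693_5 : jobs 8 S9 b8_693 j9_693_5 = true := by decide +kernel

noncomputable def j9_693_6 : List Job := [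
  ⟨57, 0x601028241a110a8643a21128a45a311a8e47d008242219108a4623920924a259309a4e27ce0723a1d8f07a3e1fc804222118904a2613c4826140ac4022160bc1e0d058240e0501, 0, 20, 0x0, []⟩]

theorem t9_693_6 : jobs 8 S9 b8_693 j9_693_6 = true := by decide +kernel

noncomputable def j9_693_7 : List Job := [
  ⟨56, 0x4e0723a1d8f07a3e1fc804222118904a2613c4826140ac4022160bc1e0d058240e0501, 0, 18, 0x0, []⟩]

theorem t9_693_7 : jobs 8 S9 b8_693 j9_693_7 = true := by decide +kernel

noncomputable def j9_693_8 : List Job := [
  ⟨55, 0x5008242219108a4623920924a259309a4e27ce0723a1d8f07a3e1fc804222118904a2613c4826140ac4022160bc1e0d058240e0501, 0, 24, 0x0, []⟩]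

theorem t9_693_8 : jobs 8 S9 b8_693 j9_693_8 = true := by decide +kernel

noncomputable def j9_693_9 : List Job := [
  ⟨54, 0x601028241a110a8643a21128a45a311a8e47d008242219108a4623920924a259309a4e27ce0723a1d8f07a3e1fc804222118904a2613c4826140ac4022160bc1e0d058240e0501, 0, 18, 0x0, []⟩]

theorem t9_693_9 : jobs 8 S9 b8_693 j9_693_9 = true := by decide +kernel

noncomputable def j9_693_10 : List Job := [
  ⟨53, 0x4e0723a1d8f07a3e1fc804222118904a2613c4826140ac4022160bc1e0d058240e0501, 0, 18, 0x0, []⟩]

theorem t9_693_10 : jobs 8 S9 b8_693 j9_693_10 = true := by decide +kernel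

noncomputable def j9_693_11 : List Job := [
  ⟨52, 0x5008242219108a4623920924a259309a4e27ce0723a1d8f07a3e1fc804222118904a2613c4826140ac4022160bc1e0d058240e0501, 0, 24, 0x0, []⟩]

theorem t9_693_11 : jobs 8 S9 b8_693 j9_693_11 = true := by decide +kernel

noncomputable def j9_693_12 : List Job := [
  ⟨51, 0x601028241a110a8643a21128a45a311a8e47d008242219108a4623920924a259309a4e27ce0723a1d8f07a3e1fc804222118904a2613c4826140ac4022160bc1e0d058240e0501, 0, 18, 0x0, []⟩]

theorem t9_693_12 : jobs 8 S9 b8_693 j9_693_12 = true := by decide +kernel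

noncomputable def j9_693_13 : List Job := [
  ⟨50, 0x4c464351b4c066341bc84462513c8044241344826140ac4022160bc1e0d058240e0501, 0, 20, 0x0, []⟩]

theorem t9_693_13 : jobs 8 S9 b8_693 j9_693_13 = true := by decide +kernel

noncomputable def j9_693_14 : List Job := [
  ⟨49, 0x5008242219108a4623920924a259309a4e27cc464351b4c066341bc84462513c8044241344826140ac4022160bc1e0d058240e0501, 0, 32, 0x0, []⟩]

theorem t9_693_14 : jobs 8 S9 b8_693 j9_693_14 = true := by decide +kernel

noncomputable def j9_693_15 : List Job := [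
  ⟨48, 0x601028241a110a8643a21128a45a311a8e47d008242219108a4623920924a259309a4e27cc464351b4c066341bc84462513c8044241344826140ac4022160bc1e0d058240e0501, 0, 20, 0x0, []⟩]

theorem t9_693_15 : jobs 8 S9 b8_693 j9_693_15 = true := by decide +kernel

noncomputable def j9_693_16 : List Job := [
  ⟨47, 0x4c464341bcc066351b484462513c8044241344c29120ac442d100bc1e0d058240e0501, 0, 18, 0x0, []⟩]

theorem t9_693_16 : jobs 8 S9 b8_693 j9_693_16 = true := by decide +kernel

noncomputable def j9_693_17 : List Job := [
  ⟨46, 0x5008242219108a4623920924a259309a4e27cc464341bcc066351b484462513c8044241344c29120ac442d100bc1e0d058240e0501, 0, 24, 0x0, []⟩]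

theorem t9_693_17 : jobs 8 S9 b8_693 j9_693_17 = true := by decide +kernel

noncomputable def j9_693_18 : List Job := [
  ⟨45, 0x601028241a110a8643a21128a45a311a8e47d008242219108a4623920924a259309a4e27cc464341bcc066351b484462513c8044241344c29120ac442d100bc1e0d058240e0501, 0, 22, 0x2601, []⟩]

theorem t9_693_18 : jobs 8 S9 b8_693 j9_693_18 = true := by decide +kernel

noncomputable def j9_693_19 : List Job := [
  ⟨44, 0x4c466351bcc064341b484462513c8044241344c2b120a4442f100b41e0d058240e0501, 0, 18, 0x0, []⟩]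

theorem t9_693_19 : jobs 8 S9 b8_693 j9_693_19 = true := by decide +kernel

noncomputable def j9_693_20 : List Job := [
  ⟨43, 0x5008242219108a4623920924a259309a4e27cc466351bcc064341b484462513c8044241344c2b120a4442f100b41e0d058240e0501, 0, 24, 0x0, []⟩]

theorem t9_693_20 : jobs 8 S9 b8_693 j9_693_20 = true := by decide +kernel

noncomputable def j9_693_21 : List Job := [
  ⟨42, 0x601028241a110a8643a21128a45a311a8e47d008242219108a4623920924a259309a4e27cc466351bcc064341b484462513c8044241344c2b120a4442f100b41e0d058240e0501, 0, 42, 0x0, []⟩]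

theorem t9_693_21 : jobs 8 S9 b8_693 j9_693_21 = true := by decide +kernel

noncomputable def j9_693_22 : List Job := [
  ⟨41, 0x4582e1e0fc4022180cc381f09844180f01, 0, 128, 0x0, []⟩]

theorem t9_693_22 : jobs 8 S9 b8_693 j9_693_22 = true := by decide +kernel

noncomputable def j9_693_23 : List Job := [
  ⟨40, 0x601028241a110a8643a21128a45a311a8e47c582e1e0fc4022180cc381f09844180f01, 0, 128, 0x0, []⟩]

theorem t9_693_23 : jobs 8 S9 b8_693 j9_693_23 = true := by decide +kernel

noncomputable def j9_693_24 : List Job := [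
  ⟨39, 0x4582e1e0fc4431100cc381f09844180f01, 0, 80, 0x0, []⟩]

theorem t9_693_24 : jobs 8 S9 b8_693 j9_693_24 = true := by decide +kernel

noncomputable def j9_693_25 : List Job := [
  ⟨38, 0x601028241a110a8643a21128a45a311a8e47c582e1e0fc4431100cc381f09844180f01, 0, 80, 0x0, []⟩]

theorem t9_693_25 : jobs 8 S9 b8_693 j9_693_25 = true := by decide +kernel

noncomputable def j9_693_26 : List Job := [
  ⟨37, 0x4582e1e0fc4433100c4381f09844180f01, 0, 80, 0x0, []⟩]

theorem t9_693_26 : jobs 8 S9 b8_693 j9_693_26 = true := by decide +kernel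

noncomputable def j9_693_27 : List Job := [
  ⟨36, 0x601028241a110a8643a21128a45a311a8e47c582e1e0fc4433100c4381f09844180f01, 0, 80, 0x0, []⟩]

theorem t9_693_27 : jobs 8 S9 b8_693 j9_693_27 = true := by decide +kernel

noncomputable def j9_693_28 : List Job := [
  ⟨35, 0x4502a1c0ec4022180cc361909844160901, 0, 32, 0x0, []⟩]

theorem t9_693_28 : jobs 8 S9 b8_693 j9_693_28 = true := by decide +kernel

noncomputable def j9_693_29 : List Job := [
  ⟨34, 0x601028241a110a8643a21128a45a311a8e47c502a1c0ec4022180cc361909844160901, 0, 32, 0x0, []⟩]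

theorem t9_693_29 : jobs 8 S9 b8_693 j9_693_29 = true := by decide +kernel

noncomputable def j9_693_30 : List Job := [
  ⟨33, 0x4502a1c0ec4022180cc361909844160901, 0, 32, 0x0, []⟩]

theorem t9_693_30 : jobs 8 S9 b8_693 j9_693_30 = true := by decide +kernel

noncomputable def j9_693_31 : List Job := [
  ⟨32, 0x601028241a110a8643a21128a45a311a8e47c502a1c0ec4022180cc361909844160901, 0, 32, 0x0, []⟩]

theorem t9_693_31 : jobs 8 S9 b8_693 j9_693_31 = true := by decide +kernel

noncomputable def j9_693_32 : List Job := [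
  ⟨31, 0x4502a1c0ec4022180cc361909844160901, 0, 20, 0x0, []⟩]

theorem t9_693_32 : jobs 8 S9 b8_693 j9_693_32 = true := by decide +kernel

noncomputable def j9_693_33 : List Job := [
  ⟨30, 0x601028241a110a8643a21128a45a311a8e47c502a1c0ec4022180cc361909844160901, 0, 20, 0x0, []⟩]

theorem t9_693_33 : jobs 8 S9 b8_693 j9_693_33 = true := by decide +kernel

noncomputable def j9_693_34 : List Job := [
  ⟨29, 0x4502a1c0ec4022180cc361909844160901, 0, 20, 0x0, []⟩]

theorem t9_693_34 : jobs 8 S9 b8_693 j9_693_34 = true := by decide +kernel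

noncomputable def j9_693_35 : List Job := [
  ⟨28, 0x601028241a110a8643a21128a45a311a8e47c502a1c0ec4022180cc361909844160901, 0, 20, 0x0, []⟩]

theorem t9_693_35 : jobs 8 S9 b8_693 j9_693_35 = true := by decide +kernel

noncomputable def j9_693_36 : List Job := [
  ⟨27, 0x4502a1c0ec4022180cc361909844160901, 0, 20, 0x0, []⟩]

theorem t9_693_36 : jobs 8 S9 b8_693 j9_693_36 = true := by decide +kernel

noncomputable def j9_693_37 : List Job := [
  ⟨26, 0x601028241a110a8643a21128a45a311a8e47c502a1c0ec4022180cc361909844160901, 0, 20, 0x0, []⟩]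

theorem t9_693_37 : jobs 8 S9 b8_693 j9_693_37 = true := by decide +kernel

noncomputable def j9_693_38 : List Job := [
  ⟨25, 0x4502a1c0ec4022180cc361909844160901, 0, 20, 0x0, []⟩]

theorem t9_693_38 : jobs 8 S9 b8_693 j9_693_38 = true := by decide +kernel

noncomputable def j9_693_39 : List Job := [
  ⟨24, 0x601028241a110a8643a21128a45a311a8e47c502a1c0ec4022180cc361909844160901, 0, 20, 0x0, []⟩]

theorem t9_693_39 : jobs 8 S9 b8_693 j9_693_39 = true := by decide +kernel

noncomputable def j9_693_40 : List Job := [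
  ⟨23, 0x4502a1c0ec4022180cc361909844160901, 0, 32, 0x0, []⟩]

theorem t9_693_40 : jobs 8 S9 b8_693 j9_693_40 = true := by decide +kernel

noncomputable def j9_693_41 : List Job := [
  ⟨22, 0x601028241a110a8643a21128a45a311a8e47c502a1c0ec4022180cc361909844160901, 0, 32, 0x0, []⟩]

theorem t9_693_41 : jobs 8 S9 b8_693 j9_693_41 = true := by decide +kernel

noncomputable def j9_693_42 : List Job := [
  ⟨21, 0x4502a1c0ec4022180cc361909844160901, 0, 32, 0x0, []⟩]

theorem t9_693_42 : jobs 8 S9 b8_693 j9_693_42 = true := by decide +kernel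

noncomputable def j9_693_43 : List Job := [
  ⟨20, 0x601028241a110a8643a21128a45a311a8e47c502a1c0ec4022180cc361909844160901, 0, 32, 0x0, []⟩]

theorem t9_693_43 : jobs 8 S9 b8_693 j9_693_43 = true := by decide +kernel

noncomputable def j9_693_44 : List Job := [
  ⟨19, 0x45439140ec4431100cc361909844160901, 0, 20, 0x0, []⟩]

theorem t9_693_44 : jobs 8 S9 b8_693 j9_693_44 = true := by decide +kernel

noncomputable def j9_693_45 : List Job := [
  ⟨18, 0x601028241a110a8643a21128a45a311a8e47c5439140ec4431100cc361909844160901, 0, 20, 0x0, []⟩]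

theorem t9_693_45 : jobs 8 S9 b8_693 j9_693_45 = true := by decide +kernel

noncomputable def j9_693_46 : List Job := [
  ⟨17, 0x4543b140e44433100c4361909844160901, 0, 20, 0x0, []⟩]

theorem t9_693_46 : jobs 8 S9 b8_693 j9_693_46 = true := by decide +kernel

noncomputable def j9_693_47 : List Job := [
  ⟨16, 0x601028241a110a8643a21128a45a311a8e47c543b140e44433100c4361909844160901, 0, 20, 0x0, []⟩]

theorem t9_693_47 : jobs 8 S9 b8_693 j9_693_47 = true := by decide +kernel

noncomputable def j9_693_48 : List Job := [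
  ⟨15, 0x45439140ec4431100cc361909844160901, 0, 20, 0x0, []⟩]

theorem t9_693_48 : jobs 8 S9 b8_693 j9_693_48 = true := by decide +kernel

noncomputable def j9_693_49 : List Job := [
  ⟨14, 0x601028241a110a8643a21128a45a311a8e47c5439140ec4431100cc361909844160901, 0, 20, 0x0, []⟩]

theorem t9_693_49 : jobs 8 S9 b8_693 j9_693_49 = true := by decide +kernel

noncomputable def j9_693_50 : List Job := [
  ⟨13, 0x4543b140e44433100c4361909844160901, 0, 20, 0x0, []⟩]

theorem t9_693_50 : jobs 8 S9 b8_693 j9_693_50 = true := by decide +kernel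

noncomputable def j9_693_51 : List Job := [
  ⟨12, 0x601028241a110a8643a21128a45a311a8e47c543b140e44433100c4361909844160901, 0, 50, 0x0, []⟩]

theorem t9_693_51 : jobs 8 S9 b8_693 j9_693_51 = true := by decide +kernel

noncomputable def j9_693_52 : List Job := [
  ⟨11, 0x448261a0dc4022180cc2e15098440e0501, 0, 32, 0x0, []⟩]

theorem t9_693_52 : jobs 8 S9 b8_693 j9_693_52 = true := by decide +kernel

noncomputable def j9_693_53 : List Job := [
  ⟨10, 0x601028241a110a8643a21128a45a311a8e47c48261a0dc4022180cc2e15098440e0501, 0, 32, 0x0, []⟩]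

theorem t9_693_53 : jobs 8 S9 b8_693 j9_693_53 = true := by decide +kernel

noncomputable def j9_693_54 : List Job := [
  ⟨9, 0x448261a0dc4022180cc2e15098440e0501, 0, 32, 0x0, []⟩]

theorem t9_693_54 : jobs 8 S9 b8_693 j9_693_54 = true := by decide +kernel

noncomputable def j9_693_55 : List Job := [
  ⟨8, 0x601028241a110a8643a21128a45a311a8e47c48261a0dc4022180cc2e15098440e0501, 0, 32, 0x0, []⟩]

theorem t9_693_55 : jobs 8 S9 b8_693 j9_693_55 = true := by decide +kernel

noncomputable def j9_693_56 : List Job := [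
  ⟨7, 0x448261a0dc4022180cc2e15098440e0501, 0, 32, 0x0, []⟩]

theorem t9_693_56 : jobs 8 S9 b8_693 j9_693_56 = true := by decide +kernel

noncomputable def j9_693_57 : List Job := [
  ⟨6, 0x601028241a110a8643a21128a45a311a8e47c48261a0dc4022180cc2e15098440e0501, 0, 32, 0x0, []⟩]

theorem t9_693_57 : jobs 8 S9 b8_693 j9_693_57 = true := by decide +kernel

noncomputable def j9_693_58 : List Job := [
  ⟨5, 0x448261a0dc4022180cc2e15098440e0501, 0, 32, 0x0, []⟩]

theorem t9_693_58 : jobs 8 S9 b8_693 j9_693_58 = true := by decide +kernel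

noncomputable def j9_693_59 : List Job := [
  ⟨4, 0x601028241a110a8643a21128a45a311a8e47c48261a0dc4022180cc2e15098440e0501, 0, 32, 0x0, []⟩]

theorem t9_693_59 : jobs 8 S9 b8_693 j9_693_59 = true := by decide +kernel

noncomputable def j9_693_60 : List Job := [
  ⟨3, 0x448261a0dc4022180cc2e15098440e0501, 0, 32, 0x0, []⟩]

theorem t9_693_60 : jobs 8 S9 b8_693 j9_693_60 = true := by decide +kernel

noncomputable def j9_693_61 : List Job := [
  ⟨2, 0x601028241a110a8643a21128a45a311a8e47c48261a0dc4022180cc2e15098440e0501, 0, 32, 0x0, []⟩]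

theorem t9_693_61 : jobs 8 S9 b8_693 j9_693_61 = true := by decide +kernel

noncomputable def j9_693_62 : List Job := [
  ⟨1, 0x448261a0dc4022180cc2e15098440e0501, 0, 32, 0x0, []⟩]

theorem t9_693_62 : jobs 8 S9 b8_693 j9_693_62 = true := by decide +kernel

noncomputable def j9_693_63 : List Job := [
  ⟨0, 0x601028241a110a8643a21128a45a311a8e47c48261a0dc4022180cc2e15098440e0501, 0, 32, 0x0, []⟩]

theorem t9_693_63 : jobs 8 S9 b8_693 j9_693_63 = true := by decide +kernel

theorem d9_693 : Dn 8 S9 b8_693 := dn_of (Js := j9_693_0 ++ (j9_693_1 ++ (j9_693_2 ++ (j9_693_3 ++ (j9_693_4 ++ (j9_693_5 ++ (j9_693_6 ++ (j9_693_7 ++ (j9_693_8 ++ (j9_693_9 ++ (j9_693_10 ++ (j9_693_11 ++ (j9_693_12 ++ (j9_693_13 ++ (j9_693_14 ++ (j9_693_15 ++ (j9_693_16 ++ (j9_693_17 ++ (j9_693_18 ++ (j9_693_19 ++ (j9_693_20 ++ (j9_693_21 ++ (j9_693_22 ++ (j9_693_23 ++ (j9_693_24 ++ (j9_693_25 ++ (j9_693_26 ++ (j9_693_27 ++ (j9_693_28 ++ (j9_693_29 ++ (j9_693_30 ++ (j9_693_31 ++ (j9_693_32 ++ (j9_693_33 ++ (j9_693_34 ++ (j9_693_35 ++ (j9_693_36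 ++ (j9_693_37 ++ (j9_693_38 ++ (j9_693_39 ++ (j9_693_40 ++ (j9_693_41 ++ (j9_693_42 ++ (j9_693_43 ++ (j9_693_44 ++ (j9_693_45 ++ (j9_693_46 ++ (j9_693_47 ++ (j9_693_48 ++ (j9_693_49 ++ (j9_693_50 ++ (j9_693_51 ++ (j9_693_52 ++ (j9_693_53 ++ (j9_693_54 ++ (j9_693_55 ++ (j9_693_56 ++ (j9_693_57 ++ (j9_693_58 ++ (j9_693_59 ++ (j9_693_60 ++ (j9_693_61 ++ (j9_693_62 ++ (j9_693_63 ++ []))))))))))))))))))))))))))))))))))))))))))))))))))))))))))))))))
  (jobs_append t9_693_0 <| jobs_append t9_693_1 <| jobs_append t9_693_2 <| jobs_append t9_693_3 <| jobs_append t9_693_4 <| jobs_append t9_693_5 <| jobs_append t9_693_6 <| jobs_append t9_693_7 <| jobs_append t9_693_8 <| jobs_append t9_693_9 <| jobs_append t9_693_10 <| jobs_append t9_693_11 <| jobs_append t9_693_12 <| jobs_append t9_693_13 <| jobs_append t9_693_14 <| jobs_append t9_693_15 <| jobs_append t9_693_16 <| jobs_append t9_693_17 <| jobs_append t9_693_18 <| jobs_append t9_693_19 <| jobs_append t9_693_20 <| jobs_append t9_693_21 <| jobs_append t9_693_22 <| jobs_append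 t9_693_23 <| jobs_append t9_693_24 <| jobs_append t9_693_25 <| jobs_append t9_693_26 <| jobs_append t9_693_27 <| jobs_append t9_693_28 <| jobs_append t9_693_29 <| jobs_append t9_693_30 <| jobs_append t9_693_31 <| jobs_append t9_693_32 <| jobs_append t9_693_33 <| jobs_append t9_693_34 <| jobs_append t9_693_35 <| jobs_append t9_693_36 <| jobs_append t9_693_37 <| jobs_append t9_693_38 <| jobs_append t9_693_39 <| jobs_append t9_693_40 <| jobs_append t9_693_41 <| jobs_append t9_693_42 <| jobs_append t9_693_43 <| jobs_append t9_693_44 <| jobs_append t9_693_45 <| jobs_append t9_693_46 <| jobs_append t9_693_47 <| jobs_append t9_693_48 <| jobs_append t9_693_49 <| jobs_append t9_693_50 <| jobs_append t9_693_51 <| jobs_append t9_693_52 <| jobs_append t9_693_53 <| jobs_append t9_693_54 <| jobs_append t9_693_55 <| jobs_append t9_693_56 <| jobs_append t9_693_57 <| jobs_append t9_693_58 <| jobs_append t9_693_59 <| jobs_append t9_693_60 <| jobs_append t9_693_61 <| jobs_append t9_693_62 <| jobs_append t9_693_63 <| List.forall_mem_nil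 _) (by decide +kernel)

end Cfsg.Agent.FS.N.Sw
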