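import Cfsg.Agent.FS.N.Sw.Seg
import Cfsg.Agent.FS.N.G.S9
import Cfsg.Agent.FS.N.G.L.L28

/-! The filter on the pairs for the order 512, part 71 (generated; helper52, project FS) -/

set_option autoImplicit false
set_option maxRecDepth 100000
set_option Elab.async false

namespace Cfsg.Agent.FS.N.Sw

open G

noncomputable def j9_694_0 : List Job := [
  ⟨63, 0x484462815480442915c4c35120dc4431100cc2e15098440e0501, 0, 20, 0x0, []⟩]

theorem t9_694_0 : jobs 8 S9 b8_694 j9_694_0 = true := by decide +kernel

noncomputable def j9_694_1 : List Job := [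
  ⟨62, 0x484462915c8044281544c37120d44433100c42e15098440e0501, 0, 20, 0x0, []⟩]

theorem t9_694_1 : jobs 8 S9 b8_694 j9_694_1 = true := by decide +kernel

noncomputable def j9_694_2 : List Job := [
  ⟨61, 0x548a6562b960b25c2ed40a2542a968b65e2fd20924a259309a4e27d008242219108a4623c84462815480442915c4c35120dc4431100cc2e15098440e0501, 0, 24, 0x0, []⟩]

theorem t9_694_2 : jobs 8 S9 b8_694 j9_694_2 = true := by decide +kernel

noncomputable def j9_694_3 : List Job := [
  ⟨60, 0x548a6562b960b25c2ed40a2542a968b65e2fd20924a259309a4e27d008242219108a4623c84462915c8044281544c37120d44433100c42e15098440e0501, 0, 46, 0x0, []⟩]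

theorem t9_694_3 : jobs 8 S9 b8_694 j9_694_3 = true := by decide +kernel

noncomputable def j9_694_4 : List Job := [
  ⟨59, 0x4582e1e0fc4022180cc381f09844180f01, 0, 48, 0x0, []⟩]

theorem t9_694_4 : jobs 8 S9 b8_694 j9_694_4 = true := by decide +kernel

noncomputable def j9_694_5 : List Job := [
  ⟨58, 0x5008242219108a4623920924a259309a4e27c582e1e0fc4022180cc381f09844180f01, 0, 80, 0x0, []⟩]

theorem t9_694_5 : jobs 8 S9 b8_694 j9_694_5 = true := by decide +kernel

noncomputable def j9_694_6 : List Job := [
  ⟨57, 0x601028241a110a8643a21128a45a311a8e47d008242219108a4623920924a259309a4e27c582e1e0fc4022180cc381f09844180f01, 0, 48, 0x0, []⟩]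

theorem t9_694_6 : jobs 8 S9 b8_694 j9_694_6 = true := by decide +kernel

noncomputable def j9_694_7 : List Job := [
  ⟨56, 0x4582e1e0fc4433100c4381f09844180f01, 0, 56, 0x0, []⟩]

theorem t9_694_7 : jobs 8 S9 b8_694 j9_694_7 = true := by decide +kernel

noncomputable def j9_694_8 : List Job := [
  ⟨55, 0x5008242219108a4623920924a259309a4e27c582e1e0fc4433100c4381f09844180f01, 0, 80, 0x0, []⟩]

theorem t9_694_8 : jobs 8 S9 b8_694 j9_694_8 = true := by decide +kernel

noncomputable def j9_694_9 : List Job := [
  ⟨54, 0x601028241a110a8643a21128a45a311a8e47d008242219108a4623920924a259309a4e27c582e1e0fc4433100c4381f09844180f01, 0, 56, 0x0, []⟩]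

theorem t9_694_9 : jobs 8 S9 b8_694 j9_694_9 = true := by decide +kernel

noncomputable def j9_694_10 : List Job := [
  ⟨53, 0x4502a1c0ec4022180cc361909844160901, 0, 24, 0x0, []⟩]

theorem t9_694_10 : jobs 8 S9 b8_694 j9_694_10 = true := by decide +kernel

noncomputable def j9_694_11 : List Job := [
  ⟨52, 0x5008242219108a4623920924a259309a4e27c502a1c0ec4022180cc361909844160901, 0, 32, 0x0, []⟩]

theorem t9_694_11 : jobs 8 S9 b8_694 j9_694_11 = true := by decide +kernel

noncomputable def j9_694_12 : List Job := [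
  ⟨51, 0x601028241a110a8643a21128a45a311a8e47d008242219108a4623920924a259309a4e27c502a1c0ec4022180cc361909844160901, 0, 24, 0x0, []⟩]

theorem t9_694_12 : jobs 8 S9 b8_694 j9_694_12 = true := by decide +kernel

noncomputable def j9_694_13 : List Job := [
  ⟨50, 0x4502a1c0ec4022180cc361909844160901, 0, 20, 0x0, []⟩]

theorem t9_694_13 : jobs 8 S9 b8_694 j9_694_13 = true := by decide +kernel

noncomputable def j9_694_14 : List Job := [
  ⟨49, 0x5008242219108a4623920924a259309a4e27c502a1c0ec4022180cc361909844160901, 0, 32, 0x0, []⟩]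

theorem t9_694_14 : jobs 8 S9 b8_694 j9_694_14 = true := by decide +kernel

noncomputable def j9_694_15 : List Job := [
  ⟨48, 0x601028241a110a8643a21128a45a311a8e47d008242219108a4623920924a259309a4e27c502a1c0ec4022180cc361909844160901, 0, 20, 0x0, []⟩]

theorem t9_694_15 : jobs 8 S9 b8_694 j9_694_15 = true := by decide +kernel

noncomputable def j9_694_16 : List Job := [
  ⟨47, 0x4502a1c0ec4022180cc361909844160901, 0, 24, 0x0, []⟩]

theorem t9_694_16 : jobs 8 S9 b8_694 j9_694_16 = true := by decide +kernel

noncomputable def j9_694_17 : List Job := [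
  ⟨46, 0x601028241a110a8643a21128a45a311a8e47c502a1c0ec4022180cc361909844160901, 0, 24, 0x0, []⟩]

theorem t9_694_17 : jobs 8 S9 b8_694 j9_694_17 = true := by decide +kernel

noncomputable def j9_694_18 : List Job := [
  ⟨45, 0x5008242219108a4623920924a259309a4e27c502a1c0ec4022180cc361909844160901, 0, 24, 0x0, []⟩]

theorem t9_694_18 : jobs 8 S9 b8_694 j9_694_18 = true := by decide +kernel

noncomputable def j9_694_19 : List Job := [
  ⟨44, 0x601028241a110a8643a21128a45a311a8e47d008242219108a4623920924a259309a4e27c502a1c0ec4022180cc361909844160901, 0, 24, 0x0, []⟩]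

theorem t9_694_19 : jobs 8 S9 b8_694 j9_694_19 = true := by decide +kernel

noncomputable def j9_694_20 : List Job := [
  ⟨43, 0x45439140ec4431100cc361909844160901, 0, 18, 0x0, []⟩]

theorem t9_694_20 : jobs 8 S9 b8_694 j9_694_20 = true := by decide +kernel

noncomputable def j9_694_21 : List Job := [
  ⟨42, 0x5008242219108a4623920924a259309a4e27c5439140ec4431100cc361909844160901, 0, 24, 0x0, []⟩]

theorem t9_694_21 : jobs 8 S9 b8_694 j9_694_21 = true := by decide +kernel

noncomputable def j9_694_22 : List Job := [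
  ⟨41, 0x601028241a110a8643a21128a45a311a8e47d008242219108a4623920924a259309a4e27c5439140ec4431100cc361909844160901, 0, 18, 0x0, []⟩]

theorem t9_694_22 : jobs 8 S9 b8_694 j9_694_22 = true := by decide +kernel

noncomputable def j9_694_23 : List Job := [
  ⟨40, 0x4543b140e44433100c4361909844160901, 0, 18, 0x0, []⟩]

theorem t9_694_23 : jobs 8 S9 b8_694 j9_694_23 = true := by decide +kernel

noncomputable def j9_694_24 : List Job := [
  ⟨39, 0x5008242219108a4623920924a259309a4e27c543b140e44433100c4361909844160901, 0, 24, 0x0, []⟩]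

theorem t9_694_24 : jobs 8 S9 b8_694 j9_694_24 = true := by decide +kernel

noncomputable def j9_694_25 : List Job := [
  ⟨38, 0x601028241a110a8643a21128a45a311a8e47d008242219108a4623920924a259309a4e27c543b140e44433100c4361909844160901, 0, 40, 0x4601004801, []⟩]

theorem t9_694_25 : jobs 8 S9 b8_694 j9_694_25 = true := by decide +kernel

noncomputable def j9_694_26 : List Job := [
  ⟨37, 0x448261a0dc4022180cc2e15098440e0501, 0, 20, 0x0, []⟩]

theorem t9_694_26 : jobs 8 S9 b8_694 j9_694_26 = true := by decide +kernel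

noncomputable def j9_694_27 : List Job := [
  ⟨36, 0x5008242219108a4623920924a259309a4e27c48261a0dc4022180cc2e15098440e0501, 0, 32, 0x0, []⟩]

theorem t9_694_27 : jobs 8 S9 b8_694 j9_694_27 = true := by decide +kernel

noncomputable def j9_694_28 : List Job := [
  ⟨35, 0x601028241a110a8643a21128a45a311a8e47d008242219108a4623920924a259309a4e27c48261a0dc4022180cc2e15098440e0501, 0, 20, 0x0, []⟩]

theorem t9_694_28 : jobs 8 S9 b8_694 j9_694_28 = true := by decide +kernel

noncomputable def j9_694_29 : List Job := [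
  ⟨34, 0x448261a0dc4022180cc2e15098440e0501, 0, 16, 0x0, []⟩]

theorem t9_694_29 : jobs 8 S9 b8_694 j9_694_29 = true := by decide +kernel

noncomputable def j9_694_30 : List Job := [
  ⟨33, 0x5008242219108a4623920924a259309a4e27c48261a0dc4022180cc2e15098440e0501, 0, 24, 0x0, []⟩]

theorem t9_694_30 : jobs 8 S9 b8_694 j9_694_30 = true := by decide +kernel

noncomputable def j9_694_31 : List Job := [
  ⟨32, 0x601028241a110a8643a21128a45a311a8e47d008242219108a4623920924a259309a4e27c48261a0dc4022180cc2e15098440e0501, 0, 16, 0x0, []⟩]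

theorem t9_694_31 : jobs 8 S9 b8_694 j9_694_31 = true := by decide +kernel

noncomputable def j9_694_32 : List Job := [
  ⟨31, 0x448261a0dc4022180cc2e15098440e0501, 0, 16, 0x0, []⟩]

theorem t9_694_32 : jobs 8 S9 b8_694 j9_694_32 = true := by decide +kernel

noncomputable def j9_694_33 : List Job := [
  ⟨30, 0x5008242219108a4623920924a259309a4e27c48261a0dc4022180cc2e15098440e0501, 0, 24, 0x0, []⟩]

theorem t9_694_33 : jobs 8 S9 b8_694 j9_694_33 = true := by decide +kernel

noncomputable def j9_694_34 : List Job := [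
  ⟨29, 0x601028241a110a8643a21128a45a311a8e47d008242219108a4623920924a259309a4e27c48261a0dc4022180cc2e15098440e0501, 0, 16, 0x0, []⟩]

theorem t9_694_34 : jobs 8 S9 b8_694 j9_694_34 = true := by decide +kernel

noncomputable def j9_694_35 : List Job := [
  ⟨28, 0x448261a0dc4022180cc2e15098440e0501, 0, 20, 0x0, []⟩]

theorem t9_694_35 : jobs 8 S9 b8_694 j9_694_35 = true := by decide +kernel

noncomputable def j9_694_36 : List Job := [
  ⟨27, 0x5008242219108a4623920924a259309a4e27c48261a0dc4022180cc2e15098440e0501, 0, 32, 0x0, []⟩]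

theorem t9_694_36 : jobs 8 S9 b8_694 j9_694_36 = true := by decide +kernel

noncomputable def j9_694_37 : List Job := [
  ⟨26, 0x601028241a110a8643a21128a45a311a8e47d008242219108a4623920924a259309a4e27c48261a0dc4022180cc2e15098440e0501, 0, 20, 0x0, []⟩]

theorem t9_694_37 : jobs 8 S9 b8_694 j9_694_37 = true := by decide +kernel

noncomputable def j9_694_38 : List Job := [
  ⟨25, 0x44c37120d44433100c42e15098440e0501, 0, 16, 0x0, []⟩]

theorem t9_694_38 : jobs 8 S9 b8_694 j9_694_38 = true := by decide +kernel

noncomputable def j9_694_39 : List Job := [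
  ⟨24, 0x5008242219108a4623920924a259309a4e27c4c37120d44433100c42e15098440e0501, 0, 24, 0x0, []⟩]

theorem t9_694_39 : jobs 8 S9 b8_694 j9_694_39 = true := by decide +kernel

noncomputable def j9_694_40 : List Job := [
  ⟨23, 0x601028241a110a8643a21128a45a311a8e47d008242219108a4623920924a259309a4e27c4c37120d44433100c42e15098440e0501, 0, 16, 0x0, []⟩]

theorem t9_694_40 : jobs 8 S9 b8_694 j9_694_40 = true := by decide +kernel

noncomputable def j9_694_41 : List Job := [
  ⟨22, 0x44c37120d44433100c42e15098440e0501, 0, 16, 0x0, []⟩]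

theorem t9_694_41 : jobs 8 S9 b8_694 j9_694_41 = true := by decide +kernel

noncomputable def j9_694_42 : List Job := [
  ⟨21, 0x5008242219108a4623920924a259309a4e27c4c37120d44433100c42e15098440e0501, 0, 24, 0x0, []⟩]

theorem t9_694_42 : jobs 8 S9 b8_694 j9_694_42 = true := by decide +kernel

noncomputable def j9_694_43 : List Job := [
  ⟨20, 0x601028241a110a8643a21128a45a311a8e47d008242219108a4623920924a259309a4e27c4c37120d44433100c42e15098440e0501, 0, 40, 0x0, []⟩]

theorem t9_694_43 : jobs 8 S9 b8_694 j9_694_43 = true := by decide +kernel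

noncomputable def j9_694_44 : List Job := [
  ⟨19, 0x4c06232198d06a361bc804222118904a2613c68361c0ec4022160bc301b0a05c1e0d01, 0, 56, 0x0, []⟩]

theorem t9_694_44 : jobs 8 S9 b8_694 j9_694_44 = true := by decide +kernel

noncomputable def j9_694_45 : List Job := [
  ⟨18, 0x5008242219108a4623920924a259309a4e27cc06232198d06a361bc804222118904a2613c68361c0ec4022160bc301b0a05c1e0d01, 0, 80, 0x0, []⟩]

theorem t9_694_45 : jobs 8 S9 b8_694 j9_694_45 = true := by decide +kernel

noncomputable def j9_694_46 : List Job := [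
  ⟨17, 0x601028241a110a8643a21128a45a311a8e47d008242219108a4623920924a259309a4e27cc06232198d06a361bc804222118904a2613c68361c0ec4022160bc301b0a05c1e0d01, 0, 56, 0x0, []⟩]

theorem t9_694_46 : jobs 8 S9 b8_694 j9_694_46 = true := by decide +kernel

noncomputable def j9_694_47 : List Job := [
  ⟨16, 0x4c06232198d06a361bc804222118904a2613c68361c0ec442d100bc301b0a05c1e0d01, 0, 56, 0x0, []⟩]

theorem t9_694_47 : jobs 8 S9 b8_694 j9_694_47 = true := by decide +kernel

noncomputable def j9_694_48 : List Job := [
  ⟨15, 0x5008242219108a4623920924a259309a4e27cc06232198d06a361bc804222118904a2613c68361c0ec442d100bc301b0a05c1e0d01, 0, 80, 0x0, []⟩]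

theorem t9_694_48 : jobs 8 S9 b8_694 j9_694_48 = true := by decide +kernel

noncomputable def j9_694_49 : List Job := [
  ⟨14, 0x601028241a110a8643a21128a45a311a8e47d008242219108a4623920924a259309a4e27cc06232198d06a361bc804222118904a2613c68361c0ec442d100bc301b0a05c1e0d01, 0, 56, 0x0, []⟩]

theorem t9_694_49 : jobs 8 S9 b8_694 j9_694_49 = true := by decide +kernel

noncomputable def j9_694_50 : List Job := [
  ⟨13, 0x4a0522a158b05a2e17c804222118904a2613c60321e0fc4022160bc3e1d098441e0d01, 0, 20, 0x0, []⟩]

theorem t9_694_50 : jobs 8 S9 b8_694 j9_694_50 = true := by decide +kernel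

noncomputable def j9_694_51 : List Job := [
  ⟨12, 0x5008242219108a4623920924a259309a4e27ca0522a158b05a2e17c804222118904a2613c60321e0fc4022160bc3e1d098441e0d01, 0, 32, 0x0, []⟩]

theorem t9_694_51 : jobs 8 S9 b8_694 j9_694_51 = true := by decide +kernel

noncomputable def j9_694_52 : List Job := [
  ⟨11, 0x601028241a110a8643a21128a45a311a8e47d008242219108a4623920924a259309a4e27ca0522a158b05a2e17c804222118904a2613c60321e0fc4022160bc3e1d098441e0d01, 0, 20, 0x0, []⟩]

theorem t9_694_52 : jobs 8 S9 b8_694 j9_694_52 = true := by decide +kernel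

noncomputable def j9_694_53 : List Job := [
  ⟨10, 0x4a0522a158b05a2e17c804222118904a2613c60321e0fc4022160bc3e1d098441e0d01, 0, 20, 0x0, []⟩]

theorem t9_694_53 : jobs 8 S9 b8_694 j9_694_53 = true := by decide +kernel

noncomputable def j9_694_54 : List Job := [
  ⟨9, 0x5008242219108a4623920924a259309a4e27ca0522a158b05a2e17c804222118904a2613c60321e0fc4022160bc3e1d098441e0d01, 0, 32, 0x0, []⟩]

theorem t9_694_54 : jobs 8 S9 b8_694 j9_694_54 = true := by decide +kernel

noncomputable def j9_694_55 : List Job := [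
  ⟨8, 0x601028241a110a8643a21128a45a311a8e47d008242219108a4623920924a259309a4e27ca0522a158b05a2e17c804222118904a2613c60321e0fc4022160bc3e1d098441e0d01, 0, 20, 0x0, []⟩]

theorem t9_694_55 : jobs 8 S9 b8_694 j9_694_55 = true := by decide +kernel

noncomputable def j9_694_56 : List Job := [
  ⟨7, 0x460321e0fc4022160bc3e1d098441e0d01, 0, 18, 0x0, []⟩]

theorem t9_694_56 : jobs 8 S9 b8_694 j9_694_56 = true := by decide +kernel

noncomputable def j9_694_57 : List Job := [
  ⟨6, 0x5008242219108a4623920924a259309a4e27c60321e0fc4022160bc3e1d098441e0d01, 0, 24, 0x0, []⟩]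

theorem t9_694_57 : jobs 8 S9 b8_694 j9_694_57 = true := by decide +kernel

noncomputable def j9_694_58 : List Job := [
  ⟨5, 0x601028241a110a8643a21128a45a311a8e47d008242219108a4623920924a259309a4e27c60321e0fc4022160bc3e1d098441e0d01, 0, 18, 0x0, []⟩]

theorem t9_694_58 : jobs 8 S9 b8_694 j9_694_58 = true := by decide +kernel

noncomputable def j9_694_59 : List Job := [
  ⟨4, 0x4e0723a1d8f07a3e1fcc06232198d06a361bca0522a158b05a2e17c804222118904a2613c60321e0fc4022160bc3e1d098441e0d01, 0, 18, 0x0, []⟩]

theorem t9_694_59 : jobs 8 S9 b8_694 j9_694_59 = true := by decide +kernel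

noncomputable def j9_694_60 : List Job := [
  ⟨3, 0x5008242219108a4623920924a259309a4e27ce0723a1d8f07a3e1fcc06232198d06a361bca0522a158b05a2e17c804222118904a2613c60321e0fc4022160bc3e1d098441e0d01, 0, 24, 0x0, []⟩]

theorem t9_694_60 : jobs 8 S9 b8_694 j9_694_60 = true := by decide +kernel

noncomputable def j9_694_61 : List Job := [
  ⟨2, 0x601028241a110a8643a21128a45a311a8e47d008242219108a4623920924a259309a4e27ce0723a1d8f07a3e1fcc06232198d06a361bca0522a158b05a2e17c804222118904a2613c60321e0fc4022160bc3e1d098441e0d01, 0, 18, 0x0, []⟩]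

theorem t9_694_61 : jobs 8 S9 b8_694 j9_694_61 = true := by decide +kernel

noncomputable def j9_694_62 : List Job := [
  ⟨1, 0x4643d180fc442d100bc3e1d098441e0d01, 0, 18, 0x0, []⟩]

theorem t9_694_62 : jobs 8 S9 b8_694 j9_694_62 = true := by decide +kernel

noncomputable def j9_694_63 : List Job := [
  ⟨0, 0x5008242219108a4623920924a259309a4e27c643d180fc442d100bc3e1d098441e0d01, 0, 24, 0x0, []⟩]

theorem t9_694_63 : jobs 8 S9 b8_694 j9_694_63 = true := by decide +kernel

theorem d9_694 : Dn 8 S9 b8_694 := dn_of (Js := j9_694_0 ++ (j9_694_1 ++ (j9_694_2 ++ (j9_694_3 ++ (j9_694_4 ++ (j9_694_5 ++ (j9_694_6 ++ (j9_694_7 ++ (j9_694_8 ++ (j9_694_9 ++ (j9_694_10 ++ (j9_694_11 ++ (j9_694_12 ++ (j9_694_13 ++ (j9_694_14 ++ (j9_694_15 ++ (j9_694_16 ++ (j9_694_17 ++ (j9_694_18 ++ (j9_694_19 ++ (j9_694_20 ++ (j9_694_21 ++ (j9_694_22 ++ (j9_694_23 ++ (j9_694_24 ++ (j9_694_25 ++ (j9_694_26 ++ (j9_694_27 ++ (j9_694_28 ++ (j9_694_29 ++ (j9_694_30 ++ (j9_694_31 ++ (j9_694_32 ++ (j9_694_33 ++ (j9_694_34 ++ (j9_694_35 ++ (j9_694_36 ++ (j9_694_37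 ++ (j9_694_38 ++ (j9_694_39 ++ (j9_694_40 ++ (j9_694_41 ++ (j9_694_42 ++ (j9_694_43 ++ (j9_694_44 ++ (j9_694_45 ++ (j9_694_46 ++ (j9_694_47 ++ (j9_694_48 ++ (j9_694_49 ++ (j9_694_50 ++ (j9_694_51 ++ (j9_694_52 ++ (j9_694_53 ++ (j9_694_54 ++ (j9_694_55 ++ (j9_694_56 ++ (j9_694_57 ++ (j9_694_58 ++ (j9_694_59 ++ (j9_694_60 ++ (j9_694_61 ++ (j9_694_62 ++ (j9_694_63 ++ []))))))))))))))))))))))))))))))))))))))))))))))))))))))))))))))))
  (jobs_append t9_694_0 <| jobs_append t9_694_1 <| jobs_append t9_694_2 <| jobs_append t9_694_3 <| jobs_append t9_694_4 <| jobs_append t9_694_5 <| jobs_append t9_694_6 <| jobs_append t9_694_7 <| jobs_append t9_694_8 <| jobs_append t9_694_9 <| jobs_append t9_694_10 <| jobs_append t9_694_11 <| jobs_append t9_694_12 <| jobs_append t9_694_13 <| jobs_append t9_694_14 <| jobs_append t9_694_15 <| jobs_append t9_694_16 <| jobs_append t9_694_17 <| jobs_append t9_694_18 <| jobs_append t9_694_19 <| jobs_append t9_694_20 <| jobs_append t9_694_21 <| jobs_append t9_694_22 <| jobs_append t9_694_23 <| jobs_append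 t9_694_24 <| jobs_append t9_694_25 <| jobs_append t9_694_26 <| jobs_append t9_694_27 <| jobs_append t9_694_28 <| jobs_append t9_694_29 <| jobs_append t9_694_30 <| jobs_append t9_694_31 <| jobs_append t9_694_32 <| jobs_append t9_694_33 <| jobs_append t9_694_34 <| jobs_append t9_694_35 <| jobs_append t9_694_36 <| jobs_append t9_694_37 <| jobs_append t9_694_38 <| jobs_append t9_694_39 <| jobs_append t9_694_40 <| jobs_append t9_694_41 <| jobs_append t9_694_42 <| jobs_append t9_694_43 <| jobs_append t9_694_44 <| jobs_append t9_694_45 <| jobs_append t9_694_46 <| jobs_append t9_694_47 <| jobs_append t9_694_48 <| jobs_append t9_694_49 <| jobs_append t9_694_50 <| jobs_append t9_694_51 <| jobs_append t9_694_52 <| jobs_append t9_694_53 <| jobs_append t9_694_54 <| jobs_append t9_694_55 <| jobs_append t9_694_56 <| jobs_append t9_694_57 <| jobs_append t9_694_58 <| jobs_append t9_694_59 <| jobs_append t9_694_60 <| jobs_append t9_694_61 <| jobs_append t9_694_62 <| jobs_append t9_694_63 <| List.forall_mem_nil _) (by decide +kernel)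

noncomputable def j9_695_0 : List Job := [
  ⟨63, 0x508864623928964e27d00824422920924c26c804222118904a2613c502a160bc40221209c1e0d058240e0501, 0, 72, 0x0, []⟩]

theorem t9_695_0 : jobs 8 S9 b8_695 j9_695_0 = true := by decide +kernel

noncomputable def j9_695_1 : List Job := [
  ⟨62, 0x601028241a110a8643a21128a45a311a8e47d08864623928964e27d00824422920924c26c804222118904a2613c502a160bc40221209c1e0d058240e0501, 0, 72, 0x0, []⟩]

theorem t9_695_1 : jobs 8 S9 b8_695 j9_695_1 = true := by decide +kernel

noncomputable def j9_695_2 : List Job := [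
  ⟨61, 0x548a6542a960b25e2fd40a2562b968b65c2ec84462513c804424134502a160bc40221209c1e0d058240e0501, 0, 72, 0x8202008402008a02008c02, []⟩]

theorem t9_695_2 : jobs 8 S9 b8_695 j9_695_2 = true := by decide +kernel

noncomputable def j9_695_3 : List Job := [
  ⟨60, 0x601028241a110a8643a21128a45a311a8e47d48a6542a960b25e2fd40a2562b968b65c2ec84462513c804424134502a160bc40221209c1e0d058240e0501, 0, 72, 0x8202008402008a02008c02, []⟩]

theorem t9_695_3 : jobs 8 S9 b8_695 j9_695_3 = true := by decide +kernel

noncomputable def j9_695_4 : List Job := [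
  ⟨59, 0x508864623928964e27d00824422920924c26c84462513c804424134502a160bc40221209c1e0d058240e0501, 0, 72, 0x8202008402008a02008c02, []⟩]

theorem t9_695_4 : jobs 8 S9 b8_695 j9_695_4 = true := by decide +kernel

noncomputable def j9_695_5 : List Job := [
  ⟨58, 0x601028241a110a8643a21128a45a311a8e47d08864623928964e27d00824422920924c26c84462513c804424134502a160bc40221209c1e0d058240e0501, 0, 72, 0x8202008402008a02008c02, []⟩]

theorem t9_695_5 : jobs 8 S9 b8_695 j9_695_5 = true := by decide +kernel

noncomputable def j9_695_6 : List Job := [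
  ⟨57, 0x4804222118904a2613c502a160bc40221209c1e0d058240e0501, 0, 72, 0x0, []⟩]

theorem t9_695_6 : jobs 8 S9 b8_695 j9_695_6 = true := by decide +kernel

noncomputable def j9_695_7 : List Job := [
  ⟨56, 0x601028241a110a8643a21128a45a311a8e47c804222118904a2613c502a160bc40221209c1e0d058240e0501, 0, 72, 0x0, []⟩]

theorem t9_695_7 : jobs 8 S9 b8_695 j9_695_7 = true := by decide +kernel

noncomputable def j9_695_8 : List Job := [
  ⟨55, 0x548a6542a960b25e2fd40a2562b968b65c2ed08864623928964e27d00824422920924c26c804222118904a2613c502a160bc40221209c1e0d058240e0501, 0, 72, 0x0, []⟩]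

theorem t9_695_8 : jobs 8 S9 b8_695 j9_695_8 = true := by decide +kernel

noncomputable def j9_695_9 : List Job := [
  ⟨54, 0x601028241a110a8643a21128a45a311a8e47d48a6542a960b25e2fd40a2562b968b65c2ed08864623928964e27d00824422920924c26c804222118904a2613c502a160bc40221209c1e0d058240e0501, 0, 72, 0x0, []⟩]

theorem t9_695_9 : jobs 8 S9 b8_695 j9_695_9 = true := by decide +kernel

noncomputable def j9_695_10 : List Job := [
  ⟨53, 0x484442513480462413c502a160bc40221209c1e0d058240e0501, 0, 72, 0x8202008402008a02008c02, []⟩]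

theorem t9_695_10 : jobs 8 S9 b8_695 j9_695_10 = true := by decide +kernel

noncomputable def j9_695_11 : List Job := [
  ⟨52, 0x601028241a110a8643a21128a45a311a8e47c84442513480462413c502a160bc40221209c1e0d058240e0501, 0, 72, 0x8202008402008a02008c02, []⟩]

theorem t9_695_11 : jobs 8 S9 b8_695 j9_695_11 = true := by decide +kernel

noncomputable def j9_695_12 : List Job := [
  ⟨51, 0x548a6542a960b25e2fd40a2562b968b65c2ed08864623928964e27d00824422920924c26c84442513480462413c502a160bc40221209c1e0d058240e0501, 0, 72, 0x8202008402008a02008c02, []⟩]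

theorem t9_695_12 : jobs 8 S9 b8_695 j9_695_12 = true := by decide +kernel

noncomputable def j9_695_13 : List Job := [
  ⟨50, 0x601028241a110a8643a21128a45a311a8e47d48a6542a960b25e2fd40a2562b968b65c2ed08864623928964e27d00824422920924c26c84442513480462413c502a160bc40221209c1e0d058240e0501, 0, 72, 0x8202008402008a02008c02, []⟩]

theorem t9_695_13 : jobs 8 S9 b8_695 j9_695_13 = true := by decide +kernel

noncomputable def j9_695_14 : List Job := [
  ⟨49, 0x4804222118904a2613c542f140b44427100941e0d058240e0501, 0, 72, 0x420a00460b004a0a004e0b00520b00560a005a0b005e0a00620b00660a006a0b006e0a00720a00760b007a02007e02, []⟩]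

theorem t9_695_14 : jobs 8 S9 b8_695 j9_695_14 = true := by decide +kernel

noncomputable def j9_695_15 : List Job := [
  ⟨48, 0x601028241a110a8643a21128a45a311a8e47c804222118904a2613c542f140b44427100941e0d058240e0501, 0, 72, 0x4208004602004a08004e03005202005602005a02005e02006202006608006a03006e08007202007602007a02007e02, []⟩]

theorem t9_695_15 : jobs 8 S9 b8_695 j9_695_15 = true := by decide +kernel

noncomputable def j9_695_16 : List Job := [
  ⟨47, 0x548a6542a960b25e2fd40a2562b968b65c2ed08864623928964e27d00824422920924c26c804222118904a2613c542f140b44427100941e0d058240e0501, 0, 72, 0x420200460200520200560200620200660a007202007602, []⟩]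

theorem t9_695_16 : jobs 8 S9 b8_695 j9_695_16 = true := by decide +kernel

noncomputable def j9_695_17 : List Job := [
  ⟨46, 0x601028241a110a8643a21128a45a311a8e47d48a6542a960b25e2fd40a2562b968b65c2ed08864623928964e27d00824422920924c26c804222118904a2613c542f140b44427100941e0d058240e0501, 0, 72, 0x4202004602005209005608006202006602007208007609, []⟩]

theorem t9_695_17 : jobs 8 S9 b8_695 j9_695_17 = true := by decide +kernel

noncomputable def j9_695_18 : List Job := [
  ⟨45, 0x484462513c804424134542f140b44427100941e0d058240e0501, 0, 72, 0x420a004602004a03004e0300520b005602005a0b005e0300620200660a006a02006e0200720200760b007a02007e02008202008402008a02008c02, []⟩]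

theorem t9_695_18 : jobs 8 S9 b8_695 j9_695_18 = true := by decide +kernel

noncomputable def j9_695_19 : List Job := [
  ⟨44, 0x601028241a110a8643a21128a45a311a8e47c84462513c804424134542f140b44427100941e0d058240e0501, 0, 72, 0x4208004609004a08004e09005209005608005a02005e02006209006608006a09006e08007208007609007a02007e02008202008402008a02008c02, []⟩]

theorem t9_695_19 : jobs 8 S9 b8_695 j9_695_19 = true := by decide +kernel

noncomputable def j9_695_20 : List Job := [
  ⟨43, 0x548a6542a960b25e2fd40a2562b968b65c2ed08864623928964e27d00824422920924c26c84462513c804424134542f140b44427100941e0d058240e0501, 0, 72, 0x420a00460b00520b00560a00620b00660a007202007602008202008402008a02008c02, []⟩]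

theorem t9_695_20 : jobs 8 S9 b8_695 j9_695_20 = true := by decide +kernel

noncomputable def j9_695_21 : List Job := [
  ⟨42, 0x601028241a110a8643a21128a45a311a8e47d48a6542a960b25e2fd40a2562b968b65c2ed08864623928964e27d00824422920924c26c84462513c804424134542f140b44427100941e0d058240e0501, 0, 124, 0x4202004602005209005602006202006602007202007609008202008402008a02008c0200e20100e60100f201, []⟩]

theorem t9_695_21 : jobs 8 S9 b8_695 j9_695_21 = true := by decide +kernel

noncomputable def j9_695_22 : List Job := [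
  ⟨41, 0x520924a259309a4e27d008242219108a4623c804222118a0522a15c582e1e0fc4022180cc381f09844180f01, 0, 128, 0x0, []⟩]

theorem t9_695_22 : jobs 8 S9 b8_695 j9_695_22 = true := by decide +kernel

noncomputable def j9_695_23 : List Job := [
  ⟨40, 0x520924a259309a4e27d008242219108a4623c804222118a0522a15c582e1e0fc4022180cc381f09844180f01, 0, 128, 0x0, []⟩]

theorem t9_695_23 : jobs 8 S9 b8_695 j9_695_23 = true := by decide +kernel

noncomputable def j9_695_24 : List Job := [
  ⟨39, 0x4804222118a0522a15c582e1e0fc4022180cc381f09844180f01, 0, 64, 0x0, []⟩]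

theorem t9_695_24 : jobs 8 S9 b8_695 j9_695_24 = true := by decide +kernel

noncomputable def j9_695_25 : List Job := [
  ⟨38, 0x548a6562b960b25c2ed40a2542a968b65e2fd20924a259309a4e27d008242219108a4623c804222118a0522a15c582e1e0fc4022180cc381f09844180f01, 0, 64, 0x0, []⟩]

theorem t9_695_25 : jobs 8 S9 b8_695 j9_695_25 = true := by decide +kernel

noncomputable def j9_695_26 : List Job := [
  ⟨37, 0x4804222118a0522a15c5c3d160fc4433100c4381f09844180f01, 0, 80, 0x0, []⟩]

theorem t9_695_26 : jobs 8 S9 b8_695 j9_695_26 = true := by decide +kernel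

noncomputable def j9_695_27 : List Job := [
  ⟨36, 0x548a6562b960b25c2ed40a2542a968b65e2fd20924a259309a4e27d008242219108a4623c804222118a0522a15c5c3d160fc4433100c4381f09844180f01, 0, 80, 0x0, []⟩]

theorem t9_695_27 : jobs 8 S9 b8_695 j9_695_27 = true := by decide +kernel

noncomputable def j9_695_28 : List Job := [
  ⟨35, 0x520924a259309a4e27d008242219108a4623c502a1c0ec4022180cc361909844160901, 0, 32, 0x0, []⟩]

theorem t9_695_28 : jobs 8 S9 b8_695 j9_695_28 = true := by decide +kernel

noncomputable def j9_695_29 : List Job := [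
  ⟨34, 0x520924a259309a4e27d008242219108a4623c502a1c0ec4022180cc361909844160901, 0, 32, 0x0, []⟩]

theorem t9_695_29 : jobs 8 S9 b8_695 j9_695_29 = true := by decide +kernel

noncomputable def j9_695_30 : List Job := [
  ⟨33, 0x520924a259309a4e27d008242219108a4623c904a26138b05a2e17c804222118a0522a15c502a1c0ec4022180cc361909844160901, 0, 32, 0x0, []⟩]

theorem t9_695_30 : jobs 8 S9 b8_695 j9_695_30 = true := by decide +kernel

noncomputable def j9_695_31 : List Job := [
  ⟨32, 0x520924a259309a4e27d008242219108a4623c904a26138b05a2e17c804222118a0522a15c502a1c0ec4022180cc361909844160901, 0, 32, 0x0, []⟩]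

theorem t9_695_31 : jobs 8 S9 b8_695 j9_695_31 = true := by decide +kernel

noncomputable def j9_695_32 : List Job := [
  ⟨31, 0x520924a259309a4e27d008242219108a4623c502a1c0ec4022180cc361909844160901, 0, 32, 0x0, []⟩]

theorem t9_695_32 : jobs 8 S9 b8_695 j9_695_32 = true := by decide +kernel

noncomputable def j9_695_33 : List Job := [
  ⟨30, 0x520924a259309a4e27d008242219108a4623c502a1c0ec4022180cc361909844160901, 0, 32, 0x0, []⟩]

theorem t9_695_33 : jobs 8 S9 b8_695 j9_695_33 = true := by decide +kernel

noncomputable def j9_695_34 : List Job := [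
  ⟨29, 0x520924a259309a4e27d008242219108a4623c904a26138b05a2e17c804222118a0522a15c502a1c0ec4022180cc361909844160901, 0, 32, 0x0, []⟩]

theorem t9_695_34 : jobs 8 S9 b8_695 j9_695_34 = true := by decide +kernel

noncomputable def j9_695_35 : List Job := [
  ⟨28, 0x520924a259309a4e27d008242219108a4623c904a26138b05a2e17c804222118a0522a15c502a1c0ec4022180cc361909844160901, 0, 32, 0x0, []⟩]

theorem t9_695_35 : jobs 8 S9 b8_695 j9_695_35 = true := by decide +kernel

noncomputable def j9_695_36 : List Job := [
  ⟨27, 0x4502a1c0ec4022180cc361909844160901, 0, 32, 0x0, []⟩]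

theorem t9_695_36 : jobs 8 S9 b8_695 j9_695_36 = true := by decide +kernel

noncomputable def j9_695_37 : List Job := [
  ⟨26, 0x548a6562b960b25c2ed40a2542a968b65e2fd20924a259309a4e27d008242219108a4623c502a1c0ec4022180cc361909844160901, 0, 32, 0x0, []⟩]

theorem t9_695_37 : jobs 8 S9 b8_695 j9_695_37 = true := by decide +kernel

noncomputable def j9_695_38 : List Job := [
  ⟨25, 0x4904a26138b05a2e17c804222118a0522a15c502a1c0ec4022180cc361909844160901, 0, 32, 0x0, []⟩]

theorem t9_695_38 : jobs 8 S9 b8_695 j9_695_38 = true := by decide +kernel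

noncomputable def j9_695_39 : List Job := [
  ⟨24, 0x548a6562b960b25c2ed40a2542a968b65e2fd20924a259309a4e27d008242219108a4623c904a26138b05a2e17c804222118a0522a15c502a1c0ec4022180cc361909844160901, 0, 32, 0x0, []⟩]

theorem t9_695_39 : jobs 8 S9 b8_695 j9_695_39 = true := by decide +kernel

noncomputable def j9_695_40 : List Job := [
  ⟨23, 0x45439140ec4431100cc361909844160901, 0, 20, 0x0, []⟩]

theorem t9_695_40 : jobs 8 S9 b8_695 j9_695_40 = true := by decide +kernel

noncomputable def j9_695_41 : List Job := [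
  ⟨22, 0x4543b140e44433100c4361909844160901, 0, 20, 0x0, []⟩]

theorem t9_695_41 : jobs 8 S9 b8_695 j9_695_41 = true := by decide +kernel

noncomputable def j9_695_42 : List Job := [
  ⟨21, 0x548a6562b960b25c2ed40a2542a968b65e2fd20924a259309a4e27d008242219108a4623c5439140ec4431100cc361909844160901, 0, 20, 0x0, []⟩]

theorem t9_695_42 : jobs 8 S9 b8_695 j9_695_42 = true := by decide +kernel

noncomputable def j9_695_43 : List Job := [
  ⟨20, 0x548a6562b960b25c2ed40a2542a968b65e2fd20924a259309a4e27d008242219108a4623c543b140e44433100c4361909844160901, 0, 20, 0x0, []⟩]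

theorem t9_695_43 : jobs 8 S9 b8_695 j9_695_43 = true := by decide +kernel

noncomputable def j9_695_44 : List Job := [
  ⟨19, 0x4904a26138b05a2e17c804222118a0522a15c5439140ec4431100cc361909844160901, 0, 20, 0x0, []⟩]

theorem t9_695_44 : jobs 8 S9 b8_695 j9_695_44 = true := by decide +kernel

noncomputable def j9_695_45 : List Job := [
  ⟨18, 0x4904a26138b05a2e17c804222118a0522a15c543b140e44433100c4361909844160901, 0, 20, 0x0, []⟩]

theorem t9_695_45 : jobs 8 S9 b8_695 j9_695_45 = true := by decide +kernel

noncomputable def j9_695_46 : List Job := [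
  ⟨17, 0x548a6562b960b25c2ed40a2542a968b65e2fd20924a259309a4e27d008242219108a4623c904a26138b05a2e17c804222118a0522a15c5439140ec4431100cc361909844160901, 0, 26, 0x2a01002c01002e01003001, []⟩]

theorem t9_695_46 : jobs 8 S9 b8_695 j9_695_46 = true := by decide +kernel

noncomputable def j9_695_47 : List Job := [
  ⟨16, 0x548a6562b960b25c2ed40a2542a968b65e2fd20924a259309a4e27d008242219108a4623c904a26138b05a2e17c804222118a0522a15c543b140e44433100c4361909844160901, 0, 46, 0x5201005801, []⟩]

theorem t9_695_47 : jobs 8 S9 b8_695 j9_695_47 = true := by decide +kernel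

noncomputable def j9_695_48 : List Job := [
  ⟨15, 0x520924a259309a4e27d008242219108a4623c804222118a0522a15c48261a0dc4022180cc2e15098440e0501, 0, 32, 0x0, []⟩]

theorem t9_695_48 : jobs 8 S9 b8_695 j9_695_48 = true := by decide +kernel

noncomputable def j9_695_49 : List Job := [
  ⟨14, 0x520924a259309a4e27d008242219108a4623c804222118a0522a15c48261a0dc4022180cc2e15098440e0501, 0, 32, 0x0, []⟩]

theorem t9_695_49 : jobs 8 S9 b8_695 j9_695_49 = true := by decide +kernel

noncomputable def j9_695_50 : List Job := [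
  ⟨13, 0x520924a259309a4e27d008242219108a4623c84462815480442915c48261a0dc4022180cc2e15098440e0501, 0, 32, 0x0, []⟩]

theorem t9_695_50 : jobs 8 S9 b8_695 j9_695_50 = true := by decide +kernel

noncomputable def j9_695_51 : List Job := [
  ⟨12, 0x520924a259309a4e27d008242219108a4623c84462915c80442815448261a0dc4022180cc2e15098440e0501, 0, 32, 0x0, []⟩]

theorem t9_695_51 : jobs 8 S9 b8_695 j9_695_51 = true := by decide +kernel

noncomputable def j9_695_52 : List Job := [
  ⟨11, 0x520924a259309a4e27d008242219108a4623c804222118a0522a15c48261a0dc4022180cc2e15098440e0501, 0, 32, 0x0, []⟩]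

theorem t9_695_52 : jobs 8 S9 b8_695 j9_695_52 = true := by decide +kernel

noncomputable def j9_695_53 : List Job := [
  ⟨10, 0x520924a259309a4e27d008242219108a4623c804222118a0522a15c48261a0dc4022180cc2e15098440e0501, 0, 32, 0x0, []⟩]

theorem t9_695_53 : jobs 8 S9 b8_695 j9_695_53 = true := by decide +kernel

noncomputable def j9_695_54 : List Job := [
  ⟨9, 0x520924a259309a4e27d008242219108a4623c84462815480442915c48261a0dc4022180cc2e15098440e0501, 0, 32, 0x0, []⟩]

theorem t9_695_54 : jobs 8 S9 b8_695 j9_695_54 = true := by decide +kernel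

noncomputable def j9_695_55 : List Job := [
  ⟨8, 0x520924a259309a4e27d008242219108a4623c84462915c80442815448261a0dc4022180cc2e15098440e0501, 0, 32, 0x0, []⟩]

theorem t9_695_55 : jobs 8 S9 b8_695 j9_695_55 = true := by decide +kernel

noncomputable def j9_695_56 : List Job := [
  ⟨7, 0x4804222118a0522a15c48261a0dc4022180cc2e15098440e0501, 0, 32, 0x0, []⟩]

theorem t9_695_56 : jobs 8 S9 b8_695 j9_695_56 = true := by decide +kernel

noncomputable def j9_695_57 : List Job := [
  ⟨6, 0x548a6562b960b25c2ed40a2542a968b65e2fd20924a259309a4e27d008242219108a4623c804222118a0522a15c48261a0dc4022180cc2e15098440e0501, 0, 32, 0x0, []⟩]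

theorem t9_695_57 : jobs 8 S9 b8_695 j9_695_57 = true := by decide +kernel

noncomputable def j9_695_58 : List Job := [
  ⟨5, 0x484462915c80442815448261a0dc4022180cc2e15098440e0501, 0, 32, 0x0, []⟩]

theorem t9_695_58 : jobs 8 S9 b8_695 j9_695_58 = true := by decide +kernel

noncomputable def j9_695_59 : List Job := [
  ⟨4, 0x548a6562b960b25c2ed40a2542a968b65e2fd20924a259309a4e27d008242219108a4623c84462915c80442815448261a0dc4022180cc2e15098440e0501, 0, 32, 0x0, []⟩]

theorem t9_695_59 : jobs 8 S9 b8_695 j9_695_59 = true := by decide +kernel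

noncomputable def j9_695_60 : List Job := [
  ⟨3, 0x4804222118a0522a15c4c35120dc4431100cc2e15098440e0501, 0, 20, 0x0, []⟩]

theorem t9_695_60 : jobs 8 S9 b8_695 j9_695_60 = true := by decide +kernel

noncomputable def j9_695_61 : List Job := [
  ⟨2, 0x4804222118a0522a15c4c37120d44433100c42e15098440e0501, 0, 20, 0x0, []⟩]

theorem t9_695_61 : jobs 8 S9 b8_695 j9_695_61 = true := by decide +kernel

noncomputable def j9_695_62 : List Job := [
  ⟨1, 0x548a6562b960b25c2ed40a2542a968b65e2fd20924a259309a4e27d008242219108a4623c804222118a0522a15c4c35120dc4431100cc2e15098440e0501, 0, 20, 0x0, []⟩]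

theorem t9_695_62 : jobs 8 S9 b8_695 j9_695_62 = true := by decide +kernel

noncomputable def j9_695_63 : List Job := [
  ⟨0, 0x548a6562b960b25c2ed40a2542a968b65e2fd20924a259309a4e27d008242219108a4623c804222118a0522a15c4c37120d44433100c42e15098440e0501, 0, 20, 0x0, []⟩]

theorem t9_695_63 : jobs 8 S9 b8_695 j9_695_63 = true := by decide +kernel

theorem d9_695 : Dn 8 S9 b8_695 := dn_of (Js := j9_695_0 ++ (j9_695_1 ++ (j9_695_2 ++ (j9_695_3 ++ (j9_695_4 ++ (j9_695_5 ++ (j9_695_6 ++ (j9_695_7 ++ (j9_695_8 ++ (j9_695_9 ++ (j9_695_10 ++ (j9_695_11 ++ (j9_695_12 ++ (j9_695_13 ++ (j9_695_14 ++ (j9_695_15 ++ (j9_695_16 ++ (j9_695_17 ++ (j9_695_18 ++ (j9_695_19 ++ (j9_695_20 ++ (j9_695_21 ++ (j9_695_22 ++ (j9_695_23 ++ (j9_695_24 ++ (j9_695_25 ++ (j9_695_26 ++ (j9_695_27 ++ (j9_695_28 ++ (j9_695_29 ++ (j9_695_30 ++ (j9_695_31 ++ (j9_695_32 ++ (j9_695_33 ++ (j9_695_34 ++ (j9_695_35 ++ (j9_695_36 ++ (j9_695_37 ++ (j9_695_38 ++ (j9_695_39 ++ (j9_695_40 ++ (j9_695_41 ++ (j9_695_42 ++ (j9_695_43 ++ (j9_695_44 ++ (j9_695_45 ++ (j9_695_46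 ++ (j9_695_47 ++ (j9_695_48 ++ (j9_695_49 ++ (j9_695_50 ++ (j9_695_51 ++ (j9_695_52 ++ (j9_695_53 ++ (j9_695_54 ++ (j9_695_55 ++ (j9_695_56 ++ (j9_695_57 ++ (j9_695_58 ++ (j9_695_59 ++ (j9_695_60 ++ (j9_695_61 ++ (j9_695_62 ++ (j9_695_63 ++ []))))))))))))))))))))))))))))))))))))))))))))))))))))))))))))))))
  (jobs_append t9_695_0 <| jobs_append t9_695_1 <| jobs_append t9_695_2 <| jobs_append t9_695_3 <| jobs_append t9_695_4 <| jobs_append t9_695_5 <| jobs_append t9_695_6 <| jobs_append t9_695_7 <| jobs_append t9_695_8 <| jobs_append t9_695_9 <| jobs_append t9_695_10 <| jobs_append t9_695_11 <| jobs_append t9_695_12 <| jobs_append t9_695_13 <| jobs_append t9_695_14 <| jobs_append t9_695_15 <| jobs_append t9_695_16 <| jobs_append t9_695_17 <| jobs_append t9_695_18 <| jobs_append t9_695_19 <| jobs_append t9_695_20 <| jobs_append t9_695_21 <| jobs_append t9_695_22 <| jobs_append t9_695_23 <| jobs_append t9_695_24 <| jobs_append t9_695_25 <| jobs_append t9_695_26 <| jobs_append t9_695_27 <| jobs_append t9_695_28 <| jobs_append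 t9_695_29 <| jobs_append t9_695_30 <| jobs_append t9_695_31 <| jobs_append t9_695_32 <| jobs_append t9_695_33 <| jobs_append t9_695_34 <| jobs_append t9_695_35 <| jobs_append t9_695_36 <| jobs_append t9_695_37 <| jobs_append t9_695_38 <| jobs_append t9_695_39 <| jobs_append t9_695_40 <| jobs_append t9_695_41 <| jobs_append t9_695_42 <| jobs_append t9_695_43 <| jobs_append t9_695_44 <| jobs_append t9_695_45 <| jobs_append t9_695_46 <| jobs_append t9_695_47 <| jobs_append t9_695_48 <| jobs_append t9_695_49 <| jobs_append t9_695_50 <| jobs_append t9_695_51 <| jobs_append t9_695_52 <| jobs_append t9_695_53 <| jobs_append t9_695_54 <| jobs_append t9_695_55 <| jobs_append t9_695_56 <| jobs_append t9_695_57 <| jobs_append t9_695_58 <| jobs_append t9_695_59 <| jobs_append t9_695_60 <| jobs_append t9_695_61 <| jobs_append t9_695_62 <| jobs_append t9_695_63 <| List.forall_mem_nil _) (by decide +kernel)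

noncomputable def j9_696_0 : List Job := [
  ⟨63, 0x548a6542a960b25e2fd40a2562b968b65c2ed048849265008a4826c703a1e0fc60321a0dc502a160bc40221209c361909844160901, 0, 72, 0x0, []⟩]

theorem t9_696_0 : jobs 8 S9 b8_696 j9_696_0 = true := by decide +kernel

noncomputable def j9_696_1 : List Job := [
  ⟨62, 0x601028241a110a8643a21128a45a311a8e47d48a6542a960b25e2fd40a2562b968b65c2ed048849265008a4826c703a1e0fc60321a0dc502a160bc40221209c361909844160901, 0, 72, 0x0, []⟩]

theorem t9_696_1 : jobs 8 S9 b8_696 j9_696_1 = true := by decide +kernel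

noncomputable def j9_696_2 : List Job := [
  ⟨61, 0x508864623928964e27c703a1e0fc60321a0dc502a160bc40221209c361909844160901, 0, 72, 0x0, []⟩]

theorem t9_696_2 : jobs 8 S9 b8_696 j9_696_2 = true := by decide +kernel

noncomputable def j9_696_3 : List Job := [
  ⟨60, 0x601028241a110a8643a21128a45a311a8e47d08864623928964e27c703a1e0fc60321a0dc502a160bc40221209c361909844160901, 0, 72, 0x0, []⟩]

theorem t9_696_3 : jobs 8 S9 b8_696 j9_696_3 = true := by decide +kernel

noncomputable def j9_696_4 : List Job := [
  ⟨59, 0x548a6542a960b25e2fd40a2562b968b65c2ed048a4926d008848264703a1e0fc60321a0dc502a160bc40221209c361909844160901, 0, 72, 0x0, []⟩]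

theorem t9_696_4 : jobs 8 S9 b8_696 j9_696_4 = true := by decide +kernel

noncomputable def j9_696_5 : List Job := [
  ⟨58, 0x601028241a110a8643a21128a45a311a8e47d48a6542a960b25e2fd40a2562b968b65c2ed048a4926d008848264703a1e0fc60321a0dc502a160bc40221209c361909844160901, 0, 72, 0x0, []⟩]

theorem t9_696_5 : jobs 8 S9 b8_696 j9_696_5 = true := by decide +kernel

noncomputable def j9_696_6 : List Job := [
  ⟨57, 0x508864623928964e27ca0522a158b05a2e17c804222118904a2613c703a1e0fc60321a0dc502a160bc40221209c361909844160901, 0, 72, 0x0, []⟩]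

theorem t9_696_6 : jobs 8 S9 b8_696 j9_696_6 = true := by decide +kernel

noncomputable def j9_696_7 : List Job := [
  ⟨56, 0x601028241a110a8643a21128a45a311a8e47d08864623928964e27ca0522a158b05a2e17c804222118904a2613c703a1e0fc60321a0dc502a160bc40221209c361909844160901, 0, 72, 0x0, []⟩]

theorem t9_696_7 : jobs 8 S9 b8_696 j9_696_7 = true := by decide +kernel

noncomputable def j9_696_8 : List Job := [
  ⟨55, 0x548a6542a960b25e2fd40a2562b968b65c2ed048849265008a4826ca0522a158b05a2e17c804222118904a2613c703a1e0fc60321a0dc502a160bc40221209c361909844160901, 0, 72, 0x0, []⟩]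

theorem t9_696_8 : jobs 8 S9 b8_696 j9_696_8 = true := by decide +kernel

noncomputable def j9_696_9 : List Job := [
  ⟨54, 0x601028241a110a8643a21128a45a311a8e47d48a6542a960b25e2fd40a2562b968b65c2ed048849265008a4826ca0522a158b05a2e17c804222118904a2613c703a1e0fc60321a0dc502a160bc40221209c361909844160901, 0, 86, 0x9200009600009a0100aa01, [(74, ⟨2167, 0x4080048002420044800040000500006004040080001, 0x1812408424080280c02⟩), (72, ⟨2166, 0x4080048002420044800040000500006004040080001, 0x1812408424080280c02⟩)]⟩]

theorem t9_696_9 : jobs 8 S9 b8_696 j9_696_9 = true := by decide +kernel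

noncomputable def j9_696_10 : List Job := [
  ⟨53, 0x508864623928964e27ca0522a158b05a2e17c804222118904a2613c703a1e0fc60321a0dc502a160bc40221209c361909844160901, 0, 72, 0x0, []⟩]

theorem t9_696_10 : jobs 8 S9 b8_696 j9_696_10 = true := by decide +kernel

noncomputable def j9_696_11 : List Job := [
  ⟨52, 0x601028241a110a8643a21128a45a311a8e47d08864623928964e27ca0522a158b05a2e17c804222118904a2613c703a1e0fc60321a0dc502a160bc40221209c361909844160901, 0, 72, 0x0, []⟩]

theorem t9_696_11 : jobs 8 S9 b8_696 j9_696_11 = true := by decide +kernel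

noncomputable def j9_696_12 : List Job := [
  ⟨51, 0x548a6542a960b25e2fd40a2562b968b65c2ed048a4926d008848264a0522a158b05a2e17c804222118904a2613c703a1e0fc60321a0dc502a160bc40221209c361909844160901, 0, 72, 0x0, []⟩]

theorem t9_696_12 : jobs 8 S9 b8_696 j9_696_12 = true := by decide +kernel

noncomputable def j9_696_13 : List Job := [
  ⟨50, 0x601028241a110a8643a21128a45a311a8e47d48a6542a960b25e2fd40a2562b968b65c2ed048a4926d008848264a0522a158b05a2e17c804222118904a2613c703a1e0fc60321a0dc502a160bc40221209c361909844160901, 0, 124, 0x921000960000a20900a61000b21100b60800c20800c61100d20100d60100e21000e41100ea1100ec1000f201, [(74, ⟨2165, 0x41800480025c0004000040000400006004040080001, 0x183240b820080200c02⟩)]⟩]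

theorem t9_696_13 : jobs 8 S9 b8_696 j9_696_13 = true := by decide +kernel

noncomputable def j9_696_14 : List Job := [
  ⟨49, 0x548a6542a960b25e2fd40a2562b968b65c2ec804222118904a2613c703a1e0fc40221209c381f0c06c0e0501, 0, 192, 0x0, []⟩]

theorem t9_696_14 : jobs 8 S9 b8_696 j9_696_14 = true := by decide +kernel

noncomputable def j9_696_15 : List Job := [
  ⟨48, 0x601028241a110a8643a21128a45a311a8e47d48a6542a960b25e2fd40a2562b968b65c2ec804222118904a2613c703a1e0fc40221209c381f0c06c0e0501, 0, 192, 0x0, []⟩]

theorem t9_696_15 : jobs 8 S9 b8_696 j9_696_15 = true := by decide +kernel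

noncomputable def j9_696_16 : List Job := [
  ⟨47, 0x508864623928964e27d00824422920924c26c804222118904a2613c703a1e0fc40221209c381f0c06c0e0501, 0, 192, 0x0, []⟩]

theorem t9_696_16 : jobs 8 S9 b8_696 j9_696_16 = true := by decide +kernel

noncomputable def j9_696_17 : List Job := [
  ⟨46, 0x601028241a110a8643a21128a45a311a8e47d08864623928964e27d00824422920924c26c804222118904a2613c703a1e0fc40221209c381f0c06c0e0501, 0, 192, 0x0, []⟩]

theorem t9_696_17 : jobs 8 S9 b8_696 j9_696_17 = true := by decide +kernel

noncomputable def j9_696_18 : List Job := [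
  ⟨45, 0x4804222118904a2613c703a1e0fc442710094381f0c06c0e0501, 0, 192, 0x10202010602010a03010e03011202011602011a03011e03012202012602012a02012e02013202013602013a02013e02, []⟩]

theorem t9_696_18 : jobs 8 S9 b8_696 j9_696_18 = true := by decide +kernel

noncomputable def j9_696_19 : List Job := [
  ⟨44, 0x601028241a110a8643a21128a45a311a8e47c804222118904a2613c703a1e0fc442710094381f0c06c0e0501, 0, 192, 0x10202010602010a03010e03011202011602011a02011e02012202012602012a03012e03013202013602013a02013e02, []⟩]

theorem t9_696_19 : jobs 8 S9 b8_696 j9_696_19 = true := by decide +kernel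

noncomputable def j9_696_20 : List Job := [
  ⟨43, 0x548a6542a960b25e2fd40a2562b968b65c2ed08864623928964e27d00824422920924c26c804222118904a2613c703a1e0fc442710094381f0c06c0e0501, 0, 192, 0x10202010602011202011602012202012602013202013602, []⟩]

theorem t9_696_20 : jobs 8 S9 b8_696 j9_696_20 = true := by decide +kernel

noncomputable def j9_696_21 : List Job := [
  ⟨42, 0x601028241a110a8643a21128a45a311a8e47d48a6542a960b25e2fd40a2562b968b65c2ed08864623928964e27d00824422920924c26c804222118904a2613c703a1e0fc442710094381f0c06c0e0501, 0, 192, 0x10202010602011202011602012202012602013202013602, []⟩]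

theorem t9_696_21 : jobs 8 S9 b8_696 j9_696_21 = true := by decide +kernel

noncomputable def j9_696_22 : List Job := [
  ⟨41, 0x548a6542a960b25e2fd40a2562b968b65c2ec60321a0dc40221209c2e15098440e0501, 0, 72, 0x8201008601008a01008e01, []⟩]

theorem t9_696_22 : jobs 8 S9 b8_696 j9_696_22 = true := by decide +kernel

noncomputable def j9_696_23 : List Job := [
  ⟨40, 0x601028241a110a8643a21128a45a311a8e47d48a6542a960b25e2fd40a2562b968b65c2ec60321a0dc40221209c2e15098440e0501, 0, 72, 0x8201008601, []⟩]

theorem t9_696_23 : jobs 8 S9 b8_696 j9_696_23 = true := by decide +kernel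

noncomputable def j9_696_24 : List Job := [
  ⟨39, 0x508864623928964e27d00824422920924c26c60321a0dc40221209c2e15098440e0501, 0, 72, 0x8201008401008601008801008a01008c01008e01009001, []⟩]

theorem t9_696_24 : jobs 8 S9 b8_696 j9_696_24 = true := by decide +kernel

noncomputable def j9_696_25 : List Job := [
  ⟨38, 0x601028241a110a8643a21128a45a311a8e47d08864623928964e27d00824422920924c26c60321a0dc40221209c2e15098440e0501, 0, 72, 0x8201008401008601008801, []⟩]

theorem t9_696_25 : jobs 8 S9 b8_696 j9_696_25 = true := by decide +kernel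

noncomputable def j9_696_26 : List Job := [
  ⟨37, 0x548a6542a960b25e2fd40a2562b968b65c2eca0522a158b05a2e17c804222118904a2613c60321a0dc40221209c2e15098440e0501, 0, 72, 0x8201008601008a01008e01, []⟩]

theorem t9_696_26 : jobs 8 S9 b8_696 j9_696_26 = true := by decide +kernel

noncomputable def j9_696_27 : List Job := [
  ⟨36, 0x601028241a110a8643a21128a45a311a8e47d48a6542a960b25e2fd40a2562b968b65c2eca0522a158b05a2e17c804222118904a2613c60321a0dc40221209c2e15098440e0501, 0, 72, 0x8201008601, []⟩]

theorem t9_696_27 : jobs 8 S9 b8_696 j9_696_27 = true := by decide +kernel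

noncomputable def j9_696_28 : List Job := [
  ⟨35, 0x508864623928964e27d00824422920924c26ca0522a158b05a2e17c804222118904a2613c60321a0dc40221209c2e15098440e0501, 0, 72, 0x8201008401008601008801008a01008c01008e01009001, []⟩]

theorem t9_696_28 : jobs 8 S9 b8_696 j9_696_28 = true := by decide +kernel

noncomputable def j9_696_29 : List Job := [
  ⟨34, 0x601028241a110a8643a21128a45a311a8e47d08864623928964e27d00824422920924c26ca0522a158b05a2e17c804222118904a2613c60321a0dc40221209c2e15098440e0501, 0, 72, 0x8201008401008601008801, []⟩]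

theorem t9_696_29 : jobs 8 S9 b8_696 j9_696_29 = true := by decide +kernel

noncomputable def j9_696_30 : List Job := [
  ⟨33, 0x548a6542a960b25e2fd40a2562b968b65c2ec60321a0dc40221209c2e15098440e0501, 0, 72, 0x8201008601008a01008e01, []⟩]

theorem t9_696_30 : jobs 8 S9 b8_696 j9_696_30 = true := by decide +kernel

noncomputable def j9_696_31 : List Job := [
  ⟨32, 0x601028241a110a8643a21128a45a311a8e47d48a6542a960b25e2fd40a2562b968b65c2ec60321a0dc40221209c2e15098440e0501, 0, 72, 0x8201008601, []⟩]

theorem t9_696_31 : jobs 8 S9 b8_696 j9_696_31 = true := by decide +kernel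

noncomputable def j9_696_32 : List Job := [
  ⟨31, 0x508864623928964e27d00824422920924c26c60321a0dc40221209c2e15098440e0501, 0, 72, 0x8201008401008601008801008a01008c01008e01009001, []⟩]

theorem t9_696_32 : jobs 8 S9 b8_696 j9_696_32 = true := by decide +kernel

noncomputable def j9_696_33 : List Job := [
  ⟨30, 0x601028241a110a8643a21128a45a311a8e47d08864623928964e27d00824422920924c26c60321a0dc40221209c2e15098440e0501, 0, 72, 0x8201008401008601008801, []⟩]

theorem t9_696_33 : jobs 8 S9 b8_696 j9_696_33 = true := by decide +kernel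

noncomputable def j9_696_34 : List Job := [
  ⟨29, 0x548a6542a960b25e2fd40a2562b968b65c2eca0522a158b05a2e17c804222118904a2613c60321a0dc40221209c2e15098440e0501, 0, 72, 0x8201008601008a01008e01, []⟩]

theorem t9_696_34 : jobs 8 S9 b8_696 j9_696_34 = true := by decide +kernel

noncomputable def j9_696_35 : List Job := [
  ⟨28, 0x601028241a110a8643a21128a45a311a8e47d48a6542a960b25e2fd40a2562b968b65c2eca0522a158b05a2e17c804222118904a2613c60321a0dc40221209c2e15098440e0501, 0, 72, 0x8201008601, []⟩]

theorem t9_696_35 : jobs 8 S9 b8_696 j9_696_35 = true := by decide +kernel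

noncomputable def j9_696_36 : List Job := [
  ⟨27, 0x508864623928964e27d00824422920924c26ca0522a158b05a2e17c804222118904a2613c60321a0dc40221209c2e15098440e0501, 0, 72, 0x8201008401008601008801008a01008c01008e01009001, []⟩]

theorem t9_696_36 : jobs 8 S9 b8_696 j9_696_36 = true := by decide +kernel

noncomputable def j9_696_37 : List Job := [
  ⟨26, 0x601028241a110a8643a21128a45a311a8e47d08864623928964e27d00824422920924c26ca0522a158b05a2e17c804222118904a2613c60321a0dc40221209c2e15098440e0501, 0, 72, 0x8201008401008601008801, []⟩]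

theorem t9_696_37 : jobs 8 S9 b8_696 j9_696_37 = true := by decide +kernel

noncomputable def j9_696_38 : List Job := [
  ⟨25, 0x460321a0dc40221209c2e15098440e0501, 0, 72, 0x8201008401008601008801008a01008c01008e01009001, []⟩]

theorem t9_696_38 : jobs 8 S9 b8_696 j9_696_38 = true := by decide +kernel

noncomputable def j9_696_39 : List Job := [
  ⟨24, 0x601028241a110a8643a21128a45a311a8e47c60321a0dc40221209c2e15098440e0501, 0, 72, 0x8201008401008601008801, []⟩]

theorem t9_696_39 : jobs 8 S9 b8_696 j9_696_39 = true := by decide +kernel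

noncomputable def j9_696_40 : List Job := [
  ⟨23, 0x548a6542a960b25e2fd40a2562b968b65c2ed08864623928964e27d00824422920924c26c60321a0dc40221209c2e15098440e0501, 0, 72, 0x8201008601008a01008e01, []⟩]

theorem t9_696_40 : jobs 8 S9 b8_696 j9_696_40 = true := by decide +kernel

noncomputable def j9_696_41 : List Job := [
  ⟨22, 0x601028241a110a8643a21128a45a311a8e47d48a6542a960b25e2fd40a2562b968b65c2ed08864623928964e27d00824422920924c26c60321a0dc40221209c2e15098440e0501, 0, 72, 0x8201008601, []⟩]

theorem t9_696_41 : jobs 8 S9 b8_696 j9_696_41 = true := by decide +kernel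

noncomputable def j9_696_42 : List Job := [
  ⟨21, 0x4a0522a158b05a2e17c804222118904a2613c60321a0dc40221209c2e15098440e0501, 0, 72, 0x8201008401008601008801008a01008c01008e01009001, []⟩]

theorem t9_696_42 : jobs 8 S9 b8_696 j9_696_42 = true := by decide +kernel

noncomputable def j9_696_43 : List Job := [
  ⟨20, 0x601028241a110a8643a21128a45a311a8e47ca0522a158b05a2e17c804222118904a2613c60321a0dc40221209c2e15098440e0501, 0, 72, 0x8201008401008601008801, []⟩]

theorem t9_696_43 : jobs 8 S9 b8_696 j9_696_43 = true := by decide +kernel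

noncomputable def j9_696_44 : List Job := [
  ⟨19, 0x548a6542a960b25e2fd40a2562b968b65c2ed08864623928964e27d00824422920924c26ca0522a158b05a2e17c804222118904a2613c60321a0dc40221209c2e15098440e0501, 0, 72, 0x8201008601008a01008e01, []⟩]

theorem t9_696_44 : jobs 8 S9 b8_696 j9_696_44 = true := by decide +kernel

noncomputable def j9_696_45 : List Job := [
  ⟨18, 0x601028241a110a8643a21128a45a311a8e47d48a6542a960b25e2fd40a2562b968b65c2ed08864623928964e27d00824422920924c26ca0522a158b05a2e17c804222118904a2613c60321a0dc40221209c2e15098440e0501, 0, 72, 0x8201008601, []⟩]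

theorem t9_696_45 : jobs 8 S9 b8_696 j9_696_45 = true := by decide +kernel

noncomputable def j9_696_46 : List Job := [
  ⟨17, 0x46437180d44427100942e15098440e0501, 0, 72, 0x4212004613004a13004e03005213005612005a12005e13006213006612006a12006e13007212007613007a02007e02008201008401008601008801008a01008c01008e01009001, []⟩]

theorem t9_696_46 : jobs 8 S9 b8_696 j9_696_46 = true := by decide +kernel

noncomputable def j9_696_47 : List Job := [
  ⟨16, 0x601028241a110a8643a21128a45a311a8e47c6437180d44427100942e15098440e0501, 0, 72, 0x4210004611004a11004e03005211005610005a02005e02006211006610006a10006e03007210007611007a11007e10008201008401008601008801, []⟩]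

theorem t9_696_47 : jobs 8 S9 b8_696 j9_696_47 = true := by decide +kernel

noncomputable def j9_696_48 : List Job := [
  ⟨15, 0x548a6542a960b25e2fd40a2562b968b65c2ed08864623928964e27d00824422920924c26c6437180d44427100942e15098440e0501, 0, 72, 0x4210004611005211005602006202006610007210007611008201008601008a01008e01, []⟩]

theorem t9_696_48 : jobs 8 S9 b8_696 j9_696_48 = true := by decide +kernel

noncomputable def j9_696_49 : List Job := [
  ⟨14, 0x601028241a110a8643a21128a45a311a8e47d48a6542a960b25e2fd40a2562b968b65c2ed08864623928964e27d00824422920924c26c6437180d44427100942e15098440e0501, 0, 72, 0x4202004613005213005612006213006612007202007602008201008601, []⟩]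

theorem t9_696_49 : jobs 8 S9 b8_696 j9_696_49 = true := by decide +kernel

noncomputable def j9_696_50 : List Job := [
  ⟨13, 0x4a0522a158b05a2e17c804222118904a2613c6437180d44427100942e15098440e0501, 0, 72, 0x4210004611004a11004e03005211005610005a03005e11006211006610006a02006e02007210007611007a11007e10008201008401008601008801008a01008c01008e01009001, []⟩]

theorem t9_696_50 : jobs 8 S9 b8_696 j9_696_50 = true := by decide +kernel

noncomputable def j9_696_51 : List Job := [
  ⟨12, 0x601028241a110a8643a21128a45a311a8e47ca0522a158b05a2e17c804222118904a2613c6437180d44427100942e15098440e0501, 0, 72, 0x4212004613004a02004e02005213005612005a03005e13006213006612006a12006e03007212007613007a02007e02008201008401008601008801, []⟩]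

theorem t9_696_51 : jobs 8 S9 b8_696 j9_696_51 = true := by decide +kernel

noncomputable def j9_696_52 : List Job := [
  ⟨11, 0x548a6542a960b25e2fd40a2562b968b65c2ed08864623928964e27d00824422920924c26ca0522a158b05a2e17c804222118904a2613c6437180d44427100942e15098440e0501, 0, 72, 0x4202004613005213005612006213006612007202007602008201008601008a01008e01, []⟩]

theorem t9_696_52 : jobs 8 S9 b8_696 j9_696_52 = true := by decide +kernel

noncomputable def j9_696_53 : List Job := [
  ⟨10, 0x601028241a110a8643a21128a45a311a8e47d48a6542a960b25e2fd40a2562b968b65c2ed08864623928964e27d00824422920924c26ca0522a158b05a2e17c804222118904a2613c6437180d44427100942e15098440e0501, 0, 124, 0x421000461100520200560200620200660200720200760200820100860100e21000e41100ea1100ec1000f201, []⟩]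

theorem t9_696_53 : jobs 8 S9 b8_696 j9_696_53 = true := by decide +kernel

noncomputable def j9_696_54 : List Job := [
  ⟨9, 0x548a6542a960b25e2fd40a2562b968b65c2ec804222118904a2613c502a160bc40221209c1e0d058240e0501, 0, 72, 0x0, []⟩]

theorem t9_696_54 : jobs 8 S9 b8_696 j9_696_54 = true := by decide +kernel

noncomputable def j9_696_55 : List Job := [
  ⟨8, 0x601028241a110a8643a21128a45a311a8e47d48a6542a960b25e2fd40a2562b968b65c2ec804222118904a2613c502a160bc40221209c1e0d058240e0501, 0, 72, 0x0, []⟩]

theorem t9_696_55 : jobs 8 S9 b8_696 j9_696_55 = true := by decide +kernel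

noncomputable def j9_696_56 : List Job := [
  ⟨7, 0x508864623928964e27d00824422920924c26c804222118904a2613c502a160bc40221209c1e0d058240e0501, 0, 72, 0x0, []⟩]

theorem t9_696_56 : jobs 8 S9 b8_696 j9_696_56 = true := by decide +kernel

noncomputable def j9_696_57 : List Job := [
  ⟨6, 0x601028241a110a8643a21128a45a311a8e47d08864623928964e27d00824422920924c26c804222118904a2613c502a160bc40221209c1e0d058240e0501, 0, 72, 0x0, []⟩]

theorem t9_696_57 : jobs 8 S9 b8_696 j9_696_57 = true := by decide +kernel

noncomputable def j9_696_58 : List Job := [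
  ⟨5, 0x548a6542a960b25e2fd40a2562b968b65c2ec84442513480462413c502a160bc40221209c1e0d058240e0501, 0, 72, 0x8202008402008a02008c02, []⟩]

theorem t9_696_58 : jobs 8 S9 b8_696 j9_696_58 = true := by decide +kernel

noncomputable def j9_696_59 : List Job := [
  ⟨4, 0x601028241a110a8643a21128a45a311a8e47d48a6542a960b25e2fd40a2562b968b65c2ec84442513480462413c502a160bc40221209c1e0d058240e0501, 0, 72, 0x8202008402008a02008c02, []⟩]

theorem t9_696_59 : jobs 8 S9 b8_696 j9_696_59 = true := by decide +kernel

noncomputable def j9_696_60 : List Job := [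
  ⟨3, 0x508864623928964e27d00824422920924c26c84442513480462413c502a160bc40221209c1e0d058240e0501, 0, 72, 0x8202008402008a02008c02, []⟩]

theorem t9_696_60 : jobs 8 S9 b8_696 j9_696_60 = true := by decide +kernel

noncomputable def j9_696_61 : List Job := [
  ⟨2, 0x601028241a110a8643a21128a45a311a8e47d08864623928964e27d00824422920924c26c84442513480462413c502a160bc40221209c1e0d058240e0501, 0, 72, 0x8202008402008a02008c02, []⟩]

theorem t9_696_61 : jobs 8 S9 b8_696 j9_696_61 = true := by decide +kernel

noncomputable def j9_696_62 : List Job := [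
  ⟨1, 0x548a6542a960b25e2fd40a2562b968b65c2ec804222118904a2613c502a160bc40221209c1e0d058240e0501, 0, 72, 0x0, []⟩]

theorem t9_696_62 : jobs 8 S9 b8_696 j9_696_62 = true := by decide +kernel

noncomputable def j9_696_63 : List Job := [
  ⟨0, 0x601028241a110a8643a21128a45a311a8e47d48a6542a960b25e2fd40a2562b968b65c2ec804222118904a2613c502a160bc40221209c1e0d058240e0501, 0, 72, 0x0, []⟩]

theorem t9_696_63 : jobs 8 S9 b8_696 j9_696_63 = true := by decide +kernel

theorem d9_696 : Dn 8 S9 b8_696 := dn_of (Js := j9_696_0 ++ (j9_696_1 ++ (j9_696_2 ++ (j9_696_3 ++ (j9_696_4 ++ (j9_696_5 ++ (j9_696_6 ++ (j9_696_7 ++ (j9_696_8 ++ (j9_696_9 ++ (j9_696_10 ++ (j9_696_11 ++ (j9_696_12 ++ (j9_696_13 ++ (j9_696_14 ++ (j9_696_15 ++ (j9_696_16 ++ (j9_696_17 ++ (j9_696_18 ++ (j9_696_19 ++ (j9_696_20 ++ (j9_696_21 ++ (j9_696_22 ++ (j9_696_23 ++ (j9_696_24 ++ (j9_696_25 ++ (j9_696_26 ++ (j9_696_27 ++ (j9_696_28 ++ (j9_696_29 ++ (j9_696_30 ++ (j9_696_31 ++ (j9_696_32 ++ (j9_696_33 ++ (j9_696_34 ++ (j9_696_35 ++ (j9_696_36 ++ (j9_696_37 ++ (j9_696_38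 ++ (j9_696_39 ++ (j9_696_40 ++ (j9_696_41 ++ (j9_696_42 ++ (j9_696_43 ++ (j9_696_44 ++ (j9_696_45 ++ (j9_696_46 ++ (j9_696_47 ++ (j9_696_48 ++ (j9_696_49 ++ (j9_696_50 ++ (j9_696_51 ++ (j9_696_52 ++ (j9_696_53 ++ (j9_696_54 ++ (j9_696_55 ++ (j9_696_56 ++ (j9_696_57 ++ (j9_696_58 ++ (j9_696_59 ++ (j9_696_60 ++ (j9_696_61 ++ (j9_696_62 ++ (j9_696_63 ++ []))))))))))))))))))))))))))))))))))))))))))))))))))))))))))))))))
  (jobs_append t9_696_0 <| jobs_append t9_696_1 <| jobs_append t9_696_2 <| jobs_append t9_696_3 <| jobs_append t9_696_4 <| jobs_append t9_696_5 <| jobs_append t9_696_6 <| jobs_append t9_696_7 <| jobs_append t9_696_8 <| jobs_append t9_696_9 <| jobs_append t9_696_10 <| jobs_append t9_696_11 <| jobs_append t9_696_12 <| jobs_append t9_696_13 <| jobs_append t9_696_14 <| jobs_append t9_696_15 <| jobs_append t9_696_16 <| jobs_append t9_696_17 <| jobs_append t9_696_18 <| jobs_append t9_696_19 <| jobs_append t9_696_20 <| jobs_append t9_696_21 <| jobs_append t9_696_22 <| jobs_append t9_696_23 <| jobs_append t9_696_24 <|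 jobs_append t9_696_25 <| jobs_append t9_696_26 <| jobs_append t9_696_27 <| jobs_append t9_696_28 <| jobs_append t9_696_29 <| jobs_append t9_696_30 <| jobs_append t9_696_31 <| jobs_append t9_696_32 <| jobs_append t9_696_33 <| jobs_append t9_696_34 <| jobs_append t9_696_35 <| jobs_append t9_696_36 <| jobs_append t9_696_37 <| jobs_append t9_696_38 <| jobs_append t9_696_39 <| jobs_append t9_696_40 <| jobs_append t9_696_41 <| jobs_append t9_696_42 <| jobs_append t9_696_43 <| jobs_append t9_696_44 <| jobs_append t9_696_45 <| jobs_append t9_696_46 <| jobs_append t9_696_47 <| jobs_append t9_696_48 <| jobs_append t9_696_49 <| jobs_append t9_696_50 <| jobs_append t9_696_51 <| jobs_append t9_696_52 <| jobs_append t9_696_53 <| jobs_append t9_696_54 <| jobs_append t9_696_55 <| jobs_append t9_696_56 <| jobs_append t9_696_57 <| jobs_append t9_696_58 <| jobs_append t9_696_59 <| jobs_append t9_696_60 <| jobs_append t9_696_61 <| jobs_append t9_696_62 <| jobs_append t9_696_63 <| List.forall_mem_nil _) (by decide +kernel)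

noncomputable def j9_697_0 : List Job := [
  ⟨63, 0x484462915c80442815448261a0dc4022180cc2e15098440e0501, 0, 32, 0x0, []⟩]

theorem t9_697_0 : jobs 8 S9 b8_697 j9_697_0 = true := by decide +kernel

noncomputable def j9_697_1 : List Job := [
  ⟨62, 0x601028241a110a8643a21128a45a311a8e47c84462915c80442815448261a0dc4022180cc2e15098440e0501, 0, 32, 0x0, []⟩]

theorem t9_697_1 : jobs 8 S9 b8_697 j9_697_1 = true := by decide +kernel

noncomputable def j9_697_2 : List Job := [
  ⟨61, 0x4804222118a0522a15c48261a0dc4022180cc2e15098440e0501, 0, 32, 0x0, []⟩]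

theorem t9_697_2 : jobs 8 S9 b8_697 j9_697_2 = true := by decide +kernel

noncomputable def j9_697_3 : List Job := [
  ⟨60, 0x601028241a110a8643a21128a45a311a8e47c804222118a0522a15c48261a0dc4022180cc2e15098440e0501, 0, 32, 0x0, []⟩]

theorem t9_697_3 : jobs 8 S9 b8_697 j9_697_3 = true := by decide +kernel

noncomputable def j9_697_4 : List Job := [
  ⟨59, 0x4804222118a0522a15c48261a0dc4022180cc2e15098440e0501, 0, 32, 0x0, []⟩]

theorem t9_697_4 : jobs 8 S9 b8_697 j9_697_4 = true := by decide +kernel

noncomputable def j9_697_5 : List Job := [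
  ⟨58, 0x601028241a110a8643a21128a45a311a8e47c804222118a0522a15c48261a0dc4022180cc2e15098440e0501, 0, 32, 0x0, []⟩]

theorem t9_697_5 : jobs 8 S9 b8_697 j9_697_5 = true := by decide +kernel

noncomputable def j9_697_6 : List Job := [
  ⟨57, 0x484462815480442915c48261a0dc4022180cc2e15098440e0501, 0, 32, 0x0, []⟩]

theorem t9_697_6 : jobs 8 S9 b8_697 j9_697_6 = true := by decide +kernel

noncomputable def j9_697_7 : List Job := [
  ⟨56, 0x601028241a110a8643a21128a45a311a8e47c84462815480442915c48261a0dc4022180cc2e15098440e0501, 0, 32, 0x0, []⟩]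

theorem t9_697_7 : jobs 8 S9 b8_697 j9_697_7 = true := by decide +kernel

noncomputable def j9_697_8 : List Job := [
  ⟨55, 0x484462915c80442815448261a0dc4022180cc2e15098440e0501, 0, 32, 0x0, []⟩]

theorem t9_697_8 : jobs 8 S9 b8_697 j9_697_8 = true := by decide +kernel

noncomputable def j9_697_9 : List Job := [
  ⟨54, 0x601028241a110a8643a21128a45a311a8e47c84462915c80442815448261a0dc4022180cc2e15098440e0501, 0, 32, 0x0, []⟩]

theorem t9_697_9 : jobs 8 S9 b8_697 j9_697_9 = true := by decide +kernel

noncomputable def j9_697_10 : List Job := [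
  ⟨53, 0x4804222118a0522a15c48261a0dc4022180cc2e15098440e0501, 0, 32, 0x0, []⟩]

theorem t9_697_10 : jobs 8 S9 b8_697 j9_697_10 = true := by decide +kernel

noncomputable def j9_697_11 : List Job := [
  ⟨52, 0x601028241a110a8643a21128a45a311a8e47c804222118a0522a15c48261a0dc4022180cc2e15098440e0501, 0, 32, 0x0, []⟩]

theorem t9_697_11 : jobs 8 S9 b8_697 j9_697_11 = true := by decide +kernel

noncomputable def j9_697_12 : List Job := [
  ⟨51, 0x4804222118a0522a15c48261a0dc4022180cc2e15098440e0501, 0, 32, 0x0, []⟩]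

theorem t9_697_12 : jobs 8 S9 b8_697 j9_697_12 = true := by decide +kernel

noncomputable def j9_697_13 : List Job := [
  ⟨50, 0x601028241a110a8643a21128a45a311a8e47c804222118a0522a15c48261a0dc4022180cc2e15098440e0501, 0, 32, 0x0, []⟩]

theorem t9_697_13 : jobs 8 S9 b8_697 j9_697_13 = true := by decide +kernel

noncomputable def j9_697_14 : List Job := [
  ⟨49, 0x484462815480442915c48261a0dc4022180cc2e15098440e0501, 0, 32, 0x0, []⟩]

theorem t9_697_14 : jobs 8 S9 b8_697 j9_697_14 = true := by decide +kernel

noncomputable def j9_697_15 : List Job := [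
  ⟨48, 0x601028241a110a8643a21128a45a311a8e47c84462815480442915c48261a0dc4022180cc2e15098440e0501, 0, 32, 0x0, []⟩]

theorem t9_697_15 : jobs 8 S9 b8_697 j9_697_15 = true := by decide +kernel

noncomputable def j9_697_16 : List Job := [
  ⟨47, 0x484462915c80442815448261a0dc4022180cc2e15098440e0501, 0, 32, 0x0, []⟩]

theorem t9_697_16 : jobs 8 S9 b8_697 j9_697_16 = true := by decide +kernel

noncomputable def j9_697_17 : List Job := [
  ⟨46, 0x601028241a110a8643a21128a45a311a8e47c84462915c80442815448261a0dc4022180cc2e15098440e0501, 0, 32, 0x0, []⟩]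

theorem t9_697_17 : jobs 8 S9 b8_697 j9_697_17 = true := by decide +kernel

noncomputable def j9_697_18 : List Job := [
  ⟨45, 0x4804222118a0522a15c4c35120dc4431100cc2e15098440e0501, 0, 32, 0x0, []⟩]

theorem t9_697_18 : jobs 8 S9 b8_697 j9_697_18 = true := by decide +kernel

noncomputable def j9_697_19 : List Job := [
  ⟨44, 0x601028241a110a8643a21128a45a311a8e47c804222118a0522a15c4c35120dc4431100cc2e15098440e0501, 0, 32, 0x0, []⟩]

theorem t9_697_19 : jobs 8 S9 b8_697 j9_697_19 = true := by decide +kernel

noncomputable def j9_697_20 : List Job := [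
  ⟨43, 0x4804222118a0522a15c4c37120d44433100c42e15098440e0501, 0, 32, 0x0, []⟩]

theorem t9_697_20 : jobs 8 S9 b8_697 j9_697_20 = true := by decide +kernel

noncomputable def j9_697_21 : List Job := [
  ⟨42, 0x601028241a110a8643a21128a45a311a8e47c804222118a0522a15c4c37120d44433100c42e15098440e0501, 0, 32, 0x0, []⟩]

theorem t9_697_21 : jobs 8 S9 b8_697 j9_697_21 = true := by decide +kernel

noncomputable def j9_697_22 : List Job := [
  ⟨41, 0x484462815480442915c4c35120dc4431100cc2e15098440e0501, 0, 32, 0x0, []⟩]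

theorem t9_697_22 : jobs 8 S9 b8_697 j9_697_22 = true := by decide +kernel

noncomputable def j9_697_23 : List Job := [
  ⟨40, 0x601028241a110a8643a21128a45a311a8e47c84462815480442915c4c35120dc4431100cc2e15098440e0501, 0, 32, 0x0, []⟩]

theorem t9_697_23 : jobs 8 S9 b8_697 j9_697_23 = true := by decide +kernel

noncomputable def j9_697_24 : List Job := [
  ⟨39, 0x484462915c8044281544c37120d44433100c42e15098440e0501, 0, 32, 0x0, []⟩]

theorem t9_697_24 : jobs 8 S9 b8_697 j9_697_24 = true := by decide +kernel

noncomputable def j9_697_25 : List Job := [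
  ⟨38, 0x601028241a110a8643a21128a45a311a8e47c84462915c8044281544c37120d44433100c42e15098440e0501, 0, 72, 0x0, []⟩]

theorem t9_697_25 : jobs 8 S9 b8_697 j9_697_25 = true := by decide +kernel

noncomputable def j9_697_26 : List Job := [
  ⟨37, 0x508864623928964e27c804222118904a2613c703a1e0fc40221209c301b0a05c180f01, 0, 192, 0x20300040300060300080300220300240300260300280300420300440300460300480300620300640300660300680300c40300c80300ca0300ce0300d40300d80300da0300de0300e20300e60300ec0300f00300f20300f60300fc03010003012203012603013203013603016203016603017203017603, []⟩]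

theorem t9_697_26 : jobs 8 S9 b8_697 j9_697_26 = true := by decide +kernel

noncomputable def j9_697_27 : List Job := [
  ⟨36, 0x601028241a110a8643a21128a45a311a8e47d08864623928964e27c804222118904a2613c703a1e0fc40221209c301b0a05c180f01, 0, 192, 0x203000403000603000803002203002403002603002803004203004403004603004803006203006403006603006803008403008803008a03008e03009403009803009a03009e0300a20300a60300ac0300b00300b20300b60300bc0300c003012203012603013203013603016203016603017203017603, []⟩]

theorem t9_697_27 : jobs 8 S9 b8_697 j9_697_27 = true := by decide +kernel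

noncomputable def j9_697_28 : List Job := [
  ⟨35, 0x548a6542a960b25e2fd40a2562b968b65c2ed00824422920924c26c804222118904a2613c703a1e0fc40221209c301b0a05c180f01, 0, 192, 0x20300040300060300080300220300240300260300280300420300440300460300480300620300640300660300680300c20300c60300cc0300d00300d20300d60300dc0300e00300e40300e80300ea0300ee0300f40300f80300fa0300fe03010203010603011203011603014203014603015203015603, []⟩]

theorem t9_697_28 : jobs 8 S9 b8_697 j9_697_28 = true := by decide +kernel

noncomputable def j9_697_29 : List Job := [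
  ⟨34, 0x601028241a110a8643a21128a45a311a8e47d48a6542a960b25e2fd40a2562b968b65c2ed00824422920924c26c804222118904a2613c703a1e0fc40221209c301b0a05c180f01, 0, 192, 0x203000403000603000803002203002403002603002803004203004403004603004803006203006403006603006803008201008602008c02009001009201009603009c0300a00100a40100a80300aa0300ae0100b40100b80200ba0200be01010203010603011203011603014203014603015203015603, []⟩]

theorem t9_697_29 : jobs 8 S9 b8_697 j9_697_29 = true := by decide +kernel

noncomputable def j9_697_30 : List Job := [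
  ⟨33, 0x508864623928964e27c60321a0dc40221209c381f09844180f01, 0, 192, 0x821300921200a21200b213010212011213012213013212, []⟩]

theorem t9_697_30 : jobs 8 S9 b8_697 j9_697_30 = true := by decide +kernel

noncomputable def j9_697_31 : List Job := [
  ⟨32, 0x601028241a110a8643a21128a45a311a8e47d08864623928964e27c60321a0dc40221209c381f09844180f01, 0, 192, 0x821100921000a21000b211010210011211012211013210, []⟩]

theorem t9_697_31 : jobs 8 S9 b8_697 j9_697_31 = true := by decide +kernel

noncomputable def j9_697_32 : List Job := [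
  ⟨31, 0x548a6542a960b25e2fd40a2562b968b65c2ed00824422920924c26c60321a0dc40221209c381f09844180f01, 0, 192, 0x420300521100620300721000c21100d21000e21000f211, []⟩]

theorem t9_697_32 : jobs 8 S9 b8_697 j9_697_32 = true := by decide +kernel

noncomputable def j9_697_33 : List Job := [
  ⟨30, 0x601028241a110a8643a21128a45a311a8e47d48a6542a960b25e2fd40a2562b968b65c2ed00824422920924c26c60321a0dc40221209c381f09844180f01, 0, 192, 0x420300520300620300721200c20300d20300e20300f213, []⟩]

theorem t9_697_33 : jobs 8 S9 b8_697 j9_697_33 = true := by decide +kernel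

noncomputable def j9_697_34 : List Job := [
  ⟨29, 0x508864623928964e27ca0522a158b05a2e17c804222118904a2613c60321a0dc40221209c381f09844180f01, 0, 192, 0x821100921000a21000b211010210011211012211013210, []⟩]

theorem t9_697_34 : jobs 8 S9 b8_697 j9_697_34 = true := by decide +kernel

noncomputable def j9_697_35 : List Job := [
  ⟨28, 0x601028241a110a8643a21128a45a311a8e47d08864623928964e27ca0522a158b05a2e17c804222118904a2613c60321a0dc40221209c381f09844180f01, 0, 192, 0x821300921200a21200b213010212011213012213013212, []⟩]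

theorem t9_697_35 : jobs 8 S9 b8_697 j9_697_35 = true := by decide +kernel

noncomputable def j9_697_36 : List Job := [
  ⟨27, 0x548a6542a960b25e2fd40a2562b968b65c2ed00824422920924c26ca0522a158b05a2e17c804222118904a2613c60321a0dc40221209c381f09844180f01, 0, 192, 0x420300520300620300720300c20300d21200e21200f203, []⟩]

theorem t9_697_36 : jobs 8 S9 b8_697 j9_697_36 = true := by decide +kernel

noncomputable def j9_697_37 : List Job := [
  ⟨26, 0x601028241a110a8643a21128a45a311a8e47d48a6542a960b25e2fd40a2562b968b65c2ed00824422920924c26ca0522a158b05a2e17c804222118904a2613c60321a0dc40221209c381f09844180f01, 0, 192, 0x421000521100621100721000c21100d21000e21000f211, []⟩]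

theorem t9_697_37 : jobs 8 S9 b8_697 j9_697_37 = true := by decide +kernel

noncomputable def j9_697_38 : List Job := [
  ⟨25, 0x508864623928964e27c804222118904a2613c502a160bc40221209c381f0a05c160901, 0, 192, 0x420a00520b00620300720300c20300d20300e20b00f20a012401012801012c01013001013201013601013a01013e01, []⟩]

theorem t9_697_38 : jobs 8 S9 b8_697 j9_697_38 = true := by decide +kernel

noncomputable def j9_697_39 : List Job := [
  ⟨24, 0x601028241a110a8643a21128a45a311a8e47d08864623928964e27c804222118904a2613c502a160bc40221209c381f0a05c160901, 0, 192, 0x420800520900620800720300c20900d20800e20900f208010401010801010c01011001011201011601011a01011e01, []⟩]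

theorem t9_697_39 : jobs 8 S9 b8_697 j9_697_39 = true := by decide +kernel

noncomputable def j9_697_40 : List Job := [
  ⟨23, 0x548a6542a960b25e2fd40a2562b968b65c2ed00824422920924c26c804222118904a2613c502a160bc40221209c381f0a05c160901, 0, 192, 0x20300120b00220300320b00820b00920a00a20300b203012201012601012a01012e01013401013801013c01014001, []⟩]

theorem t9_697_40 : jobs 8 S9 b8_697 j9_697_40 = true := by decide +kernel

noncomputable def j9_697_41 : List Job := [
  ⟨22, 0x601028241a110a8643a21128a45a311a8e47d48a6542a960b25e2fd40a2562b968b65c2ed00824422920924c26c804222118904a2613c502a160bc40221209c381f0a05c160901, 0, 192, 0x20300120300220300320900820900920300a20300b203010201010601010a01010e01011401011801011c01012001, []⟩]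

theorem t9_697_41 : jobs 8 S9 b8_697 j9_697_41 = true := by decide +kernel

noncomputable def j9_697_42 : List Job := [
  ⟨21, 0x508864623928964e27c804222118904a2613c502a160bc40221209c381f0a05c160901, 0, 192, 0x420a00520b00620a00720300c20b00d20a00e20b00f20a012401012801012c01013001013201013601013a01013e01, []⟩]

theorem t9_697_42 : jobs 8 S9 b8_697 j9_697_42 = true := by decide +kernel

noncomputable def j9_697_43 : List Job := [
  ⟨20, 0x601028241a110a8643a21128a45a311a8e47d08864623928964e27c804222118904a2613c502a160bc40221209c381f0a05c160901, 0, 192, 0x420800520900620300720300c20300d20300e20900f208010401010801010c01011001011201011601011a01011e01, []⟩]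

theorem t9_697_43 : jobs 8 S9 b8_697 j9_697_43 = true := by decide +kernel

noncomputable def j9_697_44 : List Job := [
  ⟨19, 0x548a6542a960b25e2fd40a2562b968b65c2ed00824422920924c26c804222118904a2613c502a160bc40221209c381f0a05c160901, 0, 192, 0x20300120300220300320b00820b00920a00a20300b203012201012601012a01012e01013401013801013c01014001, []⟩]

theorem t9_697_44 : jobs 8 S9 b8_697 j9_697_44 = true := by decide +kernel

noncomputable def j9_697_45 : List Job := [
  ⟨18, 0x601028241a110a8643a21128a45a311a8e47d48a6542a960b25e2fd40a2562b968b65c2ed00824422920924c26c804222118904a2613c502a160bc40221209c381f0a05c160901, 0, 192, 0x20300120900220300320900820900920300a20900b203010201010601010a01010e01011401011801011c01012001, []⟩]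

theorem t9_697_45 : jobs 8 S9 b8_697 j9_697_45 = true := by decide +kernel

noncomputable def j9_697_46 : List Job := [
  ⟨17, 0x548a6542a960b25e2fd40a2562b968b65c2ed08864623928964e27c361909844160901, 0, 72, 0x0, []⟩]

theorem t9_697_46 : jobs 8 S9 b8_697 j9_697_46 = true := by decide +kernel

noncomputable def j9_697_47 : List Job := [
  ⟨16, 0x601028241a110a8643a21128a45a311a8e47d48a6542a960b25e2fd40a2562b968b65c2ed08864623928964e27c361909844160901, 0, 72, 0x0, []⟩]

theorem t9_697_47 : jobs 8 S9 b8_697 j9_697_47 = true := by decide +kernel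

noncomputable def j9_697_48 : List Job := [
  ⟨15, 0x5048849265008a4826c361909844160901, 0, 72, 0x0, []⟩]

theorem t9_697_48 : jobs 8 S9 b8_697 j9_697_48 = true := by decide +kernel

noncomputable def j9_697_49 : List Job := [
  ⟨14, 0x601028241a110a8643a21128a45a311a8e47d048849265008a4826c361909844160901, 0, 72, 0x0, []⟩]

theorem t9_697_49 : jobs 8 S9 b8_697 j9_697_49 = true := by decide +kernel

noncomputable def j9_697_50 : List Job := [
  ⟨13, 0x548a6542a960b25e2fd40a2562b968b65c2ed08864623928964e27c361909844160901, 0, 72, 0x0, []⟩]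

theorem t9_697_50 : jobs 8 S9 b8_697 j9_697_50 = true := by decide +kernel

noncomputable def j9_697_51 : List Job := [
  ⟨12, 0x601028241a110a8643a21128a45a311a8e47d48a6542a960b25e2fd40a2562b968b65c2ed08864623928964e27c361909844160901, 0, 72, 0x0, []⟩]

theorem t9_697_51 : jobs 8 S9 b8_697 j9_697_51 = true := by decide +kernel

noncomputable def j9_697_52 : List Job := [
  ⟨11, 0x5048a4926d008848264361909844160901, 0, 72, 0x0, []⟩]

theorem t9_697_52 : jobs 8 S9 b8_697 j9_697_52 = true := by decide +kernel

noncomputable def j9_697_53 : List Job := [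
  ⟨10, 0x601028241a110a8643a21128a45a311a8e47d048a4926d008848264361909844160901, 0, 72, 0x0, []⟩]

theorem t9_697_53 : jobs 8 S9 b8_697 j9_697_53 = true := by decide +kernel

noncomputable def j9_697_54 : List Job := [
  ⟨9, 0x548a6542a960b25e2fd40a2562b968b65c2ed08864623928964e27ca0522a158b05a2e17c804222118904a2613c361909844160901, 0, 72, 0x0, []⟩]

theorem t9_697_54 : jobs 8 S9 b8_697 j9_697_54 = true := by decide +kernel

noncomputable def j9_697_55 : List Job := [
  ⟨8, 0x601028241a110a8643a21128a45a311a8e47d48a6542a960b25e2fd40a2562b968b65c2ed08864623928964e27ca0522a158b05a2e17c804222118904a2613c361909844160901, 0, 72, 0x0, []⟩]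

theorem t9_697_55 : jobs 8 S9 b8_697 j9_697_55 = true := by decide +kernel

noncomputable def j9_697_56 : List Job := [
  ⟨7, 0x5048849265008a4826ca0522a158b05a2e17c804222118904a2613c361909844160901, 0, 72, 0x0, []⟩]

theorem t9_697_56 : jobs 8 S9 b8_697 j9_697_56 = true := by decide +kernel

noncomputable def j9_697_57 : List Job := [
  ⟨6, 0x601028241a110a8643a21128a45a311a8e47d048849265008a4826ca0522a158b05a2e17c804222118904a2613c361909844160901, 0, 72, 0x0, []⟩]

theorem t9_697_57 : jobs 8 S9 b8_697 j9_697_57 = true := by decide +kernel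

noncomputable def j9_697_58 : List Job := [
  ⟨5, 0x548a6542a960b25e2fd40a2562b968b65c2ed08864623928964e27ca0522a158b05a2e17c804222118904a2613c361909844160901, 0, 72, 0x0, []⟩]

theorem t9_697_58 : jobs 8 S9 b8_697 j9_697_58 = true := by decide +kernel

noncomputable def j9_697_59 : List Job := [
  ⟨4, 0x601028241a110a8643a21128a45a311a8e47d48a6542a960b25e2fd40a2562b968b65c2ed08864623928964e27ca0522a158b05a2e17c804222118904a2613c361909844160901, 0, 72, 0x0, []⟩]

theorem t9_697_59 : jobs 8 S9 b8_697 j9_697_59 = true := by decide +kernel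

noncomputable def j9_697_60 : List Job := [
  ⟨3, 0x5048a4926d008848264a0522a158b05a2e17c804222118904a2613c361909844160901, 0, 72, 0x0, []⟩]

theorem t9_697_60 : jobs 8 S9 b8_697 j9_697_60 = true := by decide +kernel

noncomputable def j9_697_61 : List Job := [
  ⟨2, 0x601028241a110a8643a21128a45a311a8e47d048a4926d008848264a0522a158b05a2e17c804222118904a2613c361909844160901, 0, 72, 0x0, []⟩]

theorem t9_697_61 : jobs 8 S9 b8_697 j9_697_61 = true := by decide +kernel

noncomputable def j9_697_62 : List Job := [
  ⟨1, 0x508864623928964e27c703a1e0fc60321a0dc502a160bc40221209c361909844160901, 0, 72, 0x0, []⟩]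

theorem t9_697_62 : jobs 8 S9 b8_697 j9_697_62 = true := by decide +kernel

noncomputable def j9_697_63 : List Job := [
  ⟨0, 0x601028241a110a8643a21128a45a311a8e47d08864623928964e27c703a1e0fc60321a0dc502a160bc40221209c361909844160901, 0, 72, 0x0, []⟩]

theorem t9_697_63 : jobs 8 S9 b8_697 j9_697_63 = true := by decide +kernel

theorem d9_697 : Dn 8 S9 b8_697 := dn_of (Js := j9_697_0 ++ (j9_697_1 ++ (j9_697_2 ++ (j9_697_3 ++ (j9_697_4 ++ (j9_697_5 ++ (j9_697_6 ++ (j9_697_7 ++ (j9_697_8 ++ (j9_697_9 ++ (j9_697_10 ++ (j9_697_11 ++ (j9_697_12 ++ (j9_697_13 ++ (j9_697_14 ++ (j9_697_15 ++ (j9_697_16 ++ (j9_697_17 ++ (j9_697_18 ++ (j9_697_19 ++ (j9_697_20 ++ (j9_697_21 ++ (j9_697_22 ++ (j9_697_23 ++ (j9_697_24 ++ (j9_697_25 ++ (j9_697_26 ++ (j9_697_27 ++ (j9_697_28 ++ (j9_697_29 ++ (j9_697_30 ++ (j9_697_31 ++ (j9_697_32 ++ (j9_697_33 ++ (j9_697_34 ++ (j9_697_35 ++ (j9_697_36 ++ (j9_697_37 ++ (j9_697_38 ++ (j9_697_39 ++ (j9_697_40 ++ (j9_697_41 ++ (j9_697_42 ++ (j9_697_43 ++ (j9_697_44 ++ (j9_697_45 ++ (j9_697_46 ++ (j9_697_47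 ++ (j9_697_48 ++ (j9_697_49 ++ (j9_697_50 ++ (j9_697_51 ++ (j9_697_52 ++ (j9_697_53 ++ (j9_697_54 ++ (j9_697_55 ++ (j9_697_56 ++ (j9_697_57 ++ (j9_697_58 ++ (j9_697_59 ++ (j9_697_60 ++ (j9_697_61 ++ (j9_697_62 ++ (j9_697_63 ++ []))))))))))))))))))))))))))))))))))))))))))))))))))))))))))))))))
  (jobs_append t9_697_0 <| jobs_append t9_697_1 <| jobs_append t9_697_2 <| jobs_append t9_697_3 <| jobs_append t9_697_4 <| jobs_append t9_697_5 <| jobs_append t9_697_6 <| jobs_append t9_697_7 <| jobs_append t9_697_8 <| jobs_append t9_697_9 <| jobs_append t9_697_10 <| jobs_append t9_697_11 <| jobs_append t9_697_12 <| jobs_append t9_697_13 <| jobs_append t9_697_14 <| jobs_append t9_697_15 <| jobs_append t9_697_16 <| jobs_append t9_697_17 <| jobs_append t9_697_18 <| jobs_append t9_697_19 <| jobs_append t9_697_20 <| jobs_append t9_697_21 <| jobs_append t9_697_22 <| jobs_append t9_697_23 <| jobs_append t9_697_24 <| jobs_append t9_697_25 <| jobs_append t9_697_26 <| jobs_append t9_697_27 <| jobs_append t9_697_28 <| jobs_append t9_697_29 <|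 jobs_append t9_697_30 <| jobs_append t9_697_31 <| jobs_append t9_697_32 <| jobs_append t9_697_33 <| jobs_append t9_697_34 <| jobs_append t9_697_35 <| jobs_append t9_697_36 <| jobs_append t9_697_37 <| jobs_append t9_697_38 <| jobs_append t9_697_39 <| jobs_append t9_697_40 <| jobs_append t9_697_41 <| jobs_append t9_697_42 <| jobs_append t9_697_43 <| jobs_append t9_697_44 <| jobs_append t9_697_45 <| jobs_append t9_697_46 <| jobs_append t9_697_47 <| jobs_append t9_697_48 <| jobs_append t9_697_49 <| jobs_append t9_697_50 <| jobs_append t9_697_51 <| jobs_append t9_697_52 <| jobs_append t9_697_53 <| jobs_append t9_697_54 <| jobs_append t9_697_55 <| jobs_append t9_697_56 <| jobs_append t9_697_57 <| jobs_append t9_697_58 <| jobs_append t9_697_59 <| jobs_append t9_697_60 <| jobs_append t9_697_61 <| jobs_append t9_697_62 <| jobs_append t9_697_63 <| List.forall_mem_nil _) (by decide +kernel)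

noncomputable def j9_698_0 : List Job := [
  ⟨63, 0x601028241a110a8643a21128a45a311a8e47d008242219108a4623920924a259309a4e27c804222118904a2613c502a160bc40221209c1e0d058240e0501, 0, 50, 0x0, []⟩]

theorem t9_698_0 : jobs 8 S9 b8_698 j9_698_0 = true := by decide +kernel

noncomputable def j9_698_1 : List Job := [
  ⟨62, 0x484442513480462413c502a160bc40221209c1e0d058240e0501, 0, 50, 0x0, []⟩]

theorem t9_698_1 : jobs 8 S9 b8_698 j9_698_1 = true := by decide +kernel

noncomputable def j9_698_2 : List Job := [
  ⟨61, 0x5008242219108a4623920924a259309a4e27c84442513480462413c502a160bc40221209c1e0d058240e0501, 0, 72, 0x0, []⟩]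

theorem t9_698_2 : jobs 8 S9 b8_698 j9_698_2 = true := by decide +kernel

noncomputable def j9_698_3 : List Job := [
  ⟨60, 0x601028241a110a8643a21128a45a311a8e47d008242219108a4623920924a259309a4e27c84442513480462413c502a160bc40221209c1e0d058240e0501, 0, 50, 0x0, []⟩]

theorem t9_698_3 : jobs 8 S9 b8_698 j9_698_3 = true := by decide +kernel

noncomputable def j9_698_4 : List Job := [
  ⟨59, 0x4804222118904a2613c502a160bc40221209c1e0d058240e0501, 0, 72, 0x0, []⟩]

theorem t9_698_4 : jobs 8 S9 b8_698 j9_698_4 = true := by decide +kernel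

noncomputable def j9_698_5 : List Job := [
  ⟨58, 0x601028241a110a8643a21128a45a311a8e47c804222118904a2613c502a160bc40221209c1e0d058240e0501, 0, 72, 0x0, []⟩]

theorem t9_698_5 : jobs 8 S9 b8_698 j9_698_5 = true := by decide +kernel

noncomputable def j9_698_6 : List Job := [
  ⟨57, 0x5008242219108a4623920924a259309a4e27c804222118904a2613c502a160bc40221209c1e0d058240e0501, 0, 72, 0x0, []⟩]

theorem t9_698_6 : jobs 8 S9 b8_698 j9_698_6 = true := by decide +kernel

noncomputable def j9_698_7 : List Job := [
  ⟨56, 0x601028241a110a8643a21128a45a311a8e47d008242219108a4623920924a259309a4e27c804222118904a2613c502a160bc40221209c1e0d058240e0501, 0, 72, 0x0, []⟩]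

theorem t9_698_7 : jobs 8 S9 b8_698 j9_698_7 = true := by decide +kernel

noncomputable def j9_698_8 : List Job := [
  ⟨55, 0x484442513480462413c502a160bc40221209c1e0d058240e0501, 0, 72, 0x0, []⟩]

theorem t9_698_8 : jobs 8 S9 b8_698 j9_698_8 = true := by decide +kernel

noncomputable def j9_698_9 : List Job := [
  ⟨54, 0x601028241a110a8643a21128a45a311a8e47c84442513480462413c502a160bc40221209c1e0d058240e0501, 0, 72, 0x0, []⟩]

theorem t9_698_9 : jobs 8 S9 b8_698 j9_698_9 = true := by decide +kernel

noncomputable def j9_698_10 : List Job := [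
  ⟨53, 0x5008242219108a4623920924a259309a4e27c84442513480462413c502a160bc40221209c1e0d058240e0501, 0, 72, 0x0, []⟩]

theorem t9_698_10 : jobs 8 S9 b8_698 j9_698_10 = true := by decide +kernel

noncomputable def j9_698_11 : List Job := [
  ⟨52, 0x601028241a110a8643a21128a45a311a8e47d008242219108a4623920924a259309a4e27c84442513480462413c502a160bc40221209c1e0d058240e0501, 0, 72, 0x0, []⟩]

theorem t9_698_11 : jobs 8 S9 b8_698 j9_698_11 = true := by decide +kernel

noncomputable def j9_698_12 : List Job := [
  ⟨51, 0x4804222118904a2613c542f140b44427100941e0d058240e0501, 0, 50, 0x2a02002e02003202003602003a02003e02004202004602004a02004e02005202005602, []⟩]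

theorem t9_698_12 : jobs 8 S9 b8_698 j9_698_12 = true := by decide +kernel

noncomputable def j9_698_13 : List Job := [
  ⟨50, 0x5008242219108a4623920924a259309a4e27c804222118904a2613c542f140b44427100941e0d058240e0501, 0, 72, 0x4202004602004a02004e02005202005602005a02005e0b00620200660b006a02006e0a00720b00760a007a02007e02, []⟩]

theorem t9_698_13 : jobs 8 S9 b8_698 j9_698_13 = true := by decide +kernel

noncomputable def j9_698_14 : List Job := [
  ⟨49, 0x601028241a110a8643a21128a45a311a8e47d008242219108a4623920924a259309a4e27c804222118904a2613c542f140b44427100941e0d058240e0501, 0, 50, 0x2a02002e02003209003609003a02003e02004202004602004a02004e02005202005602, []⟩]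

theorem t9_698_14 : jobs 8 S9 b8_698 j9_698_14 = true := by decide +kernel

noncomputable def j9_698_15 : List Job := [
  ⟨48, 0x484462513c804424134542f140b44427100941e0d058240e0501, 0, 50, 0x2a0a002e02003202003602003a02003e0200420200460b004a02004e0200520a005602, []⟩]

theorem t9_698_15 : jobs 8 S9 b8_698 j9_698_15 = true := by decide +kernel

noncomputable def j9_698_16 : List Job := [
  ⟨47, 0x5008242219108a4623920924a259309a4e27c84462513c804424134542f140b44427100941e0d058240e0501, 0, 72, 0x4202004602004a02004e02005202005602005a08005e09006202006602006a02006e02007209007608007a02007e02, []⟩]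

theorem t9_698_16 : jobs 8 S9 b8_698 j9_698_16 = true := by decide +kernel

noncomputable def j9_698_17 : List Job := [
  ⟨46, 0x601028241a110a8643a21128a45a311a8e47d008242219108a4623920924a259309a4e27c84462513c804424134542f140b44427100941e0d058240e0501, 0, 85, 0x5e02006202006609006a08006e02007208007602007a09007e02008202008608008a02009a01009c0100a601, []⟩]

theorem t9_698_17 : jobs 8 S9 b8_698 j9_698_17 = true := by decide +kernel

noncomputable def j9_698_18 : List Job := [
  ⟨45, 0x4804222118a0522a15c582e1e0fc4022180cc381f09844180f01, 0, 128, 0x0, []⟩]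

theorem t9_698_18 : jobs 8 S9 b8_698 j9_698_18 = true := by decide +kernel

noncomputable def j9_698_19 : List Job := [
  ⟨44, 0x601028241a110a8643a21128a45a311a8e47c804222118a0522a15c582e1e0fc4022180cc381f09844180f01, 0, 128, 0x0, []⟩]

theorem t9_698_19 : jobs 8 S9 b8_698 j9_698_19 = true := by decide +kernel

noncomputable def j9_698_20 : List Job := [
  ⟨43, 0x4804222118a0522a15c582e1e0fc4022180cc381f09844180f01, 0, 128, 0x0, []⟩]

theorem t9_698_20 : jobs 8 S9 b8_698 j9_698_20 = true := by decide +kernel

noncomputable def j9_698_21 : List Job := [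
  ⟨42, 0x601028241a110a8643a21128a45a311a8e47c804222118a0522a15c582e1e0fc4022180cc381f09844180f01, 0, 128, 0x0, []⟩]

theorem t9_698_21 : jobs 8 S9 b8_698 j9_698_21 = true := by decide +kernel

noncomputable def j9_698_22 : List Job := [
  ⟨41, 0x4804222118a0522a15c582e1e0fc4431100cc381f09844180f01, 0, 128, 0x0, []⟩]

theorem t9_698_22 : jobs 8 S9 b8_698 j9_698_22 = true := by decide +kernel

noncomputable def j9_698_23 : List Job := [
  ⟨40, 0x601028241a110a8643a21128a45a311a8e47c804222118a0522a15c582e1e0fc4431100cc381f09844180f01, 0, 128, 0x0, []⟩]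

theorem t9_698_23 : jobs 8 S9 b8_698 j9_698_23 = true := by decide +kernel

noncomputable def j9_698_24 : List Job := [
  ⟨39, 0x4804222118a0522a15c582e1e0fc4433100c4381f09844180f01, 0, 128, 0x0, []⟩]

theorem t9_698_24 : jobs 8 S9 b8_698 j9_698_24 = true := by decide +kernel

noncomputable def j9_698_25 : List Job := [
  ⟨38, 0x601028241a110a8643a21128a45a311a8e47c804222118a0522a15c582e1e0fc4433100c4381f09844180f01, 0, 128, 0x0, []⟩]

theorem t9_698_25 : jobs 8 S9 b8_698 j9_698_25 = true := by decide +kernel

noncomputable def j9_698_26 : List Job := [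
  ⟨37, 0x4502a1c0ec4022180cc361909844160901, 0, 32, 0x0, []⟩]

theorem t9_698_26 : jobs 8 S9 b8_698 j9_698_26 = true := by decide +kernel

noncomputable def j9_698_27 : List Job := [
  ⟨36, 0x601028241a110a8643a21128a45a311a8e47c502a1c0ec4022180cc361909844160901, 0, 32, 0x0, []⟩]

theorem t9_698_27 : jobs 8 S9 b8_698 j9_698_27 = true := by decide +kernel

noncomputable def j9_698_28 : List Job := [
  ⟨35, 0x4502a1c0ec4022180cc361909844160901, 0, 32, 0x0, []⟩]

theorem t9_698_28 : jobs 8 S9 b8_698 j9_698_28 = true := by decide +kernel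

noncomputable def j9_698_29 : List Job := [
  ⟨34, 0x601028241a110a8643a21128a45a311a8e47c502a1c0ec4022180cc361909844160901, 0, 32, 0x0, []⟩]

theorem t9_698_29 : jobs 8 S9 b8_698 j9_698_29 = true := by decide +kernel

noncomputable def j9_698_30 : List Job := [
  ⟨33, 0x4904a26138b05a2e17c804222118a0522a15c502a1c0ec4022180cc361909844160901, 0, 32, 0x0, []⟩]

theorem t9_698_30 : jobs 8 S9 b8_698 j9_698_30 = true := by decide +kernel

noncomputable def j9_698_31 : List Job := [
  ⟨32, 0x601028241a110a8643a21128a45a311a8e47c904a26138b05a2e17c804222118a0522a15c502a1c0ec4022180cc361909844160901, 0, 32, 0x0, []⟩]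

theorem t9_698_31 : jobs 8 S9 b8_698 j9_698_31 = true := by decide +kernel

noncomputable def j9_698_32 : List Job := [
  ⟨31, 0x4904a26138b05a2e17c804222118a0522a15c502a1c0ec4022180cc361909844160901, 0, 32, 0x0, []⟩]

theorem t9_698_32 : jobs 8 S9 b8_698 j9_698_32 = true := by decide +kernel

noncomputable def j9_698_33 : List Job := [
  ⟨30, 0x601028241a110a8643a21128a45a311a8e47c904a26138b05a2e17c804222118a0522a15c502a1c0ec4022180cc361909844160901, 0, 32, 0x0, []⟩]

theorem t9_698_33 : jobs 8 S9 b8_698 j9_698_33 = true := by decide +kernel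

noncomputable def j9_698_34 : List Job := [
  ⟨29, 0x4502a1c0ec4022180cc361909844160901, 0, 32, 0x0, []⟩]

theorem t9_698_34 : jobs 8 S9 b8_698 j9_698_34 = true := by decide +kernel

noncomputable def j9_698_35 : List Job := [
  ⟨28, 0x601028241a110a8643a21128a45a311a8e47c502a1c0ec4022180cc361909844160901, 0, 32, 0x0, []⟩]

theorem t9_698_35 : jobs 8 S9 b8_698 j9_698_35 = true := by decide +kernel

noncomputable def j9_698_36 : List Job := [
  ⟨27, 0x4502a1c0ec4022180cc361909844160901, 0, 32, 0x0, []⟩]

theorem t9_698_36 : jobs 8 S9 b8_698 j9_698_36 = true := by decide +kernel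

noncomputable def j9_698_37 : List Job := [
  ⟨26, 0x601028241a110a8643a21128a45a311a8e47c502a1c0ec4022180cc361909844160901, 0, 32, 0x0, []⟩]

theorem t9_698_37 : jobs 8 S9 b8_698 j9_698_37 = true := by decide +kernel

noncomputable def j9_698_38 : List Job := [
  ⟨25, 0x4904a26138b05a2e17c804222118a0522a15c502a1c0ec4022180cc361909844160901, 0, 32, 0x0, []⟩]

theorem t9_698_38 : jobs 8 S9 b8_698 j9_698_38 = true := by decide +kernel

noncomputable def j9_698_39 : List Job := [
  ⟨24, 0x601028241a110a8643a21128a45a311a8e47c904a26138b05a2e17c804222118a0522a15c502a1c0ec4022180cc361909844160901, 0, 32, 0x0, []⟩]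

theorem t9_698_39 : jobs 8 S9 b8_698 j9_698_39 = true := by decide +kernel

noncomputable def j9_698_40 : List Job := [
  ⟨23, 0x4904a26138b05a2e17c804222118a0522a15c502a1c0ec4022180cc361909844160901, 0, 32, 0x0, []⟩]

theorem t9_698_40 : jobs 8 S9 b8_698 j9_698_40 = true := by decide +kernel

noncomputable def j9_698_41 : List Job := [
  ⟨22, 0x601028241a110a8643a21128a45a311a8e47c904a26138b05a2e17c804222118a0522a15c502a1c0ec4022180cc361909844160901, 0, 32, 0x0, []⟩]

theorem t9_698_41 : jobs 8 S9 b8_698 j9_698_41 = true := by decide +kernel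

noncomputable def j9_698_42 : List Job := [
  ⟨21, 0x4502a1c0ec4022180cc361909844160901, 0, 32, 0x0, []⟩]

theorem t9_698_42 : jobs 8 S9 b8_698 j9_698_42 = true := by decide +kernel

noncomputable def j9_698_43 : List Job := [
  ⟨20, 0x601028241a110a8643a21128a45a311a8e47c502a1c0ec4022180cc361909844160901, 0, 32, 0x0, []⟩]

theorem t9_698_43 : jobs 8 S9 b8_698 j9_698_43 = true := by decide +kernel

noncomputable def j9_698_44 : List Job := [
  ⟨19, 0x4502a1c0ec4022180cc361909844160901, 0, 32, 0x0, []⟩]

theorem t9_698_44 : jobs 8 S9 b8_698 j9_698_44 = true := by decide +kernel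

noncomputable def j9_698_45 : List Job := [
  ⟨18, 0x601028241a110a8643a21128a45a311a8e47c502a1c0ec4022180cc361909844160901, 0, 32, 0x0, []⟩]

theorem t9_698_45 : jobs 8 S9 b8_698 j9_698_45 = true := by decide +kernel

noncomputable def j9_698_46 : List Job := [
  ⟨17, 0x4904a26138b05a2e17c804222118a0522a15c502a1c0ec4022180cc361909844160901, 0, 32, 0x0, []⟩]

theorem t9_698_46 : jobs 8 S9 b8_698 j9_698_46 = true := by decide +kernel

noncomputable def j9_698_47 : List Job := [
  ⟨16, 0x601028241a110a8643a21128a45a311a8e47c904a26138b05a2e17c804222118a0522a15c502a1c0ec4022180cc361909844160901, 0, 32, 0x0, []⟩]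

theorem t9_698_47 : jobs 8 S9 b8_698 j9_698_47 = true := by decide +kernel

noncomputable def j9_698_48 : List Job := [
  ⟨15, 0x4904a26138b05a2e17c804222118a0522a15c502a1c0ec4022180cc361909844160901, 0, 32, 0x0, []⟩]

theorem t9_698_48 : jobs 8 S9 b8_698 j9_698_48 = true := by decide +kernel

noncomputable def j9_698_49 : List Job := [
  ⟨14, 0x601028241a110a8643a21128a45a311a8e47c904a26138b05a2e17c804222118a0522a15c502a1c0ec4022180cc361909844160901, 0, 32, 0x0, []⟩]

theorem t9_698_49 : jobs 8 S9 b8_698 j9_698_49 = true := by decide +kernel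

noncomputable def j9_698_50 : List Job := [
  ⟨13, 0x45439140ec4431100cc361909844160901, 0, 32, 0x0, []⟩]

theorem t9_698_50 : jobs 8 S9 b8_698 j9_698_50 = true := by decide +kernel

noncomputable def j9_698_51 : List Job := [
  ⟨12, 0x601028241a110a8643a21128a45a311a8e47c5439140ec4431100cc361909844160901, 0, 32, 0x0, []⟩]

theorem t9_698_51 : jobs 8 S9 b8_698 j9_698_51 = true := by decide +kernel

noncomputable def j9_698_52 : List Job := [
  ⟨11, 0x4543b140e44433100c4361909844160901, 0, 32, 0x0, []⟩]

theorem t9_698_52 : jobs 8 S9 b8_698 j9_698_52 = true := by decide +kernel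

noncomputable def j9_698_53 : List Job := [
  ⟨10, 0x601028241a110a8643a21128a45a311a8e47c543b140e44433100c4361909844160901, 0, 32, 0x0, []⟩]

theorem t9_698_53 : jobs 8 S9 b8_698 j9_698_53 = true := by decide +kernel

noncomputable def j9_698_54 : List Job := [
  ⟨9, 0x4904a26138b05a2e17c804222118a0522a15c5439140ec4431100cc361909844160901, 0, 32, 0x0, []⟩]

theorem t9_698_54 : jobs 8 S9 b8_698 j9_698_54 = true := by decide +kernel

noncomputable def j9_698_55 : List Job := [
  ⟨8, 0x601028241a110a8643a21128a45a311a8e47c904a26138b05a2e17c804222118a0522a15c5439140ec4431100cc361909844160901, 0, 32, 0x0, []⟩]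

theorem t9_698_55 : jobs 8 S9 b8_698 j9_698_55 = true := by decide +kernel

noncomputable def j9_698_56 : List Job := [
  ⟨7, 0x4904a26138b05a2e17c804222118a0522a15c543b140e44433100c4361909844160901, 0, 32, 0x0, []⟩]

theorem t9_698_56 : jobs 8 S9 b8_698 j9_698_56 = true := by decide +kernel

noncomputable def j9_698_57 : List Job := [
  ⟨6, 0x601028241a110a8643a21128a45a311a8e47c904a26138b05a2e17c804222118a0522a15c543b140e44433100c4361909844160901, 0, 72, 0x0, []⟩]

theorem t9_698_57 : jobs 8 S9 b8_698 j9_698_57 = true := by decide +kernel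

noncomputable def j9_698_58 : List Job := [
  ⟨5, 0x4804222118a0522a15c48261a0dc4022180cc2e15098440e0501, 0, 32, 0x0, []⟩]

theorem t9_698_58 : jobs 8 S9 b8_698 j9_698_58 = true := by decide +kernel

noncomputable def j9_698_59 : List Job := [
  ⟨4, 0x601028241a110a8643a21128a45a311a8e47c804222118a0522a15c48261a0dc4022180cc2e15098440e0501, 0, 32, 0x0, []⟩]

theorem t9_698_59 : jobs 8 S9 b8_698 j9_698_59 = true := by decide +kernel

noncomputable def j9_698_60 : List Job := [
  ⟨3, 0x4804222118a0522a15c48261a0dc4022180cc2e15098440e0501, 0, 32, 0x0, []⟩]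

theorem t9_698_60 : jobs 8 S9 b8_698 j9_698_60 = true := by decide +kernel

noncomputable def j9_698_61 : List Job := [
  ⟨2, 0x601028241a110a8643a21128a45a311a8e47c804222118a0522a15c48261a0dc4022180cc2e15098440e0501, 0, 32, 0x0, []⟩]

theorem t9_698_61 : jobs 8 S9 b8_698 j9_698_61 = true := by decide +kernel

noncomputable def j9_698_62 : List Job := [
  ⟨1, 0x484462815480442915c48261a0dc4022180cc2e15098440e0501, 0, 32, 0x0, []⟩]

theorem t9_698_62 : jobs 8 S9 b8_698 j9_698_62 = true := by decide +kernel

noncomputable def j9_698_63 : List Job := [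
  ⟨0, 0x601028241a110a8643a21128a45a311a8e47c84462815480442915c48261a0dc4022180cc2e15098440e0501, 0, 32, 0x0, []⟩]

theorem t9_698_63 : jobs 8 S9 b8_698 j9_698_63 = true := by decide +kernel

theorem d9_698 : Dn 8 S9 b8_698 := dn_of (Js := j9_698_0 ++ (j9_698_1 ++ (j9_698_2 ++ (j9_698_3 ++ (j9_698_4 ++ (j9_698_5 ++ (j9_698_6 ++ (j9_698_7 ++ (j9_698_8 ++ (j9_698_9 ++ (j9_698_10 ++ (j9_698_11 ++ (j9_698_12 ++ (j9_698_13 ++ (j9_698_14 ++ (j9_698_15 ++ (j9_698_16 ++ (j9_698_17 ++ (j9_698_18 ++ (j9_698_19 ++ (j9_698_20 ++ (j9_698_21 ++ (j9_698_22 ++ (j9_698_23 ++ (j9_698_24 ++ (j9_698_25 ++ (j9_698_26 ++ (j9_698_27 ++ (j9_698_28 ++ (j9_698_29 ++ (j9_698_30 ++ (j9_698_31 ++ (j9_698_32 ++ (j9_698_33 ++ (j9_698_34 ++ (j9_698_35 ++ (j9_698_36 ++ (j9_698_37 ++ (j9_698_38 ++ (j9_698_39 ++ (j9_698_40 ++ (j9_698_41 ++ (j9_698_42 ++ (j9_698_43 ++ (j9_698_44 ++ (j9_698_45 ++ (j9_698_46 ++ (j9_698_47 ++ (j9_698_48 ++ (j9_698_49 ++ (j9_698_50 ++ (j9_698_51 ++ (j9_698_52 ++ (j9_698_53 ++ (j9_698_54 ++ (j9_698_55 ++ (j9_698_56 ++ (j9_698_57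 ++ (j9_698_58 ++ (j9_698_59 ++ (j9_698_60 ++ (j9_698_61 ++ (j9_698_62 ++ (j9_698_63 ++ []))))))))))))))))))))))))))))))))))))))))))))))))))))))))))))))))
  (jobs_append t9_698_0 <| jobs_append t9_698_1 <| jobs_append t9_698_2 <| jobs_append t9_698_3 <| jobs_append t9_698_4 <| jobs_append t9_698_5 <| jobs_append t9_698_6 <| jobs_append t9_698_7 <| jobs_append t9_698_8 <| jobs_append t9_698_9 <| jobs_append t9_698_10 <| jobs_append t9_698_11 <| jobs_append t9_698_12 <| jobs_append t9_698_13 <| jobs_append t9_698_14 <| jobs_append t9_698_15 <| jobs_append t9_698_16 <| jobs_append t9_698_17 <| jobs_append t9_698_18 <| jobs_append t9_698_19 <| jobs_append t9_698_20 <| jobs_append t9_698_21 <| jobs_append t9_698_22 <| jobs_append t9_698_23 <| jobs_append t9_698_24 <| jobs_append t9_698_25 <| jobs_append t9_698_26 <| jobs_append t9_698_27 <| jobs_append t9_698_28 <| jobs_append t9_698_29 <| jobs_append t9_698_30 <| jobs_append t9_698_31 <| jobs_append t9_698_32 <| jobs_append t9_698_33 <| jobs_append t9_698_34 <| jobs_append t9_698_35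 <| jobs_append t9_698_36 <| jobs_append t9_698_37 <| jobs_append t9_698_38 <| jobs_append t9_698_39 <| jobs_append t9_698_40 <| jobs_append t9_698_41 <| jobs_append t9_698_42 <| jobs_append t9_698_43 <| jobs_append t9_698_44 <| jobs_append t9_698_45 <| jobs_append t9_698_46 <| jobs_append t9_698_47 <| jobs_append t9_698_48 <| jobs_append t9_698_49 <| jobs_append t9_698_50 <| jobs_append t9_698_51 <| jobs_append t9_698_52 <| jobs_append t9_698_53 <| jobs_append t9_698_54 <| jobs_append t9_698_55 <| jobs_append t9_698_56 <| jobs_append t9_698_57 <| jobs_append t9_698_58 <| jobs_append t9_698_59 <| jobs_append t9_698_60 <| jobs_append t9_698_61 <| jobs_append t9_698_62 <| jobs_append t9_698_63 <| List.forall_mem_nil _) (by decide +kernel)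

noncomputable def j9_699_0 : List Job := [
  ⟨63, 0x460321a0dc40221209c381f09844180f01, 0, 120, 0x2a03003610004213004e03005a03006a11007a11008a03009a0300a61000b21000be03, []⟩]

theorem t9_699_0 : jobs 8 S9 b8_699 j9_699_0 = true := by decide +kernel

noncomputable def j9_699_1 : List Job := [
  ⟨62, 0x5008242219108a4623920924a259309a4e27c60321a0dc40221209c381f09844180f01, 0, 192, 0x420300521200621100720300820300921300a21000b20300c20300d21300e21300f203010203011212012212013203, []⟩]

theorem t9_699_1 : jobs 8 S9 b8_699 j9_699_1 = true := by decide +kernel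

noncomputable def j9_699_2 : List Job := [
  ⟨61, 0x601028241a110a8643a21128a45a311a8e47d008242219108a4623920924a259309a4e27c60321a0dc40221209c381f09844180f01, 0, 120, 0x2a03003610004213004e03005a03006a11007a12008a03009a0300a61000b21300be03, []⟩]

theorem t9_699_2 : jobs 8 S9 b8_699 j9_699_2 = true := by decide +kernel

noncomputable def j9_699_3 : List Job := [
  ⟨60, 0x4a0522a158b05a2e17c804222118904a2613c60321a0dc40221209c381f09844180f01, 0, 120, 0x2a10003603004203004e10005a12006a03007a03008a12009a1300a60300b20300be13, []⟩]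

theorem t9_699_3 : jobs 8 S9 b8_699 j9_699_3 = true := by decide +kernel

noncomputable def j9_699_4 : List Job := [
  ⟨59, 0x5008242219108a4623920924a259309a4e27ca0522a158b05a2e17c804222118904a2613c60321a0dc40221209c381f09844180f01, 0, 192, 0x421200520300620300721200821300920300a20300b21300c21000d20300e20300f210010211011203012203013211, []⟩]

theorem t9_699_4 : jobs 8 S9 b8_699 j9_699_4 = true := by decide +kernel

noncomputable def j9_699_5 : List Job := [
  ⟨58, 0x601028241a110a8643a21128a45a311a8e47d008242219108a4623920924a259309a4e27ca0522a158b05a2e17c804222118904a2613c60321a0dc40221209c381f09844180f01, 0, 120, 0x2a10003603004203004e10005a11006a03007a03008a11009a1000a60300b20300be10, []⟩]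

theorem t9_699_5 : jobs 8 S9 b8_699 j9_699_5 = true := by decide +kernel

noncomputable def j9_699_6 : List Job := [
  ⟨57, 0x4804222118904a2613c502a160bc40221209c381f0a05c160901, 0, 120, 0x203000e03001a03002603003203004208005203006203007203007e03008a03009603, []⟩]

theorem t9_699_6 : jobs 8 S9 b8_699 j9_699_6 = true := by decide +kernel

noncomputable def j9_699_7 : List Job := [
  ⟨56, 0x5008242219108a4623920924a259309a4e27c804222118904a2613c502a160bc40221209c381f0a05c160901, 0, 192, 0x20a00120b00220300320300420a00520300620a00720300820300920300a20300b20300c20300d20a00e20300f203, []⟩]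

theorem t9_699_7 : jobs 8 S9 b8_699 j9_699_7 = true := by decide +kernel

noncomputable def j9_699_8 : List Job := [
  ⟨55, 0x601028241a110a8643a21128a45a311a8e47d008242219108a4623920924a259309a4e27c804222118904a2613c502a160bc40221209c381f0a05c160901, 0, 120, 0x203000e09001a03002609003203004203005203006203007203007e03008a03009603, []⟩]

theorem t9_699_8 : jobs 8 S9 b8_699 j9_699_8 = true := by decide +kernel

noncomputable def j9_699_9 : List Job := [
  ⟨54, 0x4804222118904a2613c502a160bc40221209c381f0a05c160901, 0, 120, 0x203000e0b001a0300260300320300420a00520300620b00720b007e03008a03009603, []⟩]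

theorem t9_699_9 : jobs 8 S9 b8_699 j9_699_9 = true := by decide +kernel

noncomputable def j9_699_10 : List Job := [
  ⟨53, 0x5008242219108a4623920924a259309a4e27c804222118904a2613c502a160bc40221209c381f0a05c160901, 0, 192, 0x20300120300220300320300420900520300620800720300820300920300a20300b20300c20300d20300e20300f203, []⟩]

theorem t9_699_10 : jobs 8 S9 b8_699 j9_699_10 = true := by decide +kernel

noncomputable def j9_699_11 : List Job := [
  ⟨52, 0x601028241a110a8643a21128a45a311a8e47d008242219108a4623920924a259309a4e27c804222118904a2613c502a160bc40221209c381f0a05c160901, 0, 120, 0x203000e09001a03002608003203004203005208006209007203007e08008a03009603, []⟩]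

theorem t9_699_11 : jobs 8 S9 b8_699 j9_699_11 = true := by decide +kernel

noncomputable def j9_699_12 : List Job := [
  ⟨51, 0x4361909844160901, 0, 46, 0x0, []⟩]

theorem t9_699_12 : jobs 8 S9 b8_699 j9_699_12 = true := by decide +kernel

noncomputable def j9_699_13 : List Job := [
  ⟨50, 0x5008242219108a4623920924a259309a4e27c361909844160901, 0, 72, 0x0, []⟩]

theorem t9_699_13 : jobs 8 S9 b8_699 j9_699_13 = true := by decide +kernel

noncomputable def j9_699_14 : List Job := [
  ⟨49, 0x601028241a110a8643a21128a45a311a8e47d008242219108a4623920924a259309a4e27c361909844160901, 0, 46, 0x0, []⟩]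

theorem t9_699_14 : jobs 8 S9 b8_699 j9_699_14 = true := by decide +kernel

noncomputable def j9_699_15 : List Job := [
  ⟨48, 0x4361909844160901, 0, 46, 0x0, []⟩]

theorem t9_699_15 : jobs 8 S9 b8_699 j9_699_15 = true := by decide +kernel

noncomputable def j9_699_16 : List Job := [
  ⟨47, 0x5008242219108a4623920924a259309a4e27c361909844160901, 0, 72, 0x0, []⟩]

theorem t9_699_16 : jobs 8 S9 b8_699 j9_699_16 = true := by decide +kernel

noncomputable def j9_699_17 : List Job := [
  ⟨46, 0x601028241a110a8643a21128a45a311a8e47d008242219108a4623920924a259309a4e27c361909844160901, 0, 46, 0x0, []⟩]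

theorem t9_699_17 : jobs 8 S9 b8_699 j9_699_17 = true := by decide +kernel

noncomputable def j9_699_18 : List Job := [
  ⟨45, 0x4a0522a158b05a2e17c804222118904a2613c361909844160901, 0, 46, 0x0, []⟩]

theorem t9_699_18 : jobs 8 S9 b8_699 j9_699_18 = true := by decide +kernel

noncomputable def j9_699_19 : List Job := [
  ⟨44, 0x5008242219108a4623920924a259309a4e27ca0522a158b05a2e17c804222118904a2613c361909844160901, 0, 72, 0x0, []⟩]

theorem t9_699_19 : jobs 8 S9 b8_699 j9_699_19 = true := by decide +kernel

noncomputable def j9_699_20 : List Job := [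
  ⟨43, 0x601028241a110a8643a21128a45a311a8e47d008242219108a4623920924a259309a4e27ca0522a158b05a2e17c804222118904a2613c361909844160901, 0, 46, 0x0, []⟩]

theorem t9_699_20 : jobs 8 S9 b8_699 j9_699_20 = true := by decide +kernel

noncomputable def j9_699_21 : List Job := [
  ⟨42, 0x4a0522a158b05a2e17c804222118904a2613c361909844160901, 0, 46, 0x0, []⟩]

theorem t9_699_21 : jobs 8 S9 b8_699 j9_699_21 = true := by decide +kernel

noncomputable def j9_699_22 : List Job := [
  ⟨41, 0x5008242219108a4623920924a259309a4e27ca0522a158b05a2e17c804222118904a2613c361909844160901, 0, 72, 0x0, []⟩]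

theorem t9_699_22 : jobs 8 S9 b8_699 j9_699_22 = true := by decide +kernel

noncomputable def j9_699_23 : List Job := [
  ⟨40, 0x601028241a110a8643a21128a45a311a8e47d008242219108a4623920924a259309a4e27ca0522a158b05a2e17c804222118904a2613c361909844160901, 0, 46, 0x0, []⟩]

theorem t9_699_23 : jobs 8 S9 b8_699 j9_699_23 = true := by decide +kernel

noncomputable def j9_699_24 : List Job := [
  ⟨39, 0x4703a1e0fc60321a0dc502a160bc40221209c361909844160901, 0, 46, 0x0, []⟩]

theorem t9_699_24 : jobs 8 S9 b8_699 j9_699_24 = true := by decide +kernel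

noncomputable def j9_699_25 : List Job := [
  ⟨38, 0x5008242219108a4623920924a259309a4e27c703a1e0fc60321a0dc502a160bc40221209c361909844160901, 0, 72, 0x0, []⟩]

theorem t9_699_25 : jobs 8 S9 b8_699 j9_699_25 = true := by decide +kernel

noncomputable def j9_699_26 : List Job := [
  ⟨37, 0x601028241a110a8643a21128a45a311a8e47d008242219108a4623920924a259309a4e27c703a1e0fc60321a0dc502a160bc40221209c361909844160901, 0, 46, 0x0, []⟩]

theorem t9_699_26 : jobs 8 S9 b8_699 j9_699_26 = true := by decide +kernel

noncomputable def j9_699_27 : List Job := [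
  ⟨36, 0x4703a1e0fc60321a0dc502a160bc40221209c361909844160901, 0, 46, 0x0, []⟩]

theorem t9_699_27 : jobs 8 S9 b8_699 j9_699_27 = true := by decide +kernel

noncomputable def j9_699_28 : List Job := [
  ⟨35, 0x5008242219108a4623920924a259309a4e27c703a1e0fc60321a0dc502a160bc40221209c361909844160901, 0, 72, 0x0, []⟩]

theorem t9_699_28 : jobs 8 S9 b8_699 j9_699_28 = true := by decide +kernel

noncomputable def j9_699_29 : List Job := [
  ⟨34, 0x601028241a110a8643a21128a45a311a8e47d008242219108a4623920924a259309a4e27c703a1e0fc60321a0dc502a160bc40221209c361909844160901, 0, 46, 0x0, []⟩]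

theorem t9_699_29 : jobs 8 S9 b8_699 j9_699_29 = true := by decide +kernel

noncomputable def j9_699_30 : List Job := [
  ⟨33, 0x4a0522a158b05a2e17c804222118904a2613c703a1e0fc60321a0dc502a160bc40221209c361909844160901, 0, 46, 0x0, []⟩]

theorem t9_699_30 : jobs 8 S9 b8_699 j9_699_30 = true := by decide +kernel

noncomputable def j9_699_31 : List Job := [
  ⟨32, 0x5008242219108a4623920924a259309a4e27ca0522a158b05a2e17c804222118904a2613c703a1e0fc60321a0dc502a160bc40221209c361909844160901, 0, 72, 0x0, []⟩]

theorem t9_699_31 : jobs 8 S9 b8_699 j9_699_31 = true := by decide +kernel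

noncomputable def j9_699_32 : List Job := [
  ⟨31, 0x601028241a110a8643a21128a45a311a8e47d008242219108a4623920924a259309a4e27ca0522a158b05a2e17c804222118904a2613c703a1e0fc60321a0dc502a160bc40221209c361909844160901, 0, 46, 0x0, []⟩]

theorem t9_699_32 : jobs 8 S9 b8_699 j9_699_32 = true := by decide +kernel

noncomputable def j9_699_33 : List Job := [
  ⟨30, 0x4a0522a158b05a2e17c804222118904a2613c703a1e0fc60321a0dc502a160bc40221209c361909844160901, 0, 46, 0x0, []⟩]

theorem t9_699_33 : jobs 8 S9 b8_699 j9_699_33 = true := by decide +kernel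

noncomputable def j9_699_34 : List Job := [
  ⟨29, 0x5008242219108a4623920924a259309a4e27ca0522a158b05a2e17c804222118904a2613c703a1e0fc60321a0dc502a160bc40221209c361909844160901, 0, 72, 0x0, []⟩]

theorem t9_699_34 : jobs 8 S9 b8_699 j9_699_34 = true := by decide +kernel

noncomputable def j9_699_35 : List Job := [
  ⟨28, 0x601028241a110a8643a21128a45a311a8e47d008242219108a4623920924a259309a4e27ca0522a158b05a2e17c804222118904a2613c703a1e0fc60321a0dc502a160bc40221209c361909844160901, 0, 85, 0x5e10006211006609006a11006e11007208007611007a09007e09008211008608008a11008e0100900100a601, []⟩]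

theorem t9_699_35 : jobs 8 S9 b8_699 j9_699_35 = true := by decide +kernel

noncomputable def j9_699_36 : List Job := [
  ⟨27, 0x4804222118904a2613c703a1e0fc40221209c381f0c06c0e0501, 0, 104, 0x0, []⟩]

theorem t9_699_36 : jobs 8 S9 b8_699 j9_699_36 = true := by decide +kernel

noncomputable def j9_699_37 : List Job := [
  ⟨26, 0x5008242219108a4623920924a259309a4e27c804222118904a2613c703a1e0fc40221209c381f0c06c0e0501, 0, 192, 0x0, []⟩]

theorem t9_699_37 : jobs 8 S9 b8_699 j9_699_37 = true := by decide +kernel

noncomputable def j9_699_38 : List Job := [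
  ⟨25, 0x601028241a110a8643a21128a45a311a8e47d008242219108a4623920924a259309a4e27c804222118904a2613c703a1e0fc40221209c381f0c06c0e0501, 0, 104, 0x0, []⟩]

theorem t9_699_38 : jobs 8 S9 b8_699 j9_699_38 = true := by decide +kernel

noncomputable def j9_699_39 : List Job := [
  ⟨24, 0x4804222118904a2613c703a1e0fc442710094381f0c06c0e0501, 0, 128, 0xa20200a60200aa0200ae0200b20200b60200ba0200be0200c20200c60200ca0200ce02, []⟩]

theorem t9_699_39 : jobs 8 S9 b8_699 j9_699_39 = true := by decide +kernel

noncomputable def j9_699_40 : List Job := [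
  ⟨23, 0x5008242219108a4623920924a259309a4e27c804222118904a2613c703a1e0fc442710094381f0c06c0e0501, 0, 192, 0x10202010602010a02010e02011202011602011a02011e02012202012602012a02012e02013202013602013a02013e02, []⟩]

theorem t9_699_40 : jobs 8 S9 b8_699 j9_699_40 = true := by decide +kernel

noncomputable def j9_699_41 : List Job := [
  ⟨22, 0x601028241a110a8643a21128a45a311a8e47d008242219108a4623920924a259309a4e27c804222118904a2613c703a1e0fc442710094381f0c06c0e0501, 0, 128, 0xa20200a60200aa0200ae0200b20200b60200ba0200be0200c20200c60200ca0200ce02, []⟩]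

theorem t9_699_41 : jobs 8 S9 b8_699 j9_699_41 = true := by decide +kernel

noncomputable def j9_699_42 : List Job := [
  ⟨21, 0x460321a0dc40221209c2e15098440e0501, 0, 50, 0x0, []⟩]

theorem t9_699_42 : jobs 8 S9 b8_699 j9_699_42 = true := by decide +kernel

noncomputable def j9_699_43 : List Job := [
  ⟨20, 0x5008242219108a4623920924a259309a4e27c60321a0dc40221209c2e15098440e0501, 0, 72, 0x0, []⟩]

theorem t9_699_43 : jobs 8 S9 b8_699 j9_699_43 = true := by decide +kernel

noncomputable def j9_699_44 : List Job := [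
  ⟨19, 0x601028241a110a8643a21128a45a311a8e47d008242219108a4623920924a259309a4e27c60321a0dc40221209c2e15098440e0501, 0, 50, 0x0, []⟩]

theorem t9_699_44 : jobs 8 S9 b8_699 j9_699_44 = true := by decide +kernel

noncomputable def j9_699_45 : List Job := [
  ⟨18, 0x4a0522a158b05a2e17c804222118904a2613c60321a0dc40221209c2e15098440e0501, 0, 50, 0x0, []⟩]

theorem t9_699_45 : jobs 8 S9 b8_699 j9_699_45 = true := by decide +kernel

noncomputable def j9_699_46 : List Job := [
  ⟨17, 0x5008242219108a4623920924a259309a4e27ca0522a158b05a2e17c804222118904a2613c60321a0dc40221209c2e15098440e0501, 0, 72, 0x0, []⟩]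

theorem t9_699_46 : jobs 8 S9 b8_699 j9_699_46 = true := by decide +kernel

noncomputable def j9_699_47 : List Job := [
  ⟨16, 0x601028241a110a8643a21128a45a311a8e47d008242219108a4623920924a259309a4e27ca0522a158b05a2e17c804222118904a2613c60321a0dc40221209c2e15098440e0501, 0, 50, 0x0, []⟩]

theorem t9_699_47 : jobs 8 S9 b8_699 j9_699_47 = true := by decide +kernel

noncomputable def j9_699_48 : List Job := [
  ⟨15, 0x460321a0dc40221209c2e15098440e0501, 0, 72, 0x0, []⟩]

theorem t9_699_48 : jobs 8 S9 b8_699 j9_699_48 = true := by decide +kernel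

noncomputable def j9_699_49 : List Job := [
  ⟨14, 0x601028241a110a8643a21128a45a311a8e47c60321a0dc40221209c2e15098440e0501, 0, 72, 0x0, []⟩]

theorem t9_699_49 : jobs 8 S9 b8_699 j9_699_49 = true := by decide +kernel

noncomputable def j9_699_50 : List Job := [
  ⟨13, 0x5008242219108a4623920924a259309a4e27c60321a0dc40221209c2e15098440e0501, 0, 72, 0x0, []⟩]

theorem t9_699_50 : jobs 8 S9 b8_699 j9_699_50 = true := by decide +kernel

noncomputable def j9_699_51 : List Job := [
  ⟨12, 0x601028241a110a8643a21128a45a311a8e47d008242219108a4623920924a259309a4e27c60321a0dc40221209c2e15098440e0501, 0, 72, 0x0, []⟩]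

theorem t9_699_51 : jobs 8 S9 b8_699 j9_699_51 = true := by decide +kernel

noncomputable def j9_699_52 : List Job := [
  ⟨11, 0x4a0522a158b05a2e17c804222118904a2613c60321a0dc40221209c2e15098440e0501, 0, 72, 0x0, []⟩]

theorem t9_699_52 : jobs 8 S9 b8_699 j9_699_52 = true := by decide +kernel

noncomputable def j9_699_53 : List Job := [
  ⟨10, 0x601028241a110a8643a21128a45a311a8e47ca0522a158b05a2e17c804222118904a2613c60321a0dc40221209c2e15098440e0501, 0, 72, 0x0, []⟩]

theorem t9_699_53 : jobs 8 S9 b8_699 j9_699_53 = true := by decide +kernel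

noncomputable def j9_699_54 : List Job := [
  ⟨9, 0x5008242219108a4623920924a259309a4e27ca0522a158b05a2e17c804222118904a2613c60321a0dc40221209c2e15098440e0501, 0, 72, 0x0, []⟩]

theorem t9_699_54 : jobs 8 S9 b8_699 j9_699_54 = true := by decide +kernel

noncomputable def j9_699_55 : List Job := [
  ⟨8, 0x601028241a110a8643a21128a45a311a8e47d008242219108a4623920924a259309a4e27ca0522a158b05a2e17c804222118904a2613c60321a0dc40221209c2e15098440e0501, 0, 72, 0x0, []⟩]

theorem t9_699_55 : jobs 8 S9 b8_699 j9_699_55 = true := by decide +kernel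

noncomputable def j9_699_56 : List Job := [
  ⟨7, 0x46437180d44427100942e15098440e0501, 0, 50, 0x2a10002e02003202003611003a11003e02004202004610004a10004e02005202005613, []⟩]

theorem t9_699_56 : jobs 8 S9 b8_699 j9_699_56 = true := by decide +kernel

noncomputable def j9_699_57 : List Job := [
  ⟨6, 0x5008242219108a4623920924a259309a4e27c6437180d44427100942e15098440e0501, 0, 72, 0x4212004602004a02004e13005213005602005a02005e12006213006602006a02006e10007212007602007a02007e11, []⟩]

theorem t9_699_57 : jobs 8 S9 b8_699 j9_699_57 = true := by decide +kernel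

noncomputable def j9_699_58 : List Job := [
  ⟨5, 0x601028241a110a8643a21128a45a311a8e47d008242219108a4623920924a259309a4e27c6437180d44427100942e15098440e0501, 0, 50, 0x2a10002e02003202003613003a11003e02004202004612004a10004e02005202005613, []⟩]

theorem t9_699_58 : jobs 8 S9 b8_699 j9_699_58 = true := by decide +kernel

noncomputable def j9_699_59 : List Job := [
  ⟨4, 0x4a0522a158b05a2e17c804222118904a2613c6437180d44427100942e15098440e0501, 0, 50, 0x2a12002e02003202003613003a13003e02004202004612004a10004e02005202005611, []⟩]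

theorem t9_699_59 : jobs 8 S9 b8_699 j9_699_59 = true := by decide +kernel

noncomputable def j9_699_60 : List Job := [
  ⟨3, 0x5008242219108a4623920924a259309a4e27ca0522a158b05a2e17c804222118904a2613c6437180d44427100942e15098440e0501, 0, 72, 0x4210004602004a02004e11005211005602005a02005e10006213006602006a02006e12007212007602007a02007e13, []⟩]

theorem t9_699_60 : jobs 8 S9 b8_699 j9_699_60 = true := by decide +kernel

noncomputable def j9_699_61 : List Job := [
  ⟨2, 0x601028241a110a8643a21128a45a311a8e47d008242219108a4623920924a259309a4e27ca0522a158b05a2e17c804222118904a2613c6437180d44427100942e15098440e0501, 0, 85, 0x2a10002e02003202003611003a11003e02004202004610004a10004e02005202005611008e0100900100a601, []⟩]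

theorem t9_699_61 : jobs 8 S9 b8_699 j9_699_61 = true := by decide +kernel

noncomputable def j9_699_62 : List Job := [
  ⟨1, 0x4804222118904a2613c502a160bc40221209c1e0d058240e0501, 0, 50, 0x0, []⟩]

theorem t9_699_62 : jobs 8 S9 b8_699 j9_699_62 = true := by decide +kernel

noncomputable def j9_699_63 : List Job := [
  ⟨0, 0x5008242219108a4623920924a259309a4e27c804222118904a2613c502a160bc40221209c1e0d058240e0501, 0, 72, 0x0, []⟩]

theorem t9_699_63 : jobs 8 S9 b8_699 j9_699_63 = true := by decide +kernel

theorem d9_699 : Dn 8 S9 b8_699 := dn_of (Js := j9_699_0 ++ (j9_699_1 ++ (j9_699_2 ++ (j9_699_3 ++ (j9_699_4 ++ (j9_699_5 ++ (j9_699_6 ++ (j9_699_7 ++ (j9_699_8 ++ (j9_699_9 ++ (j9_699_10 ++ (j9_699_11 ++ (j9_699_12 ++ (j9_699_13 ++ (j9_699_14 ++ (j9_699_15 ++ (j9_699_16 ++ (j9_699_17 ++ (j9_699_18 ++ (j9_699_19 ++ (j9_699_20 ++ (j9_699_21 ++ (j9_699_22 ++ (j9_699_23 ++ (j9_699_24 ++ (j9_699_25 ++ (j9_699_26 ++ (j9_699_27 ++ (j9_699_28 ++ (j9_699_29 ++ (j9_699_30 ++ (j9_699_31 ++ (j9_699_32 ++ (j9_699_33 ++ (j9_699_34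 ++ (j9_699_35 ++ (j9_699_36 ++ (j9_699_37 ++ (j9_699_38 ++ (j9_699_39 ++ (j9_699_40 ++ (j9_699_41 ++ (j9_699_42 ++ (j9_699_43 ++ (j9_699_44 ++ (j9_699_45 ++ (j9_699_46 ++ (j9_699_47 ++ (j9_699_48 ++ (j9_699_49 ++ (j9_699_50 ++ (j9_699_51 ++ (j9_699_52 ++ (j9_699_53 ++ (j9_699_54 ++ (j9_699_55 ++ (j9_699_56 ++ (j9_699_57 ++ (j9_699_58 ++ (j9_699_59 ++ (j9_699_60 ++ (j9_699_61 ++ (j9_699_62 ++ (j9_699_63 ++ []))))))))))))))))))))))))))))))))))))))))))))))))))))))))))))))))
  (jobs_append t9_699_0 <| jobs_append t9_699_1 <| jobs_append t9_699_2 <| jobs_append t9_699_3 <| jobs_append t9_699_4 <| jobs_append t9_699_5 <| jobs_append t9_699_6 <| jobs_append t9_699_7 <| jobs_append t9_699_8 <| jobs_append t9_699_9 <| jobs_append t9_699_10 <| jobs_append t9_699_11 <| jobs_append t9_699_12 <| jobs_append t9_699_13 <| jobs_append t9_699_14 <| jobs_append t9_699_15 <| jobs_append t9_699_16 <| jobs_append t9_699_17 <| jobs_append t9_699_18 <| jobs_append t9_699_19 <| jobs_append t9_699_20 <| jobs_append t9_699_21 <| jobs_append t9_699_22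 <| jobs_append t9_699_23 <| jobs_append t9_699_24 <| jobs_append t9_699_25 <| jobs_append t9_699_26 <| jobs_append t9_699_27 <| jobs_append t9_699_28 <| jobs_append t9_699_29 <| jobs_append t9_699_30 <| jobs_append t9_699_31 <| jobs_append t9_699_32 <| jobs_append t9_699_33 <| jobs_append t9_699_34 <| jobs_append t9_699_35 <| jobs_append t9_699_36 <| jobs_append t9_699_37 <| jobs_append t9_699_38 <| jobs_append t9_699_39 <| jobs_append t9_699_40 <| jobs_append t9_699_41 <| jobs_append t9_699_42 <| jobs_append t9_699_43 <| jobs_append t9_699_44 <| jobs_append t9_699_45 <| jobs_append t9_699_46 <| jobs_append t9_699_47 <| jobs_append t9_699_48 <| jobs_append t9_699_49 <| jobs_append t9_699_50 <| jobs_append t9_699_51 <| jobs_append t9_699_52 <| jobs_append t9_699_53 <| jobs_append t9_699_54 <| jobs_append t9_699_55 <| jobs_append t9_699_56 <| jobs_append t9_699_57 <| jobs_append t9_699_58 <| jobs_append t9_699_59 <| jobs_append t9_699_60 <| jobs_append t9_699_61 <| jobs_append t9_699_62 <| jobs_append t9_699_63 <| List.forall_mem_nil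 _) (by decide +kernel)

noncomputable def j9_700_0 : List Job := [
  ⟨63, 0x508864623920924c26d00824422928964e27c804222118a0522a15c2e15098440e0501, 0, 32, 0x0, []⟩]

theorem t9_700_0 : jobs 8 S9 b8_700 j9_700_0 = true := by decide +kernel

noncomputable def j9_700_1 : List Job := [
  ⟨62, 0x621128a45a311a8e47e01028241a110a8643d08864623920924c26d00824422928964e27c804222118a0522a15c2e15098440e0501, 0, 20, 0x0, []⟩]

theorem t9_700_1 : jobs 8 S9 b8_700 j9_700_1 = true := by decide +kernel

noncomputable def j9_700_2 : List Job := [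
  ⟨61, 0x4804222118a0522a15c2e15098440e0501, 0, 20, 0x0, []⟩]

theorem t9_700_2 : jobs 8 S9 b8_700 j9_700_2 = true := by decide +kernel

noncomputable def j9_700_3 : List Job := [
  ⟨60, 0x508864623920924c26d00824422928964e27c804222118a0522a15c2e15098440e0501, 0, 32, 0x0, []⟩]

theorem t9_700_3 : jobs 8 S9 b8_700 j9_700_3 = true := by decide +kernel

noncomputable def j9_700_4 : List Job := [
  ⟨59, 0x621128a45a311a8e47e01028241a110a8643d08864623920924c26d00824422928964e27c804222118a0522a15c2e15098440e0501, 0, 20, 0x0, []⟩]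

theorem t9_700_4 : jobs 8 S9 b8_700 j9_700_4 = true := by decide +kernel

noncomputable def j9_700_5 : List Job := [
  ⟨58, 0x484462915c8044281542e15098440e0501, 0, 32, 0x0, []⟩]

theorem t9_700_5 : jobs 8 S9 b8_700 j9_700_5 = true := by decide +kernel

noncomputable def j9_700_6 : List Job := [
  ⟨57, 0x621128a45a311a8e47e01028241a110a8643c84462915c8044281542e15098440e0501, 0, 32, 0x0, []⟩]

theorem t9_700_6 : jobs 8 S9 b8_700 j9_700_6 = true := by decide +kernel

noncomputable def j9_700_7 : List Job := [
  ⟨56, 0x508864623920924c26d00824422928964e27c84462915c8044281542e15098440e0501, 0, 32, 0x0, []⟩]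

theorem t9_700_7 : jobs 8 S9 b8_700 j9_700_7 = true := by decide +kernel

noncomputable def j9_700_8 : List Job := [
  ⟨55, 0x621128a45a311a8e47e01028241a110a8643d08864623920924c26d00824422928964e27c84462915c8044281542e15098440e0501, 0, 38, 0x4201004401, []⟩]

theorem t9_700_8 : jobs 8 S9 b8_700 j9_700_8 = true := by decide +kernel

noncomputable def j9_700_9 : List Job := [
  ⟨54, 0x484462815480442915c2e15098440e0501, 0, 20, 0x0, []⟩]

theorem t9_700_9 : jobs 8 S9 b8_700 j9_700_9 = true := by decide +kernel

noncomputable def j9_700_10 : List Job := [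
  ⟨53, 0x508864623920924c26d00824422928964e27c84462815480442915c2e15098440e0501, 0, 32, 0x0, []⟩]

theorem t9_700_10 : jobs 8 S9 b8_700 j9_700_10 = true := by decide +kernel

noncomputable def j9_700_11 : List Job := [
  ⟨52, 0x621128a45a311a8e47e01028241a110a8643d08864623920924c26d00824422928964e27c84462815480442915c2e15098440e0501, 0, 24, 0x2a01002c01002e01003001, []⟩]

theorem t9_700_11 : jobs 8 S9 b8_700 j9_700_11 = true := by decide +kernel

noncomputable def j9_700_12 : List Job := [
  ⟨51, 0x484462915c8044281542e15098440e0501, 0, 20, 0x0, []⟩]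

theorem t9_700_12 : jobs 8 S9 b8_700 j9_700_12 = true := by decide +kernel

noncomputable def j9_700_13 : List Job := [
  ⟨50, 0x508864623920924c26d00824422928964e27c84462915c8044281542e15098440e0501, 0, 32, 0x0, []⟩]

theorem t9_700_13 : jobs 8 S9 b8_700 j9_700_13 = true := by decide +kernel

noncomputable def j9_700_14 : List Job := [
  ⟨49, 0x621128a45a311a8e47e01028241a110a8643d08864623920924c26d00824422928964e27c84462915c8044281542e15098440e0501, 0, 46, 0x0, []⟩]

theorem t9_700_14 : jobs 8 S9 b8_700 j9_700_14 = true := by decide +kernel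

noncomputable def j9_700_15 : List Job := [
  ⟨48, 0x4804222118a0522a15c582e1e0fc4022180cc381f09844180f01, 0, 64, 0x0, []⟩]

theorem t9_700_15 : jobs 8 S9 b8_700 j9_700_15 = true := by decide +kernel

noncomputable def j9_700_16 : List Job := [
  ⟨47, 0x641229249a512a964ba61329a4da713a9e4fd008242219108a4623920924a259309a4e27c804222118a0522a15c582e1e0fc4022180cc381f09844180f01, 0, 64, 0x0, []⟩]

theorem t9_700_16 : jobs 8 S9 b8_700 j9_700_16 = true := by decide +kernel

noncomputable def j9_700_17 : List Job := [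
  ⟨46, 0x5008242219108a4623920924a259309a4e27c804222118a0522a15c582e1e0fc4022180cc381f09844180f01, 0, 128, 0x0, []⟩]

theorem t9_700_17 : jobs 8 S9 b8_700 j9_700_17 = true := by decide +kernel

noncomputable def j9_700_18 : List Job := [
  ⟨45, 0x4804222118a0522a15c582e1e0fc4431100cc381f09844180f01, 0, 80, 0x0, []⟩]

theorem t9_700_18 : jobs 8 S9 b8_700 j9_700_18 = true := by decide +kernel

noncomputable def j9_700_19 : List Job := [
  ⟨44, 0x5008242219108a4623920924a259309a4e27c804222118a0522a15c582e1e0fc4431100cc381f09844180f01, 0, 128, 0x0, []⟩]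

theorem t9_700_19 : jobs 8 S9 b8_700 j9_700_19 = true := by decide +kernel

noncomputable def j9_700_20 : List Job := [
  ⟨43, 0x641229249a512a964ba61329a4da713a9e4fd008242219108a4623920924a259309a4e27c804222118a0522a15c582e1e0fc4433100c4381f09844180f01, 0, 80, 0x0, []⟩]

theorem t9_700_20 : jobs 8 S9 b8_700 j9_700_20 = true := by decide +kernel

noncomputable def j9_700_21 : List Job := [
  ⟨42, 0x4502a1c0ec4022180cc361909844160901, 0, 20, 0x0, []⟩]

theorem t9_700_21 : jobs 8 S9 b8_700 j9_700_21 = true := by decide +kernel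

noncomputable def j9_700_22 : List Job := [
  ⟨41, 0x641229249a512a964ba61329a4da713a9e4fd008242219108a4623920924a259309a4e27c502a1c0ec4022180cc361909844160901, 0, 20, 0x0, []⟩]

theorem t9_700_22 : jobs 8 S9 b8_700 j9_700_22 = true := by decide +kernel

noncomputable def j9_700_23 : List Job := [
  ⟨40, 0x5008242219108a4623920924a259309a4e27c502a1c0ec4022180cc361909844160901, 0, 32, 0x0, []⟩]

theorem t9_700_23 : jobs 8 S9 b8_700 j9_700_23 = true := by decide +kernel

noncomputable def j9_700_24 : List Job := [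
  ⟨39, 0x4904a26138b05a2e17c804222118a0522a15c502a1c0ec4022180cc361909844160901, 0, 20, 0x0, []⟩]

theorem t9_700_24 : jobs 8 S9 b8_700 j9_700_24 = true := by decide +kernel

noncomputable def j9_700_25 : List Job := [
  ⟨38, 0x641229249a512a964ba61329a4da713a9e4fd008242219108a4623920924a259309a4e27c904a26138b05a2e17c804222118a0522a15c502a1c0ec4022180cc361909844160901, 0, 20, 0x0, []⟩]

theorem t9_700_25 : jobs 8 S9 b8_700 j9_700_25 = true := by decide +kernel

noncomputable def j9_700_26 : List Job := [
  ⟨37, 0x5008242219108a4623920924a259309a4e27c904a26138b05a2e17c804222118a0522a15c502a1c0ec4022180cc361909844160901, 0, 32, 0x0, []⟩]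

theorem t9_700_26 : jobs 8 S9 b8_700 j9_700_26 = true := by decide +kernel

noncomputable def j9_700_27 : List Job := [
  ⟨36, 0x641229249a512a964ba61329a4da713a9e4fc502a1c0ec4022180cc361909844160901, 0, 32, 0x0, []⟩]

theorem t9_700_27 : jobs 8 S9 b8_700 j9_700_27 = true := by decide +kernel

noncomputable def j9_700_28 : List Job := [
  ⟨35, 0x4502a1c0ec4022180cc361909844160901, 0, 32, 0x0, []⟩]

theorem t9_700_28 : jobs 8 S9 b8_700 j9_700_28 = true := by decide +kernel

noncomputable def j9_700_29 : List Job := [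
  ⟨34, 0x641229249a512a964ba61329a4da713a9e4fd008242219108a4623920924a259309a4e27c502a1c0ec4022180cc361909844160901, 0, 32, 0x0, []⟩]

theorem t9_700_29 : jobs 8 S9 b8_700 j9_700_29 = true := by decide +kernel

noncomputable def j9_700_30 : List Job := [
  ⟨33, 0x5008242219108a4623920924a259309a4e27c502a1c0ec4022180cc361909844160901, 0, 32, 0x0, []⟩]

theorem t9_700_30 : jobs 8 S9 b8_700 j9_700_30 = true := by decide +kernel

noncomputable def j9_700_31 : List Job := [
  ⟨32, 0x641229249a512a964ba61329a4da713a9e4fc904a26138b05a2e17c804222118a0522a15c502a1c0ec4022180cc361909844160901, 0, 32, 0x0, []⟩]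

theorem t9_700_31 : jobs 8 S9 b8_700 j9_700_31 = true := by decide +kernel

noncomputable def j9_700_32 : List Job := [
  ⟨31, 0x4904a26138b05a2e17c804222118a0522a15c502a1c0ec4022180cc361909844160901, 0, 32, 0x0, []⟩]

theorem t9_700_32 : jobs 8 S9 b8_700 j9_700_32 = true := by decide +kernel

noncomputable def j9_700_33 : List Job := [
  ⟨30, 0x641229249a512a964ba61329a4da713a9e4fd008242219108a4623920924a259309a4e27c904a26138b05a2e17c804222118a0522a15c502a1c0ec4022180cc361909844160901, 0, 32, 0x0, []⟩]

theorem t9_700_33 : jobs 8 S9 b8_700 j9_700_33 = true := by decide +kernel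

noncomputable def j9_700_34 : List Job := [
  ⟨29, 0x5008242219108a4623920924a259309a4e27c904a26138b05a2e17c804222118a0522a15c502a1c0ec4022180cc361909844160901, 0, 32, 0x0, []⟩]

theorem t9_700_34 : jobs 8 S9 b8_700 j9_700_34 = true := by decide +kernel

noncomputable def j9_700_35 : List Job := [
  ⟨28, 0x45439140ec4431100cc361909844160901, 0, 20, 0x0, []⟩]

theorem t9_700_35 : jobs 8 S9 b8_700 j9_700_35 = true := by decide +kernel

noncomputable def j9_700_36 : List Job := [
  ⟨27, 0x5008242219108a4623920924a259309a4e27c5439140ec4431100cc361909844160901, 0, 32, 0x0, []⟩]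

theorem t9_700_36 : jobs 8 S9 b8_700 j9_700_36 = true := by decide +kernel

noncomputable def j9_700_37 : List Job := [
  ⟨26, 0x641229249a512a964ba61329a4da713a9e4fd008242219108a4623920924a259309a4e27c543b140e44433100c4361909844160901, 0, 20, 0x0, []⟩]

theorem t9_700_37 : jobs 8 S9 b8_700 j9_700_37 = true := by decide +kernel

noncomputable def j9_700_38 : List Job := [
  ⟨25, 0x4904a26138b05a2e17c804222118a0522a15c5439140ec4431100cc361909844160901, 0, 20, 0x0, []⟩]

theorem t9_700_38 : jobs 8 S9 b8_700 j9_700_38 = true := by decide +kernel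

noncomputable def j9_700_39 : List Job := [
  ⟨24, 0x5008242219108a4623920924a259309a4e27c904a26138b05a2e17c804222118a0522a15c5439140ec4431100cc361909844160901, 0, 32, 0x0, []⟩]

theorem t9_700_39 : jobs 8 S9 b8_700 j9_700_39 = true := by decide +kernel

noncomputable def j9_700_40 : List Job := [
  ⟨23, 0x641229249a512a964ba61329a4da713a9e4fd008242219108a4623920924a259309a4e27c904a26138b05a2e17c804222118a0522a15c543b140e44433100c4361909844160901, 0, 46, 0x5201005601, []⟩]

theorem t9_700_40 : jobs 8 S9 b8_700 j9_700_40 = true := by decide +kernel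

noncomputable def j9_700_41 : List Job := [
  ⟨22, 0x4804222118a0522a15c48261a0dc4022180cc2e15098440e0501, 0, 20, 0x0, []⟩]

theorem t9_700_41 : jobs 8 S9 b8_700 j9_700_41 = true := by decide +kernel

noncomputable def j9_700_42 : List Job := [
  ⟨21, 0x641229249a512a964ba61329a4da713a9e4fd008242219108a4623920924a259309a4e27c804222118a0522a15c48261a0dc4022180cc2e15098440e0501, 0, 20, 0x0, []⟩]

theorem t9_700_42 : jobs 8 S9 b8_700 j9_700_42 = true := by decide +kernel

noncomputable def j9_700_43 : List Job := [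
  ⟨20, 0x5008242219108a4623920924a259309a4e27c804222118a0522a15c48261a0dc4022180cc2e15098440e0501, 0, 32, 0x0, []⟩]

theorem t9_700_43 : jobs 8 S9 b8_700 j9_700_43 = true := by decide +kernel

noncomputable def j9_700_44 : List Job := [
  ⟨19, 0x484462915c80442815448261a0dc4022180cc2e15098440e0501, 0, 20, 0x0, []⟩]

theorem t9_700_44 : jobs 8 S9 b8_700 j9_700_44 = true := by decide +kernel

noncomputable def j9_700_45 : List Job := [
  ⟨18, 0x641229249a512a964ba61329a4da713a9e4fd008242219108a4623920924a259309a4e27c84462815480442915c48261a0dc4022180cc2e15098440e0501, 0, 20, 0x0, []⟩]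

theorem t9_700_45 : jobs 8 S9 b8_700 j9_700_45 = true := by decide +kernel

noncomputable def j9_700_46 : List Job := [
  ⟨17, 0x5008242219108a4623920924a259309a4e27c84462915c80442815448261a0dc4022180cc2e15098440e0501, 0, 32, 0x0, []⟩]

theorem t9_700_46 : jobs 8 S9 b8_700 j9_700_46 = true := by decide +kernel

noncomputable def j9_700_47 : List Job := [
  ⟨16, 0x641229249a512a964ba61329a4da713a9e4fc804222118a0522a15c48261a0dc4022180cc2e15098440e0501, 0, 32, 0x0, []⟩]

theorem t9_700_47 : jobs 8 S9 b8_700 j9_700_47 = true := by decide +kernel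

noncomputable def j9_700_48 : List Job := [
  ⟨15, 0x4804222118a0522a15c48261a0dc4022180cc2e15098440e0501, 0, 32, 0x0, []⟩]

theorem t9_700_48 : jobs 8 S9 b8_700 j9_700_48 = true := by decide +kernel

noncomputable def j9_700_49 : List Job := [
  ⟨14, 0x641229249a512a964ba61329a4da713a9e4fd008242219108a4623920924a259309a4e27c804222118a0522a15c48261a0dc4022180cc2e15098440e0501, 0, 32, 0x0, []⟩]

theorem t9_700_49 : jobs 8 S9 b8_700 j9_700_49 = true := by decide +kernel

noncomputable def j9_700_50 : List Job := [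
  ⟨13, 0x5008242219108a4623920924a259309a4e27c804222118a0522a15c48261a0dc4022180cc2e15098440e0501, 0, 32, 0x0, []⟩]

theorem t9_700_50 : jobs 8 S9 b8_700 j9_700_50 = true := by decide +kernel

noncomputable def j9_700_51 : List Job := [
  ⟨12, 0x641229249a512a964ba61329a4da713a9e4fc84462815480442915c48261a0dc4022180cc2e15098440e0501, 0, 32, 0x0, []⟩]

theorem t9_700_51 : jobs 8 S9 b8_700 j9_700_51 = true := by decide +kernel

noncomputable def j9_700_52 : List Job := [
  ⟨11, 0x484462915c80442815448261a0dc4022180cc2e15098440e0501, 0, 32, 0x0, []⟩]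

theorem t9_700_52 : jobs 8 S9 b8_700 j9_700_52 = true := by decide +kernel

noncomputable def j9_700_53 : List Job := [
  ⟨10, 0x641229249a512a964ba61329a4da713a9e4fd008242219108a4623920924a259309a4e27c84462815480442915c48261a0dc4022180cc2e15098440e0501, 0, 32, 0x0, []⟩]

theorem t9_700_53 : jobs 8 S9 b8_700 j9_700_53 = true := by decide +kernel

noncomputable def j9_700_54 : List Job := [
  ⟨9, 0x5008242219108a4623920924a259309a4e27c84462915c80442815448261a0dc4022180cc2e15098440e0501, 0, 32, 0x0, []⟩]

theorem t9_700_54 : jobs 8 S9 b8_700 j9_700_54 = true := by decide +kernel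

noncomputable def j9_700_55 : List Job := [
  ⟨8, 0x4804222118a0522a15c4c35120dc4431100cc2e15098440e0501, 0, 20, 0x0, []⟩]

theorem t9_700_55 : jobs 8 S9 b8_700 j9_700_55 = true := by decide +kernel

noncomputable def j9_700_56 : List Job := [
  ⟨7, 0x5008242219108a4623920924a259309a4e27c804222118a0522a15c4c35120dc4431100cc2e15098440e0501, 0, 32, 0x0, []⟩]

theorem t9_700_56 : jobs 8 S9 b8_700 j9_700_56 = true := by decide +kernel

noncomputable def j9_700_57 : List Job := [
  ⟨6, 0x641229249a512a964ba61329a4da713a9e4fd008242219108a4623920924a259309a4e27c804222118a0522a15c4c37120d44433100c42e15098440e0501, 0, 20, 0x0, []⟩]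

theorem t9_700_57 : jobs 8 S9 b8_700 j9_700_57 = true := by decide +kernel

noncomputable def j9_700_58 : List Job := [
  ⟨5, 0x484462815480442915c4c35120dc4431100cc2e15098440e0501, 0, 20, 0x0, []⟩]

theorem t9_700_58 : jobs 8 S9 b8_700 j9_700_58 = true := by decide +kernel

noncomputable def j9_700_59 : List Job := [
  ⟨4, 0x5008242219108a4623920924a259309a4e27c84462815480442915c4c35120dc4431100cc2e15098440e0501, 0, 32, 0x0, []⟩]

theorem t9_700_59 : jobs 8 S9 b8_700 j9_700_59 = true := by decide +kernel

noncomputable def j9_700_60 : List Job := [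
  ⟨3, 0x641229249a512a964ba61329a4da713a9e4fd008242219108a4623920924a259309a4e27c84462915c8044281544c37120d44433100c42e15098440e0501, 0, 46, 0x0, []⟩]

theorem t9_700_60 : jobs 8 S9 b8_700 j9_700_60 = true := by decide +kernel

noncomputable def j9_700_61 : List Job := [
  ⟨2, 0x4804222118904a2613c703a1e0fc40221209c301b0a05c180f01, 0, 128, 0xa20300aa0300b20300ba0300c20300ca0300d20300da0300e20300ea0300f20300fa03, []⟩]

theorem t9_700_61 : jobs 8 S9 b8_700 j9_700_61 = true := by decide +kernel

noncomputable def j9_700_62 : List Job := [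
  ⟨1, 0x5008242219108a4623920924a259309a4e27c804222118904a2613c703a1e0fc40221209c301b0a05c180f01, 0, 192, 0x10203010a03011203011a03012203012a03013203013a03014203014a03015203015a03016203016a03017203017a03, []⟩]

theorem t9_700_62 : jobs 8 S9 b8_700 j9_700_62 = true := by decide +kernel

noncomputable def j9_700_63 : List Job := [
  ⟨0, 0x601028241a110a8643a21128a45a311a8e47d008242219108a4623920924a259309a4e27c804222118904a2613c703a1e0fc40221209c301b0a05c180f01, 0, 128, 0xa20300aa0300b20300ba0300c20300ca0300d20300da0300e20300ea0300f20300fa03, []⟩]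

theorem t9_700_63 : jobs 8 S9 b8_700 j9_700_63 = true := by decide +kernel

theorem d9_700 : Dn 8 S9 b8_700 := dn_of (Js := j9_700_0 ++ (j9_700_1 ++ (j9_700_2 ++ (j9_700_3 ++ (j9_700_4 ++ (j9_700_5 ++ (j9_700_6 ++ (j9_700_7 ++ (j9_700_8 ++ (j9_700_9 ++ (j9_700_10 ++ (j9_700_11 ++ (j9_700_12 ++ (j9_700_13 ++ (j9_700_14 ++ (j9_700_15 ++ (j9_700_16 ++ (j9_700_17 ++ (j9_700_18 ++ (j9_700_19 ++ (j9_700_20 ++ (j9_700_21 ++ (j9_700_22 ++ (j9_700_23 ++ (j9_700_24 ++ (j9_700_25 ++ (j9_700_26 ++ (j9_700_27 ++ (j9_700_28 ++ (j9_700_29 ++ (j9_700_30 ++ (j9_700_31 ++ (j9_700_32 ++ (j9_700_33 ++ (j9_700_34 ++ (j9_700_35 ++ (j9_700_36 ++ (j9_700_37 ++ (j9_700_38 ++ (j9_700_39 ++ (j9_700_40 ++ (j9_700_41 ++ (j9_700_42 ++ (j9_700_43 ++ (j9_700_44 ++ (j9_700_45 ++ (j9_700_46 ++ (j9_700_47 ++ (j9_700_48 ++ (j9_700_49 ++ (j9_700_50 ++ (j9_700_51 ++ (j9_700_52 ++ (j9_700_53 ++ (j9_700_54 ++ (j9_700_55 ++ (j9_700_56 ++ (j9_700_57 ++ (j9_700_58 ++ (j9_700_59 ++ (j9_700_60 ++ (j9_700_61 ++ (j9_700_62 ++ (j9_700_63 ++ []))))))))))))))))))))))))))))))))))))))))))))))))))))))))))))))))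
  (jobs_append t9_700_0 <| jobs_append t9_700_1 <| jobs_append t9_700_2 <| jobs_append t9_700_3 <| jobs_append t9_700_4 <| jobs_append t9_700_5 <| jobs_append t9_700_6 <| jobs_append t9_700_7 <| jobs_append t9_700_8 <| jobs_append t9_700_9 <| jobs_append t9_700_10 <| jobs_append t9_700_11 <| jobs_append t9_700_12 <| jobs_append t9_700_13 <| jobs_append t9_700_14 <| jobs_append t9_700_15 <| jobs_append t9_700_16 <| jobs_append t9_700_17 <| jobs_append t9_700_18 <| jobs_append t9_700_19 <| jobs_append t9_700_20 <| jobs_append t9_700_21 <| jobs_append t9_700_22 <| jobs_append t9_700_23 <| jobs_append t9_700_24 <| jobs_append t9_700_25 <| jobs_append t9_700_26 <| jobs_append t9_700_27 <| jobs_append t9_700_28 <| jobs_append t9_700_29 <| jobs_append t9_700_30 <| jobs_append t9_700_31 <| jobs_append t9_700_32 <| jobs_append t9_700_33 <| jobs_append t9_700_34 <| jobs_append t9_700_35 <| jobs_append t9_700_36 <| jobs_append t9_700_37 <| jobs_append t9_700_38 <| jobs_append t9_700_39 <| jobs_append t9_700_40 <| jobs_append t9_700_41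 <| jobs_append t9_700_42 <| jobs_append t9_700_43 <| jobs_append t9_700_44 <| jobs_append t9_700_45 <| jobs_append t9_700_46 <| jobs_append t9_700_47 <| jobs_append t9_700_48 <| jobs_append t9_700_49 <| jobs_append t9_700_50 <| jobs_append t9_700_51 <| jobs_append t9_700_52 <| jobs_append t9_700_53 <| jobs_append t9_700_54 <| jobs_append t9_700_55 <| jobs_append t9_700_56 <| jobs_append t9_700_57 <| jobs_append t9_700_58 <| jobs_append t9_700_59 <| jobs_append t9_700_60 <| jobs_append t9_700_61 <| jobs_append t9_700_62 <| jobs_append t9_700_63 <| List.forall_mem_nil _) (by decide +kernel)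

noncomputable def j9_701_0 : List Job := [
  ⟨63, 0x520924a259309a4e27d008242219108a4623cb05a2e17ca0522a15c904a2613c80422211c361909844160901, 0, 20, 0x0, []⟩]

theorem t9_701_0 : jobs 8 S9 b8_701 j9_701_0 = true := by decide +kernel

noncomputable def j9_701_1 : List Job := [
  ⟨62, 0x4361909844160901, 0, 32, 0x0, []⟩]

theorem t9_701_1 : jobs 8 S9 b8_701 j9_701_1 = true := by decide +kernel

noncomputable def j9_701_2 : List Job := [
  ⟨61, 0x520924a259309a4e27d008242219108a4623c361909844160901, 0, 32, 0x0, []⟩]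

theorem t9_701_2 : jobs 8 S9 b8_701 j9_701_2 = true := by decide +kernel

noncomputable def j9_701_3 : List Job := [
  ⟨60, 0x4b05a2e17ca0522a15c904a2613c80422211c361909844160901, 0, 32, 0x0, []⟩]

theorem t9_701_3 : jobs 8 S9 b8_701 j9_701_3 = true := by decide +kernel

noncomputable def j9_701_4 : List Job := [
  ⟨59, 0x520924a259309a4e27d008242219108a4623cb05a2e17ca0522a15c904a2613c80422211c361909844160901, 0, 32, 0x0, []⟩]

theorem t9_701_4 : jobs 8 S9 b8_701 j9_701_4 = true := by decide +kernel

noncomputable def j9_701_5 : List Job := [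
  ⟨58, 0x4361909844160901, 0, 20, 0x0, []⟩]

theorem t9_701_5 : jobs 8 S9 b8_701 j9_701_5 = true := by decide +kernel

noncomputable def j9_701_6 : List Job := [
  ⟨57, 0x4361909844160901, 0, 20, 0x0, []⟩]

theorem t9_701_6 : jobs 8 S9 b8_701 j9_701_6 = true := by decide +kernel

noncomputable def j9_701_7 : List Job := [
  ⟨56, 0x520924a259309a4e27d008242219108a4623c361909844160901, 0, 20, 0x0, []⟩]

theorem t9_701_7 : jobs 8 S9 b8_701 j9_701_7 = true := by decide +kernel

noncomputable def j9_701_8 : List Job := [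
  ⟨55, 0x520924a259309a4e27d008242219108a4623c361909844160901, 0, 20, 0x0, []⟩]

theorem t9_701_8 : jobs 8 S9 b8_701 j9_701_8 = true := by decide +kernel

noncomputable def j9_701_9 : List Job := [
  ⟨54, 0x4b05a2e17ca0522a15c904a2613c80422211c361909844160901, 0, 20, 0x0, []⟩]

theorem t9_701_9 : jobs 8 S9 b8_701 j9_701_9 = true := by decide +kernel

noncomputable def j9_701_10 : List Job := [
  ⟨53, 0x4b05a2e17ca0522a15c904a2613c80422211c361909844160901, 0, 20, 0x0, []⟩]

theorem t9_701_10 : jobs 8 S9 b8_701 j9_701_10 = true := by decide +kernel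

noncomputable def j9_701_11 : List Job := [
  ⟨52, 0x520924a259309a4e27d008242219108a4623cb05a2e17ca0522a15c904a2613c80422211c361909844160901, 0, 24, 0x0, []⟩]

theorem t9_701_11 : jobs 8 S9 b8_701 j9_701_11 = true := by decide +kernel

noncomputable def j9_701_12 : List Job := [
  ⟨51, 0x520924a259309a4e27d008242219108a4623cb05a2e17ca0522a15c904a2613c80422211c361909844160901, 0, 50, 0x2a18002c11002e11003018003210003418004219004418004618004819004a10004c19, []⟩]

theorem t9_701_12 : jobs 8 S9 b8_701 j9_701_12 = true := by decide +kernel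

noncomputable def j9_701_13 : List Job := [
  ⟨50, 0x4a0522a15c80422211c2e15098440e0501, 0, 32, 0x0, []⟩]

theorem t9_701_13 : jobs 8 S9 b8_701 j9_701_13 = true := by decide +kernel

noncomputable def j9_701_14 : List Job := [
  ⟨49, 0x4a0522a15c80422211c2e15098440e0501, 0, 32, 0x0, []⟩]

theorem t9_701_14 : jobs 8 S9 b8_701 j9_701_14 = true := by decide +kernel

noncomputable def j9_701_15 : List Job := [
  ⟨48, 0x520924a259309a4e27d008242219108a4623ca0522a15c80422211c2e15098440e0501, 0, 32, 0x0, []⟩]

theorem t9_701_15 : jobs 8 S9 b8_701 j9_701_15 = true := by decide +kernel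

noncomputable def j9_701_16 : List Job := [
  ⟨47, 0x520924a259309a4e27d008242219108a4623ca0522a15c80422211c2e15098440e0501, 0, 32, 0x0, []⟩]

theorem t9_701_16 : jobs 8 S9 b8_701 j9_701_16 = true := by decide +kernel

noncomputable def j9_701_17 : List Job := [
  ⟨46, 0x4a0522a15c80422211c2e15098440e0501, 0, 32, 0x0, []⟩]

theorem t9_701_17 : jobs 8 S9 b8_701 j9_701_17 = true := by decide +kernel

noncomputable def j9_701_18 : List Job := [
  ⟨45, 0x4a0522a15c80422211c2e15098440e0501, 0, 32, 0x0, []⟩]

theorem t9_701_18 : jobs 8 S9 b8_701 j9_701_18 = true := by decide +kernel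

noncomputable def j9_701_19 : List Job := [
  ⟨44, 0x520924a259309a4e27d008242219108a4623ca0522a15c80422211c2e15098440e0501, 0, 32, 0x0, []⟩]

theorem t9_701_19 : jobs 8 S9 b8_701 j9_701_19 = true := by decide +kernel

noncomputable def j9_701_20 : List Job := [
  ⟨43, 0x520924a259309a4e27d008242219108a4623ca0522a15c80422211c2e15098440e0501, 0, 32, 0x0, []⟩]

theorem t9_701_20 : jobs 8 S9 b8_701 j9_701_20 = true := by decide +kernel

noncomputable def j9_701_21 : List Job := [
  ⟨42, 0x4a0522a15c80422211c2e15098440e0501, 0, 32, 0x0, []⟩]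

theorem t9_701_21 : jobs 8 S9 b8_701 j9_701_21 = true := by decide +kernel

noncomputable def j9_701_22 : List Job := [
  ⟨41, 0x520924a259309a4e27d008242219108a4623ca0522a15c80422211c2e15098440e0501, 0, 32, 0x0, []⟩]

theorem t9_701_22 : jobs 8 S9 b8_701 j9_701_22 = true := by decide +kernel

noncomputable def j9_701_23 : List Job := [
  ⟨40, 0x4a457281548447201142e15098440e0501, 0, 32, 0x212000411000602000812000a02000c11000e11001002002202002413002613002802002a02002c13002e02003010, []⟩]

theorem t9_701_23 : jobs 8 S9 b8_701 j9_701_23 = true := by decide +kernel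

noncomputable def j9_701_24 : List Job := [
  ⟨39, 0x520924a259309a4e27d008242219108a4623ca457281548447201142e15098440e0501, 0, 32, 0x202000402000602000810000a02000c13000e11001010002202002413002611002810002a02002c02002e02003010, []⟩]

theorem t9_701_24 : jobs 8 S9 b8_701 j9_701_24 = true := by decide +kernel

noncomputable def j9_701_25 : List Job := [
  ⟨38, 0x4a0522a15c80422211c2e15098440e0501, 0, 24, 0x0, []⟩]

theorem t9_701_25 : jobs 8 S9 b8_701 j9_701_25 = true := by decide +kernel

noncomputable def j9_701_26 : List Job := [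
  ⟨37, 0x4a0522a15c80422211c2e15098440e0501, 0, 24, 0x0, []⟩]

theorem t9_701_26 : jobs 8 S9 b8_701 j9_701_26 = true := by decide +kernel

noncomputable def j9_701_27 : List Job := [
  ⟨36, 0x520924a259309a4e27d008242219108a4623ca0522a15c80422211c2e15098440e0501, 0, 24, 0x0, []⟩]

theorem t9_701_27 : jobs 8 S9 b8_701 j9_701_27 = true := by decide +kernel

noncomputable def j9_701_28 : List Job := [
  ⟨35, 0x520924a259309a4e27d008242219108a4623ca0522a15c80422211c2e15098440e0501, 0, 24, 0x0, []⟩]

theorem t9_701_28 : jobs 8 S9 b8_701 j9_701_28 = true := by decide +kernel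

noncomputable def j9_701_29 : List Job := [
  ⟨34, 0x4a457281548447201142e15098440e0501, 0, 24, 0x212000413000602000812000a12000c13001a10001c11001e11002010002210002402, []⟩]

theorem t9_701_29 : jobs 8 S9 b8_701 j9_701_29 = true := by decide +kernel

noncomputable def j9_701_30 : List Job := [
  ⟨33, 0x4a457281548447201142e15098440e0501, 0, 24, 0x210000402000602000812000a12000c11001a10001c11001e13002002002202002402, []⟩]

theorem t9_701_30 : jobs 8 S9 b8_701 j9_701_30 = true := by decide +kernel

noncomputable def j9_701_31 : List Job := [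
  ⟨32, 0x520924a259309a4e27d008242219108a4623ca457281548447201142e15098440e0501, 0, 30, 0x202000402000602000810000a10000c13001a10001c11001e13002002002202002402, []⟩]

theorem t9_701_31 : jobs 8 S9 b8_701 j9_701_31 = true := by decide +kernel

noncomputable def j9_701_32 : List Job := [
  ⟨31, 0x520924a259309a4e27d008242219108a4623ca457281548447201142e15098440e0501, 0, 50, 0x210000411000602000810000a10000c11001a10001c11001e11002010002210002402, []⟩]

theorem t9_701_32 : jobs 8 S9 b8_701 j9_701_32 = true := by decide +kernel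

noncomputable def j9_701_33 : List Job := [
  ⟨30, 0x4804222118a0522a15c381f09844180f01, 0, 64, 0x0, []⟩]

theorem t9_701_33 : jobs 8 S9 b8_701 j9_701_33 = true := by decide +kernel

noncomputable def j9_701_34 : List Job := [
  ⟨29, 0x508864623920924c26d00824422928964e27c804222118a0522a15c381f09844180f01, 0, 128, 0x0, []⟩]

theorem t9_701_34 : jobs 8 S9 b8_701 j9_701_34 = true := by decide +kernel

noncomputable def j9_701_35 : List Job := [
  ⟨28, 0x621128a45a311a8e47e01028241a110a8643d08864623920924c26d00824422928964e27c804222118a0522a15c381f09844180f01, 0, 64, 0x0, []⟩]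

theorem t9_701_35 : jobs 8 S9 b8_701 j9_701_35 = true := by decide +kernel

noncomputable def j9_701_36 : List Job := [
  ⟨27, 0x4804222118a0522a15c381f09844180f01, 0, 80, 0x0, []⟩]

theorem t9_701_36 : jobs 8 S9 b8_701 j9_701_36 = true := by decide +kernel

noncomputable def j9_701_37 : List Job := [
  ⟨26, 0x508864623920924c26d00824422928964e27c804222118a0522a15c381f09844180f01, 0, 128, 0x0, []⟩]

theorem t9_701_37 : jobs 8 S9 b8_701 j9_701_37 = true := by decide +kernel

noncomputable def j9_701_38 : List Job := [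
  ⟨25, 0x621128a45a311a8e47e01028241a110a8643d08864623920924c26d00824422928964e27c804222118a0522a15c381f09844180f01, 0, 80, 0x0, []⟩]

theorem t9_701_38 : jobs 8 S9 b8_701 j9_701_38 = true := by decide +kernel

noncomputable def j9_701_39 : List Job := [
  ⟨24, 0x4361909844160901, 0, 20, 0x0, []⟩]

theorem t9_701_39 : jobs 8 S9 b8_701 j9_701_39 = true := by decide +kernel

noncomputable def j9_701_40 : List Job := [
  ⟨23, 0x508864623920924c26d00824422928964e27c361909844160901, 0, 32, 0x0, []⟩]

theorem t9_701_40 : jobs 8 S9 b8_701 j9_701_40 = true := by decide +kernel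

noncomputable def j9_701_41 : List Job := [
  ⟨22, 0x621128a45a311a8e47e01028241a110a8643d08864623920924c26d00824422928964e27c361909844160901, 0, 20, 0x0, []⟩]

theorem t9_701_41 : jobs 8 S9 b8_701 j9_701_41 = true := by decide +kernel

noncomputable def j9_701_42 : List Job := [
  ⟨21, 0x4904a26138b05a2e17c804222118a0522a15c361909844160901, 0, 20, 0x0, []⟩]

theorem t9_701_42 : jobs 8 S9 b8_701 j9_701_42 = true := by decide +kernel

noncomputable def j9_701_43 : List Job := [
  ⟨20, 0x508864623920924c26d00824422928964e27c904a26138b05a2e17c804222118a0522a15c361909844160901, 0, 32, 0x0, []⟩]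

theorem t9_701_43 : jobs 8 S9 b8_701 j9_701_43 = true := by decide +kernel

noncomputable def j9_701_44 : List Job := [
  ⟨19, 0x621128a45a311a8e47e01028241a110a8643d08864623920924c26d00824422928964e27c904a26138b05a2e17c804222118a0522a15c361909844160901, 0, 26, 0x3201003401, []⟩]

theorem t9_701_44 : jobs 8 S9 b8_701 j9_701_44 = true := by decide +kernel

noncomputable def j9_701_45 : List Job := [
  ⟨18, 0x4361909844160901, 0, 32, 0x0, []⟩]

theorem t9_701_45 : jobs 8 S9 b8_701 j9_701_45 = true := by decide +kernel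

noncomputable def j9_701_46 : List Job := [
  ⟨17, 0x621128a45a311a8e47e01028241a110a8643c361909844160901, 0, 32, 0x0, []⟩]

theorem t9_701_46 : jobs 8 S9 b8_701 j9_701_46 = true := by decide +kernel

noncomputable def j9_701_47 : List Job := [
  ⟨16, 0x508864623920924c26d00824422928964e27c361909844160901, 0, 32, 0x0, []⟩]

theorem t9_701_47 : jobs 8 S9 b8_701 j9_701_47 = true := by decide +kernel

noncomputable def j9_701_48 : List Job := [
  ⟨15, 0x621128a45a311a8e47e01028241a110a8643d08864623920924c26d00824422928964e27c361909844160901, 0, 32, 0x0, []⟩]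

theorem t9_701_48 : jobs 8 S9 b8_701 j9_701_48 = true := by decide +kernel

noncomputable def j9_701_49 : List Job := [
  ⟨14, 0x4904a26138b05a2e17c804222118a0522a15c361909844160901, 0, 32, 0x0, []⟩]

theorem t9_701_49 : jobs 8 S9 b8_701 j9_701_49 = true := by decide +kernel

noncomputable def j9_701_50 : List Job := [
  ⟨13, 0x621128a45a311a8e47e01028241a110a8643c904a26138b05a2e17c804222118a0522a15c361909844160901, 0, 32, 0x0, []⟩]

theorem t9_701_50 : jobs 8 S9 b8_701 j9_701_50 = true := by decide +kernel

noncomputable def j9_701_51 : List Job := [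
  ⟨12, 0x508864623920924c26d00824422928964e27c904a26138b05a2e17c804222118a0522a15c361909844160901, 0, 32, 0x0, []⟩]

theorem t9_701_51 : jobs 8 S9 b8_701 j9_701_51 = true := by decide +kernel

noncomputable def j9_701_52 : List Job := [
  ⟨11, 0x621128a45a311a8e47e01028241a110a8643d08864623920924c26d00824422928964e27c904a26138b05a2e17c804222118a0522a15c361909844160901, 0, 32, 0x0, []⟩]

theorem t9_701_52 : jobs 8 S9 b8_701 j9_701_52 = true := by decide +kernel

noncomputable def j9_701_53 : List Job := [
  ⟨10, 0x4361909844160901, 0, 20, 0x0, []⟩]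

theorem t9_701_53 : jobs 8 S9 b8_701 j9_701_53 = true := by decide +kernel

noncomputable def j9_701_54 : List Job := [
  ⟨9, 0x508864623920924c26d00824422928964e27c361909844160901, 0, 32, 0x0, []⟩]

theorem t9_701_54 : jobs 8 S9 b8_701 j9_701_54 = true := by decide +kernel

noncomputable def j9_701_55 : List Job := [
  ⟨8, 0x621128a45a311a8e47e01028241a110a8643d08864623920924c26d00824422928964e27c361909844160901, 0, 20, 0x0, []⟩]

theorem t9_701_55 : jobs 8 S9 b8_701 j9_701_55 = true := by decide +kernel

noncomputable def j9_701_56 : List Job := [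
  ⟨7, 0x4904a26138b05a2e17c804222118a0522a15c361909844160901, 0, 20, 0x0, []⟩]

theorem t9_701_56 : jobs 8 S9 b8_701 j9_701_56 = true := by decide +kernel

noncomputable def j9_701_57 : List Job := [
  ⟨6, 0x508864623920924c26d00824422928964e27c904a26138b05a2e17c804222118a0522a15c361909844160901, 0, 32, 0x0, []⟩]

theorem t9_701_57 : jobs 8 S9 b8_701 j9_701_57 = true := by decide +kernel

noncomputable def j9_701_58 : List Job := [
  ⟨5, 0x621128a45a311a8e47e01028241a110a8643d08864623920924c26d00824422928964e27c904a26138b05a2e17c804222118a0522a15c361909844160901, 0, 46, 0x5201005401, []⟩]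

theorem t9_701_58 : jobs 8 S9 b8_701 j9_701_58 = true := by decide +kernel

noncomputable def j9_701_59 : List Job := [
  ⟨4, 0x4804222118a0522a15c2e15098440e0501, 0, 32, 0x0, []⟩]

theorem t9_701_59 : jobs 8 S9 b8_701 j9_701_59 = true := by decide +kernel

noncomputable def j9_701_60 : List Job := [
  ⟨3, 0x621128a45a311a8e47e01028241a110a8643c804222118a0522a15c2e15098440e0501, 0, 32, 0x0, []⟩]

theorem t9_701_60 : jobs 8 S9 b8_701 j9_701_60 = true := by decide +kernel

noncomputable def j9_701_61 : List Job := [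
  ⟨2, 0x508864623920924c26d00824422928964e27c804222118a0522a15c2e15098440e0501, 0, 32, 0x0, []⟩]

theorem t9_701_61 : jobs 8 S9 b8_701 j9_701_61 = true := by decide +kernel

noncomputable def j9_701_62 : List Job := [
  ⟨1, 0x621128a45a311a8e47e01028241a110a8643d08864623920924c26d00824422928964e27c804222118a0522a15c2e15098440e0501, 0, 32, 0x0, []⟩]

theorem t9_701_62 : jobs 8 S9 b8_701 j9_701_62 = true := by decide +kernel

noncomputable def j9_701_63 : List Job := [
  ⟨0, 0x4804222118a0522a15c2e15098440e0501, 0, 20, 0x0, []⟩]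

theorem t9_701_63 : jobs 8 S9 b8_701 j9_701_63 = true := by decide +kernel

theorem d9_701 : Dn 8 S9 b8_701 := dn_of (Js := j9_701_0 ++ (j9_701_1 ++ (j9_701_2 ++ (j9_701_3 ++ (j9_701_4 ++ (j9_701_5 ++ (j9_701_6 ++ (j9_701_7 ++ (j9_701_8 ++ (j9_701_9 ++ (j9_701_10 ++ (j9_701_11 ++ (j9_701_12 ++ (j9_701_13 ++ (j9_701_14 ++ (j9_701_15 ++ (j9_701_16 ++ (j9_701_17 ++ (j9_701_18 ++ (j9_701_19 ++ (j9_701_20 ++ (j9_701_21 ++ (j9_701_22 ++ (j9_701_23 ++ (j9_701_24 ++ (j9_701_25 ++ (j9_701_26 ++ (j9_701_27 ++ (j9_701_28 ++ (j9_701_29 ++ (j9_701_30 ++ (j9_701_31 ++ (j9_701_32 ++ (j9_701_33 ++ (j9_701_34 ++ (j9_701_35 ++ (j9_701_36 ++ (j9_701_37 ++ (j9_701_38 ++ (j9_701_39 ++ (j9_701_40 ++ (j9_701_41 ++ (j9_701_42 ++ (j9_701_43 ++ (j9_701_44 ++ (j9_701_45 ++ (j9_701_46 ++ (j9_701_47 ++ (j9_701_48 ++ (j9_701_49 ++ (j9_701_50 ++ (j9_701_51 ++ (j9_701_52 ++ (j9_701_53 ++ (j9_701_54 ++ (j9_701_55 ++ (j9_701_56 ++ (j9_701_57 ++ (j9_701_58 ++ (j9_701_59 ++ (j9_701_60 ++ (j9_701_61 ++ (j9_701_62 ++ (j9_701_63 ++ []))))))))))))))))))))))))))))))))))))))))))))))))))))))))))))))))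
  (jobs_append t9_701_0 <| jobs_append t9_701_1 <| jobs_append t9_701_2 <| jobs_append t9_701_3 <| jobs_append t9_701_4 <| jobs_append t9_701_5 <| jobs_append t9_701_6 <| jobs_append t9_701_7 <| jobs_append t9_701_8 <| jobs_append t9_701_9 <| jobs_append t9_701_10 <| jobs_append t9_701_11 <| jobs_append t9_701_12 <| jobs_append t9_701_13 <| jobs_append t9_701_14 <| jobs_append t9_701_15 <| jobs_append t9_701_16 <| jobs_append t9_701_17 <| jobs_append t9_701_18 <| jobs_append t9_701_19 <| jobs_append t9_701_20 <| jobs_append t9_701_21 <| jobs_append t9_701_22 <| jobs_append t9_701_23 <| jobs_append t9_701_24 <| jobs_append t9_701_25 <| jobs_append t9_701_26 <| jobs_append t9_701_27 <| jobs_append t9_701_28 <| jobs_append t9_701_29 <| jobs_append t9_701_30 <| jobs_append t9_701_31 <| jobs_append t9_701_32 <| jobs_append t9_701_33 <| jobs_append t9_701_34 <| jobs_append t9_701_35 <| jobs_append t9_701_36 <| jobs_append t9_701_37 <| jobs_append t9_701_38 <| jobs_append t9_701_39 <| jobs_append t9_701_40 <| jobs_append t9_701_41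 <| jobs_append t9_701_42 <| jobs_append t9_701_43 <| jobs_append t9_701_44 <| jobs_append t9_701_45 <| jobs_append t9_701_46 <| jobs_append t9_701_47 <| jobs_append t9_701_48 <| jobs_append t9_701_49 <| jobs_append t9_701_50 <| jobs_append t9_701_51 <| jobs_append t9_701_52 <| jobs_append t9_701_53 <| jobs_append t9_701_54 <| jobs_append t9_701_55 <| jobs_append t9_701_56 <| jobs_append t9_701_57 <| jobs_append t9_701_58 <| jobs_append t9_701_59 <| jobs_append t9_701_60 <| jobs_append t9_701_61 <| jobs_append t9_701_62 <| jobs_append t9_701_63 <| List.forall_mem_nil _) (by decide +kernel)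

noncomputable def j9_702_0 : List Job := [
  ⟨63, 0x641229249a512a964ba61329a4da713a9e4fe01028241a110a8643a21128a45a311a8e47c804222118a0522a15c381f09844180f01, 0, 80, 0x0, []⟩]

theorem t9_702_0 : jobs 8 S9 b8_702 j9_702_0 = true := by decide +kernel

noncomputable def j9_702_1 : List Job := [
  ⟨62, 0x508864623920924c26d00824422928964e27c804222118a0522a15c381f09844180f01, 0, 80, 0x0, []⟩]

theorem t9_702_1 : jobs 8 S9 b8_702 j9_702_1 = true := by decide +kernel

noncomputable def j9_702_2 : List Job := [
  ⟨61, 0x641229249a512a964ba61329a4da713a9e4fe01028241a110a8643a21128a45a311a8e47d08864623920924c26d00824422928964e27c804222118a0522a15c381f09844180f01, 0, 80, 0x0, []⟩]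

theorem t9_702_2 : jobs 8 S9 b8_702 j9_702_2 = true := by decide +kernel

noncomputable def j9_702_3 : List Job := [
  ⟨60, 0x601028241a110a8643a21128a45a311a8e47c361909844160901, 0, 32, 0x0, []⟩]

theorem t9_702_3 : jobs 8 S9 b8_702 j9_702_3 = true := by decide +kernel

noncomputable def j9_702_4 : List Job := [
  ⟨59, 0x601028241a110a8643a21128a45a311a8e47d08864623920924c26d00824422928964e27c361909844160901, 0, 32, 0x0, []⟩]

theorem t9_702_4 : jobs 8 S9 b8_702 j9_702_4 = true := by decide +kernel

noncomputable def j9_702_5 : List Job := [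
  ⟨58, 0x601028241a110a8643a21128a45a311a8e47c904a26138b05a2e17c804222118a0522a15c361909844160901, 0, 32, 0x0, []⟩]

theorem t9_702_5 : jobs 8 S9 b8_702 j9_702_5 = true := by decide +kernel

noncomputable def j9_702_6 : List Job := [
  ⟨57, 0x601028241a110a8643a21128a45a311a8e47d08864623920924c26d00824422928964e27c904a26138b05a2e17c804222118a0522a15c361909844160901, 0, 32, 0x0, []⟩]

theorem t9_702_6 : jobs 8 S9 b8_702 j9_702_6 = true := by decide +kernel

noncomputable def j9_702_7 : List Job := [
  ⟨56, 0x4361909844160901, 0, 20, 0x0, []⟩]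

theorem t9_702_7 : jobs 8 S9 b8_702 j9_702_7 = true := by decide +kernel

noncomputable def j9_702_8 : List Job := [
  ⟨55, 0x641229249a512a964ba61329a4da713a9e4fe01028241a110a8643a21128a45a311a8e47c361909844160901, 0, 20, 0x0, []⟩]

theorem t9_702_8 : jobs 8 S9 b8_702 j9_702_8 = true := by decide +kernel

noncomputable def j9_702_9 : List Job := [
  ⟨54, 0x508864623920924c26d00824422928964e27c361909844160901, 0, 20, 0x0, []⟩]

theorem t9_702_9 : jobs 8 S9 b8_702 j9_702_9 = true := by decide +kernel

noncomputable def j9_702_10 : List Job := [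
  ⟨53, 0x641229249a512a964ba61329a4da713a9e4fe01028241a110a8643a21128a45a311a8e47d08864623920924c26d00824422928964e27c361909844160901, 0, 20, 0x0, []⟩]

theorem t9_702_10 : jobs 8 S9 b8_702 j9_702_10 = true := by decide +kernel

noncomputable def j9_702_11 : List Job := [
  ⟨52, 0x4904a26138b05a2e17c804222118a0522a15c361909844160901, 0, 20, 0x0, []⟩]

theorem t9_702_11 : jobs 8 S9 b8_702 j9_702_11 = true := by decide +kernel

noncomputable def j9_702_12 : List Job := [
  ⟨51, 0x641229249a512a964ba61329a4da713a9e4fe01028241a110a8643a21128a45a311a8e47c904a26138b05a2e17c804222118a0522a15c361909844160901, 0, 20, 0x0, []⟩]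

theorem t9_702_12 : jobs 8 S9 b8_702 j9_702_12 = true := by decide +kernel

noncomputable def j9_702_13 : List Job := [
  ⟨50, 0x508864623920924c26d00824422928964e27c904a26138b05a2e17c804222118a0522a15c361909844160901, 0, 20, 0x0, []⟩]

theorem t9_702_13 : jobs 8 S9 b8_702 j9_702_13 = true := by decide +kernel

noncomputable def j9_702_14 : List Job := [
  ⟨49, 0x641229249a512a964ba61329a4da713a9e4fe01028241a110a8643a21128a45a311a8e47d08864623920924c26d00824422928964e27c904a26138b05a2e17c804222118a0522a15c361909844160901, 0, 20, 0x0, []⟩]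

theorem t9_702_14 : jobs 8 S9 b8_702 j9_702_14 = true := by decide +kernel

noncomputable def j9_702_15 : List Job := [
  ⟨48, 0x601028241a110a8643a21128a45a311a8e47c361909844160901, 0, 32, 0x0, []⟩]

theorem t9_702_15 : jobs 8 S9 b8_702 j9_702_15 = true := by decide +kernel

noncomputable def j9_702_16 : List Job := [
  ⟨47, 0x601028241a110a8643a21128a45a311a8e47d08864623920924c26d00824422928964e27c361909844160901, 0, 32, 0x0, []⟩]

theorem t9_702_16 : jobs 8 S9 b8_702 j9_702_16 = true := by decide +kernel

noncomputable def j9_702_17 : List Job := [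
  ⟨46, 0x601028241a110a8643a21128a45a311a8e47c904a26138b05a2e17c804222118a0522a15c361909844160901, 0, 32, 0x0, []⟩]

theorem t9_702_17 : jobs 8 S9 b8_702 j9_702_17 = true := by decide +kernel

noncomputable def j9_702_18 : List Job := [
  ⟨45, 0x601028241a110a8643a21128a45a311a8e47d08864623920924c26d00824422928964e27c904a26138b05a2e17c804222118a0522a15c361909844160901, 0, 32, 0x0, []⟩]

theorem t9_702_18 : jobs 8 S9 b8_702 j9_702_18 = true := by decide +kernel

noncomputable def j9_702_19 : List Job := [
  ⟨44, 0x4361909844160901, 0, 20, 0x0, []⟩]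

theorem t9_702_19 : jobs 8 S9 b8_702 j9_702_19 = true := by decide +kernel

noncomputable def j9_702_20 : List Job := [
  ⟨43, 0x641229249a512a964ba61329a4da713a9e4fe01028241a110a8643a21128a45a311a8e47c361909844160901, 0, 20, 0x0, []⟩]

theorem t9_702_20 : jobs 8 S9 b8_702 j9_702_20 = true := by decide +kernel

noncomputable def j9_702_21 : List Job := [
  ⟨42, 0x508864623920924c26d00824422928964e27c361909844160901, 0, 20, 0x0, []⟩]

theorem t9_702_21 : jobs 8 S9 b8_702 j9_702_21 = true := by decide +kernel

noncomputable def j9_702_22 : List Job := [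
  ⟨41, 0x641229249a512a964ba61329a4da713a9e4fe01028241a110a8643a21128a45a311a8e47d08864623920924c26d00824422928964e27c361909844160901, 0, 20, 0x0, []⟩]

theorem t9_702_22 : jobs 8 S9 b8_702 j9_702_22 = true := by decide +kernel

noncomputable def j9_702_23 : List Job := [
  ⟨40, 0x4904a26138b05a2e17c804222118a0522a15c361909844160901, 0, 20, 0x0, []⟩]

theorem t9_702_23 : jobs 8 S9 b8_702 j9_702_23 = true := by decide +kernel

noncomputable def j9_702_24 : List Job := [
  ⟨39, 0x641229249a512a964ba61329a4da713a9e4fe01028241a110a8643a21128a45a311a8e47c904a26138b05a2e17c804222118a0522a15c361909844160901, 0, 20, 0x0, []⟩]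

theorem t9_702_24 : jobs 8 S9 b8_702 j9_702_24 = true := by decide +kernel

noncomputable def j9_702_25 : List Job := [
  ⟨38, 0x508864623920924c26d00824422928964e27c904a26138b05a2e17c804222118a0522a15c361909844160901, 0, 20, 0x0, []⟩]

theorem t9_702_25 : jobs 8 S9 b8_702 j9_702_25 = true := by decide +kernel

noncomputable def j9_702_26 : List Job := [
  ⟨37, 0x641229249a512a964ba61329a4da713a9e4fe01028241a110a8643a21128a45a311a8e47d08864623920924c26d00824422928964e27c904a26138b05a2e17c804222118a0522a15c361909844160901, 0, 50, 0x0, []⟩]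

theorem t9_702_26 : jobs 8 S9 b8_702 j9_702_26 = true := by decide +kernel

noncomputable def j9_702_27 : List Job := [
  ⟨36, 0x641229249a512a964ba61329a4da713a9e4fc804222118a0522a15c2e15098440e0501, 0, 32, 0x0, []⟩]

theorem t9_702_27 : jobs 8 S9 b8_702 j9_702_27 = true := by decide +kernel

noncomputable def j9_702_28 : List Job := [
  ⟨35, 0x601028241a110a8643a21128a45a311a8e47c804222118a0522a15c2e15098440e0501, 0, 32, 0x0, []⟩]

theorem t9_702_28 : jobs 8 S9 b8_702 j9_702_28 = true := by decide +kernel

noncomputable def j9_702_29 : List Job := [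
  ⟨34, 0x641229249a512a964ba61329a4da713a9e4fd08864623920924c26d00824422928964e27c804222118a0522a15c2e15098440e0501, 0, 32, 0x0, []⟩]

theorem t9_702_29 : jobs 8 S9 b8_702 j9_702_29 = true := by decide +kernel

noncomputable def j9_702_30 : List Job := [
  ⟨33, 0x601028241a110a8643a21128a45a311a8e47d08864623920924c26d00824422928964e27c804222118a0522a15c2e15098440e0501, 0, 32, 0x0, []⟩]

theorem t9_702_30 : jobs 8 S9 b8_702 j9_702_30 = true := by decide +kernel

noncomputable def j9_702_31 : List Job := [
  ⟨32, 0x4804222118a0522a15c2e15098440e0501, 0, 32, 0x0, []⟩]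

theorem t9_702_31 : jobs 8 S9 b8_702 j9_702_31 = true := by decide +kernel

noncomputable def j9_702_32 : List Job := [
  ⟨31, 0x641229249a512a964ba61329a4da713a9e4fe01028241a110a8643a21128a45a311a8e47c804222118a0522a15c2e15098440e0501, 0, 32, 0x0, []⟩]

theorem t9_702_32 : jobs 8 S9 b8_702 j9_702_32 = true := by decide +kernel

noncomputable def j9_702_33 : List Job := [
  ⟨30, 0x508864623920924c26d00824422928964e27c804222118a0522a15c2e15098440e0501, 0, 32, 0x0, []⟩]

theorem t9_702_33 : jobs 8 S9 b8_702 j9_702_33 = true := by decide +kernel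

noncomputable def j9_702_34 : List Job := [
  ⟨29, 0x641229249a512a964ba61329a4da713a9e4fe01028241a110a8643a21128a45a311a8e47d08864623920924c26d00824422928964e27c804222118a0522a15c2e15098440e0501, 0, 32, 0x0, []⟩]

theorem t9_702_34 : jobs 8 S9 b8_702 j9_702_34 = true := by decide +kernel

noncomputable def j9_702_35 : List Job := [
  ⟨28, 0x601028241a110a8643a21128a45a311a8e47c84462815480442915c2e15098440e0501, 0, 32, 0x0, []⟩]

theorem t9_702_35 : jobs 8 S9 b8_702 j9_702_35 = true := by decide +kernel

noncomputable def j9_702_36 : List Job := [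
  ⟨27, 0x601028241a110a8643a21128a45a311a8e47d08864623920924c26d00824422928964e27c84462815480442915c2e15098440e0501, 0, 32, 0x0, []⟩]

theorem t9_702_36 : jobs 8 S9 b8_702 j9_702_36 = true := by decide +kernel

noncomputable def j9_702_37 : List Job := [
  ⟨26, 0x601028241a110a8643a21128a45a311a8e47c84462915c8044281542e15098440e0501, 0, 32, 0x0, []⟩]

theorem t9_702_37 : jobs 8 S9 b8_702 j9_702_37 = true := by decide +kernel

noncomputable def j9_702_38 : List Job := [
  ⟨25, 0x601028241a110a8643a21128a45a311a8e47d08864623920924c26d00824422928964e27c84462915c8044281542e15098440e0501, 0, 32, 0x0, []⟩]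

theorem t9_702_38 : jobs 8 S9 b8_702 j9_702_38 = true := by decide +kernel

noncomputable def j9_702_39 : List Job := [
  ⟨24, 0x484462815480442915c2e15098440e0501, 0, 24, 0x0, []⟩]

theorem t9_702_39 : jobs 8 S9 b8_702 j9_702_39 = true := by decide +kernel

noncomputable def j9_702_40 : List Job := [
  ⟨23, 0x641229249a512a964ba61329a4da713a9e4fe01028241a110a8643a21128a45a311a8e47c84462815480442915c2e15098440e0501, 0, 24, 0x0, []⟩]

theorem t9_702_40 : jobs 8 S9 b8_702 j9_702_40 = true := by decide +kernel

noncomputable def j9_702_41 : List Job := [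
  ⟨22, 0x508864623920924c26d00824422928964e27c84462815480442915c2e15098440e0501, 0, 24, 0x0, []⟩]

theorem t9_702_41 : jobs 8 S9 b8_702 j9_702_41 = true := by decide +kernel

noncomputable def j9_702_42 : List Job := [
  ⟨21, 0x641229249a512a964ba61329a4da713a9e4fe01028241a110a8643a21128a45a311a8e47d08864623920924c26d00824422928964e27c84462815480442915c2e15098440e0501, 0, 33, 0x3401003801004001, []⟩]

theorem t9_702_42 : jobs 8 S9 b8_702 j9_702_42 = true := by decide +kernel

noncomputable def j9_702_43 : List Job := [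
  ⟨20, 0x484462915c8044281542e15098440e0501, 0, 24, 0x0, []⟩]

theorem t9_702_43 : jobs 8 S9 b8_702 j9_702_43 = true := by decide +kernel

noncomputable def j9_702_44 : List Job := [
  ⟨19, 0x641229249a512a964ba61329a4da713a9e4fe01028241a110a8643a21128a45a311a8e47c84462915c8044281542e15098440e0501, 0, 24, 0x0, []⟩]

theorem t9_702_44 : jobs 8 S9 b8_702 j9_702_44 = true := by decide +kernel

noncomputable def j9_702_45 : List Job := [
  ⟨18, 0x508864623920924c26d00824422928964e27c84462915c8044281542e15098440e0501, 0, 24, 0x0, []⟩]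

theorem t9_702_45 : jobs 8 S9 b8_702 j9_702_45 = true := by decide +kernel

noncomputable def j9_702_46 : List Job := [
  ⟨17, 0x641229249a512a964ba61329a4da713a9e4fe01028241a110a8643a21128a45a311a8e47d08864623920924c26d00824422928964e27c84462915c8044281542e15098440e0501, 0, 50, 0x0, []⟩]

theorem t9_702_46 : jobs 8 S9 b8_702 j9_702_46 = true := by decide +kernel

noncomputable def j9_702_47 : List Job := [
  ⟨16, 0x4a0522a15c80422211c381f09844180f01, 0, 128, 0x210000403000a03000c12001203001412001a03001c12008203008411008a13008c03009213009411009a03009c11, []⟩]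

theorem t9_702_47 : jobs 8 S9 b8_702 j9_702_47 = true := by decide +kernel

noncomputable def j9_702_48 : List Job := [
  ⟨15, 0x520924a259309a4e27d008242219108a4623ca0522a15c80422211c381f09844180f01, 0, 128, 0x210000411000a10000c03001203001403001a03001c12008210008403008a10008c11009203009412009a03009c03, []⟩]

theorem t9_702_48 : jobs 8 S9 b8_702 j9_702_48 = true := by decide +kernel

noncomputable def j9_702_49 : List Job := [
  ⟨14, 0x4a0522a15c80422211c381f09844180f01, 0, 80, 0x203000410000a11000c10001210001810005212005413005a03005c13006213006813, []⟩]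

theorem t9_702_49 : jobs 8 S9 b8_702 j9_702_49 = true := by decide +kernel

noncomputable def j9_702_50 : List Job := [
  ⟨13, 0x4a0522a15c80422211c381f09844180f01, 0, 80, 0x210000411000a03000c03001203001812005210005403005a13005c12006211006803, []⟩]

theorem t9_702_50 : jobs 8 S9 b8_702 j9_702_50 = true := by decide +kernel

noncomputable def j9_702_51 : List Job := [
  ⟨12, 0x520924a259309a4e27d008242219108a4623ca0522a15c80422211c381f09844180f01, 0, 80, 0x212000403000a03000c10001203001810005203005410005a12005c03006210006803, []⟩]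

theorem t9_702_51 : jobs 8 S9 b8_702 j9_702_51 = true := by decide +kernel

noncomputable def j9_702_52 : List Job := [
  ⟨11, 0x520924a259309a4e27d008242219108a4623ca0522a15c80422211c381f09844180f01, 0, 80, 0x210000411000a10000c11001211001803005210005411005a10005c11006203006811, []⟩]

theorem t9_702_52 : jobs 8 S9 b8_702 j9_702_52 = true := by decide +kernel

noncomputable def j9_702_53 : List Job := [
  ⟨10, 0x4361909844160901, 0, 32, 0x0, []⟩]

theorem t9_702_53 : jobs 8 S9 b8_702 j9_702_53 = true := by decide +kernel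

noncomputable def j9_702_54 : List Job := [
  ⟨9, 0x520924a259309a4e27d008242219108a4623c361909844160901, 0, 32, 0x0, []⟩]

theorem t9_702_54 : jobs 8 S9 b8_702 j9_702_54 = true := by decide +kernel

noncomputable def j9_702_55 : List Job := [
  ⟨8, 0x4b05a2e17ca0522a15c904a2613c80422211c361909844160901, 0, 32, 0x0, []⟩]

theorem t9_702_55 : jobs 8 S9 b8_702 j9_702_55 = true := by decide +kernel

noncomputable def j9_702_56 : List Job := [
  ⟨7, 0x520924a259309a4e27d008242219108a4623cb05a2e17ca0522a15c904a2613c80422211c361909844160901, 0, 32, 0x0, []⟩]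

theorem t9_702_56 : jobs 8 S9 b8_702 j9_702_56 = true := by decide +kernel

noncomputable def j9_702_57 : List Job := [
  ⟨6, 0x4361909844160901, 0, 20, 0x0, []⟩]

theorem t9_702_57 : jobs 8 S9 b8_702 j9_702_57 = true := by decide +kernel

noncomputable def j9_702_58 : List Job := [
  ⟨5, 0x4361909844160901, 0, 20, 0x0, []⟩]

theorem t9_702_58 : jobs 8 S9 b8_702 j9_702_58 = true := by decide +kernel

noncomputable def j9_702_59 : List Job := [
  ⟨4, 0x520924a259309a4e27d008242219108a4623c361909844160901, 0, 20, 0x0, []⟩]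

theorem t9_702_59 : jobs 8 S9 b8_702 j9_702_59 = true := by decide +kernel

noncomputable def j9_702_60 : List Job := [
  ⟨3, 0x520924a259309a4e27d008242219108a4623c361909844160901, 0, 20, 0x0, []⟩]

theorem t9_702_60 : jobs 8 S9 b8_702 j9_702_60 = true := by decide +kernel

noncomputable def j9_702_61 : List Job := [
  ⟨2, 0x4b05a2e17ca0522a15c904a2613c80422211c361909844160901, 0, 20, 0x0, []⟩]

theorem t9_702_61 : jobs 8 S9 b8_702 j9_702_61 = true := by decide +kernel

noncomputable def j9_702_62 : List Job := [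
  ⟨1, 0x4b05a2e17ca0522a15c904a2613c80422211c361909844160901, 0, 20, 0x0, []⟩]

theorem t9_702_62 : jobs 8 S9 b8_702 j9_702_62 = true := by decide +kernel

noncomputable def j9_702_63 : List Job := [
  ⟨0, 0x520924a259309a4e27d008242219108a4623cb05a2e17ca0522a15c904a2613c80422211c361909844160901, 0, 20, 0x0, []⟩]

theorem t9_702_63 : jobs 8 S9 b8_702 j9_702_63 = true := by decide +kernel

theorem d9_702 : Dn 8 S9 b8_702 := dn_of (Js := j9_702_0 ++ (j9_702_1 ++ (j9_702_2 ++ (j9_702_3 ++ (j9_702_4 ++ (j9_702_5 ++ (j9_702_6 ++ (j9_702_7 ++ (j9_702_8 ++ (j9_702_9 ++ (j9_702_10 ++ (j9_702_11 ++ (j9_702_12 ++ (j9_702_13 ++ (j9_702_14 ++ (j9_702_15 ++ (j9_702_16 ++ (j9_702_17 ++ (j9_702_18 ++ (j9_702_19 ++ (j9_702_20 ++ (j9_702_21 ++ (j9_702_22 ++ (j9_702_23 ++ (j9_702_24 ++ (j9_702_25 ++ (j9_702_26 ++ (j9_702_27 ++ (j9_702_28 ++ (j9_702_29 ++ (j9_702_30 ++ (j9_702_31 ++ (j9_702_32 ++ (j9_702_33 ++ (j9_702_34 ++ (j9_702_35 ++ (j9_702_36 ++ (j9_702_37 ++ (j9_702_38 ++ (j9_702_39 ++ (j9_702_40 ++ (j9_702_41 ++ (j9_702_42 ++ (j9_702_43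 ++ (j9_702_44 ++ (j9_702_45 ++ (j9_702_46 ++ (j9_702_47 ++ (j9_702_48 ++ (j9_702_49 ++ (j9_702_50 ++ (j9_702_51 ++ (j9_702_52 ++ (j9_702_53 ++ (j9_702_54 ++ (j9_702_55 ++ (j9_702_56 ++ (j9_702_57 ++ (j9_702_58 ++ (j9_702_59 ++ (j9_702_60 ++ (j9_702_61 ++ (j9_702_62 ++ (j9_702_63 ++ []))))))))))))))))))))))))))))))))))))))))))))))))))))))))))))))))
  (jobs_append t9_702_0 <| jobs_append t9_702_1 <| jobs_append t9_702_2 <| jobs_append t9_702_3 <| jobs_append t9_702_4 <| jobs_append t9_702_5 <| jobs_append t9_702_6 <| jobs_append t9_702_7 <| jobs_append t9_702_8 <| jobs_append t9_702_9 <| jobs_append t9_702_10 <| jobs_append t9_702_11 <| jobs_append t9_702_12 <| jobs_append t9_702_13 <| jobs_append t9_702_14 <| jobs_append t9_702_15 <| jobs_append t9_702_16 <| jobs_append t9_702_17 <| jobs_append t9_702_18 <| jobs_append t9_702_19 <| jobs_append t9_702_20 <| jobs_append t9_702_21 <| jobs_append t9_702_22 <| jobs_append t9_702_23 <| jobs_append t9_702_24 <| jobs_append t9_702_25 <| jobs_append t9_702_26 <| jobs_append t9_702_27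 <| jobs_append t9_702_28 <| jobs_append t9_702_29 <| jobs_append t9_702_30 <| jobs_append t9_702_31 <| jobs_append t9_702_32 <| jobs_append t9_702_33 <| jobs_append t9_702_34 <| jobs_append t9_702_35 <| jobs_append t9_702_36 <| jobs_append t9_702_37 <| jobs_append t9_702_38 <| jobs_append t9_702_39 <| jobs_append t9_702_40 <| jobs_append t9_702_41 <| jobs_append t9_702_42 <| jobs_append t9_702_43 <| jobs_append t9_702_44 <| jobs_append t9_702_45 <| jobs_append t9_702_46 <| jobs_append t9_702_47 <| jobs_append t9_702_48 <| jobs_append t9_702_49 <| jobs_append t9_702_50 <| jobs_append t9_702_51 <| jobs_append t9_702_52 <| jobs_append t9_702_53 <| jobs_append t9_702_54 <| jobs_append t9_702_55 <| jobs_append t9_702_56 <| jobs_append t9_702_57 <| jobs_append t9_702_58 <| jobs_append t9_702_59 <| jobs_append t9_702_60 <| jobs_append t9_702_61 <| jobs_append t9_702_62 <| jobs_append t9_702_63 <| List.forall_mem_nil _) (by decide +kernel)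

noncomputable def j9_703_0 : List Job := [
  ⟨63, 0x601028241a110a8643a21128a45a311a8e47d008242219108a4623920924a259309a4e27ca457281548447201142e15098440e0501, 0, 70, 0x5202005402005602005e02006002006202006402006e02007002007202, []⟩]

theorem t9_703_0 : jobs 8 S9 b8_703 j9_703_0 = true := by decide +kernel

noncomputable def j9_703_1 : List Job := [
  ⟨62, 0x601028241a110a8643a21128a45a311a8e47ca0522a15c80422211c2e15098440e0501, 0, 64, 0x0, []⟩]

theorem t9_703_1 : jobs 8 S9 b8_703 j9_703_1 = true := by decide +kernel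

noncomputable def j9_703_2 : List Job := [
  ⟨61, 0x601028241a110a8643a21128a45a311a8e47d40a25229950aa562b960b25a2d970ba5e2fd008242219108a4623920924a259309a4e27ca0522a15c80422211c2e15098440e0501, 0, 64, 0x0, []⟩]

theorem t9_703_2 : jobs 8 S9 b8_703 j9_703_2 = true := by decide +kernel

noncomputable def j9_703_3 : List Job := [
  ⟨60, 0x601028241a110a8643a21128a45a311a8e47ca457281548447201142e15098440e0501, 0, 64, 0x4202004402004602004802005202005402005a02005c02005e02006002006a02006c02, []⟩]

theorem t9_703_3 : jobs 8 S9 b8_703 j9_703_3 = true := by decide +kernel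

noncomputable def j9_703_4 : List Job := [
  ⟨59, 0x601028241a110a8643a21128a45a311a8e47d40a25229950aa562b960b25a2d970ba5e2fd008242219108a4623920924a259309a4e27ca457281548447201142e15098440e0501, 0, 64, 0x4202004402004602004802005202005402005a02005c02005e02006002006a02006c02, []⟩]

theorem t9_703_4 : jobs 8 S9 b8_703 j9_703_4 = true := by decide +kernel

noncomputable def j9_703_5 : List Job := [
  ⟨58, 0x4a0522a15c80422211c2e15098440e0501, 0, 31, 0x0, []⟩]

theorem t9_703_5 : jobs 8 S9 b8_703 j9_703_5 = true := by decide +kernel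

noncomputable def j9_703_6 : List Job := [
  ⟨57, 0x540a25229950aa562b960b25a2d970ba5e2fd008242219108a4623920924a259309a4e27ca0522a15c80422211c2e15098440e0501, 0, 49, 0x0, []⟩]

theorem t9_703_6 : jobs 8 S9 b8_703 j9_703_6 = true := by decide +kernel

noncomputable def j9_703_7 : List Job := [
  ⟨56, 0x641229249a512a964ba61329a4da713a9e4fe01028241a110a8643a21128a45a311a8e47d40a25229950aa562b960b25a2d970ba5e2fd008242219108a4623920924a259309a4e27ca0522a15c80422211c2e15098440e0501, 0, 37, 0x0, []⟩]

theorem t9_703_7 : jobs 8 S9 b8_703 j9_703_7 = true := by decide +kernel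

noncomputable def j9_703_8 : List Job := [
  ⟨55, 0x4a457281548447201142e15098440e0501, 0, 31, 0x2002002202002402002c02002e02003402, []⟩]

theorem t9_703_8 : jobs 8 S9 b8_703 j9_703_8 = true := by decide +kernel

noncomputable def j9_703_9 : List Job := [
  ⟨54, 0x540a25229950aa562b960b25a2d970ba5e2fd008242219108a4623920924a259309a4e27ca457281548447201142e15098440e0501, 0, 49, 0x3202003402003602003802004202004402004a02004c02005202, []⟩]

theorem t9_703_9 : jobs 8 S9 b8_703 j9_703_9 = true := by decide +kernel

noncomputable def j9_703_10 : List Job := [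
  ⟨53, 0x641229249a512a964ba61329a4da713a9e4fe01028241a110a8643a21128a45a311a8e47d40a25229950aa562b960b25a2d970ba5e2fd008242219108a4623920924a259309a4e27ca457281548447201142e15098440e0501, 0, 62, 0x2802002a02002c02003402003602003c02, []⟩]

theorem t9_703_10 : jobs 8 S9 b8_703 j9_703_10 = true := by decide +kernel

noncomputable def j9_703_11 : List Job := [
  ⟨52, 0x4804222118a0522a15c381f09844180f01, 0, 128, 0x0, []⟩]

theorem t9_703_11 : jobs 8 S9 b8_703 j9_703_11 = true := by decide +kernel

noncomputable def j9_703_12 : List Job := [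
  ⟨51, 0x508864623920924c26d00824422928964e27c804222118a0522a15c381f09844180f01, 0, 128, 0x0, []⟩]

theorem t9_703_12 : jobs 8 S9 b8_703 j9_703_12 = true := by decide +kernel

noncomputable def j9_703_13 : List Job := [
  ⟨50, 0x4804222118a0522a15c381f09844180f01, 0, 80, 0x0, []⟩]

theorem t9_703_13 : jobs 8 S9 b8_703 j9_703_13 = true := by decide +kernel

noncomputable def j9_703_14 : List Job := [
  ⟨49, 0x4804222118a0522a15c381f09844180f01, 0, 80, 0x0, []⟩]

theorem t9_703_14 : jobs 8 S9 b8_703 j9_703_14 = true := by decide +kernel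

noncomputable def j9_703_15 : List Job := [
  ⟨48, 0x508864623920924c26d00824422928964e27c804222118a0522a15c381f09844180f01, 0, 80, 0x0, []⟩]

theorem t9_703_15 : jobs 8 S9 b8_703 j9_703_15 = true := by decide +kernel

noncomputable def j9_703_16 : List Job := [
  ⟨47, 0x508864623920924c26d00824422928964e27c804222118a0522a15c381f09844180f01, 0, 80, 0x0, []⟩]

theorem t9_703_16 : jobs 8 S9 b8_703 j9_703_16 = true := by decide +kernel

noncomputable def j9_703_17 : List Job := [
  ⟨46, 0x4361909844160901, 0, 32, 0x0, []⟩]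

theorem t9_703_17 : jobs 8 S9 b8_703 j9_703_17 = true := by decide +kernel

noncomputable def j9_703_18 : List Job := [
  ⟨45, 0x508864623920924c26d00824422928964e27c361909844160901, 0, 32, 0x0, []⟩]

theorem t9_703_18 : jobs 8 S9 b8_703 j9_703_18 = true := by decide +kernel

noncomputable def j9_703_19 : List Job := [
  ⟨44, 0x4904a26138b05a2e17c804222118a0522a15c361909844160901, 0, 32, 0x0, []⟩]

theorem t9_703_19 : jobs 8 S9 b8_703 j9_703_19 = true := by decide +kernel

noncomputable def j9_703_20 : List Job := [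
  ⟨43, 0x508864623920924c26d00824422928964e27c904a26138b05a2e17c804222118a0522a15c361909844160901, 0, 32, 0x0, []⟩]

theorem t9_703_20 : jobs 8 S9 b8_703 j9_703_20 = true := by decide +kernel

noncomputable def j9_703_21 : List Job := [
  ⟨42, 0x4361909844160901, 0, 20, 0x0, []⟩]

theorem t9_703_21 : jobs 8 S9 b8_703 j9_703_21 = true := by decide +kernel

noncomputable def j9_703_22 : List Job := [
  ⟨41, 0x4361909844160901, 0, 20, 0x0, []⟩]

theorem t9_703_22 : jobs 8 S9 b8_703 j9_703_22 = true := by decide +kernel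

noncomputable def j9_703_23 : List Job := [
  ⟨40, 0x508864623920924c26d00824422928964e27c361909844160901, 0, 20, 0x0, []⟩]

theorem t9_703_23 : jobs 8 S9 b8_703 j9_703_23 = true := by decide +kernel

noncomputable def j9_703_24 : List Job := [
  ⟨39, 0x508864623920924c26d00824422928964e27c361909844160901, 0, 20, 0x0, []⟩]

theorem t9_703_24 : jobs 8 S9 b8_703 j9_703_24 = true := by decide +kernel

noncomputable def j9_703_25 : List Job := [
  ⟨38, 0x4904a26138b05a2e17c804222118a0522a15c361909844160901, 0, 20, 0x0, []⟩]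

theorem t9_703_25 : jobs 8 S9 b8_703 j9_703_25 = true := by decide +kernel

noncomputable def j9_703_26 : List Job := [
  ⟨37, 0x4904a26138b05a2e17c804222118a0522a15c361909844160901, 0, 20, 0x0, []⟩]

theorem t9_703_26 : jobs 8 S9 b8_703 j9_703_26 = true := by decide +kernel

noncomputable def j9_703_27 : List Job := [
  ⟨36, 0x508864623920924c26d00824422928964e27c904a26138b05a2e17c804222118a0522a15c361909844160901, 0, 20, 0x0, []⟩]

theorem t9_703_27 : jobs 8 S9 b8_703 j9_703_27 = true := by decide +kernel

noncomputable def j9_703_28 : List Job := [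
  ⟨35, 0x508864623920924c26d00824422928964e27c904a26138b05a2e17c804222118a0522a15c361909844160901, 0, 20, 0x0, []⟩]

theorem t9_703_28 : jobs 8 S9 b8_703 j9_703_28 = true := by decide +kernel

noncomputable def j9_703_29 : List Job := [
  ⟨34, 0x4361909844160901, 0, 32, 0x0, []⟩]

theorem t9_703_29 : jobs 8 S9 b8_703 j9_703_29 = true := by decide +kernel

noncomputable def j9_703_30 : List Job := [
  ⟨33, 0x508864623920924c26d00824422928964e27c361909844160901, 0, 32, 0x0, []⟩]

theorem t9_703_30 : jobs 8 S9 b8_703 j9_703_30 = true := by decide +kernel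

noncomputable def j9_703_31 : List Job := [
  ⟨32, 0x4904a26138b05a2e17c804222118a0522a15c361909844160901, 0, 32, 0x0, []⟩]

theorem t9_703_31 : jobs 8 S9 b8_703 j9_703_31 = true := by decide +kernel

noncomputable def j9_703_32 : List Job := [
  ⟨31, 0x508864623920924c26d00824422928964e27c904a26138b05a2e17c804222118a0522a15c361909844160901, 0, 32, 0x0, []⟩]

theorem t9_703_32 : jobs 8 S9 b8_703 j9_703_32 = true := by decide +kernel

noncomputable def j9_703_33 : List Job := [
  ⟨30, 0x4361909844160901, 0, 20, 0x0, []⟩]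

theorem t9_703_33 : jobs 8 S9 b8_703 j9_703_33 = true := by decide +kernel

noncomputable def j9_703_34 : List Job := [
  ⟨29, 0x4361909844160901, 0, 20, 0x0, []⟩]

theorem t9_703_34 : jobs 8 S9 b8_703 j9_703_34 = true := by decide +kernel

noncomputable def j9_703_35 : List Job := [
  ⟨28, 0x508864623920924c26d00824422928964e27c361909844160901, 0, 20, 0x0, []⟩]

theorem t9_703_35 : jobs 8 S9 b8_703 j9_703_35 = true := by decide +kernel

noncomputable def j9_703_36 : List Job := [
  ⟨27, 0x508864623920924c26d00824422928964e27c361909844160901, 0, 20, 0x0, []⟩]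

theorem t9_703_36 : jobs 8 S9 b8_703 j9_703_36 = true := by decide +kernel

noncomputable def j9_703_37 : List Job := [
  ⟨26, 0x4904a26138b05a2e17c804222118a0522a15c361909844160901, 0, 20, 0x0, []⟩]

theorem t9_703_37 : jobs 8 S9 b8_703 j9_703_37 = true := by decide +kernel

noncomputable def j9_703_38 : List Job := [
  ⟨25, 0x4904a26138b05a2e17c804222118a0522a15c361909844160901, 0, 20, 0x0, []⟩]

theorem t9_703_38 : jobs 8 S9 b8_703 j9_703_38 = true := by decide +kernel

noncomputable def j9_703_39 : List Job := [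
  ⟨24, 0x508864623920924c26d00824422928964e27c904a26138b05a2e17c804222118a0522a15c361909844160901, 0, 20, 0x0, []⟩]

theorem t9_703_39 : jobs 8 S9 b8_703 j9_703_39 = true := by decide +kernel

noncomputable def j9_703_40 : List Job := [
  ⟨23, 0x508864623920924c26d00824422928964e27c904a26138b05a2e17c804222118a0522a15c361909844160901, 0, 50, 0x0, []⟩]

theorem t9_703_40 : jobs 8 S9 b8_703 j9_703_40 = true := by decide +kernel

noncomputable def j9_703_41 : List Job := [
  ⟨22, 0x4804222118a0522a15c2e15098440e0501, 0, 32, 0x0, []⟩]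

theorem t9_703_41 : jobs 8 S9 b8_703 j9_703_41 = true := by decide +kernel

noncomputable def j9_703_42 : List Job := [
  ⟨21, 0x4804222118a0522a15c2e15098440e0501, 0, 32, 0x0, []⟩]

theorem t9_703_42 : jobs 8 S9 b8_703 j9_703_42 = true := by decide +kernel

noncomputable def j9_703_43 : List Job := [
  ⟨20, 0x508864623920924c26d00824422928964e27c804222118a0522a15c2e15098440e0501, 0, 32, 0x0, []⟩]

theorem t9_703_43 : jobs 8 S9 b8_703 j9_703_43 = true := by decide +kernel

noncomputable def j9_703_44 : List Job := [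
  ⟨19, 0x508864623920924c26d00824422928964e27c804222118a0522a15c2e15098440e0501, 0, 32, 0x0, []⟩]

theorem t9_703_44 : jobs 8 S9 b8_703 j9_703_44 = true := by decide +kernel

noncomputable def j9_703_45 : List Job := [
  ⟨18, 0x4804222118a0522a15c2e15098440e0501, 0, 32, 0x0, []⟩]

theorem t9_703_45 : jobs 8 S9 b8_703 j9_703_45 = true := by decide +kernel

noncomputable def j9_703_46 : List Job := [
  ⟨17, 0x4804222118a0522a15c2e15098440e0501, 0, 32, 0x0, []⟩]

theorem t9_703_46 : jobs 8 S9 b8_703 j9_703_46 = true := by decide +kernel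

noncomputable def j9_703_47 : List Job := [
  ⟨16, 0x508864623920924c26d00824422928964e27c804222118a0522a15c2e15098440e0501, 0, 32, 0x0, []⟩]

theorem t9_703_47 : jobs 8 S9 b8_703 j9_703_47 = true := by decide +kernel

noncomputable def j9_703_48 : List Job := [
  ⟨15, 0x508864623920924c26d00824422928964e27c804222118a0522a15c2e15098440e0501, 0, 32, 0x0, []⟩]

theorem t9_703_48 : jobs 8 S9 b8_703 j9_703_48 = true := by decide +kernel

noncomputable def j9_703_49 : List Job := [
  ⟨14, 0x484462815480442915c2e15098440e0501, 0, 32, 0x0, []⟩]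

theorem t9_703_49 : jobs 8 S9 b8_703 j9_703_49 = true := by decide +kernel

noncomputable def j9_703_50 : List Job := [
  ⟨13, 0x508864623920924c26d00824422928964e27c84462815480442915c2e15098440e0501, 0, 32, 0x0, []⟩]

theorem t9_703_50 : jobs 8 S9 b8_703 j9_703_50 = true := by decide +kernel

noncomputable def j9_703_51 : List Job := [
  ⟨12, 0x484462915c8044281542e15098440e0501, 0, 32, 0x0, []⟩]

theorem t9_703_51 : jobs 8 S9 b8_703 j9_703_51 = true := by decide +kernel

noncomputable def j9_703_52 : List Job := [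
  ⟨11, 0x508864623920924c26d00824422928964e27c84462915c8044281542e15098440e0501, 0, 32, 0x0, []⟩]

theorem t9_703_52 : jobs 8 S9 b8_703 j9_703_52 = true := by decide +kernel

noncomputable def j9_703_53 : List Job := [
  ⟨10, 0x484462915c8044281542e15098440e0501, 0, 24, 0x0, []⟩]

theorem t9_703_53 : jobs 8 S9 b8_703 j9_703_53 = true := by decide +kernel

noncomputable def j9_703_54 : List Job := [
  ⟨9, 0x484462815480442915c2e15098440e0501, 0, 24, 0x0, []⟩]

theorem t9_703_54 : jobs 8 S9 b8_703 j9_703_54 = true := by decide +kernel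

noncomputable def j9_703_55 : List Job := [
  ⟨8, 0x508864623920924c26d00824422928964e27c84462915c8044281542e15098440e0501, 0, 30, 0x0, []⟩]

theorem t9_703_55 : jobs 8 S9 b8_703 j9_703_55 = true := by decide +kernel

noncomputable def j9_703_56 : List Job := [
  ⟨7, 0x508864623920924c26d00824422928964e27c84462815480442915c2e15098440e0501, 0, 24, 0x0, []⟩]

theorem t9_703_56 : jobs 8 S9 b8_703 j9_703_56 = true := by decide +kernel

noncomputable def j9_703_57 : List Job := [
  ⟨6, 0x484462815480442915c2e15098440e0501, 0, 24, 0x0, []⟩]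

theorem t9_703_57 : jobs 8 S9 b8_703 j9_703_57 = true := by decide +kernel

noncomputable def j9_703_58 : List Job := [
  ⟨5, 0x484462915c8044281542e15098440e0501, 0, 24, 0x0, []⟩]

theorem t9_703_58 : jobs 8 S9 b8_703 j9_703_58 = true := by decide +kernel

noncomputable def j9_703_59 : List Job := [
  ⟨4, 0x508864623920924c26d00824422928964e27c84462815480442915c2e15098440e0501, 0, 24, 0x0, []⟩]

theorem t9_703_59 : jobs 8 S9 b8_703 j9_703_59 = true := by decide +kernel

noncomputable def j9_703_60 : List Job := [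
  ⟨3, 0x508864623920924c26d00824422928964e27c84462915c8044281542e15098440e0501, 0, 50, 0x0, []⟩]

theorem t9_703_60 : jobs 8 S9 b8_703 j9_703_60 = true := by decide +kernel

noncomputable def j9_703_61 : List Job := [
  ⟨2, 0x601028241a110a8643a21128a45a311a8e47c804222118a0522a15c381f09844180f01, 0, 128, 0x0, []⟩]

theorem t9_703_61 : jobs 8 S9 b8_703 j9_703_61 = true := by decide +kernel

noncomputable def j9_703_62 : List Job := [
  ⟨1, 0x601028241a110a8643a21128a45a311a8e47d08864623920924c26d00824422928964e27c804222118a0522a15c381f09844180f01, 0, 128, 0x0, []⟩]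

theorem t9_703_62 : jobs 8 S9 b8_703 j9_703_62 = true := by decide +kernel

noncomputable def j9_703_63 : List Job := [
  ⟨0, 0x4804222118a0522a15c381f09844180f01, 0, 80, 0x0, []⟩]

theorem t9_703_63 : jobs 8 S9 b8_703 j9_703_63 = true := by decide +kernel

theorem d9_703 : Dn 8 S9 b8_703 := dn_of (Js := j9_703_0 ++ (j9_703_1 ++ (j9_703_2 ++ (j9_703_3 ++ (j9_703_4 ++ (j9_703_5 ++ (j9_703_6 ++ (j9_703_7 ++ (j9_703_8 ++ (j9_703_9 ++ (j9_703_10 ++ (j9_703_11 ++ (j9_703_12 ++ (j9_703_13 ++ (j9_703_14 ++ (j9_703_15 ++ (j9_703_16 ++ (j9_703_17 ++ (j9_703_18 ++ (j9_703_19 ++ (j9_703_20 ++ (j9_703_21 ++ (j9_703_22 ++ (j9_703_23 ++ (j9_703_24 ++ (j9_703_25 ++ (j9_703_26 ++ (j9_703_27 ++ (j9_703_28 ++ (j9_703_29 ++ (j9_703_30 ++ (j9_703_31 ++ (j9_703_32 ++ (j9_703_33 ++ (j9_703_34 ++ (j9_703_35 ++ (j9_703_36 ++ (j9_703_37 ++ (j9_703_38 ++ (j9_703_39 ++ (j9_703_40 ++ (j9_703_41 ++ (j9_703_42 ++ (j9_703_43 ++ (j9_703_44 ++ (j9_703_45 ++ (j9_703_46 ++ (j9_703_47 ++ (j9_703_48 ++ (j9_703_49 ++ (j9_703_50 ++ (j9_703_51 ++ (j9_703_52 ++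 (j9_703_53 ++ (j9_703_54 ++ (j9_703_55 ++ (j9_703_56 ++ (j9_703_57 ++ (j9_703_58 ++ (j9_703_59 ++ (j9_703_60 ++ (j9_703_61 ++ (j9_703_62 ++ (j9_703_63 ++ []))))))))))))))))))))))))))))))))))))))))))))))))))))))))))))))))
  (jobs_append t9_703_0 <| jobs_append t9_703_1 <| jobs_append t9_703_2 <| jobs_append t9_703_3 <| jobs_append t9_703_4 <| jobs_append t9_703_5 <| jobs_append t9_703_6 <| jobs_append t9_703_7 <| jobs_append t9_703_8 <| jobs_append t9_703_9 <| jobs_append t9_703_10 <| jobs_append t9_703_11 <| jobs_append t9_703_12 <| jobs_append t9_703_13 <| jobs_append t9_703_14 <| jobs_append t9_703_15 <| jobs_append t9_703_16 <| jobs_append t9_703_17 <| jobs_append t9_703_18 <| jobs_append t9_703_19 <| jobs_append t9_703_20 <| jobs_append t9_703_21 <| jobs_append t9_703_22 <| jobs_append t9_703_23 <| jobs_append t9_703_24 <| jobs_append t9_703_25 <| jobs_append t9_703_26 <| jobs_append t9_703_27 <| jobs_append t9_703_28 <| jobs_append t9_703_29 <| jobs_append t9_703_30 <| jobs_append t9_703_31 <| jobs_append t9_703_32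 <| jobs_append t9_703_33 <| jobs_append t9_703_34 <| jobs_append t9_703_35 <| jobs_append t9_703_36 <| jobs_append t9_703_37 <| jobs_append t9_703_38 <| jobs_append t9_703_39 <| jobs_append t9_703_40 <| jobs_append t9_703_41 <| jobs_append t9_703_42 <| jobs_append t9_703_43 <| jobs_append t9_703_44 <| jobs_append t9_703_45 <| jobs_append t9_703_46 <| jobs_append t9_703_47 <| jobs_append t9_703_48 <| jobs_append t9_703_49 <| jobs_append t9_703_50 <| jobs_append t9_703_51 <| jobs_append t9_703_52 <| jobs_append t9_703_53 <| jobs_append t9_703_54 <| jobs_append t9_703_55 <| jobs_append t9_703_56 <| jobs_append t9_703_57 <| jobs_append t9_703_58 <| jobs_append t9_703_59 <| jobs_append t9_703_60 <| jobs_append t9_703_61 <| jobs_append t9_703_62 <| jobs_append t9_703_63 <| List.forall_mem_nil _) (by decide +kernel)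

end Cfsg.Agent.FS.N.Sw
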