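import Cfsg.Agent.FS.N.Sw.Seg
import Cfsg.Agent.FS.N.G.S9
import Cfsg.Agent.FS.N.G.L.L28
import Cfsg.Agent.FS.N.G.L.L29

/-! The filter on the pairs for the order 512, part 72 (generated; helper52, project FS) -/

set_option autoImplicit false
set_option maxRecDepth 100000
set_option Elab.async false

namespace Cfsg.Agent.FS.N.Sw

open G

noncomputable def j9_704_0 : List Job := [
  ⟨63, 0x4a0522a15c80422211c381f09844180f01, 0, 56, 0x210000403000a13000c03001203001803004e13005203005603, []⟩]

theorem t9_704_0 : jobs 8 S9 b8_704 j9_704_0 = true := by decide +kernel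

noncomputable def j9_704_1 : List Job := [
  ⟨62, 0x540a25229950aa562b960b25a2d970ba5e2fd008242219108a4623920924a259309a4e27ca0522a15c80422211c381f09844180f01, 0, 56, 0x210000403000a10000c03001203001803004e10005203005603, []⟩]

theorem t9_704_1 : jobs 8 S9 b8_704 j9_704_1 = true := by decide +kernel

noncomputable def j9_704_2 : List Job := [
  ⟨61, 0x4a0522a15c80422211c381f09844180f01, 0, 56, 0x210000412000a13000c11001203001603004e13005212005603, []⟩]

theorem t9_704_2 : jobs 8 S9 b8_704 j9_704_2 = true := by decide +kernel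

noncomputable def j9_704_3 : List Job := [
  ⟨60, 0x540a25229950aa562b960b25a2d970ba5e2fd008242219108a4623920924a259309a4e27ca0522a15c80422211c381f09844180f01, 0, 56, 0x210000411000a10000c11001203001603004e10005211005603, []⟩]

theorem t9_704_3 : jobs 8 S9 b8_704 j9_704_3 = true := by decide +kernel

noncomputable def j9_704_4 : List Job := [
  ⟨59, 0x5008242219108a4623920924a259309a4e27c361909844160901, 0, 32, 0x0, []⟩]

theorem t9_704_4 : jobs 8 S9 b8_704 j9_704_4 = true := by decide +kernel

noncomputable def j9_704_5 : List Job := [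
  ⟨58, 0x5008242219108a4623920924a259309a4e27cb05a2e17ca0522a15c904a2613c80422211c361909844160901, 0, 32, 0x0, []⟩]

theorem t9_704_5 : jobs 8 S9 b8_704 j9_704_5 = true := by decide +kernel

noncomputable def j9_704_6 : List Job := [
  ⟨57, 0x5008242219108a4623920924a259309a4e27c361909844160901, 0, 24, 0x0, []⟩]

theorem t9_704_6 : jobs 8 S9 b8_704 j9_704_6 = true := by decide +kernel

noncomputable def j9_704_7 : List Job := [
  ⟨56, 0x5008242219108a4623920924a259309a4e27c361909844160901, 0, 24, 0x0, []⟩]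

theorem t9_704_7 : jobs 8 S9 b8_704 j9_704_7 = true := by decide +kernel

noncomputable def j9_704_8 : List Job := [
  ⟨55, 0x5008242219108a4623920924a259309a4e27cb05a2e17ca0522a15c904a2613c80422211c361909844160901, 0, 24, 0x0, []⟩]

theorem t9_704_8 : jobs 8 S9 b8_704 j9_704_8 = true := by decide +kernel

noncomputable def j9_704_9 : List Job := [
  ⟨54, 0x5008242219108a4623920924a259309a4e27cb05a2e17ca0522a15c904a2613c80422211c361909844160901, 0, 24, 0x0, []⟩]

theorem t9_704_9 : jobs 8 S9 b8_704 j9_704_9 = true := by decide +kernel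

noncomputable def j9_704_10 : List Job := [
  ⟨53, 0x4361909844160901, 0, 20, 0x0, []⟩]

theorem t9_704_10 : jobs 8 S9 b8_704 j9_704_10 = true := by decide +kernel

noncomputable def j9_704_11 : List Job := [
  ⟨52, 0x540a25229950aa562b960b25a2d970ba5e2fd008242219108a4623920924a259309a4e27c361909844160901, 0, 20, 0x0, []⟩]

theorem t9_704_11 : jobs 8 S9 b8_704 j9_704_11 = true := by decide +kernel

noncomputable def j9_704_12 : List Job := [
  ⟨51, 0x4b05a2e17ca0522a15c904a2613c80422211c361909844160901, 0, 20, 0x0, []⟩]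

theorem t9_704_12 : jobs 8 S9 b8_704 j9_704_12 = true := by decide +kernel

noncomputable def j9_704_13 : List Job := [
  ⟨50, 0x540a25229950aa562b960b25a2d970ba5e2fd008242219108a4623920924a259309a4e27cb05a2e17ca0522a15c904a2613c80422211c361909844160901, 0, 20, 0x0, []⟩]

theorem t9_704_13 : jobs 8 S9 b8_704 j9_704_13 = true := by decide +kernel

noncomputable def j9_704_14 : List Job := [
  ⟨49, 0x4361909844160901, 0, 18, 0x0, []⟩]

theorem t9_704_14 : jobs 8 S9 b8_704 j9_704_14 = true := by decide +kernel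

noncomputable def j9_704_15 : List Job := [
  ⟨48, 0x4361909844160901, 0, 18, 0x0, []⟩]

theorem t9_704_15 : jobs 8 S9 b8_704 j9_704_15 = true := by decide +kernel

noncomputable def j9_704_16 : List Job := [
  ⟨47, 0x540a25229950aa562b960b25a2d970ba5e2fd008242219108a4623920924a259309a4e27c361909844160901, 0, 18, 0x0, []⟩]

theorem t9_704_16 : jobs 8 S9 b8_704 j9_704_16 = true := by decide +kernel

noncomputable def j9_704_17 : List Job := [
  ⟨46, 0x540a25229950aa562b960b25a2d970ba5e2fd008242219108a4623920924a259309a4e27c361909844160901, 0, 18, 0x0, []⟩]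

theorem t9_704_17 : jobs 8 S9 b8_704 j9_704_17 = true := by decide +kernel

noncomputable def j9_704_18 : List Job := [
  ⟨45, 0x4b05a2e17ca0522a15c904a2613c80422211c361909844160901, 0, 18, 0x0, []⟩]

theorem t9_704_18 : jobs 8 S9 b8_704 j9_704_18 = true := by decide +kernel

noncomputable def j9_704_19 : List Job := [
  ⟨44, 0x4b05a2e17ca0522a15c904a2613c80422211c361909844160901, 0, 18, 0x0, []⟩]

theorem t9_704_19 : jobs 8 S9 b8_704 j9_704_19 = true := by decide +kernel

noncomputable def j9_704_20 : List Job := [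
  ⟨43, 0x540a25229950aa562b960b25a2d970ba5e2fd008242219108a4623920924a259309a4e27cb05a2e17ca0522a15c904a2613c80422211c361909844160901, 0, 24, 0x2601002801002a01002c01, []⟩]

theorem t9_704_20 : jobs 8 S9 b8_704 j9_704_20 = true := by decide +kernel

noncomputable def j9_704_21 : List Job := [
  ⟨42, 0x540a25229950aa562b960b25a2d970ba5e2fd008242219108a4623920924a259309a4e27cb05a2e17ca0522a15c904a2613c80422211c361909844160901, 0, 42, 0x2610002811002a09002c10002e11003008003e10004008004211004a01005001, []⟩]

theorem t9_704_21 : jobs 8 S9 b8_704 j9_704_21 = true := by decide +kernel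

noncomputable def j9_704_22 : List Job := [
  ⟨41, 0x5008242219108a4623920924a259309a4e27ca0522a15c80422211c2e15098440e0501, 0, 32, 0x0, []⟩]

theorem t9_704_22 : jobs 8 S9 b8_704 j9_704_22 = true := by decide +kernel

noncomputable def j9_704_23 : List Job := [
  ⟨40, 0x5008242219108a4623920924a259309a4e27ca0522a15c80422211c2e15098440e0501, 0, 32, 0x0, []⟩]

theorem t9_704_23 : jobs 8 S9 b8_704 j9_704_23 = true := by decide +kernel

noncomputable def j9_704_24 : List Job := [
  ⟨39, 0x4a0522a15c80422211c2e15098440e0501, 0, 20, 0x0, []⟩]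

theorem t9_704_24 : jobs 8 S9 b8_704 j9_704_24 = true := by decide +kernel

noncomputable def j9_704_25 : List Job := [
  ⟨38, 0x540a25229950aa562b960b25a2d970ba5e2fd008242219108a4623920924a259309a4e27ca0522a15c80422211c2e15098440e0501, 0, 20, 0x0, []⟩]

theorem t9_704_25 : jobs 8 S9 b8_704 j9_704_25 = true := by decide +kernel

noncomputable def j9_704_26 : List Job := [
  ⟨37, 0x4a0522a15c80422211c2e15098440e0501, 0, 20, 0x0, []⟩]

theorem t9_704_26 : jobs 8 S9 b8_704 j9_704_26 = true := by decide +kernel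

noncomputable def j9_704_27 : List Job := [
  ⟨36, 0x540a25229950aa562b960b25a2d970ba5e2fd008242219108a4623920924a259309a4e27ca0522a15c80422211c2e15098440e0501, 0, 20, 0x0, []⟩]

theorem t9_704_27 : jobs 8 S9 b8_704 j9_704_27 = true := by decide +kernel

noncomputable def j9_704_28 : List Job := [
  ⟨35, 0x5008242219108a4623920924a259309a4e27ca0522a15c80422211c2e15098440e0501, 0, 24, 0x0, []⟩]

theorem t9_704_28 : jobs 8 S9 b8_704 j9_704_28 = true := by decide +kernel

noncomputable def j9_704_29 : List Job := [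
  ⟨34, 0x5008242219108a4623920924a259309a4e27ca457281548447201142e15098440e0501, 0, 24, 0x202000413000602000802000a11000c02001a02001c11001e02002002002213002402, []⟩]

theorem t9_704_29 : jobs 8 S9 b8_704 j9_704_29 = true := by decide +kernel

noncomputable def j9_704_30 : List Job := [
  ⟨33, 0x5008242219108a4623920924a259309a4e27ca0522a15c80422211c2e15098440e0501, 0, 24, 0x0, []⟩]

theorem t9_704_30 : jobs 8 S9 b8_704 j9_704_30 = true := by decide +kernel

noncomputable def j9_704_31 : List Job := [
  ⟨32, 0x5008242219108a4623920924a259309a4e27ca457281548447201142e15098440e0501, 0, 24, 0x212000411000602000810000a13000c02001a10001c13001e02002012002211002402, []⟩]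

theorem t9_704_31 : jobs 8 S9 b8_704 j9_704_31 = true := by decide +kernel

noncomputable def j9_704_32 : List Job := [
  ⟨31, 0x4a0522a15c80422211c2e15098440e0501, 0, 18, 0x0, []⟩]

theorem t9_704_32 : jobs 8 S9 b8_704 j9_704_32 = true := by decide +kernel

noncomputable def j9_704_33 : List Job := [
  ⟨30, 0x540a25229950aa562b960b25a2d970ba5e2fd008242219108a4623920924a259309a4e27ca0522a15c80422211c2e15098440e0501, 0, 18, 0x0, []⟩]

theorem t9_704_33 : jobs 8 S9 b8_704 j9_704_33 = true := by decide +kernel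

noncomputable def j9_704_34 : List Job := [
  ⟨29, 0x4a457281548447201142e15098440e0501, 0, 18, 0x202000411000602000802000a11000c02001a02001c02001e13, []⟩]

theorem t9_704_34 : jobs 8 S9 b8_704 j9_704_34 = true := by decide +kernel

noncomputable def j9_704_35 : List Job := [
  ⟨28, 0x540a25229950aa562b960b25a2d970ba5e2fd008242219108a4623920924a259309a4e27ca457281548447201142e15098440e0501, 0, 18, 0x202000413000602000802000a13000c02001a02001c02001e13, []⟩]

theorem t9_704_35 : jobs 8 S9 b8_704 j9_704_35 = true := by decide +kernel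

noncomputable def j9_704_36 : List Job := [
  ⟨27, 0x4a0522a15c80422211c2e15098440e0501, 0, 18, 0x0, []⟩]

theorem t9_704_36 : jobs 8 S9 b8_704 j9_704_36 = true := by decide +kernel

noncomputable def j9_704_37 : List Job := [
  ⟨26, 0x540a25229950aa562b960b25a2d970ba5e2fd008242219108a4623920924a259309a4e27ca0522a15c80422211c2e15098440e0501, 0, 18, 0x0, []⟩]

theorem t9_704_37 : jobs 8 S9 b8_704 j9_704_37 = true := by decide +kernel

noncomputable def j9_704_38 : List Job := [
  ⟨25, 0x4a457281548447201142e15098440e0501, 0, 18, 0x212000413000602000812000a13000c02001a10001c02001e11, []⟩]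

theorem t9_704_38 : jobs 8 S9 b8_704 j9_704_38 = true := by decide +kernel

noncomputable def j9_704_39 : List Job := [
  ⟨24, 0x540a25229950aa562b960b25a2d970ba5e2fd008242219108a4623920924a259309a4e27ca457281548447201142e15098440e0501, 0, 42, 0x210000411000602000810000a11000c02001a10001c02001e11, []⟩]

theorem t9_704_39 : jobs 8 S9 b8_704 j9_704_39 = true := by decide +kernel

noncomputable def j9_704_40 : List Job := [
  ⟨23, 0x601028241a110a8643a21128a45a311a8e47d008242219108a4623920924a259309a4e27ca0522a15c80422211c381f09844180f01, 0, 160, 0x5203005403005a03008203008403008a03008c0300c20300c40300ca03, []⟩]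

theorem t9_704_40 : jobs 8 S9 b8_704 j9_704_40 = true := by decide +kernel

noncomputable def j9_704_41 : List Job := [
  ⟨22, 0x601028241a110a8643a21128a45a311a8e47ca0522a15c80422211c381f09844180f01, 0, 144, 0x8203008403008a03008c0300ba0300be0300d20300d40300da0300dc03010a03010e03, []⟩]

theorem t9_704_41 : jobs 8 S9 b8_704 j9_704_41 = true := by decide +kernel

noncomputable def j9_704_42 : List Job := [
  ⟨21, 0x601028241a110a8643a21128a45a311a8e47d40a25229950aa562b960b25a2d970ba5e2fd008242219108a4623920924a259309a4e27ca0522a15c80422211c381f09844180f01, 0, 144, 0x8203008403008a03008c0300ba0300be0300d20300d40300da0300dc03010a03010e03, []⟩]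

theorem t9_704_42 : jobs 8 S9 b8_704 j9_704_42 = true := by decide +kernel

noncomputable def j9_704_43 : List Job := [
  ⟨20, 0x4a0522a15c80422211c381f09844180f01, 0, 66, 0x3a03003c03004203006203006603007a03, []⟩]

theorem t9_704_43 : jobs 8 S9 b8_704 j9_704_43 = true := by decide +kernel

noncomputable def j9_704_44 : List Job := [
  ⟨19, 0x540a25229950aa562b960b25a2d970ba5e2fd008242219108a4623920924a259309a4e27ca0522a15c80422211c381f09844180f01, 0, 96, 0x5203005403005a03005c03008603008a03009e0300a20300b603, []⟩]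

theorem t9_704_44 : jobs 8 S9 b8_704 j9_704_44 = true := by decide +kernel

noncomputable def j9_704_45 : List Job := [
  ⟨18, 0x641229249a512a964ba61329a4da713a9e4fe01028241a110a8643a21128a45a311a8e47d40a25229950aa562b960b25a2d970ba5e2fd008242219108a4623920924a259309a4e27ca0522a15c80422211c381f09844180f01, 0, 66, 0x3a03003c03004203006203006603007a03, []⟩]

theorem t9_704_45 : jobs 8 S9 b8_704 j9_704_45 = true := by decide +kernel

noncomputable def j9_704_46 : List Job := [
  ⟨17, 0x601028241a110a8643a21128a45a311a8e47c361909844160901, 0, 40, 0x0, []⟩]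

theorem t9_704_46 : jobs 8 S9 b8_704 j9_704_46 = true := by decide +kernel

noncomputable def j9_704_47 : List Job := [
  ⟨16, 0x601028241a110a8643a21128a45a311a8e47d40a25229950aa562b960b25a2d970ba5e2fd008242219108a4623920924a259309a4e27c361909844160901, 0, 40, 0x0, []⟩]

theorem t9_704_47 : jobs 8 S9 b8_704 j9_704_47 = true := by decide +kernel

noncomputable def j9_704_48 : List Job := [
  ⟨15, 0x601028241a110a8643a21128a45a311a8e47cb05a2e17ca0522a15c904a2613c80422211c361909844160901, 0, 40, 0x0, []⟩]

theorem t9_704_48 : jobs 8 S9 b8_704 j9_704_48 = true := by decide +kernel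

noncomputable def j9_704_49 : List Job := [
  ⟨14, 0x601028241a110a8643a21128a45a311a8e47d40a25229950aa562b960b25a2d970ba5e2fd008242219108a4623920924a259309a4e27cb05a2e17ca0522a15c904a2613c80422211c361909844160901, 0, 40, 0x0, []⟩]

theorem t9_704_49 : jobs 8 S9 b8_704 j9_704_49 = true := by decide +kernel

noncomputable def j9_704_50 : List Job := [
  ⟨13, 0x4361909844160901, 0, 19, 0x0, []⟩]

theorem t9_704_50 : jobs 8 S9 b8_704 j9_704_50 = true := by decide +kernel

noncomputable def j9_704_51 : List Job := [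
  ⟨12, 0x540a25229950aa562b960b25a2d970ba5e2fd008242219108a4623920924a259309a4e27c361909844160901, 0, 68, 0x0, []⟩]

theorem t9_704_51 : jobs 8 S9 b8_704 j9_704_51 = true := by decide +kernel

noncomputable def j9_704_52 : List Job := [
  ⟨11, 0x641229249a512a964ba61329a4da713a9e4fe01028241a110a8643a21128a45a311a8e47d40a25229950aa562b960b25a2d970ba5e2fd008242219108a4623920924a259309a4e27c361909844160901, 0, 19, 0x0, []⟩]

theorem t9_704_52 : jobs 8 S9 b8_704 j9_704_52 = true := by decide +kernel

noncomputable def j9_704_53 : List Job := [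
  ⟨10, 0x4b05a2e17ca0522a15c904a2613c80422211c361909844160901, 0, 19, 0x0, []⟩]

theorem t9_704_53 : jobs 8 S9 b8_704 j9_704_53 = true := by decide +kernel

noncomputable def j9_704_54 : List Job := [
  ⟨9, 0x540a25229950aa562b960b25a2d970ba5e2fd008242219108a4623920924a259309a4e27cb05a2e17ca0522a15c904a2613c80422211c361909844160901, 0, 68, 0x0, []⟩]

theorem t9_704_54 : jobs 8 S9 b8_704 j9_704_54 = true := by decide +kernel

noncomputable def j9_704_55 : List Job := [
  ⟨8, 0x641229249a512a964ba61329a4da713a9e4fe01028241a110a8643a21128a45a311a8e47d40a25229950aa562b960b25a2d970ba5e2fd008242219108a4623920924a259309a4e27cb05a2e17ca0522a15c904a2613c80422211c361909844160901, 0, 35, 0x2808002a08002c08003409003808003e01, []⟩]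

theorem t9_704_55 : jobs 8 S9 b8_704 j9_704_55 = true := by decide +kernel

noncomputable def j9_704_56 : List Job := [
  ⟨7, 0x641229249a512a964ba61329a4da713a9e4fd008242219108a4623920924a259309a4e27ca0522a15c80422211c2e15098440e0501, 0, 70, 0x0, []⟩]

theorem t9_704_56 : jobs 8 S9 b8_704 j9_704_56 = true := by decide +kernel

noncomputable def j9_704_57 : List Job := [
  ⟨6, 0x601028241a110a8643a21128a45a311a8e47d008242219108a4623920924a259309a4e27ca0522a15c80422211c2e15098440e0501, 0, 70, 0x0, []⟩]

theorem t9_704_57 : jobs 8 S9 b8_704 j9_704_57 = true := by decide +kernel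

noncomputable def j9_704_58 : List Job := [
  ⟨5, 0x601028241a110a8643a21128a45a311a8e47ca0522a15c80422211c2e15098440e0501, 0, 112, 0x0, []⟩]

theorem t9_704_58 : jobs 8 S9 b8_704 j9_704_58 = true := by decide +kernel

noncomputable def j9_704_59 : List Job := [
  ⟨4, 0x601028241a110a8643a21128a45a311a8e47d40a25229950aa562b960b25a2d970ba5e2fd008242219108a4623920924a259309a4e27ca0522a15c80422211c2e15098440e0501, 0, 112, 0x0, []⟩]

theorem t9_704_59 : jobs 8 S9 b8_704 j9_704_59 = true := by decide +kernel

noncomputable def j9_704_60 : List Job := [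
  ⟨3, 0x4a0522a15c80422211c2e15098440e0501, 0, 49, 0x0, []⟩]

theorem t9_704_60 : jobs 8 S9 b8_704 j9_704_60 = true := by decide +kernel

noncomputable def j9_704_61 : List Job := [
  ⟨2, 0x540a25229950aa562b960b25a2d970ba5e2fd008242219108a4623920924a259309a4e27ca0522a15c80422211c2e15098440e0501, 0, 70, 0x0, []⟩]

theorem t9_704_61 : jobs 8 S9 b8_704 j9_704_61 = true := by decide +kernel

noncomputable def j9_704_62 : List Job := [
  ⟨1, 0x641229249a512a964ba61329a4da713a9e4fe01028241a110a8643a21128a45a311a8e47d40a25229950aa562b960b25a2d970ba5e2fd008242219108a4623920924a259309a4e27ca0522a15c80422211c2e15098440e0501, 0, 49, 0x0, []⟩]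

theorem t9_704_62 : jobs 8 S9 b8_704 j9_704_62 = true := by decide +kernel

noncomputable def j9_704_63 : List Job := [
  ⟨0, 0x601028241a110a8643a21128a45a311a8e47d008242219108a4623920924a259309a4e27ca0522a15c80422211c2e15098440e0501, 0, 70, 0x0, []⟩]

theorem t9_704_63 : jobs 8 S9 b8_704 j9_704_63 = true := by decide +kernel

theorem d9_704 : Dn 8 S9 b8_704 := dn_of (Js := j9_704_0 ++ (j9_704_1 ++ (j9_704_2 ++ (j9_704_3 ++ (j9_704_4 ++ (j9_704_5 ++ (j9_704_6 ++ (j9_704_7 ++ (j9_704_8 ++ (j9_704_9 ++ (j9_704_10 ++ (j9_704_11 ++ (j9_704_12 ++ (j9_704_13 ++ (j9_704_14 ++ (j9_704_15 ++ (j9_704_16 ++ (j9_704_17 ++ (j9_704_18 ++ (j9_704_19 ++ (j9_704_20 ++ (j9_704_21 ++ (j9_704_22 ++ (j9_704_23 ++ (j9_704_24 ++ (j9_704_25 ++ (j9_704_26 ++ (j9_704_27 ++ (j9_704_28 ++ (j9_704_29 ++ (j9_704_30 ++ (j9_704_31 ++ (j9_704_32 ++ (j9_704_33 ++ (j9_704_34 ++ (j9_704_35 ++ (j9_704_36 ++ (j9_704_37 ++ (j9_704_38 ++ (j9_704_39 ++ (j9_704_40 ++ (j9_704_41 ++ (j9_704_42 ++ (j9_704_43 ++ (j9_704_44 ++ (j9_704_45 ++ (j9_704_46 ++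 (j9_704_47 ++ (j9_704_48 ++ (j9_704_49 ++ (j9_704_50 ++ (j9_704_51 ++ (j9_704_52 ++ (j9_704_53 ++ (j9_704_54 ++ (j9_704_55 ++ (j9_704_56 ++ (j9_704_57 ++ (j9_704_58 ++ (j9_704_59 ++ (j9_704_60 ++ (j9_704_61 ++ (j9_704_62 ++ (j9_704_63 ++ []))))))))))))))))))))))))))))))))))))))))))))))))))))))))))))))))
  (jobs_append t9_704_0 <| jobs_append t9_704_1 <| jobs_append t9_704_2 <| jobs_append t9_704_3 <| jobs_append t9_704_4 <| jobs_append t9_704_5 <| jobs_append t9_704_6 <| jobs_append t9_704_7 <| jobs_append t9_704_8 <| jobs_append t9_704_9 <| jobs_append t9_704_10 <| jobs_append t9_704_11 <| jobs_append t9_704_12 <| jobs_append t9_704_13 <| jobs_append t9_704_14 <| jobs_append t9_704_15 <| jobs_append t9_704_16 <| jobs_append t9_704_17 <| jobs_append t9_704_18 <| jobs_append t9_704_19 <| jobs_append t9_704_20 <| jobs_append t9_704_21 <| jobs_append t9_704_22 <| jobs_append t9_704_23 <| jobs_append t9_704_24 <| jobs_append t9_704_25 <| jobs_append t9_704_26 <| jobs_append t9_704_27 <| jobs_append t9_704_28 <| jobs_append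 t9_704_29 <| jobs_append t9_704_30 <| jobs_append t9_704_31 <| jobs_append t9_704_32 <| jobs_append t9_704_33 <| jobs_append t9_704_34 <| jobs_append t9_704_35 <| jobs_append t9_704_36 <| jobs_append t9_704_37 <| jobs_append t9_704_38 <| jobs_append t9_704_39 <| jobs_append t9_704_40 <| jobs_append t9_704_41 <| jobs_append t9_704_42 <| jobs_append t9_704_43 <| jobs_append t9_704_44 <| jobs_append t9_704_45 <| jobs_append t9_704_46 <| jobs_append t9_704_47 <| jobs_append t9_704_48 <| jobs_append t9_704_49 <| jobs_append t9_704_50 <| jobs_append t9_704_51 <| jobs_append t9_704_52 <| jobs_append t9_704_53 <| jobs_append t9_704_54 <| jobs_append t9_704_55 <| jobs_append t9_704_56 <| jobs_append t9_704_57 <| jobs_append t9_704_58 <| jobs_append t9_704_59 <| jobs_append t9_704_60 <| jobs_append t9_704_61 <| jobs_append t9_704_62 <| jobs_append t9_704_63 <| List.forall_mem_nil _) (by decide +kernel)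

noncomputable def j9_705_0 : List Job := [
  ⟨63, 0x484462915c8044281542e15098440e0501, 0, 18, 0x0, []⟩]

theorem t9_705_0 : jobs 8 S9 b8_705 j9_705_0 = true := by decide +kernel

noncomputable def j9_705_1 : List Job := [
  ⟨62, 0x540a25229950aa562b960b25a2d970ba5e2fd008242219108a4623920924a259309a4e27c84462815480442915c2e15098440e0501, 0, 18, 0x0, []⟩]

theorem t9_705_1 : jobs 8 S9 b8_705 j9_705_1 = true := by decide +kernel

noncomputable def j9_705_2 : List Job := [
  ⟨61, 0x540a25229950aa562b960b25a2d970ba5e2fd008242219108a4623920924a259309a4e27c84462915c8044281542e15098440e0501, 0, 40, 0x0, []⟩]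

theorem t9_705_2 : jobs 8 S9 b8_705 j9_705_2 = true := by decide +kernel

noncomputable def j9_705_3 : List Job := [
  ⟨60, 0x601028241a110a8643a21128a45a311a8e47d008242219108a4623920924a259309a4e27c804222118a0522a15c381f09844180f01, 0, 40, 0x0, []⟩]

theorem t9_705_3 : jobs 8 S9 b8_705 j9_705_3 = true := by decide +kernel

noncomputable def j9_705_4 : List Job := [
  ⟨59, 0x601028241a110a8643a21128a45a311a8e47c804222118a0522a15c381f09844180f01, 0, 48, 0x0, []⟩]

theorem t9_705_4 : jobs 8 S9 b8_705 j9_705_4 = true := by decide +kernel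

noncomputable def j9_705_5 : List Job := [
  ⟨58, 0x601028241a110a8643a21128a45a311a8e47d40a25229950aa562b960b25a2d970ba5e2fd008242219108a4623920924a259309a4e27c804222118a0522a15c381f09844180f01, 0, 48, 0x0, []⟩]

theorem t9_705_5 : jobs 8 S9 b8_705 j9_705_5 = true := by decide +kernel

noncomputable def j9_705_6 : List Job := [
  ⟨57, 0x4804222118a0522a15c381f09844180f01, 0, 24, 0x0, []⟩]

theorem t9_705_6 : jobs 8 S9 b8_705 j9_705_6 = true := by decide +kernel

noncomputable def j9_705_7 : List Job := [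
  ⟨56, 0x540a25229950aa562b960b25a2d970ba5e2fd008242219108a4623920924a259309a4e27c804222118a0522a15c381f09844180f01, 0, 36, 0x0, []⟩]

theorem t9_705_7 : jobs 8 S9 b8_705 j9_705_7 = true := by decide +kernel

noncomputable def j9_705_8 : List Job := [
  ⟨55, 0x641229249a512a964ba61329a4da713a9e4fe01028241a110a8643a21128a45a311a8e47d40a25229950aa562b960b25a2d970ba5e2fd008242219108a4623920924a259309a4e27c804222118a0522a15c381f09844180f01, 0, 24, 0x0, []⟩]

theorem t9_705_8 : jobs 8 S9 b8_705 j9_705_8 = true := by decide +kernel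

noncomputable def j9_705_9 : List Job := [
  ⟨54, 0x601028241a110a8643a21128a45a311a8e47d008242219108a4623920924a259309a4e27c361909844160901, 0, 20, 0x0, []⟩]

theorem t9_705_9 : jobs 8 S9 b8_705 j9_705_9 = true := by decide +kernel

noncomputable def j9_705_10 : List Job := [
  ⟨53, 0x601028241a110a8643a21128a45a311a8e47d008242219108a4623920924a259309a4e27c904a26138b05a2e17c804222118a0522a15c361909844160901, 0, 20, 0x0, []⟩]

theorem t9_705_10 : jobs 8 S9 b8_705 j9_705_10 = true := by decide +kernel

noncomputable def j9_705_11 : List Job := [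
  ⟨52, 0x601028241a110a8643a21128a45a311a8e47c361909844160901, 0, 24, 0x0, []⟩]

theorem t9_705_11 : jobs 8 S9 b8_705 j9_705_11 = true := by decide +kernel

noncomputable def j9_705_12 : List Job := [
  ⟨51, 0x601028241a110a8643a21128a45a311a8e47d40a25229950aa562b960b25a2d970ba5e2fd008242219108a4623920924a259309a4e27c361909844160901, 0, 24, 0x0, []⟩]

theorem t9_705_12 : jobs 8 S9 b8_705 j9_705_12 = true := by decide +kernel

noncomputable def j9_705_13 : List Job := [
  ⟨50, 0x601028241a110a8643a21128a45a311a8e47c904a26138b05a2e17c804222118a0522a15c361909844160901, 0, 24, 0x0, []⟩]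

theorem t9_705_13 : jobs 8 S9 b8_705 j9_705_13 = true := by decide +kernel

noncomputable def j9_705_14 : List Job := [
  ⟨49, 0x601028241a110a8643a21128a45a311a8e47d40a25229950aa562b960b25a2d970ba5e2fd008242219108a4623920924a259309a4e27c904a26138b05a2e17c804222118a0522a15c361909844160901, 0, 24, 0x0, []⟩]

theorem t9_705_14 : jobs 8 S9 b8_705 j9_705_14 = true := by decide +kernel

noncomputable def j9_705_15 : List Job := [
  ⟨48, 0x4361909844160901, 0, 12, 0x0, []⟩]

theorem t9_705_15 : jobs 8 S9 b8_705 j9_705_15 = true := by decide +kernel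

noncomputable def j9_705_16 : List Job := [
  ⟨47, 0x540a25229950aa562b960b25a2d970ba5e2fd008242219108a4623920924a259309a4e27c361909844160901, 0, 18, 0x0, []⟩]

theorem t9_705_16 : jobs 8 S9 b8_705 j9_705_16 = true := by decide +kernel

noncomputable def j9_705_17 : List Job := [
  ⟨46, 0x641229249a512a964ba61329a4da713a9e4fe01028241a110a8643a21128a45a311a8e47d40a25229950aa562b960b25a2d970ba5e2fd008242219108a4623920924a259309a4e27c361909844160901, 0, 12, 0x0, []⟩]

theorem t9_705_17 : jobs 8 S9 b8_705 j9_705_17 = true := by decide +kernel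

noncomputable def j9_705_18 : List Job := [
  ⟨45, 0x4904a26138b05a2e17c804222118a0522a15c361909844160901, 0, 12, 0x0, []⟩]

theorem t9_705_18 : jobs 8 S9 b8_705 j9_705_18 = true := by decide +kernel

noncomputable def j9_705_19 : List Job := [
  ⟨44, 0x540a25229950aa562b960b25a2d970ba5e2fd008242219108a4623920924a259309a4e27c904a26138b05a2e17c804222118a0522a15c361909844160901, 0, 18, 0x0, []⟩]

theorem t9_705_19 : jobs 8 S9 b8_705 j9_705_19 = true := by decide +kernel

noncomputable def j9_705_20 : List Job := [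
  ⟨43, 0x641229249a512a964ba61329a4da713a9e4fe01028241a110a8643a21128a45a311a8e47d40a25229950aa562b960b25a2d970ba5e2fd008242219108a4623920924a259309a4e27c904a26138b05a2e17c804222118a0522a15c361909844160901, 0, 30, 0x3201, []⟩]

theorem t9_705_20 : jobs 8 S9 b8_705 j9_705_20 = true := by decide +kernel

noncomputable def j9_705_21 : List Job := [
  ⟨42, 0x601028241a110a8643a21128a45a311a8e47d008242219108a4623920924a259309a4e27c804222118a0522a15c2e15098440e0501, 0, 20, 0x0, []⟩]

theorem t9_705_21 : jobs 8 S9 b8_705 j9_705_21 = true := by decide +kernel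

noncomputable def j9_705_22 : List Job := [
  ⟨41, 0x601028241a110a8643a21128a45a311a8e47c804222118a0522a15c2e15098440e0501, 0, 24, 0x0, []⟩]

theorem t9_705_22 : jobs 8 S9 b8_705 j9_705_22 = true := by decide +kernel

noncomputable def j9_705_23 : List Job := [
  ⟨40, 0x601028241a110a8643a21128a45a311a8e47d40a25229950aa562b960b25a2d970ba5e2fd008242219108a4623920924a259309a4e27c804222118a0522a15c2e15098440e0501, 0, 24, 0x0, []⟩]

theorem t9_705_23 : jobs 8 S9 b8_705 j9_705_23 = true := by decide +kernel

noncomputable def j9_705_24 : List Job := [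
  ⟨39, 0x4804222118a0522a15c2e15098440e0501, 0, 12, 0x0, []⟩]

theorem t9_705_24 : jobs 8 S9 b8_705 j9_705_24 = true := by decide +kernel

noncomputable def j9_705_25 : List Job := [
  ⟨38, 0x540a25229950aa562b960b25a2d970ba5e2fd008242219108a4623920924a259309a4e27c804222118a0522a15c2e15098440e0501, 0, 18, 0x0, []⟩]

theorem t9_705_25 : jobs 8 S9 b8_705 j9_705_25 = true := by decide +kernel

noncomputable def j9_705_26 : List Job := [
  ⟨37, 0x641229249a512a964ba61329a4da713a9e4fe01028241a110a8643a21128a45a311a8e47d40a25229950aa562b960b25a2d970ba5e2fd008242219108a4623920924a259309a4e27c804222118a0522a15c2e15098440e0501, 0, 12, 0x0, []⟩]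

theorem t9_705_26 : jobs 8 S9 b8_705 j9_705_26 = true := by decide +kernel

noncomputable def j9_705_27 : List Job := [
  ⟨36, 0x601028241a110a8643a21128a45a311a8e47d008242219108a4623920924a259309a4e27c84462915c8044281542e15098440e0501, 0, 20, 0x0, []⟩]

theorem t9_705_27 : jobs 8 S9 b8_705 j9_705_27 = true := by decide +kernel

noncomputable def j9_705_28 : List Job := [
  ⟨35, 0x601028241a110a8643a21128a45a311a8e47c84462915c8044281542e15098440e0501, 0, 24, 0x0, []⟩]

theorem t9_705_28 : jobs 8 S9 b8_705 j9_705_28 = true := by decide +kernel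

noncomputable def j9_705_29 : List Job := [
  ⟨34, 0x601028241a110a8643a21128a45a311a8e47d40a25229950aa562b960b25a2d970ba5e2fd008242219108a4623920924a259309a4e27c84462915c8044281542e15098440e0501, 0, 24, 0x0, []⟩]

theorem t9_705_29 : jobs 8 S9 b8_705 j9_705_29 = true := by decide +kernel

noncomputable def j9_705_30 : List Job := [
  ⟨33, 0x484462915c8044281542e15098440e0501, 0, 12, 0x0, []⟩]

theorem t9_705_30 : jobs 8 S9 b8_705 j9_705_30 = true := by decide +kernel

noncomputable def j9_705_31 : List Job := [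
  ⟨32, 0x540a25229950aa562b960b25a2d970ba5e2fd008242219108a4623920924a259309a4e27c84462915c8044281542e15098440e0501, 0, 18, 0x0, []⟩]

theorem t9_705_31 : jobs 8 S9 b8_705 j9_705_31 = true := by decide +kernel

noncomputable def j9_705_32 : List Job := [
  ⟨31, 0x641229249a512a964ba61329a4da713a9e4fe01028241a110a8643a21128a45a311a8e47d40a25229950aa562b960b25a2d970ba5e2fd008242219108a4623920924a259309a4e27c84462915c8044281542e15098440e0501, 0, 30, 0x0, []⟩]

theorem t9_705_32 : jobs 8 S9 b8_705 j9_705_32 = true := by decide +kernel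

noncomputable def j9_705_33 : List Job := [
  ⟨30, 0x4a0522a15c80422211c381f09844180f01, 0, 56, 0x210000403000a03000c12001203005203005403, []⟩]

theorem t9_705_33 : jobs 8 S9 b8_705 j9_705_33 = true := by decide +kernel

noncomputable def j9_705_34 : List Job := [
  ⟨29, 0x4a0522a15c80422211c381f09844180f01, 0, 80, 0x210000411000a10000c03001203001403001a03001c12007210007611007a03007e03, []⟩]

theorem t9_705_34 : jobs 8 S9 b8_705 j9_705_34 = true := by decide +kernel

noncomputable def j9_705_35 : List Job := [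
  ⟨28, 0x4a0522a15c80422211c381f09844180f01, 0, 38, 0x212000403000a12000e03003603003a03, []⟩]

theorem t9_705_35 : jobs 8 S9 b8_705 j9_705_35 = true := by decide +kernel

noncomputable def j9_705_36 : List Job := [
  ⟨27, 0x4a0522a15c80422211c381f09844180f01, 0, 38, 0x210000411000a10000c11001203004210, []⟩]

theorem t9_705_36 : jobs 8 S9 b8_705 j9_705_36 = true := by decide +kernel

noncomputable def j9_705_37 : List Job := [
  ⟨26, 0x4361909844160901, 0, 24, 0x0, []⟩]

theorem t9_705_37 : jobs 8 S9 b8_705 j9_705_37 = true := by decide +kernel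

noncomputable def j9_705_38 : List Job := [
  ⟨25, 0x4b05a2e17ca0522a15c904a2613c80422211c361909844160901, 0, 24, 0x0, []⟩]

theorem t9_705_38 : jobs 8 S9 b8_705 j9_705_38 = true := by decide +kernel

noncomputable def j9_705_39 : List Job := [
  ⟨24, 0x4361909844160901, 0, 20, 0x0, []⟩]

theorem t9_705_39 : jobs 8 S9 b8_705 j9_705_39 = true := by decide +kernel

noncomputable def j9_705_40 : List Job := [
  ⟨23, 0x4361909844160901, 0, 20, 0x0, []⟩]

theorem t9_705_40 : jobs 8 S9 b8_705 j9_705_40 = true := by decide +kernel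

noncomputable def j9_705_41 : List Job := [
  ⟨22, 0x4b05a2e17ca0522a15c904a2613c80422211c361909844160901, 0, 20, 0x0, []⟩]

theorem t9_705_41 : jobs 8 S9 b8_705 j9_705_41 = true := by decide +kernel

noncomputable def j9_705_42 : List Job := [
  ⟨21, 0x4b05a2e17ca0522a15c904a2613c80422211c361909844160901, 0, 20, 0x0, []⟩]

theorem t9_705_42 : jobs 8 S9 b8_705 j9_705_42 = true := by decide +kernel

noncomputable def j9_705_43 : List Job := [
  ⟨20, 0x4361909844160901, 0, 13, 0x0, []⟩]

theorem t9_705_43 : jobs 8 S9 b8_705 j9_705_43 = true := by decide +kernel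

noncomputable def j9_705_44 : List Job := [
  ⟨19, 0x4361909844160901, 0, 16, 0x0, []⟩]

theorem t9_705_44 : jobs 8 S9 b8_705 j9_705_44 = true := by decide +kernel

noncomputable def j9_705_45 : List Job := [
  ⟨18, 0x4361909844160901, 0, 13, 0x0, []⟩]

theorem t9_705_45 : jobs 8 S9 b8_705 j9_705_45 = true := by decide +kernel

noncomputable def j9_705_46 : List Job := [
  ⟨17, 0x4b05a2e17ca0522a15c904a2613c80422211c361909844160901, 0, 18, 0x1c01001e01002001002201002401, []⟩]

theorem t9_705_46 : jobs 8 S9 b8_705 j9_705_46 = true := by decide +kernel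

noncomputable def j9_705_47 : List Job := [
  ⟨16, 0x4b05a2e17ca0522a15c904a2613c80422211c361909844160901, 0, 16, 0x0, []⟩]

theorem t9_705_47 : jobs 8 S9 b8_705 j9_705_47 = true := by decide +kernel

noncomputable def j9_705_48 : List Job := [
  ⟨15, 0x4b05a2e17ca0522a15c904a2613c80422211c361909844160901, 0, 29, 0x1c10001e11002008002210002411003010003401003601003801003a01, []⟩]

theorem t9_705_48 : jobs 8 S9 b8_705 j9_705_48 = true := by decide +kernel

noncomputable def j9_705_49 : List Job := [
  ⟨14, 0x4a0522a15c80422211c2e15098440e0501, 0, 14, 0x0, []⟩]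

theorem t9_705_49 : jobs 8 S9 b8_705 j9_705_49 = true := by decide +kernel

noncomputable def j9_705_50 : List Job := [
  ⟨13, 0x4a0522a15c80422211c2e15098440e0501, 0, 14, 0x0, []⟩]

theorem t9_705_50 : jobs 8 S9 b8_705 j9_705_50 = true := by decide +kernel

noncomputable def j9_705_51 : List Job := [
  ⟨12, 0x4a0522a15c80422211c2e15098440e0501, 0, 32, 0x0, []⟩]

theorem t9_705_51 : jobs 8 S9 b8_705 j9_705_51 = true := by decide +kernel

noncomputable def j9_705_52 : List Job := [
  ⟨11, 0x4a0522a15c80422211c2e15098440e0501, 0, 14, 0x0, []⟩]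

theorem t9_705_52 : jobs 8 S9 b8_705 j9_705_52 = true := by decide +kernel

noncomputable def j9_705_53 : List Job := [
  ⟨10, 0x4a0522a15c80422211c2e15098440e0501, 0, 14, 0x0, []⟩]

theorem t9_705_53 : jobs 8 S9 b8_705 j9_705_53 = true := by decide +kernel

noncomputable def j9_705_54 : List Job := [
  ⟨9, 0x4a0522a15c80422211c2e15098440e0501, 0, 14, 0x0, []⟩]

theorem t9_705_54 : jobs 8 S9 b8_705 j9_705_54 = true := by decide +kernel

noncomputable def j9_705_55 : List Job := [
  ⟨8, 0x4a457281548447201142e15098440e0501, 0, 14, 0x202000413000602000802000a13001602001802, []⟩]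

theorem t9_705_55 : jobs 8 S9 b8_705 j9_705_55 = true := by decide +kernel

noncomputable def j9_705_56 : List Job := [
  ⟨7, 0x4a0522a15c80422211c2e15098440e0501, 0, 24, 0x0, []⟩]

theorem t9_705_56 : jobs 8 S9 b8_705 j9_705_56 = true := by decide +kernel

noncomputable def j9_705_57 : List Job := [
  ⟨6, 0x4a457281548447201142e15098440e0501, 0, 24, 0x202000402000602000810000a02000c13000e11001010002202002411002602002810, []⟩]

theorem t9_705_57 : jobs 8 S9 b8_705 j9_705_57 = true := by decide +kernel

noncomputable def j9_705_58 : List Job := [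
  ⟨5, 0x4a0522a15c80422211c2e15098440e0501, 0, 12, 0x0, []⟩]

theorem t9_705_58 : jobs 8 S9 b8_705 j9_705_58 = true := by decide +kernel

noncomputable def j9_705_59 : List Job := [
  ⟨4, 0x4a0522a15c80422211c2e15098440e0501, 0, 12, 0x0, []⟩]

theorem t9_705_59 : jobs 8 S9 b8_705 j9_705_59 = true := by decide +kernel

noncomputable def j9_705_60 : List Job := [
  ⟨3, 0x4a457281548447201142e15098440e0501, 0, 12, 0x202000402000602000802000a11001610, []⟩]

theorem t9_705_60 : jobs 8 S9 b8_705 j9_705_60 = true := by decide +kernel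

noncomputable def j9_705_61 : List Job := [
  ⟨2, 0x4a457281548447201142e15098440e0501, 0, 29, 0x210000411000602000810000a11001610, []⟩]

theorem t9_705_61 : jobs 8 S9 b8_705 j9_705_61 = true := by decide +kernel

noncomputable def j9_705_62 : List Job := [
  ⟨1, 0x5008242219108a4623920924a259309a4e27ca0522a15c80422211c381f09844180f01, 0, 80, 0x210000403000a13000c03001203001803005213005403005a10005c03006203006803, []⟩]

theorem t9_705_62 : jobs 8 S9 b8_705 j9_705_62 = true := by decide +kernel

noncomputable def j9_705_63 : List Job := [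
  ⟨0, 0x5008242219108a4623920924a259309a4e27ca0522a15c80422211c381f09844180f01, 0, 80, 0x210000412000a13000c11001203001803005213005411005a10005c12006203006803, []⟩]

theorem t9_705_63 : jobs 8 S9 b8_705 j9_705_63 = true := by decide +kernel

theorem d9_705 : Dn 8 S9 b8_705 := dn_of (Js := j9_705_0 ++ (j9_705_1 ++ (j9_705_2 ++ (j9_705_3 ++ (j9_705_4 ++ (j9_705_5 ++ (j9_705_6 ++ (j9_705_7 ++ (j9_705_8 ++ (j9_705_9 ++ (j9_705_10 ++ (j9_705_11 ++ (j9_705_12 ++ (j9_705_13 ++ (j9_705_14 ++ (j9_705_15 ++ (j9_705_16 ++ (j9_705_17 ++ (j9_705_18 ++ (j9_705_19 ++ (j9_705_20 ++ (j9_705_21 ++ (j9_705_22 ++ (j9_705_23 ++ (j9_705_24 ++ (j9_705_25 ++ (j9_705_26 ++ (j9_705_27 ++ (j9_705_28 ++ (j9_705_29 ++ (j9_705_30 ++ (j9_705_31 ++ (j9_705_32 ++ (j9_705_33 ++ (j9_705_34 ++ (j9_705_35 ++ (j9_705_36 ++ (j9_705_37 ++ (j9_705_38 ++ (j9_705_39 ++ (j9_705_40 ++ (j9_705_41 ++ (j9_705_42 ++ (j9_705_43 ++ (j9_705_44 ++ (j9_705_45 ++ (j9_705_46 ++ (j9_705_47 ++ (j9_705_48 ++ (j9_705_49 ++ (j9_705_50 ++ (j9_705_51 ++ (j9_705_52 ++ (j9_705_53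 ++ (j9_705_54 ++ (j9_705_55 ++ (j9_705_56 ++ (j9_705_57 ++ (j9_705_58 ++ (j9_705_59 ++ (j9_705_60 ++ (j9_705_61 ++ (j9_705_62 ++ (j9_705_63 ++ []))))))))))))))))))))))))))))))))))))))))))))))))))))))))))))))))
  (jobs_append t9_705_0 <| jobs_append t9_705_1 <| jobs_append t9_705_2 <| jobs_append t9_705_3 <| jobs_append t9_705_4 <| jobs_append t9_705_5 <| jobs_append t9_705_6 <| jobs_append t9_705_7 <| jobs_append t9_705_8 <| jobs_append t9_705_9 <| jobs_append t9_705_10 <| jobs_append t9_705_11 <| jobs_append t9_705_12 <| jobs_append t9_705_13 <| jobs_append t9_705_14 <| jobs_append t9_705_15 <| jobs_append t9_705_16 <| jobs_append t9_705_17 <| jobs_append t9_705_18 <| jobs_append t9_705_19 <| jobs_append t9_705_20 <| jobs_append t9_705_21 <| jobs_append t9_705_22 <| jobs_append t9_705_23 <| jobs_append t9_705_24 <| jobs_append t9_705_25 <| jobs_append t9_705_26 <| jobs_append t9_705_27 <| jobs_append t9_705_28 <| jobs_append t9_705_29 <| jobs_append t9_705_30 <| jobs_append t9_705_31 <| jobs_append t9_705_32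 <| jobs_append t9_705_33 <| jobs_append t9_705_34 <| jobs_append t9_705_35 <| jobs_append t9_705_36 <| jobs_append t9_705_37 <| jobs_append t9_705_38 <| jobs_append t9_705_39 <| jobs_append t9_705_40 <| jobs_append t9_705_41 <| jobs_append t9_705_42 <| jobs_append t9_705_43 <| jobs_append t9_705_44 <| jobs_append t9_705_45 <| jobs_append t9_705_46 <| jobs_append t9_705_47 <| jobs_append t9_705_48 <| jobs_append t9_705_49 <| jobs_append t9_705_50 <| jobs_append t9_705_51 <| jobs_append t9_705_52 <| jobs_append t9_705_53 <| jobs_append t9_705_54 <| jobs_append t9_705_55 <| jobs_append t9_705_56 <| jobs_append t9_705_57 <| jobs_append t9_705_58 <| jobs_append t9_705_59 <| jobs_append t9_705_60 <| jobs_append t9_705_61 <| jobs_append t9_705_62 <| jobs_append t9_705_63 <| List.forall_mem_nil _) (by decide +kernel)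

noncomputable def j9_706_0 : List Job := [
  ⟨63, 0x621128a45a311a8e47e01028241a110a8643d20924a259309a4e27d008242219108a4623cc466391dcc064381d484462915c8044281542e15098440e0501, 0, 69, 0x7201007401007601007801007a01008801008a01, []⟩]

theorem t9_706_0 : jobs 8 S9 b8_706 j9_706_0 = true := by decide +kernel

noncomputable def j9_706_1 : List Job := [
  ⟨62, 0x4804222118a0522a15c381f09844180f01, 0, 40, 0x0, []⟩]

theorem t9_706_1 : jobs 8 S9 b8_706 j9_706_1 = true := by decide +kernel

noncomputable def j9_706_2 : List Job := [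
  ⟨61, 0x4804222118a0522a15c381f09844180f01, 0, 80, 0x0, []⟩]

theorem t9_706_2 : jobs 8 S9 b8_706 j9_706_2 = true := by decide +kernel

noncomputable def j9_706_3 : List Job := [
  ⟨60, 0x4804222118a0522a15c381f09844180f01, 0, 30, 0x0, []⟩]

theorem t9_706_3 : jobs 8 S9 b8_706 j9_706_3 = true := by decide +kernel

noncomputable def j9_706_4 : List Job := [
  ⟨59, 0x4804222118a0522a15c381f09844180f01, 0, 38, 0x0, []⟩]

theorem t9_706_4 : jobs 8 S9 b8_706 j9_706_4 = true := by decide +kernel

noncomputable def j9_706_5 : List Job := [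
  ⟨58, 0x4361909844160901, 0, 20, 0x0, []⟩]

theorem t9_706_5 : jobs 8 S9 b8_706 j9_706_5 = true := by decide +kernel

noncomputable def j9_706_6 : List Job := [
  ⟨57, 0x4904a26138b05a2e17c804222118a0522a15c361909844160901, 0, 20, 0x0, []⟩]

theorem t9_706_6 : jobs 8 S9 b8_706 j9_706_6 = true := by decide +kernel

noncomputable def j9_706_7 : List Job := [
  ⟨56, 0x4361909844160901, 0, 20, 0x0, []⟩]

theorem t9_706_7 : jobs 8 S9 b8_706 j9_706_7 = true := by decide +kernel

noncomputable def j9_706_8 : List Job := [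
  ⟨55, 0x4361909844160901, 0, 20, 0x0, []⟩]

theorem t9_706_8 : jobs 8 S9 b8_706 j9_706_8 = true := by decide +kernel

noncomputable def j9_706_9 : List Job := [
  ⟨54, 0x4904a26138b05a2e17c804222118a0522a15c361909844160901, 0, 20, 0x0, []⟩]

theorem t9_706_9 : jobs 8 S9 b8_706 j9_706_9 = true := by decide +kernel

noncomputable def j9_706_10 : List Job := [
  ⟨53, 0x4904a26138b05a2e17c804222118a0522a15c361909844160901, 0, 20, 0x0, []⟩]

theorem t9_706_10 : jobs 8 S9 b8_706 j9_706_10 = true := by decide +kernel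

noncomputable def j9_706_11 : List Job := [
  ⟨52, 0x4361909844160901, 0, 10, 0x0, []⟩]

theorem t9_706_11 : jobs 8 S9 b8_706 j9_706_11 = true := by decide +kernel

noncomputable def j9_706_12 : List Job := [
  ⟨51, 0x4361909844160901, 0, 14, 0x0, []⟩]

theorem t9_706_12 : jobs 8 S9 b8_706 j9_706_12 = true := by decide +kernel

noncomputable def j9_706_13 : List Job := [
  ⟨50, 0x4361909844160901, 0, 10, 0x0, []⟩]

theorem t9_706_13 : jobs 8 S9 b8_706 j9_706_13 = true := by decide +kernel

noncomputable def j9_706_14 : List Job := [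
  ⟨49, 0x4904a26138b05a2e17c804222118a0522a15c361909844160901, 0, 10, 0x0, []⟩]

theorem t9_706_14 : jobs 8 S9 b8_706 j9_706_14 = true := by decide +kernel

noncomputable def j9_706_15 : List Job := [
  ⟨48, 0x4904a26138b05a2e17c804222118a0522a15c361909844160901, 0, 14, 0x0, []⟩]

theorem t9_706_15 : jobs 8 S9 b8_706 j9_706_15 = true := by decide +kernel

noncomputable def j9_706_16 : List Job := [
  ⟨47, 0x4904a26138b05a2e17c804222118a0522a15c361909844160901, 0, 26, 0x2e01003001003201003401, []⟩]

theorem t9_706_16 : jobs 8 S9 b8_706 j9_706_16 = true := by decide +kernel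

noncomputable def j9_706_17 : List Job := [
  ⟨46, 0x4804222118a0522a15c2e15098440e0501, 0, 20, 0x0, []⟩]

theorem t9_706_17 : jobs 8 S9 b8_706 j9_706_17 = true := by decide +kernel

noncomputable def j9_706_18 : List Job := [
  ⟨45, 0x4804222118a0522a15c2e15098440e0501, 0, 32, 0x0, []⟩]

theorem t9_706_18 : jobs 8 S9 b8_706 j9_706_18 = true := by decide +kernel

noncomputable def j9_706_19 : List Job := [
  ⟨44, 0x4804222118a0522a15c2e15098440e0501, 0, 12, 0x0, []⟩]

theorem t9_706_19 : jobs 8 S9 b8_706 j9_706_19 = true := by decide +kernel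

noncomputable def j9_706_20 : List Job := [
  ⟨43, 0x4804222118a0522a15c2e15098440e0501, 0, 14, 0x0, []⟩]

theorem t9_706_20 : jobs 8 S9 b8_706 j9_706_20 = true := by decide +kernel

noncomputable def j9_706_21 : List Job := [
  ⟨42, 0x484462915c8044281542e15098440e0501, 0, 20, 0x0, []⟩]

theorem t9_706_21 : jobs 8 S9 b8_706 j9_706_21 = true := by decide +kernel

noncomputable def j9_706_22 : List Job := [
  ⟨41, 0x484462915c8044281542e15098440e0501, 0, 24, 0x0, []⟩]

theorem t9_706_22 : jobs 8 S9 b8_706 j9_706_22 = true := by decide +kernel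

noncomputable def j9_706_23 : List Job := [
  ⟨40, 0x484462915c8044281542e15098440e0501, 0, 24, 0x0, []⟩]

theorem t9_706_23 : jobs 8 S9 b8_706 j9_706_23 = true := by decide +kernel

noncomputable def j9_706_24 : List Job := [
  ⟨39, 0x484462815480442915c2e15098440e0501, 0, 12, 0x0, []⟩]

theorem t9_706_24 : jobs 8 S9 b8_706 j9_706_24 = true := by decide +kernel

noncomputable def j9_706_25 : List Job := [
  ⟨38, 0x484462815480442915c2e15098440e0501, 0, 18, 0x0, []⟩]

theorem t9_706_25 : jobs 8 S9 b8_706 j9_706_25 = true := by decide +kernel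

noncomputable def j9_706_26 : List Job := [
  ⟨37, 0x484462915c8044281542e15098440e0501, 0, 26, 0x0, []⟩]

theorem t9_706_26 : jobs 8 S9 b8_706 j9_706_26 = true := by decide +kernel

noncomputable def j9_706_27 : List Job := [
  ⟨36, 0x5008242219108a4623920924a259309a4e27c804222118a0522a15c381f09844180f01, 0, 80, 0x0, []⟩]

theorem t9_706_27 : jobs 8 S9 b8_706 j9_706_27 = true := by decide +kernel

noncomputable def j9_706_28 : List Job := [
  ⟨35, 0x5008242219108a4623920924a259309a4e27c804222118a0522a15c381f09844180f01, 0, 80, 0x0, []⟩]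

theorem t9_706_28 : jobs 8 S9 b8_706 j9_706_28 = true := by decide +kernel

noncomputable def j9_706_29 : List Job := [
  ⟨34, 0x4804222118a0522a15c381f09844180f01, 0, 48, 0x0, []⟩]

theorem t9_706_29 : jobs 8 S9 b8_706 j9_706_29 = true := by decide +kernel

noncomputable def j9_706_30 : List Job := [
  ⟨33, 0x540a25229950aa562b960b25a2d970ba5e2fd008242219108a4623920924a259309a4e27c804222118a0522a15c381f09844180f01, 0, 48, 0x0, []⟩]

theorem t9_706_30 : jobs 8 S9 b8_706 j9_706_30 = true := by decide +kernel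

noncomputable def j9_706_31 : List Job := [
  ⟨32, 0x4804222118a0522a15c381f09844180f01, 0, 56, 0x0, []⟩]

theorem t9_706_31 : jobs 8 S9 b8_706 j9_706_31 = true := by decide +kernel

noncomputable def j9_706_32 : List Job := [
  ⟨31, 0x540a25229950aa562b960b25a2d970ba5e2fd008242219108a4623920924a259309a4e27c804222118a0522a15c381f09844180f01, 0, 56, 0x0, []⟩]

theorem t9_706_32 : jobs 8 S9 b8_706 j9_706_32 = true := by decide +kernel

noncomputable def j9_706_33 : List Job := [
  ⟨30, 0x5008242219108a4623920924a259309a4e27c361909844160901, 0, 32, 0x0, []⟩]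

theorem t9_706_33 : jobs 8 S9 b8_706 j9_706_33 = true := by decide +kernel

noncomputable def j9_706_34 : List Job := [
  ⟨29, 0x5008242219108a4623920924a259309a4e27c904a26138b05a2e17c804222118a0522a15c361909844160901, 0, 32, 0x0, []⟩]

theorem t9_706_34 : jobs 8 S9 b8_706 j9_706_34 = true := by decide +kernel

noncomputable def j9_706_35 : List Job := [
  ⟨28, 0x5008242219108a4623920924a259309a4e27c361909844160901, 0, 24, 0x0, []⟩]

theorem t9_706_35 : jobs 8 S9 b8_706 j9_706_35 = true := by decide +kernel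

noncomputable def j9_706_36 : List Job := [
  ⟨27, 0x5008242219108a4623920924a259309a4e27c361909844160901, 0, 24, 0x0, []⟩]

theorem t9_706_36 : jobs 8 S9 b8_706 j9_706_36 = true := by decide +kernel

noncomputable def j9_706_37 : List Job := [
  ⟨26, 0x5008242219108a4623920924a259309a4e27c904a26138b05a2e17c804222118a0522a15c361909844160901, 0, 24, 0x0, []⟩]

theorem t9_706_37 : jobs 8 S9 b8_706 j9_706_37 = true := by decide +kernel

noncomputable def j9_706_38 : List Job := [
  ⟨25, 0x5008242219108a4623920924a259309a4e27c904a26138b05a2e17c804222118a0522a15c361909844160901, 0, 24, 0x0, []⟩]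

theorem t9_706_38 : jobs 8 S9 b8_706 j9_706_38 = true := by decide +kernel

noncomputable def j9_706_39 : List Job := [
  ⟨24, 0x4361909844160901, 0, 20, 0x0, []⟩]

theorem t9_706_39 : jobs 8 S9 b8_706 j9_706_39 = true := by decide +kernel

noncomputable def j9_706_40 : List Job := [
  ⟨23, 0x540a25229950aa562b960b25a2d970ba5e2fd008242219108a4623920924a259309a4e27c361909844160901, 0, 20, 0x0, []⟩]

theorem t9_706_40 : jobs 8 S9 b8_706 j9_706_40 = true := by decide +kernel

noncomputable def j9_706_41 : List Job := [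
  ⟨22, 0x4904a26138b05a2e17c804222118a0522a15c361909844160901, 0, 20, 0x0, []⟩]

theorem t9_706_41 : jobs 8 S9 b8_706 j9_706_41 = true := by decide +kernel

noncomputable def j9_706_42 : List Job := [
  ⟨21, 0x540a25229950aa562b960b25a2d970ba5e2fd008242219108a4623920924a259309a4e27c904a26138b05a2e17c804222118a0522a15c361909844160901, 0, 20, 0x0, []⟩]

theorem t9_706_42 : jobs 8 S9 b8_706 j9_706_42 = true := by decide +kernel

noncomputable def j9_706_43 : List Job := [
  ⟨20, 0x4361909844160901, 0, 16, 0x0, []⟩]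

theorem t9_706_43 : jobs 8 S9 b8_706 j9_706_43 = true := by decide +kernel

noncomputable def j9_706_44 : List Job := [
  ⟨19, 0x4361909844160901, 0, 16, 0x0, []⟩]

theorem t9_706_44 : jobs 8 S9 b8_706 j9_706_44 = true := by decide +kernel

noncomputable def j9_706_45 : List Job := [
  ⟨18, 0x540a25229950aa562b960b25a2d970ba5e2fd008242219108a4623920924a259309a4e27c361909844160901, 0, 16, 0x0, []⟩]

theorem t9_706_45 : jobs 8 S9 b8_706 j9_706_45 = true := by decide +kernel

noncomputable def j9_706_46 : List Job := [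
  ⟨17, 0x540a25229950aa562b960b25a2d970ba5e2fd008242219108a4623920924a259309a4e27c361909844160901, 0, 16, 0x0, []⟩]

theorem t9_706_46 : jobs 8 S9 b8_706 j9_706_46 = true := by decide +kernel

noncomputable def j9_706_47 : List Job := [
  ⟨16, 0x4904a26138b05a2e17c804222118a0522a15c361909844160901, 0, 16, 0x0, []⟩]

theorem t9_706_47 : jobs 8 S9 b8_706 j9_706_47 = true := by decide +kernel

noncomputable def j9_706_48 : List Job := [
  ⟨15, 0x4904a26138b05a2e17c804222118a0522a15c361909844160901, 0, 16, 0x0, []⟩]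

theorem t9_706_48 : jobs 8 S9 b8_706 j9_706_48 = true := by decide +kernel

noncomputable def j9_706_49 : List Job := [
  ⟨14, 0x540a25229950aa562b960b25a2d970ba5e2fd008242219108a4623920924a259309a4e27c904a26138b05a2e17c804222118a0522a15c361909844160901, 0, 16, 0x0, []⟩]

theorem t9_706_49 : jobs 8 S9 b8_706 j9_706_49 = true := by decide +kernel

noncomputable def j9_706_50 : List Job := [
  ⟨13, 0x540a25229950aa562b960b25a2d970ba5e2fd008242219108a4623920924a259309a4e27c904a26138b05a2e17c804222118a0522a15c361909844160901, 0, 40, 0x4601004c01, []⟩]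

theorem t9_706_50 : jobs 8 S9 b8_706 j9_706_50 = true := by decide +kernel

noncomputable def j9_706_51 : List Job := [
  ⟨12, 0x5008242219108a4623920924a259309a4e27c804222118a0522a15c2e15098440e0501, 0, 24, 0x0, []⟩]

theorem t9_706_51 : jobs 8 S9 b8_706 j9_706_51 = true := by decide +kernel

noncomputable def j9_706_52 : List Job := [
  ⟨11, 0x5008242219108a4623920924a259309a4e27c804222118a0522a15c2e15098440e0501, 0, 24, 0x0, []⟩]

theorem t9_706_52 : jobs 8 S9 b8_706 j9_706_52 = true := by decide +kernel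

noncomputable def j9_706_53 : List Job := [
  ⟨10, 0x5008242219108a4623920924a259309a4e27c804222118a0522a15c2e15098440e0501, 0, 32, 0x0, []⟩]

theorem t9_706_53 : jobs 8 S9 b8_706 j9_706_53 = true := by decide +kernel

noncomputable def j9_706_54 : List Job := [
  ⟨9, 0x4804222118a0522a15c2e15098440e0501, 0, 24, 0x0, []⟩]

theorem t9_706_54 : jobs 8 S9 b8_706 j9_706_54 = true := by decide +kernel

noncomputable def j9_706_55 : List Job := [
  ⟨8, 0x540a25229950aa562b960b25a2d970ba5e2fd008242219108a4623920924a259309a4e27c804222118a0522a15c2e15098440e0501, 0, 24, 0x0, []⟩]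

theorem t9_706_55 : jobs 8 S9 b8_706 j9_706_55 = true := by decide +kernel

noncomputable def j9_706_56 : List Job := [
  ⟨7, 0x4804222118a0522a15c2e15098440e0501, 0, 20, 0x0, []⟩]

theorem t9_706_56 : jobs 8 S9 b8_706 j9_706_56 = true := by decide +kernel

noncomputable def j9_706_57 : List Job := [
  ⟨6, 0x540a25229950aa562b960b25a2d970ba5e2fd008242219108a4623920924a259309a4e27c804222118a0522a15c2e15098440e0501, 0, 20, 0x0, []⟩]

theorem t9_706_57 : jobs 8 S9 b8_706 j9_706_57 = true := by decide +kernel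

noncomputable def j9_706_58 : List Job := [
  ⟨5, 0x5008242219108a4623920924a259309a4e27c84462915c8044281542e15098440e0501, 0, 32, 0x0, []⟩]

theorem t9_706_58 : jobs 8 S9 b8_706 j9_706_58 = true := by decide +kernel

noncomputable def j9_706_59 : List Job := [
  ⟨4, 0x5008242219108a4623920924a259309a4e27c84462815480442915c2e15098440e0501, 0, 24, 0x0, []⟩]

theorem t9_706_59 : jobs 8 S9 b8_706 j9_706_59 = true := by decide +kernel

noncomputable def j9_706_60 : List Job := [
  ⟨3, 0x5008242219108a4623920924a259309a4e27c84462915c8044281542e15098440e0501, 0, 24, 0x0, []⟩]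

theorem t9_706_60 : jobs 8 S9 b8_706 j9_706_60 = true := by decide +kernel

noncomputable def j9_706_61 : List Job := [
  ⟨2, 0x484462915c8044281542e15098440e0501, 0, 24, 0x0, []⟩]

theorem t9_706_61 : jobs 8 S9 b8_706 j9_706_61 = true := by decide +kernel

noncomputable def j9_706_62 : List Job := [
  ⟨1, 0x540a25229950aa562b960b25a2d970ba5e2fd008242219108a4623920924a259309a4e27c84462915c8044281542e15098440e0501, 0, 24, 0x0, []⟩]

theorem t9_706_62 : jobs 8 S9 b8_706 j9_706_62 = true := by decide +kernel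

noncomputable def j9_706_63 : List Job := [
  ⟨0, 0x484462815480442915c2e15098440e0501, 0, 18, 0x0, []⟩]

theorem t9_706_63 : jobs 8 S9 b8_706 j9_706_63 = true := by decide +kernel

theorem d9_706 : Dn 8 S9 b8_706 := dn_of (Js := j9_706_0 ++ (j9_706_1 ++ (j9_706_2 ++ (j9_706_3 ++ (j9_706_4 ++ (j9_706_5 ++ (j9_706_6 ++ (j9_706_7 ++ (j9_706_8 ++ (j9_706_9 ++ (j9_706_10 ++ (j9_706_11 ++ (j9_706_12 ++ (j9_706_13 ++ (j9_706_14 ++ (j9_706_15 ++ (j9_706_16 ++ (j9_706_17 ++ (j9_706_18 ++ (j9_706_19 ++ (j9_706_20 ++ (j9_706_21 ++ (j9_706_22 ++ (j9_706_23 ++ (j9_706_24 ++ (j9_706_25 ++ (j9_706_26 ++ (j9_706_27 ++ (j9_706_28 ++ (j9_706_29 ++ (j9_706_30 ++ (j9_706_31 ++ (j9_706_32 ++ (j9_706_33 ++ (j9_706_34 ++ (j9_706_35 ++ (j9_706_36 ++ (j9_706_37 ++ (j9_706_38 ++ (j9_706_39 ++ (j9_706_40 ++ (j9_706_41 ++ (j9_706_42 ++ (j9_706_43 ++ (j9_706_44 ++ (j9_706_45 ++ (j9_706_46 ++ (j9_706_47 ++ (j9_706_48 ++ (j9_706_49 ++ (j9_706_50 ++ (j9_706_51 ++ (j9_706_52 ++ (j9_706_53 ++ (j9_706_54 ++ (j9_706_55 ++ (j9_706_56 ++ (j9_706_57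 ++ (j9_706_58 ++ (j9_706_59 ++ (j9_706_60 ++ (j9_706_61 ++ (j9_706_62 ++ (j9_706_63 ++ []))))))))))))))))))))))))))))))))))))))))))))))))))))))))))))))))
  (jobs_append t9_706_0 <| jobs_append t9_706_1 <| jobs_append t9_706_2 <| jobs_append t9_706_3 <| jobs_append t9_706_4 <| jobs_append t9_706_5 <| jobs_append t9_706_6 <| jobs_append t9_706_7 <| jobs_append t9_706_8 <| jobs_append t9_706_9 <| jobs_append t9_706_10 <| jobs_append t9_706_11 <| jobs_append t9_706_12 <| jobs_append t9_706_13 <| jobs_append t9_706_14 <| jobs_append t9_706_15 <| jobs_append t9_706_16 <| jobs_append t9_706_17 <| jobs_append t9_706_18 <| jobs_append t9_706_19 <| jobs_append t9_706_20 <| jobs_append t9_706_21 <| jobs_append t9_706_22 <| jobs_append t9_706_23 <| jobs_append t9_706_24 <| jobs_append t9_706_25 <| jobs_append t9_706_26 <| jobs_append t9_706_27 <| jobs_append t9_706_28 <| jobs_append t9_706_29 <| jobs_append t9_706_30 <| jobs_append t9_706_31 <| jobs_append t9_706_32 <| jobs_append t9_706_33 <| jobs_append t9_706_34 <| jobs_append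 t9_706_35 <| jobs_append t9_706_36 <| jobs_append t9_706_37 <| jobs_append t9_706_38 <| jobs_append t9_706_39 <| jobs_append t9_706_40 <| jobs_append t9_706_41 <| jobs_append t9_706_42 <| jobs_append t9_706_43 <| jobs_append t9_706_44 <| jobs_append t9_706_45 <| jobs_append t9_706_46 <| jobs_append t9_706_47 <| jobs_append t9_706_48 <| jobs_append t9_706_49 <| jobs_append t9_706_50 <| jobs_append t9_706_51 <| jobs_append t9_706_52 <| jobs_append t9_706_53 <| jobs_append t9_706_54 <| jobs_append t9_706_55 <| jobs_append t9_706_56 <| jobs_append t9_706_57 <| jobs_append t9_706_58 <| jobs_append t9_706_59 <| jobs_append t9_706_60 <| jobs_append t9_706_61 <| jobs_append t9_706_62 <| jobs_append t9_706_63 <| List.forall_mem_nil _) (by decide +kernel)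

noncomputable def j9_707_0 : List Job := [
  ⟨63, 0x64926964ba61329c4ee4122944aa69369e4fd20924a259309a4e27d008242219108a4623c361909844160901, 0, 23, 0x2801002a01002c01002e01, []⟩]

theorem t9_707_0 : jobs 8 S9 b8_707 j9_707_0 = true := by decide +kernel

noncomputable def j9_707_1 : List Job := [
  ⟨62, 0x4d06a361b8f07a3e1fcc06232198e0723a1dc904a26138b05a2e17c804222118a0522a15c361909844160901, 0, 25, 0x2201002401002601002801002a01002c01002e01, []⟩]

theorem t9_707_1 : jobs 8 S9 b8_707 j9_707_1 = true := by decide +kernel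

noncomputable def j9_707_2 : List Job := [
  ⟨61, 0x520924a259309a4e27d008242219108a4623cd06a361b8f07a3e1fcc06232198e0723a1dc904a26138b05a2e17c804222118a0522a15c361909844160901, 0, 34, 0x3a01003c01003e01004001, []⟩]

theorem t9_707_2 : jobs 8 S9 b8_707 j9_707_2 = true := by decide +kernel

noncomputable def j9_707_3 : List Job := [
  ⟨60, 0x64926964ba61329c4ee4122944aa69369e4fd20924a259309a4e27d008242219108a4623cd06a361b8f07a3e1fcc06232198e0723a1dc904a26138b05a2e17c804222118a0522a15c361909844160901, 0, 57, 0x4601004a01005201005401005601005801005a01005c01006801006a01006c01006e01, []⟩]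

theorem t9_707_3 : jobs 8 S9 b8_707 j9_707_3 = true := by decide +kernel

noncomputable def j9_707_4 : List Job := [
  ⟨59, 0x64926964ba61329c4ed008242219108a4623c301b0a05c180f01, 0, 128, 0xc01000e01001401001601003c01003e01004401004601, []⟩]

theorem t9_707_4 : jobs 8 S9 b8_707 j9_707_4 = true := by decide +kernel

noncomputable def j9_707_5 : List Job := [
  ⟨58, 0x64926964ba61329c4ed008242219108a4623cd06a361b8f07a3e1fcc06232198e0723a1dc904a26138b05a2e17c804222118a0522a15c301b0a05c180f01, 0, 128, 0xc01000e01001401001601003c01003e01004401004601, []⟩]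

theorem t9_707_5 : jobs 8 S9 b8_707 j9_707_5 = true := by decide +kernel

noncomputable def j9_707_6 : List Job := [
  ⟨57, 0x64926964ba61329c4ed008242219108a4623c904a26138b05a2e17c804222118a0522a15c301b0a05c180f01, 0, 160, 0x201000801001a01002001002201002801003a01004001004201004801005a01006001006201006801007a01008001, []⟩]

theorem t9_707_6 : jobs 8 S9 b8_707 j9_707_6 = true := by decide +kernel

noncomputable def j9_707_7 : List Job := [
  ⟨56, 0x64122944aa69369e4fd008242219108a4623cd06a361b8f07a3e1fc804222118a0522a15c381f0a05c100b01, 0, 176, 0x203000403000603000803000a03000c03000e03001003001203001403001603001803001a03001c03001e03002003005203005403005603005803005a03005c03005e03006003006203006403006603006803006a03006c03006e03007003, []⟩]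

theorem t9_707_7 : jobs 8 S9 b8_707 j9_707_7 = true := by decide +kernel

noncomputable def j9_707_8 : List Job := [
  ⟨55, 0x64d2c984e6492e994ed008242219108a4623cd06a361b8f07a3e1fc804222118a0522a15c381f0a05c100b01, 0, 176, 0x203000403000603000803000a03000c03000e03001003001203001403001603001803001a03001c03001e03002003005203005403005603005803005a03005c03005e03006003006203006403006603006803006a03006c03006e03007003, []⟩]

theorem t9_707_8 : jobs 8 S9 b8_707 j9_707_8 = true := by decide +kernel

noncomputable def j9_707_9 : List Job := [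
  ⟨54, 0x4c06232198e0723a1dc804222118a0522a15c2e15098440e0501, 0, 24, 0x0, []⟩]

theorem t9_707_9 : jobs 8 S9 b8_707 j9_707_9 = true := by decide +kernel

noncomputable def j9_707_10 : List Job := [
  ⟨53, 0x64926964ba61329c4ee4122944aa69369e4fd20924a259309a4e27d008242219108a4623cc06232198e0723a1dc804222118a0522a15c2e15098440e0501, 0, 24, 0x0, []⟩]

theorem t9_707_10 : jobs 8 S9 b8_707 j9_707_10 = true := by decide +kernel

noncomputable def j9_707_11 : List Job := [
  ⟨52, 0x520924a259309a4e27d008242219108a4623cc06232198e0723a1dc804222118a0522a15c2e15098440e0501, 0, 36, 0x0, []⟩]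

theorem t9_707_11 : jobs 8 S9 b8_707 j9_707_11 = true := by decide +kernel

noncomputable def j9_707_12 : List Job := [
  ⟨51, 0x4c464391d4c066381dc84462915c8044281542e15098440e0501, 0, 24, 0x2603002803002a03002c03, []⟩]

theorem t9_707_12 : jobs 8 S9 b8_707 j9_707_12 = true := by decide +kernel

noncomputable def j9_707_13 : List Job := [
  ⟨50, 0x64926964ba61329c4ee4122944aa69369e4fd20924a259309a4e27d008242219108a4623cc464381dcc066391d484462815480442915c2e15098440e0501, 0, 29, 0x2a00002c00003003003203003403003603, [(21, ⟨2175, 0x458004b000400006000820010200012004040080001, 0x1862308026030401002⟩), (20, ⟨2176, 0x4080141002400006400020000200012004040080001, 0x1812088024030401002⟩)]⟩]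

theorem t9_707_13 : jobs 8 S9 b8_707 j9_707_13 = true := by decide +kernel

noncomputable def j9_707_14 : List Job := [
  ⟨49, 0x520924a259309a4e27d008242219108a4623cc464391d4c066381dc84462915c8044281542e15098440e0501, 0, 36, 0x3203003403003603003803003e03004003004203004403, []⟩]

theorem t9_707_14 : jobs 8 S9 b8_707 j9_707_14 = true := by decide +kernel

noncomputable def j9_707_15 : List Job := [
  ⟨48, 0x64926964ba61329c4ee4122944aa69369e4fcc06232198e0723a1dc84462815480442915c2e15098440e0501, 0, 48, 0x4203004403004603004803005203005403005603005803, []⟩]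

theorem t9_707_15 : jobs 8 S9 b8_707 j9_707_15 = true := by decide +kernel

noncomputable def j9_707_16 : List Job := [
  ⟨47, 0x4c06232198e0723a1dc84462915c8044281542e15098440e0501, 0, 48, 0x4203004403004603004803005203005403005603005803, []⟩]

theorem t9_707_16 : jobs 8 S9 b8_707 j9_707_16 = true := by decide +kernel

noncomputable def j9_707_17 : List Job := [
  ⟨46, 0x64926964ba61329c4ee4122944aa69369e4fd20924a259309a4e27d008242219108a4623cc06232198e0723a1dc84462815480442915c2e15098440e0501, 0, 48, 0x4203004403004603004803005203005403005603005803, []⟩]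

theorem t9_707_17 : jobs 8 S9 b8_707 j9_707_17 = true := by decide +kernel

noncomputable def j9_707_18 : List Job := [
  ⟨45, 0x520924a259309a4e27d008242219108a4623cc06232198e0723a1dc84462915c8044281542e15098440e0501, 0, 48, 0x4203004403004603004803005203005403005603005803, []⟩]

theorem t9_707_18 : jobs 8 S9 b8_707 j9_707_18 = true := by decide +kernel

noncomputable def j9_707_19 : List Job := [
  ⟨44, 0x4c06232198e0723a1dc804222118a0522a15c2e15098440e0501, 0, 24, 0x0, []⟩]

theorem t9_707_19 : jobs 8 S9 b8_707 j9_707_19 = true := by decide +kernel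

noncomputable def j9_707_20 : List Job := [
  ⟨43, 0x520924a259309a4e27d008242219108a4623cc06232198e0723a1dc804222118a0522a15c2e15098440e0501, 0, 36, 0x0, []⟩]

theorem t9_707_20 : jobs 8 S9 b8_707 j9_707_20 = true := by decide +kernel

noncomputable def j9_707_21 : List Job := [
  ⟨42, 0x64926964ba61329c4ee4122944aa69369e4fd20924a259309a4e27d008242219108a4623cc06232198e0723a1dc804222118a0522a15c2e15098440e0501, 0, 24, 0x0, []⟩]

theorem t9_707_21 : jobs 8 S9 b8_707 j9_707_21 = true := by decide +kernel

noncomputable def j9_707_22 : List Job := [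
  ⟨41, 0x4c466381d4c064391dc84462815480442915c2e15098440e0501, 0, 24, 0x2603002803002a03002c03, []⟩]

theorem t9_707_22 : jobs 8 S9 b8_707 j9_707_22 = true := by decide +kernel

noncomputable def j9_707_23 : List Job := [
  ⟨40, 0x520924a259309a4e27d008242219108a4623cc466381d4c064391dc84462815480442915c2e15098440e0501, 0, 36, 0x3203003403003603003803003e03004003004203004403, []⟩]

theorem t9_707_23 : jobs 8 S9 b8_707 j9_707_23 = true := by decide +kernel

noncomputable def j9_707_24 : List Job := [
  ⟨39, 0x64926964ba61329c4ee4122944aa69369e4fd20924a259309a4e27d008242219108a4623cc466391dcc064381d484462915c8044281542e15098440e0501, 0, 48, 0x5203005403005603005803005e01006001, []⟩]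

theorem t9_707_24 : jobs 8 S9 b8_707 j9_707_24 = true := by decide +kernel

noncomputable def j9_707_25 : List Job := [
  ⟨38, 0x601028241a110a8643d008242219108a4623cd06a361b8f07a3e1fc804222118a0522a15c301b0a05c180f01, 0, 83, 0x6a01006c01006e01007001007201007401007601007801007a01007c01007e01008001008201008401008601008801008a01008c01008e01009001009201009401009601009801009a01009c01009e0100a00100a20100a40100a601, []⟩]

theorem t9_707_25 : jobs 8 S9 b8_707 j9_707_25 = true := by decide +kernel

noncomputable def j9_707_26 : List Job := [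
  ⟨37, 0x601028241a110a8643d008242219108a4623cd06a361b8f07a3e1fc804222118a0522a15c301b0a05c180f01, 0, 83, 0x6a03006c03006e01007001007203007403007602007801007a01007c02007e03008003008203008402008602008802008a01008c01008e02009003009201009401009601009803009a02009c03009e0300a00300a20100a40300a603, []⟩]

theorem t9_707_26 : jobs 8 S9 b8_707 j9_707_26 = true := by decide +kernel

noncomputable def j9_707_27 : List Job := [
  ⟨36, 0x601028241a110a8643d008242219108a4623cd06a361b8f07a3e1fc804222118a0522a15c381f0c06c0e0501, 0, 55, 0x4001004201004401004601004801004a01004c01004e01005001005201005401005601, []⟩]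

theorem t9_707_27 : jobs 8 S9 b8_707 j9_707_27 = true := by decide +kernel

noncomputable def j9_707_28 : List Job := [
  ⟨35, 0x601028241a110a8643d008242219108a4623cd06a361b8f07a3e1fc804222118a0522a15c381f0c06c0e0501, 0, 100, 0x8201008401008601008801008a01008c01008e01009001009201009401009601009801009a01009c01009e0100a00100a20100a40100a60100a801, []⟩]

theorem t9_707_28 : jobs 8 S9 b8_707 j9_707_28 = true := by decide +kernel

noncomputable def j9_707_29 : List Job := [
  ⟨34, 0x621128a45a311a8e47d008242219108a4623cd06a361b8f07a3e1fc804222118a0522a15c381f0c06c0e0501, 0, 55, 0x4001004201004401004601004801004a01004c01004e01005001005201005401005601, []⟩]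

theorem t9_707_29 : jobs 8 S9 b8_707 j9_707_29 = true := by decide +kernel

noncomputable def j9_707_30 : List Job := [
  ⟨33, 0x601028241a110a8643d008242219108a4623cd06a361b8f07a3e1fc804222118a0522a15c381f0c06c0e0501, 0, 88, 0x6a01006c01006e01007001007201007401007601007801007a01007c01007e01008001008201008401008601008801008a01008c01, []⟩]

theorem t9_707_30 : jobs 8 S9 b8_707 j9_707_30 = true := by decide +kernel

noncomputable def j9_707_31 : List Job := [
  ⟨32, 0x4c06232198e0723a1dc804222118a0522a15c381f09844180f01, 0, 84, 0x0, []⟩]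

theorem t9_707_31 : jobs 8 S9 b8_707 j9_707_31 = true := by decide +kernel

noncomputable def j9_707_32 : List Job := [
  ⟨31, 0x520924a259309a4e27d008242219108a4623cc06232198e0723a1dc804222118a0522a15c381f09844180f01, 0, 120, 0x0, []⟩]

theorem t9_707_32 : jobs 8 S9 b8_707 j9_707_32 = true := by decide +kernel

noncomputable def j9_707_33 : List Job := [
  ⟨30, 0x621128a45a311a8e47e01028241a110a8643d20924a259309a4e27d008242219108a4623cc06232198e0723a1dc804222118a0522a15c381f09844180f01, 0, 84, 0x0, []⟩]

theorem t9_707_33 : jobs 8 S9 b8_707 j9_707_33 = true := by decide +kernel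

noncomputable def j9_707_34 : List Job := [
  ⟨29, 0x4c06232198e0723a1dc804222118a0522a15c381f09844180f01, 0, 84, 0x0, []⟩]

theorem t9_707_34 : jobs 8 S9 b8_707 j9_707_34 = true := by decide +kernel

noncomputable def j9_707_35 : List Job := [
  ⟨28, 0x520924a259309a4e27d008242219108a4623cc06232198e0723a1dc804222118a0522a15c381f09844180f01, 0, 120, 0x0, []⟩]

theorem t9_707_35 : jobs 8 S9 b8_707 j9_707_35 = true := by decide +kernel

noncomputable def j9_707_36 : List Job := [
  ⟨27, 0x621128a45a311a8e47e01028241a110a8643d20924a259309a4e27d008242219108a4623cc06232198e0723a1dc804222118a0522a15c381f09844180f01, 0, 84, 0x0, []⟩]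

theorem t9_707_36 : jobs 8 S9 b8_707 j9_707_36 = true := by decide +kernel

noncomputable def j9_707_37 : List Job := [
  ⟨26, 0x520924a259309a4e27d008242219108a4623c904a26138b05a2e17c804222118a0522a15c361909844160901, 0, 38, 0x4201004401004601004801004a01004c01, []⟩]

theorem t9_707_37 : jobs 8 S9 b8_707 j9_707_37 = true := by decide +kernel

noncomputable def j9_707_38 : List Job := [
  ⟨25, 0x520924a259309a4e27d008242219108a4623c904a26138b05a2e17c804222118a0522a15c361909844160901, 0, 38, 0x4201004401004601004801004a01004c01, []⟩]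

theorem t9_707_38 : jobs 8 S9 b8_707 j9_707_38 = true := by decide +kernel

noncomputable def j9_707_39 : List Job := [
  ⟨24, 0x4361909844160901, 0, 20, 0x2201002401002601002801, []⟩]

theorem t9_707_39 : jobs 8 S9 b8_707 j9_707_39 = true := by decide +kernel

noncomputable def j9_707_40 : List Job := [
  ⟨23, 0x520924a259309a4e27d008242219108a4623c361909844160901, 0, 50, 0x5a01005c01005e01006001006201006401, []⟩]

theorem t9_707_40 : jobs 8 S9 b8_707 j9_707_40 = true := by decide +kernel

noncomputable def j9_707_41 : List Job := [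
  ⟨22, 0x4d06a361b8f07a3e1fcc06232198e0723a1dc904a26138b05a2e17c804222118a0522a15c361909844160901, 0, 37, 0x4201004401004601004801004a01, []⟩]

theorem t9_707_41 : jobs 8 S9 b8_707 j9_707_41 = true := by decide +kernel

noncomputable def j9_707_42 : List Job := [
  ⟨21, 0x520924a259309a4e27d008242219108a4623cd06a361b8f07a3e1fcc06232198e0723a1dc904a26138b05a2e17c804222118a0522a15c361909844160901, 0, 50, 0x5a01005c01005e01006001006201006401, []⟩]

theorem t9_707_42 : jobs 8 S9 b8_707 j9_707_42 = true := by decide +kernel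

noncomputable def j9_707_43 : List Job := [
  ⟨20, 0x621128a45a311a8e47e01028241a110a8643d20924a259309a4e27d008242219108a4623cd06a361b8f07a3e1fcc06232198e0723a1dc904a26138b05a2e17c804222118a0522a15c361909844160901, 0, 23, 0x2201002401002601002801002a00002c00, [(21, ⟨2174, 0x1e00128000820031400840000300208004040080001, 0x1301092194080101402⟩), (20, ⟨2173, 0x4280041000480047000020000200210004040000001, 0x189208a034020401002⟩)]⟩]

theorem t9_707_43 : jobs 8 S9 b8_707 j9_707_43 = true := by decide +kernel

noncomputable def j9_707_44 : List Job := [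
  ⟨19, 0x4361909844160901, 0, 20, 0x2201002401002601002801, []⟩]

theorem t9_707_44 : jobs 8 S9 b8_707 j9_707_44 = true := by decide +kernel

noncomputable def j9_707_45 : List Job := [
  ⟨18, 0x520924a259309a4e27d008242219108a4623c361909844160901, 0, 50, 0x5a01005c01005e01006001006201006401, []⟩]

theorem t9_707_45 : jobs 8 S9 b8_707 j9_707_45 = true := by decide +kernel

noncomputable def j9_707_46 : List Job := [
  ⟨17, 0x4d06a361b8f07a3e1fcc06232198e0723a1dc904a26138b05a2e17c804222118a0522a15c361909844160901, 0, 37, 0x4201004401004601004801004a01, []⟩]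

theorem t9_707_46 : jobs 8 S9 b8_707 j9_707_46 = true := by decide +kernel

noncomputable def j9_707_47 : List Job := [
  ⟨16, 0x520924a259309a4e27d008242219108a4623cd06a361b8f07a3e1fcc06232198e0723a1dc904a26138b05a2e17c804222118a0522a15c361909844160901, 0, 50, 0x5a01005c01005e01006001006201006401, []⟩]

theorem t9_707_47 : jobs 8 S9 b8_707 j9_707_47 = true := by decide +kernel

noncomputable def j9_707_48 : List Job := [
  ⟨15, 0x621128a45a311a8e47e01028241a110a8643d20924a259309a4e27d008242219108a4623cd06a361b8f07a3e1fcc06232198e0723a1dc904a26138b05a2e17c804222118a0522a15c361909844160901, 0, 40, 0x2201002401002601002801004401004801004e01005001, []⟩]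

theorem t9_707_48 : jobs 8 S9 b8_707 j9_707_48 = true := by decide +kernel

noncomputable def j9_707_49 : List Job := [
  ⟨14, 0x4c06232198e0723a1dc804222118a0522a15c2e15098440e0501, 0, 40, 0x0, []⟩]

theorem t9_707_49 : jobs 8 S9 b8_707 j9_707_49 = true := by decide +kernel

noncomputable def j9_707_50 : List Job := [
  ⟨13, 0x520924a259309a4e27d008242219108a4623cc06232198e0723a1dc804222118a0522a15c2e15098440e0501, 0, 50, 0x0, []⟩]

theorem t9_707_50 : jobs 8 S9 b8_707 j9_707_50 = true := by decide +kernel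

noncomputable def j9_707_51 : List Job := [
  ⟨12, 0x621128a45a311a8e47e01028241a110a8643d20924a259309a4e27d008242219108a4623cc06232198e0723a1dc804222118a0522a15c2e15098440e0501, 0, 40, 0x0, []⟩]

theorem t9_707_51 : jobs 8 S9 b8_707 j9_707_51 = true := by decide +kernel

noncomputable def j9_707_52 : List Job := [
  ⟨11, 0x4c464391d4c066381dc84462915c8044281542e15098440e0501, 0, 40, 0x0, []⟩]

theorem t9_707_52 : jobs 8 S9 b8_707 j9_707_52 = true := by decide +kernel

noncomputable def j9_707_53 : List Job := [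
  ⟨10, 0x520924a259309a4e27d008242219108a4623cc464391d4c066381dc84462915c8044281542e15098440e0501, 0, 50, 0x0, []⟩]

theorem t9_707_53 : jobs 8 S9 b8_707 j9_707_53 = true := by decide +kernel

noncomputable def j9_707_54 : List Job := [
  ⟨9, 0x621128a45a311a8e47e01028241a110a8643d20924a259309a4e27d008242219108a4623cc464391d4c066381dc84462915c8044281542e15098440e0501, 0, 45, 0x5600005800, [(43, ⟨2172, 0x270008e000540046800028000200010000040000001, 0x14e470982c020481002⟩), (42, ⟨2171, 0x270008e000540046800028000200010000040000001, 0x14e470982c020481002⟩)]⟩]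

theorem t9_707_54 : jobs 8 S9 b8_707 j9_707_54 = true := by decide +kernel

noncomputable def j9_707_55 : List Job := [
  ⟨8, 0x4c06232198e0723a1dc84462915c8044281542e15098440e0501, 0, 72, 0x0, []⟩]

theorem t9_707_55 : jobs 8 S9 b8_707 j9_707_55 = true := by decide +kernel

noncomputable def j9_707_56 : List Job := [
  ⟨7, 0x621128a45a311a8e47e01028241a110a8643cc06232198e0723a1dc84462915c8044281542e15098440e0501, 0, 72, 0x0, []⟩]

theorem t9_707_56 : jobs 8 S9 b8_707 j9_707_56 = true := by decide +kernel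

noncomputable def j9_707_57 : List Job := [
  ⟨6, 0x520924a259309a4e27d008242219108a4623cc06232198e0723a1dc84462915c8044281542e15098440e0501, 0, 72, 0x0, []⟩]

theorem t9_707_57 : jobs 8 S9 b8_707 j9_707_57 = true := by decide +kernel

noncomputable def j9_707_58 : List Job := [
  ⟨5, 0x621128a45a311a8e47e01028241a110a8643d20924a259309a4e27d008242219108a4623cc06232198e0723a1dc84462915c8044281542e15098440e0501, 0, 72, 0x0, []⟩]

theorem t9_707_58 : jobs 8 S9 b8_707 j9_707_58 = true := by decide +kernel

noncomputable def j9_707_59 : List Job := [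
  ⟨4, 0x4c06232198e0723a1dc804222118a0522a15c2e15098440e0501, 0, 40, 0x0, []⟩]

theorem t9_707_59 : jobs 8 S9 b8_707 j9_707_59 = true := by decide +kernel

noncomputable def j9_707_60 : List Job := [
  ⟨3, 0x520924a259309a4e27d008242219108a4623cc06232198e0723a1dc804222118a0522a15c2e15098440e0501, 0, 50, 0x0, []⟩]

theorem t9_707_60 : jobs 8 S9 b8_707 j9_707_60 = true := by decide +kernel

noncomputable def j9_707_61 : List Job := [
  ⟨2, 0x621128a45a311a8e47e01028241a110a8643d20924a259309a4e27d008242219108a4623cc06232198e0723a1dc804222118a0522a15c2e15098440e0501, 0, 40, 0x0, []⟩]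

theorem t9_707_61 : jobs 8 S9 b8_707 j9_707_61 = true := by decide +kernel

noncomputable def j9_707_62 : List Job := [
  ⟨1, 0x4c466391dcc064381d484462915c8044281542e15098440e0501, 0, 40, 0x0, []⟩]

theorem t9_707_62 : jobs 8 S9 b8_707 j9_707_62 = true := by decide +kernel

noncomputable def j9_707_63 : List Job := [
  ⟨0, 0x520924a259309a4e27d008242219108a4623cc466391dcc064381d484462915c8044281542e15098440e0501, 0, 50, 0x0, []⟩]

theorem t9_707_63 : jobs 8 S9 b8_707 j9_707_63 = true := by decide +kernel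

theorem d9_707 : Dn 8 S9 b8_707 := dn_of (Js := j9_707_0 ++ (j9_707_1 ++ (j9_707_2 ++ (j9_707_3 ++ (j9_707_4 ++ (j9_707_5 ++ (j9_707_6 ++ (j9_707_7 ++ (j9_707_8 ++ (j9_707_9 ++ (j9_707_10 ++ (j9_707_11 ++ (j9_707_12 ++ (j9_707_13 ++ (j9_707_14 ++ (j9_707_15 ++ (j9_707_16 ++ (j9_707_17 ++ (j9_707_18 ++ (j9_707_19 ++ (j9_707_20 ++ (j9_707_21 ++ (j9_707_22 ++ (j9_707_23 ++ (j9_707_24 ++ (j9_707_25 ++ (j9_707_26 ++ (j9_707_27 ++ (j9_707_28 ++ (j9_707_29 ++ (j9_707_30 ++ (j9_707_31 ++ (j9_707_32 ++ (j9_707_33 ++ (j9_707_34 ++ (j9_707_35 ++ (j9_707_36 ++ (j9_707_37 ++ (j9_707_38 ++ (j9_707_39 ++ (j9_707_40 ++ (j9_707_41 ++ (j9_707_42 ++ (j9_707_43 ++ (j9_707_44 ++ (j9_707_45 ++ (j9_707_46 ++ (j9_707_47 ++ (j9_707_48 ++ (j9_707_49 ++ (j9_707_50 ++ (j9_707_51 ++ (j9_707_52 ++ (j9_707_53 ++ (j9_707_54 ++ (j9_707_55 ++ (j9_707_56 ++ (j9_707_57 ++ (j9_707_58 ++ (j9_707_59 ++ (j9_707_60 ++ (j9_707_61 ++ (j9_707_62 ++ (j9_707_63 ++ []))))))))))))))))))))))))))))))))))))))))))))))))))))))))))))))))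
  (jobs_append t9_707_0 <| jobs_append t9_707_1 <| jobs_append t9_707_2 <| jobs_append t9_707_3 <| jobs_append t9_707_4 <| jobs_append t9_707_5 <| jobs_append t9_707_6 <| jobs_append t9_707_7 <| jobs_append t9_707_8 <| jobs_append t9_707_9 <| jobs_append t9_707_10 <| jobs_append t9_707_11 <| jobs_append t9_707_12 <| jobs_append t9_707_13 <| jobs_append t9_707_14 <| jobs_append t9_707_15 <| jobs_append t9_707_16 <| jobs_append t9_707_17 <| jobs_append t9_707_18 <| jobs_append t9_707_19 <| jobs_append t9_707_20 <| jobs_append t9_707_21 <| jobs_append t9_707_22 <| jobs_append t9_707_23 <| jobs_append t9_707_24 <| jobs_append t9_707_25 <| jobs_append t9_707_26 <| jobs_append t9_707_27 <| jobs_append t9_707_28 <| jobs_append t9_707_29 <| jobs_append t9_707_30 <| jobs_append t9_707_31 <| jobs_append t9_707_32 <| jobs_append t9_707_33 <| jobs_append t9_707_34 <| jobs_append t9_707_35 <| jobs_append t9_707_36 <| jobs_append t9_707_37 <| jobs_append t9_707_38 <| jobs_append t9_707_39 <| jobs_append t9_707_40 <| jobs_append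 t9_707_41 <| jobs_append t9_707_42 <| jobs_append t9_707_43 <| jobs_append t9_707_44 <| jobs_append t9_707_45 <| jobs_append t9_707_46 <| jobs_append t9_707_47 <| jobs_append t9_707_48 <| jobs_append t9_707_49 <| jobs_append t9_707_50 <| jobs_append t9_707_51 <| jobs_append t9_707_52 <| jobs_append t9_707_53 <| jobs_append t9_707_54 <| jobs_append t9_707_55 <| jobs_append t9_707_56 <| jobs_append t9_707_57 <| jobs_append t9_707_58 <| jobs_append t9_707_59 <| jobs_append t9_707_60 <| jobs_append t9_707_61 <| jobs_append t9_707_62 <| jobs_append t9_707_63 <| List.forall_mem_nil _) (by decide +kernel)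

noncomputable def j9_708_0 : List Job := [
  ⟨63, 0x42e15098440e0501, 0, 16, 0x0, []⟩]

theorem t9_708_0 : jobs 8 S9 b8_708 j9_708_0 = true := by decide +kernel

noncomputable def j9_708_1 : List Job := [
  ⟨62, 0x520924a259309a4e27d008242219108a4623c2e15098440e0501, 0, 24, 0x0, []⟩]

theorem t9_708_1 : jobs 8 S9 b8_708 j9_708_1 = true := by decide +kernel

noncomputable def j9_708_2 : List Job := [
  ⟨61, 0x64926964ba61329c4ee4122944aa69369e4fd20924a259309a4e27d008242219108a4623c2e15098440e0501, 0, 16, 0x0, []⟩]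

theorem t9_708_2 : jobs 8 S9 b8_708 j9_708_2 = true := by decide +kernel

noncomputable def j9_708_3 : List Job := [
  ⟨60, 0x42e15098440e0501, 0, 16, 0x0, []⟩]

theorem t9_708_3 : jobs 8 S9 b8_708 j9_708_3 = true := by decide +kernel

noncomputable def j9_708_4 : List Job := [
  ⟨59, 0x520924a259309a4e27d008242219108a4623c2e15098440e0501, 0, 24, 0x0, []⟩]

theorem t9_708_4 : jobs 8 S9 b8_708 j9_708_4 = true := by decide +kernel

noncomputable def j9_708_5 : List Job := [
  ⟨58, 0x64926964ba61329c4ee4122944aa69369e4fd20924a259309a4e27d008242219108a4623c2e15098440e0501, 0, 38, 0x0, []⟩]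

theorem t9_708_5 : jobs 8 S9 b8_708 j9_708_5 = true := by decide +kernel

noncomputable def j9_708_6 : List Job := [
  ⟨57, 0x4381f09844180f01, 0, 44, 0x0, []⟩]

theorem t9_708_6 : jobs 8 S9 b8_708 j9_708_6 = true := by decide +kernel

noncomputable def j9_708_7 : List Job := [
  ⟨56, 0x520924a259309a4e27d008242219108a4623c381f09844180f01, 0, 80, 0x0, []⟩]

theorem t9_708_7 : jobs 8 S9 b8_708 j9_708_7 = true := by decide +kernel

noncomputable def j9_708_8 : List Job := [
  ⟨55, 0x621128a45a311a8e47e01028241a110a8643d20924a259309a4e27d008242219108a4623c381f09844180f01, 0, 44, 0x0, []⟩]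

theorem t9_708_8 : jobs 8 S9 b8_708 j9_708_8 = true := by decide +kernel

noncomputable def j9_708_9 : List Job := [
  ⟨54, 0x4381f09844180f01, 0, 52, 0x0, []⟩]

theorem t9_708_9 : jobs 8 S9 b8_708 j9_708_9 = true := by decide +kernel

noncomputable def j9_708_10 : List Job := [
  ⟨53, 0x520924a259309a4e27d008242219108a4623c381f09844180f01, 0, 80, 0x0, []⟩]

theorem t9_708_10 : jobs 8 S9 b8_708 j9_708_10 = true := by decide +kernel

noncomputable def j9_708_11 : List Job := [
  ⟨52, 0x621128a45a311a8e47e01028241a110a8643d20924a259309a4e27d008242219108a4623c381f09844180f01, 0, 52, 0x0, []⟩]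

theorem t9_708_11 : jobs 8 S9 b8_708 j9_708_11 = true := by decide +kernel

noncomputable def j9_708_12 : List Job := [
  ⟨51, 0x4361909844160901, 0, 20, 0x0, []⟩]

theorem t9_708_12 : jobs 8 S9 b8_708 j9_708_12 = true := by decide +kernel

noncomputable def j9_708_13 : List Job := [
  ⟨50, 0x520924a259309a4e27d008242219108a4623c361909844160901, 0, 32, 0x0, []⟩]

theorem t9_708_13 : jobs 8 S9 b8_708 j9_708_13 = true := by decide +kernel

noncomputable def j9_708_14 : List Job := [
  ⟨49, 0x621128a45a311a8e47e01028241a110a8643d20924a259309a4e27d008242219108a4623c361909844160901, 0, 20, 0x0, []⟩]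

theorem t9_708_14 : jobs 8 S9 b8_708 j9_708_14 = true := by decide +kernel

noncomputable def j9_708_15 : List Job := [
  ⟨48, 0x4361909844160901, 0, 20, 0x0, []⟩]

theorem t9_708_15 : jobs 8 S9 b8_708 j9_708_15 = true := by decide +kernel

noncomputable def j9_708_16 : List Job := [
  ⟨47, 0x520924a259309a4e27d008242219108a4623c361909844160901, 0, 32, 0x0, []⟩]

theorem t9_708_16 : jobs 8 S9 b8_708 j9_708_16 = true := by decide +kernel

noncomputable def j9_708_17 : List Job := [
  ⟨46, 0x621128a45a311a8e47e01028241a110a8643d20924a259309a4e27d008242219108a4623c361909844160901, 0, 20, 0x0, []⟩]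

theorem t9_708_17 : jobs 8 S9 b8_708 j9_708_17 = true := by decide +kernel

noncomputable def j9_708_18 : List Job := [
  ⟨45, 0x4361909844160901, 0, 24, 0x0, []⟩]

theorem t9_708_18 : jobs 8 S9 b8_708 j9_708_18 = true := by decide +kernel

noncomputable def j9_708_19 : List Job := [
  ⟨44, 0x621128a45a311a8e47e01028241a110a8643c361909844160901, 0, 24, 0x0, []⟩]

theorem t9_708_19 : jobs 8 S9 b8_708 j9_708_19 = true := by decide +kernel

noncomputable def j9_708_20 : List Job := [
  ⟨43, 0x520924a259309a4e27d008242219108a4623c361909844160901, 0, 24, 0x0, []⟩]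

theorem t9_708_20 : jobs 8 S9 b8_708 j9_708_20 = true := by decide +kernel

noncomputable def j9_708_21 : List Job := [
  ⟨42, 0x621128a45a311a8e47e01028241a110a8643d20924a259309a4e27d008242219108a4623c361909844160901, 0, 24, 0x0, []⟩]

theorem t9_708_21 : jobs 8 S9 b8_708 j9_708_21 = true := by decide +kernel

noncomputable def j9_708_22 : List Job := [
  ⟨41, 0x4361909844160901, 0, 16, 0x0, []⟩]

theorem t9_708_22 : jobs 8 S9 b8_708 j9_708_22 = true := by decide +kernel

noncomputable def j9_708_23 : List Job := [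
  ⟨40, 0x520924a259309a4e27d008242219108a4623c361909844160901, 0, 24, 0x0, []⟩]

theorem t9_708_23 : jobs 8 S9 b8_708 j9_708_23 = true := by decide +kernel

noncomputable def j9_708_24 : List Job := [
  ⟨39, 0x621128a45a311a8e47e01028241a110a8643d20924a259309a4e27d008242219108a4623c361909844160901, 0, 22, 0x2a01002c01, []⟩]

theorem t9_708_24 : jobs 8 S9 b8_708 j9_708_24 = true := by decide +kernel

noncomputable def j9_708_25 : List Job := [
  ⟨38, 0x4361909844160901, 0, 16, 0x0, []⟩]

theorem t9_708_25 : jobs 8 S9 b8_708 j9_708_25 = true := by decide +kernel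

noncomputable def j9_708_26 : List Job := [
  ⟨37, 0x520924a259309a4e27d008242219108a4623c361909844160901, 0, 24, 0x0, []⟩]

theorem t9_708_26 : jobs 8 S9 b8_708 j9_708_26 = true := by decide +kernel

noncomputable def j9_708_27 : List Job := [
  ⟨36, 0x621128a45a311a8e47e01028241a110a8643d20924a259309a4e27d008242219108a4623c361909844160901, 0, 38, 0x4201004401, []⟩]

theorem t9_708_27 : jobs 8 S9 b8_708 j9_708_27 = true := by decide +kernel

noncomputable def j9_708_28 : List Job := [
  ⟨35, 0x42e15098440e0501, 0, 16, 0x0, []⟩]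

theorem t9_708_28 : jobs 8 S9 b8_708 j9_708_28 = true := by decide +kernel

noncomputable def j9_708_29 : List Job := [
  ⟨34, 0x520924a259309a4e27d008242219108a4623c2e15098440e0501, 0, 24, 0x0, []⟩]

theorem t9_708_29 : jobs 8 S9 b8_708 j9_708_29 = true := by decide +kernel

noncomputable def j9_708_30 : List Job := [
  ⟨33, 0x621128a45a311a8e47e01028241a110a8643d20924a259309a4e27d008242219108a4623c2e15098440e0501, 0, 16, 0x0, []⟩]

theorem t9_708_30 : jobs 8 S9 b8_708 j9_708_30 = true := by decide +kernel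

noncomputable def j9_708_31 : List Job := [
  ⟨32, 0x42e15098440e0501, 0, 16, 0x0, []⟩]

theorem t9_708_31 : jobs 8 S9 b8_708 j9_708_31 = true := by decide +kernel

noncomputable def j9_708_32 : List Job := [
  ⟨31, 0x520924a259309a4e27d008242219108a4623c2e15098440e0501, 0, 24, 0x0, []⟩]

theorem t9_708_32 : jobs 8 S9 b8_708 j9_708_32 = true := by decide +kernel

noncomputable def j9_708_33 : List Job := [
  ⟨30, 0x621128a45a311a8e47e01028241a110a8643d20924a259309a4e27d008242219108a4623c2e15098440e0501, 0, 18, 0x0, []⟩]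

theorem t9_708_33 : jobs 8 S9 b8_708 j9_708_33 = true := by decide +kernel

noncomputable def j9_708_34 : List Job := [
  ⟨29, 0x42e15098440e0501, 0, 32, 0x0, []⟩]

theorem t9_708_34 : jobs 8 S9 b8_708 j9_708_34 = true := by decide +kernel

noncomputable def j9_708_35 : List Job := [
  ⟨28, 0x621128a45a311a8e47e01028241a110a8643c2e15098440e0501, 0, 32, 0x0, []⟩]

theorem t9_708_35 : jobs 8 S9 b8_708 j9_708_35 = true := by decide +kernel

noncomputable def j9_708_36 : List Job := [
  ⟨27, 0x520924a259309a4e27d008242219108a4623c2e15098440e0501, 0, 32, 0x0, []⟩]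

theorem t9_708_36 : jobs 8 S9 b8_708 j9_708_36 = true := by decide +kernel

noncomputable def j9_708_37 : List Job := [
  ⟨26, 0x621128a45a311a8e47e01028241a110a8643d20924a259309a4e27d008242219108a4623c2e15098440e0501, 0, 32, 0x0, []⟩]

theorem t9_708_37 : jobs 8 S9 b8_708 j9_708_37 = true := by decide +kernel

noncomputable def j9_708_38 : List Job := [
  ⟨25, 0x42e15098440e0501, 0, 16, 0x0, []⟩]

theorem t9_708_38 : jobs 8 S9 b8_708 j9_708_38 = true := by decide +kernel

noncomputable def j9_708_39 : List Job := [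
  ⟨24, 0x520924a259309a4e27d008242219108a4623c2e15098440e0501, 0, 24, 0x0, []⟩]

theorem t9_708_39 : jobs 8 S9 b8_708 j9_708_39 = true := by decide +kernel

noncomputable def j9_708_40 : List Job := [
  ⟨23, 0x621128a45a311a8e47e01028241a110a8643d20924a259309a4e27d008242219108a4623c2e15098440e0501, 0, 16, 0x0, []⟩]

theorem t9_708_40 : jobs 8 S9 b8_708 j9_708_40 = true := by decide +kernel

noncomputable def j9_708_41 : List Job := [
  ⟨22, 0x42e15098440e0501, 0, 16, 0x0, []⟩]

theorem t9_708_41 : jobs 8 S9 b8_708 j9_708_41 = true := by decide +kernel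

noncomputable def j9_708_42 : List Job := [
  ⟨21, 0x520924a259309a4e27d008242219108a4623c2e15098440e0501, 0, 24, 0x0, []⟩]

theorem t9_708_42 : jobs 8 S9 b8_708 j9_708_42 = true := by decide +kernel

noncomputable def j9_708_43 : List Job := [
  ⟨20, 0x621128a45a311a8e47e01028241a110a8643d20924a259309a4e27d008242219108a4623c2e15098440e0501, 0, 38, 0x0, []⟩]

theorem t9_708_43 : jobs 8 S9 b8_708 j9_708_43 = true := by decide +kernel

noncomputable def j9_708_44 : List Job := [
  ⟨19, 0x4c06232198e0723a1dc804222118a0522a15c381f09844180f01, 0, 64, 0x0, []⟩]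

theorem t9_708_44 : jobs 8 S9 b8_708 j9_708_44 = true := by decide +kernel

noncomputable def j9_708_45 : List Job := [
  ⟨18, 0x64926964ba61329c4ee4122944aa69369e4fd20924a259309a4e27d008242219108a4623cc06232198e0723a1dc804222118a0522a15c381f09844180f01, 0, 64, 0x0, []⟩]

theorem t9_708_45 : jobs 8 S9 b8_708 j9_708_45 = true := by decide +kernel

noncomputable def j9_708_46 : List Job := [
  ⟨17, 0x520924a259309a4e27d008242219108a4623cc06232198e0723a1dc804222118a0522a15c381f09844180f01, 0, 104, 0x0, []⟩]

theorem t9_708_46 : jobs 8 S9 b8_708 j9_708_46 = true := by decide +kernel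

noncomputable def j9_708_47 : List Job := [
  ⟨16, 0x4c06232198e0723a1dc804222118a0522a15c381f09844180f01, 0, 64, 0x0, []⟩]

theorem t9_708_47 : jobs 8 S9 b8_708 j9_708_47 = true := by decide +kernel

noncomputable def j9_708_48 : List Job := [
  ⟨15, 0x520924a259309a4e27d008242219108a4623cc06232198e0723a1dc804222118a0522a15c381f09844180f01, 0, 104, 0x0, []⟩]

theorem t9_708_48 : jobs 8 S9 b8_708 j9_708_48 = true := by decide +kernel

noncomputable def j9_708_49 : List Job := [
  ⟨14, 0x64926964ba61329c4ee4122944aa69369e4fd20924a259309a4e27d008242219108a4623cc06232198e0723a1dc804222118a0522a15c381f09844180f01, 0, 64, 0x0, []⟩]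

theorem t9_708_49 : jobs 8 S9 b8_708 j9_708_49 = true := by decide +kernel

noncomputable def j9_708_50 : List Job := [
  ⟨13, 0x4904a26138b05a2e17c804222118a0522a15c361909844160901, 0, 27, 0x2a01002c01002e01003001003201003401003601, []⟩]

theorem t9_708_50 : jobs 8 S9 b8_708 j9_708_50 = true := by decide +kernel

noncomputable def j9_708_51 : List Job := [
  ⟨12, 0x64926964ba61329c4ee4122944aa69369e4fd20924a259309a4e27d008242219108a4623c904a26138b05a2e17c804222118a0522a15c361909844160901, 0, 27, 0x3001003201003401003601, []⟩]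

theorem t9_708_51 : jobs 8 S9 b8_708 j9_708_51 = true := by decide +kernel

noncomputable def j9_708_52 : List Job := [
  ⟨11, 0x520924a259309a4e27d008242219108a4623c904a26138b05a2e17c804222118a0522a15c361909844160901, 0, 44, 0x4a01004c01004e01005001005201005401005601005801, []⟩]

theorem t9_708_52 : jobs 8 S9 b8_708 j9_708_52 = true := by decide +kernel

noncomputable def j9_708_53 : List Job := [
  ⟨10, 0x4904a26138b05a2e17c804222118a0522a15c361909844160901, 0, 27, 0x2a01002c01002e01, []⟩]

theorem t9_708_53 : jobs 8 S9 b8_708 j9_708_53 = true := by decide +kernel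

noncomputable def j9_708_54 : List Job := [
  ⟨9, 0x520924a259309a4e27d008242219108a4623c904a26138b05a2e17c804222118a0522a15c361909844160901, 0, 44, 0x0, []⟩]

theorem t9_708_54 : jobs 8 S9 b8_708 j9_708_54 = true := by decide +kernel

noncomputable def j9_708_55 : List Job := [
  ⟨8, 0x64926964ba61329c4ee4122944aa69369e4fd20924a259309a4e27d008242219108a4623c904a26138b05a2e17c804222118a0522a15c361909844160901, 0, 27, 0x0, []⟩]

theorem t9_708_55 : jobs 8 S9 b8_708 j9_708_55 = true := by decide +kernel

noncomputable def j9_708_56 : List Job := [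
  ⟨7, 0x4361909844160901, 0, 23, 0x2201002401002601, []⟩]

theorem t9_708_56 : jobs 8 S9 b8_708 j9_708_56 = true := by decide +kernel

noncomputable def j9_708_57 : List Job := [
  ⟨6, 0x64926964ba61329c4ee4122944aa69369e4fd20924a259309a4e27d008242219108a4623c361909844160901, 0, 23, 0x0, []⟩]

theorem t9_708_57 : jobs 8 S9 b8_708 j9_708_57 = true := by decide +kernel

noncomputable def j9_708_58 : List Job := [
  ⟨5, 0x520924a259309a4e27d008242219108a4623c361909844160901, 0, 34, 0x0, []⟩]

theorem t9_708_58 : jobs 8 S9 b8_708 j9_708_58 = true := by decide +kernel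

noncomputable def j9_708_59 : List Job := [
  ⟨4, 0x4d06a361b8f07a3e1fcc06232198e0723a1dc904a26138b05a2e17c804222118a0522a15c361909844160901, 0, 25, 0x2201002401002601, []⟩]

theorem t9_708_59 : jobs 8 S9 b8_708 j9_708_59 = true := by decide +kernel

noncomputable def j9_708_60 : List Job := [
  ⟨3, 0x64926964ba61329c4ee4122944aa69369e4fd20924a259309a4e27d008242219108a4623cd06a361b8f07a3e1fcc06232198e0723a1dc904a26138b05a2e17c804222118a0522a15c361909844160901, 0, 29, 0x3600003800003a00, [(28, ⟨2179, 0x40001460007c0045000828000200212004040000001, 0x180260d032030481002⟩), (27, ⟨2178, 0x4780040002620005400828000200212004040000001, 0x18e200ec30030481002⟩), (26, ⟨2177, 0x4780140002620005400828000200212000040000001, 0x18e200ec30030481002⟩)]⟩]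

theorem t9_708_60 : jobs 8 S9 b8_708 j9_708_60 = true := by decide +kernel

noncomputable def j9_708_61 : List Job := [
  ⟨2, 0x520924a259309a4e27d008242219108a4623cd06a361b8f07a3e1fcc06232198e0723a1dc904a26138b05a2e17c804222118a0522a15c361909844160901, 0, 34, 0x0, []⟩]

theorem t9_708_61 : jobs 8 S9 b8_708 j9_708_61 = true := by decide +kernel

noncomputable def j9_708_62 : List Job := [
  ⟨1, 0x4361909844160901, 0, 23, 0x2201002401002601002801002a01002c01002e01, []⟩]

theorem t9_708_62 : jobs 8 S9 b8_708 j9_708_62 = true := by decide +kernel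

noncomputable def j9_708_63 : List Job := [
  ⟨0, 0x520924a259309a4e27d008242219108a4623c361909844160901, 0, 34, 0x3a01003c01003e01004001004201004401, []⟩]

theorem t9_708_63 : jobs 8 S9 b8_708 j9_708_63 = true := by decide +kernel

theorem d9_708 : Dn 8 S9 b8_708 := dn_of (Js := j9_708_0 ++ (j9_708_1 ++ (j9_708_2 ++ (j9_708_3 ++ (j9_708_4 ++ (j9_708_5 ++ (j9_708_6 ++ (j9_708_7 ++ (j9_708_8 ++ (j9_708_9 ++ (j9_708_10 ++ (j9_708_11 ++ (j9_708_12 ++ (j9_708_13 ++ (j9_708_14 ++ (j9_708_15 ++ (j9_708_16 ++ (j9_708_17 ++ (j9_708_18 ++ (j9_708_19 ++ (j9_708_20 ++ (j9_708_21 ++ (j9_708_22 ++ (j9_708_23 ++ (j9_708_24 ++ (j9_708_25 ++ (j9_708_26 ++ (j9_708_27 ++ (j9_708_28 ++ (j9_708_29 ++ (j9_708_30 ++ (j9_708_31 ++ (j9_708_32 ++ (j9_708_33 ++ (j9_708_34 ++ (j9_708_35 ++ (j9_708_36 ++ (j9_708_37 ++ (j9_708_38 ++ (j9_708_39 ++ (j9_708_40 ++ (j9_708_41 ++ (j9_708_42 ++ (j9_708_43 ++ (j9_708_44 ++ (j9_708_45 ++ (j9_708_46 ++ (j9_708_47 ++ (j9_708_48 ++ (j9_708_49 ++ (j9_708_50 ++ (j9_708_51 ++ (j9_708_52 ++ (j9_708_53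 ++ (j9_708_54 ++ (j9_708_55 ++ (j9_708_56 ++ (j9_708_57 ++ (j9_708_58 ++ (j9_708_59 ++ (j9_708_60 ++ (j9_708_61 ++ (j9_708_62 ++ (j9_708_63 ++ []))))))))))))))))))))))))))))))))))))))))))))))))))))))))))))))))
  (jobs_append t9_708_0 <| jobs_append t9_708_1 <| jobs_append t9_708_2 <| jobs_append t9_708_3 <| jobs_append t9_708_4 <| jobs_append t9_708_5 <| jobs_append t9_708_6 <| jobs_append t9_708_7 <| jobs_append t9_708_8 <| jobs_append t9_708_9 <| jobs_append t9_708_10 <| jobs_append t9_708_11 <| jobs_append t9_708_12 <| jobs_append t9_708_13 <| jobs_append t9_708_14 <| jobs_append t9_708_15 <| jobs_append t9_708_16 <| jobs_append t9_708_17 <| jobs_append t9_708_18 <| jobs_append t9_708_19 <| jobs_append t9_708_20 <| jobs_append t9_708_21 <| jobs_append t9_708_22 <| jobs_append t9_708_23 <| jobs_append t9_708_24 <| jobs_append t9_708_25 <| jobs_append t9_708_26 <| jobs_append t9_708_27 <| jobs_append t9_708_28 <| jobs_append t9_708_29 <| jobs_append t9_708_30 <| jobs_append t9_708_31 <| jobs_append t9_708_32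 <| jobs_append t9_708_33 <| jobs_append t9_708_34 <| jobs_append t9_708_35 <| jobs_append t9_708_36 <| jobs_append t9_708_37 <| jobs_append t9_708_38 <| jobs_append t9_708_39 <| jobs_append t9_708_40 <| jobs_append t9_708_41 <| jobs_append t9_708_42 <| jobs_append t9_708_43 <| jobs_append t9_708_44 <| jobs_append t9_708_45 <| jobs_append t9_708_46 <| jobs_append t9_708_47 <| jobs_append t9_708_48 <| jobs_append t9_708_49 <| jobs_append t9_708_50 <| jobs_append t9_708_51 <| jobs_append t9_708_52 <| jobs_append t9_708_53 <| jobs_append t9_708_54 <| jobs_append t9_708_55 <| jobs_append t9_708_56 <| jobs_append t9_708_57 <| jobs_append t9_708_58 <| jobs_append t9_708_59 <| jobs_append t9_708_60 <| jobs_append t9_708_61 <| jobs_append t9_708_62 <| jobs_append t9_708_63 <| List.forall_mem_nil _) (by decide +kernel)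

noncomputable def j9_709_0 : List Job := [
  ⟨63, 0x601028241a110a8643a21128a45a311a8e47c361909844160901, 0, 72, 0x0, []⟩]

theorem t9_709_0 : jobs 8 S9 b8_709 j9_709_0 = true := by decide +kernel

noncomputable def j9_709_1 : List Job := [
  ⟨62, 0x601028241a110a8643a21128a45a311a8e47d20924a259309a4e27d008242219108a4623c361909844160901, 0, 72, 0x0, []⟩]

theorem t9_709_1 : jobs 8 S9 b8_709 j9_709_1 = true := by decide +kernel

noncomputable def j9_709_2 : List Job := [
  ⟨61, 0x601028241a110a8643a21128a45a311a8e47cd06a361b8f07a3e1fcc06232198e0723a1dc904a26138b05a2e17c804222118a0522a15c361909844160901, 0, 72, 0x0, []⟩]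

theorem t9_709_2 : jobs 8 S9 b8_709 j9_709_2 = true := by decide +kernel

noncomputable def j9_709_3 : List Job := [
  ⟨60, 0x601028241a110a8643a21128a45a311a8e47d20924a259309a4e27d008242219108a4623cd06a361b8f07a3e1fcc06232198e0723a1dc904a26138b05a2e17c804222118a0522a15c361909844160901, 0, 72, 0x0, []⟩]

theorem t9_709_3 : jobs 8 S9 b8_709 j9_709_3 = true := by decide +kernel

noncomputable def j9_709_4 : List Job := [
  ⟨59, 0x4361909844160901, 0, 46, 0x0, []⟩]

theorem t9_709_4 : jobs 8 S9 b8_709 j9_709_4 = true := by decide +kernel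

noncomputable def j9_709_5 : List Job := [
  ⟨58, 0x641229249a512a964ba61329a4da713a9e4fe01028241a110a8643a21128a45a311a8e47c361909844160901, 0, 46, 0x0, []⟩]

theorem t9_709_5 : jobs 8 S9 b8_709 j9_709_5 = true := by decide +kernel

noncomputable def j9_709_6 : List Job := [
  ⟨57, 0x520924a259309a4e27d008242219108a4623c361909844160901, 0, 46, 0x0, []⟩]

theorem t9_709_6 : jobs 8 S9 b8_709 j9_709_6 = true := by decide +kernel

noncomputable def j9_709_7 : List Job := [
  ⟨56, 0x641229249a512a964ba61329a4da713a9e4fe01028241a110a8643a21128a45a311a8e47d20924a259309a4e27d008242219108a4623c361909844160901, 0, 46, 0x0, []⟩]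

theorem t9_709_7 : jobs 8 S9 b8_709 j9_709_7 = true := by decide +kernel

noncomputable def j9_709_8 : List Job := [
  ⟨55, 0x4d06a361b8f07a3e1fcc06232198e0723a1dc904a26138b05a2e17c804222118a0522a15c361909844160901, 0, 46, 0x0, []⟩]

theorem t9_709_8 : jobs 8 S9 b8_709 j9_709_8 = true := by decide +kernel

noncomputable def j9_709_9 : List Job := [
  ⟨54, 0x641229249a512a964ba61329a4da713a9e4fe01028241a110a8643a21128a45a311a8e47cd06a361b8f07a3e1fcc06232198e0723a1dc904a26138b05a2e17c804222118a0522a15c361909844160901, 0, 46, 0x0, []⟩]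

theorem t9_709_9 : jobs 8 S9 b8_709 j9_709_9 = true := by decide +kernel

noncomputable def j9_709_10 : List Job := [
  ⟨53, 0x520924a259309a4e27d008242219108a4623cd06a361b8f07a3e1fcc06232198e0723a1dc904a26138b05a2e17c804222118a0522a15c361909844160901, 0, 46, 0x0, []⟩]

theorem t9_709_10 : jobs 8 S9 b8_709 j9_709_10 = true := by decide +kernel

noncomputable def j9_709_11 : List Job := [
  ⟨52, 0x641229249a512a964ba61329a4da713a9e4fe01028241a110a8643a21128a45a311a8e47d20924a259309a4e27d008242219108a4623cd06a361b8f07a3e1fcc06232198e0723a1dc904a26138b05a2e17c804222118a0522a15c361909844160901, 0, 85, 0x8608008808008a08008c08008e08009408009608, []⟩]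

theorem t9_709_11 : jobs 8 S9 b8_709 j9_709_11 = true := by decide +kernel

noncomputable def j9_709_12 : List Job := [
  ⟨51, 0x601028241a110a8643a21128a45a311a8e47cc06232198e0723a1dc804222118a0522a15c2e15098440e0501, 0, 80, 0x0, []⟩]

theorem t9_709_12 : jobs 8 S9 b8_709 j9_709_12 = true := by decide +kernel

noncomputable def j9_709_13 : List Job := [
  ⟨50, 0x601028241a110a8643a21128a45a311a8e47d20924a259309a4e27d008242219108a4623cc06232198e0723a1dc804222118a0522a15c2e15098440e0501, 0, 80, 0x0, []⟩]

theorem t9_709_13 : jobs 8 S9 b8_709 j9_709_13 = true := by decide +kernel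

noncomputable def j9_709_14 : List Job := [
  ⟨49, 0x601028241a110a8643a21128a45a311a8e47cc464391d4c066381dc84462915c8044281542e15098440e0501, 0, 80, 0x8202008402008602008802008a02009002009202009402009602009802009a0200a002, []⟩]

theorem t9_709_14 : jobs 8 S9 b8_709 j9_709_14 = true := by decide +kernel

noncomputable def j9_709_15 : List Job := [
  ⟨48, 0x601028241a110a8643a21128a45a311a8e47d20924a259309a4e27d008242219108a4623cc464391d4c066381dc84462915c8044281542e15098440e0501, 0, 80, 0x8202008402008602008802008a02009002009202009402009602009802009a0200a002, []⟩]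

theorem t9_709_15 : jobs 8 S9 b8_709 j9_709_15 = true := by decide +kernel

noncomputable def j9_709_16 : List Job := [
  ⟨47, 0x4c06232198e0723a1dc84462915c8044281542e15098440e0501, 0, 80, 0x8202008402008602008802009202009402009602009802, []⟩]

theorem t9_709_16 : jobs 8 S9 b8_709 j9_709_16 = true := by decide +kernel

noncomputable def j9_709_17 : List Job := [
  ⟨46, 0x641229249a512a964ba61329a4da713a9e4fe01028241a110a8643a21128a45a311a8e47cc06232198e0723a1dc84462915c8044281542e15098440e0501, 0, 80, 0x8202008402008602008802009202009402009602009802, []⟩]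

theorem t9_709_17 : jobs 8 S9 b8_709 j9_709_17 = true := by decide +kernel

noncomputable def j9_709_18 : List Job := [
  ⟨45, 0x520924a259309a4e27d008242219108a4623cc06232198e0723a1dc84462915c8044281542e15098440e0501, 0, 80, 0x8202008402008602008802009202009402009602009802, []⟩]

theorem t9_709_18 : jobs 8 S9 b8_709 j9_709_18 = true := by decide +kernel

noncomputable def j9_709_19 : List Job := [
  ⟨44, 0x641229249a512a964ba61329a4da713a9e4fe01028241a110a8643a21128a45a311a8e47d20924a259309a4e27d008242219108a4623cc06232198e0723a1dc84462915c8044281542e15098440e0501, 0, 80, 0x8202008402008602008802009202009402009602009802, []⟩]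

theorem t9_709_19 : jobs 8 S9 b8_709 j9_709_19 = true := by decide +kernel

noncomputable def j9_709_20 : List Job := [
  ⟨43, 0x641229249a512a964ba61329a4da713a9e4fcc06232198e0723a1dc84462915c8044281542e15098440e0501, 0, 80, 0x8202008402008602008802009202009402009602009802, []⟩]

theorem t9_709_20 : jobs 8 S9 b8_709 j9_709_20 = true := by decide +kernel

noncomputable def j9_709_21 : List Job := [
  ⟨42, 0x601028241a110a8643a21128a45a311a8e47cc06232198e0723a1dc84462915c8044281542e15098440e0501, 0, 80, 0x8202008402008602008802009202009402009602009802, []⟩]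

theorem t9_709_21 : jobs 8 S9 b8_709 j9_709_21 = true := by decide +kernel

noncomputable def j9_709_22 : List Job := [
  ⟨41, 0x641229249a512a964ba61329a4da713a9e4fd20924a259309a4e27d008242219108a4623cc06232198e0723a1dc84462915c8044281542e15098440e0501, 0, 80, 0x8202008402008602008802009202009402009602009802, []⟩]

theorem t9_709_22 : jobs 8 S9 b8_709 j9_709_22 = true := by decide +kernel

noncomputable def j9_709_23 : List Job := [
  ⟨40, 0x601028241a110a8643a21128a45a311a8e47d20924a259309a4e27d008242219108a4623cc06232198e0723a1dc84462915c8044281542e15098440e0501, 0, 80, 0x8202008402008602008802009202009402009602009802, []⟩]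

theorem t9_709_23 : jobs 8 S9 b8_709 j9_709_23 = true := by decide +kernel

noncomputable def j9_709_24 : List Job := [
  ⟨39, 0x4c06232198e0723a1dc804222118a0522a15c2e15098440e0501, 0, 50, 0x0, []⟩]

theorem t9_709_24 : jobs 8 S9 b8_709 j9_709_24 = true := by decide +kernel

noncomputable def j9_709_25 : List Job := [
  ⟨38, 0x641229249a512a964ba61329a4da713a9e4fe01028241a110a8643a21128a45a311a8e47cc06232198e0723a1dc804222118a0522a15c2e15098440e0501, 0, 50, 0x0, []⟩]

theorem t9_709_25 : jobs 8 S9 b8_709 j9_709_25 = true := by decide +kernel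

noncomputable def j9_709_26 : List Job := [
  ⟨37, 0x520924a259309a4e27d008242219108a4623cc06232198e0723a1dc804222118a0522a15c2e15098440e0501, 0, 50, 0x0, []⟩]

theorem t9_709_26 : jobs 8 S9 b8_709 j9_709_26 = true := by decide +kernel

noncomputable def j9_709_27 : List Job := [
  ⟨36, 0x641229249a512a964ba61329a4da713a9e4fe01028241a110a8643a21128a45a311a8e47d20924a259309a4e27d008242219108a4623cc06232198e0723a1dc804222118a0522a15c2e15098440e0501, 0, 50, 0x0, []⟩]

theorem t9_709_27 : jobs 8 S9 b8_709 j9_709_27 = true := by decide +kernel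

noncomputable def j9_709_28 : List Job := [
  ⟨35, 0x4c466391dcc064381d484462915c8044281542e15098440e0501, 0, 50, 0x5202005402005602005802005a02006002006202, []⟩]

theorem t9_709_28 : jobs 8 S9 b8_709 j9_709_28 = true := by decide +kernel

noncomputable def j9_709_29 : List Job := [
  ⟨34, 0x641229249a512a964ba61329a4da713a9e4fe01028241a110a8643a21128a45a311a8e47cc466391dcc064381d484462915c8044281542e15098440e0501, 0, 50, 0x5202005402005602005802005a02006002006202, []⟩]

theorem t9_709_29 : jobs 8 S9 b8_709 j9_709_29 = true := by decide +kernel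

noncomputable def j9_709_30 : List Job := [
  ⟨33, 0x520924a259309a4e27d008242219108a4623cc466391dcc064381d484462915c8044281542e15098440e0501, 0, 50, 0x5202005402005602005802005a02006002006202, []⟩]

theorem t9_709_30 : jobs 8 S9 b8_709 j9_709_30 = true := by decide +kernel

noncomputable def j9_709_31 : List Job := [
  ⟨32, 0x641229249a512a964ba61329a4da713a9e4fe01028241a110a8643a21128a45a311a8e47d20924a259309a4e27d008242219108a4623cc466391dcc064381d484462915c8044281542e15098440e0501, 0, 85, 0x5202005402005602005802005a0200600200620200900100940100a801, []⟩]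

theorem t9_709_31 : jobs 8 S9 b8_709 j9_709_31 = true := by decide +kernel

noncomputable def j9_709_32 : List Job := [
  ⟨31, 0x4381f09844180f01, 0, 44, 0x0, []⟩]

theorem t9_709_32 : jobs 8 S9 b8_709 j9_709_32 = true := by decide +kernel

noncomputable def j9_709_33 : List Job := [
  ⟨30, 0x64926964ba61329c4ee4122944aa69369e4fd20924a259309a4e27d008242219108a4623c381f09844180f01, 0, 44, 0x0, []⟩]

theorem t9_709_33 : jobs 8 S9 b8_709 j9_709_33 = true := by decide +kernel

noncomputable def j9_709_34 : List Job := [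
  ⟨29, 0x520924a259309a4e27d008242219108a4623c381f09844180f01, 0, 80, 0x0, []⟩]

theorem t9_709_34 : jobs 8 S9 b8_709 j9_709_34 = true := by decide +kernel

noncomputable def j9_709_35 : List Job := [
  ⟨28, 0x4381f09844180f01, 0, 52, 0x0, []⟩]

theorem t9_709_35 : jobs 8 S9 b8_709 j9_709_35 = true := by decide +kernel

noncomputable def j9_709_36 : List Job := [
  ⟨27, 0x520924a259309a4e27d008242219108a4623c381f09844180f01, 0, 80, 0x0, []⟩]

theorem t9_709_36 : jobs 8 S9 b8_709 j9_709_36 = true := by decide +kernel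

noncomputable def j9_709_37 : List Job := [
  ⟨26, 0x64926964ba61329c4ee4122944aa69369e4fd20924a259309a4e27d008242219108a4623c381f09844180f01, 0, 52, 0x0, []⟩]

theorem t9_709_37 : jobs 8 S9 b8_709 j9_709_37 = true := by decide +kernel

noncomputable def j9_709_38 : List Job := [
  ⟨25, 0x4361909844160901, 0, 20, 0x0, []⟩]

theorem t9_709_38 : jobs 8 S9 b8_709 j9_709_38 = true := by decide +kernel

noncomputable def j9_709_39 : List Job := [
  ⟨24, 0x64926964ba61329c4ee4122944aa69369e4fd20924a259309a4e27d008242219108a4623c361909844160901, 0, 20, 0x0, []⟩]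

theorem t9_709_39 : jobs 8 S9 b8_709 j9_709_39 = true := by decide +kernel

noncomputable def j9_709_40 : List Job := [
  ⟨23, 0x520924a259309a4e27d008242219108a4623c361909844160901, 0, 32, 0x0, []⟩]

theorem t9_709_40 : jobs 8 S9 b8_709 j9_709_40 = true := by decide +kernel

noncomputable def j9_709_41 : List Job := [
  ⟨22, 0x4361909844160901, 0, 20, 0x0, []⟩]

theorem t9_709_41 : jobs 8 S9 b8_709 j9_709_41 = true := by decide +kernel

noncomputable def j9_709_42 : List Job := [
  ⟨21, 0x520924a259309a4e27d008242219108a4623c361909844160901, 0, 32, 0x0, []⟩]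

theorem t9_709_42 : jobs 8 S9 b8_709 j9_709_42 = true := by decide +kernel

noncomputable def j9_709_43 : List Job := [
  ⟨20, 0x64926964ba61329c4ee4122944aa69369e4fd20924a259309a4e27d008242219108a4623c361909844160901, 0, 20, 0x0, []⟩]

theorem t9_709_43 : jobs 8 S9 b8_709 j9_709_43 = true := by decide +kernel

noncomputable def j9_709_44 : List Job := [
  ⟨19, 0x64926964ba61329c4ee4122944aa69369e4fc361909844160901, 0, 24, 0x0, []⟩]

theorem t9_709_44 : jobs 8 S9 b8_709 j9_709_44 = true := by decide +kernel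

noncomputable def j9_709_45 : List Job := [
  ⟨18, 0x4361909844160901, 0, 24, 0x0, []⟩]

theorem t9_709_45 : jobs 8 S9 b8_709 j9_709_45 = true := by decide +kernel

noncomputable def j9_709_46 : List Job := [
  ⟨17, 0x64926964ba61329c4ee4122944aa69369e4fd20924a259309a4e27d008242219108a4623c361909844160901, 0, 24, 0x0, []⟩]

theorem t9_709_46 : jobs 8 S9 b8_709 j9_709_46 = true := by decide +kernel

noncomputable def j9_709_47 : List Job := [
  ⟨16, 0x520924a259309a4e27d008242219108a4623c361909844160901, 0, 24, 0x0, []⟩]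

theorem t9_709_47 : jobs 8 S9 b8_709 j9_709_47 = true := by decide +kernel

noncomputable def j9_709_48 : List Job := [
  ⟨15, 0x4361909844160901, 0, 16, 0x0, []⟩]

theorem t9_709_48 : jobs 8 S9 b8_709 j9_709_48 = true := by decide +kernel

noncomputable def j9_709_49 : List Job := [
  ⟨14, 0x520924a259309a4e27d008242219108a4623c361909844160901, 0, 24, 0x0, []⟩]

theorem t9_709_49 : jobs 8 S9 b8_709 j9_709_49 = true := by decide +kernel

noncomputable def j9_709_50 : List Job := [
  ⟨13, 0x64926964ba61329c4ee4122944aa69369e4fd20924a259309a4e27d008242219108a4623c361909844160901, 0, 22, 0x2201002401002601002801002a01002c01, []⟩]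

theorem t9_709_50 : jobs 8 S9 b8_709 j9_709_50 = true := by decide +kernel

noncomputable def j9_709_51 : List Job := [
  ⟨12, 0x4361909844160901, 0, 16, 0x0, []⟩]

theorem t9_709_51 : jobs 8 S9 b8_709 j9_709_51 = true := by decide +kernel

noncomputable def j9_709_52 : List Job := [
  ⟨11, 0x520924a259309a4e27d008242219108a4623c361909844160901, 0, 24, 0x0, []⟩]

theorem t9_709_52 : jobs 8 S9 b8_709 j9_709_52 = true := by decide +kernel

noncomputable def j9_709_53 : List Job := [
  ⟨10, 0x64926964ba61329c4ee4122944aa69369e4fd20924a259309a4e27d008242219108a4623c361909844160901, 0, 38, 0x4201004601, []⟩]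

theorem t9_709_53 : jobs 8 S9 b8_709 j9_709_53 = true := by decide +kernel

noncomputable def j9_709_54 : List Job := [
  ⟨9, 0x42e15098440e0501, 0, 16, 0x0, []⟩]

theorem t9_709_54 : jobs 8 S9 b8_709 j9_709_54 = true := by decide +kernel

noncomputable def j9_709_55 : List Job := [
  ⟨8, 0x64926964ba61329c4ee4122944aa69369e4fd20924a259309a4e27d008242219108a4623c2e15098440e0501, 0, 16, 0x0, []⟩]

theorem t9_709_55 : jobs 8 S9 b8_709 j9_709_55 = true := by decide +kernel

noncomputable def j9_709_56 : List Job := [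
  ⟨7, 0x520924a259309a4e27d008242219108a4623c2e15098440e0501, 0, 24, 0x0, []⟩]

theorem t9_709_56 : jobs 8 S9 b8_709 j9_709_56 = true := by decide +kernel

noncomputable def j9_709_57 : List Job := [
  ⟨6, 0x42e15098440e0501, 0, 16, 0x0, []⟩]

theorem t9_709_57 : jobs 8 S9 b8_709 j9_709_57 = true := by decide +kernel

noncomputable def j9_709_58 : List Job := [
  ⟨5, 0x64926964ba61329c4ee4122944aa69369e4fd20924a259309a4e27d008242219108a4623c2e15098440e0501, 0, 18, 0x0, []⟩]

theorem t9_709_58 : jobs 8 S9 b8_709 j9_709_58 = true := by decide +kernel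

noncomputable def j9_709_59 : List Job := [
  ⟨4, 0x520924a259309a4e27d008242219108a4623c2e15098440e0501, 0, 24, 0x0, []⟩]

theorem t9_709_59 : jobs 8 S9 b8_709 j9_709_59 = true := by decide +kernel

noncomputable def j9_709_60 : List Job := [
  ⟨3, 0x64926964ba61329c4ee4122944aa69369e4fc2e15098440e0501, 0, 32, 0x0, []⟩]

theorem t9_709_60 : jobs 8 S9 b8_709 j9_709_60 = true := by decide +kernel

noncomputable def j9_709_61 : List Job := [
  ⟨2, 0x42e15098440e0501, 0, 32, 0x0, []⟩]

theorem t9_709_61 : jobs 8 S9 b8_709 j9_709_61 = true := by decide +kernel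

noncomputable def j9_709_62 : List Job := [
  ⟨1, 0x64926964ba61329c4ee4122944aa69369e4fd20924a259309a4e27d008242219108a4623c2e15098440e0501, 0, 32, 0x0, []⟩]

theorem t9_709_62 : jobs 8 S9 b8_709 j9_709_62 = true := by decide +kernel

noncomputable def j9_709_63 : List Job := [
  ⟨0, 0x520924a259309a4e27d008242219108a4623c2e15098440e0501, 0, 32, 0x0, []⟩]

theorem t9_709_63 : jobs 8 S9 b8_709 j9_709_63 = true := by decide +kernel

theorem d9_709 : Dn 8 S9 b8_709 := dn_of (Js := j9_709_0 ++ (j9_709_1 ++ (j9_709_2 ++ (j9_709_3 ++ (j9_709_4 ++ (j9_709_5 ++ (j9_709_6 ++ (j9_709_7 ++ (j9_709_8 ++ (j9_709_9 ++ (j9_709_10 ++ (j9_709_11 ++ (j9_709_12 ++ (j9_709_13 ++ (j9_709_14 ++ (j9_709_15 ++ (j9_709_16 ++ (j9_709_17 ++ (j9_709_18 ++ (j9_709_19 ++ (j9_709_20 ++ (j9_709_21 ++ (j9_709_22 ++ (j9_709_23 ++ (j9_709_24 ++ (j9_709_25 ++ (j9_709_26 ++ (j9_709_27 ++ (j9_709_28 ++ (j9_709_29 ++ (j9_709_30 ++ (j9_709_31 ++ (j9_709_32 ++ (j9_709_33 ++ (j9_709_34 ++ (j9_709_35 ++ (j9_709_36 ++ (j9_709_37 ++ (j9_709_38 ++ (j9_709_39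 ++ (j9_709_40 ++ (j9_709_41 ++ (j9_709_42 ++ (j9_709_43 ++ (j9_709_44 ++ (j9_709_45 ++ (j9_709_46 ++ (j9_709_47 ++ (j9_709_48 ++ (j9_709_49 ++ (j9_709_50 ++ (j9_709_51 ++ (j9_709_52 ++ (j9_709_53 ++ (j9_709_54 ++ (j9_709_55 ++ (j9_709_56 ++ (j9_709_57 ++ (j9_709_58 ++ (j9_709_59 ++ (j9_709_60 ++ (j9_709_61 ++ (j9_709_62 ++ (j9_709_63 ++ []))))))))))))))))))))))))))))))))))))))))))))))))))))))))))))))))
  (jobs_append t9_709_0 <| jobs_append t9_709_1 <| jobs_append t9_709_2 <| jobs_append t9_709_3 <| jobs_append t9_709_4 <| jobs_append t9_709_5 <| jobs_append t9_709_6 <| jobs_append t9_709_7 <| jobs_append t9_709_8 <| jobs_append t9_709_9 <| jobs_append t9_709_10 <| jobs_append t9_709_11 <| jobs_append t9_709_12 <| jobs_append t9_709_13 <| jobs_append t9_709_14 <| jobs_append t9_709_15 <| jobs_append t9_709_16 <| jobs_append t9_709_17 <| jobs_append t9_709_18 <| jobs_append t9_709_19 <| jobs_append t9_709_20 <| jobs_append t9_709_21 <| jobs_append t9_709_22 <| jobs_append t9_709_23 <| jobs_append t9_709_24 <|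 jobs_append t9_709_25 <| jobs_append t9_709_26 <| jobs_append t9_709_27 <| jobs_append t9_709_28 <| jobs_append t9_709_29 <| jobs_append t9_709_30 <| jobs_append t9_709_31 <| jobs_append t9_709_32 <| jobs_append t9_709_33 <| jobs_append t9_709_34 <| jobs_append t9_709_35 <| jobs_append t9_709_36 <| jobs_append t9_709_37 <| jobs_append t9_709_38 <| jobs_append t9_709_39 <| jobs_append t9_709_40 <| jobs_append t9_709_41 <| jobs_append t9_709_42 <| jobs_append t9_709_43 <| jobs_append t9_709_44 <| jobs_append t9_709_45 <| jobs_append t9_709_46 <| jobs_append t9_709_47 <| jobs_append t9_709_48 <| jobs_append t9_709_49 <| jobs_append t9_709_50 <| jobs_append t9_709_51 <| jobs_append t9_709_52 <| jobs_append t9_709_53 <| jobs_append t9_709_54 <| jobs_append t9_709_55 <| jobs_append t9_709_56 <| jobs_append t9_709_57 <| jobs_append t9_709_58 <| jobs_append t9_709_59 <| jobs_append t9_709_60 <| jobs_append t9_709_61 <| jobs_append t9_709_62 <| jobs_append t9_709_63 <| List.forall_mem_nil _) (by decide +kernel)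

noncomputable def j9_710_0 : List Job := [
  ⟨63, 0x4c06232198e0723a1dc84462915c8044281542e15098440e0501, 0, 32, 0x0, []⟩]

theorem t9_710_0 : jobs 8 S9 b8_710 j9_710_0 = true := by decide +kernel

noncomputable def j9_710_1 : List Job := [
  ⟨62, 0x520924a259309a4e27d008242219108a4623cc06232198e0723a1dc84462815480442915c2e15098440e0501, 0, 32, 0x0, []⟩]

theorem t9_710_1 : jobs 8 S9 b8_710 j9_710_1 = true := by decide +kernel

noncomputable def j9_710_2 : List Job := [
  ⟨61, 0x520924a259309a4e27d008242219108a4623cc06232198e0723a1dc84462915c8044281542e15098440e0501, 0, 32, 0x0, []⟩]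

theorem t9_710_2 : jobs 8 S9 b8_710 j9_710_2 = true := by decide +kernel

noncomputable def j9_710_3 : List Job := [
  ⟨60, 0x4c06232198e0723a1dc804222118a0522a15c2e15098440e0501, 0, 20, 0x0, []⟩]

theorem t9_710_3 : jobs 8 S9 b8_710 j9_710_3 = true := by decide +kernel

noncomputable def j9_710_4 : List Job := [
  ⟨59, 0x4c06232198e0723a1dc804222118a0522a15c2e15098440e0501, 0, 20, 0x0, []⟩]

theorem t9_710_4 : jobs 8 S9 b8_710 j9_710_4 = true := by decide +kernel

noncomputable def j9_710_5 : List Job := [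
  ⟨58, 0x520924a259309a4e27d008242219108a4623cc06232198e0723a1dc804222118a0522a15c2e15098440e0501, 0, 20, 0x0, []⟩]

theorem t9_710_5 : jobs 8 S9 b8_710 j9_710_5 = true := by decide +kernel

noncomputable def j9_710_6 : List Job := [
  ⟨57, 0x520924a259309a4e27d008242219108a4623cc06232198e0723a1dc804222118a0522a15c2e15098440e0501, 0, 20, 0x0, []⟩]

theorem t9_710_6 : jobs 8 S9 b8_710 j9_710_6 = true := by decide +kernel

noncomputable def j9_710_7 : List Job := [
  ⟨56, 0x4c466381d4c064391dc84462815480442915c2e15098440e0501, 0, 20, 0x0, []⟩]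

theorem t9_710_7 : jobs 8 S9 b8_710 j9_710_7 = true := by decide +kernel

noncomputable def j9_710_8 : List Job := [
  ⟨55, 0x4c466391dcc064381d484462915c8044281542e15098440e0501, 0, 20, 0x0, []⟩]

theorem t9_710_8 : jobs 8 S9 b8_710 j9_710_8 = true := by decide +kernel

noncomputable def j9_710_9 : List Job := [
  ⟨54, 0x520924a259309a4e27d008242219108a4623cc466381d4c064391dc84462815480442915c2e15098440e0501, 0, 24, 0x0, []⟩]

theorem t9_710_9 : jobs 8 S9 b8_710 j9_710_9 = true := by decide +kernel

noncomputable def j9_710_10 : List Job := [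
  ⟨53, 0x520924a259309a4e27d008242219108a4623cc466391dcc064381d484462915c8044281542e15098440e0501, 0, 46, 0x0, []⟩]

theorem t9_710_10 : jobs 8 S9 b8_710 j9_710_10 = true := by decide +kernel

noncomputable def j9_710_11 : List Job := [
  ⟨52, 0x5008242219108a4623cd06a361b8f07a3e1fc804222118a0522a15c301b0a05c180f01, 0, 152, 0x5203005403005603005803005a03005c03005e03006003006e03007603007e03008603008803008a03008c03008e0300900300920300940300a20300aa0300b20300ba0300bc0300be0300c00300ce0300d00300d20300d403, []⟩]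

theorem t9_710_11 : jobs 8 S9 b8_710 j9_710_11 = true := by decide +kernel

noncomputable def j9_710_12 : List Job := [
  ⟨51, 0x641229249a512a964ba61329a4da713a9e4fe01028241a110a8643a21128a45a311a8e47d008242219108a4623cd06a361b8f07a3e1fc804222118a0522a15c301b0a05c180f01, 0, 152, 0x5203005403005603005803005a03005c03005e03006003006e03007603007e03008603008803008a03008c03008e0300900300920300940300a20300aa0300b20300ba0300bc0300be0300c00300ce0300d00300d20300d403, []⟩]

theorem t9_710_12 : jobs 8 S9 b8_710 j9_710_12 = true := by decide +kernel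

noncomputable def j9_710_13 : List Job := [
  ⟨50, 0x601028241a110a8643a21128a45a311a8e47d008242219108a4623cd06a361b8f07a3e1fc804222118a0522a15c301b0a05c180f01, 0, 256, 0x8203008403008603008803008a03008c03008e0300900300920300a00300a60300ac0300b80300ba0300c20300c40300c60300c80300ca0300cc0300ce0300d00300d20300e00300e60300ec0300f80300fa03010203010403010603010803010a03010c03010e03011003011203012003012603012c03013803013a03014203014403014603014803014a03014c03014e03015003015203016003016603016c03017803017a03, []⟩]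

theorem t9_710_13 : jobs 8 S9 b8_710 j9_710_13 = true := by decide +kernel

noncomputable def j9_710_14 : List Job := [
  ⟨49, 0x5008242219108a4623c381f0a05c160901, 0, 72, 0x0, []⟩]

theorem t9_710_14 : jobs 8 S9 b8_710 j9_710_14 = true := by decide +kernel

noncomputable def j9_710_15 : List Job := [
  ⟨48, 0x641229249a512a964ba61329a4da713a9e4fe01028241a110a8643a21128a45a311a8e47d008242219108a4623c381f0a05c160901, 0, 72, 0x0, []⟩]

theorem t9_710_15 : jobs 8 S9 b8_710 j9_710_15 = true := by decide +kernel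

noncomputable def j9_710_16 : List Job := [
  ⟨47, 0x5008242219108a4623cd06a361b8f07a3e1fcc06232198e0723a1dc904a26138b05a2e17c804222118a0522a15c381f0a05c160901, 0, 72, 0x0, []⟩]

theorem t9_710_16 : jobs 8 S9 b8_710 j9_710_16 = true := by decide +kernel

noncomputable def j9_710_17 : List Job := [
  ⟨46, 0x641229249a512a964ba61329a4da713a9e4fe01028241a110a8643a21128a45a311a8e47d008242219108a4623cd06a361b8f07a3e1fcc06232198e0723a1dc904a26138b05a2e17c804222118a0522a15c381f0a05c160901, 0, 72, 0x0, []⟩]

theorem t9_710_17 : jobs 8 S9 b8_710 j9_710_17 = true := by decide +kernel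

noncomputable def j9_710_18 : List Job := [
  ⟨45, 0x601028241a110a8643a21128a45a311a8e47d008242219108a4623c381f0a05c160901, 0, 112, 0x0, []⟩]

theorem t9_710_18 : jobs 8 S9 b8_710 j9_710_18 = true := by decide +kernel

noncomputable def j9_710_19 : List Job := [
  ⟨44, 0x601028241a110a8643a21128a45a311a8e47d008242219108a4623cd06a361b8f07a3e1fcc06232198e0723a1dc904a26138b05a2e17c804222118a0522a15c381f0a05c160901, 0, 112, 0x0, []⟩]

theorem t9_710_19 : jobs 8 S9 b8_710 j9_710_19 = true := by decide +kernel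

noncomputable def j9_710_20 : List Job := [
  ⟨43, 0x5008242219108a4623c904a26138b05a2e17c804222118a0522a15c381f0a05c160901, 0, 112, 0x0, []⟩]

theorem t9_710_20 : jobs 8 S9 b8_710 j9_710_20 = true := by decide +kernel

noncomputable def j9_710_21 : List Job := [
  ⟨42, 0x641229249a512a964ba61329a4da713a9e4fe01028241a110a8643a21128a45a311a8e47d008242219108a4623c904a26138b05a2e17c804222118a0522a15c381f0a05c160901, 0, 112, 0x0, []⟩]

theorem t9_710_21 : jobs 8 S9 b8_710 j9_710_21 = true := by decide +kernel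

noncomputable def j9_710_22 : List Job := [
  ⟨41, 0x641229249a512a964ba61329a4da713a9e4fd008242219108a4623c904a26138b05a2e17c804222118a0522a15c381f0a05c160901, 0, 112, 0x0, []⟩]

theorem t9_710_22 : jobs 8 S9 b8_710 j9_710_22 = true := by decide +kernel

noncomputable def j9_710_23 : List Job := [
  ⟨40, 0x601028241a110a8643a21128a45a311a8e47d008242219108a4623c904a26138b05a2e17c804222118a0522a15c381f0a05c160901, 0, 112, 0x0, []⟩]

theorem t9_710_23 : jobs 8 S9 b8_710 j9_710_23 = true := by decide +kernel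

noncomputable def j9_710_24 : List Job := [
  ⟨39, 0x5008242219108a4623cd06a361b8f07a3e1fc804222118a0522a15c381f0c06c0e0501, 0, 112, 0x0, []⟩]

theorem t9_710_24 : jobs 8 S9 b8_710 j9_710_24 = true := by decide +kernel

noncomputable def j9_710_25 : List Job := [
  ⟨38, 0x641229249a512a964ba61329a4da713a9e4fe01028241a110a8643a21128a45a311a8e47d008242219108a4623cd06a361b8f07a3e1fc804222118a0522a15c381f0c06c0e0501, 0, 112, 0x0, []⟩]

theorem t9_710_25 : jobs 8 S9 b8_710 j9_710_25 = true := by decide +kernel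

noncomputable def j9_710_26 : List Job := [
  ⟨37, 0x601028241a110a8643a21128a45a311a8e47d008242219108a4623cd06a361b8f07a3e1fc804222118a0522a15c381f0c06c0e0501, 0, 192, 0x0, []⟩]

theorem t9_710_26 : jobs 8 S9 b8_710 j9_710_26 = true := by decide +kernel

noncomputable def j9_710_27 : List Job := [
  ⟨36, 0x5008242219108a4623cd06a361b8f07a3e1fc804222118a0522a15c381f0c06c0e0501, 0, 112, 0x0, []⟩]

theorem t9_710_27 : jobs 8 S9 b8_710 j9_710_27 = true := by decide +kernel

noncomputable def j9_710_28 : List Job := [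
  ⟨35, 0x641229249a512a964ba61329a4da713a9e4fe01028241a110a8643a21128a45a311a8e47d008242219108a4623cd06a361b8f07a3e1fc804222118a0522a15c381f0c06c0e0501, 0, 112, 0x0, []⟩]

theorem t9_710_28 : jobs 8 S9 b8_710 j9_710_28 = true := by decide +kernel

noncomputable def j9_710_29 : List Job := [
  ⟨34, 0x601028241a110a8643a21128a45a311a8e47d008242219108a4623cd06a361b8f07a3e1fc804222118a0522a15c381f0c06c0e0501, 0, 192, 0x0, []⟩]

theorem t9_710_29 : jobs 8 S9 b8_710 j9_710_29 = true := by decide +kernel

noncomputable def j9_710_30 : List Job := [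
  ⟨33, 0x5008242219108a4623c1e0d058240e0501, 0, 46, 0x0, []⟩]

theorem t9_710_30 : jobs 8 S9 b8_710 j9_710_30 = true := by decide +kernel

noncomputable def j9_710_31 : List Job := [
  ⟨32, 0x641229249a512a964ba61329a4da713a9e4fe01028241a110a8643a21128a45a311a8e47d008242219108a4623c1e0d058240e0501, 0, 46, 0x0, []⟩]

theorem t9_710_31 : jobs 8 S9 b8_710 j9_710_31 = true := by decide +kernel

noncomputable def j9_710_32 : List Job := [
  ⟨31, 0x5008242219108a4623cd06a361b8f07a3e1fcc06232198e0723a1dc904a26138b05a2e17c804222118a0522a15c1e0d058240e0501, 0, 46, 0x0, []⟩]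

theorem t9_710_32 : jobs 8 S9 b8_710 j9_710_32 = true := by decide +kernel

noncomputable def j9_710_33 : List Job := [
  ⟨30, 0x641229249a512a964ba61329a4da713a9e4fe01028241a110a8643a21128a45a311a8e47d008242219108a4623cd06a361b8f07a3e1fcc06232198e0723a1dc904a26138b05a2e17c804222118a0522a15c1e0d058240e0501, 0, 46, 0x0, []⟩]

theorem t9_710_33 : jobs 8 S9 b8_710 j9_710_33 = true := by decide +kernel

noncomputable def j9_710_34 : List Job := [
  ⟨29, 0x601028241a110a8643a21128a45a311a8e47d008242219108a4623c1e0d058240e0501, 0, 72, 0x0, []⟩]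

theorem t9_710_34 : jobs 8 S9 b8_710 j9_710_34 = true := by decide +kernel

noncomputable def j9_710_35 : List Job := [
  ⟨28, 0x601028241a110a8643a21128a45a311a8e47d008242219108a4623cd06a361b8f07a3e1fcc06232198e0723a1dc904a26138b05a2e17c804222118a0522a15c1e0d058240e0501, 0, 72, 0x0, []⟩]

theorem t9_710_35 : jobs 8 S9 b8_710 j9_710_35 = true := by decide +kernel

noncomputable def j9_710_36 : List Job := [
  ⟨27, 0x504864523d0084442341e0d058240e0501, 0, 46, 0x0, []⟩]

theorem t9_710_36 : jobs 8 S9 b8_710 j9_710_36 = true := by decide +kernel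

noncomputable def j9_710_37 : List Job := [
  ⟨26, 0x641229249a512a964ba61329a4da713a9e4fe01028241a110a8643a21128a45a311a8e47d04864523d0084442341e0d058240e0501, 0, 46, 0x0, []⟩]

theorem t9_710_37 : jobs 8 S9 b8_710 j9_710_37 = true := by decide +kernel

noncomputable def j9_710_38 : List Job := [
  ⟨25, 0x504864523d008444234d06a361b8f07a3e1fcc06232198e0723a1dc904a26138b05a2e17c804222118a0522a15c1e0d058240e0501, 0, 46, 0x0, []⟩]

theorem t9_710_38 : jobs 8 S9 b8_710 j9_710_38 = true := by decide +kernel

noncomputable def j9_710_39 : List Job := [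
  ⟨24, 0x641229249a512a964ba61329a4da713a9e4fe01028241a110a8643a21128a45a311a8e47d04864523d008444234d06a361b8f07a3e1fcc06232198e0723a1dc904a26138b05a2e17c804222118a0522a15c1e0d058240e0501, 0, 85, 0x8801008c01009208009408009608009808009a0800a00800a20800a801, []⟩]

theorem t9_710_39 : jobs 8 S9 b8_710 j9_710_39 = true := by decide +kernel

noncomputable def j9_710_40 : List Job := [
  ⟨23, 0x601028241a110a8643a21128a45a311a8e47d04864523d0084442341e0d058240e0501, 0, 72, 0x0, []⟩]

theorem t9_710_40 : jobs 8 S9 b8_710 j9_710_40 = true := by decide +kernel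

noncomputable def j9_710_41 : List Job := [
  ⟨22, 0x601028241a110a8643a21128a45a311a8e47d04864523d008444234d06a361b8f07a3e1fcc06232198e0723a1dc904a26138b05a2e17c804222118a0522a15c1e0d058240e0501, 0, 72, 0x0, []⟩]

theorem t9_710_41 : jobs 8 S9 b8_710 j9_710_41 = true := by decide +kernel

noncomputable def j9_710_42 : List Job := [
  ⟨21, 0x5008242219108a4623c904a26138b05a2e17c804222118a0522a15c1e0d058240e0501, 0, 72, 0x0, []⟩]

theorem t9_710_42 : jobs 8 S9 b8_710 j9_710_42 = true := by decide +kernel

noncomputable def j9_710_43 : List Job := [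
  ⟨20, 0x641229249a512a964ba61329a4da713a9e4fe01028241a110a8643a21128a45a311a8e47d008242219108a4623c904a26138b05a2e17c804222118a0522a15c1e0d058240e0501, 0, 72, 0x0, []⟩]

theorem t9_710_43 : jobs 8 S9 b8_710 j9_710_43 = true := by decide +kernel

noncomputable def j9_710_44 : List Job := [
  ⟨19, 0x641229249a512a964ba61329a4da713a9e4fd008242219108a4623c904a26138b05a2e17c804222118a0522a15c1e0d058240e0501, 0, 72, 0x0, []⟩]

theorem t9_710_44 : jobs 8 S9 b8_710 j9_710_44 = true := by decide +kernel

noncomputable def j9_710_45 : List Job := [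
  ⟨18, 0x601028241a110a8643a21128a45a311a8e47d008242219108a4623c904a26138b05a2e17c804222118a0522a15c1e0d058240e0501, 0, 72, 0x0, []⟩]

theorem t9_710_45 : jobs 8 S9 b8_710 j9_710_45 = true := by decide +kernel

noncomputable def j9_710_46 : List Job := [
  ⟨17, 0x504864523d008444234904a26138b05a2e17c804222118a0522a15c1e0d058240e0501, 0, 72, 0x0, []⟩]

theorem t9_710_46 : jobs 8 S9 b8_710 j9_710_46 = true := by decide +kernel

noncomputable def j9_710_47 : List Job := [
  ⟨16, 0x641229249a512a964ba61329a4da713a9e4fe01028241a110a8643a21128a45a311a8e47d04864523d008444234904a26138b05a2e17c804222118a0522a15c1e0d058240e0501, 0, 72, 0x0, []⟩]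

theorem t9_710_47 : jobs 8 S9 b8_710 j9_710_47 = true := by decide +kernel

noncomputable def j9_710_48 : List Job := [
  ⟨15, 0x641229249a512a964ba61329a4da713a9e4fd04864523d008444234904a26138b05a2e17c804222118a0522a15c1e0d058240e0501, 0, 72, 0x0, []⟩]

theorem t9_710_48 : jobs 8 S9 b8_710 j9_710_48 = true := by decide +kernel

noncomputable def j9_710_49 : List Job := [
  ⟨14, 0x601028241a110a8643a21128a45a311a8e47d04864523d008444234904a26138b05a2e17c804222118a0522a15c1e0d058240e0501, 0, 72, 0x0, []⟩]

theorem t9_710_49 : jobs 8 S9 b8_710 j9_710_49 = true := by decide +kernel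

noncomputable def j9_710_50 : List Job := [
  ⟨13, 0x601028241a110a8643a21128a45a311a8e47cc06232198e0723a1dc804222118a0522a15c381f09844180f01, 0, 192, 0x0, []⟩]

theorem t9_710_50 : jobs 8 S9 b8_710 j9_710_50 = true := by decide +kernel

noncomputable def j9_710_51 : List Job := [
  ⟨12, 0x601028241a110a8643a21128a45a311a8e47d20924a259309a4e27d008242219108a4623cc06232198e0723a1dc804222118a0522a15c381f09844180f01, 0, 192, 0x0, []⟩]

theorem t9_710_51 : jobs 8 S9 b8_710 j9_710_51 = true := by decide +kernel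

noncomputable def j9_710_52 : List Job := [
  ⟨11, 0x4c06232198e0723a1dc804222118a0522a15c381f09844180f01, 0, 112, 0x0, []⟩]

theorem t9_710_52 : jobs 8 S9 b8_710 j9_710_52 = true := by decide +kernel

noncomputable def j9_710_53 : List Job := [
  ⟨10, 0x641229249a512a964ba61329a4da713a9e4fe01028241a110a8643a21128a45a311a8e47cc06232198e0723a1dc804222118a0522a15c381f09844180f01, 0, 112, 0x0, []⟩]

theorem t9_710_53 : jobs 8 S9 b8_710 j9_710_53 = true := by decide +kernel

noncomputable def j9_710_54 : List Job := [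
  ⟨9, 0x520924a259309a4e27d008242219108a4623cc06232198e0723a1dc804222118a0522a15c381f09844180f01, 0, 112, 0x0, []⟩]

theorem t9_710_54 : jobs 8 S9 b8_710 j9_710_54 = true := by decide +kernel

noncomputable def j9_710_55 : List Job := [
  ⟨8, 0x641229249a512a964ba61329a4da713a9e4fe01028241a110a8643a21128a45a311a8e47d20924a259309a4e27d008242219108a4623cc06232198e0723a1dc804222118a0522a15c381f09844180f01, 0, 112, 0x0, []⟩]

theorem t9_710_55 : jobs 8 S9 b8_710 j9_710_55 = true := by decide +kernel

noncomputable def j9_710_56 : List Job := [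
  ⟨7, 0x641229249a512a964ba61329a4da713a9e4fc904a26138b05a2e17c804222118a0522a15c361909844160901, 0, 72, 0x0, []⟩]

theorem t9_710_56 : jobs 8 S9 b8_710 j9_710_56 = true := by decide +kernel

noncomputable def j9_710_57 : List Job := [
  ⟨6, 0x601028241a110a8643a21128a45a311a8e47c904a26138b05a2e17c804222118a0522a15c361909844160901, 0, 72, 0x0, []⟩]

theorem t9_710_57 : jobs 8 S9 b8_710 j9_710_57 = true := by decide +kernel

noncomputable def j9_710_58 : List Job := [
  ⟨5, 0x641229249a512a964ba61329a4da713a9e4fd20924a259309a4e27d008242219108a4623c904a26138b05a2e17c804222118a0522a15c361909844160901, 0, 72, 0x0, []⟩]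

theorem t9_710_58 : jobs 8 S9 b8_710 j9_710_58 = true := by decide +kernel

noncomputable def j9_710_59 : List Job := [
  ⟨4, 0x601028241a110a8643a21128a45a311a8e47d20924a259309a4e27d008242219108a4623c904a26138b05a2e17c804222118a0522a15c361909844160901, 0, 72, 0x0, []⟩]

theorem t9_710_59 : jobs 8 S9 b8_710 j9_710_59 = true := by decide +kernel

noncomputable def j9_710_60 : List Job := [
  ⟨3, 0x4904a26138b05a2e17c804222118a0522a15c361909844160901, 0, 72, 0x0, []⟩]

theorem t9_710_60 : jobs 8 S9 b8_710 j9_710_60 = true := by decide +kernel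

noncomputable def j9_710_61 : List Job := [
  ⟨2, 0x641229249a512a964ba61329a4da713a9e4fe01028241a110a8643a21128a45a311a8e47c904a26138b05a2e17c804222118a0522a15c361909844160901, 0, 72, 0x0, []⟩]

theorem t9_710_61 : jobs 8 S9 b8_710 j9_710_61 = true := by decide +kernel

noncomputable def j9_710_62 : List Job := [
  ⟨1, 0x520924a259309a4e27d008242219108a4623c904a26138b05a2e17c804222118a0522a15c361909844160901, 0, 72, 0x0, []⟩]

theorem t9_710_62 : jobs 8 S9 b8_710 j9_710_62 = true := by decide +kernel

noncomputable def j9_710_63 : List Job := [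
  ⟨0, 0x641229249a512a964ba61329a4da713a9e4fe01028241a110a8643a21128a45a311a8e47d20924a259309a4e27d008242219108a4623c904a26138b05a2e17c804222118a0522a15c361909844160901, 0, 72, 0x0, []⟩]

theorem t9_710_63 : jobs 8 S9 b8_710 j9_710_63 = true := by decide +kernel

theorem d9_710 : Dn 8 S9 b8_710 := dn_of (Js := j9_710_0 ++ (j9_710_1 ++ (j9_710_2 ++ (j9_710_3 ++ (j9_710_4 ++ (j9_710_5 ++ (j9_710_6 ++ (j9_710_7 ++ (j9_710_8 ++ (j9_710_9 ++ (j9_710_10 ++ (j9_710_11 ++ (j9_710_12 ++ (j9_710_13 ++ (j9_710_14 ++ (j9_710_15 ++ (j9_710_16 ++ (j9_710_17 ++ (j9_710_18 ++ (j9_710_19 ++ (j9_710_20 ++ (j9_710_21 ++ (j9_710_22 ++ (j9_710_23 ++ (j9_710_24 ++ (j9_710_25 ++ (j9_710_26 ++ (j9_710_27 ++ (j9_710_28 ++ (j9_710_29 ++ (j9_710_30 ++ (j9_710_31 ++ (j9_710_32 ++ (j9_710_33 ++ (j9_710_34 ++ (j9_710_35 ++ (j9_710_36 ++ (j9_710_37 ++ (j9_710_38 ++ (j9_710_39 ++ (j9_710_40 ++ (j9_710_41 ++ (j9_710_42 ++ (j9_710_43 ++ (j9_710_44 ++ (j9_710_45 ++ (j9_710_46 ++ (j9_710_47 ++ (j9_710_48 ++ (j9_710_49 ++ (j9_710_50 ++ (j9_710_51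 ++ (j9_710_52 ++ (j9_710_53 ++ (j9_710_54 ++ (j9_710_55 ++ (j9_710_56 ++ (j9_710_57 ++ (j9_710_58 ++ (j9_710_59 ++ (j9_710_60 ++ (j9_710_61 ++ (j9_710_62 ++ (j9_710_63 ++ []))))))))))))))))))))))))))))))))))))))))))))))))))))))))))))))))
  (jobs_append t9_710_0 <| jobs_append t9_710_1 <| jobs_append t9_710_2 <| jobs_append t9_710_3 <| jobs_append t9_710_4 <| jobs_append t9_710_5 <| jobs_append t9_710_6 <| jobs_append t9_710_7 <| jobs_append t9_710_8 <| jobs_append t9_710_9 <| jobs_append t9_710_10 <| jobs_append t9_710_11 <| jobs_append t9_710_12 <| jobs_append t9_710_13 <| jobs_append t9_710_14 <| jobs_append t9_710_15 <| jobs_append t9_710_16 <| jobs_append t9_710_17 <| jobs_append t9_710_18 <| jobs_append t9_710_19 <| jobs_append t9_710_20 <| jobs_append t9_710_21 <| jobs_append t9_710_22 <| jobs_append t9_710_23 <| jobs_append t9_710_24 <| jobs_append t9_710_25 <| jobs_append t9_710_26 <| jobs_append t9_710_27 <| jobs_append t9_710_28 <| jobs_append t9_710_29 <| jobs_append t9_710_30 <| jobs_append t9_710_31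 <| jobs_append t9_710_32 <| jobs_append t9_710_33 <| jobs_append t9_710_34 <| jobs_append t9_710_35 <| jobs_append t9_710_36 <| jobs_append t9_710_37 <| jobs_append t9_710_38 <| jobs_append t9_710_39 <| jobs_append t9_710_40 <| jobs_append t9_710_41 <| jobs_append t9_710_42 <| jobs_append t9_710_43 <| jobs_append t9_710_44 <| jobs_append t9_710_45 <| jobs_append t9_710_46 <| jobs_append t9_710_47 <| jobs_append t9_710_48 <| jobs_append t9_710_49 <| jobs_append t9_710_50 <| jobs_append t9_710_51 <| jobs_append t9_710_52 <| jobs_append t9_710_53 <| jobs_append t9_710_54 <| jobs_append t9_710_55 <| jobs_append t9_710_56 <| jobs_append t9_710_57 <| jobs_append t9_710_58 <| jobs_append t9_710_59 <| jobs_append t9_710_60 <| jobs_append t9_710_61 <| jobs_append t9_710_62 <| jobs_append t9_710_63 <| List.forall_mem_nil _) (by decide +kernel)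

noncomputable def j9_711_0 : List Job := [
  ⟨63, 0x601028241a110a8643a21128a45a311a8e47d20924a259309a4e27d008242219108a4623c361909844160901, 0, 32, 0x0, []⟩]

theorem t9_711_0 : jobs 8 S9 b8_711 j9_711_0 = true := by decide +kernel

noncomputable def j9_711_1 : List Job := [
  ⟨62, 0x4361909844160901, 0, 20, 0x0, []⟩]

theorem t9_711_1 : jobs 8 S9 b8_711 j9_711_1 = true := by decide +kernel

noncomputable def j9_711_2 : List Job := [
  ⟨61, 0x641229249a512a964ba61329a4da713a9e4fe01028241a110a8643a21128a45a311a8e47c361909844160901, 0, 20, 0x0, []⟩]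

theorem t9_711_2 : jobs 8 S9 b8_711 j9_711_2 = true := by decide +kernel

noncomputable def j9_711_3 : List Job := [
  ⟨60, 0x520924a259309a4e27d008242219108a4623c361909844160901, 0, 20, 0x0, []⟩]

theorem t9_711_3 : jobs 8 S9 b8_711 j9_711_3 = true := by decide +kernel

noncomputable def j9_711_4 : List Job := [
  ⟨59, 0x641229249a512a964ba61329a4da713a9e4fe01028241a110a8643a21128a45a311a8e47d20924a259309a4e27d008242219108a4623c361909844160901, 0, 20, 0x0, []⟩]

theorem t9_711_4 : jobs 8 S9 b8_711 j9_711_4 = true := by decide +kernel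

noncomputable def j9_711_5 : List Job := [
  ⟨58, 0x4361909844160901, 0, 20, 0x0, []⟩]

theorem t9_711_5 : jobs 8 S9 b8_711 j9_711_5 = true := by decide +kernel

noncomputable def j9_711_6 : List Job := [
  ⟨57, 0x641229249a512a964ba61329a4da713a9e4fe01028241a110a8643a21128a45a311a8e47c361909844160901, 0, 20, 0x0, []⟩]

theorem t9_711_6 : jobs 8 S9 b8_711 j9_711_6 = true := by decide +kernel

noncomputable def j9_711_7 : List Job := [
  ⟨56, 0x520924a259309a4e27d008242219108a4623c361909844160901, 0, 20, 0x0, []⟩]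

theorem t9_711_7 : jobs 8 S9 b8_711 j9_711_7 = true := by decide +kernel

noncomputable def j9_711_8 : List Job := [
  ⟨55, 0x641229249a512a964ba61329a4da713a9e4fe01028241a110a8643a21128a45a311a8e47d20924a259309a4e27d008242219108a4623c361909844160901, 0, 46, 0x0, []⟩]

theorem t9_711_8 : jobs 8 S9 b8_711 j9_711_8 = true := by decide +kernel

noncomputable def j9_711_9 : List Job := [
  ⟨54, 0x601028241a110a8643a21128a45a311a8e47c2e15098440e0501, 0, 32, 0x0, []⟩]

theorem t9_711_9 : jobs 8 S9 b8_711 j9_711_9 = true := by decide +kernel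

noncomputable def j9_711_10 : List Job := [
  ⟨53, 0x601028241a110a8643a21128a45a311a8e47d20924a259309a4e27d008242219108a4623c2e15098440e0501, 0, 32, 0x0, []⟩]

theorem t9_711_10 : jobs 8 S9 b8_711 j9_711_10 = true := by decide +kernel

noncomputable def j9_711_11 : List Job := [
  ⟨52, 0x601028241a110a8643a21128a45a311a8e47c2e15098440e0501, 0, 32, 0x0, []⟩]

theorem t9_711_11 : jobs 8 S9 b8_711 j9_711_11 = true := by decide +kernel

noncomputable def j9_711_12 : List Job := [
  ⟨51, 0x601028241a110a8643a21128a45a311a8e47d20924a259309a4e27d008242219108a4623c2e15098440e0501, 0, 32, 0x0, []⟩]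

theorem t9_711_12 : jobs 8 S9 b8_711 j9_711_12 = true := by decide +kernel

noncomputable def j9_711_13 : List Job := [
  ⟨50, 0x42e15098440e0501, 0, 32, 0x0, []⟩]

theorem t9_711_13 : jobs 8 S9 b8_711 j9_711_13 = true := by decide +kernel

noncomputable def j9_711_14 : List Job := [
  ⟨49, 0x641229249a512a964ba61329a4da713a9e4fe01028241a110a8643a21128a45a311a8e47c2e15098440e0501, 0, 32, 0x0, []⟩]

theorem t9_711_14 : jobs 8 S9 b8_711 j9_711_14 = true := by decide +kernel

noncomputable def j9_711_15 : List Job := [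
  ⟨48, 0x520924a259309a4e27d008242219108a4623c2e15098440e0501, 0, 32, 0x0, []⟩]

theorem t9_711_15 : jobs 8 S9 b8_711 j9_711_15 = true := by decide +kernel

noncomputable def j9_711_16 : List Job := [
  ⟨47, 0x641229249a512a964ba61329a4da713a9e4fe01028241a110a8643a21128a45a311a8e47d20924a259309a4e27d008242219108a4623c2e15098440e0501, 0, 32, 0x0, []⟩]

theorem t9_711_16 : jobs 8 S9 b8_711 j9_711_16 = true := by decide +kernel

noncomputable def j9_711_17 : List Job := [
  ⟨46, 0x641229249a512a964ba61329a4da713a9e4fc2e15098440e0501, 0, 32, 0x0, []⟩]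

theorem t9_711_17 : jobs 8 S9 b8_711 j9_711_17 = true := by decide +kernel

noncomputable def j9_711_18 : List Job := [
  ⟨45, 0x601028241a110a8643a21128a45a311a8e47c2e15098440e0501, 0, 32, 0x0, []⟩]

theorem t9_711_18 : jobs 8 S9 b8_711 j9_711_18 = true := by decide +kernel

noncomputable def j9_711_19 : List Job := [
  ⟨44, 0x641229249a512a964ba61329a4da713a9e4fd20924a259309a4e27d008242219108a4623c2e15098440e0501, 0, 32, 0x0, []⟩]

theorem t9_711_19 : jobs 8 S9 b8_711 j9_711_19 = true := by decide +kernel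

noncomputable def j9_711_20 : List Job := [
  ⟨43, 0x601028241a110a8643a21128a45a311a8e47d20924a259309a4e27d008242219108a4623c2e15098440e0501, 0, 32, 0x0, []⟩]

theorem t9_711_20 : jobs 8 S9 b8_711 j9_711_20 = true := by decide +kernel

noncomputable def j9_711_21 : List Job := [
  ⟨42, 0x42e15098440e0501, 0, 20, 0x0, []⟩]

theorem t9_711_21 : jobs 8 S9 b8_711 j9_711_21 = true := by decide +kernel

noncomputable def j9_711_22 : List Job := [
  ⟨41, 0x641229249a512a964ba61329a4da713a9e4fe01028241a110a8643a21128a45a311a8e47c2e15098440e0501, 0, 20, 0x0, []⟩]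

theorem t9_711_22 : jobs 8 S9 b8_711 j9_711_22 = true := by decide +kernel

noncomputable def j9_711_23 : List Job := [
  ⟨40, 0x520924a259309a4e27d008242219108a4623c2e15098440e0501, 0, 20, 0x0, []⟩]

theorem t9_711_23 : jobs 8 S9 b8_711 j9_711_23 = true := by decide +kernel

noncomputable def j9_711_24 : List Job := [
  ⟨39, 0x641229249a512a964ba61329a4da713a9e4fe01028241a110a8643a21128a45a311a8e47d20924a259309a4e27d008242219108a4623c2e15098440e0501, 0, 20, 0x0, []⟩]

theorem t9_711_24 : jobs 8 S9 b8_711 j9_711_24 = true := by decide +kernel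

noncomputable def j9_711_25 : List Job := [
  ⟨38, 0x42e15098440e0501, 0, 20, 0x0, []⟩]

theorem t9_711_25 : jobs 8 S9 b8_711 j9_711_25 = true := by decide +kernel

noncomputable def j9_711_26 : List Job := [
  ⟨37, 0x641229249a512a964ba61329a4da713a9e4fe01028241a110a8643a21128a45a311a8e47c2e15098440e0501, 0, 20, 0x0, []⟩]

theorem t9_711_26 : jobs 8 S9 b8_711 j9_711_26 = true := by decide +kernel

noncomputable def j9_711_27 : List Job := [
  ⟨36, 0x520924a259309a4e27d008242219108a4623c2e15098440e0501, 0, 20, 0x0, []⟩]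

theorem t9_711_27 : jobs 8 S9 b8_711 j9_711_27 = true := by decide +kernel

noncomputable def j9_711_28 : List Job := [
  ⟨35, 0x641229249a512a964ba61329a4da713a9e4fe01028241a110a8643a21128a45a311a8e47d20924a259309a4e27d008242219108a4623c2e15098440e0501, 0, 46, 0x0, []⟩]

theorem t9_711_28 : jobs 8 S9 b8_711 j9_711_28 = true := by decide +kernel

noncomputable def j9_711_29 : List Job := [
  ⟨34, 0x4c06232198e0723a1dc804222118a0522a15c381f09844180f01, 0, 128, 0x0, []⟩]

theorem t9_711_29 : jobs 8 S9 b8_711 j9_711_29 = true := by decide +kernel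

noncomputable def j9_711_30 : List Job := [
  ⟨33, 0x520924a259309a4e27d008242219108a4623cc06232198e0723a1dc804222118a0522a15c381f09844180f01, 0, 128, 0x0, []⟩]

theorem t9_711_30 : jobs 8 S9 b8_711 j9_711_30 = true := by decide +kernel

noncomputable def j9_711_31 : List Job := [
  ⟨32, 0x4c06232198e0723a1dc804222118a0522a15c381f09844180f01, 0, 72, 0x0, []⟩]

theorem t9_711_31 : jobs 8 S9 b8_711 j9_711_31 = true := by decide +kernel

noncomputable def j9_711_32 : List Job := [
  ⟨31, 0x4c06232198e0723a1dc804222118a0522a15c381f09844180f01, 0, 72, 0x0, []⟩]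

theorem t9_711_32 : jobs 8 S9 b8_711 j9_711_32 = true := by decide +kernel

noncomputable def j9_711_33 : List Job := [
  ⟨30, 0x520924a259309a4e27d008242219108a4623cc06232198e0723a1dc804222118a0522a15c381f09844180f01, 0, 72, 0x0, []⟩]

theorem t9_711_33 : jobs 8 S9 b8_711 j9_711_33 = true := by decide +kernel

noncomputable def j9_711_34 : List Job := [
  ⟨29, 0x520924a259309a4e27d008242219108a4623cc06232198e0723a1dc804222118a0522a15c381f09844180f01, 0, 72, 0x0, []⟩]

theorem t9_711_34 : jobs 8 S9 b8_711 j9_711_34 = true := by decide +kernel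

noncomputable def j9_711_35 : List Job := [
  ⟨28, 0x4904a26138b05a2e17c804222118a0522a15c361909844160901, 0, 32, 0x0, []⟩]

theorem t9_711_35 : jobs 8 S9 b8_711 j9_711_35 = true := by decide +kernel

noncomputable def j9_711_36 : List Job := [
  ⟨27, 0x4904a26138b05a2e17c804222118a0522a15c361909844160901, 0, 32, 0x0, []⟩]

theorem t9_711_36 : jobs 8 S9 b8_711 j9_711_36 = true := by decide +kernel

noncomputable def j9_711_37 : List Job := [
  ⟨26, 0x520924a259309a4e27d008242219108a4623c904a26138b05a2e17c804222118a0522a15c361909844160901, 0, 32, 0x0, []⟩]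

theorem t9_711_37 : jobs 8 S9 b8_711 j9_711_37 = true := by decide +kernel

noncomputable def j9_711_38 : List Job := [
  ⟨25, 0x520924a259309a4e27d008242219108a4623c904a26138b05a2e17c804222118a0522a15c361909844160901, 0, 32, 0x0, []⟩]

theorem t9_711_38 : jobs 8 S9 b8_711 j9_711_38 = true := by decide +kernel

noncomputable def j9_711_39 : List Job := [
  ⟨24, 0x4904a26138b05a2e17c804222118a0522a15c361909844160901, 0, 32, 0x0, []⟩]

theorem t9_711_39 : jobs 8 S9 b8_711 j9_711_39 = true := by decide +kernel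

noncomputable def j9_711_40 : List Job := [
  ⟨23, 0x4904a26138b05a2e17c804222118a0522a15c361909844160901, 0, 32, 0x0, []⟩]

theorem t9_711_40 : jobs 8 S9 b8_711 j9_711_40 = true := by decide +kernel

noncomputable def j9_711_41 : List Job := [
  ⟨22, 0x520924a259309a4e27d008242219108a4623c904a26138b05a2e17c804222118a0522a15c361909844160901, 0, 32, 0x0, []⟩]

theorem t9_711_41 : jobs 8 S9 b8_711 j9_711_41 = true := by decide +kernel

noncomputable def j9_711_42 : List Job := [
  ⟨21, 0x520924a259309a4e27d008242219108a4623c904a26138b05a2e17c804222118a0522a15c361909844160901, 0, 32, 0x0, []⟩]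

theorem t9_711_42 : jobs 8 S9 b8_711 j9_711_42 = true := by decide +kernel

noncomputable def j9_711_43 : List Job := [
  ⟨20, 0x4361909844160901, 0, 32, 0x0, []⟩]

theorem t9_711_43 : jobs 8 S9 b8_711 j9_711_43 = true := by decide +kernel

noncomputable def j9_711_44 : List Job := [
  ⟨19, 0x520924a259309a4e27d008242219108a4623c361909844160901, 0, 32, 0x0, []⟩]

theorem t9_711_44 : jobs 8 S9 b8_711 j9_711_44 = true := by decide +kernel

noncomputable def j9_711_45 : List Job := [
  ⟨18, 0x4d06a361b8f07a3e1fcc06232198e0723a1dc904a26138b05a2e17c804222118a0522a15c361909844160901, 0, 32, 0x0, []⟩]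

theorem t9_711_45 : jobs 8 S9 b8_711 j9_711_45 = true := by decide +kernel

noncomputable def j9_711_46 : List Job := [
  ⟨17, 0x520924a259309a4e27d008242219108a4623cd06a361b8f07a3e1fcc06232198e0723a1dc904a26138b05a2e17c804222118a0522a15c361909844160901, 0, 32, 0x0, []⟩]

theorem t9_711_46 : jobs 8 S9 b8_711 j9_711_46 = true := by decide +kernel

noncomputable def j9_711_47 : List Job := [
  ⟨16, 0x4361909844160901, 0, 20, 0x0, []⟩]

theorem t9_711_47 : jobs 8 S9 b8_711 j9_711_47 = true := by decide +kernel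

noncomputable def j9_711_48 : List Job := [
  ⟨15, 0x4361909844160901, 0, 20, 0x0, []⟩]

theorem t9_711_48 : jobs 8 S9 b8_711 j9_711_48 = true := by decide +kernel

noncomputable def j9_711_49 : List Job := [
  ⟨14, 0x520924a259309a4e27d008242219108a4623c361909844160901, 0, 20, 0x0, []⟩]

theorem t9_711_49 : jobs 8 S9 b8_711 j9_711_49 = true := by decide +kernel

noncomputable def j9_711_50 : List Job := [
  ⟨13, 0x520924a259309a4e27d008242219108a4623c361909844160901, 0, 20, 0x0, []⟩]

theorem t9_711_50 : jobs 8 S9 b8_711 j9_711_50 = true := by decide +kernel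

noncomputable def j9_711_51 : List Job := [
  ⟨12, 0x4d06a361b8f07a3e1fcc06232198e0723a1dc904a26138b05a2e17c804222118a0522a15c361909844160901, 0, 20, 0x0, []⟩]

theorem t9_711_51 : jobs 8 S9 b8_711 j9_711_51 = true := by decide +kernel

noncomputable def j9_711_52 : List Job := [
  ⟨11, 0x4d06a361b8f07a3e1fcc06232198e0723a1dc904a26138b05a2e17c804222118a0522a15c361909844160901, 0, 20, 0x0, []⟩]

theorem t9_711_52 : jobs 8 S9 b8_711 j9_711_52 = true := by decide +kernel

noncomputable def j9_711_53 : List Job := [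
  ⟨10, 0x520924a259309a4e27d008242219108a4623cd06a361b8f07a3e1fcc06232198e0723a1dc904a26138b05a2e17c804222118a0522a15c361909844160901, 0, 25, 0x2a01002c01002e00003000, [(23, ⟨2181, 0x26c0046000e4001d0041001030042400010040001, 0x19e260e834030401402⟩), (22, ⟨2180, 0x2380142000b000190041001030002401010040001, 0x18f220ac24030401402⟩)]⟩]

theorem t9_711_53 : jobs 8 S9 b8_711 j9_711_53 = true := by decide +kernel

noncomputable def j9_711_54 : List Job := [
  ⟨9, 0x520924a259309a4e27d008242219108a4623cd06a361b8f07a3e1fcc06232198e0723a1dc904a26138b05a2e17c804222118a0522a15c361909844160901, 0, 46, 0x0, []⟩]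

theorem t9_711_54 : jobs 8 S9 b8_711 j9_711_54 = true := by decide +kernel

noncomputable def j9_711_55 : List Job := [
  ⟨8, 0x4c06232198e0723a1dc804222118a0522a15c2e15098440e0501, 0, 32, 0x0, []⟩]

theorem t9_711_55 : jobs 8 S9 b8_711 j9_711_55 = true := by decide +kernel

noncomputable def j9_711_56 : List Job := [
  ⟨7, 0x520924a259309a4e27d008242219108a4623cc06232198e0723a1dc804222118a0522a15c2e15098440e0501, 0, 32, 0x0, []⟩]

theorem t9_711_56 : jobs 8 S9 b8_711 j9_711_56 = true := by decide +kernel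

noncomputable def j9_711_57 : List Job := [
  ⟨6, 0x4c464391d4c066381dc84462915c8044281542e15098440e0501, 0, 32, 0x0, []⟩]

theorem t9_711_57 : jobs 8 S9 b8_711 j9_711_57 = true := by decide +kernel

noncomputable def j9_711_58 : List Job := [
  ⟨5, 0x520924a259309a4e27d008242219108a4623cc464391d4c066381dc84462915c8044281542e15098440e0501, 0, 32, 0x0, []⟩]

theorem t9_711_58 : jobs 8 S9 b8_711 j9_711_58 = true := by decide +kernel

noncomputable def j9_711_59 : List Job := [
  ⟨4, 0x4c06232198e0723a1dc84462815480442915c2e15098440e0501, 0, 32, 0x0, []⟩]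

theorem t9_711_59 : jobs 8 S9 b8_711 j9_711_59 = true := by decide +kernel

noncomputable def j9_711_60 : List Job := [
  ⟨3, 0x4c06232198e0723a1dc84462915c8044281542e15098440e0501, 0, 32, 0x0, []⟩]

theorem t9_711_60 : jobs 8 S9 b8_711 j9_711_60 = true := by decide +kernel

noncomputable def j9_711_61 : List Job := [
  ⟨2, 0x520924a259309a4e27d008242219108a4623cc06232198e0723a1dc84462815480442915c2e15098440e0501, 0, 32, 0x0, []⟩]

theorem t9_711_61 : jobs 8 S9 b8_711 j9_711_61 = true := by decide +kernel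

noncomputable def j9_711_62 : List Job := [
  ⟨1, 0x520924a259309a4e27d008242219108a4623cc06232198e0723a1dc84462915c8044281542e15098440e0501, 0, 32, 0x0, []⟩]

theorem t9_711_62 : jobs 8 S9 b8_711 j9_711_62 = true := by decide +kernel

noncomputable def j9_711_63 : List Job := [
  ⟨0, 0x4c06232198e0723a1dc84462815480442915c2e15098440e0501, 0, 32, 0x0, []⟩]

theorem t9_711_63 : jobs 8 S9 b8_711 j9_711_63 = true := by decide +kernel

theorem d9_711 : Dn 8 S9 b8_711 := dn_of (Js := j9_711_0 ++ (j9_711_1 ++ (j9_711_2 ++ (j9_711_3 ++ (j9_711_4 ++ (j9_711_5 ++ (j9_711_6 ++ (j9_711_7 ++ (j9_711_8 ++ (j9_711_9 ++ (j9_711_10 ++ (j9_711_11 ++ (j9_711_12 ++ (j9_711_13 ++ (j9_711_14 ++ (j9_711_15 ++ (j9_711_16 ++ (j9_711_17 ++ (j9_711_18 ++ (j9_711_19 ++ (j9_711_20 ++ (j9_711_21 ++ (j9_711_22 ++ (j9_711_23 ++ (j9_711_24 ++ (j9_711_25 ++ (j9_711_26 ++ (j9_711_27 ++ (j9_711_28 ++ (j9_711_29 ++ (j9_711_30 ++ (j9_711_31 ++ (j9_711_32 ++ (j9_711_33 ++ (j9_711_34 ++ (j9_711_35 ++ (j9_711_36 ++ (j9_711_37 ++ (j9_711_38 ++ (j9_711_39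 ++ (j9_711_40 ++ (j9_711_41 ++ (j9_711_42 ++ (j9_711_43 ++ (j9_711_44 ++ (j9_711_45 ++ (j9_711_46 ++ (j9_711_47 ++ (j9_711_48 ++ (j9_711_49 ++ (j9_711_50 ++ (j9_711_51 ++ (j9_711_52 ++ (j9_711_53 ++ (j9_711_54 ++ (j9_711_55 ++ (j9_711_56 ++ (j9_711_57 ++ (j9_711_58 ++ (j9_711_59 ++ (j9_711_60 ++ (j9_711_61 ++ (j9_711_62 ++ (j9_711_63 ++ []))))))))))))))))))))))))))))))))))))))))))))))))))))))))))))))))
  (jobs_append t9_711_0 <| jobs_append t9_711_1 <| jobs_append t9_711_2 <| jobs_append t9_711_3 <| jobs_append t9_711_4 <| jobs_append t9_711_5 <| jobs_append t9_711_6 <| jobs_append t9_711_7 <| jobs_append t9_711_8 <| jobs_append t9_711_9 <| jobs_append t9_711_10 <| jobs_append t9_711_11 <| jobs_append t9_711_12 <| jobs_append t9_711_13 <| jobs_append t9_711_14 <| jobs_append t9_711_15 <| jobs_append t9_711_16 <| jobs_append t9_711_17 <| jobs_append t9_711_18 <| jobs_append t9_711_19 <| jobs_append t9_711_20 <| jobs_append t9_711_21 <| jobs_append t9_711_22 <| jobs_append t9_711_23 <| jobs_append t9_711_24 <|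 jobs_append t9_711_25 <| jobs_append t9_711_26 <| jobs_append t9_711_27 <| jobs_append t9_711_28 <| jobs_append t9_711_29 <| jobs_append t9_711_30 <| jobs_append t9_711_31 <| jobs_append t9_711_32 <| jobs_append t9_711_33 <| jobs_append t9_711_34 <| jobs_append t9_711_35 <| jobs_append t9_711_36 <| jobs_append t9_711_37 <| jobs_append t9_711_38 <| jobs_append t9_711_39 <| jobs_append t9_711_40 <| jobs_append t9_711_41 <| jobs_append t9_711_42 <| jobs_append t9_711_43 <| jobs_append t9_711_44 <| jobs_append t9_711_45 <| jobs_append t9_711_46 <| jobs_append t9_711_47 <| jobs_append t9_711_48 <| jobs_append t9_711_49 <| jobs_append t9_711_50 <| jobs_append t9_711_51 <| jobs_append t9_711_52 <| jobs_append t9_711_53 <| jobs_append t9_711_54 <| jobs_append t9_711_55 <| jobs_append t9_711_56 <| jobs_append t9_711_57 <| jobs_append t9_711_58 <| jobs_append t9_711_59 <| jobs_append t9_711_60 <| jobs_append t9_711_61 <| jobs_append t9_711_62 <| jobs_append t9_711_63 <| List.forall_mem_nil _) (by decide +kernel)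

noncomputable def j9_712_0 : List Job := [
  ⟨63, 0x641229249a512a964ba61329a4da713a9e4fe01028241a110a8643a21128a45a311a8e47d40a25229950aa562b960b25a2d970ba5e2fd008242219108a4623920924a259309a4e27cc466391dcc064381d484462915c8044281542e15098440e0501, 0, 71, 0x7601, []⟩]

theorem t9_712_0 : jobs 8 S9 b8_712 j9_712_0 = true := by decide +kernel

noncomputable def j9_712_1 : List Job := [
  ⟨62, 0x4381f09844180f01, 0, 128, 0x0, []⟩]

theorem t9_712_1 : jobs 8 S9 b8_712 j9_712_1 = true := by decide +kernel

noncomputable def j9_712_2 : List Job := [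
  ⟨61, 0x520924a259309a4e27d008242219108a4623c381f09844180f01, 0, 128, 0x0, []⟩]

theorem t9_712_2 : jobs 8 S9 b8_712 j9_712_2 = true := by decide +kernel

noncomputable def j9_712_3 : List Job := [
  ⟨60, 0x4381f09844180f01, 0, 72, 0x0, []⟩]

theorem t9_712_3 : jobs 8 S9 b8_712 j9_712_3 = true := by decide +kernel

noncomputable def j9_712_4 : List Job := [
  ⟨59, 0x4381f09844180f01, 0, 72, 0x0, []⟩]

theorem t9_712_4 : jobs 8 S9 b8_712 j9_712_4 = true := by decide +kernel

noncomputable def j9_712_5 : List Job := [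
  ⟨58, 0x520924a259309a4e27d008242219108a4623c381f09844180f01, 0, 72, 0x0, []⟩]

theorem t9_712_5 : jobs 8 S9 b8_712 j9_712_5 = true := by decide +kernel

noncomputable def j9_712_6 : List Job := [
  ⟨57, 0x520924a259309a4e27d008242219108a4623c381f09844180f01, 0, 72, 0x0, []⟩]

theorem t9_712_6 : jobs 8 S9 b8_712 j9_712_6 = true := by decide +kernel

noncomputable def j9_712_7 : List Job := [
  ⟨56, 0x4361909844160901, 0, 32, 0x0, []⟩]

theorem t9_712_7 : jobs 8 S9 b8_712 j9_712_7 = true := by decide +kernel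

noncomputable def j9_712_8 : List Job := [
  ⟨55, 0x4361909844160901, 0, 32, 0x0, []⟩]

theorem t9_712_8 : jobs 8 S9 b8_712 j9_712_8 = true := by decide +kernel

noncomputable def j9_712_9 : List Job := [
  ⟨54, 0x520924a259309a4e27d008242219108a4623c361909844160901, 0, 32, 0x0, []⟩]

theorem t9_712_9 : jobs 8 S9 b8_712 j9_712_9 = true := by decide +kernel

noncomputable def j9_712_10 : List Job := [
  ⟨53, 0x520924a259309a4e27d008242219108a4623c361909844160901, 0, 32, 0x0, []⟩]

theorem t9_712_10 : jobs 8 S9 b8_712 j9_712_10 = true := by decide +kernel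

noncomputable def j9_712_11 : List Job := [
  ⟨52, 0x4361909844160901, 0, 32, 0x0, []⟩]

theorem t9_712_11 : jobs 8 S9 b8_712 j9_712_11 = true := by decide +kernel

noncomputable def j9_712_12 : List Job := [
  ⟨51, 0x4361909844160901, 0, 32, 0x0, []⟩]

theorem t9_712_12 : jobs 8 S9 b8_712 j9_712_12 = true := by decide +kernel

noncomputable def j9_712_13 : List Job := [
  ⟨50, 0x520924a259309a4e27d008242219108a4623c361909844160901, 0, 32, 0x0, []⟩]

theorem t9_712_13 : jobs 8 S9 b8_712 j9_712_13 = true := by decide +kernel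

noncomputable def j9_712_14 : List Job := [
  ⟨49, 0x520924a259309a4e27d008242219108a4623c361909844160901, 0, 32, 0x0, []⟩]

theorem t9_712_14 : jobs 8 S9 b8_712 j9_712_14 = true := by decide +kernel

noncomputable def j9_712_15 : List Job := [
  ⟨48, 0x4361909844160901, 0, 32, 0x0, []⟩]

theorem t9_712_15 : jobs 8 S9 b8_712 j9_712_15 = true := by decide +kernel

noncomputable def j9_712_16 : List Job := [
  ⟨47, 0x520924a259309a4e27d008242219108a4623c361909844160901, 0, 32, 0x0, []⟩]

theorem t9_712_16 : jobs 8 S9 b8_712 j9_712_16 = true := by decide +kernel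

noncomputable def j9_712_17 : List Job := [
  ⟨46, 0x4361909844160901, 0, 32, 0x0, []⟩]

theorem t9_712_17 : jobs 8 S9 b8_712 j9_712_17 = true := by decide +kernel

noncomputable def j9_712_18 : List Job := [
  ⟨45, 0x520924a259309a4e27d008242219108a4623c361909844160901, 0, 32, 0x0, []⟩]

theorem t9_712_18 : jobs 8 S9 b8_712 j9_712_18 = true := by decide +kernel

noncomputable def j9_712_19 : List Job := [
  ⟨44, 0x4361909844160901, 0, 20, 0x0, []⟩]

theorem t9_712_19 : jobs 8 S9 b8_712 j9_712_19 = true := by decide +kernel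

noncomputable def j9_712_20 : List Job := [
  ⟨43, 0x4361909844160901, 0, 20, 0x0, []⟩]

theorem t9_712_20 : jobs 8 S9 b8_712 j9_712_20 = true := by decide +kernel

noncomputable def j9_712_21 : List Job := [
  ⟨42, 0x520924a259309a4e27d008242219108a4623c361909844160901, 0, 20, 0x0, []⟩]

theorem t9_712_21 : jobs 8 S9 b8_712 j9_712_21 = true := by decide +kernel

noncomputable def j9_712_22 : List Job := [
  ⟨41, 0x520924a259309a4e27d008242219108a4623c361909844160901, 0, 20, 0x0, []⟩]

theorem t9_712_22 : jobs 8 S9 b8_712 j9_712_22 = true := by decide +kernel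

noncomputable def j9_712_23 : List Job := [
  ⟨40, 0x4361909844160901, 0, 20, 0x0, []⟩]

theorem t9_712_23 : jobs 8 S9 b8_712 j9_712_23 = true := by decide +kernel

noncomputable def j9_712_24 : List Job := [
  ⟨39, 0x4361909844160901, 0, 20, 0x0, []⟩]

theorem t9_712_24 : jobs 8 S9 b8_712 j9_712_24 = true := by decide +kernel

noncomputable def j9_712_25 : List Job := [
  ⟨38, 0x520924a259309a4e27d008242219108a4623c361909844160901, 0, 20, 0x0, []⟩]

theorem t9_712_25 : jobs 8 S9 b8_712 j9_712_25 = true := by decide +kernel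

noncomputable def j9_712_26 : List Job := [
  ⟨37, 0x520924a259309a4e27d008242219108a4623c361909844160901, 0, 46, 0x0, []⟩]

theorem t9_712_26 : jobs 8 S9 b8_712 j9_712_26 = true := by decide +kernel

noncomputable def j9_712_27 : List Job := [
  ⟨36, 0x42e15098440e0501, 0, 32, 0x0, []⟩]

theorem t9_712_27 : jobs 8 S9 b8_712 j9_712_27 = true := by decide +kernel

noncomputable def j9_712_28 : List Job := [
  ⟨35, 0x520924a259309a4e27d008242219108a4623c2e15098440e0501, 0, 32, 0x0, []⟩]

theorem t9_712_28 : jobs 8 S9 b8_712 j9_712_28 = true := by decide +kernel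

noncomputable def j9_712_29 : List Job := [
  ⟨34, 0x42e15098440e0501, 0, 32, 0x0, []⟩]

theorem t9_712_29 : jobs 8 S9 b8_712 j9_712_29 = true := by decide +kernel

noncomputable def j9_712_30 : List Job := [
  ⟨33, 0x520924a259309a4e27d008242219108a4623c2e15098440e0501, 0, 32, 0x0, []⟩]

theorem t9_712_30 : jobs 8 S9 b8_712 j9_712_30 = true := by decide +kernel

noncomputable def j9_712_31 : List Job := [
  ⟨32, 0x42e15098440e0501, 0, 32, 0x0, []⟩]

theorem t9_712_31 : jobs 8 S9 b8_712 j9_712_31 = true := by decide +kernel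

noncomputable def j9_712_32 : List Job := [
  ⟨31, 0x42e15098440e0501, 0, 32, 0x0, []⟩]

theorem t9_712_32 : jobs 8 S9 b8_712 j9_712_32 = true := by decide +kernel

noncomputable def j9_712_33 : List Job := [
  ⟨30, 0x520924a259309a4e27d008242219108a4623c2e15098440e0501, 0, 32, 0x0, []⟩]

theorem t9_712_33 : jobs 8 S9 b8_712 j9_712_33 = true := by decide +kernel

noncomputable def j9_712_34 : List Job := [
  ⟨29, 0x520924a259309a4e27d008242219108a4623c2e15098440e0501, 0, 32, 0x0, []⟩]

theorem t9_712_34 : jobs 8 S9 b8_712 j9_712_34 = true := by decide +kernel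

noncomputable def j9_712_35 : List Job := [
  ⟨28, 0x42e15098440e0501, 0, 32, 0x0, []⟩]

theorem t9_712_35 : jobs 8 S9 b8_712 j9_712_35 = true := by decide +kernel

noncomputable def j9_712_36 : List Job := [
  ⟨27, 0x42e15098440e0501, 0, 32, 0x0, []⟩]

theorem t9_712_36 : jobs 8 S9 b8_712 j9_712_36 = true := by decide +kernel

noncomputable def j9_712_37 : List Job := [
  ⟨26, 0x520924a259309a4e27d008242219108a4623c2e15098440e0501, 0, 32, 0x0, []⟩]

theorem t9_712_37 : jobs 8 S9 b8_712 j9_712_37 = true := by decide +kernel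

noncomputable def j9_712_38 : List Job := [
  ⟨25, 0x520924a259309a4e27d008242219108a4623c2e15098440e0501, 0, 32, 0x0, []⟩]

theorem t9_712_38 : jobs 8 S9 b8_712 j9_712_38 = true := by decide +kernel

noncomputable def j9_712_39 : List Job := [
  ⟨24, 0x42e15098440e0501, 0, 20, 0x0, []⟩]

theorem t9_712_39 : jobs 8 S9 b8_712 j9_712_39 = true := by decide +kernel

noncomputable def j9_712_40 : List Job := [
  ⟨23, 0x42e15098440e0501, 0, 20, 0x0, []⟩]

theorem t9_712_40 : jobs 8 S9 b8_712 j9_712_40 = true := by decide +kernel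

noncomputable def j9_712_41 : List Job := [
  ⟨22, 0x520924a259309a4e27d008242219108a4623c2e15098440e0501, 0, 20, 0x0, []⟩]

theorem t9_712_41 : jobs 8 S9 b8_712 j9_712_41 = true := by decide +kernel

noncomputable def j9_712_42 : List Job := [
  ⟨21, 0x520924a259309a4e27d008242219108a4623c2e15098440e0501, 0, 20, 0x0, []⟩]

theorem t9_712_42 : jobs 8 S9 b8_712 j9_712_42 = true := by decide +kernel

noncomputable def j9_712_43 : List Job := [
  ⟨20, 0x42e15098440e0501, 0, 20, 0x0, []⟩]

theorem t9_712_43 : jobs 8 S9 b8_712 j9_712_43 = true := by decide +kernel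

noncomputable def j9_712_44 : List Job := [
  ⟨19, 0x42e15098440e0501, 0, 20, 0x0, []⟩]

theorem t9_712_44 : jobs 8 S9 b8_712 j9_712_44 = true := by decide +kernel

noncomputable def j9_712_45 : List Job := [
  ⟨18, 0x520924a259309a4e27d008242219108a4623c2e15098440e0501, 0, 20, 0x0, []⟩]

theorem t9_712_45 : jobs 8 S9 b8_712 j9_712_45 = true := by decide +kernel

noncomputable def j9_712_46 : List Job := [
  ⟨17, 0x520924a259309a4e27d008242219108a4623c2e15098440e0501, 0, 46, 0x0, []⟩]

theorem t9_712_46 : jobs 8 S9 b8_712 j9_712_46 = true := by decide +kernel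

noncomputable def j9_712_47 : List Job := [
  ⟨16, 0x601028241a110a8643a21128a45a311a8e47c381f09844180f01, 0, 128, 0x0, []⟩]

theorem t9_712_47 : jobs 8 S9 b8_712 j9_712_47 = true := by decide +kernel

noncomputable def j9_712_48 : List Job := [
  ⟨15, 0x601028241a110a8643a21128a45a311a8e47d20924a259309a4e27d008242219108a4623c381f09844180f01, 0, 128, 0x0, []⟩]

theorem t9_712_48 : jobs 8 S9 b8_712 j9_712_48 = true := by decide +kernel

noncomputable def j9_712_49 : List Job := [
  ⟨14, 0x4381f09844180f01, 0, 72, 0x0, []⟩]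

theorem t9_712_49 : jobs 8 S9 b8_712 j9_712_49 = true := by decide +kernel

noncomputable def j9_712_50 : List Job := [
  ⟨13, 0x641229249a512a964ba61329a4da713a9e4fe01028241a110a8643a21128a45a311a8e47c381f09844180f01, 0, 72, 0x0, []⟩]

theorem t9_712_50 : jobs 8 S9 b8_712 j9_712_50 = true := by decide +kernel

noncomputable def j9_712_51 : List Job := [
  ⟨12, 0x520924a259309a4e27d008242219108a4623c381f09844180f01, 0, 72, 0x0, []⟩]

theorem t9_712_51 : jobs 8 S9 b8_712 j9_712_51 = true := by decide +kernel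

noncomputable def j9_712_52 : List Job := [
  ⟨11, 0x641229249a512a964ba61329a4da713a9e4fe01028241a110a8643a21128a45a311a8e47d20924a259309a4e27d008242219108a4623c381f09844180f01, 0, 72, 0x0, []⟩]

theorem t9_712_52 : jobs 8 S9 b8_712 j9_712_52 = true := by decide +kernel

noncomputable def j9_712_53 : List Job := [
  ⟨10, 0x641229249a512a964ba61329a4da713a9e4fc361909844160901, 0, 32, 0x0, []⟩]

theorem t9_712_53 : jobs 8 S9 b8_712 j9_712_53 = true := by decide +kernel

noncomputable def j9_712_54 : List Job := [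
  ⟨9, 0x601028241a110a8643a21128a45a311a8e47c361909844160901, 0, 32, 0x0, []⟩]

theorem t9_712_54 : jobs 8 S9 b8_712 j9_712_54 = true := by decide +kernel

noncomputable def j9_712_55 : List Job := [
  ⟨8, 0x641229249a512a964ba61329a4da713a9e4fd20924a259309a4e27d008242219108a4623c361909844160901, 0, 32, 0x0, []⟩]

theorem t9_712_55 : jobs 8 S9 b8_712 j9_712_55 = true := by decide +kernel

noncomputable def j9_712_56 : List Job := [
  ⟨7, 0x601028241a110a8643a21128a45a311a8e47d20924a259309a4e27d008242219108a4623c361909844160901, 0, 32, 0x0, []⟩]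

theorem t9_712_56 : jobs 8 S9 b8_712 j9_712_56 = true := by decide +kernel

noncomputable def j9_712_57 : List Job := [
  ⟨6, 0x4361909844160901, 0, 32, 0x0, []⟩]

theorem t9_712_57 : jobs 8 S9 b8_712 j9_712_57 = true := by decide +kernel

noncomputable def j9_712_58 : List Job := [
  ⟨5, 0x641229249a512a964ba61329a4da713a9e4fe01028241a110a8643a21128a45a311a8e47c361909844160901, 0, 32, 0x0, []⟩]

theorem t9_712_58 : jobs 8 S9 b8_712 j9_712_58 = true := by decide +kernel

noncomputable def j9_712_59 : List Job := [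
  ⟨4, 0x520924a259309a4e27d008242219108a4623c361909844160901, 0, 32, 0x0, []⟩]

theorem t9_712_59 : jobs 8 S9 b8_712 j9_712_59 = true := by decide +kernel

noncomputable def j9_712_60 : List Job := [
  ⟨3, 0x641229249a512a964ba61329a4da713a9e4fe01028241a110a8643a21128a45a311a8e47d20924a259309a4e27d008242219108a4623c361909844160901, 0, 32, 0x0, []⟩]

theorem t9_712_60 : jobs 8 S9 b8_712 j9_712_60 = true := by decide +kernel

noncomputable def j9_712_61 : List Job := [
  ⟨2, 0x601028241a110a8643a21128a45a311a8e47c361909844160901, 0, 32, 0x0, []⟩]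

theorem t9_712_61 : jobs 8 S9 b8_712 j9_712_61 = true := by decide +kernel

noncomputable def j9_712_62 : List Job := [
  ⟨1, 0x601028241a110a8643a21128a45a311a8e47d20924a259309a4e27d008242219108a4623c361909844160901, 0, 32, 0x0, []⟩]

theorem t9_712_62 : jobs 8 S9 b8_712 j9_712_62 = true := by decide +kernel

noncomputable def j9_712_63 : List Job := [
  ⟨0, 0x601028241a110a8643a21128a45a311a8e47c361909844160901, 0, 32, 0x0, []⟩]

theorem t9_712_63 : jobs 8 S9 b8_712 j9_712_63 = true := by decide +kernel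

theorem d9_712 : Dn 8 S9 b8_712 := dn_of (Js := j9_712_0 ++ (j9_712_1 ++ (j9_712_2 ++ (j9_712_3 ++ (j9_712_4 ++ (j9_712_5 ++ (j9_712_6 ++ (j9_712_7 ++ (j9_712_8 ++ (j9_712_9 ++ (j9_712_10 ++ (j9_712_11 ++ (j9_712_12 ++ (j9_712_13 ++ (j9_712_14 ++ (j9_712_15 ++ (j9_712_16 ++ (j9_712_17 ++ (j9_712_18 ++ (j9_712_19 ++ (j9_712_20 ++ (j9_712_21 ++ (j9_712_22 ++ (j9_712_23 ++ (j9_712_24 ++ (j9_712_25 ++ (j9_712_26 ++ (j9_712_27 ++ (j9_712_28 ++ (j9_712_29 ++ (j9_712_30 ++ (j9_712_31 ++ (j9_712_32 ++ (j9_712_33 ++ (j9_712_34 ++ (j9_712_35 ++ (j9_712_36 ++ (j9_712_37 ++ (j9_712_38 ++ (j9_712_39 ++ (j9_712_40 ++ (j9_712_41 ++ (j9_712_42 ++ (j9_712_43 ++ (j9_712_44 ++ (j9_712_45 ++ (j9_712_46 ++ (j9_712_47 ++ (j9_712_48 ++ (j9_712_49 ++ (j9_712_50 ++ (j9_712_51 ++ (j9_712_52 ++ (j9_712_53 ++ (j9_712_54 ++ (j9_712_55 ++ (j9_712_56 ++ (j9_712_57 ++ (j9_712_58 ++ (j9_712_59 ++ (j9_712_60 ++ (j9_712_61 ++ (j9_712_62 ++ (j9_712_63 ++ []))))))))))))))))))))))))))))))))))))))))))))))))))))))))))))))))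
  (jobs_append t9_712_0 <| jobs_append t9_712_1 <| jobs_append t9_712_2 <| jobs_append t9_712_3 <| jobs_append t9_712_4 <| jobs_append t9_712_5 <| jobs_append t9_712_6 <| jobs_append t9_712_7 <| jobs_append t9_712_8 <| jobs_append t9_712_9 <| jobs_append t9_712_10 <| jobs_append t9_712_11 <| jobs_append t9_712_12 <| jobs_append t9_712_13 <| jobs_append t9_712_14 <| jobs_append t9_712_15 <| jobs_append t9_712_16 <| jobs_append t9_712_17 <| jobs_append t9_712_18 <| jobs_append t9_712_19 <| jobs_append t9_712_20 <| jobs_append t9_712_21 <| jobs_append t9_712_22 <| jobs_append t9_712_23 <| jobs_append t9_712_24 <| jobs_append t9_712_25 <| jobs_append t9_712_26 <| jobs_append t9_712_27 <| jobs_append t9_712_28 <| jobs_append t9_712_29 <| jobs_append t9_712_30 <| jobs_append t9_712_31 <| jobs_append t9_712_32 <| jobs_append t9_712_33 <| jobs_append t9_712_34 <| jobs_append t9_712_35 <| jobs_append t9_712_36 <| jobs_append t9_712_37 <| jobs_append t9_712_38 <| jobs_append t9_712_39 <| jobs_append t9_712_40 <| jobs_append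 t9_712_41 <| jobs_append t9_712_42 <| jobs_append t9_712_43 <| jobs_append t9_712_44 <| jobs_append t9_712_45 <| jobs_append t9_712_46 <| jobs_append t9_712_47 <| jobs_append t9_712_48 <| jobs_append t9_712_49 <| jobs_append t9_712_50 <| jobs_append t9_712_51 <| jobs_append t9_712_52 <| jobs_append t9_712_53 <| jobs_append t9_712_54 <| jobs_append t9_712_55 <| jobs_append t9_712_56 <| jobs_append t9_712_57 <| jobs_append t9_712_58 <| jobs_append t9_712_59 <| jobs_append t9_712_60 <| jobs_append t9_712_61 <| jobs_append t9_712_62 <| jobs_append t9_712_63 <| List.forall_mem_nil _) (by decide +kernel)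

noncomputable def j9_713_0 : List Job := [
  ⟨63, 0x601028241a110a8643a21128a45a311a8e47d008242219108a4623920924a259309a4e27cd06a361b8f07a3e1fc804222118a0522a15c381f0c06c0e0501, 0, 160, 0xa40300a80300b00300b403, []⟩]

theorem t9_713_0 : jobs 8 S9 b8_713 j9_713_0 = true := by decide +kernel

noncomputable def j9_713_1 : List Job := [
  ⟨62, 0x41e0d058240e0501, 0, 45, 0x0, []⟩]

theorem t9_713_1 : jobs 8 S9 b8_713 j9_713_1 = true := by decide +kernel

noncomputable def j9_713_2 : List Job := [
  ⟨61, 0x540a25229950aa562b960b25a2d970ba5e2fd008242219108a4623920924a259309a4e27c1e0d058240e0501, 0, 66, 0x0, []⟩]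

theorem t9_713_2 : jobs 8 S9 b8_713 j9_713_2 = true := by decide +kernel

noncomputable def j9_713_3 : List Job := [
  ⟨60, 0x641229249a512a964ba61329a4da713a9e4fe01028241a110a8643a21128a45a311a8e47d40a25229950aa562b960b25a2d970ba5e2fd008242219108a4623920924a259309a4e27c1e0d058240e0501, 0, 45, 0x0, []⟩]

theorem t9_713_3 : jobs 8 S9 b8_713 j9_713_3 = true := by decide +kernel

noncomputable def j9_713_4 : List Job := [
  ⟨59, 0x4d06a361b8f07a3e1fcc06232198e0723a1dc904a26138b05a2e17c804222118a0522a15c1e0d058240e0501, 0, 45, 0x0, []⟩]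

theorem t9_713_4 : jobs 8 S9 b8_713 j9_713_4 = true := by decide +kernel

noncomputable def j9_713_5 : List Job := [
  ⟨58, 0x540a25229950aa562b960b25a2d970ba5e2fd008242219108a4623920924a259309a4e27cd06a361b8f07a3e1fcc06232198e0723a1dc904a26138b05a2e17c804222118a0522a15c1e0d058240e0501, 0, 66, 0x0, []⟩]

theorem t9_713_5 : jobs 8 S9 b8_713 j9_713_5 = true := by decide +kernel

noncomputable def j9_713_6 : List Job := [
  ⟨57, 0x641229249a512a964ba61329a4da713a9e4fe01028241a110a8643a21128a45a311a8e47d40a25229950aa562b960b25a2d970ba5e2fd008242219108a4623920924a259309a4e27cd06a361b8f07a3e1fcc06232198e0723a1dc904a26138b05a2e17c804222118a0522a15c1e0d058240e0501, 0, 76, 0x8e01, []⟩]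

theorem t9_713_6 : jobs 8 S9 b8_713 j9_713_6 = true := by decide +kernel

noncomputable def j9_713_7 : List Job := [
  ⟨56, 0x5008242219108a4623920924a259309a4e27c1e0d058240e0501, 0, 112, 0x0, []⟩]

theorem t9_713_7 : jobs 8 S9 b8_713 j9_713_7 = true := by decide +kernel

noncomputable def j9_713_8 : List Job := [
  ⟨55, 0x641229249a512a964ba61329a4da713a9e4fe01028241a110a8643a21128a45a311a8e47d008242219108a4623920924a259309a4e27c1e0d058240e0501, 0, 112, 0x0, []⟩]

theorem t9_713_8 : jobs 8 S9 b8_713 j9_713_8 = true := by decide +kernel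

noncomputable def j9_713_9 : List Job := [
  ⟨54, 0x5008242219108a4623920924a259309a4e27cd06a361b8f07a3e1fcc06232198e0723a1dc904a26138b05a2e17c804222118a0522a15c1e0d058240e0501, 0, 112, 0x0, []⟩]

theorem t9_713_9 : jobs 8 S9 b8_713 j9_713_9 = true := by decide +kernel

noncomputable def j9_713_10 : List Job := [
  ⟨53, 0x641229249a512a964ba61329a4da713a9e4fe01028241a110a8643a21128a45a311a8e47d008242219108a4623920924a259309a4e27cd06a361b8f07a3e1fcc06232198e0723a1dc904a26138b05a2e17c804222118a0522a15c1e0d058240e0501, 0, 112, 0x0, []⟩]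

theorem t9_713_10 : jobs 8 S9 b8_713 j9_713_10 = true := by decide +kernel

noncomputable def j9_713_11 : List Job := [
  ⟨52, 0x641229249a512a964ba61329a4da713a9e4fd008242219108a4623920924a259309a4e27c1e0d058240e0501, 0, 66, 0x0, []⟩]

theorem t9_713_11 : jobs 8 S9 b8_713 j9_713_11 = true := by decide +kernel

noncomputable def j9_713_12 : List Job := [
  ⟨51, 0x601028241a110a8643a21128a45a311a8e47d008242219108a4623920924a259309a4e27c1e0d058240e0501, 0, 70, 0x0, []⟩]

theorem t9_713_12 : jobs 8 S9 b8_713 j9_713_12 = true := by decide +kernel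

noncomputable def j9_713_13 : List Job := [
  ⟨50, 0x641229249a512a964ba61329a4da713a9e4fd008242219108a4623920924a259309a4e27cd06a361b8f07a3e1fcc06232198e0723a1dc904a26138b05a2e17c804222118a0522a15c1e0d058240e0501, 0, 66, 0x0, []⟩]

theorem t9_713_13 : jobs 8 S9 b8_713 j9_713_13 = true := by decide +kernel

noncomputable def j9_713_14 : List Job := [
  ⟨49, 0x601028241a110a8643a21128a45a311a8e47d008242219108a4623920924a259309a4e27cd06a361b8f07a3e1fcc06232198e0723a1dc904a26138b05a2e17c804222118a0522a15c1e0d058240e0501, 0, 70, 0x0, []⟩]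

theorem t9_713_14 : jobs 8 S9 b8_713 j9_713_14 = true := by decide +kernel

noncomputable def j9_713_15 : List Job := [
  ⟨48, 0x4904a26138b05a2e17c804222118a0522a15c1e0d058240e0501, 0, 70, 0x0, []⟩]

theorem t9_713_15 : jobs 8 S9 b8_713 j9_713_15 = true := by decide +kernel

noncomputable def j9_713_16 : List Job := [
  ⟨47, 0x540a25229950aa562b960b25a2d970ba5e2fd008242219108a4623920924a259309a4e27c904a26138b05a2e17c804222118a0522a15c1e0d058240e0501, 0, 112, 0x0, []⟩]

theorem t9_713_16 : jobs 8 S9 b8_713 j9_713_16 = true := by decide +kernel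

noncomputable def j9_713_17 : List Job := [
  ⟨46, 0x641229249a512a964ba61329a4da713a9e4fe01028241a110a8643a21128a45a311a8e47d40a25229950aa562b960b25a2d970ba5e2fd008242219108a4623920924a259309a4e27c904a26138b05a2e17c804222118a0522a15c1e0d058240e0501, 0, 70, 0x0, []⟩]

theorem t9_713_17 : jobs 8 S9 b8_713 j9_713_17 = true := by decide +kernel

noncomputable def j9_713_18 : List Job := [
  ⟨45, 0x540a25229950aa562b960b25a2d970ba5e2fc904a26138b05a2e17c804222118a0522a15c1e0d058240e0501, 0, 112, 0x0, []⟩]

theorem t9_713_18 : jobs 8 S9 b8_713 j9_713_18 = true := by decide +kernel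

noncomputable def j9_713_19 : List Job := [
  ⟨44, 0x641229249a512a964ba61329a4da713a9e4fe01028241a110a8643a21128a45a311a8e47d40a25229950aa562b960b25a2d970ba5e2fc904a26138b05a2e17c804222118a0522a15c1e0d058240e0501, 0, 112, 0x0, []⟩]

theorem t9_713_19 : jobs 8 S9 b8_713 j9_713_19 = true := by decide +kernel

noncomputable def j9_713_20 : List Job := [
  ⟨43, 0x5008242219108a4623920924a259309a4e27c904a26138b05a2e17c804222118a0522a15c1e0d058240e0501, 0, 112, 0x0, []⟩]

theorem t9_713_20 : jobs 8 S9 b8_713 j9_713_20 = true := by decide +kernel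

noncomputable def j9_713_21 : List Job := [
  ⟨42, 0x641229249a512a964ba61329a4da713a9e4fe01028241a110a8643a21128a45a311a8e47d008242219108a4623920924a259309a4e27c904a26138b05a2e17c804222118a0522a15c1e0d058240e0501, 0, 112, 0x0, []⟩]

theorem t9_713_21 : jobs 8 S9 b8_713 j9_713_21 = true := by decide +kernel

noncomputable def j9_713_22 : List Job := [
  ⟨41, 0x641229249a512a964ba61329a4da713a9e4fd40a25229950aa562b960b25a2d970ba5e2fc904a26138b05a2e17c804222118a0522a15c1e0d058240e0501, 0, 70, 0x0, []⟩]

theorem t9_713_22 : jobs 8 S9 b8_713 j9_713_22 = true := by decide +kernel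

noncomputable def j9_713_23 : List Job := [
  ⟨40, 0x641229249a512a964ba61329a4da713a9e4fd008242219108a4623920924a259309a4e27c904a26138b05a2e17c804222118a0522a15c1e0d058240e0501, 0, 112, 0x0, []⟩]

theorem t9_713_23 : jobs 8 S9 b8_713 j9_713_23 = true := by decide +kernel

noncomputable def j9_713_24 : List Job := [
  ⟨39, 0x601028241a110a8643a21128a45a311a8e47d008242219108a4623920924a259309a4e27c904a26138b05a2e17c804222118a0522a15c1e0d058240e0501, 0, 70, 0x0, []⟩]

theorem t9_713_24 : jobs 8 S9 b8_713 j9_713_24 = true := by decide +kernel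

noncomputable def j9_713_25 : List Job := [
  ⟨38, 0x641229249a512a964ba61329a4da713a9e4fd008242219108a4623920924a259309a4e27cc06232198e0723a1dc804222118a0522a15c381f09844180f01, 0, 88, 0x0, []⟩]

theorem t9_713_25 : jobs 8 S9 b8_713 j9_713_25 = true := by decide +kernel

noncomputable def j9_713_26 : List Job := [
  ⟨37, 0x601028241a110a8643a21128a45a311a8e47d008242219108a4623920924a259309a4e27cc06232198e0723a1dc804222118a0522a15c381f09844180f01, 0, 92, 0x0, []⟩]

theorem t9_713_26 : jobs 8 S9 b8_713 j9_713_26 = true := by decide +kernel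

noncomputable def j9_713_27 : List Job := [
  ⟨36, 0x601028241a110a8643a21128a45a311a8e47cc06232198e0723a1dc804222118a0522a15c381f09844180f01, 0, 144, 0x0, []⟩]

theorem t9_713_27 : jobs 8 S9 b8_713 j9_713_27 = true := by decide +kernel

noncomputable def j9_713_28 : List Job := [
  ⟨35, 0x601028241a110a8643a21128a45a311a8e47d40a25229950aa562b960b25a2d970ba5e2fd008242219108a4623920924a259309a4e27cc06232198e0723a1dc804222118a0522a15c381f09844180f01, 0, 144, 0x0, []⟩]

theorem t9_713_28 : jobs 8 S9 b8_713 j9_713_28 = true := by decide +kernel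

noncomputable def j9_713_29 : List Job := [
  ⟨34, 0x4c06232198e0723a1dc804222118a0522a15c381f09844180f01, 0, 62, 0x0, []⟩]

theorem t9_713_29 : jobs 8 S9 b8_713 j9_713_29 = true := by decide +kernel

noncomputable def j9_713_30 : List Job := [
  ⟨33, 0x540a25229950aa562b960b25a2d970ba5e2fd008242219108a4623920924a259309a4e27cc06232198e0723a1dc804222118a0522a15c381f09844180f01, 0, 88, 0x0, []⟩]

theorem t9_713_30 : jobs 8 S9 b8_713 j9_713_30 = true := by decide +kernel

noncomputable def j9_713_31 : List Job := [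
  ⟨32, 0x641229249a512a964ba61329a4da713a9e4fe01028241a110a8643a21128a45a311a8e47d40a25229950aa562b960b25a2d970ba5e2fd008242219108a4623920924a259309a4e27cc06232198e0723a1dc804222118a0522a15c381f09844180f01, 0, 62, 0x0, []⟩]

theorem t9_713_31 : jobs 8 S9 b8_713 j9_713_31 = true := by decide +kernel

noncomputable def j9_713_32 : List Job := [
  ⟨31, 0x641229249a512a964ba61329a4da713a9e4fd008242219108a4623920924a259309a4e27c904a26138b05a2e17c804222118a0522a15c361909844160901, 0, 62, 0x6c01007001007a01, []⟩]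

theorem t9_713_32 : jobs 8 S9 b8_713 j9_713_32 = true := by decide +kernel

noncomputable def j9_713_33 : List Job := [
  ⟨30, 0x601028241a110a8643a21128a45a311a8e47d008242219108a4623920924a259309a4e27c904a26138b05a2e17c804222118a0522a15c361909844160901, 0, 70, 0x7a01007c01007e01, []⟩]

theorem t9_713_33 : jobs 8 S9 b8_713 j9_713_33 = true := by decide +kernel

noncomputable def j9_713_34 : List Job := [
  ⟨29, 0x601028241a110a8643a21128a45a311a8e47c904a26138b05a2e17c804222118a0522a15c361909844160901, 0, 112, 0xc20100c40100c60100c80100ca0100cc0100ce0100d001, []⟩]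

theorem t9_713_34 : jobs 8 S9 b8_713 j9_713_34 = true := by decide +kernel

noncomputable def j9_713_35 : List Job := [
  ⟨28, 0x601028241a110a8643a21128a45a311a8e47d40a25229950aa562b960b25a2d970ba5e2fd008242219108a4623920924a259309a4e27c904a26138b05a2e17c804222118a0522a15c361909844160901, 0, 112, 0xc40100c601, []⟩]

theorem t9_713_35 : jobs 8 S9 b8_713 j9_713_35 = true := by decide +kernel

noncomputable def j9_713_36 : List Job := [
  ⟨27, 0x4904a26138b05a2e17c804222118a0522a15c361909844160901, 0, 41, 0x4601004801004a01004c01004e01005001005201, []⟩]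

theorem t9_713_36 : jobs 8 S9 b8_713 j9_713_36 = true := by decide +kernel

noncomputable def j9_713_37 : List Job := [
  ⟨26, 0x540a25229950aa562b960b25a2d970ba5e2fd008242219108a4623920924a259309a4e27c904a26138b05a2e17c804222118a0522a15c361909844160901, 0, 62, 0x6c01006e01007a01, []⟩]

theorem t9_713_37 : jobs 8 S9 b8_713 j9_713_37 = true := by decide +kernel

noncomputable def j9_713_38 : List Job := [
  ⟨25, 0x641229249a512a964ba61329a4da713a9e4fe01028241a110a8643a21128a45a311a8e47d40a25229950aa562b960b25a2d970ba5e2fd008242219108a4623920924a259309a4e27c904a26138b05a2e17c804222118a0522a15c361909844160901, 0, 41, 0x4801, []⟩]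

theorem t9_713_38 : jobs 8 S9 b8_713 j9_713_38 = true := by decide +kernel

noncomputable def j9_713_39 : List Job := [
  ⟨24, 0x641229249a512a964ba61329a4da713a9e4fd008242219108a4623920924a259309a4e27c361909844160901, 0, 40, 0x4801004c01, []⟩]

theorem t9_713_39 : jobs 8 S9 b8_713 j9_713_39 = true := by decide +kernel

noncomputable def j9_713_40 : List Job := [
  ⟨23, 0x601028241a110a8643a21128a45a311a8e47d008242219108a4623920924a259309a4e27c361909844160901, 0, 44, 0x4e01005001, []⟩]

theorem t9_713_40 : jobs 8 S9 b8_713 j9_713_40 = true := by decide +kernel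

noncomputable def j9_713_41 : List Job := [
  ⟨22, 0x641229249a512a964ba61329a4da713a9e4fd008242219108a4623920924a259309a4e27cd06a361b8f07a3e1fcc06232198e0723a1dc904a26138b05a2e17c804222118a0522a15c361909844160901, 0, 44, 0x5001005401, []⟩]

theorem t9_713_41 : jobs 8 S9 b8_713 j9_713_41 = true := by decide +kernel

noncomputable def j9_713_42 : List Job := [
  ⟨21, 0x601028241a110a8643a21128a45a311a8e47d008242219108a4623920924a259309a4e27cd06a361b8f07a3e1fcc06232198e0723a1dc904a26138b05a2e17c804222118a0522a15c361909844160901, 0, 44, 0x4e01005001, []⟩]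

theorem t9_713_42 : jobs 8 S9 b8_713 j9_713_42 = true := by decide +kernel

noncomputable def j9_713_43 : List Job := [
  ⟨20, 0x601028241a110a8643a21128a45a311a8e47c361909844160901, 0, 64, 0x7201007401007601007801, []⟩]

theorem t9_713_43 : jobs 8 S9 b8_713 j9_713_43 = true := by decide +kernel

noncomputable def j9_713_44 : List Job := [
  ⟨19, 0x601028241a110a8643a21128a45a311a8e47d40a25229950aa562b960b25a2d970ba5e2fd008242219108a4623920924a259309a4e27c361909844160901, 0, 64, 0x7401, []⟩]

theorem t9_713_44 : jobs 8 S9 b8_713 j9_713_44 = true := by decide +kernel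

noncomputable def j9_713_45 : List Job := [
  ⟨18, 0x601028241a110a8643a21128a45a311a8e47cd06a361b8f07a3e1fcc06232198e0723a1dc904a26138b05a2e17c804222118a0522a15c361909844160901, 0, 64, 0x7201007401007601007801, []⟩]

theorem t9_713_45 : jobs 8 S9 b8_713 j9_713_45 = true := by decide +kernel

noncomputable def j9_713_46 : List Job := [
  ⟨17, 0x601028241a110a8643a21128a45a311a8e47d40a25229950aa562b960b25a2d970ba5e2fd008242219108a4623920924a259309a4e27cd06a361b8f07a3e1fcc06232198e0723a1dc904a26138b05a2e17c804222118a0522a15c361909844160901, 0, 64, 0x7401, []⟩]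

theorem t9_713_46 : jobs 8 S9 b8_713 j9_713_46 = true := by decide +kernel

noncomputable def j9_713_47 : List Job := [
  ⟨16, 0x4361909844160901, 0, 30, 0x3401003601003801003a01003c01, []⟩]

theorem t9_713_47 : jobs 8 S9 b8_713 j9_713_47 = true := by decide +kernel

noncomputable def j9_713_48 : List Job := [
  ⟨15, 0x540a25229950aa562b960b25a2d970ba5e2fd008242219108a4623920924a259309a4e27c361909844160901, 0, 40, 0x4801004a01, []⟩]

theorem t9_713_48 : jobs 8 S9 b8_713 j9_713_48 = true := by decide +kernel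

noncomputable def j9_713_49 : List Job := [
  ⟨14, 0x641229249a512a964ba61329a4da713a9e4fe01028241a110a8643a21128a45a311a8e47d40a25229950aa562b960b25a2d970ba5e2fd008242219108a4623920924a259309a4e27c361909844160901, 0, 36, 0x3e01, []⟩]

theorem t9_713_49 : jobs 8 S9 b8_713 j9_713_49 = true := by decide +kernel

noncomputable def j9_713_50 : List Job := [
  ⟨13, 0x4d06a361b8f07a3e1fcc06232198e0723a1dc904a26138b05a2e17c804222118a0522a15c361909844160901, 0, 34, 0x3c01003e01004001004201004401, []⟩]

theorem t9_713_50 : jobs 8 S9 b8_713 j9_713_50 = true := by decide +kernel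

noncomputable def j9_713_51 : List Job := [
  ⟨12, 0x540a25229950aa562b960b25a2d970ba5e2fd008242219108a4623920924a259309a4e27cd06a361b8f07a3e1fcc06232198e0723a1dc904a26138b05a2e17c804222118a0522a15c361909844160901, 0, 44, 0x5001005201, []⟩]

theorem t9_713_51 : jobs 8 S9 b8_713 j9_713_51 = true := by decide +kernel

noncomputable def j9_713_52 : List Job := [
  ⟨11, 0x641229249a512a964ba61329a4da713a9e4fe01028241a110a8643a21128a45a311a8e47d40a25229950aa562b960b25a2d970ba5e2fd008242219108a4623920924a259309a4e27cd06a361b8f07a3e1fcc06232198e0723a1dc904a26138b05a2e17c804222118a0522a15c361909844160901, 0, 68, 0x4601007c01, []⟩]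

theorem t9_713_52 : jobs 8 S9 b8_713 j9_713_52 = true := by decide +kernel

noncomputable def j9_713_53 : List Job := [
  ⟨10, 0x641229249a512a964ba61329a4da713a9e4fd008242219108a4623920924a259309a4e27cc06232198e0723a1dc804222118a0522a15c2e15098440e0501, 0, 66, 0x0, []⟩]

theorem t9_713_53 : jobs 8 S9 b8_713 j9_713_53 = true := by decide +kernel

noncomputable def j9_713_54 : List Job := [
  ⟨9, 0x601028241a110a8643a21128a45a311a8e47d008242219108a4623920924a259309a4e27cc06232198e0723a1dc804222118a0522a15c2e15098440e0501, 0, 70, 0x0, []⟩]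

theorem t9_713_54 : jobs 8 S9 b8_713 j9_713_54 = true := by decide +kernel

noncomputable def j9_713_55 : List Job := [
  ⟨8, 0x641229249a512a964ba61329a4da713a9e4fd008242219108a4623920924a259309a4e27cc464391d4c066381dc84462915c8044281542e15098440e0501, 0, 66, 0x0, []⟩]

theorem t9_713_55 : jobs 8 S9 b8_713 j9_713_55 = true := by decide +kernel

noncomputable def j9_713_56 : List Job := [
  ⟨7, 0x601028241a110a8643a21128a45a311a8e47d008242219108a4623920924a259309a4e27cc464391d4c066381dc84462915c8044281542e15098440e0501, 0, 70, 0x0, []⟩]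

theorem t9_713_56 : jobs 8 S9 b8_713 j9_713_56 = true := by decide +kernel

noncomputable def j9_713_57 : List Job := [
  ⟨6, 0x601028241a110a8643a21128a45a311a8e47cc06232198e0723a1dc84462915c8044281542e15098440e0501, 0, 192, 0x0, []⟩]

theorem t9_713_57 : jobs 8 S9 b8_713 j9_713_57 = true := by decide +kernel

noncomputable def j9_713_58 : List Job := [
  ⟨5, 0x601028241a110a8643a21128a45a311a8e47d40a25229950aa562b960b25a2d970ba5e2fd008242219108a4623920924a259309a4e27cc06232198e0723a1dc84462915c8044281542e15098440e0501, 0, 192, 0x0, []⟩]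

theorem t9_713_58 : jobs 8 S9 b8_713 j9_713_58 = true := by decide +kernel

noncomputable def j9_713_59 : List Job := [
  ⟨4, 0x4c06232198e0723a1dc804222118a0522a15c2e15098440e0501, 0, 45, 0x0, []⟩]

theorem t9_713_59 : jobs 8 S9 b8_713 j9_713_59 = true := by decide +kernel

noncomputable def j9_713_60 : List Job := [
  ⟨3, 0x540a25229950aa562b960b25a2d970ba5e2fd008242219108a4623920924a259309a4e27cc06232198e0723a1dc804222118a0522a15c2e15098440e0501, 0, 66, 0x0, []⟩]

theorem t9_713_60 : jobs 8 S9 b8_713 j9_713_60 = true := by decide +kernel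

noncomputable def j9_713_61 : List Job := [
  ⟨2, 0x641229249a512a964ba61329a4da713a9e4fe01028241a110a8643a21128a45a311a8e47d40a25229950aa562b960b25a2d970ba5e2fd008242219108a4623920924a259309a4e27cc06232198e0723a1dc804222118a0522a15c2e15098440e0501, 0, 45, 0x0, []⟩]

theorem t9_713_61 : jobs 8 S9 b8_713 j9_713_61 = true := by decide +kernel

noncomputable def j9_713_62 : List Job := [
  ⟨1, 0x4c466391dcc064381d484462915c8044281542e15098440e0501, 0, 45, 0x0, []⟩]

theorem t9_713_62 : jobs 8 S9 b8_713 j9_713_62 = true := by decide +kernel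

noncomputable def j9_713_63 : List Job := [
  ⟨0, 0x540a25229950aa562b960b25a2d970ba5e2fd008242219108a4623920924a259309a4e27cc466391dcc064381d484462915c8044281542e15098440e0501, 0, 66, 0x0, []⟩]

theorem t9_713_63 : jobs 8 S9 b8_713 j9_713_63 = true := by decide +kernel

theorem d9_713 : Dn 8 S9 b8_713 := dn_of (Js := j9_713_0 ++ (j9_713_1 ++ (j9_713_2 ++ (j9_713_3 ++ (j9_713_4 ++ (j9_713_5 ++ (j9_713_6 ++ (j9_713_7 ++ (j9_713_8 ++ (j9_713_9 ++ (j9_713_10 ++ (j9_713_11 ++ (j9_713_12 ++ (j9_713_13 ++ (j9_713_14 ++ (j9_713_15 ++ (j9_713_16 ++ (j9_713_17 ++ (j9_713_18 ++ (j9_713_19 ++ (j9_713_20 ++ (j9_713_21 ++ (j9_713_22 ++ (j9_713_23 ++ (j9_713_24 ++ (j9_713_25 ++ (j9_713_26 ++ (j9_713_27 ++ (j9_713_28 ++ (j9_713_29 ++ (j9_713_30 ++ (j9_713_31 ++ (j9_713_32 ++ (j9_713_33 ++ (j9_713_34 ++ (j9_713_35 ++ (j9_713_36 ++ (j9_713_37 ++ (j9_713_38 ++ (j9_713_39 ++ (j9_713_40 ++ (j9_713_41 ++ (j9_713_42 ++ (j9_713_43 ++ (j9_713_44 ++ (j9_713_45 ++ (j9_713_46 ++ (j9_713_47 ++ (j9_713_48 ++ (j9_713_49 ++ (j9_713_50 ++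 (j9_713_51 ++ (j9_713_52 ++ (j9_713_53 ++ (j9_713_54 ++ (j9_713_55 ++ (j9_713_56 ++ (j9_713_57 ++ (j9_713_58 ++ (j9_713_59 ++ (j9_713_60 ++ (j9_713_61 ++ (j9_713_62 ++ (j9_713_63 ++ []))))))))))))))))))))))))))))))))))))))))))))))))))))))))))))))))
  (jobs_append t9_713_0 <| jobs_append t9_713_1 <| jobs_append t9_713_2 <| jobs_append t9_713_3 <| jobs_append t9_713_4 <| jobs_append t9_713_5 <| jobs_append t9_713_6 <| jobs_append t9_713_7 <| jobs_append t9_713_8 <| jobs_append t9_713_9 <| jobs_append t9_713_10 <| jobs_append t9_713_11 <| jobs_append t9_713_12 <| jobs_append t9_713_13 <| jobs_append t9_713_14 <| jobs_append t9_713_15 <| jobs_append t9_713_16 <| jobs_append t9_713_17 <| jobs_append t9_713_18 <| jobs_append t9_713_19 <| jobs_append t9_713_20 <| jobs_append t9_713_21 <| jobs_append t9_713_22 <| jobs_append t9_713_23 <| jobs_append t9_713_24 <| jobs_append t9_713_25 <| jobs_append t9_713_26 <| jobs_append t9_713_27 <| jobs_append t9_713_28 <| jobs_append t9_713_29 <| jobs_append t9_713_30 <| jobs_append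 t9_713_31 <| jobs_append t9_713_32 <| jobs_append t9_713_33 <| jobs_append t9_713_34 <| jobs_append t9_713_35 <| jobs_append t9_713_36 <| jobs_append t9_713_37 <| jobs_append t9_713_38 <| jobs_append t9_713_39 <| jobs_append t9_713_40 <| jobs_append t9_713_41 <| jobs_append t9_713_42 <| jobs_append t9_713_43 <| jobs_append t9_713_44 <| jobs_append t9_713_45 <| jobs_append t9_713_46 <| jobs_append t9_713_47 <| jobs_append t9_713_48 <| jobs_append t9_713_49 <| jobs_append t9_713_50 <| jobs_append t9_713_51 <| jobs_append t9_713_52 <| jobs_append t9_713_53 <| jobs_append t9_713_54 <| jobs_append t9_713_55 <| jobs_append t9_713_56 <| jobs_append t9_713_57 <| jobs_append t9_713_58 <| jobs_append t9_713_59 <| jobs_append t9_713_60 <| jobs_append t9_713_61 <| jobs_append t9_713_62 <| jobs_append t9_713_63 <| List.forall_mem_nil _) (by decide +kernel)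

noncomputable def j9_714_0 : List Job := [
  ⟨63, 0x4361909844160901, 0, 24, 0x0, []⟩]

theorem t9_714_0 : jobs 8 S9 b8_714 j9_714_0 = true := by decide +kernel

noncomputable def j9_714_1 : List Job := [
  ⟨62, 0x4d06a361b8f07a3e1fcc06232198e0723a1dc904a26138b05a2e17c804222118a0522a15c361909844160901, 0, 24, 0x0, []⟩]

theorem t9_714_1 : jobs 8 S9 b8_714 j9_714_1 = true := by decide +kernel

noncomputable def j9_714_2 : List Job := [
  ⟨61, 0x4361909844160901, 0, 12, 0x0, []⟩]

theorem t9_714_2 : jobs 8 S9 b8_714 j9_714_2 = true := by decide +kernel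

noncomputable def j9_714_3 : List Job := [
  ⟨60, 0x4361909844160901, 0, 12, 0x0, []⟩]

theorem t9_714_3 : jobs 8 S9 b8_714 j9_714_3 = true := by decide +kernel

noncomputable def j9_714_4 : List Job := [
  ⟨59, 0x4d06a361b8f07a3e1fcc06232198e0723a1dc904a26138b05a2e17c804222118a0522a15c361909844160901, 0, 12, 0x0, []⟩]

theorem t9_714_4 : jobs 8 S9 b8_714 j9_714_4 = true := by decide +kernel

noncomputable def j9_714_5 : List Job := [
  ⟨58, 0x4d06a361b8f07a3e1fcc06232198e0723a1dc904a26138b05a2e17c804222118a0522a15c361909844160901, 0, 32, 0x3801003a01003c01003e01004001, []⟩]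

theorem t9_714_5 : jobs 8 S9 b8_714 j9_714_5 = true := by decide +kernel

noncomputable def j9_714_6 : List Job := [
  ⟨57, 0x4c06232198e0723a1dc804222118a0522a15c2e15098440e0501, 0, 18, 0x0, []⟩]

theorem t9_714_6 : jobs 8 S9 b8_714 j9_714_6 = true := by decide +kernel

noncomputable def j9_714_7 : List Job := [
  ⟨56, 0x4c06232198e0723a1dc804222118a0522a15c2e15098440e0501, 0, 18, 0x0, []⟩]

theorem t9_714_7 : jobs 8 S9 b8_714 j9_714_7 = true := by decide +kernel

noncomputable def j9_714_8 : List Job := [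
  ⟨55, 0x4c464381dcc066391d484462815480442915c2e15098440e0501, 0, 18, 0x0, []⟩]

theorem t9_714_8 : jobs 8 S9 b8_714 j9_714_8 = true := by decide +kernel

noncomputable def j9_714_9 : List Job := [
  ⟨54, 0x4c464391d4c066381dc84462915c8044281542e15098440e0501, 0, 18, 0x0, []⟩]

theorem t9_714_9 : jobs 8 S9 b8_714 j9_714_9 = true := by decide +kernel

noncomputable def j9_714_10 : List Job := [
  ⟨53, 0x4c06232198e0723a1dc84462915c8044281542e15098440e0501, 0, 32, 0x0, []⟩]

theorem t9_714_10 : jobs 8 S9 b8_714 j9_714_10 = true := by decide +kernel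

noncomputable def j9_714_11 : List Job := [
  ⟨52, 0x4c06232198e0723a1dc84462915c8044281542e15098440e0501, 0, 32, 0x0, []⟩]

theorem t9_714_11 : jobs 8 S9 b8_714 j9_714_11 = true := by decide +kernel

noncomputable def j9_714_12 : List Job := [
  ⟨51, 0x4c06232198e0723a1dc804222118a0522a15c2e15098440e0501, 0, 15, 0x0, []⟩]

theorem t9_714_12 : jobs 8 S9 b8_714 j9_714_12 = true := by decide +kernel

noncomputable def j9_714_13 : List Job := [
  ⟨50, 0x4c06232198e0723a1dc804222118a0522a15c2e15098440e0501, 0, 18, 0x0, []⟩]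

theorem t9_714_13 : jobs 8 S9 b8_714 j9_714_13 = true := by decide +kernel

noncomputable def j9_714_14 : List Job := [
  ⟨49, 0x4c06232198e0723a1dc804222118a0522a15c2e15098440e0501, 0, 15, 0x0, []⟩]

theorem t9_714_14 : jobs 8 S9 b8_714 j9_714_14 = true := by decide +kernel

noncomputable def j9_714_15 : List Job := [
  ⟨48, 0x4c466381d4c064391dc84462815480442915c2e15098440e0501, 0, 17, 0x0, []⟩]

theorem t9_714_15 : jobs 8 S9 b8_714 j9_714_15 = true := by decide +kernel

noncomputable def j9_714_16 : List Job := [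
  ⟨47, 0x4c466381d4c064391dc84462815480442915c2e15098440e0501, 0, 18, 0x0, []⟩]

theorem t9_714_16 : jobs 8 S9 b8_714 j9_714_16 = true := by decide +kernel

noncomputable def j9_714_17 : List Job := [
  ⟨46, 0x4c466391dcc064381d484462915c8044281542e15098440e0501, 0, 32, 0x0, []⟩]

theorem t9_714_17 : jobs 8 S9 b8_714 j9_714_17 = true := by decide +kernel

noncomputable def j9_714_18 : List Job := [
  ⟨45, 0x5008242219108a4623920924a259309a4e27cc06232198e0723a1dc804222118a0522a15c381f09844180f01, 0, 80, 0x0, []⟩]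

theorem t9_714_18 : jobs 8 S9 b8_714 j9_714_18 = true := by decide +kernel

noncomputable def j9_714_19 : List Job := [
  ⟨44, 0x5008242219108a4623920924a259309a4e27cc06232198e0723a1dc804222118a0522a15c381f09844180f01, 0, 80, 0x0, []⟩]

theorem t9_714_19 : jobs 8 S9 b8_714 j9_714_19 = true := by decide +kernel

noncomputable def j9_714_20 : List Job := [
  ⟨43, 0x4c06232198e0723a1dc804222118a0522a15c381f09844180f01, 0, 52, 0x0, []⟩]

theorem t9_714_20 : jobs 8 S9 b8_714 j9_714_20 = true := by decide +kernel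

noncomputable def j9_714_21 : List Job := [
  ⟨42, 0x540a25229950aa562b960b25a2d970ba5e2fd008242219108a4623920924a259309a4e27cc06232198e0723a1dc804222118a0522a15c381f09844180f01, 0, 52, 0x0, []⟩]

theorem t9_714_21 : jobs 8 S9 b8_714 j9_714_21 = true := by decide +kernel

noncomputable def j9_714_22 : List Job := [
  ⟨41, 0x4c06232198e0723a1dc804222118a0522a15c381f09844180f01, 0, 52, 0x0, []⟩]

theorem t9_714_22 : jobs 8 S9 b8_714 j9_714_22 = true := by decide +kernel

noncomputable def j9_714_23 : List Job := [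
  ⟨40, 0x540a25229950aa562b960b25a2d970ba5e2fd008242219108a4623920924a259309a4e27cc06232198e0723a1dc804222118a0522a15c381f09844180f01, 0, 52, 0x0, []⟩]

theorem t9_714_23 : jobs 8 S9 b8_714 j9_714_23 = true := by decide +kernel

noncomputable def j9_714_24 : List Job := [
  ⟨39, 0x5008242219108a4623920924a259309a4e27c904a26138b05a2e17c804222118a0522a15c361909844160901, 0, 32, 0x0, []⟩]

theorem t9_714_24 : jobs 8 S9 b8_714 j9_714_24 = true := by decide +kernel

noncomputable def j9_714_25 : List Job := [
  ⟨38, 0x5008242219108a4623920924a259309a4e27c904a26138b05a2e17c804222118a0522a15c361909844160901, 0, 32, 0x0, []⟩]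

theorem t9_714_25 : jobs 8 S9 b8_714 j9_714_25 = true := by decide +kernel

noncomputable def j9_714_26 : List Job := [
  ⟨37, 0x4904a26138b05a2e17c804222118a0522a15c361909844160901, 0, 20, 0x0, []⟩]

theorem t9_714_26 : jobs 8 S9 b8_714 j9_714_26 = true := by decide +kernel

noncomputable def j9_714_27 : List Job := [
  ⟨36, 0x540a25229950aa562b960b25a2d970ba5e2fd008242219108a4623920924a259309a4e27c904a26138b05a2e17c804222118a0522a15c361909844160901, 0, 20, 0x0, []⟩]

theorem t9_714_27 : jobs 8 S9 b8_714 j9_714_27 = true := by decide +kernel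

noncomputable def j9_714_28 : List Job := [
  ⟨35, 0x4904a26138b05a2e17c804222118a0522a15c361909844160901, 0, 20, 0x0, []⟩]

theorem t9_714_28 : jobs 8 S9 b8_714 j9_714_28 = true := by decide +kernel

noncomputable def j9_714_29 : List Job := [
  ⟨34, 0x540a25229950aa562b960b25a2d970ba5e2fd008242219108a4623920924a259309a4e27c904a26138b05a2e17c804222118a0522a15c361909844160901, 0, 20, 0x0, []⟩]

theorem t9_714_29 : jobs 8 S9 b8_714 j9_714_29 = true := by decide +kernel

noncomputable def j9_714_30 : List Job := [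
  ⟨33, 0x5008242219108a4623920924a259309a4e27c361909844160901, 0, 24, 0x0, []⟩]

theorem t9_714_30 : jobs 8 S9 b8_714 j9_714_30 = true := by decide +kernel

noncomputable def j9_714_31 : List Job := [
  ⟨32, 0x5008242219108a4623920924a259309a4e27cd06a361b8f07a3e1fcc06232198e0723a1dc904a26138b05a2e17c804222118a0522a15c361909844160901, 0, 24, 0x0, []⟩]

theorem t9_714_31 : jobs 8 S9 b8_714 j9_714_31 = true := by decide +kernel

noncomputable def j9_714_32 : List Job := [
  ⟨31, 0x5008242219108a4623920924a259309a4e27c361909844160901, 0, 24, 0x0, []⟩]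

theorem t9_714_32 : jobs 8 S9 b8_714 j9_714_32 = true := by decide +kernel

noncomputable def j9_714_33 : List Job := [
  ⟨30, 0x5008242219108a4623920924a259309a4e27cd06a361b8f07a3e1fcc06232198e0723a1dc904a26138b05a2e17c804222118a0522a15c361909844160901, 0, 24, 0x0, []⟩]

theorem t9_714_33 : jobs 8 S9 b8_714 j9_714_33 = true := by decide +kernel

noncomputable def j9_714_34 : List Job := [
  ⟨29, 0x4361909844160901, 0, 16, 0x0, []⟩]

theorem t9_714_34 : jobs 8 S9 b8_714 j9_714_34 = true := by decide +kernel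

noncomputable def j9_714_35 : List Job := [
  ⟨28, 0x540a25229950aa562b960b25a2d970ba5e2fd008242219108a4623920924a259309a4e27c361909844160901, 0, 16, 0x0, []⟩]

theorem t9_714_35 : jobs 8 S9 b8_714 j9_714_35 = true := by decide +kernel

noncomputable def j9_714_36 : List Job := [
  ⟨27, 0x4d06a361b8f07a3e1fcc06232198e0723a1dc904a26138b05a2e17c804222118a0522a15c361909844160901, 0, 16, 0x0, []⟩]

theorem t9_714_36 : jobs 8 S9 b8_714 j9_714_36 = true := by decide +kernel

noncomputable def j9_714_37 : List Job := [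
  ⟨26, 0x540a25229950aa562b960b25a2d970ba5e2fd008242219108a4623920924a259309a4e27cd06a361b8f07a3e1fcc06232198e0723a1dc904a26138b05a2e17c804222118a0522a15c361909844160901, 0, 16, 0x0, []⟩]

theorem t9_714_37 : jobs 8 S9 b8_714 j9_714_37 = true := by decide +kernel

noncomputable def j9_714_38 : List Job := [
  ⟨25, 0x4361909844160901, 0, 16, 0x0, []⟩]

theorem t9_714_38 : jobs 8 S9 b8_714 j9_714_38 = true := by decide +kernel

noncomputable def j9_714_39 : List Job := [
  ⟨24, 0x540a25229950aa562b960b25a2d970ba5e2fd008242219108a4623920924a259309a4e27c361909844160901, 0, 16, 0x0, []⟩]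

theorem t9_714_39 : jobs 8 S9 b8_714 j9_714_39 = true := by decide +kernel

noncomputable def j9_714_40 : List Job := [
  ⟨23, 0x4d06a361b8f07a3e1fcc06232198e0723a1dc904a26138b05a2e17c804222118a0522a15c361909844160901, 0, 16, 0x0, []⟩]

theorem t9_714_40 : jobs 8 S9 b8_714 j9_714_40 = true := by decide +kernel

noncomputable def j9_714_41 : List Job := [
  ⟨22, 0x540a25229950aa562b960b25a2d970ba5e2fd008242219108a4623920924a259309a4e27cd06a361b8f07a3e1fcc06232198e0723a1dc904a26138b05a2e17c804222118a0522a15c361909844160901, 0, 40, 0x4601004c01, []⟩]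

theorem t9_714_41 : jobs 8 S9 b8_714 j9_714_41 = true := by decide +kernel

noncomputable def j9_714_42 : List Job := [
  ⟨21, 0x5008242219108a4623920924a259309a4e27cc06232198e0723a1dc804222118a0522a15c2e15098440e0501, 0, 24, 0x0, []⟩]

theorem t9_714_42 : jobs 8 S9 b8_714 j9_714_42 = true := by decide +kernel

noncomputable def j9_714_43 : List Job := [
  ⟨20, 0x5008242219108a4623920924a259309a4e27cc06232198e0723a1dc804222118a0522a15c2e15098440e0501, 0, 24, 0x0, []⟩]

theorem t9_714_43 : jobs 8 S9 b8_714 j9_714_43 = true := by decide +kernel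

noncomputable def j9_714_44 : List Job := [
  ⟨19, 0x5008242219108a4623920924a259309a4e27cc464381dcc066391d484462815480442915c2e15098440e0501, 0, 24, 0x0, []⟩]

theorem t9_714_44 : jobs 8 S9 b8_714 j9_714_44 = true := by decide +kernel

noncomputable def j9_714_45 : List Job := [
  ⟨18, 0x5008242219108a4623920924a259309a4e27cc464391d4c066381dc84462915c8044281542e15098440e0501, 0, 24, 0x0, []⟩]

theorem t9_714_45 : jobs 8 S9 b8_714 j9_714_45 = true := by decide +kernel

noncomputable def j9_714_46 : List Job := [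
  ⟨17, 0x5008242219108a4623920924a259309a4e27cc06232198e0723a1dc84462815480442915c2e15098440e0501, 0, 32, 0x0, []⟩]

theorem t9_714_46 : jobs 8 S9 b8_714 j9_714_46 = true := by decide +kernel

noncomputable def j9_714_47 : List Job := [
  ⟨16, 0x5008242219108a4623920924a259309a4e27cc06232198e0723a1dc84462915c8044281542e15098440e0501, 0, 32, 0x0, []⟩]

theorem t9_714_47 : jobs 8 S9 b8_714 j9_714_47 = true := by decide +kernel

noncomputable def j9_714_48 : List Job := [
  ⟨15, 0x4c06232198e0723a1dc84462915c8044281542e15098440e0501, 0, 32, 0x0, []⟩]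

theorem t9_714_48 : jobs 8 S9 b8_714 j9_714_48 = true := by decide +kernel

noncomputable def j9_714_49 : List Job := [
  ⟨14, 0x540a25229950aa562b960b25a2d970ba5e2fd008242219108a4623920924a259309a4e27cc06232198e0723a1dc84462915c8044281542e15098440e0501, 0, 32, 0x0, []⟩]

theorem t9_714_49 : jobs 8 S9 b8_714 j9_714_49 = true := by decide +kernel

noncomputable def j9_714_50 : List Job := [
  ⟨13, 0x4c06232198e0723a1dc804222118a0522a15c2e15098440e0501, 0, 18, 0x0, []⟩]

theorem t9_714_50 : jobs 8 S9 b8_714 j9_714_50 = true := by decide +kernel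

noncomputable def j9_714_51 : List Job := [
  ⟨12, 0x4c06232198e0723a1dc804222118a0522a15c2e15098440e0501, 0, 18, 0x0, []⟩]

theorem t9_714_51 : jobs 8 S9 b8_714 j9_714_51 = true := by decide +kernel

noncomputable def j9_714_52 : List Job := [
  ⟨11, 0x540a25229950aa562b960b25a2d970ba5e2fd008242219108a4623920924a259309a4e27cc06232198e0723a1dc804222118a0522a15c2e15098440e0501, 0, 18, 0x0, []⟩]

theorem t9_714_52 : jobs 8 S9 b8_714 j9_714_52 = true := by decide +kernel

noncomputable def j9_714_53 : List Job := [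
  ⟨10, 0x540a25229950aa562b960b25a2d970ba5e2fd008242219108a4623920924a259309a4e27cc06232198e0723a1dc804222118a0522a15c2e15098440e0501, 0, 18, 0x0, []⟩]

theorem t9_714_53 : jobs 8 S9 b8_714 j9_714_53 = true := by decide +kernel

noncomputable def j9_714_54 : List Job := [
  ⟨9, 0x4c466381d4c064391dc84462815480442915c2e15098440e0501, 0, 18, 0x0, []⟩]

theorem t9_714_54 : jobs 8 S9 b8_714 j9_714_54 = true := by decide +kernel

noncomputable def j9_714_55 : List Job := [
  ⟨8, 0x4c466391dcc064381d484462915c8044281542e15098440e0501, 0, 18, 0x0, []⟩]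

theorem t9_714_55 : jobs 8 S9 b8_714 j9_714_55 = true := by decide +kernel

noncomputable def j9_714_56 : List Job := [
  ⟨7, 0x540a25229950aa562b960b25a2d970ba5e2fd008242219108a4623920924a259309a4e27cc466381d4c064391dc84462815480442915c2e15098440e0501, 0, 21, 0x2601, []⟩]

theorem t9_714_56 : jobs 8 S9 b8_714 j9_714_56 = true := by decide +kernel

noncomputable def j9_714_57 : List Job := [
  ⟨6, 0x540a25229950aa562b960b25a2d970ba5e2fd008242219108a4623920924a259309a4e27cc466391dcc064381d484462915c8044281542e15098440e0501, 0, 40, 0x0, []⟩]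

theorem t9_714_57 : jobs 8 S9 b8_714 j9_714_57 = true := by decide +kernel

noncomputable def j9_714_58 : List Job := [
  ⟨5, 0x4d06a361b8f07a3e1fc804222118a0522a15c381f0c06c0e0501, 0, 96, 0x8c03008e03009003, []⟩]

theorem t9_714_58 : jobs 8 S9 b8_714 j9_714_58 = true := by decide +kernel

noncomputable def j9_714_59 : List Job := [
  ⟨4, 0x540a25229950aa562b960b25a2d970ba5e2fd008242219108a4623920924a259309a4e27cd06a361b8f07a3e1fc804222118a0522a15c381f0c06c0e0501, 0, 144, 0xc60300c80300ce03, []⟩]

theorem t9_714_59 : jobs 8 S9 b8_714 j9_714_59 = true := by decide +kernel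

noncomputable def j9_714_60 : List Job := [
  ⟨3, 0x641229249a512a964ba61329a4da713a9e4fe01028241a110a8643a21128a45a311a8e47d40a25229950aa562b960b25a2d970ba5e2fd008242219108a4623920924a259309a4e27cd06a361b8f07a3e1fc804222118a0522a15c381f0c06c0e0501, 0, 96, 0x6202006602006e02, []⟩]

theorem t9_714_60 : jobs 8 S9 b8_714 j9_714_60 = true := by decide +kernel

noncomputable def j9_714_61 : List Job := [
  ⟨2, 0x5008242219108a4623920924a259309a4e27cd06a361b8f07a3e1fc804222118a0522a15c381f0c06c0e0501, 0, 256, 0x14a01014e01015a01015e01, []⟩]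

theorem t9_714_61 : jobs 8 S9 b8_714 j9_714_61 = true := by decide +kernel

noncomputable def j9_714_62 : List Job := [
  ⟨1, 0x641229249a512a964ba61329a4da713a9e4fe01028241a110a8643a21128a45a311a8e47d008242219108a4623920924a259309a4e27cd06a361b8f07a3e1fc804222118a0522a15c381f0c06c0e0501, 0, 256, 0x10a01010e01011a01011e01, []⟩]

theorem t9_714_62 : jobs 8 S9 b8_714 j9_714_62 = true := by decide +kernel

noncomputable def j9_714_63 : List Job := [
  ⟨0, 0x641229249a512a964ba61329a4da713a9e4fd008242219108a4623920924a259309a4e27cd06a361b8f07a3e1fc804222118a0522a15c381f0c06c0e0501, 0, 144, 0xc60300c80300ce03, []⟩]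

theorem t9_714_63 : jobs 8 S9 b8_714 j9_714_63 = true := by decide +kernel

theorem d9_714 : Dn 8 S9 b8_714 := dn_of (Js := j9_714_0 ++ (j9_714_1 ++ (j9_714_2 ++ (j9_714_3 ++ (j9_714_4 ++ (j9_714_5 ++ (j9_714_6 ++ (j9_714_7 ++ (j9_714_8 ++ (j9_714_9 ++ (j9_714_10 ++ (j9_714_11 ++ (j9_714_12 ++ (j9_714_13 ++ (j9_714_14 ++ (j9_714_15 ++ (j9_714_16 ++ (j9_714_17 ++ (j9_714_18 ++ (j9_714_19 ++ (j9_714_20 ++ (j9_714_21 ++ (j9_714_22 ++ (j9_714_23 ++ (j9_714_24 ++ (j9_714_25 ++ (j9_714_26 ++ (j9_714_27 ++ (j9_714_28 ++ (j9_714_29 ++ (j9_714_30 ++ (j9_714_31 ++ (j9_714_32 ++ (j9_714_33 ++ (j9_714_34 ++ (j9_714_35 ++ (j9_714_36 ++ (j9_714_37 ++ (j9_714_38 ++ (j9_714_39 ++ (j9_714_40 ++ (j9_714_41 ++ (j9_714_42 ++ (j9_714_43 ++ (j9_714_44 ++ (j9_714_45 ++ (j9_714_46 ++ (j9_714_47 ++ (j9_714_48 ++ (j9_714_49 ++ (j9_714_50 ++ (j9_714_51 ++ (j9_714_52 ++ (j9_714_53 ++ (j9_714_54 ++ (j9_714_55 ++ (j9_714_56 ++ (j9_714_57 ++ (j9_714_58 ++ (j9_714_59 ++ (j9_714_60 ++ (j9_714_61 ++ (j9_714_62 ++ (j9_714_63 ++ []))))))))))))))))))))))))))))))))))))))))))))))))))))))))))))))))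
  (jobs_append t9_714_0 <| jobs_append t9_714_1 <| jobs_append t9_714_2 <| jobs_append t9_714_3 <| jobs_append t9_714_4 <| jobs_append t9_714_5 <| jobs_append t9_714_6 <| jobs_append t9_714_7 <| jobs_append t9_714_8 <| jobs_append t9_714_9 <| jobs_append t9_714_10 <| jobs_append t9_714_11 <| jobs_append t9_714_12 <| jobs_append t9_714_13 <| jobs_append t9_714_14 <| jobs_append t9_714_15 <| jobs_append t9_714_16 <| jobs_append t9_714_17 <| jobs_append t9_714_18 <| jobs_append t9_714_19 <| jobs_append t9_714_20 <| jobs_append t9_714_21 <| jobs_append t9_714_22 <| jobs_append t9_714_23 <| jobs_append t9_714_24 <| jobs_append t9_714_25 <| jobs_append t9_714_26 <| jobs_append t9_714_27 <| jobs_append t9_714_28 <| jobs_append t9_714_29 <| jobs_append t9_714_30 <| jobs_append t9_714_31 <| jobs_append t9_714_32 <| jobs_append t9_714_33 <| jobs_append t9_714_34 <| jobs_append t9_714_35 <| jobs_append t9_714_36 <| jobs_append t9_714_37 <| jobs_append t9_714_38 <| jobs_append t9_714_39 <| jobs_append t9_714_40 <| jobs_append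 t9_714_41 <| jobs_append t9_714_42 <| jobs_append t9_714_43 <| jobs_append t9_714_44 <| jobs_append t9_714_45 <| jobs_append t9_714_46 <| jobs_append t9_714_47 <| jobs_append t9_714_48 <| jobs_append t9_714_49 <| jobs_append t9_714_50 <| jobs_append t9_714_51 <| jobs_append t9_714_52 <| jobs_append t9_714_53 <| jobs_append t9_714_54 <| jobs_append t9_714_55 <| jobs_append t9_714_56 <| jobs_append t9_714_57 <| jobs_append t9_714_58 <| jobs_append t9_714_59 <| jobs_append t9_714_60 <| jobs_append t9_714_61 <| jobs_append t9_714_62 <| jobs_append t9_714_63 <| List.forall_mem_nil _) (by decide +kernel)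

noncomputable def j9_715_0 : List Job := [
  ⟨63, 0x540a25229950aa562b960b25a2d970ba5e2fd008242219108a4623920924a259309a4e27c361909844160901, 0, 38, 0x4201004801, []⟩]

theorem t9_715_0 : jobs 8 S9 b8_715 j9_715_0 = true := by decide +kernel

noncomputable def j9_715_1 : List Job := [
  ⟨62, 0x5008242219108a4623920924a259309a4e27c2e15098440e0501, 0, 24, 0x0, []⟩]

theorem t9_715_1 : jobs 8 S9 b8_715 j9_715_1 = true := by decide +kernel

noncomputable def j9_715_2 : List Job := [
  ⟨61, 0x5008242219108a4623920924a259309a4e27c2e15098440e0501, 0, 24, 0x0, []⟩]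

theorem t9_715_2 : jobs 8 S9 b8_715 j9_715_2 = true := by decide +kernel

noncomputable def j9_715_3 : List Job := [
  ⟨60, 0x5008242219108a4623920924a259309a4e27c2e15098440e0501, 0, 24, 0x0, []⟩]

theorem t9_715_3 : jobs 8 S9 b8_715 j9_715_3 = true := by decide +kernel

noncomputable def j9_715_4 : List Job := [
  ⟨59, 0x5008242219108a4623920924a259309a4e27c2e15098440e0501, 0, 24, 0x0, []⟩]

theorem t9_715_4 : jobs 8 S9 b8_715 j9_715_4 = true := by decide +kernel

noncomputable def j9_715_5 : List Job := [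
  ⟨58, 0x5008242219108a4623920924a259309a4e27c2e15098440e0501, 0, 32, 0x0, []⟩]

theorem t9_715_5 : jobs 8 S9 b8_715 j9_715_5 = true := by decide +kernel

noncomputable def j9_715_6 : List Job := [
  ⟨57, 0x5008242219108a4623920924a259309a4e27c2e15098440e0501, 0, 32, 0x0, []⟩]

theorem t9_715_6 : jobs 8 S9 b8_715 j9_715_6 = true := by decide +kernel

noncomputable def j9_715_7 : List Job := [
  ⟨56, 0x42e15098440e0501, 0, 32, 0x0, []⟩]

theorem t9_715_7 : jobs 8 S9 b8_715 j9_715_7 = true := by decide +kernel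

noncomputable def j9_715_8 : List Job := [
  ⟨55, 0x540a25229950aa562b960b25a2d970ba5e2fd008242219108a4623920924a259309a4e27c2e15098440e0501, 0, 32, 0x0, []⟩]

theorem t9_715_8 : jobs 8 S9 b8_715 j9_715_8 = true := by decide +kernel

noncomputable def j9_715_9 : List Job := [
  ⟨54, 0x42e15098440e0501, 0, 16, 0x0, []⟩]

theorem t9_715_9 : jobs 8 S9 b8_715 j9_715_9 = true := by decide +kernel

noncomputable def j9_715_10 : List Job := [
  ⟨53, 0x42e15098440e0501, 0, 16, 0x0, []⟩]

theorem t9_715_10 : jobs 8 S9 b8_715 j9_715_10 = true := by decide +kernel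

noncomputable def j9_715_11 : List Job := [
  ⟨52, 0x540a25229950aa562b960b25a2d970ba5e2fd008242219108a4623920924a259309a4e27c2e15098440e0501, 0, 16, 0x0, []⟩]

theorem t9_715_11 : jobs 8 S9 b8_715 j9_715_11 = true := by decide +kernel

noncomputable def j9_715_12 : List Job := [
  ⟨51, 0x540a25229950aa562b960b25a2d970ba5e2fd008242219108a4623920924a259309a4e27c2e15098440e0501, 0, 16, 0x0, []⟩]

theorem t9_715_12 : jobs 8 S9 b8_715 j9_715_12 = true := by decide +kernel

noncomputable def j9_715_13 : List Job := [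
  ⟨50, 0x42e15098440e0501, 0, 16, 0x0, []⟩]

theorem t9_715_13 : jobs 8 S9 b8_715 j9_715_13 = true := by decide +kernel

noncomputable def j9_715_14 : List Job := [
  ⟨49, 0x42e15098440e0501, 0, 16, 0x0, []⟩]

theorem t9_715_14 : jobs 8 S9 b8_715 j9_715_14 = true := by decide +kernel

noncomputable def j9_715_15 : List Job := [
  ⟨48, 0x540a25229950aa562b960b25a2d970ba5e2fd008242219108a4623920924a259309a4e27c2e15098440e0501, 0, 16, 0x0, []⟩]

theorem t9_715_15 : jobs 8 S9 b8_715 j9_715_15 = true := by decide +kernel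

noncomputable def j9_715_16 : List Job := [
  ⟨47, 0x540a25229950aa562b960b25a2d970ba5e2fd008242219108a4623920924a259309a4e27c2e15098440e0501, 0, 38, 0x0, []⟩]

theorem t9_715_16 : jobs 8 S9 b8_715 j9_715_16 = true := by decide +kernel

noncomputable def j9_715_17 : List Job := [
  ⟨46, 0x641229249a512a964ba61329a4da713a9e4fd008242219108a4623920924a259309a4e27c381f09844180f01, 0, 32, 0x0, []⟩]

theorem t9_715_17 : jobs 8 S9 b8_715 j9_715_17 = true := by decide +kernel

noncomputable def j9_715_18 : List Job := [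
  ⟨45, 0x601028241a110a8643a21128a45a311a8e47d008242219108a4623920924a259309a4e27c381f09844180f01, 0, 32, 0x0, []⟩]

theorem t9_715_18 : jobs 8 S9 b8_715 j9_715_18 = true := by decide +kernel

noncomputable def j9_715_19 : List Job := [
  ⟨44, 0x601028241a110a8643a21128a45a311a8e47c381f09844180f01, 0, 48, 0x0, []⟩]

theorem t9_715_19 : jobs 8 S9 b8_715 j9_715_19 = true := by decide +kernel

noncomputable def j9_715_20 : List Job := [
  ⟨43, 0x601028241a110a8643a21128a45a311a8e47d40a25229950aa562b960b25a2d970ba5e2fd008242219108a4623920924a259309a4e27c381f09844180f01, 0, 48, 0x0, []⟩]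

theorem t9_715_20 : jobs 8 S9 b8_715 j9_715_20 = true := by decide +kernel

noncomputable def j9_715_21 : List Job := [
  ⟨42, 0x4381f09844180f01, 0, 24, 0x0, []⟩]

theorem t9_715_21 : jobs 8 S9 b8_715 j9_715_21 = true := by decide +kernel

noncomputable def j9_715_22 : List Job := [
  ⟨41, 0x540a25229950aa562b960b25a2d970ba5e2fd008242219108a4623920924a259309a4e27c381f09844180f01, 0, 32, 0x0, []⟩]

theorem t9_715_22 : jobs 8 S9 b8_715 j9_715_22 = true := by decide +kernel

noncomputable def j9_715_23 : List Job := [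
  ⟨40, 0x641229249a512a964ba61329a4da713a9e4fe01028241a110a8643a21128a45a311a8e47d40a25229950aa562b960b25a2d970ba5e2fd008242219108a4623920924a259309a4e27c381f09844180f01, 0, 24, 0x0, []⟩]

theorem t9_715_23 : jobs 8 S9 b8_715 j9_715_23 = true := by decide +kernel

noncomputable def j9_715_24 : List Job := [
  ⟨39, 0x641229249a512a964ba61329a4da713a9e4fd008242219108a4623920924a259309a4e27c361909844160901, 0, 16, 0x0, []⟩]

theorem t9_715_24 : jobs 8 S9 b8_715 j9_715_24 = true := by decide +kernel

noncomputable def j9_715_25 : List Job := [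
  ⟨38, 0x601028241a110a8643a21128a45a311a8e47d008242219108a4623920924a259309a4e27c361909844160901, 0, 16, 0x0, []⟩]

theorem t9_715_25 : jobs 8 S9 b8_715 j9_715_25 = true := by decide +kernel

noncomputable def j9_715_26 : List Job := [
  ⟨37, 0x601028241a110a8643a21128a45a311a8e47c361909844160901, 0, 24, 0x0, []⟩]

theorem t9_715_26 : jobs 8 S9 b8_715 j9_715_26 = true := by decide +kernel

noncomputable def j9_715_27 : List Job := [
  ⟨36, 0x601028241a110a8643a21128a45a311a8e47d40a25229950aa562b960b25a2d970ba5e2fd008242219108a4623920924a259309a4e27c361909844160901, 0, 24, 0x0, []⟩]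

theorem t9_715_27 : jobs 8 S9 b8_715 j9_715_27 = true := by decide +kernel

noncomputable def j9_715_28 : List Job := [
  ⟨35, 0x4361909844160901, 0, 12, 0x0, []⟩]

theorem t9_715_28 : jobs 8 S9 b8_715 j9_715_28 = true := by decide +kernel

noncomputable def j9_715_29 : List Job := [
  ⟨34, 0x540a25229950aa562b960b25a2d970ba5e2fd008242219108a4623920924a259309a4e27c361909844160901, 0, 16, 0x0, []⟩]

theorem t9_715_29 : jobs 8 S9 b8_715 j9_715_29 = true := by decide +kernel

noncomputable def j9_715_30 : List Job := [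
  ⟨33, 0x641229249a512a964ba61329a4da713a9e4fe01028241a110a8643a21128a45a311a8e47d40a25229950aa562b960b25a2d970ba5e2fd008242219108a4623920924a259309a4e27c361909844160901, 0, 12, 0x0, []⟩]

theorem t9_715_30 : jobs 8 S9 b8_715 j9_715_30 = true := by decide +kernel

noncomputable def j9_715_31 : List Job := [
  ⟨32, 0x641229249a512a964ba61329a4da713a9e4fd008242219108a4623920924a259309a4e27c361909844160901, 0, 16, 0x0, []⟩]

theorem t9_715_31 : jobs 8 S9 b8_715 j9_715_31 = true := by decide +kernel

noncomputable def j9_715_32 : List Job := [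
  ⟨31, 0x601028241a110a8643a21128a45a311a8e47d008242219108a4623920924a259309a4e27c361909844160901, 0, 16, 0x0, []⟩]

theorem t9_715_32 : jobs 8 S9 b8_715 j9_715_32 = true := by decide +kernel

noncomputable def j9_715_33 : List Job := [
  ⟨30, 0x601028241a110a8643a21128a45a311a8e47c361909844160901, 0, 24, 0x0, []⟩]

theorem t9_715_33 : jobs 8 S9 b8_715 j9_715_33 = true := by decide +kernel

noncomputable def j9_715_34 : List Job := [
  ⟨29, 0x601028241a110a8643a21128a45a311a8e47d40a25229950aa562b960b25a2d970ba5e2fd008242219108a4623920924a259309a4e27c361909844160901, 0, 24, 0x0, []⟩]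

theorem t9_715_34 : jobs 8 S9 b8_715 j9_715_34 = true := by decide +kernel

noncomputable def j9_715_35 : List Job := [
  ⟨28, 0x4361909844160901, 0, 12, 0x0, []⟩]

theorem t9_715_35 : jobs 8 S9 b8_715 j9_715_35 = true := by decide +kernel

noncomputable def j9_715_36 : List Job := [
  ⟨27, 0x540a25229950aa562b960b25a2d970ba5e2fd008242219108a4623920924a259309a4e27c361909844160901, 0, 16, 0x0, []⟩]

theorem t9_715_36 : jobs 8 S9 b8_715 j9_715_36 = true := by decide +kernel

noncomputable def j9_715_37 : List Job := [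
  ⟨26, 0x641229249a512a964ba61329a4da713a9e4fe01028241a110a8643a21128a45a311a8e47d40a25229950aa562b960b25a2d970ba5e2fd008242219108a4623920924a259309a4e27c361909844160901, 0, 33, 0x3601, []⟩]

theorem t9_715_37 : jobs 8 S9 b8_715 j9_715_37 = true := by decide +kernel

noncomputable def j9_715_38 : List Job := [
  ⟨25, 0x641229249a512a964ba61329a4da713a9e4fd008242219108a4623920924a259309a4e27c2e15098440e0501, 0, 20, 0x0, []⟩]

theorem t9_715_38 : jobs 8 S9 b8_715 j9_715_38 = true := by decide +kernel

noncomputable def j9_715_39 : List Job := [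
  ⟨24, 0x601028241a110a8643a21128a45a311a8e47d008242219108a4623920924a259309a4e27c2e15098440e0501, 0, 20, 0x0, []⟩]

theorem t9_715_39 : jobs 8 S9 b8_715 j9_715_39 = true := by decide +kernel

noncomputable def j9_715_40 : List Job := [
  ⟨23, 0x641229249a512a964ba61329a4da713a9e4fd008242219108a4623920924a259309a4e27c2e15098440e0501, 0, 20, 0x0, []⟩]

theorem t9_715_40 : jobs 8 S9 b8_715 j9_715_40 = true := by decide +kernel

noncomputable def j9_715_41 : List Job := [
  ⟨22, 0x601028241a110a8643a21128a45a311a8e47d008242219108a4623920924a259309a4e27c2e15098440e0501, 0, 20, 0x0, []⟩]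

theorem t9_715_41 : jobs 8 S9 b8_715 j9_715_41 = true := by decide +kernel

noncomputable def j9_715_42 : List Job := [
  ⟨21, 0x601028241a110a8643a21128a45a311a8e47c2e15098440e0501, 0, 32, 0x0, []⟩]

theorem t9_715_42 : jobs 8 S9 b8_715 j9_715_42 = true := by decide +kernel

noncomputable def j9_715_43 : List Job := [
  ⟨20, 0x601028241a110a8643a21128a45a311a8e47d40a25229950aa562b960b25a2d970ba5e2fd008242219108a4623920924a259309a4e27c2e15098440e0501, 0, 32, 0x0, []⟩]

theorem t9_715_43 : jobs 8 S9 b8_715 j9_715_43 = true := by decide +kernel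

noncomputable def j9_715_44 : List Job := [
  ⟨19, 0x42e15098440e0501, 0, 14, 0x0, []⟩]

theorem t9_715_44 : jobs 8 S9 b8_715 j9_715_44 = true := by decide +kernel

noncomputable def j9_715_45 : List Job := [
  ⟨18, 0x540a25229950aa562b960b25a2d970ba5e2fd008242219108a4623920924a259309a4e27c2e15098440e0501, 0, 20, 0x0, []⟩]

theorem t9_715_45 : jobs 8 S9 b8_715 j9_715_45 = true := by decide +kernel

noncomputable def j9_715_46 : List Job := [
  ⟨17, 0x641229249a512a964ba61329a4da713a9e4fe01028241a110a8643a21128a45a311a8e47d40a25229950aa562b960b25a2d970ba5e2fd008242219108a4623920924a259309a4e27c2e15098440e0501, 0, 14, 0x0, []⟩]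

theorem t9_715_46 : jobs 8 S9 b8_715 j9_715_46 = true := by decide +kernel

noncomputable def j9_715_47 : List Job := [
  ⟨16, 0x42e15098440e0501, 0, 14, 0x0, []⟩]

theorem t9_715_47 : jobs 8 S9 b8_715 j9_715_47 = true := by decide +kernel

noncomputable def j9_715_48 : List Job := [
  ⟨15, 0x540a25229950aa562b960b25a2d970ba5e2fd008242219108a4623920924a259309a4e27c2e15098440e0501, 0, 20, 0x0, []⟩]

theorem t9_715_48 : jobs 8 S9 b8_715 j9_715_48 = true := by decide +kernel

noncomputable def j9_715_49 : List Job := [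
  ⟨14, 0x641229249a512a964ba61329a4da713a9e4fe01028241a110a8643a21128a45a311a8e47d40a25229950aa562b960b25a2d970ba5e2fd008242219108a4623920924a259309a4e27c2e15098440e0501, 0, 33, 0x0, []⟩]

theorem t9_715_49 : jobs 8 S9 b8_715 j9_715_49 = true := by decide +kernel

noncomputable def j9_715_50 : List Job := [
  ⟨13, 0x4c06232198e0723a1dc804222118a0522a15c381f09844180f01, 0, 38, 0x0, []⟩]

theorem t9_715_50 : jobs 8 S9 b8_715 j9_715_50 = true := by decide +kernel

noncomputable def j9_715_51 : List Job := [
  ⟨12, 0x4c06232198e0723a1dc804222118a0522a15c381f09844180f01, 0, 38, 0x0, []⟩]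

theorem t9_715_51 : jobs 8 S9 b8_715 j9_715_51 = true := by decide +kernel

noncomputable def j9_715_52 : List Job := [
  ⟨11, 0x4c06232198e0723a1dc804222118a0522a15c381f09844180f01, 0, 80, 0x0, []⟩]

theorem t9_715_52 : jobs 8 S9 b8_715 j9_715_52 = true := by decide +kernel

noncomputable def j9_715_53 : List Job := [
  ⟨10, 0x4c06232198e0723a1dc804222118a0522a15c381f09844180f01, 0, 38, 0x0, []⟩]

theorem t9_715_53 : jobs 8 S9 b8_715 j9_715_53 = true := by decide +kernel

noncomputable def j9_715_54 : List Job := [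
  ⟨9, 0x4c06232198e0723a1dc804222118a0522a15c381f09844180f01, 0, 38, 0x0, []⟩]

theorem t9_715_54 : jobs 8 S9 b8_715 j9_715_54 = true := by decide +kernel

noncomputable def j9_715_55 : List Job := [
  ⟨8, 0x4904a26138b05a2e17c804222118a0522a15c361909844160901, 0, 14, 0x0, []⟩]

theorem t9_715_55 : jobs 8 S9 b8_715 j9_715_55 = true := by decide +kernel

noncomputable def j9_715_56 : List Job := [
  ⟨7, 0x4904a26138b05a2e17c804222118a0522a15c361909844160901, 0, 14, 0x0, []⟩]

theorem t9_715_56 : jobs 8 S9 b8_715 j9_715_56 = true := by decide +kernel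

noncomputable def j9_715_57 : List Job := [
  ⟨6, 0x4904a26138b05a2e17c804222118a0522a15c361909844160901, 0, 32, 0x0, []⟩]

theorem t9_715_57 : jobs 8 S9 b8_715 j9_715_57 = true := by decide +kernel

noncomputable def j9_715_58 : List Job := [
  ⟨5, 0x4904a26138b05a2e17c804222118a0522a15c361909844160901, 0, 14, 0x0, []⟩]

theorem t9_715_58 : jobs 8 S9 b8_715 j9_715_58 = true := by decide +kernel

noncomputable def j9_715_59 : List Job := [
  ⟨4, 0x4904a26138b05a2e17c804222118a0522a15c361909844160901, 0, 14, 0x0, []⟩]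

theorem t9_715_59 : jobs 8 S9 b8_715 j9_715_59 = true := by decide +kernel

noncomputable def j9_715_60 : List Job := [
  ⟨3, 0x4361909844160901, 0, 12, 0x0, []⟩]

theorem t9_715_60 : jobs 8 S9 b8_715 j9_715_60 = true := by decide +kernel

noncomputable def j9_715_61 : List Job := [
  ⟨2, 0x4361909844160901, 0, 12, 0x0, []⟩]

theorem t9_715_61 : jobs 8 S9 b8_715 j9_715_61 = true := by decide +kernel

noncomputable def j9_715_62 : List Job := [
  ⟨1, 0x4d06a361b8f07a3e1fcc06232198e0723a1dc904a26138b05a2e17c804222118a0522a15c361909844160901, 0, 12, 0x0, []⟩]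

theorem t9_715_62 : jobs 8 S9 b8_715 j9_715_62 = true := by decide +kernel

noncomputable def j9_715_63 : List Job := [
  ⟨0, 0x4d06a361b8f07a3e1fcc06232198e0723a1dc904a26138b05a2e17c804222118a0522a15c361909844160901, 0, 12, 0x0, []⟩]

theorem t9_715_63 : jobs 8 S9 b8_715 j9_715_63 = true := by decide +kernel

theorem d9_715 : Dn 8 S9 b8_715 := dn_of (Js := j9_715_0 ++ (j9_715_1 ++ (j9_715_2 ++ (j9_715_3 ++ (j9_715_4 ++ (j9_715_5 ++ (j9_715_6 ++ (j9_715_7 ++ (j9_715_8 ++ (j9_715_9 ++ (j9_715_10 ++ (j9_715_11 ++ (j9_715_12 ++ (j9_715_13 ++ (j9_715_14 ++ (j9_715_15 ++ (j9_715_16 ++ (j9_715_17 ++ (j9_715_18 ++ (j9_715_19 ++ (j9_715_20 ++ (j9_715_21 ++ (j9_715_22 ++ (j9_715_23 ++ (j9_715_24 ++ (j9_715_25 ++ (j9_715_26 ++ (j9_715_27 ++ (j9_715_28 ++ (j9_715_29 ++ (j9_715_30 ++ (j9_715_31 ++ (j9_715_32 ++ (j9_715_33 ++ (j9_715_34 ++ (j9_715_35 ++ (j9_715_36 ++ (j9_715_37 ++ (j9_715_38 ++ (j9_715_39 ++ (j9_715_40 ++ (j9_715_41 ++ (j9_715_42 ++ (j9_715_43 ++ (j9_715_44 ++ (j9_715_45 ++ (j9_715_46 ++ (j9_715_47 ++ (j9_715_48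 ++ (j9_715_49 ++ (j9_715_50 ++ (j9_715_51 ++ (j9_715_52 ++ (j9_715_53 ++ (j9_715_54 ++ (j9_715_55 ++ (j9_715_56 ++ (j9_715_57 ++ (j9_715_58 ++ (j9_715_59 ++ (j9_715_60 ++ (j9_715_61 ++ (j9_715_62 ++ (j9_715_63 ++ []))))))))))))))))))))))))))))))))))))))))))))))))))))))))))))))))
  (jobs_append t9_715_0 <| jobs_append t9_715_1 <| jobs_append t9_715_2 <| jobs_append t9_715_3 <| jobs_append t9_715_4 <| jobs_append t9_715_5 <| jobs_append t9_715_6 <| jobs_append t9_715_7 <| jobs_append t9_715_8 <| jobs_append t9_715_9 <| jobs_append t9_715_10 <| jobs_append t9_715_11 <| jobs_append t9_715_12 <| jobs_append t9_715_13 <| jobs_append t9_715_14 <| jobs_append t9_715_15 <| jobs_append t9_715_16 <| jobs_append t9_715_17 <| jobs_append t9_715_18 <| jobs_append t9_715_19 <| jobs_append t9_715_20 <| jobs_append t9_715_21 <| jobs_append t9_715_22 <| jobs_append t9_715_23 <| jobs_append t9_715_24 <| jobs_append t9_715_25 <| jobs_append t9_715_26 <| jobs_append t9_715_27 <| jobs_append t9_715_28 <| jobs_append t9_715_29 <| jobs_append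 t9_715_30 <| jobs_append t9_715_31 <| jobs_append t9_715_32 <| jobs_append t9_715_33 <| jobs_append t9_715_34 <| jobs_append t9_715_35 <| jobs_append t9_715_36 <| jobs_append t9_715_37 <| jobs_append t9_715_38 <| jobs_append t9_715_39 <| jobs_append t9_715_40 <| jobs_append t9_715_41 <| jobs_append t9_715_42 <| jobs_append t9_715_43 <| jobs_append t9_715_44 <| jobs_append t9_715_45 <| jobs_append t9_715_46 <| jobs_append t9_715_47 <| jobs_append t9_715_48 <| jobs_append t9_715_49 <| jobs_append t9_715_50 <| jobs_append t9_715_51 <| jobs_append t9_715_52 <| jobs_append t9_715_53 <| jobs_append t9_715_54 <| jobs_append t9_715_55 <| jobs_append t9_715_56 <| jobs_append t9_715_57 <| jobs_append t9_715_58 <| jobs_append t9_715_59 <| jobs_append t9_715_60 <| jobs_append t9_715_61 <| jobs_append t9_715_62 <| jobs_append t9_715_63 <| List.forall_mem_nil _) (by decide +kernel)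

end Cfsg.Agent.FS.N.Sw
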