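import Cfsg.Agent.FS.N.Sw.Seg
import Cfsg.Agent.FS.N.G.S9
import Cfsg.Agent.FS.N.G.L.L29
import Cfsg.Agent.FS.N.G.L.L30

/-! The filter on the pairs for the order 512, part 73 (generated; helper52, project FS) -/

set_option autoImplicit false
set_option maxRecDepth 100000
set_option Elab.async false

namespace Cfsg.Agent.FS.N.Sw

open G

noncomputable def j9_716_0 : List Job := [
  ⟨50, 0x641229249a512a964ba61329a4da713a9e4fe01028241a110a8643a21128a45a311a8e47d40a25229950aa562b960b25a2d970ba5e2fd008242219108a4623920924a259309a4e27cc46b301a4844b20124562911884160901, 0, 23, 0x0, []⟩]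

theorem t9_716_0 : jobs 8 S9 b8_716 j9_716_0 = true := by decide +kernel

noncomputable def j9_716_1 : List Job := [
  ⟨49, 0x4381f09844180f01, 0, 30, 0x0, []⟩]

theorem t9_716_1 : jobs 8 S9 b8_716 j9_716_1 = true := by decide +kernel

noncomputable def j9_716_2 : List Job := [
  ⟨48, 0x4381f09844180f01, 0, 30, 0x0, []⟩]

theorem t9_716_2 : jobs 8 S9 b8_716 j9_716_2 = true := by decide +kernel

noncomputable def j9_716_3 : List Job := [
  ⟨47, 0x4381f09844180f01, 0, 80, 0x0, []⟩]

theorem t9_716_3 : jobs 8 S9 b8_716 j9_716_3 = true := by decide +kernel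

noncomputable def j9_716_4 : List Job := [
  ⟨46, 0x4381f09844180f01, 0, 30, 0x0, []⟩]

theorem t9_716_4 : jobs 8 S9 b8_716 j9_716_4 = true := by decide +kernel

noncomputable def j9_716_5 : List Job := [
  ⟨45, 0x4381f09844180f01, 0, 38, 0x0, []⟩]

theorem t9_716_5 : jobs 8 S9 b8_716 j9_716_5 = true := by decide +kernel

noncomputable def j9_716_6 : List Job := [
  ⟨44, 0x4361909844160901, 0, 14, 0x0, []⟩]

theorem t9_716_6 : jobs 8 S9 b8_716 j9_716_6 = true := by decide +kernel

noncomputable def j9_716_7 : List Job := [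
  ⟨43, 0x4361909844160901, 0, 14, 0x0, []⟩]

theorem t9_716_7 : jobs 8 S9 b8_716 j9_716_7 = true := by decide +kernel

noncomputable def j9_716_8 : List Job := [
  ⟨42, 0x4361909844160901, 0, 32, 0x0, []⟩]

theorem t9_716_8 : jobs 8 S9 b8_716 j9_716_8 = true := by decide +kernel

noncomputable def j9_716_9 : List Job := [
  ⟨41, 0x4361909844160901, 0, 14, 0x0, []⟩]

theorem t9_716_9 : jobs 8 S9 b8_716 j9_716_9 = true := by decide +kernel

noncomputable def j9_716_10 : List Job := [
  ⟨40, 0x4361909844160901, 0, 14, 0x0, []⟩]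

theorem t9_716_10 : jobs 8 S9 b8_716 j9_716_10 = true := by decide +kernel

noncomputable def j9_716_11 : List Job := [
  ⟨39, 0x4361909844160901, 0, 16, 0x0, []⟩]

theorem t9_716_11 : jobs 8 S9 b8_716 j9_716_11 = true := by decide +kernel

noncomputable def j9_716_12 : List Job := [
  ⟨38, 0x4361909844160901, 0, 16, 0x0, []⟩]

theorem t9_716_12 : jobs 8 S9 b8_716 j9_716_12 = true := by decide +kernel

noncomputable def j9_716_13 : List Job := [
  ⟨37, 0x4361909844160901, 0, 24, 0x0, []⟩]

theorem t9_716_13 : jobs 8 S9 b8_716 j9_716_13 = true := by decide +kernel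

noncomputable def j9_716_14 : List Job := [
  ⟨36, 0x4361909844160901, 0, 24, 0x0, []⟩]

theorem t9_716_14 : jobs 8 S9 b8_716 j9_716_14 = true := by decide +kernel

noncomputable def j9_716_15 : List Job := [
  ⟨35, 0x4361909844160901, 0, 12, 0x0, []⟩]

theorem t9_716_15 : jobs 8 S9 b8_716 j9_716_15 = true := by decide +kernel

noncomputable def j9_716_16 : List Job := [
  ⟨34, 0x4361909844160901, 0, 16, 0x0, []⟩]

theorem t9_716_16 : jobs 8 S9 b8_716 j9_716_16 = true := by decide +kernel

noncomputable def j9_716_17 : List Job := [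
  ⟨33, 0x4361909844160901, 0, 29, 0x3201003401003601003801003a01, []⟩]

theorem t9_716_17 : jobs 8 S9 b8_716 j9_716_17 = true := by decide +kernel

noncomputable def j9_716_18 : List Job := [
  ⟨32, 0x42e15098440e0501, 0, 16, 0x0, []⟩]

theorem t9_716_18 : jobs 8 S9 b8_716 j9_716_18 = true := by decide +kernel

noncomputable def j9_716_19 : List Job := [
  ⟨31, 0x42e15098440e0501, 0, 16, 0x0, []⟩]

theorem t9_716_19 : jobs 8 S9 b8_716 j9_716_19 = true := by decide +kernel

noncomputable def j9_716_20 : List Job := [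
  ⟨30, 0x42e15098440e0501, 0, 16, 0x0, []⟩]

theorem t9_716_20 : jobs 8 S9 b8_716 j9_716_20 = true := by decide +kernel

noncomputable def j9_716_21 : List Job := [
  ⟨29, 0x42e15098440e0501, 0, 16, 0x0, []⟩]

theorem t9_716_21 : jobs 8 S9 b8_716 j9_716_21 = true := by decide +kernel

noncomputable def j9_716_22 : List Job := [
  ⟨28, 0x42e15098440e0501, 0, 32, 0x0, []⟩]

theorem t9_716_22 : jobs 8 S9 b8_716 j9_716_22 = true := by decide +kernel

noncomputable def j9_716_23 : List Job := [
  ⟨27, 0x42e15098440e0501, 0, 32, 0x0, []⟩]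

theorem t9_716_23 : jobs 8 S9 b8_716 j9_716_23 = true := by decide +kernel

noncomputable def j9_716_24 : List Job := [
  ⟨26, 0x42e15098440e0501, 0, 12, 0x0, []⟩]

theorem t9_716_24 : jobs 8 S9 b8_716 j9_716_24 = true := by decide +kernel

noncomputable def j9_716_25 : List Job := [
  ⟨25, 0x42e15098440e0501, 0, 16, 0x0, []⟩]

theorem t9_716_25 : jobs 8 S9 b8_716 j9_716_25 = true := by decide +kernel

noncomputable def j9_716_26 : List Job := [
  ⟨24, 0x42e15098440e0501, 0, 12, 0x0, []⟩]

theorem t9_716_26 : jobs 8 S9 b8_716 j9_716_26 = true := by decide +kernel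

noncomputable def j9_716_27 : List Job := [
  ⟨23, 0x42e15098440e0501, 0, 12, 0x0, []⟩]

theorem t9_716_27 : jobs 8 S9 b8_716 j9_716_27 = true := by decide +kernel

noncomputable def j9_716_28 : List Job := [
  ⟨22, 0x42e15098440e0501, 0, 16, 0x0, []⟩]

theorem t9_716_28 : jobs 8 S9 b8_716 j9_716_28 = true := by decide +kernel

noncomputable def j9_716_29 : List Job := [
  ⟨21, 0x42e15098440e0501, 0, 29, 0x0, []⟩]

theorem t9_716_29 : jobs 8 S9 b8_716 j9_716_29 = true := by decide +kernel

noncomputable def j9_716_30 : List Job := [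
  ⟨20, 0x5008242219108a4623920924a259309a4e27c381f09844180f01, 0, 80, 0x0, []⟩]

theorem t9_716_30 : jobs 8 S9 b8_716 j9_716_30 = true := by decide +kernel

noncomputable def j9_716_31 : List Job := [
  ⟨19, 0x5008242219108a4623920924a259309a4e27c381f09844180f01, 0, 80, 0x0, []⟩]

theorem t9_716_31 : jobs 8 S9 b8_716 j9_716_31 = true := by decide +kernel

noncomputable def j9_716_32 : List Job := [
  ⟨18, 0x4381f09844180f01, 0, 44, 0x0, []⟩]

theorem t9_716_32 : jobs 8 S9 b8_716 j9_716_32 = true := by decide +kernel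

noncomputable def j9_716_33 : List Job := [
  ⟨17, 0x540a25229950aa562b960b25a2d970ba5e2fd008242219108a4623920924a259309a4e27c381f09844180f01, 0, 44, 0x0, []⟩]

theorem t9_716_33 : jobs 8 S9 b8_716 j9_716_33 = true := by decide +kernel

noncomputable def j9_716_34 : List Job := [
  ⟨16, 0x4381f09844180f01, 0, 52, 0x0, []⟩]

theorem t9_716_34 : jobs 8 S9 b8_716 j9_716_34 = true := by decide +kernel

noncomputable def j9_716_35 : List Job := [
  ⟨15, 0x540a25229950aa562b960b25a2d970ba5e2fd008242219108a4623920924a259309a4e27c381f09844180f01, 0, 52, 0x0, []⟩]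

theorem t9_716_35 : jobs 8 S9 b8_716 j9_716_35 = true := by decide +kernel

noncomputable def j9_716_36 : List Job := [
  ⟨14, 0x5008242219108a4623920924a259309a4e27c361909844160901, 0, 32, 0x0, []⟩]

theorem t9_716_36 : jobs 8 S9 b8_716 j9_716_36 = true := by decide +kernel

noncomputable def j9_716_37 : List Job := [
  ⟨13, 0x5008242219108a4623920924a259309a4e27c361909844160901, 0, 32, 0x0, []⟩]

theorem t9_716_37 : jobs 8 S9 b8_716 j9_716_37 = true := by decide +kernel

noncomputable def j9_716_38 : List Job := [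
  ⟨12, 0x4361909844160901, 0, 20, 0x0, []⟩]

theorem t9_716_38 : jobs 8 S9 b8_716 j9_716_38 = true := by decide +kernel

noncomputable def j9_716_39 : List Job := [
  ⟨11, 0x540a25229950aa562b960b25a2d970ba5e2fd008242219108a4623920924a259309a4e27c361909844160901, 0, 20, 0x0, []⟩]

theorem t9_716_39 : jobs 8 S9 b8_716 j9_716_39 = true := by decide +kernel

noncomputable def j9_716_40 : List Job := [
  ⟨10, 0x4361909844160901, 0, 20, 0x0, []⟩]

theorem t9_716_40 : jobs 8 S9 b8_716 j9_716_40 = true := by decide +kernel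

noncomputable def j9_716_41 : List Job := [
  ⟨9, 0x540a25229950aa562b960b25a2d970ba5e2fd008242219108a4623920924a259309a4e27c361909844160901, 0, 20, 0x0, []⟩]

theorem t9_716_41 : jobs 8 S9 b8_716 j9_716_41 = true := by decide +kernel

noncomputable def j9_716_42 : List Job := [
  ⟨8, 0x5008242219108a4623920924a259309a4e27c361909844160901, 0, 24, 0x0, []⟩]

theorem t9_716_42 : jobs 8 S9 b8_716 j9_716_42 = true := by decide +kernel

noncomputable def j9_716_43 : List Job := [
  ⟨7, 0x5008242219108a4623920924a259309a4e27c361909844160901, 0, 24, 0x0, []⟩]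

theorem t9_716_43 : jobs 8 S9 b8_716 j9_716_43 = true := by decide +kernel

noncomputable def j9_716_44 : List Job := [
  ⟨6, 0x5008242219108a4623920924a259309a4e27c361909844160901, 0, 24, 0x0, []⟩]

theorem t9_716_44 : jobs 8 S9 b8_716 j9_716_44 = true := by decide +kernel

noncomputable def j9_716_45 : List Job := [
  ⟨5, 0x5008242219108a4623920924a259309a4e27c361909844160901, 0, 24, 0x0, []⟩]

theorem t9_716_45 : jobs 8 S9 b8_716 j9_716_45 = true := by decide +kernel

noncomputable def j9_716_46 : List Job := [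
  ⟨4, 0x4361909844160901, 0, 24, 0x0, []⟩]

theorem t9_716_46 : jobs 8 S9 b8_716 j9_716_46 = true := by decide +kernel

noncomputable def j9_716_47 : List Job := [
  ⟨3, 0x540a25229950aa562b960b25a2d970ba5e2fd008242219108a4623920924a259309a4e27c361909844160901, 0, 24, 0x0, []⟩]

theorem t9_716_47 : jobs 8 S9 b8_716 j9_716_47 = true := by decide +kernel

noncomputable def j9_716_48 : List Job := [
  ⟨2, 0x4361909844160901, 0, 16, 0x0, []⟩]

theorem t9_716_48 : jobs 8 S9 b8_716 j9_716_48 = true := by decide +kernel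

noncomputable def j9_716_49 : List Job := [
  ⟨1, 0x4361909844160901, 0, 16, 0x0, []⟩]

theorem t9_716_49 : jobs 8 S9 b8_716 j9_716_49 = true := by decide +kernel

noncomputable def j9_716_50 : List Job := [
  ⟨0, 0x540a25229950aa562b960b25a2d970ba5e2fd008242219108a4623920924a259309a4e27c361909844160901, 0, 16, 0x0, []⟩]

theorem t9_716_50 : jobs 8 S9 b8_716 j9_716_50 = true := by decide +kernel

theorem d9_716 : Dn 8 S9 b8_716 := dn_of (Js := j9_716_0 ++ (j9_716_1 ++ (j9_716_2 ++ (j9_716_3 ++ (j9_716_4 ++ (j9_716_5 ++ (j9_716_6 ++ (j9_716_7 ++ (j9_716_8 ++ (j9_716_9 ++ (j9_716_10 ++ (j9_716_11 ++ (j9_716_12 ++ (j9_716_13 ++ (j9_716_14 ++ (j9_716_15 ++ (j9_716_16 ++ (j9_716_17 ++ (j9_716_18 ++ (j9_716_19 ++ (j9_716_20 ++ (j9_716_21 ++ (j9_716_22 ++ (j9_716_23 ++ (j9_716_24 ++ (j9_716_25 ++ (j9_716_26 ++ (j9_716_27 ++ (j9_716_28 ++ (j9_716_29 ++ (j9_716_30 ++ (j9_716_31 ++ (j9_716_32 ++ (j9_716_33 ++ (j9_716_34 ++ (j9_716_35 ++ (j9_716_36 ++ (j9_716_37 ++ (j9_716_38 ++ (j9_716_39 ++ (j9_716_40 ++ (j9_716_41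 ++ (j9_716_42 ++ (j9_716_43 ++ (j9_716_44 ++ (j9_716_45 ++ (j9_716_46 ++ (j9_716_47 ++ (j9_716_48 ++ (j9_716_49 ++ (j9_716_50 ++ [])))))))))))))))))))))))))))))))))))))))))))))))))))
  (jobs_append t9_716_0 <| jobs_append t9_716_1 <| jobs_append t9_716_2 <| jobs_append t9_716_3 <| jobs_append t9_716_4 <| jobs_append t9_716_5 <| jobs_append t9_716_6 <| jobs_append t9_716_7 <| jobs_append t9_716_8 <| jobs_append t9_716_9 <| jobs_append t9_716_10 <| jobs_append t9_716_11 <| jobs_append t9_716_12 <| jobs_append t9_716_13 <| jobs_append t9_716_14 <| jobs_append t9_716_15 <| jobs_append t9_716_16 <| jobs_append t9_716_17 <| jobs_append t9_716_18 <| jobs_append t9_716_19 <| jobs_append t9_716_20 <| jobs_append t9_716_21 <| jobs_append t9_716_22 <| jobs_append t9_716_23 <| jobs_append t9_716_24 <| jobs_append t9_716_25 <| jobs_append t9_716_26 <| jobs_append t9_716_27 <| jobs_append t9_716_28 <| jobs_append t9_716_29 <| jobs_append t9_716_30 <| jobs_append t9_716_31 <| jobs_append t9_716_32 <| jobs_append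 t9_716_33 <| jobs_append t9_716_34 <| jobs_append t9_716_35 <| jobs_append t9_716_36 <| jobs_append t9_716_37 <| jobs_append t9_716_38 <| jobs_append t9_716_39 <| jobs_append t9_716_40 <| jobs_append t9_716_41 <| jobs_append t9_716_42 <| jobs_append t9_716_43 <| jobs_append t9_716_44 <| jobs_append t9_716_45 <| jobs_append t9_716_46 <| jobs_append t9_716_47 <| jobs_append t9_716_48 <| jobs_append t9_716_49 <| jobs_append t9_716_50 <| List.forall_mem_nil _) (by decide +kernel)

noncomputable def j9_717_0 : List Job := [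
  ⟨63, 0x508864623920924c26d00824422928964e27c4c33120c44437100d42e15098440e0501, 0, 20, 0x0, []⟩]

theorem t9_717_0 : jobs 8 S9 b8_717 j9_717_0 = true := by decide +kernel

noncomputable def j9_717_1 : List Job := [
  ⟨50, 0x4643b180e4442b100a4361909844160901, 0, 4, 0x0, []⟩]

theorem t9_717_1 : jobs 8 S9 b8_717 j9_717_1 = true := by decide +kernel

noncomputable def j9_717_2 : List Job := [
  ⟨49, 0x4643b180e4442b100a4361909844160901, 0, 14, 0x0, []⟩]

theorem t9_717_2 : jobs 8 S9 b8_717 j9_717_2 = true := by decide +kernel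

noncomputable def j9_717_3 : List Job := [
  ⟨34, 0x560b25a2d970ba5e2fd40a25229950aa562bd20924a259309a4e27d008242219108a4623c6437180d44427100942e15098440e0501, 0, 4, 0x0, []⟩]

theorem t9_717_3 : jobs 8 S9 b8_717 j9_717_3 = true := by decide +kernel

noncomputable def j9_717_4 : List Job := [
  ⟨33, 0x560b25a2d970ba5e2fd40a25229950aa562bd20924a259309a4e27d008242219108a4623c6437180d44427100942e15098440e0501, 0, 16, 0x0, []⟩]

theorem t9_717_4 : jobs 8 S9 b8_717 j9_717_4 = true := by decide +kernel

noncomputable def j9_717_5 : List Job := [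
  ⟨9, 0x641229249a512a964ba61329a4da713a9e4fe01028241a110a8643a21128a45a311a8e47d40a25229950aa562b960b25a2d970ba5e2fd008242219108a4623920924a259309a4e27ce0723a1d8f07a3e1fcc06232198d06a361bca0522a158b05a2e17c804222118904a2613c663111884261101, 0, 24, 0x210000810000a10001411001a10002010002601, []⟩]

theorem t9_717_5 : jobs 8 S9 b8_717 j9_717_5 = true := by decide +kernel

theorem d9_717 : Dn 8 S9 b8_717 := dn_of (Js := j9_717_0 ++ (j9_717_1 ++ (j9_717_2 ++ (j9_717_3 ++ (j9_717_4 ++ (j9_717_5 ++ []))))))
  (jobs_append t9_717_0 <| jobs_append t9_717_1 <| jobs_append t9_717_2 <| jobs_append t9_717_3 <| jobs_append t9_717_4 <| jobs_append t9_717_5 <| List.forall_mem_nil _) (by decide +kernel)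

noncomputable def j9_718_0 : List Job := [
  ⟨63, 0x528964e27d20924c26d08864623d00824422c60321a0dc40221209c2e15098440e0501, 0, 32, 0x0, []⟩]

theorem t9_718_0 : jobs 8 S9 b8_718 j9_718_0 = true := by decide +kernel

noncomputable def j9_718_1 : List Job := [
  ⟨62, 0x560b25a2d970ba5e2fd40a25229950aa562bc60321a0dc40221209c2e15098440e0501, 0, 32, 0x0, []⟩]

theorem t9_718_1 : jobs 8 S9 b8_718 j9_718_1 = true := by decide +kernel

noncomputable def j9_718_2 : List Job := [
  ⟨61, 0x560b25a2d970ba5e2fd40a25229950aa562bc60321a0dc40221209c2e15098440e0501, 0, 32, 0x0, []⟩]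

theorem t9_718_2 : jobs 8 S9 b8_718 j9_718_2 = true := by decide +kernel

noncomputable def j9_718_3 : List Job := [
  ⟨60, 0x528964e27d20924c26d08864623d00824422c60321a0dc40221209c2e15098440e0501, 0, 32, 0x0, []⟩]

theorem t9_718_3 : jobs 8 S9 b8_718 j9_718_3 = true := by decide +kernel

noncomputable def j9_718_4 : List Job := [
  ⟨59, 0x528964e27d20924c26d08864623d00824422c60321a0dc40221209c2e15098440e0501, 0, 32, 0x0, []⟩]

theorem t9_718_4 : jobs 8 S9 b8_718 j9_718_4 = true := by decide +kernel

noncomputable def j9_718_5 : List Job := [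
  ⟨58, 0x560b25a2d970ba5e2fd40a25229950aa562bc60321a0dc40221209c2e15098440e0501, 0, 32, 0x0, []⟩]

theorem t9_718_5 : jobs 8 S9 b8_718 j9_718_5 = true := by decide +kernel

noncomputable def j9_718_6 : List Job := [
  ⟨57, 0x560b25a2d970ba5e2fd40a25229950aa562bc60321a0dc40221209c2e15098440e0501, 0, 32, 0x0, []⟩]

theorem t9_718_6 : jobs 8 S9 b8_718 j9_718_6 = true := by decide +kernel

noncomputable def j9_718_7 : List Job := [
  ⟨56, 0x528964e27d20924c26d08864623d00824422c60321a0dc40221209c2e15098440e0501, 0, 32, 0x0, []⟩]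

theorem t9_718_7 : jobs 8 S9 b8_718 j9_718_7 = true := by decide +kernel

noncomputable def j9_718_8 : List Job := [
  ⟨55, 0x528964e27d20924c26d08864623d00824422c60321a0dc40221209c2e15098440e0501, 0, 32, 0x0, []⟩]

theorem t9_718_8 : jobs 8 S9 b8_718 j9_718_8 = true := by decide +kernel

noncomputable def j9_718_9 : List Job := [
  ⟨54, 0x460321a0dc40221209c2e15098440e0501, 0, 32, 0x0, []⟩]

theorem t9_718_9 : jobs 8 S9 b8_718 j9_718_9 = true := by decide +kernel

noncomputable def j9_718_10 : List Job := [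
  ⟨53, 0x460321a0dc40221209c2e15098440e0501, 0, 32, 0x0, []⟩]

theorem t9_718_10 : jobs 8 S9 b8_718 j9_718_10 = true := by decide +kernel

noncomputable def j9_718_11 : List Job := [
  ⟨52, 0x560b25a2d970ba5e2fd40a25229950aa562bd28964e27d20924c26d08864623d00824422c60321a0dc40221209c2e15098440e0501, 0, 32, 0x0, []⟩]

theorem t9_718_11 : jobs 8 S9 b8_718 j9_718_11 = true := by decide +kernel

noncomputable def j9_718_12 : List Job := [
  ⟨51, 0x560b25a2d970ba5e2fd40a25229950aa562bd28964e27d20924c26d08864623d00824422c60321a0dc40221209c2e15098440e0501, 0, 32, 0x0, []⟩]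

theorem t9_718_12 : jobs 8 S9 b8_718 j9_718_12 = true := by decide +kernel

noncomputable def j9_718_13 : List Job := [
  ⟨50, 0x460321a0dc40221209c2e15098440e0501, 0, 32, 0x0, []⟩]

theorem t9_718_13 : jobs 8 S9 b8_718 j9_718_13 = true := by decide +kernel

noncomputable def j9_718_14 : List Job := [
  ⟨49, 0x460321a0dc40221209c2e15098440e0501, 0, 32, 0x0, []⟩]

theorem t9_718_14 : jobs 8 S9 b8_718 j9_718_14 = true := by decide +kernel

noncomputable def j9_718_15 : List Job := [
  ⟨48, 0x560b25a2d970ba5e2fd40a25229950aa562bd28964e27d20924c26d08864623d00824422c60321a0dc40221209c2e15098440e0501, 0, 32, 0x0, []⟩]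

theorem t9_718_15 : jobs 8 S9 b8_718 j9_718_15 = true := by decide +kernel

noncomputable def j9_718_16 : List Job := [
  ⟨47, 0x560b25a2d970ba5e2fd40a25229950aa562bd28964e27d20924c26d08864623d00824422c60321a0dc40221209c2e15098440e0501, 0, 32, 0x0, []⟩]

theorem t9_718_16 : jobs 8 S9 b8_718 j9_718_16 = true := by decide +kernel

noncomputable def j9_718_17 : List Job := [
  ⟨46, 0x46437180d44427100942e15098440e0501, 0, 32, 0x202000602000a02000e02001210001602001a02001e02002202002602002a11002e02003210003602003a02003e02, []⟩]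

theorem t9_718_17 : jobs 8 S9 b8_718 j9_718_17 = true := by decide +kernel

noncomputable def j9_718_18 : List Job := [
  ⟨45, 0x46437180d44427100942e15098440e0501, 0, 32, 0x210000602000a11000e02001210001602001a02001e02002210002602002a02002e02003202003602003a11003e02, []⟩]

theorem t9_718_18 : jobs 8 S9 b8_718 j9_718_18 = true := by decide +kernel

noncomputable def j9_718_19 : List Job := [
  ⟨44, 0x560b25a2d970ba5e2fd40a25229950aa562bd28964e27d20924c26d08864623d00824422c6437180d44427100942e15098440e0501, 0, 32, 0x200000a00001210001a02002200002a00003202003a11, [(20, ⟨2220, 0x106014d009480044020a0009000100004000001, 0x1832609022050480802⟩), (16, ⟨2219, 0x42001100c40010402040008000200000020200, 0x2240860281040102001⟩), (4, ⟨2216, 0x50011800438052000040008008280000020200, 0x22a8a21088040142001⟩), (0, ⟨2214, 0x42001100c40010402040008000200000020200, 0x2240860281040102001⟩)]⟩]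

theorem t9_718_19 : jobs 8 S9 b8_718 j9_718_19 = true := by decide +kernel

noncomputable def j9_718_20 : List Job := [
  ⟨43, 0x560b25a2d970ba5e2fd40a25229950aa562bd28964e27d20924c26d08864623d00824422c6437180d44427100942e15098440e0501, 0, 32, 0x210000a00001210001a11002210002a00003210003a11, [(20, ⟨2219, 0x106014000950044c02080008000100004000001, 0x1832009826040400802⟩), (4, ⟨2217, 0x56001b00450011402040008008280000020200, 0x22c0963299040142001⟩)]⟩]

theorem t9_718_20 : jobs 8 S9 b8_718 j9_718_20 = true := by decide +kernel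

noncomputable def j9_718_21 : List Job := [
  ⟨42, 0x46437180d44427100942e15098440e0501, 0, 32, 0x202000602000a11000e02001202001602001a02001e02002202002602002a02002e02003210003602003a02003e02, []⟩]

theorem t9_718_21 : jobs 8 S9 b8_718 j9_718_21 = true := by decide +kernel

noncomputable def j9_718_22 : List Job := [
  ⟨41, 0x46437180d44427100942e15098440e0501, 0, 32, 0x202000602000a02000e02001202001602001a11001e02002210002602002a02002e02003210003602003a02003e02, []⟩]

theorem t9_718_22 : jobs 8 S9 b8_718 j9_718_22 = true := by decide +kernel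

noncomputable def j9_718_23 : List Job := [
  ⟨40, 0x560b25a2d970ba5e2fd40a25229950aa562bd28964e27d20924c26d08864623d00824422c6437180d44427100942e15098440e0501, 0, 38, 0x200000a00001210001a11002200002a00003210003a11004a01004c01, [(20, ⟨2216, 0x2380141004ac011a0041400090000800010000001, 0x18f208982e050480802⟩), (16, ⟨2217, 0x204014d004ac00180041400090000801010000001, 0x181260982a050480802⟩), (4, ⟨2218, 0x2380141004ac011a0041400090000800010000001, 0x18f208982e050480802⟩), (0, ⟨2215, 0x8c011a00614004c0040800080001000000040400, 0x2220b62298040102001⟩)]⟩]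

theorem t9_718_23 : jobs 8 S9 b8_718 j9_718_23 = true := by decide +kernel

noncomputable def j9_718_24 : List Job := [
  ⟨39, 0x560b25a2d970ba5e2fd40a25229950aa562bd28964e27d20924c26d08864623d00824422c6437180d44427100942e15098440e0501, 0, 72, 0x210000a00001210001a11002210002a00003210003a11004210004810004a00005011005200005811005a10006010008201008801008a01009001, [(40, ⟨2212, 0x20c004e000a401120041400080040800010040001, 0x1832709424040480802⟩), (36, ⟨2213, 0x20c004e000a001120041400080040800010040001, 0x1832709024040480802⟩), (20, ⟨2214, 0x20c004800480001b0001000080000801010000001, 0x183220802e040400802⟩), (4, ⟨2215, 0x20c004800480001b0001000080000801010000001, 0x183220802e040400802⟩)]⟩]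

theorem t9_718_24 : jobs 8 S9 b8_718 j9_718_24 = true := by decide +kernel

noncomputable def j9_718_25 : List Job := [
  ⟨20, 0x508864623920924c26d00824422928964e27c4c31120cc4435100dc2e15098440e0501, 0, 4, 0x0, []⟩]

theorem t9_718_25 : jobs 8 S9 b8_718 j9_718_25 = true := by decide +kernel

noncomputable def j9_718_26 : List Job := [
  ⟨19, 0x508864623920924c26d00824422928964e27c4c33120c44437100d42e15098440e0501, 0, 20, 0x0, []⟩]

theorem t9_718_26 : jobs 8 S9 b8_718 j9_718_26 = true := by decide +kernel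

noncomputable def j9_718_27 : List Job := [
  ⟨4, 0x508864623920924c26d00824422928964e27c4c33120c44437100d42e15098440e0501, 0, 4, 0x201000401, []⟩]

theorem t9_718_27 : jobs 8 S9 b8_718 j9_718_27 = true := by decide +kernel

noncomputable def j9_718_28 : List Job := [
  ⟨3, 0x508864623920924c26d00824422928964e27c4c31120cc4435100dc2e15098440e0501, 0, 2, 0x201000401, []⟩]

theorem t9_718_28 : jobs 8 S9 b8_718 j9_718_28 = true := by decide +kernel

noncomputable def j9_718_29 : List Job := [
  ⟨0, 0x508864623920924c26d00824422928964e27c4c31120cc4435100dc2e15098440e0501, 0, 4, 0x0, []⟩]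

theorem t9_718_29 : jobs 8 S9 b8_718 j9_718_29 = true := by decide +kernel

theorem d9_718 : Dn 8 S9 b8_718 := dn_of (Js := j9_718_0 ++ (j9_718_1 ++ (j9_718_2 ++ (j9_718_3 ++ (j9_718_4 ++ (j9_718_5 ++ (j9_718_6 ++ (j9_718_7 ++ (j9_718_8 ++ (j9_718_9 ++ (j9_718_10 ++ (j9_718_11 ++ (j9_718_12 ++ (j9_718_13 ++ (j9_718_14 ++ (j9_718_15 ++ (j9_718_16 ++ (j9_718_17 ++ (j9_718_18 ++ (j9_718_19 ++ (j9_718_20 ++ (j9_718_21 ++ (j9_718_22 ++ (j9_718_23 ++ (j9_718_24 ++ (j9_718_25 ++ (j9_718_26 ++ (j9_718_27 ++ (j9_718_28 ++ (j9_718_29 ++ []))))))))))))))))))))))))))))))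
  (jobs_append t9_718_0 <| jobs_append t9_718_1 <| jobs_append t9_718_2 <| jobs_append t9_718_3 <| jobs_append t9_718_4 <| jobs_append t9_718_5 <| jobs_append t9_718_6 <| jobs_append t9_718_7 <| jobs_append t9_718_8 <| jobs_append t9_718_9 <| jobs_append t9_718_10 <| jobs_append t9_718_11 <| jobs_append t9_718_12 <| jobs_append t9_718_13 <| jobs_append t9_718_14 <| jobs_append t9_718_15 <| jobs_append t9_718_16 <| jobs_append t9_718_17 <| jobs_append t9_718_18 <| jobs_append t9_718_19 <| jobs_append t9_718_20 <| jobs_append t9_718_21 <| jobs_append t9_718_22 <| jobs_append t9_718_23 <| jobs_append t9_718_24 <| jobs_append t9_718_25 <| jobs_append t9_718_26 <| jobs_append t9_718_27 <| jobs_append t9_718_28 <| jobs_append t9_718_29 <| List.forall_mem_nil _) (by decide +kernel)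

noncomputable def j9_719_0 : List Job := [
  ⟨63, 0x460321a0dc40221209c2e15098440e0501, 0, 32, 0x0, []⟩]

theorem t9_719_0 : jobs 8 S9 b8_719 j9_719_0 = true := by decide +kernel

noncomputable def j9_719_1 : List Job := [
  ⟨62, 0x520924a259309a4e27d008242219108a4623c60321a0dc40221209c2e15098440e0501, 0, 32, 0x0, []⟩]

theorem t9_719_1 : jobs 8 S9 b8_719 j9_719_1 = true := by decide +kernel

noncomputable def j9_719_2 : List Job := [
  ⟨61, 0x520924a259309a4e27d008242219108a4623c60321a0dc40221209c2e15098440e0501, 0, 32, 0x0, []⟩]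

theorem t9_719_2 : jobs 8 S9 b8_719 j9_719_2 = true := by decide +kernel

noncomputable def j9_719_3 : List Job := [
  ⟨60, 0x460321a0dc40221209c2e15098440e0501, 0, 32, 0x0, []⟩]

theorem t9_719_3 : jobs 8 S9 b8_719 j9_719_3 = true := by decide +kernel

noncomputable def j9_719_4 : List Job := [
  ⟨59, 0x460321a0dc40221209c2e15098440e0501, 0, 32, 0x0, []⟩]

theorem t9_719_4 : jobs 8 S9 b8_719 j9_719_4 = true := by decide +kernel

noncomputable def j9_719_5 : List Job := [
  ⟨58, 0x520924a259309a4e27d008242219108a4623c60321a0dc40221209c2e15098440e0501, 0, 32, 0x0, []⟩]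

theorem t9_719_5 : jobs 8 S9 b8_719 j9_719_5 = true := by decide +kernel

noncomputable def j9_719_6 : List Job := [
  ⟨57, 0x520924a259309a4e27d008242219108a4623c60321a0dc40221209c2e15098440e0501, 0, 32, 0x0, []⟩]

theorem t9_719_6 : jobs 8 S9 b8_719 j9_719_6 = true := by decide +kernel

noncomputable def j9_719_7 : List Job := [
  ⟨56, 0x460321a0dc40221209c2e15098440e0501, 0, 32, 0x0, []⟩]

theorem t9_719_7 : jobs 8 S9 b8_719 j9_719_7 = true := by decide +kernel

noncomputable def j9_719_8 : List Job := [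
  ⟨55, 0x460321a0dc40221209c2e15098440e0501, 0, 32, 0x0, []⟩]

theorem t9_719_8 : jobs 8 S9 b8_719 j9_719_8 = true := by decide +kernel

noncomputable def j9_719_9 : List Job := [
  ⟨54, 0x520924a259309a4e27d008242219108a4623c60321a0dc40221209c2e15098440e0501, 0, 32, 0x0, []⟩]

theorem t9_719_9 : jobs 8 S9 b8_719 j9_719_9 = true := by decide +kernel

noncomputable def j9_719_10 : List Job := [
  ⟨53, 0x520924a259309a4e27d008242219108a4623c60321a0dc40221209c2e15098440e0501, 0, 32, 0x0, []⟩]

theorem t9_719_10 : jobs 8 S9 b8_719 j9_719_10 = true := by decide +kernel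

noncomputable def j9_719_11 : List Job := [
  ⟨52, 0x46437180d44427100942e15098440e0501, 0, 32, 0x202000602000a02000e02001202001602001a02001e02002202002602002a02002e02003202003602003a02003e02, []⟩]

theorem t9_719_11 : jobs 8 S9 b8_719 j9_719_11 = true := by decide +kernel

noncomputable def j9_719_12 : List Job := [
  ⟨51, 0x46437180d44427100942e15098440e0501, 0, 32, 0x202000613000a11000e02001202001602001a02001e11002202002602002a02002e02003202003602003a02003e02, []⟩]

theorem t9_719_12 : jobs 8 S9 b8_719 j9_719_12 = true := by decide +kernel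

noncomputable def j9_719_13 : List Job := [
  ⟨50, 0x520924a259309a4e27d008242219108a4623c6437180d44427100942e15098440e0501, 0, 32, 0x202000602000a02000e02001202001602001a02001e02002202002602002a02002e02003202003602003a02003e02, []⟩]

theorem t9_719_13 : jobs 8 S9 b8_719 j9_719_13 = true := by decide +kernel

noncomputable def j9_719_14 : List Job := [
  ⟨49, 0x520924a259309a4e27d008242219108a4623c6437180d44427100942e15098440e0501, 0, 32, 0x202000602000a02000e02001202001602001a02001e02002202002602002a02002e02003202003602003a02003e02, []⟩]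

theorem t9_719_14 : jobs 8 S9 b8_719 j9_719_14 = true := by decide +kernel

noncomputable def j9_719_15 : List Job := [
  ⟨48, 0x46437180d44427100942e15098440e0501, 0, 32, 0x202000602000a02000e02001202001602001a02001e02002202002602002a02002e02003202003602003a02003e02, []⟩]

theorem t9_719_15 : jobs 8 S9 b8_719 j9_719_15 = true := by decide +kernel

noncomputable def j9_719_16 : List Job := [
  ⟨47, 0x46437180d44427100942e15098440e0501, 0, 32, 0x202000613000a11000e02001202001602001a02001e13002202002602002a02002e02003202003602003a02003e02, []⟩]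

theorem t9_719_16 : jobs 8 S9 b8_719 j9_719_16 = true := by decide +kernel

noncomputable def j9_719_17 : List Job := [
  ⟨46, 0x520924a259309a4e27d008242219108a4623c6437180d44427100942e15098440e0501, 0, 38, 0x202000602000a02000e02001202001602001a02001e02002202002602002a02002e02003202003602003a02003e02004a01004c01, []⟩]

theorem t9_719_17 : jobs 8 S9 b8_719 j9_719_17 = true := by decide +kernel

noncomputable def j9_719_18 : List Job := [
  ⟨45, 0x520924a259309a4e27d008242219108a4623c6437180d44427100942e15098440e0501, 0, 72, 0x202000602000a02000e02001202001602001a02001e02002202002602002a02002e02003202003602003a02003e02008210008411008611008811, []⟩]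

theorem t9_719_18 : jobs 8 S9 b8_719 j9_719_18 = true := by decide +kernel

noncomputable def j9_719_19 : List Job := [
  ⟨14, 0x4643b180e4442b100a4361909844160901, 0, 4, 0x0, []⟩]

theorem t9_719_19 : jobs 8 S9 b8_719 j9_719_19 = true := by decide +kernel

noncomputable def j9_719_20 : List Job := [
  ⟨13, 0x4643b180e4442b100a4361909844160901, 0, 32, 0x0, []⟩]

theorem t9_719_20 : jobs 8 S9 b8_719 j9_719_20 = true := by decide +kernel

noncomputable def j9_719_21 : List Job := [
  ⟨12, 0x528964e27d08864623c60321a0dc40221209c381f09844180f01, 0, 64, 0x2402002802003010003802005402005802005c10006002, []⟩]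

theorem t9_719_21 : jobs 8 S9 b8_719 j9_719_21 = true := by decide +kernel

noncomputable def j9_719_22 : List Job := [
  ⟨11, 0x560b25a2d970ba5e2fd40a25229950aa562bd20924c26d00824422c60321a0dc40221209c381f09844180f01, 0, 72, 0x210000a10001200001a11002210004600004e11, [(34, ⟨2218, 0x40001300c40010000060008000200004000201, 0x3240820091040102402⟩), (8, ⟨2220, 0x40001300c40010000060008000200004000201, 0x3240820091040102402⟩)]⟩]

theorem t9_719_22 : jobs 8 S9 b8_719 j9_719_22 = true := by decide +kernel

noncomputable def j9_719_23 : List Job := [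
  ⟨10, 0x528964e27d08864623c60321a0dc40221209c381f09844180f01, 0, 64, 0x2602002e11003402003802005202005602005c02006002, []⟩]

theorem t9_719_23 : jobs 8 S9 b8_719 j9_719_23 = true := by decide +kernel

noncomputable def j9_719_24 : List Job := [
  ⟨9, 0x528964e27d08864623c60321a0dc40221209c381f09844180f01, 0, 128, 0x281300301300381200401200681300701300781200801200820300920300a20300b20300c21000d20300e21000f203, []⟩]

theorem t9_719_24 : jobs 8 S9 b8_719 j9_719_24 = true := by decide +kernel

noncomputable def j9_719_25 : List Job := [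
  ⟨8, 0x560b25a2d970ba5e2fd40a25229950aa562bd20924c26d00824422c60321a0dc40221209c381f09844180f01, 0, 128, 0x200000a12001200001a13002210003210004200004a12005200005a13006203007210, [(40, ⟨2215, 0x40001300c40010000060008000200004000201, 0x3240820091040102402⟩), (32, ⟨2217, 0x40001300c40010000060008000200004000201, 0x3240820091040102402⟩), (8, ⟨2219, 0x40001300c40010000060008000200004000201, 0x3240820091040102402⟩), (0, ⟨2214, 0x100004c001180048000a0109000100004020200, 0x3802648825048480801⟩)]⟩]

theorem t9_719_25 : jobs 8 S9 b8_719 j9_719_25 = true := by decide +kernel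

noncomputable def j9_719_26 : List Job := [
  ⟨7, 0x560b25a2d970ba5e2fd40a25229950aa562bd20924c26d00824422c60321a0dc40221209c381f09844180f01, 0, 72, 0x210000a10001200001a11002e10003e10004602, [(8, ⟨2216, 0x40001300c40010000060008000200004000201, 0x3240820091040102402⟩)]⟩]

theorem t9_719_26 : jobs 8 S9 b8_719 j9_719_26 = true := by decide +kernel

noncomputable def j9_719_27 : List Job := [
  ⟨6, 0x560b25a2d970ba5e2fd40a25229950aa562bc60321a0dc40221209c2e15098440e0501, 0, 32, 0x0, []⟩]

theorem t9_719_27 : jobs 8 S9 b8_719 j9_719_27 = true := by decide +kernel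

noncomputable def j9_719_28 : List Job := [
  ⟨5, 0x560b25a2d970ba5e2fd40a25229950aa562bc60321a0dc40221209c2e15098440e0501, 0, 32, 0x0, []⟩]

theorem t9_719_28 : jobs 8 S9 b8_719 j9_719_28 = true := by decide +kernel

noncomputable def j9_719_29 : List Job := [
  ⟨4, 0x528964e27d20924c26d08864623d00824422c60321a0dc40221209c2e15098440e0501, 0, 32, 0x0, []⟩]

theorem t9_719_29 : jobs 8 S9 b8_719 j9_719_29 = true := by decide +kernel

noncomputable def j9_719_30 : List Job := [
  ⟨3, 0x528964e27d20924c26d08864623d00824422c60321a0dc40221209c2e15098440e0501, 0, 32, 0x0, []⟩]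

theorem t9_719_30 : jobs 8 S9 b8_719 j9_719_30 = true := by decide +kernel

noncomputable def j9_719_31 : List Job := [
  ⟨2, 0x560b25a2d970ba5e2fd40a25229950aa562bc60321a0dc40221209c2e15098440e0501, 0, 32, 0x0, []⟩]

theorem t9_719_31 : jobs 8 S9 b8_719 j9_719_31 = true := by decide +kernel

noncomputable def j9_719_32 : List Job := [
  ⟨1, 0x560b25a2d970ba5e2fd40a25229950aa562bc60321a0dc40221209c2e15098440e0501, 0, 32, 0x0, []⟩]

theorem t9_719_32 : jobs 8 S9 b8_719 j9_719_32 = true := by decide +kernel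

noncomputable def j9_719_33 : List Job := [
  ⟨0, 0x528964e27d20924c26d08864623d00824422c60321a0dc40221209c2e15098440e0501, 0, 32, 0x0, []⟩]

theorem t9_719_33 : jobs 8 S9 b8_719 j9_719_33 = true := by decide +kernel

theorem d9_719 : Dn 8 S9 b8_719 := dn_of (Js := j9_719_0 ++ (j9_719_1 ++ (j9_719_2 ++ (j9_719_3 ++ (j9_719_4 ++ (j9_719_5 ++ (j9_719_6 ++ (j9_719_7 ++ (j9_719_8 ++ (j9_719_9 ++ (j9_719_10 ++ (j9_719_11 ++ (j9_719_12 ++ (j9_719_13 ++ (j9_719_14 ++ (j9_719_15 ++ (j9_719_16 ++ (j9_719_17 ++ (j9_719_18 ++ (j9_719_19 ++ (j9_719_20 ++ (j9_719_21 ++ (j9_719_22 ++ (j9_719_23 ++ (j9_719_24 ++ (j9_719_25 ++ (j9_719_26 ++ (j9_719_27 ++ (j9_719_28 ++ (j9_719_29 ++ (j9_719_30 ++ (j9_719_31 ++ (j9_719_32 ++ (j9_719_33 ++ []))))))))))))))))))))))))))))))))))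
  (jobs_append t9_719_0 <| jobs_append t9_719_1 <| jobs_append t9_719_2 <| jobs_append t9_719_3 <| jobs_append t9_719_4 <| jobs_append t9_719_5 <| jobs_append t9_719_6 <| jobs_append t9_719_7 <| jobs_append t9_719_8 <| jobs_append t9_719_9 <| jobs_append t9_719_10 <| jobs_append t9_719_11 <| jobs_append t9_719_12 <| jobs_append t9_719_13 <| jobs_append t9_719_14 <| jobs_append t9_719_15 <| jobs_append t9_719_16 <| jobs_append t9_719_17 <| jobs_append t9_719_18 <| jobs_append t9_719_19 <| jobs_append t9_719_20 <| jobs_append t9_719_21 <| jobs_append t9_719_22 <| jobs_append t9_719_23 <| jobs_append t9_719_24 <| jobs_append t9_719_25 <| jobs_append t9_719_26 <| jobs_append t9_719_27 <| jobs_append t9_719_28 <| jobs_append t9_719_29 <| jobs_append t9_719_30 <| jobs_append t9_719_31 <| jobs_append t9_719_32 <| jobs_append t9_719_33 <| List.forall_mem_nil _) (by decide +kernel)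

noncomputable def j9_720_0 : List Job := [
  ⟨54, 0x5108a4623920924a25d008242219309a4e27c5431140cc4439100ec361909844160901, 0, 4, 0x0, []⟩]

theorem t9_720_0 : jobs 8 S9 b8_720 j9_720_0 = true := by decide +kernel

noncomputable def j9_720_1 : List Job := [
  ⟨53, 0x5108a4623920924a25d008242219309a4e27c5433140c4443b100e4361909844160901, 0, 32, 0x0, []⟩]

theorem t9_720_1 : jobs 8 S9 b8_720 j9_720_1 = true := by decide +kernel

noncomputable def j9_720_2 : List Job := [
  ⟨52, 0x460321a0dc40221209c381f09844180f01, 0, 128, 0x20300120300220300320300420300520300620300720300821000920300a20300b21100c20300d20300e20300f203, []⟩]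

theorem t9_720_2 : jobs 8 S9 b8_720 j9_720_2 = true := by decide +kernel

noncomputable def j9_720_3 : List Job := [
  ⟨51, 0x460321a0dc40221209c381f09844180f01, 0, 128, 0x20300120300220300320300420300520300620300720300820300920300a20300b21000c20300d20300e20300f203, []⟩]

theorem t9_720_3 : jobs 8 S9 b8_720 j9_720_3 = true := by decide +kernel

noncomputable def j9_720_4 : List Job := [
  ⟨50, 0x520924a259309a4e27d008242219108a4623c60321a0dc40221209c381f09844180f01, 0, 128, 0x20300120300220300320300420300520300620300720300820300920300a20300b20300c20300d20300e20300f203, []⟩]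

theorem t9_720_4 : jobs 8 S9 b8_720 j9_720_4 = true := by decide +kernel

noncomputable def j9_720_5 : List Job := [
  ⟨49, 0x520924a259309a4e27d008242219108a4623c60321a0dc40221209c381f09844180f01, 0, 128, 0x20300120300220300320300420300520300620300720300820300920300a20300b20300c20300d20300e20300f203, []⟩]

theorem t9_720_5 : jobs 8 S9 b8_720 j9_720_5 = true := by decide +kernel

noncomputable def j9_720_6 : List Job := [
  ⟨48, 0x460321a0dc40221209c381f09844180f01, 0, 128, 0x20300120300220300320300420300520300620300720300820300920300a20300b20300c21000d20300e20300f211, []⟩]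

theorem t9_720_6 : jobs 8 S9 b8_720 j9_720_6 = true := by decide +kernel

noncomputable def j9_720_7 : List Job := [
  ⟨47, 0x460321a0dc40221209c381f09844180f01, 0, 128, 0x20300120300220300320300420300520300620300720300820300920300a20300b20300c20300d20300e20300f213, []⟩]

theorem t9_720_7 : jobs 8 S9 b8_720 j9_720_7 = true := by decide +kernel

noncomputable def j9_720_8 : List Job := [
  ⟨46, 0x520924a259309a4e27d008242219108a4623c60321a0dc40221209c381f09844180f01, 0, 128, 0x20300120300220300320300420300520300620300720300820300920300a20300b20300c20300d20300e20300f203, []⟩]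

theorem t9_720_8 : jobs 8 S9 b8_720 j9_720_8 = true := by decide +kernel

noncomputable def j9_720_9 : List Job := [
  ⟨45, 0x520924a259309a4e27d008242219108a4623c60321a0dc40221209c381f09844180f01, 0, 128, 0x20300120300220300320300420300520300620300720300820300920300a20300b20300c20300d20300e20300f203, []⟩]

theorem t9_720_9 : jobs 8 S9 b8_720 j9_720_9 = true := by decide +kernel

noncomputable def j9_720_10 : List Job := [
  ⟨44, 0x4361909844160901, 0, 32, 0x0, []⟩]

theorem t9_720_10 : jobs 8 S9 b8_720 j9_720_10 = true := by decide +kernel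

noncomputable def j9_720_11 : List Job := [
  ⟨43, 0x4361909844160901, 0, 32, 0x0, []⟩]

theorem t9_720_11 : jobs 8 S9 b8_720 j9_720_11 = true := by decide +kernel

noncomputable def j9_720_12 : List Job := [
  ⟨42, 0x520924a259309a4e27d008242219108a4623c361909844160901, 0, 32, 0x0, []⟩]

theorem t9_720_12 : jobs 8 S9 b8_720 j9_720_12 = true := by decide +kernel

noncomputable def j9_720_13 : List Job := [
  ⟨41, 0x520924a259309a4e27d008242219108a4623c361909844160901, 0, 32, 0x0, []⟩]

theorem t9_720_13 : jobs 8 S9 b8_720 j9_720_13 = true := by decide +kernel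

noncomputable def j9_720_14 : List Job := [
  ⟨40, 0x4361909844160901, 0, 32, 0x0, []⟩]

theorem t9_720_14 : jobs 8 S9 b8_720 j9_720_14 = true := by decide +kernel

noncomputable def j9_720_15 : List Job := [
  ⟨39, 0x4361909844160901, 0, 32, 0x0, []⟩]

theorem t9_720_15 : jobs 8 S9 b8_720 j9_720_15 = true := by decide +kernel

noncomputable def j9_720_16 : List Job := [
  ⟨38, 0x520924a259309a4e27d008242219108a4623c361909844160901, 0, 32, 0x0, []⟩]

theorem t9_720_16 : jobs 8 S9 b8_720 j9_720_16 = true := by decide +kernel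

noncomputable def j9_720_17 : List Job := [
  ⟨37, 0x520924a259309a4e27d008242219108a4623c361909844160901, 0, 32, 0x0, []⟩]

theorem t9_720_17 : jobs 8 S9 b8_720 j9_720_17 = true := by decide +kernel

noncomputable def j9_720_18 : List Job := [
  ⟨36, 0x4361909844160901, 0, 32, 0x0, []⟩]

theorem t9_720_18 : jobs 8 S9 b8_720 j9_720_18 = true := by decide +kernel

noncomputable def j9_720_19 : List Job := [
  ⟨35, 0x4361909844160901, 0, 32, 0x0, []⟩]

theorem t9_720_19 : jobs 8 S9 b8_720 j9_720_19 = true := by decide +kernel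

noncomputable def j9_720_20 : List Job := [
  ⟨34, 0x520924a259309a4e27d008242219108a4623c361909844160901, 0, 32, 0x0, []⟩]

theorem t9_720_20 : jobs 8 S9 b8_720 j9_720_20 = true := by decide +kernel

noncomputable def j9_720_21 : List Job := [
  ⟨33, 0x520924a259309a4e27d008242219108a4623c361909844160901, 0, 32, 0x0, []⟩]

theorem t9_720_21 : jobs 8 S9 b8_720 j9_720_21 = true := by decide +kernel

noncomputable def j9_720_22 : List Job := [
  ⟨32, 0x4361909844160901, 0, 32, 0x0, []⟩]

theorem t9_720_22 : jobs 8 S9 b8_720 j9_720_22 = true := by decide +kernel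

noncomputable def j9_720_23 : List Job := [
  ⟨31, 0x4361909844160901, 0, 32, 0x0, []⟩]

theorem t9_720_23 : jobs 8 S9 b8_720 j9_720_23 = true := by decide +kernel

noncomputable def j9_720_24 : List Job := [
  ⟨30, 0x520924a259309a4e27d008242219108a4623c361909844160901, 0, 32, 0x0, []⟩]

theorem t9_720_24 : jobs 8 S9 b8_720 j9_720_24 = true := by decide +kernel

noncomputable def j9_720_25 : List Job := [
  ⟨29, 0x520924a259309a4e27d008242219108a4623c361909844160901, 0, 32, 0x0, []⟩]

theorem t9_720_25 : jobs 8 S9 b8_720 j9_720_25 = true := by decide +kernel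

noncomputable def j9_720_26 : List Job := [
  ⟨28, 0x4703a1e0fc60321a0dc502a160bc40221209c361909844160901, 0, 32, 0x0, []⟩]

theorem t9_720_26 : jobs 8 S9 b8_720 j9_720_26 = true := by decide +kernel

noncomputable def j9_720_27 : List Job := [
  ⟨27, 0x4703a1e0fc60321a0dc502a160bc40221209c361909844160901, 0, 32, 0x0, []⟩]

theorem t9_720_27 : jobs 8 S9 b8_720 j9_720_27 = true := by decide +kernel

noncomputable def j9_720_28 : List Job := [
  ⟨26, 0x520924a259309a4e27d008242219108a4623c703a1e0fc60321a0dc502a160bc40221209c361909844160901, 0, 38, 0x4a00, [(36, ⟨2221, 0x2040042004ac00140041001090040c01010040001, 0x1812109830050400c02⟩)]⟩]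

theorem t9_720_28 : jobs 8 S9 b8_720 j9_720_28 = true := by decide +kernel

noncomputable def j9_720_29 : List Job := [
  ⟨25, 0x520924a259309a4e27d008242219108a4623c703a1e0fc60321a0dc502a160bc40221209c361909844160901, 0, 32, 0x0, []⟩]

theorem t9_720_29 : jobs 8 S9 b8_720 j9_720_29 = true := by decide +kernel

noncomputable def j9_720_30 : List Job := [
  ⟨24, 0x4703a1e0fc60321a0dc502a160bc40221209c361909844160901, 0, 32, 0x0, []⟩]

theorem t9_720_30 : jobs 8 S9 b8_720 j9_720_30 = true := by decide +kernel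

noncomputable def j9_720_31 : List Job := [
  ⟨23, 0x4703a1e0fc60321a0dc502a160bc40221209c361909844160901, 0, 32, 0x0, []⟩]

theorem t9_720_31 : jobs 8 S9 b8_720 j9_720_31 = true := by decide +kernel

noncomputable def j9_720_32 : List Job := [
  ⟨22, 0x520924a259309a4e27d008242219108a4623c703a1e0fc60321a0dc502a160bc40221209c361909844160901, 0, 32, 0x0, []⟩]

theorem t9_720_32 : jobs 8 S9 b8_720 j9_720_32 = true := by decide +kernel

noncomputable def j9_720_33 : List Job := [
  ⟨21, 0x520924a259309a4e27d008242219108a4623c703a1e0fc60321a0dc502a160bc40221209c361909844160901, 0, 32, 0x0, []⟩]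

theorem t9_720_33 : jobs 8 S9 b8_720 j9_720_33 = true := by decide +kernel

noncomputable def j9_720_34 : List Job := [
  ⟨20, 0x4703a1e0fc60321a0dc502a160bc40221209c361909844160901, 0, 32, 0x0, []⟩]

theorem t9_720_34 : jobs 8 S9 b8_720 j9_720_34 = true := by decide +kernel

noncomputable def j9_720_35 : List Job := [
  ⟨19, 0x4703a1e0fc60321a0dc502a160bc40221209c361909844160901, 0, 32, 0x0, []⟩]

theorem t9_720_35 : jobs 8 S9 b8_720 j9_720_35 = true := by decide +kernel

noncomputable def j9_720_36 : List Job := [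
  ⟨18, 0x520924a259309a4e27d008242219108a4623c703a1e0fc60321a0dc502a160bc40221209c361909844160901, 0, 32, 0x0, []⟩]

theorem t9_720_36 : jobs 8 S9 b8_720 j9_720_36 = true := by decide +kernel

noncomputable def j9_720_37 : List Job := [
  ⟨17, 0x520924a259309a4e27d008242219108a4623c703a1e0fc60321a0dc502a160bc40221209c361909844160901, 0, 32, 0x0, []⟩]

theorem t9_720_37 : jobs 8 S9 b8_720 j9_720_37 = true := by decide +kernel

noncomputable def j9_720_38 : List Job := [
  ⟨16, 0x4703a1e0fc60321a0dc502a160bc40221209c361909844160901, 0, 32, 0x0, []⟩]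

theorem t9_720_38 : jobs 8 S9 b8_720 j9_720_38 = true := by decide +kernel

noncomputable def j9_720_39 : List Job := [
  ⟨15, 0x4703a1e0fc60321a0dc502a160bc40221209c361909844160901, 0, 32, 0x0, []⟩]

theorem t9_720_39 : jobs 8 S9 b8_720 j9_720_39 = true := by decide +kernel

noncomputable def j9_720_40 : List Job := [
  ⟨14, 0x520924a259309a4e27d008242219108a4623c703a1e0fc60321a0dc502a160bc40221209c361909844160901, 0, 32, 0x0, []⟩]

theorem t9_720_40 : jobs 8 S9 b8_720 j9_720_40 = true := by decide +kernel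

noncomputable def j9_720_41 : List Job := [
  ⟨13, 0x520924a259309a4e27d008242219108a4623c703a1e0fc60321a0dc502a160bc40221209c361909844160901, 0, 72, 0x4218004611004a11004e18005210005618005a18005e11006211006610006a11006e11007210007619007a19007e10008210008411008611008811, []⟩]

theorem t9_720_41 : jobs 8 S9 b8_720 j9_720_41 = true := by decide +kernel

noncomputable def j9_720_42 : List Job := [
  ⟨12, 0x460321a0dc40221209c2e15098440e0501, 0, 32, 0x0, []⟩]

theorem t9_720_42 : jobs 8 S9 b8_720 j9_720_42 = true := by decide +kernel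

noncomputable def j9_720_43 : List Job := [
  ⟨11, 0x460321a0dc40221209c2e15098440e0501, 0, 32, 0x0, []⟩]

theorem t9_720_43 : jobs 8 S9 b8_720 j9_720_43 = true := by decide +kernel

noncomputable def j9_720_44 : List Job := [
  ⟨10, 0x520924a259309a4e27d008242219108a4623c60321a0dc40221209c2e15098440e0501, 0, 32, 0x0, []⟩]

theorem t9_720_44 : jobs 8 S9 b8_720 j9_720_44 = true := by decide +kernel

noncomputable def j9_720_45 : List Job := [
  ⟨9, 0x520924a259309a4e27d008242219108a4623c60321a0dc40221209c2e15098440e0501, 0, 32, 0x0, []⟩]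

theorem t9_720_45 : jobs 8 S9 b8_720 j9_720_45 = true := by decide +kernel

noncomputable def j9_720_46 : List Job := [
  ⟨8, 0x460321a0dc40221209c2e15098440e0501, 0, 32, 0x0, []⟩]

theorem t9_720_46 : jobs 8 S9 b8_720 j9_720_46 = true := by decide +kernel

noncomputable def j9_720_47 : List Job := [
  ⟨7, 0x460321a0dc40221209c2e15098440e0501, 0, 32, 0x0, []⟩]

theorem t9_720_47 : jobs 8 S9 b8_720 j9_720_47 = true := by decide +kernel

noncomputable def j9_720_48 : List Job := [
  ⟨6, 0x520924a259309a4e27d008242219108a4623c60321a0dc40221209c2e15098440e0501, 0, 32, 0x0, []⟩]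

theorem t9_720_48 : jobs 8 S9 b8_720 j9_720_48 = true := by decide +kernel

noncomputable def j9_720_49 : List Job := [
  ⟨5, 0x520924a259309a4e27d008242219108a4623c60321a0dc40221209c2e15098440e0501, 0, 32, 0x0, []⟩]

theorem t9_720_49 : jobs 8 S9 b8_720 j9_720_49 = true := by decide +kernel

noncomputable def j9_720_50 : List Job := [
  ⟨4, 0x460321a0dc40221209c2e15098440e0501, 0, 32, 0x0, []⟩]

theorem t9_720_50 : jobs 8 S9 b8_720 j9_720_50 = true := by decide +kernel

noncomputable def j9_720_51 : List Job := [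
  ⟨3, 0x460321a0dc40221209c2e15098440e0501, 0, 32, 0x0, []⟩]

theorem t9_720_51 : jobs 8 S9 b8_720 j9_720_51 = true := by decide +kernel

noncomputable def j9_720_52 : List Job := [
  ⟨2, 0x520924a259309a4e27d008242219108a4623c60321a0dc40221209c2e15098440e0501, 0, 32, 0x0, []⟩]

theorem t9_720_52 : jobs 8 S9 b8_720 j9_720_52 = true := by decide +kernel

noncomputable def j9_720_53 : List Job := [
  ⟨1, 0x520924a259309a4e27d008242219108a4623c60321a0dc40221209c2e15098440e0501, 0, 32, 0x0, []⟩]

theorem t9_720_53 : jobs 8 S9 b8_720 j9_720_53 = true := by decide +kernel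

noncomputable def j9_720_54 : List Job := [
  ⟨0, 0x460321a0dc40221209c2e15098440e0501, 0, 32, 0x0, []⟩]

theorem t9_720_54 : jobs 8 S9 b8_720 j9_720_54 = true := by decide +kernel

theorem d9_720 : Dn 8 S9 b8_720 := dn_of (Js := j9_720_0 ++ (j9_720_1 ++ (j9_720_2 ++ (j9_720_3 ++ (j9_720_4 ++ (j9_720_5 ++ (j9_720_6 ++ (j9_720_7 ++ (j9_720_8 ++ (j9_720_9 ++ (j9_720_10 ++ (j9_720_11 ++ (j9_720_12 ++ (j9_720_13 ++ (j9_720_14 ++ (j9_720_15 ++ (j9_720_16 ++ (j9_720_17 ++ (j9_720_18 ++ (j9_720_19 ++ (j9_720_20 ++ (j9_720_21 ++ (j9_720_22 ++ (j9_720_23 ++ (j9_720_24 ++ (j9_720_25 ++ (j9_720_26 ++ (j9_720_27 ++ (j9_720_28 ++ (j9_720_29 ++ (j9_720_30 ++ (j9_720_31 ++ (j9_720_32 ++ (j9_720_33 ++ (j9_720_34 ++ (j9_720_35 ++ (j9_720_36 ++ (j9_720_37 ++ (j9_720_38 ++ (j9_720_39 ++ (j9_720_40 ++ (j9_720_41 ++ (j9_720_42 ++ (j9_720_43 ++ (j9_720_44 ++ (j9_720_45 ++ (j9_720_46 ++ (j9_720_47 ++ (j9_720_48 ++ (j9_720_49 ++ (j9_720_50 ++ (j9_720_51 ++ (j9_720_52 ++ (j9_720_53 ++ (j9_720_54 ++ [])))))))))))))))))))))))))))))))))))))))))))))))))))))))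
  (jobs_append t9_720_0 <| jobs_append t9_720_1 <| jobs_append t9_720_2 <| jobs_append t9_720_3 <| jobs_append t9_720_4 <| jobs_append t9_720_5 <| jobs_append t9_720_6 <| jobs_append t9_720_7 <| jobs_append t9_720_8 <| jobs_append t9_720_9 <| jobs_append t9_720_10 <| jobs_append t9_720_11 <| jobs_append t9_720_12 <| jobs_append t9_720_13 <| jobs_append t9_720_14 <| jobs_append t9_720_15 <| jobs_append t9_720_16 <| jobs_append t9_720_17 <| jobs_append t9_720_18 <| jobs_append t9_720_19 <| jobs_append t9_720_20 <| jobs_append t9_720_21 <| jobs_append t9_720_22 <| jobs_append t9_720_23 <| jobs_append t9_720_24 <| jobs_append t9_720_25 <| jobs_append t9_720_26 <| jobs_append t9_720_27 <| jobs_append t9_720_28 <| jobs_append t9_720_29 <| jobs_append t9_720_30 <| jobs_append t9_720_31 <| jobs_append t9_720_32 <| jobs_append t9_720_33 <| jobs_append t9_720_34 <| jobs_append t9_720_35 <| jobs_append t9_720_36 <| jobs_append t9_720_37 <| jobs_append t9_720_38 <| jobs_append t9_720_39 <| jobs_append t9_720_40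 <| jobs_append t9_720_41 <| jobs_append t9_720_42 <| jobs_append t9_720_43 <| jobs_append t9_720_44 <| jobs_append t9_720_45 <| jobs_append t9_720_46 <| jobs_append t9_720_47 <| jobs_append t9_720_48 <| jobs_append t9_720_49 <| jobs_append t9_720_50 <| jobs_append t9_720_51 <| jobs_append t9_720_52 <| jobs_append t9_720_53 <| jobs_append t9_720_54 <| List.forall_mem_nil _) (by decide +kernel)

noncomputable def j9_721_0 : List Job := [
  ⟨54, 0x520924a259309a4e27d008242219108a4623c361909844160901, 0, 5, 0x201000401000601000801000a01, []⟩]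

theorem t9_721_0 : jobs 8 S9 b8_721 j9_721_0 = true := by decide +kernel

noncomputable def j9_721_1 : List Job := [
  ⟨53, 0x520924a259309a4e27d008242219108a4623c361909844160901, 0, 14, 0x0, []⟩]

theorem t9_721_1 : jobs 8 S9 b8_721 j9_721_1 = true := by decide +kernel

noncomputable def j9_721_2 : List Job := [
  ⟨45, 0x5309a4e27d20924a25d108a4623d00824221c361909844160901, 0, 4, 0x201000401000601000801, []⟩]

theorem t9_721_2 : jobs 8 S9 b8_721 j9_721_2 = true := by decide +kernel

noncomputable def j9_721_3 : List Job := [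
  ⟨42, 0x5309a4e27d20924a25d108a4623d00824221c361909844160901, 0, 3, 0x0, []⟩]

theorem t9_721_3 : jobs 8 S9 b8_721 j9_721_3 = true := by decide +kernel

noncomputable def j9_721_4 : List Job := [
  ⟨41, 0x5309a4e27d20924a25d108a4623d00824221c361909844160901, 0, 12, 0x208000410000619000810000a10000c09, []⟩]

theorem t9_721_4 : jobs 8 S9 b8_721 j9_721_4 = true := by decide +kernel

noncomputable def j9_721_5 : List Job := [
  ⟨28, 0x520924a259309a4e27d008242219108a4623c361909844160901, 0, 2, 0x201000401, []⟩]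

theorem t9_721_5 : jobs 8 S9 b8_721 j9_721_5 = true := by decide +kernel

noncomputable def j9_721_6 : List Job := [
  ⟨27, 0x520924a259309a4e27d008242219108a4623c361909844160901, 0, 4, 0x0, []⟩]

theorem t9_721_6 : jobs 8 S9 b8_721 j9_721_6 = true := by decide +kernel

noncomputable def j9_721_7 : List Job := [
  ⟨22, 0x520924a259309a4e27d008242219108a4623c361909844160901, 0, 4, 0x0, []⟩]

theorem t9_721_7 : jobs 8 S9 b8_721 j9_721_7 = true := by decide +kernel

noncomputable def j9_721_8 : List Job := [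
  ⟨21, 0x520924a259309a4e27d008242219108a4623c361909844160901, 0, 20, 0x0, []⟩]

theorem t9_721_8 : jobs 8 S9 b8_721 j9_721_8 = true := by decide +kernel

theorem d9_721 : Dn 8 S9 b8_721 := dn_of (Js := j9_721_0 ++ (j9_721_1 ++ (j9_721_2 ++ (j9_721_3 ++ (j9_721_4 ++ (j9_721_5 ++ (j9_721_6 ++ (j9_721_7 ++ (j9_721_8 ++ [])))))))))
  (jobs_append t9_721_0 <| jobs_append t9_721_1 <| jobs_append t9_721_2 <| jobs_append t9_721_3 <| jobs_append t9_721_4 <| jobs_append t9_721_5 <| jobs_append t9_721_6 <| jobs_append t9_721_7 <| jobs_append t9_721_8 <| List.forall_mem_nil _) (by decide +kernel)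

noncomputable def j9_722_0 : List Job := [
  ⟨63, 0x560b25a2d970ba5e2fd40a25229950aa562bd20924a259309a4e27d008242219108a4623c361909844160901, 0, 22, 0x0, []⟩]

theorem t9_722_0 : jobs 8 S9 b8_722 j9_722_0 = true := by decide +kernel

noncomputable def j9_722_1 : List Job := [
  ⟨62, 0x4361909844160901, 0, 18, 0x0, []⟩]

theorem t9_722_1 : jobs 8 S9 b8_722 j9_722_1 = true := by decide +kernel

noncomputable def j9_722_2 : List Job := [
  ⟨61, 0x560b25a2d970ba5e2fd40a25229950aa562bd20924a259309a4e27d008242219108a4623c361909844160901, 0, 22, 0x0, []⟩]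

theorem t9_722_2 : jobs 8 S9 b8_722 j9_722_2 = true := by decide +kernel

noncomputable def j9_722_3 : List Job := [
  ⟨60, 0x4361909844160901, 0, 15, 0x0, []⟩]

theorem t9_722_3 : jobs 8 S9 b8_722 j9_722_3 = true := by decide +kernel

noncomputable def j9_722_4 : List Job := [
  ⟨59, 0x4361909844160901, 0, 15, 0x0, []⟩]

theorem t9_722_4 : jobs 8 S9 b8_722 j9_722_4 = true := by decide +kernel

noncomputable def j9_722_5 : List Job := [
  ⟨58, 0x560b25a2d970ba5e2fd40a25229950aa562bd20924a259309a4e27d008242219108a4623c361909844160901, 0, 24, 0x2801002a01002c01002e01003001, []⟩]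

theorem t9_722_5 : jobs 8 S9 b8_722 j9_722_5 = true := by decide +kernel

noncomputable def j9_722_6 : List Job := [
  ⟨57, 0x560b25a2d970ba5e2fd40a25229950aa562bd20924a259309a4e27d008242219108a4623c361909844160901, 0, 38, 0x0, []⟩]

theorem t9_722_6 : jobs 8 S9 b8_722 j9_722_6 = true := by decide +kernel

noncomputable def j9_722_7 : List Job := [
  ⟨46, 0x4361909844160901, 0, 4, 0x201000401000601000801, []⟩]

theorem t9_722_7 : jobs 8 S9 b8_722 j9_722_7 = true := by decide +kernel

noncomputable def j9_722_8 : List Job := [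
  ⟨45, 0x4361909844160901, 0, 2, 0x201000401, []⟩]

theorem t9_722_8 : jobs 8 S9 b8_722 j9_722_8 = true := by decide +kernel

noncomputable def j9_722_9 : List Job := [
  ⟨44, 0x4361909844160901, 0, 4, 0x0, []⟩]

theorem t9_722_9 : jobs 8 S9 b8_722 j9_722_9 = true := by decide +kernel

noncomputable def j9_722_10 : List Job := [
  ⟨43, 0x4361909844160901, 0, 14, 0x0, []⟩]

theorem t9_722_10 : jobs 8 S9 b8_722 j9_722_10 = true := by decide +kernel

noncomputable def j9_722_11 : List Job := [
  ⟨42, 0x560b25a2d970ba5e2fd008242219108a4623c381f0c06c080701, 0, 40, 0x0, []⟩]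

theorem t9_722_11 : jobs 8 S9 b8_722 j9_722_11 = true := by decide +kernel

noncomputable def j9_722_12 : List Job := [
  ⟨41, 0x560b25a2d970ba5e2fd008242219108a4623c381f0c06c080701, 0, 40, 0x0, []⟩]

theorem t9_722_12 : jobs 8 S9 b8_722 j9_722_12 = true := by decide +kernel

noncomputable def j9_722_13 : List Job := [
  ⟨40, 0x520924a259309a4e27d008242219108a4623c361909844160901, 0, 3, 0x0, []⟩]

theorem t9_722_13 : jobs 8 S9 b8_722 j9_722_13 = true := by decide +kernel

noncomputable def j9_722_14 : List Job := [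
  ⟨39, 0x520924a259309a4e27d008242219108a4623c361909844160901, 0, 3, 0x0, []⟩]

theorem t9_722_14 : jobs 8 S9 b8_722 j9_722_14 = true := by decide +kernel

noncomputable def j9_722_15 : List Job := [
  ⟨38, 0x520924a259309a4e27d008242219108a4623c361909844160901, 0, 4, 0x201000401000601000801, []⟩]

theorem t9_722_15 : jobs 8 S9 b8_722 j9_722_15 = true := by decide +kernel

noncomputable def j9_722_16 : List Job := [
  ⟨37, 0x4361909844160901, 0, 3, 0x0, []⟩]

theorem t9_722_16 : jobs 8 S9 b8_722 j9_722_16 = true := by decide +kernel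

noncomputable def j9_722_17 : List Job := [
  ⟨36, 0x560b25a2d970ba5e2fd40a25229950aa562bd20924a259309a4e27d008242219108a4623c361909844160901, 0, 3, 0x0, []⟩]

theorem t9_722_17 : jobs 8 S9 b8_722 j9_722_17 = true := by decide +kernel

noncomputable def j9_722_18 : List Job := [
  ⟨35, 0x4361909844160901, 0, 3, 0x201000401000601, []⟩]

theorem t9_722_18 : jobs 8 S9 b8_722 j9_722_18 = true := by decide +kernel

noncomputable def j9_722_19 : List Job := [
  ⟨34, 0x560b25a2d970ba5e2fd40a25229950aa562bd20924a259309a4e27d008242219108a4623c361909844160901, 0, 3, 0x201000401000601, []⟩]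

theorem t9_722_19 : jobs 8 S9 b8_722 j9_722_19 = true := by decide +kernel

noncomputable def j9_722_20 : List Job := [
  ⟨33, 0x520924a259309a4e27d008242219108a4623c361909844160901, 0, 4, 0x0, []⟩]

theorem t9_722_20 : jobs 8 S9 b8_722 j9_722_20 = true := by decide +kernel

noncomputable def j9_722_21 : List Job := [
  ⟨32, 0x520924a259309a4e27d008242219108a4623c361909844160901, 0, 3, 0x201000401000601, []⟩]

theorem t9_722_21 : jobs 8 S9 b8_722 j9_722_21 = true := by decide +kernel

noncomputable def j9_722_22 : List Job := [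
  ⟨31, 0x520924a259309a4e27d008242219108a4623c361909844160901, 0, 3, 0x201000401000601, []⟩]

theorem t9_722_22 : jobs 8 S9 b8_722 j9_722_22 = true := by decide +kernel

noncomputable def j9_722_23 : List Job := [
  ⟨30, 0x4361909844160901, 0, 4, 0x0, []⟩]

theorem t9_722_23 : jobs 8 S9 b8_722 j9_722_23 = true := by decide +kernel

noncomputable def j9_722_24 : List Job := [
  ⟨29, 0x560b25a2d970ba5e2fd40a25229950aa562bd20924a259309a4e27d008242219108a4623c361909844160901, 0, 4, 0x0, []⟩]

theorem t9_722_24 : jobs 8 S9 b8_722 j9_722_24 = true := by decide +kernel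

noncomputable def j9_722_25 : List Job := [
  ⟨28, 0x4361909844160901, 0, 3, 0x201000401000601, []⟩]

theorem t9_722_25 : jobs 8 S9 b8_722 j9_722_25 = true := by decide +kernel

noncomputable def j9_722_26 : List Job := [
  ⟨27, 0x4361909844160901, 0, 3, 0x201000401000601, []⟩]

theorem t9_722_26 : jobs 8 S9 b8_722 j9_722_26 = true := by decide +kernel

noncomputable def j9_722_27 : List Job := [
  ⟨26, 0x560b25a2d970ba5e2fd40a25229950aa562bd20924a259309a4e27d008242219108a4623c361909844160901, 0, 13, 0x201000401000601001001001201001401001601, []⟩]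

theorem t9_722_27 : jobs 8 S9 b8_722 j9_722_27 = true := by decide +kernel

noncomputable def j9_722_28 : List Job := [
  ⟨25, 0x560b25a2d970ba5e2fd40a25229950aa562bd20924a259309a4e27d008242219108a4623c361909844160901, 0, 21, 0x201000401000601002801002a01, []⟩]

theorem t9_722_28 : jobs 8 S9 b8_722 j9_722_28 = true := by decide +kernel

noncomputable def j9_722_29 : List Job := [
  ⟨17, 0x4361909844160901, 0, 2, 0x201000401, []⟩]

theorem t9_722_29 : jobs 8 S9 b8_722 j9_722_29 = true := by decide +kernel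

noncomputable def j9_722_30 : List Job := [
  ⟨16, 0x4361909844160901, 0, 4, 0x0, []⟩]

theorem t9_722_30 : jobs 8 S9 b8_722 j9_722_30 = true := by decide +kernel

noncomputable def j9_722_31 : List Job := [
  ⟨15, 0x4361909844160901, 0, 10, 0x0, []⟩]

theorem t9_722_31 : jobs 8 S9 b8_722 j9_722_31 = true := by decide +kernel

noncomputable def j9_722_32 : List Job := [
  ⟨4, 0x520924a259309a4e27d008242219108a4623c361909844160901, 0, 3, 0x0, []⟩]

theorem t9_722_32 : jobs 8 S9 b8_722 j9_722_32 = true := by decide +kernel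

noncomputable def j9_722_33 : List Job := [
  ⟨3, 0x520924a259309a4e27d008242219108a4623c361909844160901, 0, 12, 0x0, []⟩]

theorem t9_722_33 : jobs 8 S9 b8_722 j9_722_33 = true := by decide +kernel

theorem d9_722 : Dn 8 S9 b8_722 := dn_of (Js := j9_722_0 ++ (j9_722_1 ++ (j9_722_2 ++ (j9_722_3 ++ (j9_722_4 ++ (j9_722_5 ++ (j9_722_6 ++ (j9_722_7 ++ (j9_722_8 ++ (j9_722_9 ++ (j9_722_10 ++ (j9_722_11 ++ (j9_722_12 ++ (j9_722_13 ++ (j9_722_14 ++ (j9_722_15 ++ (j9_722_16 ++ (j9_722_17 ++ (j9_722_18 ++ (j9_722_19 ++ (j9_722_20 ++ (j9_722_21 ++ (j9_722_22 ++ (j9_722_23 ++ (j9_722_24 ++ (j9_722_25 ++ (j9_722_26 ++ (j9_722_27 ++ (j9_722_28 ++ (j9_722_29 ++ (j9_722_30 ++ (j9_722_31 ++ (j9_722_32 ++ (j9_722_33 ++ []))))))))))))))))))))))))))))))))))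
  (jobs_append t9_722_0 <| jobs_append t9_722_1 <| jobs_append t9_722_2 <| jobs_append t9_722_3 <| jobs_append t9_722_4 <| jobs_append t9_722_5 <| jobs_append t9_722_6 <| jobs_append t9_722_7 <| jobs_append t9_722_8 <| jobs_append t9_722_9 <| jobs_append t9_722_10 <| jobs_append t9_722_11 <| jobs_append t9_722_12 <| jobs_append t9_722_13 <| jobs_append t9_722_14 <| jobs_append t9_722_15 <| jobs_append t9_722_16 <| jobs_append t9_722_17 <| jobs_append t9_722_18 <| jobs_append t9_722_19 <| jobs_append t9_722_20 <| jobs_append t9_722_21 <| jobs_append t9_722_22 <| jobs_append t9_722_23 <| jobs_append t9_722_24 <| jobs_append t9_722_25 <| jobs_append t9_722_26 <| jobs_append t9_722_27 <| jobs_append t9_722_28 <| jobs_append t9_722_29 <| jobs_append t9_722_30 <| jobs_append t9_722_31 <| jobs_append t9_722_32 <| jobs_append t9_722_33 <| List.forall_mem_nil _) (by decide +kernel)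

noncomputable def j9_723_0 : List Job := [
  ⟨54, 0x4361909844160901, 0, 5, 0x201000401000601000801000a01, []⟩]

theorem t9_723_0 : jobs 8 S9 b8_723 j9_723_0 = true := by decide +kernel

noncomputable def j9_723_1 : List Job := [
  ⟨53, 0x4361909844160901, 0, 12, 0x0, []⟩]

theorem t9_723_1 : jobs 8 S9 b8_723 j9_723_1 = true := by decide +kernel

noncomputable def j9_723_2 : List Job := [
  ⟨52, 0x5108a4623920924a25d008242219309a4e27c361909844160901, 0, 8, 0x0, []⟩]

theorem t9_723_2 : jobs 8 S9 b8_723 j9_723_2 = true := by decide +kernel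

noncomputable def j9_723_3 : List Job := [
  ⟨51, 0x4361909844160901, 0, 4, 0x0, []⟩]

theorem t9_723_3 : jobs 8 S9 b8_723 j9_723_3 = true := by decide +kernel

noncomputable def j9_723_4 : List Job := [
  ⟨50, 0x550aa562b960b25a2dd40a25229970ba5e2fd108a4623920924a25d008242219309a4e27c361909844160901, 0, 4, 0x0, []⟩]

theorem t9_723_4 : jobs 8 S9 b8_723 j9_723_4 = true := by decide +kernel

noncomputable def j9_723_5 : List Job := [
  ⟨49, 0x5108a4623920924a25d008242219309a4e27c361909844160901, 0, 5, 0x0, []⟩]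

theorem t9_723_5 : jobs 8 S9 b8_723 j9_723_5 = true := by decide +kernel

noncomputable def j9_723_6 : List Job := [
  ⟨48, 0x5108a4623920924a25d008242219309a4e27c361909844160901, 0, 5, 0x0, []⟩]

theorem t9_723_6 : jobs 8 S9 b8_723 j9_723_6 = true := by decide +kernel

noncomputable def j9_723_7 : List Job := [
  ⟨47, 0x5108a4623920924a25d008242219309a4e27c361909844160901, 0, 5, 0x0, []⟩]

theorem t9_723_7 : jobs 8 S9 b8_723 j9_723_7 = true := by decide +kernel

noncomputable def j9_723_8 : List Job := [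
  ⟨46, 0x5108a4623920924a25d008242219309a4e27c361909844160901, 0, 5, 0x201000401000601000801000a01, []⟩]

theorem t9_723_8 : jobs 8 S9 b8_723 j9_723_8 = true := by decide +kernel

noncomputable def j9_723_9 : List Job := [
  ⟨45, 0x4361909844160901, 0, 3, 0x0, []⟩]

theorem t9_723_9 : jobs 8 S9 b8_723 j9_723_9 = true := by decide +kernel

noncomputable def j9_723_10 : List Job := [
  ⟨44, 0x550aa562b960b25a2dd40a25229970ba5e2fd108a4623920924a25d008242219309a4e27c361909844160901, 0, 3, 0x0, []⟩]

theorem t9_723_10 : jobs 8 S9 b8_723 j9_723_10 = true := by decide +kernel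

noncomputable def j9_723_11 : List Job := [
  ⟨43, 0x4361909844160901, 0, 3, 0x0, []⟩]

theorem t9_723_11 : jobs 8 S9 b8_723 j9_723_11 = true := by decide +kernel

noncomputable def j9_723_12 : List Job := [
  ⟨42, 0x550aa562b960b25a2dd40a25229970ba5e2fd108a4623920924a25d008242219309a4e27c361909844160901, 0, 3, 0x0, []⟩]

theorem t9_723_12 : jobs 8 S9 b8_723 j9_723_12 = true := by decide +kernel

noncomputable def j9_723_13 : List Job := [
  ⟨41, 0x4361909844160901, 0, 3, 0x0, []⟩]

theorem t9_723_13 : jobs 8 S9 b8_723 j9_723_13 = true := by decide +kernel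

noncomputable def j9_723_14 : List Job := [
  ⟨40, 0x550aa562b960b25a2dd40a25229970ba5e2fd108a4623920924a25d008242219309a4e27c361909844160901, 0, 3, 0x0, []⟩]

theorem t9_723_14 : jobs 8 S9 b8_723 j9_723_14 = true := by decide +kernel

noncomputable def j9_723_15 : List Job := [
  ⟨39, 0x4361909844160901, 0, 5, 0x201000401000601000801000a01, []⟩]

theorem t9_723_15 : jobs 8 S9 b8_723 j9_723_15 = true := by decide +kernel

noncomputable def j9_723_16 : List Job := [
  ⟨38, 0x550aa562b960b25a2dd40a25229970ba5e2fd108a4623920924a25d008242219309a4e27c361909844160901, 0, 25, 0x2001002201002401002601002801002a01002c01002e01003001003201, []⟩]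

theorem t9_723_16 : jobs 8 S9 b8_723 j9_723_16 = true := by decide +kernel

noncomputable def j9_723_17 : List Job := [
  ⟨37, 0x550aa562b960b25a2dd008242219309a4e27c28170804c080701, 0, 40, 0x0, []⟩]

theorem t9_723_17 : jobs 8 S9 b8_723 j9_723_17 = true := by decide +kernel

noncomputable def j9_723_18 : List Job := [
  ⟨36, 0x550aa562b960b25a2dd008242219309a4e27c28170804c080701, 0, 48, 0x0, []⟩]

theorem t9_723_18 : jobs 8 S9 b8_723 j9_723_18 = true := by decide +kernel

noncomputable def j9_723_19 : List Job := [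
  ⟨35, 0x42e15098440e0501, 0, 64, 0x0, []⟩]

theorem t9_723_19 : jobs 8 S9 b8_723 j9_723_19 = true := by decide +kernel

noncomputable def j9_723_20 : List Job := [
  ⟨34, 0x42e15098440e0501, 0, 64, 0x0, []⟩]

theorem t9_723_20 : jobs 8 S9 b8_723 j9_723_20 = true := by decide +kernel

noncomputable def j9_723_21 : List Job := [
  ⟨33, 0x560b25a2d970ba5e2fd40a25229950aa562bd20924a259309a4e27d008242219108a4623c2e15098440e0501, 0, 64, 0x0, []⟩]

theorem t9_723_21 : jobs 8 S9 b8_723 j9_723_21 = true := by decide +kernel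

noncomputable def j9_723_22 : List Job := [
  ⟨32, 0x560b25a2d970ba5e2fd40a25229950aa562bd20924a259309a4e27d008242219108a4623c2e15098440e0501, 0, 64, 0x0, []⟩]

theorem t9_723_22 : jobs 8 S9 b8_723 j9_723_22 = true := by decide +kernel

noncomputable def j9_723_23 : List Job := [
  ⟨31, 0x560b25a2d970ba5e2fd40a25229950aa562bc2e15098440e0501, 0, 64, 0x0, []⟩]

theorem t9_723_23 : jobs 8 S9 b8_723 j9_723_23 = true := by decide +kernel

noncomputable def j9_723_24 : List Job := [
  ⟨30, 0x560b25a2d970ba5e2fd40a25229950aa562bc2e15098440e0501, 0, 64, 0x0, []⟩]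

theorem t9_723_24 : jobs 8 S9 b8_723 j9_723_24 = true := by decide +kernel

noncomputable def j9_723_25 : List Job := [
  ⟨29, 0x520924a259309a4e27d008242219108a4623c2e15098440e0501, 0, 64, 0x0, []⟩]

theorem t9_723_25 : jobs 8 S9 b8_723 j9_723_25 = true := by decide +kernel

noncomputable def j9_723_26 : List Job := [
  ⟨28, 0x520924a259309a4e27d008242219108a4623c2e15098440e0501, 0, 64, 0x0, []⟩]

theorem t9_723_26 : jobs 8 S9 b8_723 j9_723_26 = true := by decide +kernel

noncomputable def j9_723_27 : List Job := [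
  ⟨27, 0x42e15098440e0501, 0, 36, 0x0, []⟩]

theorem t9_723_27 : jobs 8 S9 b8_723 j9_723_27 = true := by decide +kernel

noncomputable def j9_723_28 : List Job := [
  ⟨26, 0x560b25a2d970ba5e2fd40a25229950aa562bd20924a259309a4e27d008242219108a4623c2e15098440e0501, 0, 36, 0x0, []⟩]

theorem t9_723_28 : jobs 8 S9 b8_723 j9_723_28 = true := by decide +kernel

noncomputable def j9_723_29 : List Job := [
  ⟨25, 0x42e15098440e0501, 0, 24, 0x0, []⟩]

theorem t9_723_29 : jobs 8 S9 b8_723 j9_723_29 = true := by decide +kernel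

noncomputable def j9_723_30 : List Job := [
  ⟨24, 0x42e15098440e0501, 0, 24, 0x0, []⟩]

theorem t9_723_30 : jobs 8 S9 b8_723 j9_723_30 = true := by decide +kernel

noncomputable def j9_723_31 : List Job := [
  ⟨23, 0x560b25a2d970ba5e2fd40a25229950aa562bd20924a259309a4e27d008242219108a4623c2e15098440e0501, 0, 26, 0x0, []⟩]

theorem t9_723_31 : jobs 8 S9 b8_723 j9_723_31 = true := by decide +kernel

noncomputable def j9_723_32 : List Job := [
  ⟨22, 0x560b25a2d970ba5e2fd40a25229950aa562bd20924a259309a4e27d008242219108a4623c2e15098440e0501, 0, 48, 0x0, []⟩]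

theorem t9_723_32 : jobs 8 S9 b8_723 j9_723_32 = true := by decide +kernel

noncomputable def j9_723_33 : List Job := [
  ⟨21, 0x42e15098440e0501, 0, 36, 0x0, []⟩]

theorem t9_723_33 : jobs 8 S9 b8_723 j9_723_33 = true := by decide +kernel

noncomputable def j9_723_34 : List Job := [
  ⟨20, 0x560b25a2d970ba5e2fd40a25229950aa562bd20924a259309a4e27d008242219108a4623c2e15098440e0501, 0, 36, 0x0, []⟩]

theorem t9_723_34 : jobs 8 S9 b8_723 j9_723_34 = true := by decide +kernel

noncomputable def j9_723_35 : List Job := [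
  ⟨19, 0x42e15098440e0501, 0, 40, 0x0, []⟩]

theorem t9_723_35 : jobs 8 S9 b8_723 j9_723_35 = true := by decide +kernel

noncomputable def j9_723_36 : List Job := [
  ⟨18, 0x560b25a2d970ba5e2fd40a25229950aa562bd20924a259309a4e27d008242219108a4623c2e15098440e0501, 0, 40, 0x0, []⟩]

theorem t9_723_36 : jobs 8 S9 b8_723 j9_723_36 = true := by decide +kernel

noncomputable def j9_723_37 : List Job := [
  ⟨17, 0x520924a259309a4e27d008242219108a4623c2e15098440e0501, 0, 64, 0x0, []⟩]

theorem t9_723_37 : jobs 8 S9 b8_723 j9_723_37 = true := by decide +kernel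

noncomputable def j9_723_38 : List Job := [
  ⟨16, 0x520924a259309a4e27d008242219108a4623c2e15098440e0501, 0, 40, 0x0, []⟩]

theorem t9_723_38 : jobs 8 S9 b8_723 j9_723_38 = true := by decide +kernel

noncomputable def j9_723_39 : List Job := [
  ⟨15, 0x520924a259309a4e27d008242219108a4623c2e15098440e0501, 0, 40, 0x0, []⟩]

theorem t9_723_39 : jobs 8 S9 b8_723 j9_723_39 = true := by decide +kernel

noncomputable def j9_723_40 : List Job := [
  ⟨14, 0x520924a259309a4e27d008242219108a4623c2e15098440e0501, 0, 64, 0x0, []⟩]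

theorem t9_723_40 : jobs 8 S9 b8_723 j9_723_40 = true := by decide +kernel

noncomputable def j9_723_41 : List Job := [
  ⟨13, 0x520924a259309a4e27d008242219108a4623c2e15098440e0501, 0, 40, 0x0, []⟩]

theorem t9_723_41 : jobs 8 S9 b8_723 j9_723_41 = true := by decide +kernel

noncomputable def j9_723_42 : List Job := [
  ⟨12, 0x520924a259309a4e27d008242219108a4623c2e15098440e0501, 0, 40, 0x0, []⟩]

theorem t9_723_42 : jobs 8 S9 b8_723 j9_723_42 = true := by decide +kernel

noncomputable def j9_723_43 : List Job := [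
  ⟨11, 0x520924a259309a4e27d008242219108a4623c361909844160901, 0, 64, 0x0, []⟩]

theorem t9_723_43 : jobs 8 S9 b8_723 j9_723_43 = true := by decide +kernel

noncomputable def j9_723_44 : List Job := [
  ⟨10, 0x520924a259309a4e27d008242219108a4623c361909844160901, 0, 64, 0x0, []⟩]

theorem t9_723_44 : jobs 8 S9 b8_723 j9_723_44 = true := by decide +kernel

noncomputable def j9_723_45 : List Job := [
  ⟨9, 0x4361909844160901, 0, 64, 0x0, []⟩]

theorem t9_723_45 : jobs 8 S9 b8_723 j9_723_45 = true := by decide +kernel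

noncomputable def j9_723_46 : List Job := [
  ⟨8, 0x560b25a2d970ba5e2fd40a25229950aa562bd20924a259309a4e27d008242219108a4623c361909844160901, 0, 64, 0x0, []⟩]

theorem t9_723_46 : jobs 8 S9 b8_723 j9_723_46 = true := by decide +kernel

noncomputable def j9_723_47 : List Job := [
  ⟨7, 0x520924a259309a4e27d008242219108a4623c361909844160901, 0, 32, 0x0, []⟩]

theorem t9_723_47 : jobs 8 S9 b8_723 j9_723_47 = true := by decide +kernel

noncomputable def j9_723_48 : List Job := [
  ⟨6, 0x520924a259309a4e27d008242219108a4623c361909844160901, 0, 40, 0x0, []⟩]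

theorem t9_723_48 : jobs 8 S9 b8_723 j9_723_48 = true := by decide +kernel

noncomputable def j9_723_49 : List Job := [
  ⟨5, 0x520924a259309a4e27d008242219108a4623c361909844160901, 0, 32, 0x0, []⟩]

theorem t9_723_49 : jobs 8 S9 b8_723 j9_723_49 = true := by decide +kernel

noncomputable def j9_723_50 : List Job := [
  ⟨4, 0x520924a259309a4e27d008242219108a4623c361909844160901, 0, 20, 0x0, []⟩]

theorem t9_723_50 : jobs 8 S9 b8_723 j9_723_50 = true := by decide +kernel

noncomputable def j9_723_51 : List Job := [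
  ⟨3, 0x520924a259309a4e27d008242219108a4623c361909844160901, 0, 20, 0x0, []⟩]

theorem t9_723_51 : jobs 8 S9 b8_723 j9_723_51 = true := by decide +kernel

noncomputable def j9_723_52 : List Job := [
  ⟨2, 0x4361909844160901, 0, 18, 0x0, []⟩]

theorem t9_723_52 : jobs 8 S9 b8_723 j9_723_52 = true := by decide +kernel

noncomputable def j9_723_53 : List Job := [
  ⟨1, 0x560b25a2d970ba5e2fd40a25229950aa562bd20924a259309a4e27d008242219108a4623c361909844160901, 0, 22, 0x0, []⟩]

theorem t9_723_53 : jobs 8 S9 b8_723 j9_723_53 = true := by decide +kernel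

noncomputable def j9_723_54 : List Job := [
  ⟨0, 0x4361909844160901, 0, 22, 0x0, []⟩]

theorem t9_723_54 : jobs 8 S9 b8_723 j9_723_54 = true := by decide +kernel

theorem d9_723 : Dn 8 S9 b8_723 := dn_of (Js := j9_723_0 ++ (j9_723_1 ++ (j9_723_2 ++ (j9_723_3 ++ (j9_723_4 ++ (j9_723_5 ++ (j9_723_6 ++ (j9_723_7 ++ (j9_723_8 ++ (j9_723_9 ++ (j9_723_10 ++ (j9_723_11 ++ (j9_723_12 ++ (j9_723_13 ++ (j9_723_14 ++ (j9_723_15 ++ (j9_723_16 ++ (j9_723_17 ++ (j9_723_18 ++ (j9_723_19 ++ (j9_723_20 ++ (j9_723_21 ++ (j9_723_22 ++ (j9_723_23 ++ (j9_723_24 ++ (j9_723_25 ++ (j9_723_26 ++ (j9_723_27 ++ (j9_723_28 ++ (j9_723_29 ++ (j9_723_30 ++ (j9_723_31 ++ (j9_723_32 ++ (j9_723_33 ++ (j9_723_34 ++ (j9_723_35 ++ (j9_723_36 ++ (j9_723_37 ++ (j9_723_38 ++ (j9_723_39 ++ (j9_723_40 ++ (j9_723_41 ++ (j9_723_42 ++ (j9_723_43 ++ (j9_723_44 ++ (j9_723_45 ++ (j9_723_46 ++ (j9_723_47 ++ (j9_723_48 ++ (j9_723_49 ++ (j9_723_50 ++ (j9_723_51 ++ (j9_723_52 ++ (j9_723_53 ++ (j9_723_54 ++ [])))))))))))))))))))))))))))))))))))))))))))))))))))))))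
  (jobs_append t9_723_0 <| jobs_append t9_723_1 <| jobs_append t9_723_2 <| jobs_append t9_723_3 <| jobs_append t9_723_4 <| jobs_append t9_723_5 <| jobs_append t9_723_6 <| jobs_append t9_723_7 <| jobs_append t9_723_8 <| jobs_append t9_723_9 <| jobs_append t9_723_10 <| jobs_append t9_723_11 <| jobs_append t9_723_12 <| jobs_append t9_723_13 <| jobs_append t9_723_14 <| jobs_append t9_723_15 <| jobs_append t9_723_16 <| jobs_append t9_723_17 <| jobs_append t9_723_18 <| jobs_append t9_723_19 <| jobs_append t9_723_20 <| jobs_append t9_723_21 <| jobs_append t9_723_22 <| jobs_append t9_723_23 <| jobs_append t9_723_24 <| jobs_append t9_723_25 <| jobs_append t9_723_26 <| jobs_append t9_723_27 <| jobs_append t9_723_28 <| jobs_append t9_723_29 <| jobs_append t9_723_30 <| jobs_append t9_723_31 <| jobs_append t9_723_32 <| jobs_append t9_723_33 <| jobs_append t9_723_34 <| jobs_append t9_723_35 <| jobs_append t9_723_36 <| jobs_append t9_723_37 <| jobs_append t9_723_38 <| jobs_append t9_723_39 <| jobs_append t9_723_40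 <| jobs_append t9_723_41 <| jobs_append t9_723_42 <| jobs_append t9_723_43 <| jobs_append t9_723_44 <| jobs_append t9_723_45 <| jobs_append t9_723_46 <| jobs_append t9_723_47 <| jobs_append t9_723_48 <| jobs_append t9_723_49 <| jobs_append t9_723_50 <| jobs_append t9_723_51 <| jobs_append t9_723_52 <| jobs_append t9_723_53 <| jobs_append t9_723_54 <| List.forall_mem_nil _) (by decide +kernel)

noncomputable def j9_724_0 : List Job := [
  ⟨63, 0x52497482550487402142e15098440e0501, 0, 20, 0x202000402000602000802000a02000c02000e02001002001202001402, []⟩]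

theorem t9_724_0 : jobs 8 S9 b8_724 j9_724_0 = true := by decide +kernel

noncomputable def j9_724_1 : List Job := [
  ⟨62, 0x4361909844160901, 0, 32, 0x0, []⟩]

theorem t9_724_1 : jobs 8 S9 b8_724 j9_724_1 = true := by decide +kernel

noncomputable def j9_724_2 : List Job := [
  ⟨61, 0x4361909844160901, 0, 32, 0x0, []⟩]

theorem t9_724_2 : jobs 8 S9 b8_724 j9_724_2 = true := by decide +kernel

noncomputable def j9_724_3 : List Job := [
  ⟨60, 0x5309a4e27d20924a25d108a4623d00824221c361909844160901, 0, 32, 0x0, []⟩]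

theorem t9_724_3 : jobs 8 S9 b8_724 j9_724_3 = true := by decide +kernel

noncomputable def j9_724_4 : List Job := [
  ⟨59, 0x5309a4e27d20924a25d108a4623d00824221c361909844160901, 0, 32, 0x0, []⟩]

theorem t9_724_4 : jobs 8 S9 b8_724 j9_724_4 = true := by decide +kernel

noncomputable def j9_724_5 : List Job := [
  ⟨58, 0x4361909844160901, 0, 32, 0x0, []⟩]

theorem t9_724_5 : jobs 8 S9 b8_724 j9_724_5 = true := by decide +kernel

noncomputable def j9_724_6 : List Job := [
  ⟨57, 0x5309a4e27d20924a25d108a4623d00824221c361909844160901, 0, 32, 0x0, []⟩]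

theorem t9_724_6 : jobs 8 S9 b8_724 j9_724_6 = true := by decide +kernel

noncomputable def j9_724_7 : List Job := [
  ⟨56, 0x4361909844160901, 0, 32, 0x0, []⟩]

theorem t9_724_7 : jobs 8 S9 b8_724 j9_724_7 = true := by decide +kernel

noncomputable def j9_724_8 : List Job := [
  ⟨55, 0x5309a4e27d20924a25d108a4623d00824221c361909844160901, 0, 32, 0x0, []⟩]

theorem t9_724_8 : jobs 8 S9 b8_724 j9_724_8 = true := by decide +kernel

noncomputable def j9_724_9 : List Job := [
  ⟨54, 0x4361909844160901, 0, 32, 0x0, []⟩]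

theorem t9_724_9 : jobs 8 S9 b8_724 j9_724_9 = true := by decide +kernel

noncomputable def j9_724_10 : List Job := [
  ⟨53, 0x4361909844160901, 0, 32, 0x0, []⟩]

theorem t9_724_10 : jobs 8 S9 b8_724 j9_724_10 = true := by decide +kernel

noncomputable def j9_724_11 : List Job := [
  ⟨52, 0x5309a4e27d20924a25d108a4623d00824221c361909844160901, 0, 32, 0x0, []⟩]

theorem t9_724_11 : jobs 8 S9 b8_724 j9_724_11 = true := by decide +kernel

noncomputable def j9_724_12 : List Job := [
  ⟨51, 0x5309a4e27d20924a25d108a4623d00824221c361909844160901, 0, 32, 0x0, []⟩]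

theorem t9_724_12 : jobs 8 S9 b8_724 j9_724_12 = true := by decide +kernel

noncomputable def j9_724_13 : List Job := [
  ⟨50, 0x4361909844160901, 0, 20, 0x0, []⟩]

theorem t9_724_13 : jobs 8 S9 b8_724 j9_724_13 = true := by decide +kernel

noncomputable def j9_724_14 : List Job := [
  ⟨49, 0x4361909844160901, 0, 20, 0x0, []⟩]

theorem t9_724_14 : jobs 8 S9 b8_724 j9_724_14 = true := by decide +kernel

noncomputable def j9_724_15 : List Job := [
  ⟨48, 0x5309a4e27d20924a25d108a4623d00824221c361909844160901, 0, 20, 0x0, []⟩]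

theorem t9_724_15 : jobs 8 S9 b8_724 j9_724_15 = true := by decide +kernel

noncomputable def j9_724_16 : List Job := [
  ⟨47, 0x5309a4e27d20924a25d108a4623d00824221c361909844160901, 0, 20, 0x0, []⟩]

theorem t9_724_16 : jobs 8 S9 b8_724 j9_724_16 = true := by decide +kernel

noncomputable def j9_724_17 : List Job := [
  ⟨46, 0x4361909844160901, 0, 20, 0x0, []⟩]

theorem t9_724_17 : jobs 8 S9 b8_724 j9_724_17 = true := by decide +kernel

noncomputable def j9_724_18 : List Job := [
  ⟨45, 0x4361909844160901, 0, 20, 0x0, []⟩]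

theorem t9_724_18 : jobs 8 S9 b8_724 j9_724_18 = true := by decide +kernel

noncomputable def j9_724_19 : List Job := [
  ⟨44, 0x5309a4e27d20924a25d108a4623d00824221c361909844160901, 0, 25, 0x3001003201, []⟩]

theorem t9_724_19 : jobs 8 S9 b8_724 j9_724_19 = true := by decide +kernel

noncomputable def j9_724_20 : List Job := [
  ⟨43, 0x5309a4e27d20924a25d108a4623d00824221c361909844160901, 0, 46, 0x2a08002c09002e09003008003208003409003608003808003a09003c08005201005401005601005801005a01005c01, []⟩]

theorem t9_724_20 : jobs 8 S9 b8_724 j9_724_20 = true := by decide +kernel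

noncomputable def j9_724_21 : List Job := [
  ⟨30, 0x4361909844160901, 0, 4, 0x0, []⟩]

theorem t9_724_21 : jobs 8 S9 b8_724 j9_724_21 = true := by decide +kernel

noncomputable def j9_724_22 : List Job := [
  ⟨29, 0x4361909844160901, 0, 14, 0x0, []⟩]

theorem t9_724_22 : jobs 8 S9 b8_724 j9_724_22 = true := by decide +kernel

noncomputable def j9_724_23 : List Job := [
  ⟨14, 0x560b25a2d970ba5e2fd40a25229950aa562bd20924a259309a4e27d008242219108a4623c361909844160901, 0, 4, 0x0, []⟩]

theorem t9_724_23 : jobs 8 S9 b8_724 j9_724_23 = true := by decide +kernel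

noncomputable def j9_724_24 : List Job := [
  ⟨13, 0x560b25a2d970ba5e2fd40a25229950aa562bd20924a259309a4e27d008242219108a4623c361909844160901, 0, 16, 0x0, []⟩]

theorem t9_724_24 : jobs 8 S9 b8_724 j9_724_24 = true := by decide +kernel

noncomputable def j9_724_25 : List Job := [
  ⟨2, 0x4361909844160901, 0, 5, 0x201000401000601000801000a01, []⟩]

theorem t9_724_25 : jobs 8 S9 b8_724 j9_724_25 = true := by decide +kernel

noncomputable def j9_724_26 : List Job := [
  ⟨1, 0x4361909844160901, 0, 12, 0x0, []⟩]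

theorem t9_724_26 : jobs 8 S9 b8_724 j9_724_26 = true := by decide +kernel

theorem d9_724 : Dn 8 S9 b8_724 := dn_of (Js := j9_724_0 ++ (j9_724_1 ++ (j9_724_2 ++ (j9_724_3 ++ (j9_724_4 ++ (j9_724_5 ++ (j9_724_6 ++ (j9_724_7 ++ (j9_724_8 ++ (j9_724_9 ++ (j9_724_10 ++ (j9_724_11 ++ (j9_724_12 ++ (j9_724_13 ++ (j9_724_14 ++ (j9_724_15 ++ (j9_724_16 ++ (j9_724_17 ++ (j9_724_18 ++ (j9_724_19 ++ (j9_724_20 ++ (j9_724_21 ++ (j9_724_22 ++ (j9_724_23 ++ (j9_724_24 ++ (j9_724_25 ++ (j9_724_26 ++ [])))))))))))))))))))))))))))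
  (jobs_append t9_724_0 <| jobs_append t9_724_1 <| jobs_append t9_724_2 <| jobs_append t9_724_3 <| jobs_append t9_724_4 <| jobs_append t9_724_5 <| jobs_append t9_724_6 <| jobs_append t9_724_7 <| jobs_append t9_724_8 <| jobs_append t9_724_9 <| jobs_append t9_724_10 <| jobs_append t9_724_11 <| jobs_append t9_724_12 <| jobs_append t9_724_13 <| jobs_append t9_724_14 <| jobs_append t9_724_15 <| jobs_append t9_724_16 <| jobs_append t9_724_17 <| jobs_append t9_724_18 <| jobs_append t9_724_19 <| jobs_append t9_724_20 <| jobs_append t9_724_21 <| jobs_append t9_724_22 <| jobs_append t9_724_23 <| jobs_append t9_724_24 <| jobs_append t9_724_25 <| jobs_append t9_724_26 <| List.forall_mem_nil _) (by decide +kernel)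

noncomputable def j9_725_0 : List Job := [
  ⟨46, 0x560b25a2d970ba5e2fd40a25229950aa562bc361909844160901, 0, 3, 0x0, []⟩]

theorem t9_725_0 : jobs 8 S9 b8_725 j9_725_0 = true := by decide +kernel

noncomputable def j9_725_1 : List Job := [
  ⟨45, 0x560b25a2d970ba5e2fd40a25229950aa562bc361909844160901, 0, 20, 0x0, []⟩]

theorem t9_725_1 : jobs 8 S9 b8_725 j9_725_1 = true := by decide +kernel

noncomputable def j9_725_2 : List Job := [
  ⟨30, 0x5309a4e27d20924a25d108a4623d00824221c361909844160901, 0, 2, 0x201000401, []⟩]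

theorem t9_725_2 : jobs 8 S9 b8_725 j9_725_2 = true := by decide +kernel

noncomputable def j9_725_3 : List Job := [
  ⟨29, 0x5309a4e27d20924a25d108a4623d00824221c361909844160901, 0, 2, 0x201000401, []⟩]

theorem t9_725_3 : jobs 8 S9 b8_725 j9_725_3 = true := by decide +kernel

noncomputable def j9_725_4 : List Job := [
  ⟨26, 0x5309a4e27d20924a25d108a4623d00824221c361909844160901, 0, 3, 0x0, []⟩]

theorem t9_725_4 : jobs 8 S9 b8_725 j9_725_4 = true := by decide +kernel

noncomputable def j9_725_5 : List Job := [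
  ⟨25, 0x5309a4e27d20924a25d108a4623d00824221c361909844160901, 0, 20, 0x218000419000618000819000a19000c18000e19001018001219001419, []⟩]

theorem t9_725_5 : jobs 8 S9 b8_725 j9_725_5 = true := by decide +kernel

noncomputable def j9_725_6 : List Job := [
  ⟨24, 0x520924a25d00824221c381f09844180f01, 0, 72, 0x203000403000a03000c03001203001803001a03003603003803003e03, []⟩]

theorem t9_725_6 : jobs 8 S9 b8_725 j9_725_6 = true := by decide +kernel

noncomputable def j9_725_7 : List Job := [
  ⟨23, 0x520924a25d00824221c381f09844180f01, 0, 72, 0x203000403000a03000c03001203001803001a03003603003803003e03, []⟩]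

theorem t9_725_7 : jobs 8 S9 b8_725 j9_725_7 = true := by decide +kernel

noncomputable def j9_725_8 : List Job := [
  ⟨22, 0x520924a25d00824221c381f09844180f01, 0, 128, 0x203000403000a03000c03001203001403001a03001c03004203004403004a03004c03005203005403005a03005c03, []⟩]

theorem t9_725_8 : jobs 8 S9 b8_725 j9_725_8 = true := by decide +kernel

noncomputable def j9_725_9 : List Job := [
  ⟨21, 0x520924a25d00824221c381f09844180f01, 0, 128, 0x203000403000a03000c03001203001403001a03001c03004203004403004a03004c03005203005403005a03005c03, []⟩]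

theorem t9_725_9 : jobs 8 S9 b8_725 j9_725_9 = true := by decide +kernel

noncomputable def j9_725_10 : List Job := [
  ⟨20, 0x520924a25d00824221c381f09844180f01, 0, 72, 0x203000403000a03000c03001203001803001a03003603003803003e03, []⟩]

theorem t9_725_10 : jobs 8 S9 b8_725 j9_725_10 = true := by decide +kernel

noncomputable def j9_725_11 : List Job := [
  ⟨19, 0x520924a25d00824221c381f09844180f01, 0, 72, 0x203000403000a03000c03001203001803001a03003603003803003e03, []⟩]

theorem t9_725_11 : jobs 8 S9 b8_725 j9_725_11 = true := by decide +kernel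

noncomputable def j9_725_12 : List Job := [
  ⟨18, 0x520924a25d00824221c2e15098440e0501, 0, 32, 0x0, []⟩]

theorem t9_725_12 : jobs 8 S9 b8_725 j9_725_12 = true := by decide +kernel

noncomputable def j9_725_13 : List Job := [
  ⟨17, 0x520924a25d00824221c2e15098440e0501, 0, 32, 0x0, []⟩]

theorem t9_725_13 : jobs 8 S9 b8_725 j9_725_13 = true := by decide +kernel

noncomputable def j9_725_14 : List Job := [
  ⟨16, 0x520924a25d00824221c2e15098440e0501, 0, 32, 0x0, []⟩]

theorem t9_725_14 : jobs 8 S9 b8_725 j9_725_14 = true := by decide +kernel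

noncomputable def j9_725_15 : List Job := [
  ⟨15, 0x520924a25d00824221c2e15098440e0501, 0, 32, 0x0, []⟩]

theorem t9_725_15 : jobs 8 S9 b8_725 j9_725_15 = true := by decide +kernel

noncomputable def j9_725_16 : List Job := [
  ⟨14, 0x5309a4e27d108a4623c2e15098440e0501, 0, 32, 0x0, []⟩]

theorem t9_725_16 : jobs 8 S9 b8_725 j9_725_16 = true := by decide +kernel

noncomputable def j9_725_17 : List Job := [
  ⟨13, 0x52497482550487402142e15098440e0501, 0, 32, 0x202000402000602000802000a02000c02000e02001002001202001402001602001802001a02001c02001e02002002, []⟩]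

theorem t9_725_17 : jobs 8 S9 b8_725 j9_725_17 = true := by decide +kernel

noncomputable def j9_725_18 : List Job := [
  ⟨12, 0x5309a4e27d108a4623c2e15098440e0501, 0, 20, 0x0, []⟩]

theorem t9_725_18 : jobs 8 S9 b8_725 j9_725_18 = true := by decide +kernel

noncomputable def j9_725_19 : List Job := [
  ⟨11, 0x5309a4e27d108a4623c2e15098440e0501, 0, 20, 0x0, []⟩]

theorem t9_725_19 : jobs 8 S9 b8_725 j9_725_19 = true := by decide +kernel

noncomputable def j9_725_20 : List Job := [
  ⟨10, 0x52497482550487402142e15098440e0501, 0, 20, 0x202000402000602000802000a02000c02000e02001002001202001402, []⟩]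

theorem t9_725_20 : jobs 8 S9 b8_725 j9_725_20 = true := by decide +kernel

noncomputable def j9_725_21 : List Job := [
  ⟨9, 0x52497482550487402142e15098440e0501, 0, 46, 0x2a02002c02002e02003002003202003402003602003802003a02003c02005201005401005601005801005a01005c01, []⟩]

theorem t9_725_21 : jobs 8 S9 b8_725 j9_725_21 = true := by decide +kernel

noncomputable def j9_725_22 : List Job := [
  ⟨8, 0x520924a25d00824221c2e15098440e0501, 0, 32, 0x0, []⟩]

theorem t9_725_22 : jobs 8 S9 b8_725 j9_725_22 = true := by decide +kernel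

noncomputable def j9_725_23 : List Job := [
  ⟨7, 0x520924a25d00824221c2e15098440e0501, 0, 32, 0x0, []⟩]

theorem t9_725_23 : jobs 8 S9 b8_725 j9_725_23 = true := by decide +kernel

noncomputable def j9_725_24 : List Job := [
  ⟨6, 0x520924a25d00824221c2e15098440e0501, 0, 32, 0x0, []⟩]

theorem t9_725_24 : jobs 8 S9 b8_725 j9_725_24 = true := by decide +kernel

noncomputable def j9_725_25 : List Job := [
  ⟨5, 0x520924a25d00824221c2e15098440e0501, 0, 32, 0x0, []⟩]

theorem t9_725_25 : jobs 8 S9 b8_725 j9_725_25 = true := by decide +kernel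

noncomputable def j9_725_26 : List Job := [
  ⟨4, 0x5309a4e27d108a4623c2e15098440e0501, 0, 32, 0x0, []⟩]

theorem t9_725_26 : jobs 8 S9 b8_725 j9_725_26 = true := by decide +kernel

noncomputable def j9_725_27 : List Job := [
  ⟨3, 0x52497482550487402142e15098440e0501, 0, 32, 0x202000402000602000802000a02000c02000e02001002001202001402001602001802001a02001c02001e02002002, []⟩]

theorem t9_725_27 : jobs 8 S9 b8_725 j9_725_27 = true := by decide +kernel

noncomputable def j9_725_28 : List Job := [
  ⟨2, 0x5309a4e27d108a4623c2e15098440e0501, 0, 20, 0x0, []⟩]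

theorem t9_725_28 : jobs 8 S9 b8_725 j9_725_28 = true := by decide +kernel

noncomputable def j9_725_29 : List Job := [
  ⟨1, 0x5309a4e27d108a4623c2e15098440e0501, 0, 20, 0x0, []⟩]

theorem t9_725_29 : jobs 8 S9 b8_725 j9_725_29 = true := by decide +kernel

noncomputable def j9_725_30 : List Job := [
  ⟨0, 0x52497482550487402142e15098440e0501, 0, 20, 0x202000402000602000802000a02000c02000e02001002001202001402, []⟩]

theorem t9_725_30 : jobs 8 S9 b8_725 j9_725_30 = true := by decide +kernel

theorem d9_725 : Dn 8 S9 b8_725 := dn_of (Js := j9_725_0 ++ (j9_725_1 ++ (j9_725_2 ++ (j9_725_3 ++ (j9_725_4 ++ (j9_725_5 ++ (j9_725_6 ++ (j9_725_7 ++ (j9_725_8 ++ (j9_725_9 ++ (j9_725_10 ++ (j9_725_11 ++ (j9_725_12 ++ (j9_725_13 ++ (j9_725_14 ++ (j9_725_15 ++ (j9_725_16 ++ (j9_725_17 ++ (j9_725_18 ++ (j9_725_19 ++ (j9_725_20 ++ (j9_725_21 ++ (j9_725_22 ++ (j9_725_23 ++ (j9_725_24 ++ (j9_725_25 ++ (j9_725_26 ++ (j9_725_27 ++ (j9_725_28 ++ (j9_725_29 ++ (j9_725_30 ++ [])))))))))))))))))))))))))))))))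
  (jobs_append t9_725_0 <| jobs_append t9_725_1 <| jobs_append t9_725_2 <| jobs_append t9_725_3 <| jobs_append t9_725_4 <| jobs_append t9_725_5 <| jobs_append t9_725_6 <| jobs_append t9_725_7 <| jobs_append t9_725_8 <| jobs_append t9_725_9 <| jobs_append t9_725_10 <| jobs_append t9_725_11 <| jobs_append t9_725_12 <| jobs_append t9_725_13 <| jobs_append t9_725_14 <| jobs_append t9_725_15 <| jobs_append t9_725_16 <| jobs_append t9_725_17 <| jobs_append t9_725_18 <| jobs_append t9_725_19 <| jobs_append t9_725_20 <| jobs_append t9_725_21 <| jobs_append t9_725_22 <| jobs_append t9_725_23 <| jobs_append t9_725_24 <| jobs_append t9_725_25 <| jobs_append t9_725_26 <| jobs_append t9_725_27 <| jobs_append t9_725_28 <| jobs_append t9_725_29 <| jobs_append t9_725_30 <| List.forall_mem_nil _) (by decide +kernel)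

noncomputable def j9_726_0 : List Job := [
  ⟨63, 0x560b25a2d970ba5e2fd40a25229950aa562bd20924a259309a4e27d008242219108a4623c381f09844180f01, 0, 72, 0x0, []⟩]

theorem t9_726_0 : jobs 8 S9 b8_726 j9_726_0 = true := by decide +kernel

noncomputable def j9_726_1 : List Job := [
  ⟨62, 0x520924a259309a4e27d008242219108a4623c381f09844180f01, 0, 128, 0x0, []⟩]

theorem t9_726_1 : jobs 8 S9 b8_726 j9_726_1 = true := by decide +kernel

noncomputable def j9_726_2 : List Job := [
  ⟨61, 0x520924a259309a4e27d008242219108a4623c381f09844180f01, 0, 128, 0x0, []⟩]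

theorem t9_726_2 : jobs 8 S9 b8_726 j9_726_2 = true := by decide +kernel

noncomputable def j9_726_3 : List Job := [
  ⟨60, 0x42e15098440e0501, 0, 32, 0x0, []⟩]

theorem t9_726_3 : jobs 8 S9 b8_726 j9_726_3 = true := by decide +kernel

noncomputable def j9_726_4 : List Job := [
  ⟨59, 0x560b25a2d970ba5e2fd40a25229950aa562bd20924a259309a4e27d008242219108a4623c2e15098440e0501, 0, 32, 0x0, []⟩]

theorem t9_726_4 : jobs 8 S9 b8_726 j9_726_4 = true := by decide +kernel

noncomputable def j9_726_5 : List Job := [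
  ⟨58, 0x42e15098440e0501, 0, 20, 0x0, []⟩]

theorem t9_726_5 : jobs 8 S9 b8_726 j9_726_5 = true := by decide +kernel

noncomputable def j9_726_6 : List Job := [
  ⟨57, 0x42e15098440e0501, 0, 20, 0x0, []⟩]

theorem t9_726_6 : jobs 8 S9 b8_726 j9_726_6 = true := by decide +kernel

noncomputable def j9_726_7 : List Job := [
  ⟨56, 0x560b25a2d970ba5e2fd40a25229950aa562bd20924a259309a4e27d008242219108a4623c2e15098440e0501, 0, 20, 0x0, []⟩]

theorem t9_726_7 : jobs 8 S9 b8_726 j9_726_7 = true := by decide +kernel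

noncomputable def j9_726_8 : List Job := [
  ⟨55, 0x560b25a2d970ba5e2fd40a25229950aa562bd20924a259309a4e27d008242219108a4623c2e15098440e0501, 0, 46, 0x5210005410005610005810, []⟩]

theorem t9_726_8 : jobs 8 S9 b8_726 j9_726_8 = true := by decide +kernel

noncomputable def j9_726_9 : List Job := [
  ⟨54, 0x520924a259309a4e27d008242219108a4623c2e15098440e0501, 0, 32, 0x0, []⟩]

theorem t9_726_9 : jobs 8 S9 b8_726 j9_726_9 = true := by decide +kernel

noncomputable def j9_726_10 : List Job := [
  ⟨53, 0x520924a259309a4e27d008242219108a4623c2e15098440e0501, 0, 32, 0x0, []⟩]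

theorem t9_726_10 : jobs 8 S9 b8_726 j9_726_10 = true := by decide +kernel

noncomputable def j9_726_11 : List Job := [
  ⟨52, 0x520924a259309a4e27d008242219108a4623c2e15098440e0501, 0, 32, 0x0, []⟩]

theorem t9_726_11 : jobs 8 S9 b8_726 j9_726_11 = true := by decide +kernel

noncomputable def j9_726_12 : List Job := [
  ⟨51, 0x520924a259309a4e27d008242219108a4623c2e15098440e0501, 0, 32, 0x0, []⟩]

theorem t9_726_12 : jobs 8 S9 b8_726 j9_726_12 = true := by decide +kernel

noncomputable def j9_726_13 : List Job := [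
  ⟨50, 0x42e15098440e0501, 0, 32, 0x0, []⟩]

theorem t9_726_13 : jobs 8 S9 b8_726 j9_726_13 = true := by decide +kernel

noncomputable def j9_726_14 : List Job := [
  ⟨49, 0x560b25a2d970ba5e2fd40a25229950aa562bd20924a259309a4e27d008242219108a4623c2e15098440e0501, 0, 32, 0x0, []⟩]

theorem t9_726_14 : jobs 8 S9 b8_726 j9_726_14 = true := by decide +kernel

noncomputable def j9_726_15 : List Job := [
  ⟨48, 0x42e15098440e0501, 0, 20, 0x0, []⟩]

theorem t9_726_15 : jobs 8 S9 b8_726 j9_726_15 = true := by decide +kernel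

noncomputable def j9_726_16 : List Job := [
  ⟨47, 0x42e15098440e0501, 0, 20, 0x0, []⟩]

theorem t9_726_16 : jobs 8 S9 b8_726 j9_726_16 = true := by decide +kernel

noncomputable def j9_726_17 : List Job := [
  ⟨46, 0x560b25a2d970ba5e2fd40a25229950aa562bd20924a259309a4e27d008242219108a4623c2e15098440e0501, 0, 20, 0x0, []⟩]

theorem t9_726_17 : jobs 8 S9 b8_726 j9_726_17 = true := by decide +kernel

noncomputable def j9_726_18 : List Job := [
  ⟨45, 0x560b25a2d970ba5e2fd40a25229950aa562bd20924a259309a4e27d008242219108a4623c2e15098440e0501, 0, 20, 0x0, []⟩]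

theorem t9_726_18 : jobs 8 S9 b8_726 j9_726_18 = true := by decide +kernel

noncomputable def j9_726_19 : List Job := [
  ⟨44, 0x520924a259309a4e27d008242219108a4623c2e15098440e0501, 0, 32, 0x0, []⟩]

theorem t9_726_19 : jobs 8 S9 b8_726 j9_726_19 = true := by decide +kernel

noncomputable def j9_726_20 : List Job := [
  ⟨43, 0x520924a259309a4e27d008242219108a4623c2e15098440e0501, 0, 32, 0x0, []⟩]

theorem t9_726_20 : jobs 8 S9 b8_726 j9_726_20 = true := by decide +kernel

noncomputable def j9_726_21 : List Job := [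
  ⟨42, 0x520924a259309a4e27d008242219108a4623c2e15098440e0501, 0, 32, 0x0, []⟩]

theorem t9_726_21 : jobs 8 S9 b8_726 j9_726_21 = true := by decide +kernel

noncomputable def j9_726_22 : List Job := [
  ⟨41, 0x520924a259309a4e27d008242219108a4623c2e15098440e0501, 0, 32, 0x0, []⟩]

theorem t9_726_22 : jobs 8 S9 b8_726 j9_726_22 = true := by decide +kernel

noncomputable def j9_726_23 : List Job := [
  ⟨40, 0x560b25a2d970ba5e2fd40a25229950aa562bc361909844160901, 0, 32, 0x0, []⟩]

theorem t9_726_23 : jobs 8 S9 b8_726 j9_726_23 = true := by decide +kernel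

noncomputable def j9_726_24 : List Job := [
  ⟨39, 0x560b25a2d970ba5e2fd40a25229950aa562bc361909844160901, 0, 32, 0x0, []⟩]

theorem t9_726_24 : jobs 8 S9 b8_726 j9_726_24 = true := by decide +kernel

noncomputable def j9_726_25 : List Job := [
  ⟨38, 0x520924a259309a4e27d008242219108a4623c361909844160901, 0, 32, 0x0, []⟩]

theorem t9_726_25 : jobs 8 S9 b8_726 j9_726_25 = true := by decide +kernel

noncomputable def j9_726_26 : List Job := [
  ⟨37, 0x520924a259309a4e27d008242219108a4623c361909844160901, 0, 32, 0x0, []⟩]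

theorem t9_726_26 : jobs 8 S9 b8_726 j9_726_26 = true := by decide +kernel

noncomputable def j9_726_27 : List Job := [
  ⟨36, 0x520924a259309a4e27d008242219108a4623c361909844160901, 0, 32, 0x0, []⟩]

theorem t9_726_27 : jobs 8 S9 b8_726 j9_726_27 = true := by decide +kernel

noncomputable def j9_726_28 : List Job := [
  ⟨35, 0x520924a259309a4e27d008242219108a4623c361909844160901, 0, 32, 0x0, []⟩]

theorem t9_726_28 : jobs 8 S9 b8_726 j9_726_28 = true := by decide +kernel

noncomputable def j9_726_29 : List Job := [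
  ⟨34, 0x520924a259309a4e27d008242219108a4623c361909844160901, 0, 32, 0x0, []⟩]

theorem t9_726_29 : jobs 8 S9 b8_726 j9_726_29 = true := by decide +kernel

noncomputable def j9_726_30 : List Job := [
  ⟨33, 0x520924a259309a4e27d008242219108a4623c361909844160901, 0, 32, 0x0, []⟩]

theorem t9_726_30 : jobs 8 S9 b8_726 j9_726_30 = true := by decide +kernel

noncomputable def j9_726_31 : List Job := [
  ⟨32, 0x4361909844160901, 0, 32, 0x0, []⟩]

theorem t9_726_31 : jobs 8 S9 b8_726 j9_726_31 = true := by decide +kernel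

noncomputable def j9_726_32 : List Job := [
  ⟨31, 0x4361909844160901, 0, 32, 0x0, []⟩]

theorem t9_726_32 : jobs 8 S9 b8_726 j9_726_32 = true := by decide +kernel

noncomputable def j9_726_33 : List Job := [
  ⟨30, 0x560b25a2d970ba5e2fd40a25229950aa562bd20924a259309a4e27d008242219108a4623c361909844160901, 0, 32, 0x0, []⟩]

theorem t9_726_33 : jobs 8 S9 b8_726 j9_726_33 = true := by decide +kernel

noncomputable def j9_726_34 : List Job := [
  ⟨29, 0x560b25a2d970ba5e2fd40a25229950aa562bd20924a259309a4e27d008242219108a4623c361909844160901, 0, 32, 0x0, []⟩]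

theorem t9_726_34 : jobs 8 S9 b8_726 j9_726_34 = true := by decide +kernel

noncomputable def j9_726_35 : List Job := [
  ⟨28, 0x4361909844160901, 0, 20, 0x0, []⟩]

theorem t9_726_35 : jobs 8 S9 b8_726 j9_726_35 = true := by decide +kernel

noncomputable def j9_726_36 : List Job := [
  ⟨27, 0x4361909844160901, 0, 20, 0x0, []⟩]

theorem t9_726_36 : jobs 8 S9 b8_726 j9_726_36 = true := by decide +kernel

noncomputable def j9_726_37 : List Job := [
  ⟨26, 0x560b25a2d970ba5e2fd40a25229950aa562bd20924a259309a4e27d008242219108a4623c361909844160901, 0, 20, 0x0, []⟩]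

theorem t9_726_37 : jobs 8 S9 b8_726 j9_726_37 = true := by decide +kernel

noncomputable def j9_726_38 : List Job := [
  ⟨25, 0x560b25a2d970ba5e2fd40a25229950aa562bd20924a259309a4e27d008242219108a4623c361909844160901, 0, 20, 0x0, []⟩]

theorem t9_726_38 : jobs 8 S9 b8_726 j9_726_38 = true := by decide +kernel

noncomputable def j9_726_39 : List Job := [
  ⟨24, 0x4361909844160901, 0, 20, 0x0, []⟩]

theorem t9_726_39 : jobs 8 S9 b8_726 j9_726_39 = true := by decide +kernel

noncomputable def j9_726_40 : List Job := [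
  ⟨23, 0x4361909844160901, 0, 20, 0x0, []⟩]

theorem t9_726_40 : jobs 8 S9 b8_726 j9_726_40 = true := by decide +kernel

noncomputable def j9_726_41 : List Job := [
  ⟨22, 0x560b25a2d970ba5e2fd40a25229950aa562bd20924a259309a4e27d008242219108a4623c361909844160901, 0, 25, 0x0, []⟩]

theorem t9_726_41 : jobs 8 S9 b8_726 j9_726_41 = true := by decide +kernel

noncomputable def j9_726_42 : List Job := [
  ⟨21, 0x560b25a2d970ba5e2fd40a25229950aa562bd20924a259309a4e27d008242219108a4623c361909844160901, 0, 46, 0x5210005410005610005810, []⟩]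

theorem t9_726_42 : jobs 8 S9 b8_726 j9_726_42 = true := by decide +kernel

noncomputable def j9_726_43 : List Job := [
  ⟨2, 0x560b25a2d970ba5e2fd40a25229950aa562bc361909844160901, 0, 3, 0x0, []⟩]

theorem t9_726_43 : jobs 8 S9 b8_726 j9_726_43 = true := by decide +kernel

noncomputable def j9_726_44 : List Job := [
  ⟨1, 0x560b25a2d970ba5e2fd40a25229950aa562bc361909844160901, 0, 20, 0x0, []⟩]

theorem t9_726_44 : jobs 8 S9 b8_726 j9_726_44 = true := by decide +kernel

theorem d9_726 : Dn 8 S9 b8_726 := dn_of (Js := j9_726_0 ++ (j9_726_1 ++ (j9_726_2 ++ (j9_726_3 ++ (j9_726_4 ++ (j9_726_5 ++ (j9_726_6 ++ (j9_726_7 ++ (j9_726_8 ++ (j9_726_9 ++ (j9_726_10 ++ (j9_726_11 ++ (j9_726_12 ++ (j9_726_13 ++ (j9_726_14 ++ (j9_726_15 ++ (j9_726_16 ++ (j9_726_17 ++ (j9_726_18 ++ (j9_726_19 ++ (j9_726_20 ++ (j9_726_21 ++ (j9_726_22 ++ (j9_726_23 ++ (j9_726_24 ++ (j9_726_25 ++ (j9_726_26 ++ (j9_726_27 ++ (j9_726_28 ++ (j9_726_29 ++ (j9_726_30 ++ (j9_726_31 ++ (j9_726_32 ++ (j9_726_33 ++ (j9_726_34 ++ (j9_726_35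 ++ (j9_726_36 ++ (j9_726_37 ++ (j9_726_38 ++ (j9_726_39 ++ (j9_726_40 ++ (j9_726_41 ++ (j9_726_42 ++ (j9_726_43 ++ (j9_726_44 ++ [])))))))))))))))))))))))))))))))))))))))))))))
  (jobs_append t9_726_0 <| jobs_append t9_726_1 <| jobs_append t9_726_2 <| jobs_append t9_726_3 <| jobs_append t9_726_4 <| jobs_append t9_726_5 <| jobs_append t9_726_6 <| jobs_append t9_726_7 <| jobs_append t9_726_8 <| jobs_append t9_726_9 <| jobs_append t9_726_10 <| jobs_append t9_726_11 <| jobs_append t9_726_12 <| jobs_append t9_726_13 <| jobs_append t9_726_14 <| jobs_append t9_726_15 <| jobs_append t9_726_16 <| jobs_append t9_726_17 <| jobs_append t9_726_18 <| jobs_append t9_726_19 <| jobs_append t9_726_20 <| jobs_append t9_726_21 <| jobs_append t9_726_22 <| jobs_append t9_726_23 <| jobs_append t9_726_24 <| jobs_append t9_726_25 <| jobs_append t9_726_26 <| jobs_append t9_726_27 <| jobs_append t9_726_28 <| jobs_append t9_726_29 <| jobs_append t9_726_30 <| jobs_append t9_726_31 <| jobs_append t9_726_32 <| jobs_append t9_726_33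 <| jobs_append t9_726_34 <| jobs_append t9_726_35 <| jobs_append t9_726_36 <| jobs_append t9_726_37 <| jobs_append t9_726_38 <| jobs_append t9_726_39 <| jobs_append t9_726_40 <| jobs_append t9_726_41 <| jobs_append t9_726_42 <| jobs_append t9_726_43 <| jobs_append t9_726_44 <| List.forall_mem_nil _) (by decide +kernel)

noncomputable def j9_727_0 : List Job := [
  ⟨63, 0x560b25a2d970ba5e2fd40a25229950aa562bd20924a259309a4e27d008242219108a4623c663111884261101, 0, 15, 0x210000610000c10000e11001411, []⟩]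

theorem t9_727_0 : jobs 8 S9 b8_727 j9_727_0 = true := by decide +kernel

noncomputable def j9_727_1 : List Job := [
  ⟨44, 0x4361909844160901, 0, 3, 0x0, []⟩]

theorem t9_727_1 : jobs 8 S9 b8_727 j9_727_1 = true := by decide +kernel

noncomputable def j9_727_2 : List Job := [
  ⟨43, 0x4361909844160901, 0, 20, 0x0, []⟩]

theorem t9_727_2 : jobs 8 S9 b8_727 j9_727_2 = true := by decide +kernel

noncomputable def j9_727_3 : List Job := [
  ⟨24, 0x4361909844160901, 0, 3, 0x0, []⟩]

theorem t9_727_3 : jobs 8 S9 b8_727 j9_727_3 = true := by decide +kernel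

noncomputable def j9_727_4 : List Job := [
  ⟨23, 0x4361909844160901, 0, 20, 0x0, []⟩]

theorem t9_727_4 : jobs 8 S9 b8_727 j9_727_4 = true := by decide +kernel

noncomputable def j9_727_5 : List Job := [
  ⟨8, 0x550aa562b960b25a2dd40a25229970ba5e2fd108a4623920924a25d008242219309a4e27c361909844160901, 0, 3, 0x200000400, [(1, ⟨2223, 0x100004a00920005402060004000680004020001, 0x180278902a070202402⟩), (0, ⟨2222, 0x112004200108047400060104008680404020001, 0x1862408424070202402⟩)]⟩]

theorem t9_727_5 : jobs 8 S9 b8_727 j9_727_5 = true := by decide +kernel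

noncomputable def j9_727_6 : List Job := [
  ⟨7, 0x550aa562b960b25a2dd40a25229970ba5e2fd108a4623920924a25d008242219309a4e27c361909844160901, 0, 2, 0x0, []⟩]

theorem t9_727_6 : jobs 8 S9 b8_727 j9_727_6 = true := by decide +kernel

noncomputable def j9_727_7 : List Job := [
  ⟨4, 0x550aa562b960b25a2dd40a25229970ba5e2fd108a4623920924a25d008242219309a4e27c361909844160901, 0, 3, 0x0, []⟩]

theorem t9_727_7 : jobs 8 S9 b8_727 j9_727_7 = true := by decide +kernel

noncomputable def j9_727_8 : List Job := [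
  ⟨3, 0x550aa562b960b25a2dd40a25229970ba5e2fd108a4623920924a25d008242219309a4e27c361909844160901, 0, 20, 0x0, []⟩]

theorem t9_727_8 : jobs 8 S9 b8_727 j9_727_8 = true := by decide +kernel

noncomputable def j9_727_9 : List Job := [
  ⟨2, 0x4381f09844180f01, 0, 72, 0x0, []⟩]

theorem t9_727_9 : jobs 8 S9 b8_727 j9_727_9 = true := by decide +kernel

noncomputable def j9_727_10 : List Job := [
  ⟨1, 0x560b25a2d970ba5e2fd40a25229950aa562bd20924a259309a4e27d008242219108a4623c381f09844180f01, 0, 72, 0x0, []⟩]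

theorem t9_727_10 : jobs 8 S9 b8_727 j9_727_10 = true := by decide +kernel

noncomputable def j9_727_11 : List Job := [
  ⟨0, 0x4381f09844180f01, 0, 72, 0x0, []⟩]

theorem t9_727_11 : jobs 8 S9 b8_727 j9_727_11 = true := by decide +kernel

theorem d9_727 : Dn 8 S9 b8_727 := dn_of (Js := j9_727_0 ++ (j9_727_1 ++ (j9_727_2 ++ (j9_727_3 ++ (j9_727_4 ++ (j9_727_5 ++ (j9_727_6 ++ (j9_727_7 ++ (j9_727_8 ++ (j9_727_9 ++ (j9_727_10 ++ (j9_727_11 ++ []))))))))))))
  (jobs_append t9_727_0 <| jobs_append t9_727_1 <| jobs_append t9_727_2 <| jobs_append t9_727_3 <| jobs_append t9_727_4 <| jobs_append t9_727_5 <| jobs_append t9_727_6 <| jobs_append t9_727_7 <| jobs_append t9_727_8 <| jobs_append t9_727_9 <| jobs_append t9_727_10 <| jobs_append t9_727_11 <| List.forall_mem_nil _) (by decide +kernel)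

noncomputable def j9_728_0 : List Job := [
  ⟨63, 0x68142a251a914aa653aa152aa55ab15aae57d20924a259309a4e27d008242219108a4623c502a1e0fc40221a0dc3e1d0b854160901, 0, 64, 0x0, []⟩]

theorem t9_728_0 : jobs 8 S9 b8_728 j9_728_0 = true := by decide +kernel

noncomputable def j9_728_1 : List Job := [
  ⟨62, 0x601028241a110a8643a21128a45a311a8e47d20924a259309a4e27d008242219108a4623c502a1e0fc40221a0dc3e1d0b854160901, 0, 64, 0x0, []⟩]

theorem t9_728_1 : jobs 8 S9 b8_728 j9_728_1 = true := by decide +kernel

noncomputable def j9_728_2 : List Job := [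
  ⟨61, 0x4543f140f44437100d43e1d0b854160901, 0, 40, 0x0, []⟩]

theorem t9_728_2 : jobs 8 S9 b8_728 j9_728_2 = true := by decide +kernel

noncomputable def j9_728_3 : List Job := [
  ⟨60, 0x68142a251a914aa653aa152aa55ab15aae57e01028241a110a8643a21128a45a311a8e47c543f140f44437100d43e1d0b854160901, 0, 40, 0x0, []⟩]

theorem t9_728_3 : jobs 8 S9 b8_728 j9_728_3 = true := by decide +kernel

noncomputable def j9_728_4 : List Job := [
  ⟨59, 0x550aa562b960b25a2dd40a25229970ba5e2fd20924a259309a4e27d008242219108a4623c543f140f44437100d43e1d0b854160901, 0, 40, 0x0, []⟩]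

theorem t9_728_4 : jobs 8 S9 b8_728 j9_728_4 = true := by decide +kernel

noncomputable def j9_728_5 : List Job := [
  ⟨58, 0x68142a251a914aa653aa152aa55ab15aae57e01028241a110a8643a21128a45a311a8e47d50aa562b960b25a2dd40a25229970ba5e2fd20924a259309a4e27d008242219108a4623c543f140f44437100d43e1d0b854160901, 0, 80, 0x0, []⟩]

theorem t9_728_5 : jobs 8 S9 b8_728 j9_728_5 = true := by decide +kernel

noncomputable def j9_728_6 : List Job := [
  ⟨57, 0x68142a251a914aa653aa152aa55ab15aae57c543f140f44437100d43e1d0b854160901, 0, 40, 0x0, []⟩]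

theorem t9_728_6 : jobs 8 S9 b8_728 j9_728_6 = true := by decide +kernel

noncomputable def j9_728_7 : List Job := [
  ⟨56, 0x601028241a110a8643a21128a45a311a8e47c543f140f44437100d43e1d0b854160901, 0, 40, 0x0, []⟩]

theorem t9_728_7 : jobs 8 S9 b8_728 j9_728_7 = true := by decide +kernel

noncomputable def j9_728_8 : List Job := [
  ⟨55, 0x68142a251a914aa653aa152aa55ab15aae57d50aa562b960b25a2dd40a25229970ba5e2fd20924a259309a4e27d008242219108a4623c543f140f44437100d43e1d0b854160901, 0, 40, 0x0, []⟩]

theorem t9_728_8 : jobs 8 S9 b8_728 j9_728_8 = true := by decide +kernel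

noncomputable def j9_728_9 : List Job := [
  ⟨54, 0x601028241a110a8643a21128a45a311a8e47d50aa562b960b25a2dd40a25229970ba5e2fd20924a259309a4e27d008242219108a4623c543f140f44437100d43e1d0b854160901, 0, 40, 0x0, []⟩]

theorem t9_728_9 : jobs 8 S9 b8_728 j9_728_9 = true := by decide +kernel

noncomputable def j9_728_10 : List Job := [
  ⟨53, 0x4543d140fc4435100dc3e1d0b854160901, 0, 40, 0x0, []⟩]

theorem t9_728_10 : jobs 8 S9 b8_728 j9_728_10 = true := by decide +kernel

noncomputable def j9_728_11 : List Job := [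
  ⟨52, 0x68142a251a914aa653aa152aa55ab15aae57e01028241a110a8643a21128a45a311a8e47c543d140fc4435100dc3e1d0b854160901, 0, 40, 0x0, []⟩]

theorem t9_728_11 : jobs 8 S9 b8_728 j9_728_11 = true := by decide +kernel

noncomputable def j9_728_12 : List Job := [
  ⟨51, 0x550aa562b960b25a2dd40a25229970ba5e2fd20924a259309a4e27d008242219108a4623c543d140fc4435100dc3e1d0b854160901, 0, 40, 0x0, []⟩]

theorem t9_728_12 : jobs 8 S9 b8_728 j9_728_12 = true := by decide +kernel

noncomputable def j9_728_13 : List Job := [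
  ⟨50, 0x68142a251a914aa653aa152aa55ab15aae57e01028241a110a8643a21128a45a311a8e47d50aa562b960b25a2dd40a25229970ba5e2fd20924a259309a4e27d008242219108a4623c543d140fc4435100dc3e1d0b854160901, 0, 44, 0x0, []⟩]

theorem t9_728_13 : jobs 8 S9 b8_728 j9_728_13 = true := by decide +kernel

noncomputable def j9_728_14 : List Job := [
  ⟨49, 0x68142a251a914aa653aa152aa55ab15aae57c543d140fc4435100dc3e1d0b854160901, 0, 40, 0x0, []⟩]

theorem t9_728_14 : jobs 8 S9 b8_728 j9_728_14 = true := by decide +kernel

noncomputable def j9_728_15 : List Job := [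
  ⟨48, 0x601028241a110a8643a21128a45a311a8e47c543d140fc4435100dc3e1d0b854160901, 0, 40, 0x0, []⟩]

theorem t9_728_15 : jobs 8 S9 b8_728 j9_728_15 = true := by decide +kernel

noncomputable def j9_728_16 : List Job := [
  ⟨47, 0x68142a251a914aa653aa152aa55ab15aae57d50aa562b960b25a2dd40a25229970ba5e2fd20924a259309a4e27d008242219108a4623c543d140fc4435100dc3e1d0b854160901, 0, 40, 0x0, []⟩]

theorem t9_728_16 : jobs 8 S9 b8_728 j9_728_16 = true := by decide +kernel

noncomputable def j9_728_17 : List Job := [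
  ⟨46, 0x601028241a110a8643a21128a45a311a8e47d50aa562b960b25a2dd40a25229970ba5e2fd20924a259309a4e27d008242219108a4623c543d140fc4435100dc3e1d0b854160901, 0, 40, 0x0, []⟩]

theorem t9_728_17 : jobs 8 S9 b8_728 j9_728_17 = true := by decide +kernel

noncomputable def j9_728_18 : List Job := [
  ⟨45, 0x68142a251a914aa653aa152aa55ab15aae57d20924a259309a4e27d008242219108a4623c4826180cc40221a0dc2e15098440e0501, 0, 64, 0x0, []⟩]

theorem t9_728_18 : jobs 8 S9 b8_728 j9_728_18 = true := by decide +kernel

noncomputable def j9_728_19 : List Job := [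
  ⟨44, 0x601028241a110a8643a21128a45a311a8e47d20924a259309a4e27d008242219108a4623c4826180cc40221a0dc2e15098440e0501, 0, 64, 0x0, []⟩]

theorem t9_728_19 : jobs 8 S9 b8_728 j9_728_19 = true := by decide +kernel

noncomputable def j9_728_20 : List Job := [
  ⟨43, 0x520924a259309a4e27d008242219108a4623c4826180cc40221a0dc2e15098440e0501, 0, 64, 0x0, []⟩]

theorem t9_728_20 : jobs 8 S9 b8_728 j9_728_20 = true := by decide +kernel

noncomputable def j9_728_21 : List Job := [
  ⟨42, 0x68142a251a914aa653aa152aa55ab15aae57e01028241a110a8643a21128a45a311a8e47d20924a259309a4e27d008242219108a4623c4826180cc40221a0dc2e15098440e0501, 0, 64, 0x0, []⟩]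

theorem t9_728_21 : jobs 8 S9 b8_728 j9_728_21 = true := by decide +kernel

noncomputable def j9_728_22 : List Job := [
  ⟨41, 0x601028241a110a8643a21128a45a311a8e47c4826180cc40221a0dc2e15098440e0501, 0, 64, 0x0, []⟩]

theorem t9_728_22 : jobs 8 S9 b8_728 j9_728_22 = true := by decide +kernel

noncomputable def j9_728_23 : List Job := [
  ⟨40, 0x601028241a110a8643a21128a45a311a8e47d50aa562b960b25a2dd40a25229970ba5e2fd20924a259309a4e27d008242219108a4623c4826180cc40221a0dc2e15098440e0501, 0, 64, 0x0, []⟩]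

theorem t9_728_23 : jobs 8 S9 b8_728 j9_728_23 = true := by decide +kernel

noncomputable def j9_728_24 : List Job := [
  ⟨39, 0x44826180cc40221a0dc2e15098440e0501, 0, 32, 0x0, []⟩]

theorem t9_728_24 : jobs 8 S9 b8_728 j9_728_24 = true := by decide +kernel

noncomputable def j9_728_25 : List Job := [
  ⟨38, 0x68142a251a914aa653aa152aa55ab15aae57e01028241a110a8643a21128a45a311a8e47c4826180cc40221a0dc2e15098440e0501, 0, 32, 0x0, []⟩]

theorem t9_728_25 : jobs 8 S9 b8_728 j9_728_25 = true := by decide +kernel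

noncomputable def j9_728_26 : List Job := [
  ⟨37, 0x550aa562b960b25a2dd40a25229970ba5e2fd20924a259309a4e27d008242219108a4623c4826180cc40221a0dc2e15098440e0501, 0, 32, 0x0, []⟩]

theorem t9_728_26 : jobs 8 S9 b8_728 j9_728_26 = true := by decide +kernel

noncomputable def j9_728_27 : List Job := [
  ⟨36, 0x68142a251a914aa653aa152aa55ab15aae57e01028241a110a8643a21128a45a311a8e47d50aa562b960b25a2dd40a25229970ba5e2fd20924a259309a4e27d008242219108a4623c4826180cc40221a0dc2e15098440e0501, 0, 32, 0x0, []⟩]

theorem t9_728_27 : jobs 8 S9 b8_728 j9_728_27 = true := by decide +kernel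

noncomputable def j9_728_28 : List Job := [
  ⟨35, 0x601028241a110a8643a21128a45a311a8e47d20924a259309a4e27d008242219108a4623c4826180cc40221a0dc2e15098440e0501, 0, 64, 0x0, []⟩]

theorem t9_728_28 : jobs 8 S9 b8_728 j9_728_28 = true := by decide +kernel

noncomputable def j9_728_29 : List Job := [
  ⟨34, 0x520924a259309a4e27d008242219108a4623c4826180cc40221a0dc2e15098440e0501, 0, 32, 0x0, []⟩]

theorem t9_728_29 : jobs 8 S9 b8_728 j9_728_29 = true := by decide +kernel

noncomputable def j9_728_30 : List Job := [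
  ⟨33, 0x68142a251a914aa653aa152aa55ab15aae57e01028241a110a8643a21128a45a311a8e47d20924a259309a4e27d008242219108a4623c4826180cc40221a0dc2e15098440e0501, 0, 32, 0x0, []⟩]

theorem t9_728_30 : jobs 8 S9 b8_728 j9_728_30 = true := by decide +kernel

noncomputable def j9_728_31 : List Job := [
  ⟨32, 0x601028241a110a8643a21128a45a311a8e47d20924a259309a4e27d008242219108a4623c4826180cc40221a0dc2e15098440e0501, 0, 64, 0x0, []⟩]

theorem t9_728_31 : jobs 8 S9 b8_728 j9_728_31 = true := by decide +kernel

noncomputable def j9_728_32 : List Job := [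
  ⟨31, 0x520924a259309a4e27d008242219108a4623c4826180cc40221a0dc2e15098440e0501, 0, 32, 0x0, []⟩]

theorem t9_728_32 : jobs 8 S9 b8_728 j9_728_32 = true := by decide +kernel

noncomputable def j9_728_33 : List Job := [
  ⟨30, 0x68142a251a914aa653aa152aa55ab15aae57e01028241a110a8643a21128a45a311a8e47d20924a259309a4e27d008242219108a4623c4826180cc40221a0dc2e15098440e0501, 0, 32, 0x0, []⟩]

theorem t9_728_33 : jobs 8 S9 b8_728 j9_728_33 = true := by decide +kernel

noncomputable def j9_728_34 : List Job := [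
  ⟨29, 0x601028241a110a8643a21128a45a311a8e47c4c31120cc4435100dc2e15098440e0501, 0, 40, 0x0, []⟩]

theorem t9_728_34 : jobs 8 S9 b8_728 j9_728_34 = true := by decide +kernel

noncomputable def j9_728_35 : List Job := [
  ⟨28, 0x601028241a110a8643a21128a45a311a8e47d50aa562b960b25a2dd40a25229970ba5e2fd20924a259309a4e27d008242219108a4623c4c31120cc4435100dc2e15098440e0501, 0, 40, 0x0, []⟩]

theorem t9_728_35 : jobs 8 S9 b8_728 j9_728_35 = true := by decide +kernel

noncomputable def j9_728_36 : List Job := [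
  ⟨27, 0x44c31120cc4435100dc2e15098440e0501, 0, 20, 0x0, []⟩]

theorem t9_728_36 : jobs 8 S9 b8_728 j9_728_36 = true := by decide +kernel

noncomputable def j9_728_37 : List Job := [
  ⟨26, 0x68142a251a914aa653aa152aa55ab15aae57e01028241a110a8643a21128a45a311a8e47c4c31120cc4435100dc2e15098440e0501, 0, 20, 0x0, []⟩]

theorem t9_728_37 : jobs 8 S9 b8_728 j9_728_37 = true := by decide +kernel

noncomputable def j9_728_38 : List Job := [
  ⟨25, 0x550aa562b960b25a2dd40a25229970ba5e2fd20924a259309a4e27d008242219108a4623c4c31120cc4435100dc2e15098440e0501, 0, 24, 0x0, []⟩]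

theorem t9_728_38 : jobs 8 S9 b8_728 j9_728_38 = true := by decide +kernel

noncomputable def j9_728_39 : List Job := [
  ⟨24, 0x68142a251a914aa653aa152aa55ab15aae57e01028241a110a8643a21128a45a311a8e47d50aa562b960b25a2dd40a25229970ba5e2fd20924a259309a4e27d008242219108a4623c4c31120cc4435100dc2e15098440e0501, 0, 30, 0x601000801, []⟩]

theorem t9_728_39 : jobs 8 S9 b8_728 j9_728_39 = true := by decide +kernel

noncomputable def j9_728_40 : List Job := [
  ⟨23, 0x601028241a110a8643a21128a45a311a8e47c4c33120c44437100d42e15098440e0501, 0, 40, 0x0, []⟩]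

theorem t9_728_40 : jobs 8 S9 b8_728 j9_728_40 = true := by decide +kernel

noncomputable def j9_728_41 : List Job := [
  ⟨22, 0x601028241a110a8643a21128a45a311a8e47d50aa562b960b25a2dd40a25229970ba5e2fd20924a259309a4e27d008242219108a4623c4c33120c44437100d42e15098440e0501, 0, 40, 0x0, []⟩]

theorem t9_728_41 : jobs 8 S9 b8_728 j9_728_41 = true := by decide +kernel

noncomputable def j9_728_42 : List Job := [
  ⟨21, 0x44c33120c44437100d42e15098440e0501, 0, 24, 0x0, []⟩]

theorem t9_728_42 : jobs 8 S9 b8_728 j9_728_42 = true := by decide +kernel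

noncomputable def j9_728_43 : List Job := [
  ⟨20, 0x68142a251a914aa653aa152aa55ab15aae57e01028241a110a8643a21128a45a311a8e47c4c33120c44437100d42e15098440e0501, 0, 24, 0x0, []⟩]

theorem t9_728_43 : jobs 8 S9 b8_728 j9_728_43 = true := by decide +kernel

noncomputable def j9_728_44 : List Job := [
  ⟨19, 0x550aa562b960b25a2dd40a25229970ba5e2fd20924a259309a4e27d008242219108a4623c4c33120c44437100d42e15098440e0501, 0, 28, 0x0, []⟩]

theorem t9_728_44 : jobs 8 S9 b8_728 j9_728_44 = true := by decide +kernel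

noncomputable def j9_728_45 : List Job := [
  ⟨18, 0x68142a251a914aa653aa152aa55ab15aae57e01028241a110a8643a21128a45a311a8e47d50aa562b960b25a2dd40a25229970ba5e2fd20924a259309a4e27d008242219108a4623c4c33120c44437100d42e15098440e0501, 0, 56, 0x0, []⟩]

theorem t9_728_45 : jobs 8 S9 b8_728 j9_728_45 = true := by decide +kernel

noncomputable def j9_728_46 : List Job := [
  ⟨0, 0x560b25a2d970ba5e2fd40a25229950aa562bd20924a259309a4e27d008242219108a4623c663111884261101, 0, 4, 0x0, []⟩]

theorem t9_728_46 : jobs 8 S9 b8_728 j9_728_46 = true := by decide +kernel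

theorem d9_728 : Dn 8 S9 b8_728 := dn_of (Js := j9_728_0 ++ (j9_728_1 ++ (j9_728_2 ++ (j9_728_3 ++ (j9_728_4 ++ (j9_728_5 ++ (j9_728_6 ++ (j9_728_7 ++ (j9_728_8 ++ (j9_728_9 ++ (j9_728_10 ++ (j9_728_11 ++ (j9_728_12 ++ (j9_728_13 ++ (j9_728_14 ++ (j9_728_15 ++ (j9_728_16 ++ (j9_728_17 ++ (j9_728_18 ++ (j9_728_19 ++ (j9_728_20 ++ (j9_728_21 ++ (j9_728_22 ++ (j9_728_23 ++ (j9_728_24 ++ (j9_728_25 ++ (j9_728_26 ++ (j9_728_27 ++ (j9_728_28 ++ (j9_728_29 ++ (j9_728_30 ++ (j9_728_31 ++ (j9_728_32 ++ (j9_728_33 ++ (j9_728_34 ++ (j9_728_35 ++ (j9_728_36 ++ (j9_728_37 ++ (j9_728_38 ++ (j9_728_39 ++ (j9_728_40 ++ (j9_728_41 ++ (j9_728_42 ++ (j9_728_43 ++ (j9_728_44 ++ (j9_728_45 ++ (j9_728_46 ++ [])))))))))))))))))))))))))))))))))))))))))))))))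
  (jobs_append t9_728_0 <| jobs_append t9_728_1 <| jobs_append t9_728_2 <| jobs_append t9_728_3 <| jobs_append t9_728_4 <| jobs_append t9_728_5 <| jobs_append t9_728_6 <| jobs_append t9_728_7 <| jobs_append t9_728_8 <| jobs_append t9_728_9 <| jobs_append t9_728_10 <| jobs_append t9_728_11 <| jobs_append t9_728_12 <| jobs_append t9_728_13 <| jobs_append t9_728_14 <| jobs_append t9_728_15 <| jobs_append t9_728_16 <| jobs_append t9_728_17 <| jobs_append t9_728_18 <| jobs_append t9_728_19 <| jobs_append t9_728_20 <| jobs_append t9_728_21 <| jobs_append t9_728_22 <| jobs_append t9_728_23 <| jobs_append t9_728_24 <| jobs_append t9_728_25 <| jobs_append t9_728_26 <| jobs_append t9_728_27 <| jobs_append t9_728_28 <| jobs_append t9_728_29 <| jobs_append t9_728_30 <| jobs_append t9_728_31 <| jobs_append t9_728_32 <| jobs_append t9_728_33 <| jobs_append t9_728_34 <| jobs_append t9_728_35 <| jobs_append t9_728_36 <| jobs_append t9_728_37 <| jobs_append t9_728_38 <| jobs_append t9_728_39 <| jobs_append t9_728_40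 <| jobs_append t9_728_41 <| jobs_append t9_728_42 <| jobs_append t9_728_43 <| jobs_append t9_728_44 <| jobs_append t9_728_45 <| jobs_append t9_728_46 <| List.forall_mem_nil _) (by decide +kernel)

noncomputable def j9_729_0 : List Job := [
  ⟨63, 0x588c664329a8d66c36d80c266339a0d26e37d108a46239309a4e27d00824221920924a25c361909844160901, 0, 24, 0x0, []⟩]

theorem t9_729_0 : jobs 8 S9 b8_729 j9_729_0 = true := by decide +kernel

noncomputable def j9_729_1 : List Job := [
  ⟨62, 0x641229249a512a964ba61329a4da713a9e4fe01028241a110a8643a21128a45a311a8e47d88c664329a8d66c36d80c266339a0d26e37d108a46239309a4e27d00824221920924a25c361909844160901, 0, 56, 0x0, []⟩]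

theorem t9_729_1 : jobs 8 S9 b8_729 j9_729_1 = true := by decide +kernel

noncomputable def j9_729_2 : List Job := [
  ⟨61, 0x6c966b45aae172be5fe01028241a311a8e47d88c664329a8d66c36d00824221920924a25c381f0c06c080701, 0, 80, 0x0, []⟩]

theorem t9_729_2 : jobs 8 S9 b8_729 j9_729_2 = true := by decide +kernel

noncomputable def j9_729_3 : List Job := [
  ⟨60, 0x6c162b65bae976bc5ee05068d47601048c47d88c664329a8d66c36d00824221920924a25c381f0c06c080701, 0, 80, 0x0, []⟩]

theorem t9_729_3 : jobs 8 S9 b8_729 j9_729_3 = true := by decide +kernel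

noncomputable def j9_729_4 : List Job := [
  ⟨59, 0x6c966b45aae172be5fec162b65bae976bc5ed108a46239309a4e27d00824221920924a25c361909844160901, 0, 44, 0x0, []⟩]

theorem t9_729_4 : jobs 8 S9 b8_729 j9_729_4 = true := by decide +kernel

noncomputable def j9_729_5 : List Job := [
  ⟨58, 0x6110a8643a21128a45e01028241a311a8e47d108a46239309a4e27d00824221920924a25c361909844160901, 0, 44, 0x0, []⟩]

theorem t9_729_5 : jobs 8 S9 b8_729 j9_729_5 = true := by decide +kernel

noncomputable def j9_729_6 : List Job := [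
  ⟨57, 0x4361909844160901, 0, 31, 0x201000401000601, []⟩]

theorem t9_729_6 : jobs 8 S9 b8_729 j9_729_6 = true := by decide +kernel

noncomputable def j9_729_7 : List Job := [
  ⟨56, 0x588c664329a8d66c36d80c266339a0d26e37d108a46239309a4e27d00824221920924a25c361909844160901, 0, 46, 0x801000a01000c01, []⟩]

theorem t9_729_7 : jobs 8 S9 b8_729 j9_729_7 = true := by decide +kernel

noncomputable def j9_729_8 : List Job := [
  ⟨55, 0x6c966b45aae172be5fec162b65bae976bc5ee110a8643a21128a45e01028241a311a8e47d88c664329a8d66c36d80c266339a0d26e37d108a46239309a4e27d00824221920924a25c361909844160901, 0, 34, 0x4000004200, [(32, ⟨2228, 0x5d8006a00256004580083001090020a004040080001, 0x1bf328b832050182c02⟩), (31, ⟨2229, 0x5d8006a00256004580083001090020a004040080001, 0x1bf328b832050182c02⟩)]⟩]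

theorem t9_729_8 : jobs 8 S9 b8_729 j9_729_8 = true := by decide +kernel

noncomputable def j9_729_9 : List Job := [
  ⟨54, 0x6110a8643a21128a45e01028241a311a8e47c361909844160901, 0, 72, 0x201000401000601000801, []⟩]

theorem t9_729_9 : jobs 8 S9 b8_729 j9_729_9 = true := by decide +kernel

noncomputable def j9_729_10 : List Job := [
  ⟨53, 0x6110a8643a21128a45e01028241a311a8e47d88c664329a8d66c36d80c266339a0d26e37d108a46239309a4e27d00824221920924a25c361909844160901, 0, 72, 0x0, []⟩]

theorem t9_729_10 : jobs 8 S9 b8_729 j9_729_10 = true := by decide +kernel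

noncomputable def j9_729_11 : List Job := [
  ⟨52, 0x6110a8643a21128a45e01028241a311a8e47d108a46239309a4e27d00824221920924a25c361909844160901, 0, 44, 0x0, []⟩]

theorem t9_729_11 : jobs 8 S9 b8_729 j9_729_11 = true := by decide +kernel

noncomputable def j9_729_12 : List Job := [
  ⟨51, 0x4361909844160901, 0, 18, 0x201000401000601, []⟩]

theorem t9_729_12 : jobs 8 S9 b8_729 j9_729_12 = true := by decide +kernel

noncomputable def j9_729_13 : List Job := [
  ⟨50, 0x588c664329a8d66c36d80c266339a0d26e37d108a46239309a4e27d00824221920924a25c361909844160901, 0, 30, 0x801000a01000c01, []⟩]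

theorem t9_729_13 : jobs 8 S9 b8_729 j9_729_13 = true := by decide +kernel

noncomputable def j9_729_14 : List Job := [
  ⟨49, 0x6c966b45aae172be5fec162b65bae976bc5ee110a8643a21128a45e01028241a311a8e47d88c664329a8d66c36d80c266339a0d26e37d108a46239309a4e27d00824221920924a25c361909844160901, 0, 28, 0x2e01003001003201003401, []⟩]

theorem t9_729_14 : jobs 8 S9 b8_729 j9_729_14 = true := by decide +kernel

noncomputable def j9_729_15 : List Job := [
  ⟨48, 0x6110a8643a21128a45e01028241a311a8e47c361909844160901, 0, 39, 0x201000401000601, []⟩]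

theorem t9_729_15 : jobs 8 S9 b8_729 j9_729_15 = true := by decide +kernel

noncomputable def j9_729_16 : List Job := [
  ⟨47, 0x6110a8643a21128a45e01028241a311a8e47d88c664329a8d66c36d80c266339a0d26e37d108a46239309a4e27d00824221920924a25c361909844160901, 0, 39, 0x0, []⟩]

theorem t9_729_16 : jobs 8 S9 b8_729 j9_729_16 = true := by decide +kernel

noncomputable def j9_729_17 : List Job := [
  ⟨46, 0x6110a8643a21128a45e01028241a311a8e47d108a46239309a4e27d00824221920924a25c361909844160901, 0, 44, 0x0, []⟩]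

theorem t9_729_17 : jobs 8 S9 b8_729 j9_729_17 = true := by decide +kernel

noncomputable def j9_729_18 : List Job := [
  ⟨45, 0x6110a8643a21128a45e01028241a311a8e47c361909844160901, 0, 39, 0x201000401000601, []⟩]

theorem t9_729_18 : jobs 8 S9 b8_729 j9_729_18 = true := by decide +kernel

noncomputable def j9_729_19 : List Job := [
  ⟨44, 0x6110a8643a21128a45e01028241a311a8e47d88c664329a8d66c36d80c266339a0d26e37d108a46239309a4e27d00824221920924a25c361909844160901, 0, 39, 0x0, []⟩]

theorem t9_729_19 : jobs 8 S9 b8_729 j9_729_19 = true := by decide +kernel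

noncomputable def j9_729_20 : List Job := [
  ⟨43, 0x4361909844160901, 0, 18, 0x201000401000601, []⟩]

theorem t9_729_20 : jobs 8 S9 b8_729 j9_729_20 = true := by decide +kernel

noncomputable def j9_729_21 : List Job := [
  ⟨42, 0x588c664329a8d66c36d80c266339a0d26e37d108a46239309a4e27d00824221920924a25c361909844160901, 0, 30, 0x801000a01000c01, []⟩]

theorem t9_729_21 : jobs 8 S9 b8_729 j9_729_21 = true := by decide +kernel

noncomputable def j9_729_22 : List Job := [
  ⟨41, 0x6c966b45aae172be5fec162b65bae976bc5ee110a8643a21128a45e01028241a311a8e47d88c664329a8d66c36d80c266339a0d26e37d108a46239309a4e27d00824221920924a25c361909844160901, 0, 43, 0x5401005601, []⟩]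

theorem t9_729_22 : jobs 8 S9 b8_729 j9_729_22 = true := by decide +kernel

noncomputable def j9_729_23 : List Job := [
  ⟨40, 0x6c162b259ad16ab65bae172ba5daf17abe5fd008242219108a4623920924a259309a4e27c4826180cc40221a0dc2e15098440e0501, 0, 40, 0x0, []⟩]

theorem t9_729_23 : jobs 8 S9 b8_729 j9_729_23 = true := by decide +kernel

noncomputable def j9_729_24 : List Job := [
  ⟨39, 0x601028241a110a8643a21128a45a311a8e47d008242219108a4623920924a259309a4e27c4826180cc40221a0dc2e15098440e0501, 0, 40, 0x0, []⟩]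

theorem t9_729_24 : jobs 8 S9 b8_729 j9_729_24 = true := by decide +kernel

noncomputable def j9_729_25 : List Job := [
  ⟨38, 0x44826180cc40221a0dc2e15098440e0501, 0, 28, 0x0, []⟩]

theorem t9_729_25 : jobs 8 S9 b8_729 j9_729_25 = true := by decide +kernel

noncomputable def j9_729_26 : List Job := [
  ⟨37, 0x580c26231990ca66339a0d26a359b0da6e37d008242219108a4623920924a259309a4e27c4826180cc40221a0dc2e15098440e0501, 0, 40, 0x0, []⟩]

theorem t9_729_26 : jobs 8 S9 b8_729 j9_729_26 = true := by decide +kernel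

noncomputable def j9_729_27 : List Job := [
  ⟨36, 0x6c162b259ad16ab65bae172ba5daf17abe5fe01028241a110a8643a21128a45a311a8e47d80c26231990ca66339a0d26a359b0da6e37d008242219108a4623920924a259309a4e27c4826180cc40221a0dc2e15098440e0501, 0, 28, 0x0, []⟩]

theorem t9_729_27 : jobs 8 S9 b8_729 j9_729_27 = true := by decide +kernel

noncomputable def j9_729_28 : List Job := [
  ⟨35, 0x601028241a110a8643a21128a45a311a8e47c4826180cc40221a0dc2e15098440e0501, 0, 64, 0x0, []⟩]

theorem t9_729_28 : jobs 8 S9 b8_729 j9_729_28 = true := by decide +kernel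

noncomputable def j9_729_29 : List Job := [
  ⟨34, 0x601028241a110a8643a21128a45a311a8e47d80c26231990ca66339a0d26a359b0da6e37d008242219108a4623920924a259309a4e27c4826180cc40221a0dc2e15098440e0501, 0, 64, 0x0, []⟩]

theorem t9_729_29 : jobs 8 S9 b8_729 j9_729_29 = true := by decide +kernel

noncomputable def j9_729_30 : List Job := [
  ⟨33, 0x601028241a110a8643a21128a45a311a8e47d008242219108a4623920924a259309a4e27c4826180cc40221a0dc2e15098440e0501, 0, 40, 0x0, []⟩]

theorem t9_729_30 : jobs 8 S9 b8_729 j9_729_30 = true := by decide +kernel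

noncomputable def j9_729_31 : List Job := [
  ⟨32, 0x44826180cc40221a0dc2e15098440e0501, 0, 15, 0x0, []⟩]

theorem t9_729_31 : jobs 8 S9 b8_729 j9_729_31 = true := by decide +kernel

noncomputable def j9_729_32 : List Job := [
  ⟨31, 0x580c26231990ca66339a0d26a359b0da6e37d008242219108a4623920924a259309a4e27c4826180cc40221a0dc2e15098440e0501, 0, 24, 0x0, []⟩]

theorem t9_729_32 : jobs 8 S9 b8_729 j9_729_32 = true := by decide +kernel

noncomputable def j9_729_33 : List Job := [
  ⟨30, 0x6c162b259ad16ab65bae172ba5daf17abe5fe01028241a110a8643a21128a45a311a8e47d80c26231990ca66339a0d26a359b0da6e37d008242219108a4623920924a259309a4e27c4826180cc40221a0dc2e15098440e0501, 0, 19, 0x0, []⟩]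

theorem t9_729_33 : jobs 8 S9 b8_729 j9_729_33 = true := by decide +kernel

noncomputable def j9_729_34 : List Job := [
  ⟨29, 0x601028241a110a8643a21128a45a311a8e47c4826180cc40221a0dc2e15098440e0501, 0, 32, 0x0, []⟩]

theorem t9_729_34 : jobs 8 S9 b8_729 j9_729_34 = true := by decide +kernel

noncomputable def j9_729_35 : List Job := [
  ⟨28, 0x601028241a110a8643a21128a45a311a8e47d80c26231990ca66339a0d26a359b0da6e37d008242219108a4623920924a259309a4e27c4826180cc40221a0dc2e15098440e0501, 0, 32, 0x0, []⟩]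

theorem t9_729_35 : jobs 8 S9 b8_729 j9_729_35 = true := by decide +kernel

noncomputable def j9_729_36 : List Job := [
  ⟨27, 0x601028241a110a8643a21128a45a311a8e47d008242219108a4623920924a259309a4e27c4c31120cc4435100dc2e15098440e0501, 0, 40, 0x0, []⟩]

theorem t9_729_36 : jobs 8 S9 b8_729 j9_729_36 = true := by decide +kernel

noncomputable def j9_729_37 : List Job := [
  ⟨26, 0x601028241a110a8643a21128a45a311a8e47c4c31120cc4435100dc2e15098440e0501, 0, 32, 0x0, []⟩]

theorem t9_729_37 : jobs 8 S9 b8_729 j9_729_37 = true := by decide +kernel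

noncomputable def j9_729_38 : List Job := [
  ⟨25, 0x601028241a110a8643a21128a45a311a8e47d80c26231990ca66339a0d26a359b0da6e37d008242219108a4623920924a259309a4e27c4c31120cc4435100dc2e15098440e0501, 0, 32, 0x0, []⟩]

theorem t9_729_38 : jobs 8 S9 b8_729 j9_729_38 = true := by decide +kernel

noncomputable def j9_729_39 : List Job := [
  ⟨24, 0x44c33120c44437100d42e15098440e0501, 0, 15, 0x0, []⟩]

theorem t9_729_39 : jobs 8 S9 b8_729 j9_729_39 = true := by decide +kernel

noncomputable def j9_729_40 : List Job := [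
  ⟨23, 0x580c26231990ca66339a0d26a359b0da6e37d008242219108a4623920924a259309a4e27c4c33120c44437100d42e15098440e0501, 0, 24, 0x0, []⟩]

theorem t9_729_40 : jobs 8 S9 b8_729 j9_729_40 = true := by decide +kernel

noncomputable def j9_729_41 : List Job := [
  ⟨22, 0x6c162b259ad16ab65bae172ba5daf17abe5fe01028241a110a8643a21128a45a311a8e47d80c26231990ca66339a0d26a359b0da6e37d008242219108a4623920924a259309a4e27c4c33120c44437100d42e15098440e0501, 0, 38, 0x0, []⟩]

theorem t9_729_41 : jobs 8 S9 b8_729 j9_729_41 = true := by decide +kernel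

noncomputable def j9_729_42 : List Job := [
  ⟨21, 0x550aa562b960b25a2dd40a25229970ba5e2fc502a1e0fc40221a0dc3e1d0b854160901, 0, 64, 0x0, []⟩]

theorem t9_729_42 : jobs 8 S9 b8_729 j9_729_42 = true := by decide +kernel

noncomputable def j9_729_43 : List Job := [
  ⟨20, 0x68142a251a914aa653aa152aa55ab15aae57e01028241a110a8643a21128a45a311a8e47d50aa562b960b25a2dd40a25229970ba5e2fc502a1e0fc40221a0dc3e1d0b854160901, 0, 64, 0x0, []⟩]

theorem t9_729_43 : jobs 8 S9 b8_729 j9_729_43 = true := by decide +kernel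

noncomputable def j9_729_44 : List Job := [
  ⟨19, 0x520924a259309a4e27d008242219108a4623c502a1e0fc40221a0dc3e1d0b854160901, 0, 64, 0x0, []⟩]

theorem t9_729_44 : jobs 8 S9 b8_729 j9_729_44 = true := by decide +kernel

noncomputable def j9_729_45 : List Job := [
  ⟨18, 0x68142a251a914aa653aa152aa55ab15aae57e01028241a110a8643a21128a45a311a8e47d20924a259309a4e27d008242219108a4623c502a1e0fc40221a0dc3e1d0b854160901, 0, 64, 0x0, []⟩]

theorem t9_729_45 : jobs 8 S9 b8_729 j9_729_45 = true := by decide +kernel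

noncomputable def j9_729_46 : List Job := [
  ⟨17, 0x68142a251a914aa653aa152aa55ab15aae57d50aa562b960b25a2dd40a25229970ba5e2fc502a1e0fc40221a0dc3e1d0b854160901, 0, 64, 0x0, []⟩]

theorem t9_729_46 : jobs 8 S9 b8_729 j9_729_46 = true := by decide +kernel

noncomputable def j9_729_47 : List Job := [
  ⟨16, 0x601028241a110a8643a21128a45a311a8e47d50aa562b960b25a2dd40a25229970ba5e2fc502a1e0fc40221a0dc3e1d0b854160901, 0, 64, 0x0, []⟩]

theorem t9_729_47 : jobs 8 S9 b8_729 j9_729_47 = true := by decide +kernel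

noncomputable def j9_729_48 : List Job := [
  ⟨15, 0x68142a251a914aa653aa152aa55ab15aae57d20924a259309a4e27d008242219108a4623c502a1e0fc40221a0dc3e1d0b854160901, 0, 64, 0x0, []⟩]

theorem t9_729_48 : jobs 8 S9 b8_729 j9_729_48 = true := by decide +kernel

noncomputable def j9_729_49 : List Job := [
  ⟨14, 0x601028241a110a8643a21128a45a311a8e47d20924a259309a4e27d008242219108a4623c502a1e0fc40221a0dc3e1d0b854160901, 0, 64, 0x0, []⟩]

theorem t9_729_49 : jobs 8 S9 b8_729 j9_729_49 = true := by decide +kernel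

noncomputable def j9_729_50 : List Job := [
  ⟨13, 0x4502a1e0fc40221a0dc3e1d0b854160901, 0, 64, 0x0, []⟩]

theorem t9_729_50 : jobs 8 S9 b8_729 j9_729_50 = true := by decide +kernel

noncomputable def j9_729_51 : List Job := [
  ⟨12, 0x68142a251a914aa653aa152aa55ab15aae57e01028241a110a8643a21128a45a311a8e47c502a1e0fc40221a0dc3e1d0b854160901, 0, 64, 0x0, []⟩]

theorem t9_729_51 : jobs 8 S9 b8_729 j9_729_51 = true := by decide +kernel

noncomputable def j9_729_52 : List Job := [
  ⟨11, 0x550aa562b960b25a2dd40a25229970ba5e2fd20924a259309a4e27d008242219108a4623c502a1e0fc40221a0dc3e1d0b854160901, 0, 64, 0x0, []⟩]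

theorem t9_729_52 : jobs 8 S9 b8_729 j9_729_52 = true := by decide +kernel

noncomputable def j9_729_53 : List Job := [
  ⟨10, 0x68142a251a914aa653aa152aa55ab15aae57e01028241a110a8643a21128a45a311a8e47d50aa562b960b25a2dd40a25229970ba5e2fd20924a259309a4e27d008242219108a4623c502a1e0fc40221a0dc3e1d0b854160901, 0, 64, 0x0, []⟩]

theorem t9_729_53 : jobs 8 S9 b8_729 j9_729_53 = true := by decide +kernel

noncomputable def j9_729_54 : List Job := [
  ⟨9, 0x68142a251a914aa653aa152aa55ab15aae57c502a1e0fc40221a0dc3e1d0b854160901, 0, 64, 0x0, []⟩]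

theorem t9_729_54 : jobs 8 S9 b8_729 j9_729_54 = true := by decide +kernel

noncomputable def j9_729_55 : List Job := [
  ⟨8, 0x601028241a110a8643a21128a45a311a8e47c502a1e0fc40221a0dc3e1d0b854160901, 0, 64, 0x0, []⟩]

theorem t9_729_55 : jobs 8 S9 b8_729 j9_729_55 = true := by decide +kernel

noncomputable def j9_729_56 : List Job := [
  ⟨7, 0x68142a251a914aa653aa152aa55ab15aae57d50aa562b960b25a2dd40a25229970ba5e2fd20924a259309a4e27d008242219108a4623c502a1e0fc40221a0dc3e1d0b854160901, 0, 64, 0x0, []⟩]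

theorem t9_729_56 : jobs 8 S9 b8_729 j9_729_56 = true := by decide +kernel

noncomputable def j9_729_57 : List Job := [
  ⟨6, 0x601028241a110a8643a21128a45a311a8e47d50aa562b960b25a2dd40a25229970ba5e2fd20924a259309a4e27d008242219108a4623c502a1e0fc40221a0dc3e1d0b854160901, 0, 64, 0x0, []⟩]

theorem t9_729_57 : jobs 8 S9 b8_729 j9_729_57 = true := by decide +kernel

noncomputable def j9_729_58 : List Job := [
  ⟨5, 0x520924a259309a4e27d008242219108a4623c502a1e0fc40221a0dc3e1d0b854160901, 0, 64, 0x0, []⟩]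

theorem t9_729_58 : jobs 8 S9 b8_729 j9_729_58 = true := by decide +kernel

noncomputable def j9_729_59 : List Job := [
  ⟨4, 0x68142a251a914aa653aa152aa55ab15aae57e01028241a110a8643a21128a45a311a8e47d20924a259309a4e27d008242219108a4623c502a1e0fc40221a0dc3e1d0b854160901, 0, 64, 0x0, []⟩]

theorem t9_729_59 : jobs 8 S9 b8_729 j9_729_59 = true := by decide +kernel

noncomputable def j9_729_60 : List Job := [
  ⟨3, 0x68142a251a914aa653aa152aa55ab15aae57d20924a259309a4e27d008242219108a4623c502a1e0fc40221a0dc3e1d0b854160901, 0, 64, 0x0, []⟩]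

theorem t9_729_60 : jobs 8 S9 b8_729 j9_729_60 = true := by decide +kernel

noncomputable def j9_729_61 : List Job := [
  ⟨2, 0x601028241a110a8643a21128a45a311a8e47d20924a259309a4e27d008242219108a4623c502a1e0fc40221a0dc3e1d0b854160901, 0, 64, 0x0, []⟩]

theorem t9_729_61 : jobs 8 S9 b8_729 j9_729_61 = true := by decide +kernel

noncomputable def j9_729_62 : List Job := [
  ⟨1, 0x520924a259309a4e27d008242219108a4623c502a1e0fc40221a0dc3e1d0b854160901, 0, 64, 0x0, []⟩]

theorem t9_729_62 : jobs 8 S9 b8_729 j9_729_62 = true := by decide +kernel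

noncomputable def j9_729_63 : List Job := [
  ⟨0, 0x68142a251a914aa653aa152aa55ab15aae57e01028241a110a8643a21128a45a311a8e47d20924a259309a4e27d008242219108a4623c502a1e0fc40221a0dc3e1d0b854160901, 0, 64, 0x0, []⟩]

theorem t9_729_63 : jobs 8 S9 b8_729 j9_729_63 = true := by decide +kernel

theorem d9_729 : Dn 8 S9 b8_729 := dn_of (Js := j9_729_0 ++ (j9_729_1 ++ (j9_729_2 ++ (j9_729_3 ++ (j9_729_4 ++ (j9_729_5 ++ (j9_729_6 ++ (j9_729_7 ++ (j9_729_8 ++ (j9_729_9 ++ (j9_729_10 ++ (j9_729_11 ++ (j9_729_12 ++ (j9_729_13 ++ (j9_729_14 ++ (j9_729_15 ++ (j9_729_16 ++ (j9_729_17 ++ (j9_729_18 ++ (j9_729_19 ++ (j9_729_20 ++ (j9_729_21 ++ (j9_729_22 ++ (j9_729_23 ++ (j9_729_24 ++ (j9_729_25 ++ (j9_729_26 ++ (j9_729_27 ++ (j9_729_28 ++ (j9_729_29 ++ (j9_729_30 ++ (j9_729_31 ++ (j9_729_32 ++ (j9_729_33 ++ (j9_729_34 ++ (j9_729_35 ++ (j9_729_36 ++ (j9_729_37 ++ (j9_729_38 ++ (j9_729_39 ++ (j9_729_40 ++ (j9_729_41 ++ (j9_729_42 ++ (j9_729_43 ++ (j9_729_44 ++ (j9_729_45 ++ (j9_729_46 ++ (j9_729_47 ++ (j9_729_48 ++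 (j9_729_49 ++ (j9_729_50 ++ (j9_729_51 ++ (j9_729_52 ++ (j9_729_53 ++ (j9_729_54 ++ (j9_729_55 ++ (j9_729_56 ++ (j9_729_57 ++ (j9_729_58 ++ (j9_729_59 ++ (j9_729_60 ++ (j9_729_61 ++ (j9_729_62 ++ (j9_729_63 ++ []))))))))))))))))))))))))))))))))))))))))))))))))))))))))))))))))
  (jobs_append t9_729_0 <| jobs_append t9_729_1 <| jobs_append t9_729_2 <| jobs_append t9_729_3 <| jobs_append t9_729_4 <| jobs_append t9_729_5 <| jobs_append t9_729_6 <| jobs_append t9_729_7 <| jobs_append t9_729_8 <| jobs_append t9_729_9 <| jobs_append t9_729_10 <| jobs_append t9_729_11 <| jobs_append t9_729_12 <| jobs_append t9_729_13 <| jobs_append t9_729_14 <| jobs_append t9_729_15 <| jobs_append t9_729_16 <| jobs_append t9_729_17 <| jobs_append t9_729_18 <| jobs_append t9_729_19 <| jobs_append t9_729_20 <| jobs_append t9_729_21 <| jobs_append t9_729_22 <| jobs_append t9_729_23 <| jobs_append t9_729_24 <| jobs_append t9_729_25 <| jobs_append t9_729_26 <| jobs_append t9_729_27 <| jobs_append t9_729_28 <| jobs_append t9_729_29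 <| jobs_append t9_729_30 <| jobs_append t9_729_31 <| jobs_append t9_729_32 <| jobs_append t9_729_33 <| jobs_append t9_729_34 <| jobs_append t9_729_35 <| jobs_append t9_729_36 <| jobs_append t9_729_37 <| jobs_append t9_729_38 <| jobs_append t9_729_39 <| jobs_append t9_729_40 <| jobs_append t9_729_41 <| jobs_append t9_729_42 <| jobs_append t9_729_43 <| jobs_append t9_729_44 <| jobs_append t9_729_45 <| jobs_append t9_729_46 <| jobs_append t9_729_47 <| jobs_append t9_729_48 <| jobs_append t9_729_49 <| jobs_append t9_729_50 <| jobs_append t9_729_51 <| jobs_append t9_729_52 <| jobs_append t9_729_53 <| jobs_append t9_729_54 <| jobs_append t9_729_55 <| jobs_append t9_729_56 <| jobs_append t9_729_57 <| jobs_append t9_729_58 <| jobs_append t9_729_59 <| jobs_append t9_729_60 <| jobs_append t9_729_61 <| jobs_append t9_729_62 <| jobs_append t9_729_63 <| List.forall_mem_nil _) (by decide +kernel)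

noncomputable def j9_730_0 : List Job := [
  ⟨63, 0x641229249a512a964ba61329a4da713a9e4fd88c664329a8d66c36d80c266339a0d26e37d108a46239309a4e27d00824221920924a25c1e0d058240e0501, 0, 64, 0x0, []⟩]

theorem t9_730_0 : jobs 8 S9 b8_730 j9_730_0 = true := by decide +kernel

noncomputable def j9_730_1 : List Job := [
  ⟨62, 0x601028241a110a8643a21128a45a311a8e47d88c664329a8d66c36d80c266339a0d26e37d108a46239309a4e27d00824221920924a25c1e0d058240e0501, 0, 64, 0x0, []⟩]

theorem t9_730_1 : jobs 8 S9 b8_730 j9_730_1 = true := by decide +kernel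

noncomputable def j9_730_2 : List Job := [
  ⟨61, 0x641229249a512a964ba61329a4da713a9e4fd88c664329a8d66c36d80c266339a0d26e37c1e0d058240e0501, 0, 64, 0x0, []⟩]

theorem t9_730_2 : jobs 8 S9 b8_730 j9_730_2 = true := by decide +kernel

noncomputable def j9_730_3 : List Job := [
  ⟨60, 0x601028241a110a8643a21128a45a311a8e47d88c664329a8d66c36d80c266339a0d26e37c1e0d058240e0501, 0, 64, 0x0, []⟩]

theorem t9_730_3 : jobs 8 S9 b8_730 j9_730_3 = true := by decide +kernel

noncomputable def j9_730_4 : List Job := [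
  ⟨59, 0x641229249a512a964ba61329a4da713a9e4fd108a46239309a4e27d00824221920924a25c1e0d058240e0501, 0, 64, 0x0, []⟩]

theorem t9_730_4 : jobs 8 S9 b8_730 j9_730_4 = true := by decide +kernel

noncomputable def j9_730_5 : List Job := [
  ⟨58, 0x601028241a110a8643a21128a45a311a8e47d108a46239309a4e27d00824221920924a25c1e0d058240e0501, 0, 64, 0x0, []⟩]

theorem t9_730_5 : jobs 8 S9 b8_730 j9_730_5 = true := by decide +kernel

noncomputable def j9_730_6 : List Job := [
  ⟨57, 0x41e0d058240e0501, 0, 64, 0x0, []⟩]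

theorem t9_730_6 : jobs 8 S9 b8_730 j9_730_6 = true := by decide +kernel

noncomputable def j9_730_7 : List Job := [
  ⟨56, 0x641229249a512a964ba61329a4da713a9e4fe01028241a110a8643a21128a45a311a8e47c1e0d058240e0501, 0, 64, 0x0, []⟩]

theorem t9_730_7 : jobs 8 S9 b8_730 j9_730_7 = true := by decide +kernel

noncomputable def j9_730_8 : List Job := [
  ⟨55, 0x588c664329a8d66c36d80c266339a0d26e37d108a46239309a4e27d00824221920924a25c1e0d058240e0501, 0, 64, 0x0, []⟩]

theorem t9_730_8 : jobs 8 S9 b8_730 j9_730_8 = true := by decide +kernel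

noncomputable def j9_730_9 : List Job := [
  ⟨54, 0x641229249a512a964ba61329a4da713a9e4fe01028241a110a8643a21128a45a311a8e47d88c664329a8d66c36d80c266339a0d26e37d108a46239309a4e27d00824221920924a25c1e0d058240e0501, 0, 64, 0x0, []⟩]

theorem t9_730_9 : jobs 8 S9 b8_730 j9_730_9 = true := by decide +kernel

noncomputable def j9_730_10 : List Job := [
  ⟨53, 0x588c664329a8d66c36d80c266339a0d26e37c1e0d058240e0501, 0, 64, 0x0, []⟩]

theorem t9_730_10 : jobs 8 S9 b8_730 j9_730_10 = true := by decide +kernel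

noncomputable def j9_730_11 : List Job := [
  ⟨52, 0x641229249a512a964ba61329a4da713a9e4fe01028241a110a8643a21128a45a311a8e47d88c664329a8d66c36d80c266339a0d26e37c1e0d058240e0501, 0, 64, 0x0, []⟩]

theorem t9_730_11 : jobs 8 S9 b8_730 j9_730_11 = true := by decide +kernel

noncomputable def j9_730_12 : List Job := [
  ⟨51, 0x5108a46239309a4e27d00824221920924a25c1e0d058240e0501, 0, 64, 0x0, []⟩]

theorem t9_730_12 : jobs 8 S9 b8_730 j9_730_12 = true := by decide +kernel

noncomputable def j9_730_13 : List Job := [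
  ⟨50, 0x641229249a512a964ba61329a4da713a9e4fe01028241a110a8643a21128a45a311a8e47d108a46239309a4e27d00824221920924a25c1e0d058240e0501, 0, 64, 0x0, []⟩]

theorem t9_730_13 : jobs 8 S9 b8_730 j9_730_13 = true := by decide +kernel

noncomputable def j9_730_14 : List Job := [
  ⟨49, 0x601028241a110a8643a21128a45a311a8e47c1e0d058240e0501, 0, 64, 0x0, []⟩]

theorem t9_730_14 : jobs 8 S9 b8_730 j9_730_14 = true := by decide +kernel

noncomputable def j9_730_15 : List Job := [
  ⟨48, 0x601028241a110a8643a21128a45a311a8e47d88c664329a8d66c36d80c266339a0d26e37d108a46239309a4e27d00824221920924a25c1e0d058240e0501, 0, 64, 0x0, []⟩]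

theorem t9_730_15 : jobs 8 S9 b8_730 j9_730_15 = true := by decide +kernel

noncomputable def j9_730_16 : List Job := [
  ⟨47, 0x601028241a110a8643a21128a45a311a8e47c1e0d058240e0501, 0, 64, 0x0, []⟩]

theorem t9_730_16 : jobs 8 S9 b8_730 j9_730_16 = true := by decide +kernel

noncomputable def j9_730_17 : List Job := [
  ⟨46, 0x601028241a110a8643a21128a45a311a8e47d88c664329a8d66c36d80c266339a0d26e37d108a46239309a4e27d00824221920924a25c1e0d058240e0501, 0, 64, 0x0, []⟩]

theorem t9_730_17 : jobs 8 S9 b8_730 j9_730_17 = true := by decide +kernel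

noncomputable def j9_730_18 : List Job := [
  ⟨45, 0x601028241a110a8643a21128a45a311a8e47d88c664329a8d66c36d80c266339a0d26e37c1e0d058240e0501, 0, 64, 0x0, []⟩]

theorem t9_730_18 : jobs 8 S9 b8_730 j9_730_18 = true := by decide +kernel

noncomputable def j9_730_19 : List Job := [
  ⟨44, 0x601028241a110a8643a21128a45a311a8e47d108a46239309a4e27d00824221920924a25c1e0d058240e0501, 0, 64, 0x0, []⟩]

theorem t9_730_19 : jobs 8 S9 b8_730 j9_730_19 = true := by decide +kernel

noncomputable def j9_730_20 : List Job := [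
  ⟨43, 0x601028241a110a8643a21128a45a311a8e47d88c664329a8d66c36d80c266339a0d26e37c1e0d058240e0501, 0, 64, 0x0, []⟩]

theorem t9_730_20 : jobs 8 S9 b8_730 j9_730_20 = true := by decide +kernel

noncomputable def j9_730_21 : List Job := [
  ⟨42, 0x601028241a110a8643a21128a45a311a8e47d108a46239309a4e27d00824221920924a25c1e0d058240e0501, 0, 64, 0x0, []⟩]

theorem t9_730_21 : jobs 8 S9 b8_730 j9_730_21 = true := by decide +kernel

noncomputable def j9_730_22 : List Job := [
  ⟨41, 0x41e0d058240e0501, 0, 40, 0x0, []⟩]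

theorem t9_730_22 : jobs 8 S9 b8_730 j9_730_22 = true := by decide +kernel

noncomputable def j9_730_23 : List Job := [
  ⟨40, 0x641229249a512a964ba61329a4da713a9e4fe01028241a110a8643a21128a45a311a8e47c1e0d058240e0501, 0, 40, 0x0, []⟩]

theorem t9_730_23 : jobs 8 S9 b8_730 j9_730_23 = true := by decide +kernel

noncomputable def j9_730_24 : List Job := [
  ⟨39, 0x588c664329a8d66c36d80c266339a0d26e37d108a46239309a4e27d00824221920924a25c1e0d058240e0501, 0, 40, 0x0, []⟩]

theorem t9_730_24 : jobs 8 S9 b8_730 j9_730_24 = true := by decide +kernel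

noncomputable def j9_730_25 : List Job := [
  ⟨38, 0x641229249a512a964ba61329a4da713a9e4fe01028241a110a8643a21128a45a311a8e47d88c664329a8d66c36d80c266339a0d26e37d108a46239309a4e27d00824221920924a25c1e0d058240e0501, 0, 80, 0x0, []⟩]

theorem t9_730_25 : jobs 8 S9 b8_730 j9_730_25 = true := by decide +kernel

noncomputable def j9_730_26 : List Job := [
  ⟨37, 0x41e0d058240e0501, 0, 40, 0x0, []⟩]

theorem t9_730_26 : jobs 8 S9 b8_730 j9_730_26 = true := by decide +kernel

noncomputable def j9_730_27 : List Job := [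
  ⟨36, 0x641229249a512a964ba61329a4da713a9e4fe01028241a110a8643a21128a45a311a8e47c1e0d058240e0501, 0, 40, 0x0, []⟩]

theorem t9_730_27 : jobs 8 S9 b8_730 j9_730_27 = true := by decide +kernel

noncomputable def j9_730_28 : List Job := [
  ⟨35, 0x588c664329a8d66c36d80c266339a0d26e37d108a46239309a4e27d00824221920924a25c1e0d058240e0501, 0, 40, 0x0, []⟩]

theorem t9_730_28 : jobs 8 S9 b8_730 j9_730_28 = true := by decide +kernel

noncomputable def j9_730_29 : List Job := [
  ⟨34, 0x641229249a512a964ba61329a4da713a9e4fe01028241a110a8643a21128a45a311a8e47d88c664329a8d66c36d80c266339a0d26e37d108a46239309a4e27d00824221920924a25c1e0d058240e0501, 0, 43, 0x5201, []⟩]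

theorem t9_730_29 : jobs 8 S9 b8_730 j9_730_29 = true := by decide +kernel

noncomputable def j9_730_30 : List Job := [
  ⟨33, 0x588c664329a8d66c36d80c266339a0d26e37c1e0d058240e0501, 0, 40, 0x0, []⟩]

theorem t9_730_30 : jobs 8 S9 b8_730 j9_730_30 = true := by decide +kernel

noncomputable def j9_730_31 : List Job := [
  ⟨32, 0x641229249a512a964ba61329a4da713a9e4fe01028241a110a8643a21128a45a311a8e47d88c664329a8d66c36d80c266339a0d26e37c1e0d058240e0501, 0, 40, 0x0, []⟩]

theorem t9_730_31 : jobs 8 S9 b8_730 j9_730_31 = true := by decide +kernel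

noncomputable def j9_730_32 : List Job := [
  ⟨31, 0x5108a46239309a4e27d00824221920924a25c1e0d058240e0501, 0, 40, 0x0, []⟩]

theorem t9_730_32 : jobs 8 S9 b8_730 j9_730_32 = true := by decide +kernel

noncomputable def j9_730_33 : List Job := [
  ⟨30, 0x641229249a512a964ba61329a4da713a9e4fe01028241a110a8643a21128a45a311a8e47d108a46239309a4e27d00824221920924a25c1e0d058240e0501, 0, 40, 0x0, []⟩]

theorem t9_730_33 : jobs 8 S9 b8_730 j9_730_33 = true := by decide +kernel

noncomputable def j9_730_34 : List Job := [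
  ⟨29, 0x588c664329a8d66c36d80c266339a0d26e37c1e0d058240e0501, 0, 40, 0x0, []⟩]

theorem t9_730_34 : jobs 8 S9 b8_730 j9_730_34 = true := by decide +kernel

noncomputable def j9_730_35 : List Job := [
  ⟨28, 0x641229249a512a964ba61329a4da713a9e4fe01028241a110a8643a21128a45a311a8e47d88c664329a8d66c36d80c266339a0d26e37c1e0d058240e0501, 0, 40, 0x0, []⟩]

theorem t9_730_35 : jobs 8 S9 b8_730 j9_730_35 = true := by decide +kernel

noncomputable def j9_730_36 : List Job := [
  ⟨27, 0x5108a46239309a4e27d00824221920924a25c1e0d058240e0501, 0, 40, 0x0, []⟩]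

theorem t9_730_36 : jobs 8 S9 b8_730 j9_730_36 = true := by decide +kernel

noncomputable def j9_730_37 : List Job := [
  ⟨26, 0x641229249a512a964ba61329a4da713a9e4fe01028241a110a8643a21128a45a311a8e47d108a46239309a4e27d00824221920924a25c1e0d058240e0501, 0, 40, 0x0, []⟩]

theorem t9_730_37 : jobs 8 S9 b8_730 j9_730_37 = true := by decide +kernel

noncomputable def j9_730_38 : List Job := [
  ⟨25, 0x641229249a512a964ba61329a4da713a9e4fd108a46239309a4e27d00824221920924a25c361909844160901, 0, 64, 0x0, []⟩]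

theorem t9_730_38 : jobs 8 S9 b8_730 j9_730_38 = true := by decide +kernel

noncomputable def j9_730_39 : List Job := [
  ⟨24, 0x601028241a110a8643a21128a45a311a8e47d108a46239309a4e27d00824221920924a25c361909844160901, 0, 64, 0x0, []⟩]

theorem t9_730_39 : jobs 8 S9 b8_730 j9_730_39 = true := by decide +kernel

noncomputable def j9_730_40 : List Job := [
  ⟨23, 0x601028241a110a8643a21128a45a311a8e47c361909844160901, 0, 64, 0x0, []⟩]

theorem t9_730_40 : jobs 8 S9 b8_730 j9_730_40 = true := by decide +kernel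

noncomputable def j9_730_41 : List Job := [
  ⟨22, 0x601028241a110a8643a21128a45a311a8e47d88c664329a8d66c36d80c266339a0d26e37d108a46239309a4e27d00824221920924a25c361909844160901, 0, 64, 0x0, []⟩]

theorem t9_730_41 : jobs 8 S9 b8_730 j9_730_41 = true := by decide +kernel

noncomputable def j9_730_42 : List Job := [
  ⟨21, 0x5108a46239309a4e27d00824221920924a25c361909844160901, 0, 64, 0x0, []⟩]

theorem t9_730_42 : jobs 8 S9 b8_730 j9_730_42 = true := by decide +kernel

noncomputable def j9_730_43 : List Job := [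
  ⟨20, 0x641229249a512a964ba61329a4da713a9e4fe01028241a110a8643a21128a45a311a8e47d108a46239309a4e27d00824221920924a25c361909844160901, 0, 64, 0x0, []⟩]

theorem t9_730_43 : jobs 8 S9 b8_730 j9_730_43 = true := by decide +kernel

noncomputable def j9_730_44 : List Job := [
  ⟨19, 0x4361909844160901, 0, 32, 0x0, []⟩]

theorem t9_730_44 : jobs 8 S9 b8_730 j9_730_44 = true := by decide +kernel

noncomputable def j9_730_45 : List Job := [
  ⟨18, 0x641229249a512a964ba61329a4da713a9e4fe01028241a110a8643a21128a45a311a8e47c361909844160901, 0, 32, 0x0, []⟩]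

theorem t9_730_45 : jobs 8 S9 b8_730 j9_730_45 = true := by decide +kernel

noncomputable def j9_730_46 : List Job := [
  ⟨17, 0x588c664329a8d66c36d80c266339a0d26e37d108a46239309a4e27d00824221920924a25c361909844160901, 0, 32, 0x0, []⟩]

theorem t9_730_46 : jobs 8 S9 b8_730 j9_730_46 = true := by decide +kernel

noncomputable def j9_730_47 : List Job := [
  ⟨16, 0x641229249a512a964ba61329a4da713a9e4fe01028241a110a8643a21128a45a311a8e47d88c664329a8d66c36d80c266339a0d26e37d108a46239309a4e27d00824221920924a25c361909844160901, 0, 32, 0x0, []⟩]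

theorem t9_730_47 : jobs 8 S9 b8_730 j9_730_47 = true := by decide +kernel

noncomputable def j9_730_48 : List Job := [
  ⟨15, 0x601028241a110a8643a21128a45a311a8e47d108a46239309a4e27d00824221920924a25c361909844160901, 0, 64, 0x0, []⟩]

theorem t9_730_48 : jobs 8 S9 b8_730 j9_730_48 = true := by decide +kernel

noncomputable def j9_730_49 : List Job := [
  ⟨14, 0x601028241a110a8643a21128a45a311a8e47d108a46239309a4e27d00824221920924a25c361909844160901, 0, 64, 0x0, []⟩]

theorem t9_730_49 : jobs 8 S9 b8_730 j9_730_49 = true := by decide +kernel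

noncomputable def j9_730_50 : List Job := [
  ⟨13, 0x601028241a110a8643a21128a45a311a8e47c361909844160901, 0, 32, 0x0, []⟩]

theorem t9_730_50 : jobs 8 S9 b8_730 j9_730_50 = true := by decide +kernel

noncomputable def j9_730_51 : List Job := [
  ⟨12, 0x601028241a110a8643a21128a45a311a8e47d88c664329a8d66c36d80c266339a0d26e37d108a46239309a4e27d00824221920924a25c361909844160901, 0, 32, 0x0, []⟩]

theorem t9_730_51 : jobs 8 S9 b8_730 j9_730_51 = true := by decide +kernel

noncomputable def j9_730_52 : List Job := [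
  ⟨11, 0x601028241a110a8643a21128a45a311a8e47c361909844160901, 0, 32, 0x0, []⟩]

theorem t9_730_52 : jobs 8 S9 b8_730 j9_730_52 = true := by decide +kernel

noncomputable def j9_730_53 : List Job := [
  ⟨10, 0x601028241a110a8643a21128a45a311a8e47d88c664329a8d66c36d80c266339a0d26e37d108a46239309a4e27d00824221920924a25c361909844160901, 0, 32, 0x0, []⟩]

theorem t9_730_53 : jobs 8 S9 b8_730 j9_730_53 = true := by decide +kernel

noncomputable def j9_730_54 : List Job := [
  ⟨9, 0x5108a46239309a4e27d00824221920924a25c361909844160901, 0, 40, 0x0, []⟩]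

theorem t9_730_54 : jobs 8 S9 b8_730 j9_730_54 = true := by decide +kernel

noncomputable def j9_730_55 : List Job := [
  ⟨8, 0x641229249a512a964ba61329a4da713a9e4fe01028241a110a8643a21128a45a311a8e47d108a46239309a4e27d00824221920924a25c361909844160901, 0, 40, 0x0, []⟩]

theorem t9_730_55 : jobs 8 S9 b8_730 j9_730_55 = true := by decide +kernel

noncomputable def j9_730_56 : List Job := [
  ⟨7, 0x5108a46239309a4e27d00824221920924a25c361909844160901, 0, 40, 0x0, []⟩]

theorem t9_730_56 : jobs 8 S9 b8_730 j9_730_56 = true := by decide +kernel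

noncomputable def j9_730_57 : List Job := [
  ⟨6, 0x641229249a512a964ba61329a4da713a9e4fe01028241a110a8643a21128a45a311a8e47d108a46239309a4e27d00824221920924a25c361909844160901, 0, 40, 0x0, []⟩]

theorem t9_730_57 : jobs 8 S9 b8_730 j9_730_57 = true := by decide +kernel

noncomputable def j9_730_58 : List Job := [
  ⟨5, 0x4361909844160901, 0, 20, 0x0, []⟩]

theorem t9_730_58 : jobs 8 S9 b8_730 j9_730_58 = true := by decide +kernel

noncomputable def j9_730_59 : List Job := [
  ⟨4, 0x641229249a512a964ba61329a4da713a9e4fe01028241a110a8643a21128a45a311a8e47c361909844160901, 0, 24, 0x0, []⟩]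

theorem t9_730_59 : jobs 8 S9 b8_730 j9_730_59 = true := by decide +kernel

noncomputable def j9_730_60 : List Job := [
  ⟨3, 0x588c664329a8d66c36d80c266339a0d26e37d108a46239309a4e27d00824221920924a25c361909844160901, 0, 20, 0x0, []⟩]

theorem t9_730_60 : jobs 8 S9 b8_730 j9_730_60 = true := by decide +kernel

noncomputable def j9_730_61 : List Job := [
  ⟨2, 0x641229249a512a964ba61329a4da713a9e4fe01028241a110a8643a21128a45a311a8e47d88c664329a8d66c36d80c266339a0d26e37d108a46239309a4e27d00824221920924a25c361909844160901, 0, 30, 0x3201003401003601003801, []⟩]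

theorem t9_730_61 : jobs 8 S9 b8_730 j9_730_61 = true := by decide +kernel

noncomputable def j9_730_62 : List Job := [
  ⟨1, 0x4361909844160901, 0, 24, 0x0, []⟩]

theorem t9_730_62 : jobs 8 S9 b8_730 j9_730_62 = true := by decide +kernel

noncomputable def j9_730_63 : List Job := [
  ⟨0, 0x641229249a512a964ba61329a4da713a9e4fe01028241a110a8643a21128a45a311a8e47c361909844160901, 0, 28, 0x0, []⟩]

theorem t9_730_63 : jobs 8 S9 b8_730 j9_730_63 = true := by decide +kernel

theorem d9_730 : Dn 8 S9 b8_730 := dn_of (Js := j9_730_0 ++ (j9_730_1 ++ (j9_730_2 ++ (j9_730_3 ++ (j9_730_4 ++ (j9_730_5 ++ (j9_730_6 ++ (j9_730_7 ++ (j9_730_8 ++ (j9_730_9 ++ (j9_730_10 ++ (j9_730_11 ++ (j9_730_12 ++ (j9_730_13 ++ (j9_730_14 ++ (j9_730_15 ++ (j9_730_16 ++ (j9_730_17 ++ (j9_730_18 ++ (j9_730_19 ++ (j9_730_20 ++ (j9_730_21 ++ (j9_730_22 ++ (j9_730_23 ++ (j9_730_24 ++ (j9_730_25 ++ (j9_730_26 ++ (j9_730_27 ++ (j9_730_28 ++ (j9_730_29 ++ (j9_730_30 ++ (j9_730_31 ++ (j9_730_32 ++ (j9_730_33 ++ (j9_730_34 ++ (j9_730_35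 ++ (j9_730_36 ++ (j9_730_37 ++ (j9_730_38 ++ (j9_730_39 ++ (j9_730_40 ++ (j9_730_41 ++ (j9_730_42 ++ (j9_730_43 ++ (j9_730_44 ++ (j9_730_45 ++ (j9_730_46 ++ (j9_730_47 ++ (j9_730_48 ++ (j9_730_49 ++ (j9_730_50 ++ (j9_730_51 ++ (j9_730_52 ++ (j9_730_53 ++ (j9_730_54 ++ (j9_730_55 ++ (j9_730_56 ++ (j9_730_57 ++ (j9_730_58 ++ (j9_730_59 ++ (j9_730_60 ++ (j9_730_61 ++ (j9_730_62 ++ (j9_730_63 ++ []))))))))))))))))))))))))))))))))))))))))))))))))))))))))))))))))
  (jobs_append t9_730_0 <| jobs_append t9_730_1 <| jobs_append t9_730_2 <| jobs_append t9_730_3 <| jobs_append t9_730_4 <| jobs_append t9_730_5 <| jobs_append t9_730_6 <| jobs_append t9_730_7 <| jobs_append t9_730_8 <| jobs_append t9_730_9 <| jobs_append t9_730_10 <| jobs_append t9_730_11 <| jobs_append t9_730_12 <| jobs_append t9_730_13 <| jobs_append t9_730_14 <| jobs_append t9_730_15 <| jobs_append t9_730_16 <| jobs_append t9_730_17 <| jobs_append t9_730_18 <| jobs_append t9_730_19 <| jobs_append t9_730_20 <| jobs_append t9_730_21 <| jobs_append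 t9_730_22 <| jobs_append t9_730_23 <| jobs_append t9_730_24 <| jobs_append t9_730_25 <| jobs_append t9_730_26 <| jobs_append t9_730_27 <| jobs_append t9_730_28 <| jobs_append t9_730_29 <| jobs_append t9_730_30 <| jobs_append t9_730_31 <| jobs_append t9_730_32 <| jobs_append t9_730_33 <| jobs_append t9_730_34 <| jobs_append t9_730_35 <| jobs_append t9_730_36 <| jobs_append t9_730_37 <| jobs_append t9_730_38 <| jobs_append t9_730_39 <| jobs_append t9_730_40 <| jobs_append t9_730_41 <| jobs_append t9_730_42 <| jobs_append t9_730_43 <| jobs_append t9_730_44 <| jobs_append t9_730_45 <| jobs_append t9_730_46 <| jobs_append t9_730_47 <| jobs_append t9_730_48 <| jobs_append t9_730_49 <| jobs_append t9_730_50 <| jobs_append t9_730_51 <| jobs_append t9_730_52 <| jobs_append t9_730_53 <| jobs_append t9_730_54 <| jobs_append t9_730_55 <| jobs_append t9_730_56 <| jobs_append t9_730_57 <| jobs_append t9_730_58 <| jobs_append t9_730_59 <| jobs_append t9_730_60 <| jobs_append t9_730_61 <| jobs_append t9_730_62 <|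 jobs_append t9_730_63 <| List.forall_mem_nil _) (by decide +kernel)

noncomputable def j9_731_0 : List Job := [
  ⟨63, 0x641229249a512a964ba61329a4da713a9e4fe01028241a110a8643a21128a45a311a8e47d80c26231990ca66339a0d26a359b0da6e37d008242219108a4623920924a259309a4e27c361909844160901, 0, 30, 0x0, []⟩]

theorem t9_731_0 : jobs 8 S9 b8_731 j9_731_0 = true := by decide +kernel

noncomputable def j9_731_1 : List Job := [
  ⟨62, 0x601028241a110a8643a21128a45a311a8e47d40a25229950aa562b960b25a2d970ba5e2fd008242219108a4623920924a259309a4e27c361909844160901, 0, 36, 0x0, []⟩]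

theorem t9_731_1 : jobs 8 S9 b8_731 j9_731_1 = true := by decide +kernel

noncomputable def j9_731_2 : List Job := [
  ⟨61, 0x601028241a110a8643a21128a45a311a8e47c361909844160901, 0, 18, 0x0, []⟩]

theorem t9_731_2 : jobs 8 S9 b8_731 j9_731_2 = true := by decide +kernel

noncomputable def j9_731_3 : List Job := [
  ⟨60, 0x601028241a110a8643a21128a45a311a8e47dc0e272399d0ea763b9e0f27a3d9f0fa7e3fd80c26231990ca66339a0d26a359b0da6e37d40a25229950aa562b960b25a2d970ba5e2fd008242219108a4623920924a259309a4e27c361909844160901, 0, 18, 0x0, []⟩]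

theorem t9_731_3 : jobs 8 S9 b8_731 j9_731_3 = true := by decide +kernel

noncomputable def j9_731_4 : List Job := [
  ⟨59, 0x540a25229950aa562b960b25a2d970ba5e2fd008242219108a4623920924a259309a4e27c361909844160901, 0, 27, 0x0, []⟩]

theorem t9_731_4 : jobs 8 S9 b8_731 j9_731_4 = true := by decide +kernel

noncomputable def j9_731_5 : List Job := [
  ⟨58, 0x641229249a512a964ba61329a4da713a9e4fe01028241a110a8643a21128a45a311a8e47d40a25229950aa562b960b25a2d970ba5e2fd008242219108a4623920924a259309a4e27c361909844160901, 0, 27, 0x0, []⟩]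

theorem t9_731_5 : jobs 8 S9 b8_731 j9_731_5 = true := by decide +kernel

noncomputable def j9_731_6 : List Job := [
  ⟨57, 0x4361909844160901, 0, 15, 0x0, []⟩]

theorem t9_731_6 : jobs 8 S9 b8_731 j9_731_6 = true := by decide +kernel

noncomputable def j9_731_7 : List Job := [
  ⟨56, 0x641229249a512a964ba61329a4da713a9e4fe01028241a110a8643a21128a45a311a8e47c361909844160901, 0, 18, 0x0, []⟩]

theorem t9_731_7 : jobs 8 S9 b8_731 j9_731_7 = true := by decide +kernel

noncomputable def j9_731_8 : List Job := [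
  ⟨55, 0x5c0e272399d0ea763b9e0f27a3d9f0fa7e3fd80c26231990ca66339a0d26a359b0da6e37d40a25229950aa562b960b25a2d970ba5e2fd008242219108a4623920924a259309a4e27c361909844160901, 0, 15, 0x0, []⟩]

theorem t9_731_8 : jobs 8 S9 b8_731 j9_731_8 = true := by decide +kernel

noncomputable def j9_731_9 : List Job := [
  ⟨54, 0x641229249a512a964ba61329a4da713a9e4fe01028241a110a8643a21128a45a311a8e47dc0e272399d0ea763b9e0f27a3d9f0fa7e3fd80c26231990ca66339a0d26a359b0da6e37d40a25229950aa562b960b25a2d970ba5e2fd008242219108a4623920924a259309a4e27c361909844160901, 0, 36, 0x0, []⟩]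

theorem t9_731_9 : jobs 8 S9 b8_731 j9_731_9 = true := by decide +kernel

noncomputable def j9_731_10 : List Job := [
  ⟨53, 0x4361909844160901, 0, 28, 0x0, []⟩]

theorem t9_731_10 : jobs 8 S9 b8_731 j9_731_10 = true := by decide +kernel

noncomputable def j9_731_11 : List Job := [
  ⟨52, 0x4361909844160901, 0, 28, 0x0, []⟩]

theorem t9_731_11 : jobs 8 S9 b8_731 j9_731_11 = true := by decide +kernel

noncomputable def j9_731_12 : List Job := [
  ⟨51, 0x4361909844160901, 0, 12, 0x0, []⟩]

theorem t9_731_12 : jobs 8 S9 b8_731 j9_731_12 = true := by decide +kernel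

noncomputable def j9_731_13 : List Job := [
  ⟨50, 0x4361909844160901, 0, 12, 0x0, []⟩]

theorem t9_731_13 : jobs 8 S9 b8_731 j9_731_13 = true := by decide +kernel

noncomputable def j9_731_14 : List Job := [
  ⟨49, 0x4361909844160901, 0, 16, 0x0, []⟩]

theorem t9_731_14 : jobs 8 S9 b8_731 j9_731_14 = true := by decide +kernel

noncomputable def j9_731_15 : List Job := [
  ⟨48, 0x4361909844160901, 0, 16, 0x0, []⟩]

theorem t9_731_15 : jobs 8 S9 b8_731 j9_731_15 = true := by decide +kernel

noncomputable def j9_731_16 : List Job := [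
  ⟨47, 0x4361909844160901, 0, 13, 0x0, []⟩]

theorem t9_731_16 : jobs 8 S9 b8_731 j9_731_16 = true := by decide +kernel

noncomputable def j9_731_17 : List Job := [
  ⟨46, 0x4361909844160901, 0, 12, 0x0, []⟩]

theorem t9_731_17 : jobs 8 S9 b8_731 j9_731_17 = true := by decide +kernel

noncomputable def j9_731_18 : List Job := [
  ⟨45, 0x4361909844160901, 0, 10, 0x0, []⟩]

theorem t9_731_18 : jobs 8 S9 b8_731 j9_731_18 = true := by decide +kernel

noncomputable def j9_731_19 : List Job := [
  ⟨44, 0x4361909844160901, 0, 20, 0x0, []⟩]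

theorem t9_731_19 : jobs 8 S9 b8_731 j9_731_19 = true := by decide +kernel

noncomputable def j9_731_20 : List Job := [
  ⟨43, 0x580c26231990ca66339a0d26a359b0da6e37c2e15098440e0501, 0, 40, 0x0, []⟩]

theorem t9_731_20 : jobs 8 S9 b8_731 j9_731_20 = true := by decide +kernel

noncomputable def j9_731_21 : List Job := [
  ⟨42, 0x5c0e272399d0ea763b9e0f27a3d9f0fa7e3fd40a25229950aa562b960b25a2d970ba5e2fd008242219108a4623920924a259309a4e27c2e15098440e0501, 0, 40, 0x0, []⟩]

theorem t9_731_21 : jobs 8 S9 b8_731 j9_731_21 = true := by decide +kernel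

noncomputable def j9_731_22 : List Job := [
  ⟨41, 0x580c26231990ca66339a0d26a359b0da6e37c2e15098440e0501, 0, 40, 0x0, []⟩]

theorem t9_731_22 : jobs 8 S9 b8_731 j9_731_22 = true := by decide +kernel

noncomputable def j9_731_23 : List Job := [
  ⟨40, 0x5c0e272399d0ea763b9e0f27a3d9f0fa7e3fd40a25229950aa562b960b25a2d970ba5e2fd008242219108a4623920924a259309a4e27c2e15098440e0501, 0, 40, 0x0, []⟩]

theorem t9_731_23 : jobs 8 S9 b8_731 j9_731_23 = true := by decide +kernel

noncomputable def j9_731_24 : List Job := [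
  ⟨39, 0x5c0e272399d0ea763b9e0f27a3d9f0fa7e3fd008242219108a4623920924a259309a4e27c2e15098440e0501, 0, 32, 0x0, []⟩]

theorem t9_731_24 : jobs 8 S9 b8_731 j9_731_24 = true := by decide +kernel

noncomputable def j9_731_25 : List Job := [
  ⟨38, 0x5c0e272399d0ea763b9e0f27a3d9f0fa7e3fd008242219108a4623920924a259309a4e27c2e15098440e0501, 0, 32, 0x0, []⟩]

theorem t9_731_25 : jobs 8 S9 b8_731 j9_731_25 = true := by decide +kernel

noncomputable def j9_731_26 : List Job := [
  ⟨37, 0x5c0e272399d0ea763b9e0f27a3d9f0fa7e3fd008242219108a4623920924a259309a4e27c2e15098440e0501, 0, 32, 0x0, []⟩]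

theorem t9_731_26 : jobs 8 S9 b8_731 j9_731_26 = true := by decide +kernel

noncomputable def j9_731_27 : List Job := [
  ⟨36, 0x5c0e272399d0ea763b9e0f27a3d9f0fa7e3fd008242219108a4623920924a259309a4e27c2e15098440e0501, 0, 32, 0x0, []⟩]

theorem t9_731_27 : jobs 8 S9 b8_731 j9_731_27 = true := by decide +kernel

noncomputable def j9_731_28 : List Job := [
  ⟨35, 0x42e15098440e0501, 0, 24, 0x0, []⟩]

theorem t9_731_28 : jobs 8 S9 b8_731 j9_731_28 = true := by decide +kernel

noncomputable def j9_731_29 : List Job := [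
  ⟨34, 0x5c0e272399d0ea763b9e0f27a3d9f0fa7e3fd80c26231990ca66339a0d26a359b0da6e37d40a25229950aa562b960b25a2d970ba5e2fd008242219108a4623920924a259309a4e27c2e15098440e0501, 0, 24, 0x0, []⟩]

theorem t9_731_29 : jobs 8 S9 b8_731 j9_731_29 = true := by decide +kernel

noncomputable def j9_731_30 : List Job := [
  ⟨33, 0x540a25229950aa562b960b25a2d970ba5e2fd008242219108a4623920924a259309a4e27c2e15098440e0501, 0, 32, 0x0, []⟩]

theorem t9_731_30 : jobs 8 S9 b8_731 j9_731_30 = true := by decide +kernel

noncomputable def j9_731_31 : List Job := [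
  ⟨32, 0x42e15098440e0501, 0, 17, 0x0, []⟩]

theorem t9_731_31 : jobs 8 S9 b8_731 j9_731_31 = true := by decide +kernel

noncomputable def j9_731_32 : List Job := [
  ⟨31, 0x5c0e272399d0ea763b9e0f27a3d9f0fa7e3fd80c26231990ca66339a0d26a359b0da6e37d40a25229950aa562b960b25a2d970ba5e2fd008242219108a4623920924a259309a4e27c2e15098440e0501, 0, 34, 0x0, []⟩]

theorem t9_731_32 : jobs 8 S9 b8_731 j9_731_32 = true := by decide +kernel

noncomputable def j9_731_33 : List Job := [
  ⟨30, 0x42e15098440e0501, 0, 17, 0x0, []⟩]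

theorem t9_731_33 : jobs 8 S9 b8_731 j9_731_33 = true := by decide +kernel

noncomputable def j9_731_34 : List Job := [
  ⟨29, 0x5c0e272399d0ea763b9e0f27a3d9f0fa7e3fd80c26231990ca66339a0d26a359b0da6e37d40a25229950aa562b960b25a2d970ba5e2fd008242219108a4623920924a259309a4e27c2e15098440e0501, 0, 17, 0x0, []⟩]

theorem t9_731_34 : jobs 8 S9 b8_731 j9_731_34 = true := by decide +kernel

noncomputable def j9_731_35 : List Job := [
  ⟨28, 0x540a25229950aa562b960b25a2d970ba5e2fd008242219108a4623920924a259309a4e27c2e15098440e0501, 0, 24, 0x0, []⟩]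

theorem t9_731_35 : jobs 8 S9 b8_731 j9_731_35 = true := by decide +kernel

noncomputable def j9_731_36 : List Job := [
  ⟨27, 0x540a25229950aa562b960b25a2d970ba5e2fd008242219108a4623920924a259309a4e27c2e15098440e0501, 0, 24, 0x0, []⟩]

theorem t9_731_36 : jobs 8 S9 b8_731 j9_731_36 = true := by decide +kernel

noncomputable def j9_731_37 : List Job := [
  ⟨26, 0x5c0e272399d0ea763b9e0f27a3d9f0fa7e3fc361909844160901, 0, 40, 0x0, []⟩]

theorem t9_731_37 : jobs 8 S9 b8_731 j9_731_37 = true := by decide +kernel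

noncomputable def j9_731_38 : List Job := [
  ⟨25, 0x580c26231990ca66339a0d26a359b0da6e37d40a25229950aa562b960b25a2d970ba5e2fd008242219108a4623920924a259309a4e27c361909844160901, 0, 40, 0x0, []⟩]

theorem t9_731_38 : jobs 8 S9 b8_731 j9_731_38 = true := by decide +kernel

noncomputable def j9_731_39 : List Job := [
  ⟨24, 0x580c26231990ca66339a0d26a359b0da6e37d008242219108a4623920924a259309a4e27c361909844160901, 0, 16, 0x0, []⟩]

theorem t9_731_39 : jobs 8 S9 b8_731 j9_731_39 = true := by decide +kernel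

noncomputable def j9_731_40 : List Job := [
  ⟨23, 0x580c26231990ca66339a0d26a359b0da6e37d008242219108a4623920924a259309a4e27c361909844160901, 0, 16, 0x0, []⟩]

theorem t9_731_40 : jobs 8 S9 b8_731 j9_731_40 = true := by decide +kernel

noncomputable def j9_731_41 : List Job := [
  ⟨22, 0x580c26231990ca66339a0d26a359b0da6e37d008242219108a4623920924a259309a4e27c361909844160901, 0, 18, 0x0, []⟩]

theorem t9_731_41 : jobs 8 S9 b8_731 j9_731_41 = true := by decide +kernel

noncomputable def j9_731_42 : List Job := [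
  ⟨21, 0x580c26231990ca66339a0d26a359b0da6e37d008242219108a4623920924a259309a4e27c361909844160901, 0, 18, 0x0, []⟩]

theorem t9_731_42 : jobs 8 S9 b8_731 j9_731_42 = true := by decide +kernel

noncomputable def j9_731_43 : List Job := [
  ⟨20, 0x540a25229950aa562b960b25a2d970ba5e2fd008242219108a4623920924a259309a4e27c361909844160901, 0, 18, 0x0, []⟩]

theorem t9_731_43 : jobs 8 S9 b8_731 j9_731_43 = true := by decide +kernel

noncomputable def j9_731_44 : List Job := [
  ⟨19, 0x4361909844160901, 0, 12, 0x0, []⟩]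

theorem t9_731_44 : jobs 8 S9 b8_731 j9_731_44 = true := by decide +kernel

noncomputable def j9_731_45 : List Job := [
  ⟨18, 0x5c0e272399d0ea763b9e0f27a3d9f0fa7e3fd80c26231990ca66339a0d26a359b0da6e37d40a25229950aa562b960b25a2d970ba5e2fd008242219108a4623920924a259309a4e27c361909844160901, 0, 14, 0x0, []⟩]

theorem t9_731_45 : jobs 8 S9 b8_731 j9_731_45 = true := by decide +kernel

noncomputable def j9_731_46 : List Job := [
  ⟨17, 0x540a25229950aa562b960b25a2d970ba5e2fd008242219108a4623920924a259309a4e27c361909844160901, 0, 13, 0x0, []⟩]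

theorem t9_731_46 : jobs 8 S9 b8_731 j9_731_46 = true := by decide +kernel

noncomputable def j9_731_47 : List Job := [
  ⟨16, 0x540a25229950aa562b960b25a2d970ba5e2fd008242219108a4623920924a259309a4e27c361909844160901, 0, 13, 0x0, []⟩]

theorem t9_731_47 : jobs 8 S9 b8_731 j9_731_47 = true := by decide +kernel

noncomputable def j9_731_48 : List Job := [
  ⟨15, 0x4361909844160901, 0, 9, 0x0, []⟩]

theorem t9_731_48 : jobs 8 S9 b8_731 j9_731_48 = true := by decide +kernel

noncomputable def j9_731_49 : List Job := [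
  ⟨14, 0x5c0e272399d0ea763b9e0f27a3d9f0fa7e3fd80c26231990ca66339a0d26a359b0da6e37d40a25229950aa562b960b25a2d970ba5e2fd008242219108a4623920924a259309a4e27c361909844160901, 0, 10, 0x0, []⟩]

theorem t9_731_49 : jobs 8 S9 b8_731 j9_731_49 = true := by decide +kernel

noncomputable def j9_731_50 : List Job := [
  ⟨13, 0x4361909844160901, 0, 12, 0x0, []⟩]

theorem t9_731_50 : jobs 8 S9 b8_731 j9_731_50 = true := by decide +kernel

noncomputable def j9_731_51 : List Job := [
  ⟨12, 0x5c0e272399d0ea763b9e0f27a3d9f0fa7e3fd80c26231990ca66339a0d26a359b0da6e37d40a25229950aa562b960b25a2d970ba5e2fd008242219108a4623920924a259309a4e27c361909844160901, 0, 30, 0x0, []⟩]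

theorem t9_731_51 : jobs 8 S9 b8_731 j9_731_51 = true := by decide +kernel

noncomputable def j9_731_52 : List Job := [
  ⟨11, 0x6c162b259ad16ab65bae172ba5daf17abe5fdc0e272399d0ea763b9e0f27a3d9f0fa7e3fc361909844160901, 0, 48, 0x0, []⟩]

theorem t9_731_52 : jobs 8 S9 b8_731 j9_731_52 = true := by decide +kernel

noncomputable def j9_731_53 : List Job := [
  ⟨10, 0x6c162b259ad16ab65bae172ba5daf17abe5fd80c26231990ca66339a0d26a359b0da6e37d40a25229950aa562b960b25a2d970ba5e2fd008242219108a4623920924a259309a4e27c361909844160901, 0, 80, 0x0, []⟩]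

theorem t9_731_53 : jobs 8 S9 b8_731 j9_731_53 = true := by decide +kernel

noncomputable def j9_731_54 : List Job := [
  ⟨9, 0x68142a251a914aa653aa152aa55ab15aae57e41229249a512a964ba61329a4da713a9e4fe01028241a110a8643a21128a45a311a8e47d80c26231990ca66339a0d26a359b0da6e37d40a25229950aa562b960b25a2d970ba5e2fd008242219108a4623920924a259309a4e27c361909844160901, 0, 48, 0x0, []⟩]

theorem t9_731_54 : jobs 8 S9 b8_731 j9_731_54 = true := by decide +kernel

noncomputable def j9_731_55 : List Job := [
  ⟨8, 0x68142a251a914aa653aa152aa55ab15aae57e01028241a110a8643a21128a45a311a8e47d40a25229950aa562b960b25a2d970ba5e2fd008242219108a4623920924a259309a4e27c361909844160901, 0, 67, 0x0, []⟩]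

theorem t9_731_55 : jobs 8 S9 b8_731 j9_731_55 = true := by decide +kernel

noncomputable def j9_731_56 : List Job := [
  ⟨7, 0x641229249a512a964ba61329a4da713a9e4fe01028241a110a8643a21128a45a311a8e47d40a25229950aa562b960b25a2d970ba5e2fd008242219108a4623920924a259309a4e27c361909844160901, 0, 49, 0x0, []⟩]

theorem t9_731_56 : jobs 8 S9 b8_731 j9_731_56 = true := by decide +kernel

noncomputable def j9_731_57 : List Job := [
  ⟨6, 0x641229249a512a964ba61329a4da713a9e4fe01028241a110a8643a21128a45a311a8e47c361909844160901, 0, 46, 0x0, []⟩]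

theorem t9_731_57 : jobs 8 S9 b8_731 j9_731_57 = true := by decide +kernel

noncomputable def j9_731_58 : List Job := [
  ⟨5, 0x641229249a512a964ba61329a4da713a9e4fe01028241a110a8643a21128a45a311a8e47dc0e272399d0ea763b9e0f27a3d9f0fa7e3fd80c26231990ca66339a0d26a359b0da6e37d40a25229950aa562b960b25a2d970ba5e2fd008242219108a4623920924a259309a4e27c361909844160901, 0, 50, 0x0, []⟩]

theorem t9_731_58 : jobs 8 S9 b8_731 j9_731_58 = true := by decide +kernel

noncomputable def j9_731_59 : List Job := [
  ⟨4, 0x4361909844160901, 0, 11, 0x0, []⟩]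

theorem t9_731_59 : jobs 8 S9 b8_731 j9_731_59 = true := by decide +kernel

noncomputable def j9_731_60 : List Job := [
  ⟨3, 0x5c0e272399d0ea763b9e0f27a3d9f0fa7e3fd80c26231990ca66339a0d26a359b0da6e37d40a25229950aa562b960b25a2d970ba5e2fd008242219108a4623920924a259309a4e27c361909844160901, 0, 18, 0x0, []⟩]

theorem t9_731_60 : jobs 8 S9 b8_731 j9_731_60 = true := by decide +kernel

noncomputable def j9_731_61 : List Job := [
  ⟨2, 0x6c162b259ad16ab65bae172ba5daf17abe5fe8142a251a914aa653aa152aa55ab15aae57e41229249a512a964ba61329a4da713a9e4fe01028241a110a8643a21128a45a311a8e47dc0e272399d0ea763b9e0f27a3d9f0fa7e3fd80c26231990ca66339a0d26a359b0da6e37d40a25229950aa562b960b25a2d970ba5e2fd008242219108a4623920924a259309a4e27c361909844160901, 0, 24, 0x0, []⟩]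

theorem t9_731_61 : jobs 8 S9 b8_731 j9_731_61 = true := by decide +kernel

noncomputable def j9_731_62 : List Job := [
  ⟨1, 0x641229249a512a964ba61329a4da713a9e4fc1e0d058240e0501, 0, 64, 0x0, []⟩]

theorem t9_731_62 : jobs 8 S9 b8_731 j9_731_62 = true := by decide +kernel

noncomputable def j9_731_63 : List Job := [
  ⟨0, 0x601028241a110a8643a21128a45a311a8e47c1e0d058240e0501, 0, 64, 0x0, []⟩]

theorem t9_731_63 : jobs 8 S9 b8_731 j9_731_63 = true := by decide +kernel

theorem d9_731 : Dn 8 S9 b8_731 := dn_of (Js := j9_731_0 ++ (j9_731_1 ++ (j9_731_2 ++ (j9_731_3 ++ (j9_731_4 ++ (j9_731_5 ++ (j9_731_6 ++ (j9_731_7 ++ (j9_731_8 ++ (j9_731_9 ++ (j9_731_10 ++ (j9_731_11 ++ (j9_731_12 ++ (j9_731_13 ++ (j9_731_14 ++ (j9_731_15 ++ (j9_731_16 ++ (j9_731_17 ++ (j9_731_18 ++ (j9_731_19 ++ (j9_731_20 ++ (j9_731_21 ++ (j9_731_22 ++ (j9_731_23 ++ (j9_731_24 ++ (j9_731_25 ++ (j9_731_26 ++ (j9_731_27 ++ (j9_731_28 ++ (j9_731_29 ++ (j9_731_30 ++ (j9_731_31 ++ (j9_731_32 ++ (j9_731_33 ++ (j9_731_34 ++ (j9_731_35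 ++ (j9_731_36 ++ (j9_731_37 ++ (j9_731_38 ++ (j9_731_39 ++ (j9_731_40 ++ (j9_731_41 ++ (j9_731_42 ++ (j9_731_43 ++ (j9_731_44 ++ (j9_731_45 ++ (j9_731_46 ++ (j9_731_47 ++ (j9_731_48 ++ (j9_731_49 ++ (j9_731_50 ++ (j9_731_51 ++ (j9_731_52 ++ (j9_731_53 ++ (j9_731_54 ++ (j9_731_55 ++ (j9_731_56 ++ (j9_731_57 ++ (j9_731_58 ++ (j9_731_59 ++ (j9_731_60 ++ (j9_731_61 ++ (j9_731_62 ++ (j9_731_63 ++ []))))))))))))))))))))))))))))))))))))))))))))))))))))))))))))))))
  (jobs_append t9_731_0 <| jobs_append t9_731_1 <| jobs_append t9_731_2 <| jobs_append t9_731_3 <| jobs_append t9_731_4 <| jobs_append t9_731_5 <| jobs_append t9_731_6 <| jobs_append t9_731_7 <| jobs_append t9_731_8 <| jobs_append t9_731_9 <| jobs_append t9_731_10 <| jobs_append t9_731_11 <| jobs_append t9_731_12 <| jobs_append t9_731_13 <| jobs_append t9_731_14 <| jobs_append t9_731_15 <| jobs_append t9_731_16 <| jobs_append t9_731_17 <| jobs_append t9_731_18 <| jobs_append t9_731_19 <| jobs_append t9_731_20 <| jobs_append t9_731_21 <| jobs_append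 t9_731_22 <| jobs_append t9_731_23 <| jobs_append t9_731_24 <| jobs_append t9_731_25 <| jobs_append t9_731_26 <| jobs_append t9_731_27 <| jobs_append t9_731_28 <| jobs_append t9_731_29 <| jobs_append t9_731_30 <| jobs_append t9_731_31 <| jobs_append t9_731_32 <| jobs_append t9_731_33 <| jobs_append t9_731_34 <| jobs_append t9_731_35 <| jobs_append t9_731_36 <| jobs_append t9_731_37 <| jobs_append t9_731_38 <| jobs_append t9_731_39 <| jobs_append t9_731_40 <| jobs_append t9_731_41 <| jobs_append t9_731_42 <| jobs_append t9_731_43 <| jobs_append t9_731_44 <| jobs_append t9_731_45 <| jobs_append t9_731_46 <| jobs_append t9_731_47 <| jobs_append t9_731_48 <| jobs_append t9_731_49 <| jobs_append t9_731_50 <| jobs_append t9_731_51 <| jobs_append t9_731_52 <| jobs_append t9_731_53 <| jobs_append t9_731_54 <| jobs_append t9_731_55 <| jobs_append t9_731_56 <| jobs_append t9_731_57 <| jobs_append t9_731_58 <| jobs_append t9_731_59 <| jobs_append t9_731_60 <| jobs_append t9_731_61 <| jobs_append t9_731_62 <|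 jobs_append t9_731_63 <| List.forall_mem_nil _) (by decide +kernel)

noncomputable def j9_732_0 : List Job := [
  ⟨62, 0x580c26231990ca66339a0d26a359b0da6e37d008242219108a4623920924a259309a4e27c4c33120c44437100d42e15098440e0501, 0, 18, 0x0, []⟩]

theorem t9_732_0 : jobs 8 S9 b8_732 j9_732_0 = true := by decide +kernel

noncomputable def j9_732_1 : List Job := [
  ⟨48, 0x550aa562b960b25a2dd40a25229970ba5e2fd20924a259309a4e27d008242219108a4623c4c31120cc4435100dc2e15098440e0501, 0, 4, 0x0, []⟩]

theorem t9_732_1 : jobs 8 S9 b8_732 j9_732_1 = true := by decide +kernel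

noncomputable def j9_732_2 : List Job := [
  ⟨44, 0x550aa562b960b25a2dd40a25229970ba5e2fd20924a259309a4e27d008242219108a4623c4c33120c44437100d42e15098440e0501, 0, 18, 0x0, []⟩]

theorem t9_732_2 : jobs 8 S9 b8_732 j9_732_2 = true := by decide +kernel

noncomputable def j9_732_3 : List Job := [
  ⟨37, 0x6c162b259ad16ab65bae172ba5daf17abe5fe8142a251a914aa653aa152aa55ab15aae57e41229249a512a964ba61329a4da713a9e4fe01028241a110a8643a21128a45a311a8e47dc0e272399d0ea763b9e0f27a3d9f0fa7e3fd80c26231990ca66339a0d26a359b0da6e37d40a25229950aa562b960b25a2d970ba5e2fd008242219108a4623920924a259309a4e27c4e25118840e0501, 0, 14, 0x0, []⟩]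

theorem t9_732_3 : jobs 8 S9 b8_732 j9_732_3 = true := by decide +kernel

noncomputable def j9_732_4 : List Job := [
  ⟨23, 0x6c162b259ad16ab65bae172ba5daf17abe5fe8142a251a914aa653aa152aa55ab15aae57e41229249a512a964ba61329a4da713a9e4fe01028241a110a8643a21128a45a311a8e47dc0e272399d0ea763b9e0f27a3d9f0fa7e3fd80c26231990ca66339a0d26a359b0da6e37d40a25229950aa562b960b25a2d970ba5e2fd008242219108a4623920924a259309a4e27c663111884261101, 0, 14, 0x0, []⟩]

theorem t9_732_4 : jobs 8 S9 b8_732 j9_732_4 = true := by decide +kernel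

noncomputable def j9_732_5 : List Job := [
  ⟨22, 0x641229249a512a964ba61329a4da713a9e4fc361909844160901, 0, 40, 0x0, []⟩]

theorem t9_732_5 : jobs 8 S9 b8_732 j9_732_5 = true := by decide +kernel

noncomputable def j9_732_6 : List Job := [
  ⟨21, 0x601028241a110a8643a21128a45a311a8e47c361909844160901, 0, 40, 0x0, []⟩]

theorem t9_732_6 : jobs 8 S9 b8_732 j9_732_6 = true := by decide +kernel

noncomputable def j9_732_7 : List Job := [
  ⟨20, 0x4361909844160901, 0, 40, 0x0, []⟩]

theorem t9_732_7 : jobs 8 S9 b8_732 j9_732_7 = true := by decide +kernel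

noncomputable def j9_732_8 : List Job := [
  ⟨19, 0x641229249a512a964ba61329a4da713a9e4fe01028241a110a8643a21128a45a311a8e47c361909844160901, 0, 40, 0x0, []⟩]

theorem t9_732_8 : jobs 8 S9 b8_732 j9_732_8 = true := by decide +kernel

noncomputable def j9_732_9 : List Job := [
  ⟨18, 0x601028241a110a8643a21128a45a311a8e47c361909844160901, 0, 32, 0x0, []⟩]

theorem t9_732_9 : jobs 8 S9 b8_732 j9_732_9 = true := by decide +kernel

noncomputable def j9_732_10 : List Job := [
  ⟨17, 0x4361909844160901, 0, 22, 0x0, []⟩]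

theorem t9_732_10 : jobs 8 S9 b8_732 j9_732_10 = true := by decide +kernel

noncomputable def j9_732_11 : List Job := [
  ⟨16, 0x641229249a512a964ba61329a4da713a9e4fe01028241a110a8643a21128a45a311a8e47c361909844160901, 0, 26, 0x0, []⟩]

theorem t9_732_11 : jobs 8 S9 b8_732 j9_732_11 = true := by decide +kernel

noncomputable def j9_732_12 : List Job := [
  ⟨15, 0x601028241a110a8643a21128a45a311a8e47c361909844160901, 0, 20, 0x0, []⟩]

theorem t9_732_12 : jobs 8 S9 b8_732 j9_732_12 = true := by decide +kernel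

noncomputable def j9_732_13 : List Job := [
  ⟨14, 0x601028241a110a8643a21128a45a311a8e47c361909844160901, 0, 20, 0x0, []⟩]

theorem t9_732_13 : jobs 8 S9 b8_732 j9_732_13 = true := by decide +kernel

noncomputable def j9_732_14 : List Job := [
  ⟨13, 0x4361909844160901, 0, 21, 0x0, []⟩]

theorem t9_732_14 : jobs 8 S9 b8_732 j9_732_14 = true := by decide +kernel

noncomputable def j9_732_15 : List Job := [
  ⟨12, 0x641229249a512a964ba61329a4da713a9e4fe01028241a110a8643a21128a45a311a8e47c361909844160901, 0, 21, 0x0, []⟩]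

theorem t9_732_15 : jobs 8 S9 b8_732 j9_732_15 = true := by decide +kernel

noncomputable def j9_732_16 : List Job := [
  ⟨11, 0x4361909844160901, 0, 12, 0x0, []⟩]

theorem t9_732_16 : jobs 8 S9 b8_732 j9_732_16 = true := by decide +kernel

noncomputable def j9_732_17 : List Job := [
  ⟨10, 0x641229249a512a964ba61329a4da713a9e4fe01028241a110a8643a21128a45a311a8e47c361909844160901, 0, 15, 0x0, []⟩]

theorem t9_732_17 : jobs 8 S9 b8_732 j9_732_17 = true := by decide +kernel

noncomputable def j9_732_18 : List Job := [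
  ⟨9, 0x4361909844160901, 0, 12, 0x0, []⟩]

theorem t9_732_18 : jobs 8 S9 b8_732 j9_732_18 = true := by decide +kernel

noncomputable def j9_732_19 : List Job := [
  ⟨8, 0x641229249a512a964ba61329a4da713a9e4fe01028241a110a8643a21128a45a311a8e47c361909844160901, 0, 30, 0x0, []⟩]

theorem t9_732_19 : jobs 8 S9 b8_732 j9_732_19 = true := by decide +kernel

noncomputable def j9_732_20 : List Job := [
  ⟨7, 0x601028241a110a8643a21128a45a311a8e47dc0e272399d0ea763b9e0f27a3d9f0fa7e3fc361909844160901, 0, 48, 0x0, []⟩]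

theorem t9_732_20 : jobs 8 S9 b8_732 j9_732_20 = true := by decide +kernel

noncomputable def j9_732_21 : List Job := [
  ⟨6, 0x601028241a110a8643a21128a45a311a8e47d80c26231990ca66339a0d26a359b0da6e37d40a25229950aa562b960b25a2d970ba5e2fd008242219108a4623920924a259309a4e27c361909844160901, 0, 48, 0x0, []⟩]

theorem t9_732_21 : jobs 8 S9 b8_732 j9_732_21 = true := by decide +kernel

noncomputable def j9_732_22 : List Job := [
  ⟨5, 0x5c0e272399d0ea763b9e0f27a3d9f0fa7e3fc361909844160901, 0, 36, 0x0, []⟩]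

theorem t9_732_22 : jobs 8 S9 b8_732 j9_732_22 = true := by decide +kernel

noncomputable def j9_732_23 : List Job := [
  ⟨4, 0x641229249a512a964ba61329a4da713a9e4fe01028241a110a8643a21128a45a311a8e47dc0e272399d0ea763b9e0f27a3d9f0fa7e3fc361909844160901, 0, 36, 0x0, []⟩]

theorem t9_732_23 : jobs 8 S9 b8_732 j9_732_23 = true := by decide +kernel

noncomputable def j9_732_24 : List Job := [
  ⟨3, 0x580c26231990ca66339a0d26a359b0da6e37d40a25229950aa562b960b25a2d970ba5e2fd008242219108a4623920924a259309a4e27c361909844160901, 0, 36, 0x0, []⟩]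

theorem t9_732_24 : jobs 8 S9 b8_732 j9_732_24 = true := by decide +kernel

noncomputable def j9_732_25 : List Job := [
  ⟨2, 0x641229249a512a964ba61329a4da713a9e4fe01028241a110a8643a21128a45a311a8e47d80c26231990ca66339a0d26a359b0da6e37d40a25229950aa562b960b25a2d970ba5e2fd008242219108a4623920924a259309a4e27c361909844160901, 0, 36, 0x0, []⟩]

theorem t9_732_25 : jobs 8 S9 b8_732 j9_732_25 = true := by decide +kernel

noncomputable def j9_732_26 : List Job := [
  ⟨1, 0x601028241a110a8643a21128a45a311a8e47d80c26231990ca66339a0d26a359b0da6e37d008242219108a4623920924a259309a4e27c361909844160901, 0, 32, 0x0, []⟩]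

theorem t9_732_26 : jobs 8 S9 b8_732 j9_732_26 = true := by decide +kernel

noncomputable def j9_732_27 : List Job := [
  ⟨0, 0x580c26231990ca66339a0d26a359b0da6e37d008242219108a4623920924a259309a4e27c361909844160901, 0, 26, 0x0, []⟩]

theorem t9_732_27 : jobs 8 S9 b8_732 j9_732_27 = true := by decide +kernel

theorem d9_732 : Dn 8 S9 b8_732 := dn_of (Js := j9_732_0 ++ (j9_732_1 ++ (j9_732_2 ++ (j9_732_3 ++ (j9_732_4 ++ (j9_732_5 ++ (j9_732_6 ++ (j9_732_7 ++ (j9_732_8 ++ (j9_732_9 ++ (j9_732_10 ++ (j9_732_11 ++ (j9_732_12 ++ (j9_732_13 ++ (j9_732_14 ++ (j9_732_15 ++ (j9_732_16 ++ (j9_732_17 ++ (j9_732_18 ++ (j9_732_19 ++ (j9_732_20 ++ (j9_732_21 ++ (j9_732_22 ++ (j9_732_23 ++ (j9_732_24 ++ (j9_732_25 ++ (j9_732_26 ++ (j9_732_27 ++ []))))))))))))))))))))))))))))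
  (jobs_append t9_732_0 <| jobs_append t9_732_1 <| jobs_append t9_732_2 <| jobs_append t9_732_3 <| jobs_append t9_732_4 <| jobs_append t9_732_5 <| jobs_append t9_732_6 <| jobs_append t9_732_7 <| jobs_append t9_732_8 <| jobs_append t9_732_9 <| jobs_append t9_732_10 <| jobs_append t9_732_11 <| jobs_append t9_732_12 <| jobs_append t9_732_13 <| jobs_append t9_732_14 <| jobs_append t9_732_15 <| jobs_append t9_732_16 <| jobs_append t9_732_17 <| jobs_append t9_732_18 <| jobs_append t9_732_19 <| jobs_append t9_732_20 <| jobs_append t9_732_21 <| jobs_append t9_732_22 <| jobs_append t9_732_23 <| jobs_append t9_732_24 <| jobs_append t9_732_25 <| jobs_append t9_732_26 <| jobs_append t9_732_27 <| List.forall_mem_nil _) (by decide +kernel)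

noncomputable def j9_733_0 : List Job := [
  ⟨63, 0x580c26231990ca66339a0d26a359b0da6e37d48a6562b960b25c2ed40a2542a968b65e2fc60321a0dc40221209c2e15098440e0501, 0, 32, 0x0, []⟩]

theorem t9_733_0 : jobs 8 S9 b8_733 j9_733_0 = true := by decide +kernel

noncomputable def j9_733_1 : List Job := [
  ⟨62, 0x508864623928964e27d00824422920924c26c60321a0dc40221209c2e15098440e0501, 0, 32, 0x0, []⟩]

theorem t9_733_1 : jobs 8 S9 b8_733 j9_733_1 = true := by decide +kernel

noncomputable def j9_733_2 : List Job := [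
  ⟨61, 0x548a6562b960b25c2ed40a2542a968b65e2fc60321a0dc40221209c2e15098440e0501, 0, 32, 0x0, []⟩]

theorem t9_733_2 : jobs 8 S9 b8_733 j9_733_2 = true := by decide +kernel

noncomputable def j9_733_3 : List Job := [
  ⟨60, 0x580c26231990ca66339a0d26a359b0da6e37d08864623928964e27d00824422920924c26c60321a0dc40221209c2e15098440e0501, 0, 32, 0x0, []⟩]

theorem t9_733_3 : jobs 8 S9 b8_733 j9_733_3 = true := by decide +kernel

noncomputable def j9_733_4 : List Job := [
  ⟨59, 0x548a6562b960b25c2ed40a2542a968b65e2fc60321a0dc40221209c2e15098440e0501, 0, 32, 0x0, []⟩]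

theorem t9_733_4 : jobs 8 S9 b8_733 j9_733_4 = true := by decide +kernel

noncomputable def j9_733_5 : List Job := [
  ⟨58, 0x580c26231990ca66339a0d26a359b0da6e37d08864623928964e27d00824422920924c26c60321a0dc40221209c2e15098440e0501, 0, 32, 0x0, []⟩]

theorem t9_733_5 : jobs 8 S9 b8_733 j9_733_5 = true := by decide +kernel

noncomputable def j9_733_6 : List Job := [
  ⟨57, 0x580c26231990ca66339a0d26a359b0da6e37d48a6562b960b25c2ed40a2542a968b65e2fc60321a0dc40221209c2e15098440e0501, 0, 32, 0x0, []⟩]

theorem t9_733_6 : jobs 8 S9 b8_733 j9_733_6 = true := by decide +kernel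

noncomputable def j9_733_7 : List Job := [
  ⟨56, 0x508864623928964e27d00824422920924c26c60321a0dc40221209c2e15098440e0501, 0, 32, 0x0, []⟩]

theorem t9_733_7 : jobs 8 S9 b8_733 j9_733_7 = true := by decide +kernel

noncomputable def j9_733_8 : List Job := [
  ⟨55, 0x580c26231990ca66339a0d26a359b0da6e37d48a6562b960b25c2ed40a2542a968b65e2fc60321a0dc40221209c2e15098440e0501, 0, 32, 0x0, []⟩]

theorem t9_733_8 : jobs 8 S9 b8_733 j9_733_8 = true := by decide +kernel

noncomputable def j9_733_9 : List Job := [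
  ⟨54, 0x508864623928964e27d00824422920924c26c60321a0dc40221209c2e15098440e0501, 0, 32, 0x0, []⟩]

theorem t9_733_9 : jobs 8 S9 b8_733 j9_733_9 = true := by decide +kernel

noncomputable def j9_733_10 : List Job := [
  ⟨53, 0x548a6562b960b25c2ed40a2542a968b65e2fc60321a0dc40221209c2e15098440e0501, 0, 32, 0x0, []⟩]

theorem t9_733_10 : jobs 8 S9 b8_733 j9_733_10 = true := by decide +kernel

noncomputable def j9_733_11 : List Job := [
  ⟨52, 0x580c26231990ca66339a0d26a359b0da6e37d08864623928964e27d00824422920924c26c60321a0dc40221209c2e15098440e0501, 0, 32, 0x0, []⟩]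

theorem t9_733_11 : jobs 8 S9 b8_733 j9_733_11 = true := by decide +kernel

noncomputable def j9_733_12 : List Job := [
  ⟨51, 0x548a6562b960b25c2ed40a2542a968b65e2fc60321a0dc40221209c2e15098440e0501, 0, 32, 0x0, []⟩]

theorem t9_733_12 : jobs 8 S9 b8_733 j9_733_12 = true := by decide +kernel

noncomputable def j9_733_13 : List Job := [
  ⟨50, 0x580c26231990ca66339a0d26a359b0da6e37d08864623928964e27d00824422920924c26c60321a0dc40221209c2e15098440e0501, 0, 32, 0x0, []⟩]

theorem t9_733_13 : jobs 8 S9 b8_733 j9_733_13 = true := by decide +kernel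

noncomputable def j9_733_14 : List Job := [
  ⟨49, 0x580c26231990ca66339a0d26a359b0da6e37c60321a0dc40221209c2e15098440e0501, 0, 32, 0x0, []⟩]

theorem t9_733_14 : jobs 8 S9 b8_733 j9_733_14 = true := by decide +kernel

noncomputable def j9_733_15 : List Job := [
  ⟨48, 0x548a6562b960b25c2ed40a2542a968b65e2fd08864623928964e27d00824422920924c26c60321a0dc40221209c2e15098440e0501, 0, 32, 0x0, []⟩]

theorem t9_733_15 : jobs 8 S9 b8_733 j9_733_15 = true := by decide +kernel

noncomputable def j9_733_16 : List Job := [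
  ⟨47, 0x580c26231990ca66339a0d26a359b0da6e37c60321a0dc40221209c2e15098440e0501, 0, 32, 0x0, []⟩]

theorem t9_733_16 : jobs 8 S9 b8_733 j9_733_16 = true := by decide +kernel

noncomputable def j9_733_17 : List Job := [
  ⟨46, 0x548a6562b960b25c2ed40a2542a968b65e2fd08864623928964e27d00824422920924c26c60321a0dc40221209c2e15098440e0501, 0, 32, 0x0, []⟩]

theorem t9_733_17 : jobs 8 S9 b8_733 j9_733_17 = true := by decide +kernel

noncomputable def j9_733_18 : List Job := [
  ⟨45, 0x460321a0dc40221209c2e15098440e0501, 0, 32, 0x0, []⟩]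

theorem t9_733_18 : jobs 8 S9 b8_733 j9_733_18 = true := by decide +kernel

noncomputable def j9_733_19 : List Job := [
  ⟨44, 0x580c26231990ca66339a0d26a359b0da6e37d48a6562b960b25c2ed40a2542a968b65e2fd08864623928964e27d00824422920924c26c60321a0dc40221209c2e15098440e0501, 0, 32, 0x0, []⟩]

theorem t9_733_19 : jobs 8 S9 b8_733 j9_733_19 = true := by decide +kernel

noncomputable def j9_733_20 : List Job := [
  ⟨43, 0x460321a0dc40221209c2e15098440e0501, 0, 32, 0x0, []⟩]

theorem t9_733_20 : jobs 8 S9 b8_733 j9_733_20 = true := by decide +kernel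

noncomputable def j9_733_21 : List Job := [
  ⟨42, 0x580c26231990ca66339a0d26a359b0da6e37d48a6562b960b25c2ed40a2542a968b65e2fd08864623928964e27d00824422920924c26c60321a0dc40221209c2e15098440e0501, 0, 32, 0x0, []⟩]

theorem t9_733_21 : jobs 8 S9 b8_733 j9_733_21 = true := by decide +kernel

noncomputable def j9_733_22 : List Job := [
  ⟨41, 0x580c26231990ca66339a0d26a359b0da6e37c6437180d44427100942e15098440e0501, 0, 32, 0x210000602000a02000e02001202001603001a11001e03002210002602002a11002e02003210003610003a11003e03, []⟩]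

theorem t9_733_22 : jobs 8 S9 b8_733 j9_733_22 = true := by decide +kernel

noncomputable def j9_733_23 : List Job := [
  ⟨40, 0x548a6562b960b25c2ed40a2542a968b65e2fd08864623928964e27d00824422920924c26c6437180d44427100942e15098440e0501, 0, 32, 0x202000a02001202001a11002202002a11003210003a11, []⟩]

theorem t9_733_23 : jobs 8 S9 b8_733 j9_733_23 = true := by decide +kernel

noncomputable def j9_733_24 : List Job := [
  ⟨39, 0x580c26231990ca66339a0d26a359b0da6e37c6437180d44427100942e15098440e0501, 0, 32, 0x202000602000a11000e02001210001610001a02001e03002210002602002a02002e02003202003603003a11003e03, []⟩]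

theorem t9_733_24 : jobs 8 S9 b8_733 j9_733_24 = true := by decide +kernel

noncomputable def j9_733_25 : List Job := [
  ⟨38, 0x548a6562b960b25c2ed40a2542a968b65e2fd08864623928964e27d00824422920924c26c6437180d44427100942e15098440e0501, 0, 32, 0x202000a11001210001a11002202002a02003210003a11, []⟩]

theorem t9_733_25 : jobs 8 S9 b8_733 j9_733_25 = true := by decide +kernel

noncomputable def j9_733_26 : List Job := [
  ⟨37, 0x46437180d44427100942e15098440e0501, 0, 32, 0x210000603000a02000e03001202001602001a11001e02002210002603002a11002e11003210003602003a11003e02, []⟩]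

theorem t9_733_26 : jobs 8 S9 b8_733 j9_733_26 = true := by decide +kernel

noncomputable def j9_733_27 : List Job := [
  ⟨36, 0x580c26231990ca66339a0d26a359b0da6e37d48a6562b960b25c2ed40a2542a968b65e2fd08864623928964e27d00824422920924c26c6437180d44427100942e15098440e0501, 0, 32, 0x210000a02001202001a02002210002a11003202003a02, []⟩]

theorem t9_733_27 : jobs 8 S9 b8_733 j9_733_27 = true := by decide +kernel

noncomputable def j9_733_28 : List Job := [
  ⟨35, 0x46437180d44427100942e15098440e0501, 0, 32, 0x210000603000a11000e11001210001602001a02001e02002210002603002a11002e03003202003602003a11003e02, []⟩]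

theorem t9_733_28 : jobs 8 S9 b8_733 j9_733_28 = true := by decide +kernel

noncomputable def j9_733_29 : List Job := [
  ⟨34, 0x580c26231990ca66339a0d26a359b0da6e37d48a6562b960b25c2ed40a2542a968b65e2fd08864623928964e27d00824422920924c26c6437180d44427100942e15098440e0501, 0, 72, 0x210000a11001202001a02002210002a11003202003a02008201008801, []⟩]

theorem t9_733_29 : jobs 8 S9 b8_733 j9_733_29 = true := by decide +kernel

noncomputable def j9_733_30 : List Job := [
  ⟨16, 0x580c26231990ca66339a0d26a359b0da6e37d008242219108a4623920924a259309a4e27c4c33120c44437100d42e15098440e0501, 0, 18, 0x0, []⟩]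

theorem t9_733_30 : jobs 8 S9 b8_733 j9_733_30 = true := by decide +kernel

noncomputable def j9_733_31 : List Job := [
  ⟨0, 0x580c26231990ca66339a0d26a359b0da6e37d008242219108a4623920924a259309a4e27c4c31120cc4435100dc2e15098440e0501, 0, 6, 0x601000801, []⟩]

theorem t9_733_31 : jobs 8 S9 b8_733 j9_733_31 = true := by decide +kernel

theorem d9_733 : Dn 8 S9 b8_733 := dn_of (Js := j9_733_0 ++ (j9_733_1 ++ (j9_733_2 ++ (j9_733_3 ++ (j9_733_4 ++ (j9_733_5 ++ (j9_733_6 ++ (j9_733_7 ++ (j9_733_8 ++ (j9_733_9 ++ (j9_733_10 ++ (j9_733_11 ++ (j9_733_12 ++ (j9_733_13 ++ (j9_733_14 ++ (j9_733_15 ++ (j9_733_16 ++ (j9_733_17 ++ (j9_733_18 ++ (j9_733_19 ++ (j9_733_20 ++ (j9_733_21 ++ (j9_733_22 ++ (j9_733_23 ++ (j9_733_24 ++ (j9_733_25 ++ (j9_733_26 ++ (j9_733_27 ++ (j9_733_28 ++ (j9_733_29 ++ (j9_733_30 ++ (j9_733_31 ++ []))))))))))))))))))))))))))))))))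
  (jobs_append t9_733_0 <| jobs_append t9_733_1 <| jobs_append t9_733_2 <| jobs_append t9_733_3 <| jobs_append t9_733_4 <| jobs_append t9_733_5 <| jobs_append t9_733_6 <| jobs_append t9_733_7 <| jobs_append t9_733_8 <| jobs_append t9_733_9 <| jobs_append t9_733_10 <| jobs_append t9_733_11 <| jobs_append t9_733_12 <| jobs_append t9_733_13 <| jobs_append t9_733_14 <| jobs_append t9_733_15 <| jobs_append t9_733_16 <| jobs_append t9_733_17 <| jobs_append t9_733_18 <| jobs_append t9_733_19 <| jobs_append t9_733_20 <| jobs_append t9_733_21 <| jobs_append t9_733_22 <| jobs_append t9_733_23 <| jobs_append t9_733_24 <| jobs_append t9_733_25 <| jobs_append t9_733_26 <| jobs_append t9_733_27 <| jobs_append t9_733_28 <| jobs_append t9_733_29 <| jobs_append t9_733_30 <| jobs_append t9_733_31 <| List.forall_mem_nil _) (by decide +kernel)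

noncomputable def j9_734_0 : List Job := [
  ⟨42, 0x5c0e272399d0ea763b9e0f27a3d9f0fa7e3fc643b180e4442b100a4361909844160901, 0, 32, 0x0, []⟩]

theorem t9_734_0 : jobs 8 S9 b8_734 j9_734_0 = true := by decide +kernel

noncomputable def j9_734_1 : List Job := [
  ⟨41, 0x580c26231990ca66339a0d26a359b0da6e37d08864623928964e27c60321a0dc40221209c381f09844180f01, 0, 128, 0x821000921000a21000b21000c21000d21000e21000f210, []⟩]

theorem t9_734_1 : jobs 8 S9 b8_734 j9_734_1 = true := by decide +kernel

noncomputable def j9_734_2 : List Job := [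
  ⟨40, 0x548a6562b960b25c2ed40a2542a968b65e2fd00824422920924c26c60321a0dc40221209c381f09844180f01, 0, 128, 0x203001210002203003203004203005210006203007203, []⟩]

theorem t9_734_2 : jobs 8 S9 b8_734 j9_734_2 = true := by decide +kernel

noncomputable def j9_734_3 : List Job := [
  ⟨39, 0x580c26231990ca66339a0d26a359b0da6e37d08864623928964e27c60321a0dc40221209c381f09844180f01, 0, 128, 0x820300920300a20300b20300c21000d20300e21000f203, []⟩]

theorem t9_734_3 : jobs 8 S9 b8_734 j9_734_3 = true := by decide +kernel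

noncomputable def j9_734_4 : List Job := [
  ⟨38, 0x548a6562b960b25c2ed40a2542a968b65e2fd00824422920924c26c60321a0dc40221209c381f09844180f01, 0, 128, 0x203001203002203003203004203005203006203007203, []⟩]

theorem t9_734_4 : jobs 8 S9 b8_734 j9_734_4 = true := by decide +kernel

noncomputable def j9_734_5 : List Job := [
  ⟨37, 0x508864623928964e27c60321a0dc40221209c381f09844180f01, 0, 128, 0x821000921000a21000b21000c21000d21000e21000f210, []⟩]

theorem t9_734_5 : jobs 8 S9 b8_734 j9_734_5 = true := by decide +kernel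

noncomputable def j9_734_6 : List Job := [
  ⟨36, 0x580c26231990ca66339a0d26a359b0da6e37d48a6562b960b25c2ed40a2542a968b65e2fd00824422920924c26c60321a0dc40221209c381f09844180f01, 0, 128, 0x210001210002210003210004210005210006210007210, []⟩]

theorem t9_734_6 : jobs 8 S9 b8_734 j9_734_6 = true := by decide +kernel

noncomputable def j9_734_7 : List Job := [
  ⟨35, 0x508864623928964e27c60321a0dc40221209c381f09844180f01, 0, 128, 0x821000920300a20300b20300c21000d20300e21000f210, []⟩]

theorem t9_734_7 : jobs 8 S9 b8_734 j9_734_7 = true := by decide +kernel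

noncomputable def j9_734_8 : List Job := [
  ⟨34, 0x580c26231990ca66339a0d26a359b0da6e37d48a6562b960b25c2ed40a2542a968b65e2fd00824422920924c26c60321a0dc40221209c381f09844180f01, 0, 128, 0x210001203002210003203004210005210006210007210, []⟩]

theorem t9_734_8 : jobs 8 S9 b8_734 j9_734_8 = true := by decide +kernel

noncomputable def j9_734_9 : List Job := [
  ⟨33, 0x580c26231990ca66339a0d26a359b0da6e37d48a6562b960b25c2ed40a2542a968b65e2fd08864623928964e27c361909844160901, 0, 32, 0x0, []⟩]

theorem t9_734_9 : jobs 8 S9 b8_734 j9_734_9 = true := by decide +kernel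

noncomputable def j9_734_10 : List Job := [
  ⟨32, 0x580c26231990ca66339a0d26a359b0da6e37d48a6562b960b25c2ed40a2542a968b65e2fd08864623928964e27c361909844160901, 0, 32, 0x0, []⟩]

theorem t9_734_10 : jobs 8 S9 b8_734 j9_734_10 = true := by decide +kernel

noncomputable def j9_734_11 : List Job := [
  ⟨31, 0x5048a4926d008848264361909844160901, 0, 32, 0x0, []⟩]

theorem t9_734_11 : jobs 8 S9 b8_734 j9_734_11 = true := by decide +kernel

noncomputable def j9_734_12 : List Job := [
  ⟨30, 0x5048a4826500884926c361909844160901, 0, 32, 0x0, []⟩]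

theorem t9_734_12 : jobs 8 S9 b8_734 j9_734_12 = true := by decide +kernel

noncomputable def j9_734_13 : List Job := [
  ⟨29, 0x580c26231990ca66339a0d26a359b0da6e37d48a6562b960b25c2ed40a2542a968b65e2fd08864623928964e27c361909844160901, 0, 32, 0x0, []⟩]

theorem t9_734_13 : jobs 8 S9 b8_734 j9_734_13 = true := by decide +kernel

noncomputable def j9_734_14 : List Job := [
  ⟨28, 0x580c26231990ca66339a0d26a359b0da6e37d48a6562b960b25c2ed40a2542a968b65e2fd08864623928964e27c361909844160901, 0, 32, 0x0, []⟩]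

theorem t9_734_14 : jobs 8 S9 b8_734 j9_734_14 = true := by decide +kernel

noncomputable def j9_734_15 : List Job := [
  ⟨27, 0x5048a4926d008848264361909844160901, 0, 32, 0x0, []⟩]

theorem t9_734_15 : jobs 8 S9 b8_734 j9_734_15 = true := by decide +kernel

noncomputable def j9_734_16 : List Job := [
  ⟨26, 0x5048a4826500884926c361909844160901, 0, 32, 0x0, []⟩]

theorem t9_734_16 : jobs 8 S9 b8_734 j9_734_16 = true := by decide +kernel

noncomputable def j9_734_17 : List Job := [
  ⟨25, 0x548a6562b960b25c2ed40a2542a968b65e2fd08864623928964e27c361909844160901, 0, 32, 0x0, []⟩]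

theorem t9_734_17 : jobs 8 S9 b8_734 j9_734_17 = true := by decide +kernel

noncomputable def j9_734_18 : List Job := [
  ⟨24, 0x548a6562b960b25c2ed40a2542a968b65e2fd08864623928964e27c361909844160901, 0, 32, 0x0, []⟩]

theorem t9_734_18 : jobs 8 S9 b8_734 j9_734_18 = true := by decide +kernel

noncomputable def j9_734_19 : List Job := [
  ⟨23, 0x580c26231990ca66339a0d26a359b0da6e37d048a4826500884926c361909844160901, 0, 32, 0x0, []⟩]

theorem t9_734_19 : jobs 8 S9 b8_734 j9_734_19 = true := by decide +kernel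

noncomputable def j9_734_20 : List Job := [
  ⟨22, 0x580c26231990ca66339a0d26a359b0da6e37d048a4926d008848264361909844160901, 0, 32, 0x0, []⟩]

theorem t9_734_20 : jobs 8 S9 b8_734 j9_734_20 = true := by decide +kernel

noncomputable def j9_734_21 : List Job := [
  ⟨21, 0x548a6562b960b25c2ed40a2542a968b65e2fd08864623928964e27c361909844160901, 0, 32, 0x0, []⟩]

theorem t9_734_21 : jobs 8 S9 b8_734 j9_734_21 = true := by decide +kernel

noncomputable def j9_734_22 : List Job := [
  ⟨20, 0x548a6562b960b25c2ed40a2542a968b65e2fd08864623928964e27c361909844160901, 0, 32, 0x0, []⟩]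

theorem t9_734_22 : jobs 8 S9 b8_734 j9_734_22 = true := by decide +kernel

noncomputable def j9_734_23 : List Job := [
  ⟨19, 0x580c26231990ca66339a0d26a359b0da6e37d048a4826500884926c361909844160901, 0, 32, 0x0, []⟩]

theorem t9_734_23 : jobs 8 S9 b8_734 j9_734_23 = true := by decide +kernel

noncomputable def j9_734_24 : List Job := [
  ⟨18, 0x580c26231990ca66339a0d26a359b0da6e37d048a4926d008848264361909844160901, 0, 32, 0x0, []⟩]

theorem t9_734_24 : jobs 8 S9 b8_734 j9_734_24 = true := by decide +kernel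

noncomputable def j9_734_25 : List Job := [
  ⟨17, 0x580c26231990ca66339a0d26a359b0da6e37d08864623928964e27c703a1e0fc60321a0dc502a160bc40221209c361909844160901, 0, 32, 0x0, []⟩]

theorem t9_734_25 : jobs 8 S9 b8_734 j9_734_25 = true := by decide +kernel

noncomputable def j9_734_26 : List Job := [
  ⟨16, 0x580c26231990ca66339a0d26a359b0da6e37d08864623928964e27c703a1e0fc60321a0dc502a160bc40221209c361909844160901, 0, 32, 0x0, []⟩]

theorem t9_734_26 : jobs 8 S9 b8_734 j9_734_26 = true := by decide +kernel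

noncomputable def j9_734_27 : List Job := [
  ⟨15, 0x548a6562b960b25c2ed40a2542a968b65e2fd048a4926d008848264703a1e0fc60321a0dc502a160bc40221209c361909844160901, 0, 32, 0x0, []⟩]

theorem t9_734_27 : jobs 8 S9 b8_734 j9_734_27 = true := by decide +kernel

noncomputable def j9_734_28 : List Job := [
  ⟨14, 0x548a6562b960b25c2ed40a2542a968b65e2fd048a4826500884926c703a1e0fc60321a0dc502a160bc40221209c361909844160901, 0, 32, 0x0, []⟩]

theorem t9_734_28 : jobs 8 S9 b8_734 j9_734_28 = true := by decide +kernel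

noncomputable def j9_734_29 : List Job := [
  ⟨13, 0x580c26231990ca66339a0d26a359b0da6e37d08864623928964e27c703a1e0fc60321a0dc502a160bc40221209c361909844160901, 0, 32, 0x0, []⟩]

theorem t9_734_29 : jobs 8 S9 b8_734 j9_734_29 = true := by decide +kernel

noncomputable def j9_734_30 : List Job := [
  ⟨12, 0x580c26231990ca66339a0d26a359b0da6e37d08864623928964e27c703a1e0fc60321a0dc502a160bc40221209c361909844160901, 0, 32, 0x0, []⟩]

theorem t9_734_30 : jobs 8 S9 b8_734 j9_734_30 = true := by decide +kernel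

noncomputable def j9_734_31 : List Job := [
  ⟨11, 0x548a6562b960b25c2ed40a2542a968b65e2fd048a4926d008848264703a1e0fc60321a0dc502a160bc40221209c361909844160901, 0, 32, 0x0, []⟩]

theorem t9_734_31 : jobs 8 S9 b8_734 j9_734_31 = true := by decide +kernel

noncomputable def j9_734_32 : List Job := [
  ⟨10, 0x548a6562b960b25c2ed40a2542a968b65e2fd048a4826500884926c703a1e0fc60321a0dc502a160bc40221209c361909844160901, 0, 32, 0x0, []⟩]

theorem t9_734_32 : jobs 8 S9 b8_734 j9_734_32 = true := by decide +kernel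

noncomputable def j9_734_33 : List Job := [
  ⟨9, 0x508864623928964e27c703a1e0fc60321a0dc502a160bc40221209c361909844160901, 0, 32, 0x0, []⟩]

theorem t9_734_33 : jobs 8 S9 b8_734 j9_734_33 = true := by decide +kernel

noncomputable def j9_734_34 : List Job := [
  ⟨8, 0x508864623928964e27c703a1e0fc60321a0dc502a160bc40221209c361909844160901, 0, 32, 0x0, []⟩]

theorem t9_734_34 : jobs 8 S9 b8_734 j9_734_34 = true := by decide +kernel

noncomputable def j9_734_35 : List Job := [
  ⟨7, 0x580c26231990ca66339a0d26a359b0da6e37d48a6562b960b25c2ed40a2542a968b65e2fd048a4826500884926c703a1e0fc60321a0dc502a160bc40221209c361909844160901, 0, 38, 0x4a01, []⟩]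

theorem t9_734_35 : jobs 8 S9 b8_734 j9_734_35 = true := by decide +kernel

noncomputable def j9_734_36 : List Job := [
  ⟨6, 0x580c26231990ca66339a0d26a359b0da6e37d48a6562b960b25c2ed40a2542a968b65e2fd048a4926d008848264703a1e0fc60321a0dc502a160bc40221209c361909844160901, 0, 32, 0x0, []⟩]

theorem t9_734_36 : jobs 8 S9 b8_734 j9_734_36 = true := by decide +kernel

noncomputable def j9_734_37 : List Job := [
  ⟨5, 0x508864623928964e27c703a1e0fc60321a0dc502a160bc40221209c361909844160901, 0, 32, 0x0, []⟩]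

theorem t9_734_37 : jobs 8 S9 b8_734 j9_734_37 = true := by decide +kernel

noncomputable def j9_734_38 : List Job := [
  ⟨4, 0x508864623928964e27c703a1e0fc60321a0dc502a160bc40221209c361909844160901, 0, 32, 0x0, []⟩]

theorem t9_734_38 : jobs 8 S9 b8_734 j9_734_38 = true := by decide +kernel

noncomputable def j9_734_39 : List Job := [
  ⟨3, 0x580c26231990ca66339a0d26a359b0da6e37d48a6562b960b25c2ed40a2542a968b65e2fd048a4826500884926c703a1e0fc60321a0dc502a160bc40221209c361909844160901, 0, 32, 0x0, []⟩]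

theorem t9_734_39 : jobs 8 S9 b8_734 j9_734_39 = true := by decide +kernel

noncomputable def j9_734_40 : List Job := [
  ⟨2, 0x580c26231990ca66339a0d26a359b0da6e37d48a6562b960b25c2ed40a2542a968b65e2fd048a4926d008848264703a1e0fc60321a0dc502a160bc40221209c361909844160901, 0, 72, 0x4218004a11005210005a19006210006a11007210007a11008201008801, []⟩]

theorem t9_734_40 : jobs 8 S9 b8_734 j9_734_40 = true := by decide +kernel

noncomputable def j9_734_41 : List Job := [
  ⟨1, 0x580c26231990ca66339a0d26a359b0da6e37d48a6562b960b25c2ed40a2542a968b65e2fc60321a0dc40221209c2e15098440e0501, 0, 32, 0x0, []⟩]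

theorem t9_734_41 : jobs 8 S9 b8_734 j9_734_41 = true := by decide +kernel

noncomputable def j9_734_42 : List Job := [
  ⟨0, 0x508864623928964e27d00824422920924c26c60321a0dc40221209c2e15098440e0501, 0, 32, 0x0, []⟩]

theorem t9_734_42 : jobs 8 S9 b8_734 j9_734_42 = true := by decide +kernel

theorem d9_734 : Dn 8 S9 b8_734 := dn_of (Js := j9_734_0 ++ (j9_734_1 ++ (j9_734_2 ++ (j9_734_3 ++ (j9_734_4 ++ (j9_734_5 ++ (j9_734_6 ++ (j9_734_7 ++ (j9_734_8 ++ (j9_734_9 ++ (j9_734_10 ++ (j9_734_11 ++ (j9_734_12 ++ (j9_734_13 ++ (j9_734_14 ++ (j9_734_15 ++ (j9_734_16 ++ (j9_734_17 ++ (j9_734_18 ++ (j9_734_19 ++ (j9_734_20 ++ (j9_734_21 ++ (j9_734_22 ++ (j9_734_23 ++ (j9_734_24 ++ (j9_734_25 ++ (j9_734_26 ++ (j9_734_27 ++ (j9_734_28 ++ (j9_734_29 ++ (j9_734_30 ++ (j9_734_31 ++ (j9_734_32 ++ (j9_734_33 ++ (j9_734_34 ++ (j9_734_35 ++ (j9_734_36 ++ (j9_734_37 ++ (j9_734_38 ++ (j9_734_39 ++ (j9_734_40 ++ (j9_734_41 ++ (j9_734_42 ++ [])))))))))))))))))))))))))))))))))))))))))))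
  (jobs_append t9_734_0 <| jobs_append t9_734_1 <| jobs_append t9_734_2 <| jobs_append t9_734_3 <| jobs_append t9_734_4 <| jobs_append t9_734_5 <| jobs_append t9_734_6 <| jobs_append t9_734_7 <| jobs_append t9_734_8 <| jobs_append t9_734_9 <| jobs_append t9_734_10 <| jobs_append t9_734_11 <| jobs_append t9_734_12 <| jobs_append t9_734_13 <| jobs_append t9_734_14 <| jobs_append t9_734_15 <| jobs_append t9_734_16 <| jobs_append t9_734_17 <| jobs_append t9_734_18 <| jobs_append t9_734_19 <| jobs_append t9_734_20 <| jobs_append t9_734_21 <| jobs_append t9_734_22 <| jobs_append t9_734_23 <| jobs_append t9_734_24 <| jobs_append t9_734_25 <| jobs_append t9_734_26 <| jobs_append t9_734_27 <| jobs_append t9_734_28 <| jobs_append t9_734_29 <| jobs_append t9_734_30 <| jobs_append t9_734_31 <| jobs_append t9_734_32 <| jobs_append t9_734_33 <| jobs_append t9_734_34 <| jobs_append t9_734_35 <| jobs_append t9_734_36 <| jobs_append t9_734_37 <| jobs_append t9_734_38 <| jobs_append t9_734_39 <| jobs_append t9_734_40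 <| jobs_append t9_734_41 <| jobs_append t9_734_42 <| List.forall_mem_nil _) (by decide +kernel)

noncomputable def j9_735_0 : List Job := [
  ⟨52, 0x540a25229950aa562b960b25a2d970ba5e2fd008242219108a4623920924a259309a4e27c361909844160901, 0, 6, 0x201000401000601000801, []⟩]

theorem t9_735_0 : jobs 8 S9 b8_735 j9_735_0 = true := by decide +kernel

noncomputable def j9_735_1 : List Job := [
  ⟨48, 0x540a25229950aa562b960b25a2d970ba5e2fd008242219108a4623920924a259309a4e27c361909844160901, 0, 18, 0x0, []⟩]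

theorem t9_735_1 : jobs 8 S9 b8_735 j9_735_1 = true := by decide +kernel

noncomputable def j9_735_2 : List Job := [
  ⟨32, 0x588c664329a8d66c36d80c266339a0d26e37d108a46239309a4e27d00824221920924a25c361909844160901, 0, 4, 0x201000401000601000801, []⟩]

theorem t9_735_2 : jobs 8 S9 b8_735 j9_735_2 = true := by decide +kernel

noncomputable def j9_735_3 : List Job := [
  ⟨30, 0x588c664329a8d66c36d80c266339a0d26e37d108a46239309a4e27d00824221920924a25c361909844160901, 0, 18, 0x0, []⟩]

theorem t9_735_3 : jobs 8 S9 b8_735 j9_735_3 = true := by decide +kernel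

noncomputable def j9_735_4 : List Job := [
  ⟨29, 0x5108a46239309a4e27d00824221920924a25c361909844160901, 0, 4, 0x0, []⟩]

theorem t9_735_4 : jobs 8 S9 b8_735 j9_735_4 = true := by decide +kernel

noncomputable def j9_735_5 : List Job := [
  ⟨28, 0x5108a46239309a4e27d00824221920924a25c361909844160901, 0, 4, 0x201000401000601000801, []⟩]

theorem t9_735_5 : jobs 8 S9 b8_735 j9_735_5 = true := by decide +kernel

noncomputable def j9_735_6 : List Job := [
  ⟨27, 0x4361909844160901, 0, 3, 0x0, []⟩]

theorem t9_735_6 : jobs 8 S9 b8_735 j9_735_6 = true := by decide +kernel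

noncomputable def j9_735_7 : List Job := [
  ⟨26, 0x588c664329a8d66c36d80c266339a0d26e37d108a46239309a4e27d00824221920924a25c361909844160901, 0, 3, 0x0, []⟩]

theorem t9_735_7 : jobs 8 S9 b8_735 j9_735_7 = true := by decide +kernel

noncomputable def j9_735_8 : List Job := [
  ⟨25, 0x4361909844160901, 0, 3, 0x201000401000601, []⟩]

theorem t9_735_8 : jobs 8 S9 b8_735 j9_735_8 = true := by decide +kernel

noncomputable def j9_735_9 : List Job := [
  ⟨24, 0x588c664329a8d66c36d80c266339a0d26e37d108a46239309a4e27d00824221920924a25c361909844160901, 0, 3, 0x201000401000601, []⟩]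

theorem t9_735_9 : jobs 8 S9 b8_735 j9_735_9 = true := by decide +kernel

noncomputable def j9_735_10 : List Job := [
  ⟨23, 0x5108a46239309a4e27d00824221920924a25c361909844160901, 0, 3, 0x201000401000601, []⟩]

theorem t9_735_10 : jobs 8 S9 b8_735 j9_735_10 = true := by decide +kernel

noncomputable def j9_735_11 : List Job := [
  ⟨22, 0x5108a46239309a4e27d00824221920924a25c361909844160901, 0, 3, 0x0, []⟩]

theorem t9_735_11 : jobs 8 S9 b8_735 j9_735_11 = true := by decide +kernel

noncomputable def j9_735_12 : List Job := [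
  ⟨21, 0x4361909844160901, 0, 3, 0x201000401000601, []⟩]

theorem t9_735_12 : jobs 8 S9 b8_735 j9_735_12 = true := by decide +kernel

noncomputable def j9_735_13 : List Job := [
  ⟨20, 0x588c664329a8d66c36d80c266339a0d26e37d108a46239309a4e27d00824221920924a25c361909844160901, 0, 13, 0x201000401000601000801000a01000c01000e01001001001201001401001601, []⟩]

theorem t9_735_13 : jobs 8 S9 b8_735 j9_735_13 = true := by decide +kernel

noncomputable def j9_735_14 : List Job := [
  ⟨19, 0x4361909844160901, 0, 3, 0x0, []⟩]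

theorem t9_735_14 : jobs 8 S9 b8_735 j9_735_14 = true := by decide +kernel

noncomputable def j9_735_15 : List Job := [
  ⟨18, 0x588c664329a8d66c36d80c266339a0d26e37d108a46239309a4e27d00824221920924a25c361909844160901, 0, 3, 0x0, []⟩]

theorem t9_735_15 : jobs 8 S9 b8_735 j9_735_15 = true := by decide +kernel

noncomputable def j9_735_16 : List Job := [
  ⟨17, 0x5108a46239309a4e27d00824221920924a25c361909844160901, 0, 3, 0x0, []⟩]

theorem t9_735_16 : jobs 8 S9 b8_735 j9_735_16 = true := by decide +kernel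

noncomputable def j9_735_17 : List Job := [
  ⟨16, 0x5108a46239309a4e27d00824221920924a25c361909844160901, 0, 3, 0x201000401000601, []⟩]

theorem t9_735_17 : jobs 8 S9 b8_735 j9_735_17 = true := by decide +kernel

noncomputable def j9_735_18 : List Job := [
  ⟨15, 0x4361909844160901, 0, 3, 0x0, []⟩]

theorem t9_735_18 : jobs 8 S9 b8_735 j9_735_18 = true := by decide +kernel

noncomputable def j9_735_19 : List Job := [
  ⟨14, 0x588c664329a8d66c36d80c266339a0d26e37d108a46239309a4e27d00824221920924a25c361909844160901, 0, 3, 0x0, []⟩]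

theorem t9_735_19 : jobs 8 S9 b8_735 j9_735_19 = true := by decide +kernel

noncomputable def j9_735_20 : List Job := [
  ⟨13, 0x4361909844160901, 0, 3, 0x201000401000601, []⟩]

theorem t9_735_20 : jobs 8 S9 b8_735 j9_735_20 = true := by decide +kernel

noncomputable def j9_735_21 : List Job := [
  ⟨12, 0x588c664329a8d66c36d80c266339a0d26e37d108a46239309a4e27d00824221920924a25c361909844160901, 0, 23, 0x2601002801002a01002c01002e01, []⟩]

theorem t9_735_21 : jobs 8 S9 b8_735 j9_735_21 = true := by decide +kernel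

noncomputable def j9_735_22 : List Job := [
  ⟨11, 0x588c664329a8d66c36d00824221920924a25c381f0c06c080701, 0, 40, 0x0, []⟩]

theorem t9_735_22 : jobs 8 S9 b8_735 j9_735_22 = true := by decide +kernel

noncomputable def j9_735_23 : List Job := [
  ⟨10, 0x588c664329a8d66c36d00824221920924a25c381f0c06c080701, 0, 40, 0x0, []⟩]

theorem t9_735_23 : jobs 8 S9 b8_735 j9_735_23 = true := by decide +kernel

theorem d9_735 : Dn 8 S9 b8_735 := dn_of (Js := j9_735_0 ++ (j9_735_1 ++ (j9_735_2 ++ (j9_735_3 ++ (j9_735_4 ++ (j9_735_5 ++ (j9_735_6 ++ (j9_735_7 ++ (j9_735_8 ++ (j9_735_9 ++ (j9_735_10 ++ (j9_735_11 ++ (j9_735_12 ++ (j9_735_13 ++ (j9_735_14 ++ (j9_735_15 ++ (j9_735_16 ++ (j9_735_17 ++ (j9_735_18 ++ (j9_735_19 ++ (j9_735_20 ++ (j9_735_21 ++ (j9_735_22 ++ (j9_735_23 ++ []))))))))))))))))))))))))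
  (jobs_append t9_735_0 <| jobs_append t9_735_1 <| jobs_append t9_735_2 <| jobs_append t9_735_3 <| jobs_append t9_735_4 <| jobs_append t9_735_5 <| jobs_append t9_735_6 <| jobs_append t9_735_7 <| jobs_append t9_735_8 <| jobs_append t9_735_9 <| jobs_append t9_735_10 <| jobs_append t9_735_11 <| jobs_append t9_735_12 <| jobs_append t9_735_13 <| jobs_append t9_735_14 <| jobs_append t9_735_15 <| jobs_append t9_735_16 <| jobs_append t9_735_17 <| jobs_append t9_735_18 <| jobs_append t9_735_19 <| jobs_append t9_735_20 <| jobs_append t9_735_21 <| jobs_append t9_735_22 <| jobs_append t9_735_23 <| List.forall_mem_nil _) (by decide +kernel)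

noncomputable def j9_736_0 : List Job := [
  ⟨63, 0x5c0e272399d0ea763b9e0f27a3d9f0fa7e3fd80c26231990ca66339a0d26a359b0da6e37c361909844160901, 0, 20, 0x0, []⟩]

theorem t9_736_0 : jobs 8 S9 b8_736 j9_736_0 = true := by decide +kernel

noncomputable def j9_736_1 : List Job := [
  ⟨62, 0x5108a46239309a4e27d00824221920924a25c361909844160901, 0, 20, 0x0, []⟩]

theorem t9_736_1 : jobs 8 S9 b8_736 j9_736_1 = true := by decide +kernel

noncomputable def j9_736_2 : List Job := [
  ⟨61, 0x4361909844160901, 0, 20, 0x0, []⟩]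

theorem t9_736_2 : jobs 8 S9 b8_736 j9_736_2 = true := by decide +kernel

noncomputable def j9_736_3 : List Job := [
  ⟨60, 0x5c0e272399d0ea763b9e0f27a3d9f0fa7e3fd80c26231990ca66339a0d26a359b0da6e37d108a46239309a4e27d00824221920924a25c361909844160901, 0, 20, 0x0, []⟩]

theorem t9_736_3 : jobs 8 S9 b8_736 j9_736_3 = true := by decide +kernel

noncomputable def j9_736_4 : List Job := [
  ⟨59, 0x4361909844160901, 0, 20, 0x0, []⟩]

theorem t9_736_4 : jobs 8 S9 b8_736 j9_736_4 = true := by decide +kernel

noncomputable def j9_736_5 : List Job := [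
  ⟨58, 0x5c0e272399d0ea763b9e0f27a3d9f0fa7e3fd80c26231990ca66339a0d26a359b0da6e37d108a46239309a4e27d00824221920924a25c361909844160901, 0, 46, 0x5401005601, []⟩]

theorem t9_736_5 : jobs 8 S9 b8_736 j9_736_5 = true := by decide +kernel

noncomputable def j9_736_6 : List Job := [
  ⟨46, 0x540a25229950aa562b960b25a2d970ba5e2fd008242219108a4623920924a259309a4e27c361909844160901, 0, 12, 0x0, []⟩]

theorem t9_736_6 : jobs 8 S9 b8_736 j9_736_6 = true := by decide +kernel

noncomputable def j9_736_7 : List Job := [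
  ⟨31, 0x540a25229950aa562b960b25a2d970ba5e2fd008242219108a4623920924a259309a4e27c361909844160901, 0, 15, 0x0, []⟩]

theorem t9_736_7 : jobs 8 S9 b8_736 j9_736_7 = true := by decide +kernel

noncomputable def j9_736_8 : List Job := [
  ⟨23, 0x4361909844160901, 0, 8, 0x0, []⟩]

theorem t9_736_8 : jobs 8 S9 b8_736 j9_736_8 = true := by decide +kernel

noncomputable def j9_736_9 : List Job := [
  ⟨13, 0x5c0e272399d0ea763b9e0f27a3d9f0fa7e3fd80c26231990ca66339a0d26a359b0da6e37d40a25229950aa562b960b25a2d970ba5e2fd008242219108a4623920924a259309a4e27c361909844160901, 0, 10, 0x0, []⟩]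

theorem t9_736_9 : jobs 8 S9 b8_736 j9_736_9 = true := by decide +kernel

noncomputable def j9_736_10 : List Job := [
  ⟨2, 0x4361909844160901, 0, 11, 0x0, []⟩]

theorem t9_736_10 : jobs 8 S9 b8_736 j9_736_10 = true := by decide +kernel

theorem d9_736 : Dn 8 S9 b8_736 := dn_of (Js := j9_736_0 ++ (j9_736_1 ++ (j9_736_2 ++ (j9_736_3 ++ (j9_736_4 ++ (j9_736_5 ++ (j9_736_6 ++ (j9_736_7 ++ (j9_736_8 ++ (j9_736_9 ++ (j9_736_10 ++ [])))))))))))
  (jobs_append t9_736_0 <| jobs_append t9_736_1 <| jobs_append t9_736_2 <| jobs_append t9_736_3 <| jobs_append t9_736_4 <| jobs_append t9_736_5 <| jobs_append t9_736_6 <| jobs_append t9_736_7 <| jobs_append t9_736_8 <| jobs_append t9_736_9 <| jobs_append t9_736_10 <| List.forall_mem_nil _) (by decide +kernel)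

noncomputable def j9_737_0 : List Job := [
  ⟨60, 0x550aa562b960b25a2dd40a25229970ba5e2fc361909844160901, 0, 20, 0x0, []⟩]

theorem t9_737_0 : jobs 8 S9 b8_737 j9_737_0 = true := by decide +kernel

noncomputable def j9_737_1 : List Job := [
  ⟨42, 0x5c0e272399d0ea763b9e0f27a3d9f0fa7e3fd80c26231990ca66339a0d26a359b0da6e37d20924a259309a4e27d008242219108a4623c361909844160901, 0, 3, 0x601, []⟩]

theorem t9_737_1 : jobs 8 S9 b8_737 j9_737_1 = true := by decide +kernel

noncomputable def j9_737_2 : List Job := [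
  ⟨40, 0x5c0e272399d0ea763b9e0f27a3d9f0fa7e3fd80c26231990ca66339a0d26a359b0da6e37d20924a259309a4e27d008242219108a4623c361909844160901, 0, 20, 0x0, []⟩]

theorem t9_737_2 : jobs 8 S9 b8_737 j9_737_2 = true := by decide +kernel

noncomputable def j9_737_3 : List Job := [
  ⟨39, 0x5108a46239309a4e27c381f09844180f01, 0, 72, 0x0, []⟩]

theorem t9_737_3 : jobs 8 S9 b8_737 j9_737_3 = true := by decide +kernel

noncomputable def j9_737_4 : List Job := [
  ⟨38, 0x5c0e272399d0ea763b9e0f27a3d9f0fa7e3fd80c26231990ca66339a0d26a359b0da6e37d00824221920924a25c381f09844180f01, 0, 72, 0x0, []⟩]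

theorem t9_737_4 : jobs 8 S9 b8_737 j9_737_4 = true := by decide +kernel

noncomputable def j9_737_5 : List Job := [
  ⟨37, 0x5108a46239309a4e27c381f09844180f01, 0, 72, 0x0, []⟩]

theorem t9_737_5 : jobs 8 S9 b8_737 j9_737_5 = true := by decide +kernel

noncomputable def j9_737_6 : List Job := [
  ⟨36, 0x5c0e272399d0ea763b9e0f27a3d9f0fa7e3fd80c26231990ca66339a0d26a359b0da6e37d00824221920924a25c381f09844180f01, 0, 72, 0x0, []⟩]

theorem t9_737_6 : jobs 8 S9 b8_737 j9_737_6 = true := by decide +kernel

noncomputable def j9_737_7 : List Job := [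
  ⟨35, 0x580c26231990ca66339a0d26a359b0da6e37d00824221920924a25c381f09844180f01, 0, 128, 0x0, []⟩]

theorem t9_737_7 : jobs 8 S9 b8_737 j9_737_7 = true := by decide +kernel

noncomputable def j9_737_8 : List Job := [
  ⟨34, 0x580c26231990ca66339a0d26a359b0da6e37d00824221920924a25c381f09844180f01, 0, 128, 0x0, []⟩]

theorem t9_737_8 : jobs 8 S9 b8_737 j9_737_8 = true := by decide +kernel

noncomputable def j9_737_9 : List Job := [
  ⟨33, 0x580c26231990ca66339a0d26a359b0da6e37d00824221920924a25c2e15098440e0501, 0, 32, 0x0, []⟩]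

theorem t9_737_9 : jobs 8 S9 b8_737 j9_737_9 = true := by decide +kernel

noncomputable def j9_737_10 : List Job := [
  ⟨32, 0x580c26231990ca66339a0d26a359b0da6e37d00824221920924a25c2e15098440e0501, 0, 32, 0x0, []⟩]

theorem t9_737_10 : jobs 8 S9 b8_737 j9_737_10 = true := by decide +kernel

noncomputable def j9_737_11 : List Job := [
  ⟨31, 0x580c26231990ca66339a0d26a359b0da6e37d00824221920924a25c2e15098440e0501, 0, 32, 0x0, []⟩]

theorem t9_737_11 : jobs 8 S9 b8_737 j9_737_11 = true := by decide +kernel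

noncomputable def j9_737_12 : List Job := [
  ⟨30, 0x580c26231990ca66339a0d26a359b0da6e37d00824221920924a25c2e15098440e0501, 0, 32, 0x0, []⟩]

theorem t9_737_12 : jobs 8 S9 b8_737 j9_737_12 = true := by decide +kernel

noncomputable def j9_737_13 : List Job := [
  ⟨29, 0x5148e4c275108c4d27c2e15098440e0501, 0, 32, 0x0, []⟩]

theorem t9_737_13 : jobs 8 S9 b8_737 j9_737_13 = true := by decide +kernel

noncomputable def j9_737_14 : List Job := [
  ⟨28, 0x5c0e272399d0ea763b9e0f27a3d9f0fa7e3fd80c26231990ca66339a0d26a359b0da6e37d04864925d0084482542e15098440e0501, 0, 32, 0x0, []⟩]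

theorem t9_737_14 : jobs 8 S9 b8_737 j9_737_14 = true := by decide +kernel

noncomputable def j9_737_15 : List Job := [
  ⟨27, 0x5148e4d27d108c4c2742e15098440e0501, 0, 20, 0x0, []⟩]

theorem t9_737_15 : jobs 8 S9 b8_737 j9_737_15 = true := by decide +kernel

noncomputable def j9_737_16 : List Job := [
  ⟨26, 0x5148e4c275108c4d27c2e15098440e0501, 0, 20, 0x0, []⟩]

theorem t9_737_16 : jobs 8 S9 b8_737 j9_737_16 = true := by decide +kernel

noncomputable def j9_737_17 : List Job := [
  ⟨25, 0x5c0e272399d0ea763b9e0f27a3d9f0fa7e3fd80c26231990ca66339a0d26a359b0da6e37d04864825500844925c2e15098440e0501, 0, 20, 0x0, []⟩]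

theorem t9_737_17 : jobs 8 S9 b8_737 j9_737_17 = true := by decide +kernel

noncomputable def j9_737_18 : List Job := [
  ⟨24, 0x5c0e272399d0ea763b9e0f27a3d9f0fa7e3fd80c26231990ca66339a0d26a359b0da6e37d04864925d0084482542e15098440e0501, 0, 46, 0x5401005601, []⟩]

theorem t9_737_18 : jobs 8 S9 b8_737 j9_737_18 = true := by decide +kernel

noncomputable def j9_737_19 : List Job := [
  ⟨23, 0x5108a46239309a4e27c2e15098440e0501, 0, 32, 0x0, []⟩]

theorem t9_737_19 : jobs 8 S9 b8_737 j9_737_19 = true := by decide +kernel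

noncomputable def j9_737_20 : List Job := [
  ⟨22, 0x5c0e272399d0ea763b9e0f27a3d9f0fa7e3fd80c26231990ca66339a0d26a359b0da6e37d00824221920924a25c2e15098440e0501, 0, 32, 0x0, []⟩]

theorem t9_737_20 : jobs 8 S9 b8_737 j9_737_20 = true := by decide +kernel

noncomputable def j9_737_21 : List Job := [
  ⟨21, 0x5108a46239309a4e27c2e15098440e0501, 0, 20, 0x0, []⟩]

theorem t9_737_21 : jobs 8 S9 b8_737 j9_737_21 = true := by decide +kernel

noncomputable def j9_737_22 : List Job := [
  ⟨20, 0x5108a46239309a4e27c2e15098440e0501, 0, 20, 0x0, []⟩]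

theorem t9_737_22 : jobs 8 S9 b8_737 j9_737_22 = true := by decide +kernel

noncomputable def j9_737_23 : List Job := [
  ⟨19, 0x5c0e272399d0ea763b9e0f27a3d9f0fa7e3fd80c26231990ca66339a0d26a359b0da6e37d00824221920924a25c2e15098440e0501, 0, 20, 0x0, []⟩]

theorem t9_737_23 : jobs 8 S9 b8_737 j9_737_23 = true := by decide +kernel

noncomputable def j9_737_24 : List Job := [
  ⟨18, 0x5c0e272399d0ea763b9e0f27a3d9f0fa7e3fd80c26231990ca66339a0d26a359b0da6e37d00824221920924a25c2e15098440e0501, 0, 20, 0x0, []⟩]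

theorem t9_737_24 : jobs 8 S9 b8_737 j9_737_24 = true := by decide +kernel

noncomputable def j9_737_25 : List Job := [
  ⟨17, 0x580c26231990ca66339a0d26a359b0da6e37d04864825500844925c2e15098440e0501, 0, 32, 0x0, []⟩]

theorem t9_737_25 : jobs 8 S9 b8_737 j9_737_25 = true := by decide +kernel

noncomputable def j9_737_26 : List Job := [
  ⟨16, 0x580c26231990ca66339a0d26a359b0da6e37d04864925d0084482542e15098440e0501, 0, 32, 0x0, []⟩]

theorem t9_737_26 : jobs 8 S9 b8_737 j9_737_26 = true := by decide +kernel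

noncomputable def j9_737_27 : List Job := [
  ⟨15, 0x580c26231990ca66339a0d26a359b0da6e37d04864825500844925c2e15098440e0501, 0, 32, 0x0, []⟩]

theorem t9_737_27 : jobs 8 S9 b8_737 j9_737_27 = true := by decide +kernel

noncomputable def j9_737_28 : List Job := [
  ⟨14, 0x580c26231990ca66339a0d26a359b0da6e37d04864925d0084482542e15098440e0501, 0, 32, 0x0, []⟩]

theorem t9_737_28 : jobs 8 S9 b8_737 j9_737_28 = true := by decide +kernel

noncomputable def j9_737_29 : List Job := [
  ⟨13, 0x5c0e272399d0ea763b9e0f27a3d9f0fa7e3fc361909844160901, 0, 32, 0x0, []⟩]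

theorem t9_737_29 : jobs 8 S9 b8_737 j9_737_29 = true := by decide +kernel

noncomputable def j9_737_30 : List Job := [
  ⟨12, 0x580c26231990ca66339a0d26a359b0da6e37d108a46239309a4e27d00824221920924a25c361909844160901, 0, 32, 0x0, []⟩]

theorem t9_737_30 : jobs 8 S9 b8_737 j9_737_30 = true := by decide +kernel

noncomputable def j9_737_31 : List Job := [
  ⟨11, 0x5c0e272399d0ea763b9e0f27a3d9f0fa7e3fc361909844160901, 0, 32, 0x0, []⟩]

theorem t9_737_31 : jobs 8 S9 b8_737 j9_737_31 = true := by decide +kernel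

noncomputable def j9_737_32 : List Job := [
  ⟨10, 0x580c26231990ca66339a0d26a359b0da6e37d108a46239309a4e27d00824221920924a25c361909844160901, 0, 32, 0x0, []⟩]

theorem t9_737_32 : jobs 8 S9 b8_737 j9_737_32 = true := by decide +kernel

noncomputable def j9_737_33 : List Job := [
  ⟨9, 0x5c0e272399d0ea763b9e0f27a3d9f0fa7e3fc361909844160901, 0, 32, 0x0, []⟩]

theorem t9_737_33 : jobs 8 S9 b8_737 j9_737_33 = true := by decide +kernel

noncomputable def j9_737_34 : List Job := [
  ⟨8, 0x580c26231990ca66339a0d26a359b0da6e37d108a46239309a4e27d00824221920924a25c361909844160901, 0, 32, 0x0, []⟩]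

theorem t9_737_34 : jobs 8 S9 b8_737 j9_737_34 = true := by decide +kernel

noncomputable def j9_737_35 : List Job := [
  ⟨7, 0x5c0e272399d0ea763b9e0f27a3d9f0fa7e3fc361909844160901, 0, 32, 0x0, []⟩]

theorem t9_737_35 : jobs 8 S9 b8_737 j9_737_35 = true := by decide +kernel

noncomputable def j9_737_36 : List Job := [
  ⟨6, 0x580c26231990ca66339a0d26a359b0da6e37d108a46239309a4e27d00824221920924a25c361909844160901, 0, 32, 0x0, []⟩]

theorem t9_737_36 : jobs 8 S9 b8_737 j9_737_36 = true := by decide +kernel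

noncomputable def j9_737_37 : List Job := [
  ⟨5, 0x5c0e272399d0ea763b9e0f27a3d9f0fa7e3fd80c26231990ca66339a0d26a359b0da6e37c361909844160901, 0, 32, 0x0, []⟩]

theorem t9_737_37 : jobs 8 S9 b8_737 j9_737_37 = true := by decide +kernel

noncomputable def j9_737_38 : List Job := [
  ⟨4, 0x5108a46239309a4e27d00824221920924a25c361909844160901, 0, 32, 0x0, []⟩]

theorem t9_737_38 : jobs 8 S9 b8_737 j9_737_38 = true := by decide +kernel

noncomputable def j9_737_39 : List Job := [
  ⟨3, 0x4361909844160901, 0, 32, 0x0, []⟩]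

theorem t9_737_39 : jobs 8 S9 b8_737 j9_737_39 = true := by decide +kernel

noncomputable def j9_737_40 : List Job := [
  ⟨2, 0x5c0e272399d0ea763b9e0f27a3d9f0fa7e3fd80c26231990ca66339a0d26a359b0da6e37d108a46239309a4e27d00824221920924a25c361909844160901, 0, 32, 0x0, []⟩]

theorem t9_737_40 : jobs 8 S9 b8_737 j9_737_40 = true := by decide +kernel

noncomputable def j9_737_41 : List Job := [
  ⟨1, 0x5c0e272399d0ea763b9e0f27a3d9f0fa7e3fd80c26231990ca66339a0d26a359b0da6e37c361909844160901, 0, 20, 0x0, []⟩]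

theorem t9_737_41 : jobs 8 S9 b8_737 j9_737_41 = true := by decide +kernel

noncomputable def j9_737_42 : List Job := [
  ⟨0, 0x5108a46239309a4e27d00824221920924a25c361909844160901, 0, 20, 0x0, []⟩]

theorem t9_737_42 : jobs 8 S9 b8_737 j9_737_42 = true := by decide +kernel

theorem d9_737 : Dn 8 S9 b8_737 := dn_of (Js := j9_737_0 ++ (j9_737_1 ++ (j9_737_2 ++ (j9_737_3 ++ (j9_737_4 ++ (j9_737_5 ++ (j9_737_6 ++ (j9_737_7 ++ (j9_737_8 ++ (j9_737_9 ++ (j9_737_10 ++ (j9_737_11 ++ (j9_737_12 ++ (j9_737_13 ++ (j9_737_14 ++ (j9_737_15 ++ (j9_737_16 ++ (j9_737_17 ++ (j9_737_18 ++ (j9_737_19 ++ (j9_737_20 ++ (j9_737_21 ++ (j9_737_22 ++ (j9_737_23 ++ (j9_737_24 ++ (j9_737_25 ++ (j9_737_26 ++ (j9_737_27 ++ (j9_737_28 ++ (j9_737_29 ++ (j9_737_30 ++ (j9_737_31 ++ (j9_737_32 ++ (j9_737_33 ++ (j9_737_34 ++ (j9_737_35 ++ (j9_737_36 ++ (j9_737_37 ++ (j9_737_38 ++ (j9_737_39 ++ (j9_737_40 ++ (j9_737_41 ++ (j9_737_42 ++ [])))))))))))))))))))))))))))))))))))))))))))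
  (jobs_append t9_737_0 <| jobs_append t9_737_1 <| jobs_append t9_737_2 <| jobs_append t9_737_3 <| jobs_append t9_737_4 <| jobs_append t9_737_5 <| jobs_append t9_737_6 <| jobs_append t9_737_7 <| jobs_append t9_737_8 <| jobs_append t9_737_9 <| jobs_append t9_737_10 <| jobs_append t9_737_11 <| jobs_append t9_737_12 <| jobs_append t9_737_13 <| jobs_append t9_737_14 <| jobs_append t9_737_15 <| jobs_append t9_737_16 <| jobs_append t9_737_17 <| jobs_append t9_737_18 <| jobs_append t9_737_19 <| jobs_append t9_737_20 <| jobs_append t9_737_21 <| jobs_append t9_737_22 <| jobs_append t9_737_23 <| jobs_append t9_737_24 <| jobs_append t9_737_25 <| jobs_append t9_737_26 <| jobs_append t9_737_27 <| jobs_append t9_737_28 <| jobs_append t9_737_29 <| jobs_append t9_737_30 <| jobs_append t9_737_31 <| jobs_append t9_737_32 <| jobs_append t9_737_33 <| jobs_append t9_737_34 <| jobs_append t9_737_35 <| jobs_append t9_737_36 <| jobs_append t9_737_37 <| jobs_append t9_737_38 <| jobs_append t9_737_39 <| jobs_append t9_737_40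 <| jobs_append t9_737_41 <| jobs_append t9_737_42 <| List.forall_mem_nil _) (by decide +kernel)

noncomputable def j9_738_0 : List Job := [
  ⟨55, 0x44c33120c44437100d42e15098440e0501, 0, 4, 0x0, []⟩]

theorem t9_738_0 : jobs 8 S9 b8_738 j9_738_0 = true := by decide +kernel

noncomputable def j9_738_1 : List Job := [
  ⟨51, 0x44c33120c44437100d42e15098440e0501, 0, 16, 0x0, []⟩]

theorem t9_738_1 : jobs 8 S9 b8_738 j9_738_1 = true := by decide +kernel

noncomputable def j9_738_2 : List Job := [
  ⟨36, 0x5c0e272399d0ea763b9e0f27a3d9f0fa7e3fd80c26231990ca66339a0d26a359b0da6e37d40a25229950aa562b960b25a2d970ba5e2fd008242219108a4623920924a259309a4e27c663111884261101, 0, 15, 0x0, []⟩]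

theorem t9_738_2 : jobs 8 S9 b8_738 j9_738_2 = true := by decide +kernel

noncomputable def j9_738_3 : List Job := [
  ⟨22, 0x550aa562b970ba5e2fd40a25229960b25a2dc361909844160901, 0, 2, 0x0, []⟩]

theorem t9_738_3 : jobs 8 S9 b8_738 j9_738_3 = true := by decide +kernel

noncomputable def j9_738_4 : List Job := [
  ⟨16, 0x550aa562b970ba5e2fd40a25229960b25a2dc361909844160901, 0, 20, 0x0, []⟩]

theorem t9_738_4 : jobs 8 S9 b8_738 j9_738_4 = true := by decide +kernel

noncomputable def j9_738_5 : List Job := [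
  ⟨0, 0x550aa562b960b25a2dd40a25229970ba5e2fc361909844160901, 0, 2, 0x0, []⟩]

theorem t9_738_5 : jobs 8 S9 b8_738 j9_738_5 = true := by decide +kernel

theorem d9_738 : Dn 8 S9 b8_738 := dn_of (Js := j9_738_0 ++ (j9_738_1 ++ (j9_738_2 ++ (j9_738_3 ++ (j9_738_4 ++ (j9_738_5 ++ []))))))
  (jobs_append t9_738_0 <| jobs_append t9_738_1 <| jobs_append t9_738_2 <| jobs_append t9_738_3 <| jobs_append t9_738_4 <| jobs_append t9_738_5 <| List.forall_mem_nil _) (by decide +kernel)

noncomputable def j9_739_0 : List Job := [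
  ⟨63, 0x4361909844160901, 0, 12, 0x0, []⟩]

theorem t9_739_0 : jobs 8 S9 b8_739 j9_739_0 = true := by decide +kernel

noncomputable def j9_739_1 : List Job := [
  ⟨49, 0x4361909844160901, 0, 4, 0x201000401000601000801, []⟩]

theorem t9_739_1 : jobs 8 S9 b8_739 j9_739_1 = true := by decide +kernel

noncomputable def j9_739_2 : List Job := [
  ⟨47, 0x4361909844160901, 0, 16, 0x0, []⟩]

theorem t9_739_2 : jobs 8 S9 b8_739 j9_739_2 = true := by decide +kernel

noncomputable def j9_739_3 : List Job := [
  ⟨41, 0x4361909844160901, 0, 4, 0x201000401000601000801, []⟩]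

theorem t9_739_3 : jobs 8 S9 b8_739 j9_739_3 = true := by decide +kernel

noncomputable def j9_739_4 : List Job := [
  ⟨37, 0x4361909844160901, 0, 2, 0x201000401, []⟩]

theorem t9_739_4 : jobs 8 S9 b8_739 j9_739_4 = true := by decide +kernel

noncomputable def j9_739_5 : List Job := [
  ⟨36, 0x4361909844160901, 0, 11, 0x0, []⟩]

theorem t9_739_5 : jobs 8 S9 b8_739 j9_739_5 = true := by decide +kernel

noncomputable def j9_739_6 : List Job := [
  ⟨16, 0x45433140c4443b100e4361909844160901, 0, 20, 0x0, []⟩]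

theorem t9_739_6 : jobs 8 S9 b8_739 j9_739_6 = true := by decide +kernel

noncomputable def j9_739_7 : List Job := [
  ⟨3, 0x44c33120c44437100d42e15098440e0501, 0, 13, 0x0, []⟩]

theorem t9_739_7 : jobs 8 S9 b8_739 j9_739_7 = true := by decide +kernel

theorem d9_739 : Dn 8 S9 b8_739 := dn_of (Js := j9_739_0 ++ (j9_739_1 ++ (j9_739_2 ++ (j9_739_3 ++ (j9_739_4 ++ (j9_739_5 ++ (j9_739_6 ++ (j9_739_7 ++ []))))))))
  (jobs_append t9_739_0 <| jobs_append t9_739_1 <| jobs_append t9_739_2 <| jobs_append t9_739_3 <| jobs_append t9_739_4 <| jobs_append t9_739_5 <| jobs_append t9_739_6 <| jobs_append t9_739_7 <| List.forall_mem_nil _) (by decide +kernel)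

noncomputable def j9_740_0 : List Job := [
  ⟨62, 0x4361909844160901, 0, 2, 0x201000401, []⟩]

theorem t9_740_0 : jobs 8 S9 b8_740 j9_740_0 = true := by decide +kernel

noncomputable def j9_740_1 : List Job := [
  ⟨58, 0x4361909844160901, 0, 14, 0x0, []⟩]

theorem t9_740_1 : jobs 8 S9 b8_740 j9_740_1 = true := by decide +kernel

noncomputable def j9_740_2 : List Job := [
  ⟨41, 0x4361909844160901, 0, 2, 0x201000401, []⟩]

theorem t9_740_2 : jobs 8 S9 b8_740 j9_740_2 = true := by decide +kernel

noncomputable def j9_740_3 : List Job := [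
  ⟨38, 0x4361909844160901, 0, 20, 0x0, []⟩]

theorem t9_740_3 : jobs 8 S9 b8_740 j9_740_3 = true := by decide +kernel

noncomputable def j9_740_4 : List Job := [
  ⟨37, 0x4381f09844180f01, 0, 27, 0x0, []⟩]

theorem t9_740_4 : jobs 8 S9 b8_740 j9_740_4 = true := by decide +kernel

noncomputable def j9_740_5 : List Job := [
  ⟨36, 0x4381f09844180f01, 0, 64, 0x0, []⟩]

theorem t9_740_5 : jobs 8 S9 b8_740 j9_740_5 = true := by decide +kernel

noncomputable def j9_740_6 : List Job := [
  ⟨35, 0x4381f09844180f01, 0, 27, 0x0, []⟩]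

theorem t9_740_6 : jobs 8 S9 b8_740 j9_740_6 = true := by decide +kernel

noncomputable def j9_740_7 : List Job := [
  ⟨34, 0x4381f09844180f01, 0, 44, 0x0, []⟩]

theorem t9_740_7 : jobs 8 S9 b8_740 j9_740_7 = true := by decide +kernel

noncomputable def j9_740_8 : List Job := [
  ⟨33, 0x4361909844160901, 0, 20, 0x0, []⟩]

theorem t9_740_8 : jobs 8 S9 b8_740 j9_740_8 = true := by decide +kernel

noncomputable def j9_740_9 : List Job := [
  ⟨32, 0x4361909844160901, 0, 20, 0x0, []⟩]

theorem t9_740_9 : jobs 8 S9 b8_740 j9_740_9 = true := by decide +kernel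

noncomputable def j9_740_10 : List Job := [
  ⟨31, 0x4361909844160901, 0, 20, 0x0, []⟩]

theorem t9_740_10 : jobs 8 S9 b8_740 j9_740_10 = true := by decide +kernel

noncomputable def j9_740_11 : List Job := [
  ⟨30, 0x4361909844160901, 0, 20, 0x0, []⟩]

theorem t9_740_11 : jobs 8 S9 b8_740 j9_740_11 = true := by decide +kernel

noncomputable def j9_740_12 : List Job := [
  ⟨29, 0x4361909844160901, 0, 32, 0x0, []⟩]

theorem t9_740_12 : jobs 8 S9 b8_740 j9_740_12 = true := by decide +kernel

noncomputable def j9_740_13 : List Job := [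
  ⟨28, 0x4361909844160901, 0, 32, 0x0, []⟩]

theorem t9_740_13 : jobs 8 S9 b8_740 j9_740_13 = true := by decide +kernel

noncomputable def j9_740_14 : List Job := [
  ⟨27, 0x4361909844160901, 0, 32, 0x0, []⟩]

theorem t9_740_14 : jobs 8 S9 b8_740 j9_740_14 = true := by decide +kernel

noncomputable def j9_740_15 : List Job := [
  ⟨26, 0x4361909844160901, 0, 32, 0x0, []⟩]

theorem t9_740_15 : jobs 8 S9 b8_740 j9_740_15 = true := by decide +kernel

noncomputable def j9_740_16 : List Job := [
  ⟨25, 0x4361909844160901, 0, 14, 0x0, []⟩]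

theorem t9_740_16 : jobs 8 S9 b8_740 j9_740_16 = true := by decide +kernel

noncomputable def j9_740_17 : List Job := [
  ⟨24, 0x4361909844160901, 0, 14, 0x0, []⟩]

theorem t9_740_17 : jobs 8 S9 b8_740 j9_740_17 = true := by decide +kernel

noncomputable def j9_740_18 : List Job := [
  ⟨23, 0x4361909844160901, 0, 20, 0x0, []⟩]

theorem t9_740_18 : jobs 8 S9 b8_740 j9_740_18 = true := by decide +kernel

noncomputable def j9_740_19 : List Job := [
  ⟨22, 0x4361909844160901, 0, 20, 0x0, []⟩]

theorem t9_740_19 : jobs 8 S9 b8_740 j9_740_19 = true := by decide +kernel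

noncomputable def j9_740_20 : List Job := [
  ⟨21, 0x4361909844160901, 0, 14, 0x0, []⟩]

theorem t9_740_20 : jobs 8 S9 b8_740 j9_740_20 = true := by decide +kernel

noncomputable def j9_740_21 : List Job := [
  ⟨20, 0x4361909844160901, 0, 33, 0x3a01003c01003e01004001004201, []⟩]

theorem t9_740_21 : jobs 8 S9 b8_740 j9_740_21 = true := by decide +kernel

noncomputable def j9_740_22 : List Job := [
  ⟨11, 0x4361909844160901, 0, 9, 0x0, []⟩]

theorem t9_740_22 : jobs 8 S9 b8_740 j9_740_22 = true := by decide +kernel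

theorem d9_740 : Dn 8 S9 b8_740 := dn_of (Js := j9_740_0 ++ (j9_740_1 ++ (j9_740_2 ++ (j9_740_3 ++ (j9_740_4 ++ (j9_740_5 ++ (j9_740_6 ++ (j9_740_7 ++ (j9_740_8 ++ (j9_740_9 ++ (j9_740_10 ++ (j9_740_11 ++ (j9_740_12 ++ (j9_740_13 ++ (j9_740_14 ++ (j9_740_15 ++ (j9_740_16 ++ (j9_740_17 ++ (j9_740_18 ++ (j9_740_19 ++ (j9_740_20 ++ (j9_740_21 ++ (j9_740_22 ++ [])))))))))))))))))))))))
  (jobs_append t9_740_0 <| jobs_append t9_740_1 <| jobs_append t9_740_2 <| jobs_append t9_740_3 <| jobs_append t9_740_4 <| jobs_append t9_740_5 <| jobs_append t9_740_6 <| jobs_append t9_740_7 <| jobs_append t9_740_8 <| jobs_append t9_740_9 <| jobs_append t9_740_10 <| jobs_append t9_740_11 <| jobs_append t9_740_12 <| jobs_append t9_740_13 <| jobs_append t9_740_14 <| jobs_append t9_740_15 <| jobs_append t9_740_16 <| jobs_append t9_740_17 <| jobs_append t9_740_18 <| jobs_append t9_740_19 <| jobs_append t9_740_20 <| jobs_append t9_740_21 <| jobs_append t9_740_22 <| List.forall_mem_nil _) (by decide +kernel)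

noncomputable def j9_741_0 : List Job := [
  ⟨62, 0x68142a251a914aa653aa152aa55ab15aae57e01028241a110a8643a21128a45a311a8e47d008242219108a4623920924a259309a4e27c4426190dc4024180d42e15098440e0501, 0, 20, 0x0, []⟩]

theorem t9_741_0 : jobs 8 S9 b8_741 j9_741_0 = true := by decide +kernel

noncomputable def j9_741_1 : List Job := [
  ⟨34, 0x621128a45a311a8e47e01028241a110a8643d008242219108a4623920924a259309a4e27c4426190dc4024180d42e15098440e0501, 0, 4, 0x201000401, []⟩]

theorem t9_741_1 : jobs 8 S9 b8_741 j9_741_1 = true := by decide +kernel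

noncomputable def j9_741_2 : List Job := [
  ⟨30, 0x621128a45a311a8e47e01028241a110a8643d008242219108a4623920924a259309a4e27c4426190dc4024180d42e15098440e0501, 0, 32, 0x0, []⟩]

theorem t9_741_2 : jobs 8 S9 b8_741 j9_741_2 = true := by decide +kernel

noncomputable def j9_741_3 : List Job := [
  ⟨21, 0x601028241a110a8643a21128a45a311a8e47d008242219108a4623920924a259309a4e27cc464351b4c066341bc84462513c8044241344426140b44024150bc1e0d058240e0501, 0, 3, 0x201, []⟩]

theorem t9_741_3 : jobs 8 S9 b8_741 j9_741_3 = true := by decide +kernel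

noncomputable def j9_741_4 : List Job := [
  ⟨18, 0x601028241a110a8643a21128a45a311a8e47d008242219108a4623920924a259309a4e27cc466351bcc064341b484462513c8044241344426150bc4024140b41e0d058240e0501, 0, 12, 0x0, []⟩]

theorem t9_741_4 : jobs 8 S9 b8_741 j9_741_4 = true := by decide +kernel

noncomputable def j9_741_5 : List Job := [
  ⟨8, 0x4663111884261101, 0, 10, 0x0, []⟩]

theorem t9_741_5 : jobs 8 S9 b8_741 j9_741_5 = true := by decide +kernel

theorem d9_741 : Dn 8 S9 b8_741 := dn_of (Js := j9_741_0 ++ (j9_741_1 ++ (j9_741_2 ++ (j9_741_3 ++ (j9_741_4 ++ (j9_741_5 ++ []))))))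
  (jobs_append t9_741_0 <| jobs_append t9_741_1 <| jobs_append t9_741_2 <| jobs_append t9_741_3 <| jobs_append t9_741_4 <| jobs_append t9_741_5 <| List.forall_mem_nil _) (by decide +kernel)

noncomputable def j9_742_0 : List Job := [
  ⟨42, 0x609068643a21128c46e01028442a29168e47d008242219108a4623920924a259309a4e27c4426190dc4024180d42e15098440e0501, 0, 4, 0x201000401, []⟩]

theorem t9_742_0 : jobs 8 S9 b8_742 j9_742_0 = true := by decide +kernel

noncomputable def j9_742_1 : List Job := [
  ⟨38, 0x609068643a21128c46e01028442a29168e47d008242219108a4623920924a259309a4e27c4426190dc4024180d42e15098440e0501, 0, 32, 0x0, []⟩]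

theorem t9_742_1 : jobs 8 S9 b8_742 j9_742_1 = true := by decide +kernel

noncomputable def j9_742_2 : List Job := [
  ⟨18, 0x5008242219108a4623920924a259309a4e27c4426190dc4024180d42e15098440e0501, 0, 20, 0x0, []⟩]

theorem t9_742_2 : jobs 8 S9 b8_742 j9_742_2 = true := by decide +kernel

theorem d9_742 : Dn 8 S9 b8_742 := dn_of (Js := j9_742_0 ++ (j9_742_1 ++ (j9_742_2 ++ [])))
  (jobs_append t9_742_0 <| jobs_append t9_742_1 <| jobs_append t9_742_2 <| List.forall_mem_nil _) (by decide +kernel)

noncomputable def j9_743_0 : List Job := [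
  ⟨63, 0x68946a452aa152ae57e01028442a21128c46d40a2562b968b65c2ed00824422920924c26ca0522a158b05a2e17c804222118904a2613c60321a0d8703a1e0fc402212098502a160bc381f0d864080701, 0, 76, 0x0, []⟩]

theorem t9_743_0 : jobs 8 S9 b8_743 j9_743_0 = true := by decide +kernel

noncomputable def j9_743_1 : List Job := [
  ⟨62, 0x68142a653aa956ac56e01028442a21128c46d40a2562b968b65c2ed00824422920924c26ca0522a158b05a2e17c804222118904a2613c60321a0d8703a1e0fc402212098502a160bc381f0d864080701, 0, 60, 0x0, []⟩]

theorem t9_743_1 : jobs 8 S9 b8_743 j9_743_1 = true := by decide +kernel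

noncomputable def j9_743_2 : List Job := [
  ⟨61, 0x68946a452aa152ae57e01028442a21128c46d40a2562b968b65c2ed00824422920924c26c804222118904a2613c402212098502a160bc28170804c080701, 0, 48, 0x203000603000a03000e03001e01002201002a03002e03004201004401004801004a01005601005a01, []⟩]

theorem t9_743_2 : jobs 8 S9 b8_743 j9_743_2 = true := by decide +kernel

noncomputable def j9_743_3 : List Job := [
  ⟨60, 0x68142a653aa956ac56e01028442a21128c46d40a2562b968b65c2ed00824422920924c26c804222118904a2613c402212098502a160bc28170804c080701, 0, 48, 0x203000603000a03000e03001e01002201002a03002e03004201004401004801004a01005601005a01, []⟩]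

theorem t9_743_3 : jobs 8 S9 b8_743 j9_743_3 = true := by decide +kernel

noncomputable def j9_743_4 : List Job := [
  ⟨59, 0x68946a452aa152ae57e8142a653aa956ac56d08864623928964e27d00824422920924c26c804222118904a2613c402212098502a160bc1e0d058240e0501, 0, 38, 0x4203004603, []⟩]

theorem t9_743_4 : jobs 8 S9 b8_743 j9_743_4 = true := by decide +kernel

noncomputable def j9_743_5 : List Job := [
  ⟨58, 0x609068643a29168e47e01028442a21128c46d08864623928964e27d00824422920924c26c804222118904a2613c402212098502a160bc1e0d058240e0501, 0, 46, 0x2a03002e03, []⟩]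

theorem t9_743_5 : jobs 8 S9 b8_743 j9_743_5 = true := by decide +kernel

noncomputable def j9_743_6 : List Job := [
  ⟨57, 0x68946a452aa152ae57e8142a653aa956ac56d08864623928964e27d00824422920924c26c804222118904a2613c402212098502a160bc1e0d058240e0501, 0, 38, 0x4203004603, []⟩]

theorem t9_743_6 : jobs 8 S9 b8_743 j9_743_6 = true := by decide +kernel

noncomputable def j9_743_7 : List Job := [
  ⟨56, 0x609068643a29168e47e01028442a21128c46d08864623928964e27d00824422920924c26c804222118904a2613c402212098502a160bc1e0d058240e0501, 0, 46, 0x2a03002e03, []⟩]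

theorem t9_743_7 : jobs 8 S9 b8_743 j9_743_7 = true := by decide +kernel

noncomputable def j9_743_8 : List Job := [
  ⟨55, 0x609068643a29168e47e01028442a21128c46c804222118904a2613c4426140b44024150bc1e0d058240e0501, 0, 72, 0x4203004603004a03004e03, []⟩]

theorem t9_743_8 : jobs 8 S9 b8_743 j9_743_8 = true := by decide +kernel

noncomputable def j9_743_9 : List Job := [
  ⟨54, 0x609068643a29168e47e01028442a21128c46d48a6542a960b25e2fd40a2562b968b65c2ed08864623928964e27d00824422920924c26c804222118904a2613c4426140b44024150bc1e0d058240e0501, 0, 72, 0x4203004603, []⟩]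

theorem t9_743_9 : jobs 8 S9 b8_743 j9_743_9 = true := by decide +kernel

noncomputable def j9_743_10 : List Job := [
  ⟨53, 0x484462513c8044241344426140b44024150bc1e0d058240e0501, 0, 26, 0x2a03002c02002e03003002, []⟩]

theorem t9_743_10 : jobs 8 S9 b8_743 j9_743_10 = true := by decide +kernel

noncomputable def j9_743_11 : List Job := [
  ⟨52, 0x548a6542a960b25e2fd40a2562b968b65c2ed08864623928964e27d00824422920924c26c84462513c8044241344426140b44024150bc1e0d058240e0501, 0, 40, 0x4203004402004603004802, []⟩]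

theorem t9_743_11 : jobs 8 S9 b8_743 j9_743_11 = true := by decide +kernel

noncomputable def j9_743_12 : List Job := [
  ⟨51, 0x68946a452aa152ae57e8142a653aa956ac56e09068643a29168e47e01028442a21128c46d48a6542a960b25e2fd40a2562b968b65c2ed08864623928964e27d00824422920924c26c84462513c8044241344426140b44024150bc1e0d058240e0501, 0, 32, 0x3001003603003a03, []⟩]

theorem t9_743_12 : jobs 8 S9 b8_743 j9_743_12 = true := by decide +kernel

noncomputable def j9_743_13 : List Job := [
  ⟨50, 0x609068643a29168e47e01028442a21128c46c804222118904a2613c4426150bc4024140b41e0d058240e0501, 0, 72, 0x4203004603004a03004e03, []⟩]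

theorem t9_743_13 : jobs 8 S9 b8_743 j9_743_13 = true := by decide +kernel

noncomputable def j9_743_14 : List Job := [
  ⟨49, 0x609068643a29168e47e01028442a21128c46d48a6542a960b25e2fd40a2562b968b65c2ed08864623928964e27d00824422920924c26c804222118904a2613c4426150bc4024140b41e0d058240e0501, 0, 72, 0x4203004603, []⟩]

theorem t9_743_14 : jobs 8 S9 b8_743 j9_743_14 = true := by decide +kernel

noncomputable def j9_743_15 : List Job := [
  ⟨48, 0x484462513c8044241344426150bc4024140b41e0d058240e0501, 0, 26, 0x2a03002c02002e03003002, []⟩]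

theorem t9_743_15 : jobs 8 S9 b8_743 j9_743_15 = true := by decide +kernel

noncomputable def j9_743_16 : List Job := [
  ⟨47, 0x548a6542a960b25e2fd40a2562b968b65c2ed08864623928964e27d00824422920924c26c84462513c8044241344426150bc4024140b41e0d058240e0501, 0, 40, 0x4203004402004603004802, []⟩]

theorem t9_743_16 : jobs 8 S9 b8_743 j9_743_16 = true := by decide +kernel

noncomputable def j9_743_17 : List Job := [
  ⟨46, 0x68946a452aa152ae57e8142a653aa956ac56e09068643a29168e47e01028442a21128c46d48a6542a960b25e2fd40a2562b968b65c2ed08864623928964e27d00824422920924c26c84462513c8044241344426150bc4024140b41e0d058240e0501, 0, 48, 0x4601004c01005203005603, []⟩]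

theorem t9_743_17 : jobs 8 S9 b8_743 j9_743_17 = true := by decide +kernel

noncomputable def j9_743_18 : List Job := [
  ⟨26, 0x5008242219108a4623920924a259309a4e27c4426190dc4024180d42e15098440e0501, 0, 20, 0x0, []⟩]

theorem t9_743_18 : jobs 8 S9 b8_743 j9_743_18 = true := by decide +kernel

noncomputable def j9_743_19 : List Job := [
  ⟨6, 0x68142a251a914aa653aa152aa55ab15aae57e01028241a110a8643a21128a45a311a8e47d008242219108a4623920924a259309a4e27c4426190dc4024180d42e15098440e0501, 0, 20, 0x0, []⟩]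

theorem t9_743_19 : jobs 8 S9 b8_743 j9_743_19 = true := by decide +kernel

theorem d9_743 : Dn 8 S9 b8_743 := dn_of (Js := j9_743_0 ++ (j9_743_1 ++ (j9_743_2 ++ (j9_743_3 ++ (j9_743_4 ++ (j9_743_5 ++ (j9_743_6 ++ (j9_743_7 ++ (j9_743_8 ++ (j9_743_9 ++ (j9_743_10 ++ (j9_743_11 ++ (j9_743_12 ++ (j9_743_13 ++ (j9_743_14 ++ (j9_743_15 ++ (j9_743_16 ++ (j9_743_17 ++ (j9_743_18 ++ (j9_743_19 ++ []))))))))))))))))))))
  (jobs_append t9_743_0 <| jobs_append t9_743_1 <| jobs_append t9_743_2 <| jobs_append t9_743_3 <| jobs_append t9_743_4 <| jobs_append t9_743_5 <| jobs_append t9_743_6 <| jobs_append t9_743_7 <| jobs_append t9_743_8 <| jobs_append t9_743_9 <| jobs_append t9_743_10 <| jobs_append t9_743_11 <| jobs_append t9_743_12 <| jobs_append t9_743_13 <| jobs_append t9_743_14 <| jobs_append t9_743_15 <| jobs_append t9_743_16 <| jobs_append t9_743_17 <| jobs_append t9_743_18 <| jobs_append t9_743_19 <| List.forall_mem_nil _) (by decide +kernel)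

end Cfsg.Agent.FS.N.Sw
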