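import Cfsg.Agent.FS.N.Sw.Seg
import Cfsg.Agent.FS.N.G.S9
import Cfsg.Agent.FS.N.G.L.L30
import Cfsg.Agent.FS.N.G.L.L31

/-! The filter on the pairs for the order 512, part 74 (generated; helper52, project FS) -/

set_option autoImplicit false
set_option maxRecDepth 100000
set_option Elab.async false

namespace Cfsg.Agent.FS.N.Sw

open G

noncomputable def j9_744_0 : List Job := [
  ⟨63, 0x5108a46239309a4e27d00824221920924a25c84462513c804424134402212098502a160bc1e0d058240e0501, 0, 32, 0x0, []⟩]

theorem t9_744_0 : jobs 8 S9 b8_744 j9_744_0 = true := by decide +kernel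

noncomputable def j9_744_1 : List Job := [
  ⟨62, 0x601028241a110a8643a21128a45a311a8e47d108a46239309a4e27d00824221920924a25c84462513c804424134402212098502a160bc1e0d058240e0501, 0, 32, 0x0, []⟩]

theorem t9_744_1 : jobs 8 S9 b8_744 j9_744_1 = true := by decide +kernel

noncomputable def j9_744_2 : List Job := [
  ⟨61, 0x548a6542a960b25e2fd40a2562b968b65c2ec804222118904a2613c402212098502a160bc1e0d058240e0501, 0, 32, 0x0, []⟩]

theorem t9_744_2 : jobs 8 S9 b8_744 j9_744_2 = true := by decide +kernel

noncomputable def j9_744_3 : List Job := [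
  ⟨60, 0x601028241a110a8643a21128a45a311a8e47d48a6542a960b25e2fd40a2562b968b65c2ec804222118904a2613c402212098502a160bc1e0d058240e0501, 0, 32, 0x0, []⟩]

theorem t9_744_3 : jobs 8 S9 b8_744 j9_744_3 = true := by decide +kernel

noncomputable def j9_744_4 : List Job := [
  ⟨59, 0x5108a46239309a4e27d00824221920924a25c804222118904a2613c402212098502a160bc1e0d058240e0501, 0, 32, 0x0, []⟩]

theorem t9_744_4 : jobs 8 S9 b8_744 j9_744_4 = true := by decide +kernel

noncomputable def j9_744_5 : List Job := [
  ⟨58, 0x601028241a110a8643a21128a45a311a8e47d108a46239309a4e27d00824221920924a25c804222118904a2613c402212098502a160bc1e0d058240e0501, 0, 32, 0x0, []⟩]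

theorem t9_744_5 : jobs 8 S9 b8_744 j9_744_5 = true := by decide +kernel

noncomputable def j9_744_6 : List Job := [
  ⟨57, 0x548a6542a960b25e2fd40a2562b968b65c2ec84462513c804424134402212098502a160bc1e0d058240e0501, 0, 32, 0x0, []⟩]

theorem t9_744_6 : jobs 8 S9 b8_744 j9_744_6 = true := by decide +kernel

noncomputable def j9_744_7 : List Job := [
  ⟨56, 0x601028241a110a8643a21128a45a311a8e47d48a6542a960b25e2fd40a2562b968b65c2ec84462513c804424134402212098502a160bc1e0d058240e0501, 0, 32, 0x0, []⟩]

theorem t9_744_7 : jobs 8 S9 b8_744 j9_744_7 = true := by decide +kernel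

noncomputable def j9_744_8 : List Job := [
  ⟨55, 0x5108a46239309a4e27d00824221920924a25c84462513c804424134402212098502a160bc1e0d058240e0501, 0, 32, 0x0, []⟩]

theorem t9_744_8 : jobs 8 S9 b8_744 j9_744_8 = true := by decide +kernel

noncomputable def j9_744_9 : List Job := [
  ⟨54, 0x601028241a110a8643a21128a45a311a8e47d108a46239309a4e27d00824221920924a25c84462513c804424134402212098502a160bc1e0d058240e0501, 0, 32, 0x0, []⟩]

theorem t9_744_9 : jobs 8 S9 b8_744 j9_744_9 = true := by decide +kernel

noncomputable def j9_744_10 : List Job := [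
  ⟨53, 0x4804222118904a2613c4424140bc4026150b41e0d058240e0501, 0, 32, 0x0, []⟩]

theorem t9_744_10 : jobs 8 S9 b8_744 j9_744_10 = true := by decide +kernel

noncomputable def j9_744_11 : List Job := [
  ⟨52, 0x601028241a110a8643a21128a45a311a8e47c804222118904a2613c4424140bc4026150b41e0d058240e0501, 0, 32, 0x0, []⟩]

theorem t9_744_11 : jobs 8 S9 b8_744 j9_744_11 = true := by decide +kernel

noncomputable def j9_744_12 : List Job := [
  ⟨51, 0x548a6542a960b25e2fd40a2562b968b65c2ed108a46239309a4e27d00824221920924a25c804222118904a2613c4424140bc4026150b41e0d058240e0501, 0, 32, 0x0, []⟩]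

theorem t9_744_12 : jobs 8 S9 b8_744 j9_744_12 = true := by decide +kernel

noncomputable def j9_744_13 : List Job := [
  ⟨50, 0x601028241a110a8643a21128a45a311a8e47d48a6542a960b25e2fd40a2562b968b65c2ed108a46239309a4e27d00824221920924a25c804222118904a2613c4424140bc4026150b41e0d058240e0501, 0, 32, 0x0, []⟩]

theorem t9_744_13 : jobs 8 S9 b8_744 j9_744_13 = true := by decide +kernel

noncomputable def j9_744_14 : List Job := [
  ⟨49, 0x484462513c8044241344424150b44026140bc1e0d058240e0501, 0, 32, 0x0, []⟩]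

theorem t9_744_14 : jobs 8 S9 b8_744 j9_744_14 = true := by decide +kernel

noncomputable def j9_744_15 : List Job := [
  ⟨48, 0x601028241a110a8643a21128a45a311a8e47c84462513c8044241344424150b44026140bc1e0d058240e0501, 0, 32, 0x0, []⟩]

theorem t9_744_15 : jobs 8 S9 b8_744 j9_744_15 = true := by decide +kernel

noncomputable def j9_744_16 : List Job := [
  ⟨47, 0x548a6542a960b25e2fd40a2562b968b65c2ed108a46239309a4e27d00824221920924a25c84462513c8044241344424150b44026140bc1e0d058240e0501, 0, 32, 0x0, []⟩]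

theorem t9_744_16 : jobs 8 S9 b8_744 j9_744_16 = true := by decide +kernel

noncomputable def j9_744_17 : List Job := [
  ⟨46, 0x601028241a110a8643a21128a45a311a8e47d48a6542a960b25e2fd40a2562b968b65c2ed108a46239309a4e27d00824221920924a25c84462513c8044241344424150b44026140bc1e0d058240e0501, 0, 38, 0x4201004601, []⟩]

theorem t9_744_17 : jobs 8 S9 b8_744 j9_744_17 = true := by decide +kernel

noncomputable def j9_744_18 : List Job := [
  ⟨45, 0x4804222118904a2613c4426140b44024150bc1e0d058240e0501, 0, 32, 0x0, []⟩]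

theorem t9_744_18 : jobs 8 S9 b8_744 j9_744_18 = true := by decide +kernel

noncomputable def j9_744_19 : List Job := [
  ⟨44, 0x601028241a110a8643a21128a45a311a8e47c804222118904a2613c4426140b44024150bc1e0d058240e0501, 0, 32, 0x0, []⟩]

theorem t9_744_19 : jobs 8 S9 b8_744 j9_744_19 = true := by decide +kernel

noncomputable def j9_744_20 : List Job := [
  ⟨43, 0x548a6542a960b25e2fd40a2562b968b65c2ed108a46239309a4e27d00824221920924a25c804222118904a2613c4426140b44024150bc1e0d058240e0501, 0, 32, 0x0, []⟩]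

theorem t9_744_20 : jobs 8 S9 b8_744 j9_744_20 = true := by decide +kernel

noncomputable def j9_744_21 : List Job := [
  ⟨42, 0x601028241a110a8643a21128a45a311a8e47d48a6542a960b25e2fd40a2562b968b65c2ed108a46239309a4e27d00824221920924a25c804222118904a2613c4426140b44024150bc1e0d058240e0501, 0, 32, 0x0, []⟩]

theorem t9_744_21 : jobs 8 S9 b8_744 j9_744_21 = true := by decide +kernel

noncomputable def j9_744_22 : List Job := [
  ⟨41, 0x484462513c8044241344426150bc4024140b41e0d058240e0501, 0, 32, 0x0, []⟩]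

theorem t9_744_22 : jobs 8 S9 b8_744 j9_744_22 = true := by decide +kernel

noncomputable def j9_744_23 : List Job := [
  ⟨40, 0x601028241a110a8643a21128a45a311a8e47c84462513c8044241344426150bc4024140b41e0d058240e0501, 0, 32, 0x0, []⟩]

theorem t9_744_23 : jobs 8 S9 b8_744 j9_744_23 = true := by decide +kernel

noncomputable def j9_744_24 : List Job := [
  ⟨39, 0x548a6542a960b25e2fd40a2562b968b65c2ed108a46239309a4e27d00824221920924a25c84462513c8044241344426150bc4024140b41e0d058240e0501, 0, 32, 0x0, []⟩]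

theorem t9_744_24 : jobs 8 S9 b8_744 j9_744_24 = true := by decide +kernel

noncomputable def j9_744_25 : List Job := [
  ⟨38, 0x601028241a110a8643a21128a45a311a8e47d48a6542a960b25e2fd40a2562b968b65c2ed108a46239309a4e27d00824221920924a25c84462513c8044241344426150bc4024140b41e0d058240e0501, 0, 72, 0x8201008601, []⟩]

theorem t9_744_25 : jobs 8 S9 b8_744 j9_744_25 = true := by decide +kernel

noncomputable def j9_744_26 : List Job := [
  ⟨30, 0x484462815480442915c4424180dc4026190d42e15098440e0501, 0, 2, 0x0, []⟩]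

theorem t9_744_26 : jobs 8 S9 b8_744 j9_744_26 = true := by decide +kernel

noncomputable def j9_744_27 : List Job := [
  ⟨26, 0x484462815480442915c4426180d44024190dc2e15098440e0501, 0, 2, 0x0, []⟩]

theorem t9_744_27 : jobs 8 S9 b8_744 j9_744_27 = true := by decide +kernel

noncomputable def j9_744_28 : List Job := [
  ⟨24, 0x484462915c8044281544426190dc4024180d42e15098440e0501, 0, 14, 0x0, []⟩]

theorem t9_744_28 : jobs 8 S9 b8_744 j9_744_28 = true := by decide +kernel

noncomputable def j9_744_29 : List Job := [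
  ⟨11, 0x548a6542a960b25e2fd40a2562b968b65c2ed20924a259309a4e27d008242219108a4623c84462815480442915c4424180dc4026190d42e15098440e0501, 0, 3, 0x0, []⟩]

theorem t9_744_29 : jobs 8 S9 b8_744 j9_744_29 = true := by decide +kernel

noncomputable def j9_744_30 : List Job := [
  ⟨10, 0x548a6542a960b25e2fd40a2562b968b65c2ed20924a259309a4e27d008242219108a4623c84462915c8044281544424190d44026180dc2e15098440e0501, 0, 2, 0x0, []⟩]

theorem t9_744_30 : jobs 8 S9 b8_744 j9_744_30 = true := by decide +kernel

noncomputable def j9_744_31 : List Job := [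
  ⟨5, 0x548a6542a960b25e2fd40a2562b968b65c2ed20924a259309a4e27d008242219108a4623c84462815480442915c4426180d44024190dc2e15098440e0501, 0, 2, 0x0, []⟩]

theorem t9_744_31 : jobs 8 S9 b8_744 j9_744_31 = true := by decide +kernel

noncomputable def j9_744_32 : List Job := [
  ⟨4, 0x548a6542a960b25e2fd40a2562b968b65c2ed20924a259309a4e27d008242219108a4623c84462915c8044281544426190dc4024180d42e15098440e0501, 0, 20, 0x0, []⟩]

theorem t9_744_32 : jobs 8 S9 b8_744 j9_744_32 = true := by decide +kernel

noncomputable def j9_744_33 : List Job := [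
  ⟨3, 0x68142a653aa956ac56e01028442a21128c46d48a6542a960b25e2fd00824422920924c26c381f0d864080701, 0, 68, 0x0, []⟩]

theorem t9_744_33 : jobs 8 S9 b8_744 j9_744_33 = true := by decide +kernel

noncomputable def j9_744_34 : List Job := [
  ⟨2, 0x68946a452aa152ae57e01028442a21128c46d48a6542a960b25e2fd00824422920924c26c381f0d864080701, 0, 60, 0x0, []⟩]

theorem t9_744_34 : jobs 8 S9 b8_744 j9_744_34 = true := by decide +kernel

noncomputable def j9_744_35 : List Job := [
  ⟨1, 0x68142a653aa956ac56e01028442a21128c46d40a2562b968b65c2ed00824422920924c26c60321a0d8703a1e0fc402212098502a160bc381f0d864080701, 0, 104, 0x0, []⟩]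

theorem t9_744_35 : jobs 8 S9 b8_744 j9_744_35 = true := by decide +kernel

noncomputable def j9_744_36 : List Job := [
  ⟨0, 0x68946a452aa152ae57e01028442a21128c46d40a2562b968b65c2ed00824422920924c26c60321a0d8703a1e0fc402212098502a160bc381f0d864080701, 0, 100, 0x0, []⟩]

theorem t9_744_36 : jobs 8 S9 b8_744 j9_744_36 = true := by decide +kernel

theorem d9_744 : Dn 8 S9 b8_744 := dn_of (Js := j9_744_0 ++ (j9_744_1 ++ (j9_744_2 ++ (j9_744_3 ++ (j9_744_4 ++ (j9_744_5 ++ (j9_744_6 ++ (j9_744_7 ++ (j9_744_8 ++ (j9_744_9 ++ (j9_744_10 ++ (j9_744_11 ++ (j9_744_12 ++ (j9_744_13 ++ (j9_744_14 ++ (j9_744_15 ++ (j9_744_16 ++ (j9_744_17 ++ (j9_744_18 ++ (j9_744_19 ++ (j9_744_20 ++ (j9_744_21 ++ (j9_744_22 ++ (j9_744_23 ++ (j9_744_24 ++ (j9_744_25 ++ (j9_744_26 ++ (j9_744_27 ++ (j9_744_28 ++ (j9_744_29 ++ (j9_744_30 ++ (j9_744_31 ++ (j9_744_32 ++ (j9_744_33 ++ (j9_744_34 ++ (j9_744_35 ++ (j9_744_36 ++ [])))))))))))))))))))))))))))))))))))))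
  (jobs_append t9_744_0 <| jobs_append t9_744_1 <| jobs_append t9_744_2 <| jobs_append t9_744_3 <| jobs_append t9_744_4 <| jobs_append t9_744_5 <| jobs_append t9_744_6 <| jobs_append t9_744_7 <| jobs_append t9_744_8 <| jobs_append t9_744_9 <| jobs_append t9_744_10 <| jobs_append t9_744_11 <| jobs_append t9_744_12 <| jobs_append t9_744_13 <| jobs_append t9_744_14 <| jobs_append t9_744_15 <| jobs_append t9_744_16 <| jobs_append t9_744_17 <| jobs_append t9_744_18 <| jobs_append t9_744_19 <| jobs_append t9_744_20 <| jobs_append t9_744_21 <| jobs_append t9_744_22 <| jobs_append t9_744_23 <| jobs_append t9_744_24 <| jobs_append t9_744_25 <| jobs_append t9_744_26 <| jobs_append t9_744_27 <| jobs_append t9_744_28 <| jobs_append t9_744_29 <| jobs_append t9_744_30 <| jobs_append t9_744_31 <| jobs_append t9_744_32 <| jobs_append t9_744_33 <| jobs_append t9_744_34 <| jobs_append t9_744_35 <| jobs_append t9_744_36 <| List.forall_mem_nil _) (by decide +kernel)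

noncomputable def j9_745_0 : List Job := [
  ⟨56, 0x601028241a110a8643a21128a45a311a8e47c84462815480442915c4424180dc4026190d42e15098440e0501, 0, 2, 0x201, []⟩]

theorem t9_745_0 : jobs 8 S9 b8_745 j9_745_0 = true := by decide +kernel

noncomputable def j9_745_1 : List Job := [
  ⟨46, 0x601028241a110a8643a21128a45a311a8e47c84462915c8044281544426190dc4024180d42e15098440e0501, 0, 32, 0x0, []⟩]

theorem t9_745_1 : jobs 8 S9 b8_745 j9_745_1 = true := by decide +kernel

noncomputable def j9_745_2 : List Job := [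
  ⟨45, 0x5108a46239309a4e27c804222118904a2613c402212098502a160bc381f0c06c0e0501, 0, 128, 0x0, []⟩]

theorem t9_745_2 : jobs 8 S9 b8_745 j9_745_2 = true := by decide +kernel

noncomputable def j9_745_3 : List Job := [
  ⟨44, 0x601028241a110a8643a21128a45a311a8e47d108a46239309a4e27c804222118904a2613c402212098502a160bc381f0c06c0e0501, 0, 128, 0x0, []⟩]

theorem t9_745_3 : jobs 8 S9 b8_745 j9_745_3 = true := by decide +kernel

noncomputable def j9_745_4 : List Job := [
  ⟨43, 0x548a6542a960b25e2fd40a2562b968b65c2ed00824221920924a25c804222118904a2613c402212098502a160bc381f0c06c0e0501, 0, 128, 0x0, []⟩]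

theorem t9_745_4 : jobs 8 S9 b8_745 j9_745_4 = true := by decide +kernel

noncomputable def j9_745_5 : List Job := [
  ⟨42, 0x601028241a110a8643a21128a45a311a8e47d48a6542a960b25e2fd40a2562b968b65c2ed00824221920924a25c804222118904a2613c402212098502a160bc381f0c06c0e0501, 0, 128, 0x0, []⟩]

theorem t9_745_5 : jobs 8 S9 b8_745 j9_745_5 = true := by decide +kernel

noncomputable def j9_745_6 : List Job := [
  ⟨41, 0x5108a46239309a4e27c804222118904a2613c402212098502a160bc381f0c06c0e0501, 0, 128, 0x0, []⟩]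

theorem t9_745_6 : jobs 8 S9 b8_745 j9_745_6 = true := by decide +kernel

noncomputable def j9_745_7 : List Job := [
  ⟨40, 0x601028241a110a8643a21128a45a311a8e47d108a46239309a4e27c804222118904a2613c402212098502a160bc381f0c06c0e0501, 0, 128, 0x0, []⟩]

theorem t9_745_7 : jobs 8 S9 b8_745 j9_745_7 = true := by decide +kernel

noncomputable def j9_745_8 : List Job := [
  ⟨39, 0x548a6542a960b25e2fd40a2562b968b65c2ed00824221920924a25c804222118904a2613c402212098502a160bc381f0c06c0e0501, 0, 128, 0x0, []⟩]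

theorem t9_745_8 : jobs 8 S9 b8_745 j9_745_8 = true := by decide +kernel

noncomputable def j9_745_9 : List Job := [
  ⟨38, 0x601028241a110a8643a21128a45a311a8e47d48a6542a960b25e2fd40a2562b968b65c2ed00824221920924a25c804222118904a2613c402212098502a160bc381f0c06c0e0501, 0, 128, 0x0, []⟩]

theorem t9_745_9 : jobs 8 S9 b8_745 j9_745_9 = true := by decide +kernel

noncomputable def j9_745_10 : List Job := [
  ⟨37, 0x548a6542a960b25e2fd40a2562b968b65c2ed108a46239309a4e27c2e15098440e0501, 0, 32, 0x0, []⟩]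

theorem t9_745_10 : jobs 8 S9 b8_745 j9_745_10 = true := by decide +kernel

noncomputable def j9_745_11 : List Job := [
  ⟨36, 0x601028241a110a8643a21128a45a311a8e47d48a6542a960b25e2fd40a2562b968b65c2ed108a46239309a4e27c2e15098440e0501, 0, 32, 0x0, []⟩]

theorem t9_745_11 : jobs 8 S9 b8_745 j9_745_11 = true := by decide +kernel

noncomputable def j9_745_12 : List Job := [
  ⟨35, 0x504864925d0084482542e15098440e0501, 0, 32, 0x0, []⟩]

theorem t9_745_12 : jobs 8 S9 b8_745 j9_745_12 = true := by decide +kernel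

noncomputable def j9_745_13 : List Job := [
  ⟨34, 0x601028241a110a8643a21128a45a311a8e47d04864925d0084482542e15098440e0501, 0, 32, 0x0, []⟩]

theorem t9_745_13 : jobs 8 S9 b8_745 j9_745_13 = true := by decide +kernel

noncomputable def j9_745_14 : List Job := [
  ⟨33, 0x548a6542a960b25e2fd40a2562b968b65c2ed108a46239309a4e27c2e15098440e0501, 0, 32, 0x0, []⟩]

theorem t9_745_14 : jobs 8 S9 b8_745 j9_745_14 = true := by decide +kernel

noncomputable def j9_745_15 : List Job := [
  ⟨32, 0x601028241a110a8643a21128a45a311a8e47d48a6542a960b25e2fd40a2562b968b65c2ed108a46239309a4e27c2e15098440e0501, 0, 32, 0x0, []⟩]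

theorem t9_745_15 : jobs 8 S9 b8_745 j9_745_15 = true := by decide +kernel

noncomputable def j9_745_16 : List Job := [
  ⟨31, 0x504864925d0084482542e15098440e0501, 0, 32, 0x0, []⟩]

theorem t9_745_16 : jobs 8 S9 b8_745 j9_745_16 = true := by decide +kernel

noncomputable def j9_745_17 : List Job := [
  ⟨30, 0x601028241a110a8643a21128a45a311a8e47d04864925d0084482542e15098440e0501, 0, 32, 0x0, []⟩]

theorem t9_745_17 : jobs 8 S9 b8_745 j9_745_17 = true := by decide +kernel

noncomputable def j9_745_18 : List Job := [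
  ⟨29, 0x548a6542a960b25e2fd40a2562b968b65c2ed108a46239309a4e27ca0522a158b05a2e17c804222118904a2613c2e15098440e0501, 0, 32, 0x0, []⟩]

theorem t9_745_18 : jobs 8 S9 b8_745 j9_745_18 = true := by decide +kernel

noncomputable def j9_745_19 : List Job := [
  ⟨28, 0x601028241a110a8643a21128a45a311a8e47d48a6542a960b25e2fd40a2562b968b65c2ed108a46239309a4e27ca0522a158b05a2e17c804222118904a2613c2e15098440e0501, 0, 32, 0x0, []⟩]

theorem t9_745_19 : jobs 8 S9 b8_745 j9_745_19 = true := by decide +kernel

noncomputable def j9_745_20 : List Job := [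
  ⟨27, 0x504864925d008448254a0522a158b05a2e17c804222118904a2613c2e15098440e0501, 0, 32, 0x0, []⟩]

theorem t9_745_20 : jobs 8 S9 b8_745 j9_745_20 = true := by decide +kernel

noncomputable def j9_745_21 : List Job := [
  ⟨26, 0x601028241a110a8643a21128a45a311a8e47d04864925d008448254a0522a158b05a2e17c804222118904a2613c2e15098440e0501, 0, 32, 0x0, []⟩]

theorem t9_745_21 : jobs 8 S9 b8_745 j9_745_21 = true := by decide +kernel

noncomputable def j9_745_22 : List Job := [
  ⟨25, 0x548a6542a960b25e2fd40a2562b968b65c2ed108a46239309a4e27ca0522a158b05a2e17c804222118904a2613c2e15098440e0501, 0, 32, 0x0, []⟩]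

theorem t9_745_22 : jobs 8 S9 b8_745 j9_745_22 = true := by decide +kernel

noncomputable def j9_745_23 : List Job := [
  ⟨24, 0x601028241a110a8643a21128a45a311a8e47d48a6542a960b25e2fd40a2562b968b65c2ed108a46239309a4e27ca0522a158b05a2e17c804222118904a2613c2e15098440e0501, 0, 32, 0x0, []⟩]

theorem t9_745_23 : jobs 8 S9 b8_745 j9_745_23 = true := by decide +kernel

noncomputable def j9_745_24 : List Job := [
  ⟨23, 0x504864925d008448254a0522a158b05a2e17c804222118904a2613c2e15098440e0501, 0, 32, 0x0, []⟩]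

theorem t9_745_24 : jobs 8 S9 b8_745 j9_745_24 = true := by decide +kernel

noncomputable def j9_745_25 : List Job := [
  ⟨22, 0x601028241a110a8643a21128a45a311a8e47d04864925d008448254a0522a158b05a2e17c804222118904a2613c2e15098440e0501, 0, 32, 0x0, []⟩]

theorem t9_745_25 : jobs 8 S9 b8_745 j9_745_25 = true := by decide +kernel

noncomputable def j9_745_26 : List Job := [
  ⟨21, 0x5108a46239309a4e27c60321a0d8703a1e0fc402212098502a160bc2e15098440e0501, 0, 32, 0x0, []⟩]

theorem t9_745_26 : jobs 8 S9 b8_745 j9_745_26 = true := by decide +kernel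

noncomputable def j9_745_27 : List Job := [
  ⟨20, 0x601028241a110a8643a21128a45a311a8e47d108a46239309a4e27c60321a0d8703a1e0fc402212098502a160bc2e15098440e0501, 0, 32, 0x0, []⟩]

theorem t9_745_27 : jobs 8 S9 b8_745 j9_745_27 = true := by decide +kernel

noncomputable def j9_745_28 : List Job := [
  ⟨19, 0x548a6542a960b25e2fd40a2562b968b65c2ed04864925d00844825460321a0d8703a1e0fc402212098502a160bc2e15098440e0501, 0, 32, 0x0, []⟩]

theorem t9_745_28 : jobs 8 S9 b8_745 j9_745_28 = true := by decide +kernel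

noncomputable def j9_745_29 : List Job := [
  ⟨18, 0x601028241a110a8643a21128a45a311a8e47d48a6542a960b25e2fd40a2562b968b65c2ed04864925d00844825460321a0d8703a1e0fc402212098502a160bc2e15098440e0501, 0, 32, 0x0, []⟩]

theorem t9_745_29 : jobs 8 S9 b8_745 j9_745_29 = true := by decide +kernel

noncomputable def j9_745_30 : List Job := [
  ⟨17, 0x5108a46239309a4e27c60321a0d8703a1e0fc402212098502a160bc2e15098440e0501, 0, 32, 0x0, []⟩]

theorem t9_745_30 : jobs 8 S9 b8_745 j9_745_30 = true := by decide +kernel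

noncomputable def j9_745_31 : List Job := [
  ⟨16, 0x601028241a110a8643a21128a45a311a8e47d108a46239309a4e27c60321a0d8703a1e0fc402212098502a160bc2e15098440e0501, 0, 32, 0x0, []⟩]

theorem t9_745_31 : jobs 8 S9 b8_745 j9_745_31 = true := by decide +kernel

noncomputable def j9_745_32 : List Job := [
  ⟨15, 0x548a6542a960b25e2fd40a2562b968b65c2ed04864925d00844825460321a0d8703a1e0fc402212098502a160bc2e15098440e0501, 0, 32, 0x0, []⟩]

theorem t9_745_32 : jobs 8 S9 b8_745 j9_745_32 = true := by decide +kernel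

noncomputable def j9_745_33 : List Job := [
  ⟨14, 0x601028241a110a8643a21128a45a311a8e47d48a6542a960b25e2fd40a2562b968b65c2ed04864925d00844825460321a0d8703a1e0fc402212098502a160bc2e15098440e0501, 0, 32, 0x0, []⟩]

theorem t9_745_33 : jobs 8 S9 b8_745 j9_745_33 = true := by decide +kernel

noncomputable def j9_745_34 : List Job := [
  ⟨13, 0x5108a46239309a4e27ca0522a158b05a2e17c804222118904a2613c60321a0d8703a1e0fc402212098502a160bc2e15098440e0501, 0, 32, 0x0, []⟩]

theorem t9_745_34 : jobs 8 S9 b8_745 j9_745_34 = true := by decide +kernel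

noncomputable def j9_745_35 : List Job := [
  ⟨12, 0x601028241a110a8643a21128a45a311a8e47d108a46239309a4e27ca0522a158b05a2e17c804222118904a2613c60321a0d8703a1e0fc402212098502a160bc2e15098440e0501, 0, 32, 0x0, []⟩]

theorem t9_745_35 : jobs 8 S9 b8_745 j9_745_35 = true := by decide +kernel

noncomputable def j9_745_36 : List Job := [
  ⟨11, 0x548a6542a960b25e2fd40a2562b968b65c2ed04864925d008448254a0522a158b05a2e17c804222118904a2613c60321a0d8703a1e0fc402212098502a160bc2e15098440e0501, 0, 32, 0x0, []⟩]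

theorem t9_745_36 : jobs 8 S9 b8_745 j9_745_36 = true := by decide +kernel

noncomputable def j9_745_37 : List Job := [
  ⟨10, 0x601028241a110a8643a21128a45a311a8e47d48a6542a960b25e2fd40a2562b968b65c2ed04864925d008448254a0522a158b05a2e17c804222118904a2613c60321a0d8703a1e0fc402212098502a160bc2e15098440e0501, 0, 72, 0x8201008601, []⟩]

theorem t9_745_37 : jobs 8 S9 b8_745 j9_745_37 = true := by decide +kernel

noncomputable def j9_745_38 : List Job := [
  ⟨9, 0x5108a46239309a4e27ca0522a158b05a2e17c804222118904a2613c60321a0d8703a1e0fc402212098502a160bc2e15098440e0501, 0, 32, 0x0, []⟩]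

theorem t9_745_38 : jobs 8 S9 b8_745 j9_745_38 = true := by decide +kernel

noncomputable def j9_745_39 : List Job := [
  ⟨8, 0x601028241a110a8643a21128a45a311a8e47d108a46239309a4e27ca0522a158b05a2e17c804222118904a2613c60321a0d8703a1e0fc402212098502a160bc2e15098440e0501, 0, 32, 0x0, []⟩]

theorem t9_745_39 : jobs 8 S9 b8_745 j9_745_39 = true := by decide +kernel

noncomputable def j9_745_40 : List Job := [
  ⟨7, 0x548a6542a960b25e2fd40a2562b968b65c2ed04864925d008448254a0522a158b05a2e17c804222118904a2613c60321a0d8703a1e0fc402212098502a160bc2e15098440e0501, 0, 32, 0x0, []⟩]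

theorem t9_745_40 : jobs 8 S9 b8_745 j9_745_40 = true := by decide +kernel

noncomputable def j9_745_41 : List Job := [
  ⟨6, 0x601028241a110a8643a21128a45a311a8e47d48a6542a960b25e2fd40a2562b968b65c2ed04864925d008448254a0522a158b05a2e17c804222118904a2613c60321a0d8703a1e0fc402212098502a160bc2e15098440e0501, 0, 40, 0x4201004a01, []⟩]

theorem t9_745_41 : jobs 8 S9 b8_745 j9_745_41 = true := by decide +kernel

noncomputable def j9_745_42 : List Job := [
  ⟨5, 0x548a6542a960b25e2fd40a2562b968b65c2ec804222118904a2613c402212098502a160bc1e0d058240e0501, 0, 32, 0x0, []⟩]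

theorem t9_745_42 : jobs 8 S9 b8_745 j9_745_42 = true := by decide +kernel

noncomputable def j9_745_43 : List Job := [
  ⟨4, 0x601028241a110a8643a21128a45a311a8e47d48a6542a960b25e2fd40a2562b968b65c2ec804222118904a2613c402212098502a160bc1e0d058240e0501, 0, 32, 0x0, []⟩]

theorem t9_745_43 : jobs 8 S9 b8_745 j9_745_43 = true := by decide +kernel

noncomputable def j9_745_44 : List Job := [
  ⟨3, 0x5108a46239309a4e27d00824221920924a25c804222118904a2613c402212098502a160bc1e0d058240e0501, 0, 32, 0x0, []⟩]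

theorem t9_745_44 : jobs 8 S9 b8_745 j9_745_44 = true := by decide +kernel

noncomputable def j9_745_45 : List Job := [
  ⟨2, 0x601028241a110a8643a21128a45a311a8e47d108a46239309a4e27d00824221920924a25c804222118904a2613c402212098502a160bc1e0d058240e0501, 0, 32, 0x0, []⟩]

theorem t9_745_45 : jobs 8 S9 b8_745 j9_745_45 = true := by decide +kernel

noncomputable def j9_745_46 : List Job := [
  ⟨1, 0x548a6542a960b25e2fd40a2562b968b65c2ec84462513c804424134402212098502a160bc1e0d058240e0501, 0, 32, 0x0, []⟩]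

theorem t9_745_46 : jobs 8 S9 b8_745 j9_745_46 = true := by decide +kernel

noncomputable def j9_745_47 : List Job := [
  ⟨0, 0x601028241a110a8643a21128a45a311a8e47d48a6542a960b25e2fd40a2562b968b65c2ec84462513c804424134402212098502a160bc1e0d058240e0501, 0, 32, 0x0, []⟩]

theorem t9_745_47 : jobs 8 S9 b8_745 j9_745_47 = true := by decide +kernel

theorem d9_745 : Dn 8 S9 b8_745 := dn_of (Js := j9_745_0 ++ (j9_745_1 ++ (j9_745_2 ++ (j9_745_3 ++ (j9_745_4 ++ (j9_745_5 ++ (j9_745_6 ++ (j9_745_7 ++ (j9_745_8 ++ (j9_745_9 ++ (j9_745_10 ++ (j9_745_11 ++ (j9_745_12 ++ (j9_745_13 ++ (j9_745_14 ++ (j9_745_15 ++ (j9_745_16 ++ (j9_745_17 ++ (j9_745_18 ++ (j9_745_19 ++ (j9_745_20 ++ (j9_745_21 ++ (j9_745_22 ++ (j9_745_23 ++ (j9_745_24 ++ (j9_745_25 ++ (j9_745_26 ++ (j9_745_27 ++ (j9_745_28 ++ (j9_745_29 ++ (j9_745_30 ++ (j9_745_31 ++ (j9_745_32 ++ (j9_745_33 ++ (j9_745_34 ++ (j9_745_35 ++ (j9_745_36 ++ (j9_745_37 ++ (j9_745_38 ++ (j9_745_39 ++ (j9_745_40 ++ (j9_745_41 ++ (j9_745_42 ++ (j9_745_43 ++ (j9_745_44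 ++ (j9_745_45 ++ (j9_745_46 ++ (j9_745_47 ++ []))))))))))))))))))))))))))))))))))))))))))))))))
  (jobs_append t9_745_0 <| jobs_append t9_745_1 <| jobs_append t9_745_2 <| jobs_append t9_745_3 <| jobs_append t9_745_4 <| jobs_append t9_745_5 <| jobs_append t9_745_6 <| jobs_append t9_745_7 <| jobs_append t9_745_8 <| jobs_append t9_745_9 <| jobs_append t9_745_10 <| jobs_append t9_745_11 <| jobs_append t9_745_12 <| jobs_append t9_745_13 <| jobs_append t9_745_14 <| jobs_append t9_745_15 <| jobs_append t9_745_16 <| jobs_append t9_745_17 <| jobs_append t9_745_18 <| jobs_append t9_745_19 <| jobs_append t9_745_20 <| jobs_append t9_745_21 <| jobs_append t9_745_22 <| jobs_append t9_745_23 <| jobs_append t9_745_24 <| jobs_append t9_745_25 <| jobs_append t9_745_26 <| jobs_append t9_745_27 <| jobs_append t9_745_28 <| jobs_append t9_745_29 <| jobs_append t9_745_30 <| jobs_append t9_745_31 <| jobs_append t9_745_32 <| jobs_append t9_745_33 <| jobs_append t9_745_34 <| jobs_append t9_745_35 <| jobs_append t9_745_36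 <| jobs_append t9_745_37 <| jobs_append t9_745_38 <| jobs_append t9_745_39 <| jobs_append t9_745_40 <| jobs_append t9_745_41 <| jobs_append t9_745_42 <| jobs_append t9_745_43 <| jobs_append t9_745_44 <| jobs_append t9_745_45 <| jobs_append t9_745_46 <| jobs_append t9_745_47 <| List.forall_mem_nil _) (by decide +kernel)

noncomputable def j9_746_0 : List Job := [
  ⟨62, 0x621128a45a311a8e47e01028241a110a8643cc466391dcc064381d44426190dc4024180d42e15098440e0501, 0, 32, 0x0, []⟩]

theorem t9_746_0 : jobs 8 S9 b8_746 j9_746_0 = true := by decide +kernel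

noncomputable def j9_746_1 : List Job := [
  ⟨61, 0x601028241a110a8643d44ac5b2e540ae5a2ecd06a361b8f07a3e1fc301b0a05c180f01, 0, 84, 0x203000403000603000803000a03000c03000e03001003001203001403001603001803001a03001c03001e03002003008203008602008c02009003009402009802009c0300a00300a60300a803, []⟩]

theorem t9_746_1 : jobs 8 S9 b8_746 j9_746_1 = true := by decide +kernel

noncomputable def j9_746_2 : List Job := [
  ⟨60, 0x601028241a110a8643d48a6542a960b25e2fcc06232198e0723a1dc502a160b8703a1e0fc40221209860321a0dc301b0a05c180f01, 0, 160, 0x203000403000603000803000a03000c03000e03001003001203001403001603001803001a03001c03001e0300200300c20200c80200da0200e00200e20200e80200fa02010002010202010802011a02012002012202012802013a02014002, []⟩]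

theorem t9_746_2 : jobs 8 S9 b8_746 j9_746_2 = true := by decide +kernel

noncomputable def j9_746_3 : List Job := [
  ⟨59, 0x601028241a110a8643d44ac5b2e540ae5a2ed20924a259309a4e27d008242219108a4623cc06232198e0723a1dc502a160b8703a1e0fc40221209860321a0dc301b0a05c180f01, 0, 84, 0x203000403000603000803000a03000c03000e03001003001203001403001603001803001a03001c03001e03002003, []⟩]

theorem t9_746_3 : jobs 8 S9 b8_746 j9_746_3 = true := by decide +kernel

noncomputable def j9_746_4 : List Job := [
  ⟨58, 0x621128a45a311a8e47d20924a259309a4e27cc06232198e0723a1dc40221209860321a0dc381f0c06c0e0501, 0, 84, 0x0, []⟩]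

theorem t9_746_4 : jobs 8 S9 b8_746 j9_746_4 = true := by decide +kernel

noncomputable def j9_746_5 : List Job := [
  ⟨57, 0x601028241a110a8643d48a6542a960b25e2fd40a2562b968b65c2ed008242219108a4623cc06232198e0723a1dc40221209860321a0dc381f0c06c0e0501, 0, 92, 0x0, []⟩]

theorem t9_746_5 : jobs 8 S9 b8_746 j9_746_5 = true := by decide +kernel

noncomputable def j9_746_6 : List Job := [
  ⟨56, 0x621128a45a311a8e47d20924a259309a4e27cc06232198e0723a1dc40221209860321a0dc381f0c06c0e0501, 0, 84, 0x0, []⟩]

theorem t9_746_6 : jobs 8 S9 b8_746 j9_746_6 = true := by decide +kernel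

noncomputable def j9_746_7 : List Job := [
  ⟨55, 0x601028241a110a8643d20924a259309a4e27cc06232198e0723a1dc40221209860321a0dc381f0c06c0e0501, 0, 160, 0x0, []⟩]

theorem t9_746_7 : jobs 8 S9 b8_746 j9_746_7 = true := by decide +kernel

noncomputable def j9_746_8 : List Job := [
  ⟨54, 0x621128a45a311a8e47d48a6542a960b25e2fd40a2562b968b65c2ed008242219108a4623cc06232198e0723a1dc40221209860321a0dc381f0c06c0e0501, 0, 160, 0x0, []⟩]

theorem t9_746_8 : jobs 8 S9 b8_746 j9_746_8 = true := by decide +kernel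

noncomputable def j9_746_9 : List Job := [
  ⟨53, 0x601028241a110a8643d48a6542a960b25e2fd40a2562b968b65c2ed008242219108a4623cc06232198e0723a1dc40221209860321a0dc381f0c06c0e0501, 0, 92, 0x0, []⟩]

theorem t9_746_9 : jobs 8 S9 b8_746 j9_746_9 = true := by decide +kernel

noncomputable def j9_746_10 : List Job := [
  ⟨52, 0x548a6542a960b25e2fd008242219108a4623cd06a361b8f07a3e1fc381f0804c180f01, 0, 160, 0x8202008802008a01009001009201009801009a0200a00200a20200a80200aa0100b00100b20100b80100ba0200c00200c20200c80200da0200e00200e20200e80200fa02010002, []⟩]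

theorem t9_746_10 : jobs 8 S9 b8_746 j9_746_10 = true := by decide +kernel

noncomputable def j9_746_11 : List Job := [
  ⟨51, 0x621128a45a311a8e47e01028241a110a8643d48a6542a960b25e2fd008242219108a4623cd06a361b8f07a3e1fc381f0804c180f01, 0, 160, 0x8202008802008a01009001009201009801009a0200a00200a20200a80200aa0100b00100b20100b80100ba0200c00200c20200c80200da0200e00200e20200e80200fa02010002, []⟩]

theorem t9_746_11 : jobs 8 S9 b8_746 j9_746_11 = true := by decide +kernel

noncomputable def j9_746_12 : List Job := [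
  ⟨50, 0x540a2562b968b65c2ed008242219108a4623cc06232198e0723a1dc502a160b8703a1e0fc40221209860321a0dc381f0804c180f01, 0, 160, 0x8202008802008a01009001009201009801009a0200a00200a20200a80200aa0100b00100b20100b80100ba0200c00200c20200c80200da0200e00200e20200e80200fa02010002, []⟩]

theorem t9_746_12 : jobs 8 S9 b8_746 j9_746_12 = true := by decide +kernel

noncomputable def j9_746_13 : List Job := [
  ⟨49, 0x621128a45a311a8e47e01028241a110a8643d40a2562b968b65c2ed008242219108a4623cc06232198e0723a1dc502a160b8703a1e0fc40221209860321a0dc381f0804c180f01, 0, 160, 0x8202008802008a01009001009201009801009a0200a00200a20200a80200aa0100b00100b20100b80100ba0200c00200c20200c80200da0200e00200e20200e80200fa02010002, []⟩]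

theorem t9_746_13 : jobs 8 S9 b8_746 j9_746_13 = true := by decide +kernel

noncomputable def j9_746_14 : List Job := [
  ⟨48, 0x540a2562b968b65c2ed008242219108a4623c40221209860321a0dc301b0804c100b01, 0, 84, 0x401000603000c01000e01001401001603001c01001e01002401002603002c01002e01003401003603003c01003e01, []⟩]

theorem t9_746_14 : jobs 8 S9 b8_746 j9_746_14 = true := by decide +kernel

noncomputable def j9_746_15 : List Job := [
  ⟨47, 0x540a2562b968b65c2ed008242219108a4623cd06a361b8f07a3e1fcc06232198e0723a1dc40221209860321a0dc301b0804c100b01, 0, 160, 0x203000801000a01001001001203001801001a01002001002203002801002a01003001003203003801003a0100400100c20100c60100ca0100ce0100d20300d60300da0100de0100e20100e60100ea0100ee0100f20100f60100fa0100fe01, []⟩]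

theorem t9_746_15 : jobs 8 S9 b8_746 j9_746_15 = true := by decide +kernel

noncomputable def j9_746_16 : List Job := [
  ⟨46, 0x621128a45a311a8e47e01028241a110a8643d40a2562b968b65c2ed008242219108a4623cd06a361b8f07a3e1fcc06232198e0723a1dc40221209860321a0dc301b0804c100b01, 0, 84, 0x201000801000a01001001001201001801001a01002001002202002801002a01003001003202003801003a01004001, []⟩]

theorem t9_746_16 : jobs 8 S9 b8_746 j9_746_16 = true := by decide +kernel

noncomputable def j9_746_17 : List Job := [
  ⟨45, 0x548a6542a960b25e2fd40a2562b968b65c2ecc06232198e0723a1dc40221209860321a0dc2e15098440e0501, 0, 48, 0x4201004601004801004a01004e01005001, []⟩]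

theorem t9_746_17 : jobs 8 S9 b8_746 j9_746_17 = true := by decide +kernel

noncomputable def j9_746_18 : List Job := [
  ⟨44, 0x621128a45a311a8e47e01028241a110a8643d48a6542a960b25e2fd40a2562b968b65c2ecc06232198e0723a1dc40221209860321a0dc2e15098440e0501, 0, 48, 0x4201004601004801, []⟩]

theorem t9_746_18 : jobs 8 S9 b8_746 j9_746_18 = true := by decide +kernel

noncomputable def j9_746_19 : List Job := [
  ⟨43, 0x520924a259309a4e27d008242219108a4623cc06232198e0723a1dc40221209860321a0dc2e15098440e0501, 0, 48, 0x4201004601004801004a01004e01005001, []⟩]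

theorem t9_746_19 : jobs 8 S9 b8_746 j9_746_19 = true := by decide +kernel

noncomputable def j9_746_20 : List Job := [
  ⟨42, 0x621128a45a311a8e47e01028241a110a8643d20924a259309a4e27d008242219108a4623cc06232198e0723a1dc40221209860321a0dc2e15098440e0501, 0, 48, 0x4201004601004801, []⟩]

theorem t9_746_20 : jobs 8 S9 b8_746 j9_746_20 = true := by decide +kernel

noncomputable def j9_746_21 : List Job := [
  ⟨41, 0x548a6542a960b25e2fd40a2562b968b65c2ecc464391d4c066381dc40221209860321a0dc2e15098440e0501, 0, 48, 0x4202004601004802004a02004e01005002005202005802005a02006002, []⟩]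

theorem t9_746_21 : jobs 8 S9 b8_746 j9_746_21 = true := by decide +kernel

noncomputable def j9_746_22 : List Job := [
  ⟨40, 0x621128a45a311a8e47e01028241a110a8643d48a6542a960b25e2fd40a2562b968b65c2ecc464391d4c066381dc40221209860321a0dc2e15098440e0501, 0, 48, 0x4202004601004802004a02005002005202005802005a02006002, []⟩]

theorem t9_746_22 : jobs 8 S9 b8_746 j9_746_22 = true := by decide +kernel

noncomputable def j9_746_23 : List Job := [
  ⟨39, 0x520924a259309a4e27d008242219108a4623cc464391d4c066381dc40221209860321a0dc2e15098440e0501, 0, 48, 0x4202004601004802004a02004e01005002005202005802005a02006002, []⟩]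

theorem t9_746_23 : jobs 8 S9 b8_746 j9_746_23 = true := by decide +kernel

noncomputable def j9_746_24 : List Job := [
  ⟨38, 0x621128a45a311a8e47e01028241a110a8643d20924a259309a4e27d008242219108a4623cc464391d4c066381dc40221209860321a0dc2e15098440e0501, 0, 48, 0x4202004601004802004a02005002005202005802005a02006002, []⟩]

theorem t9_746_24 : jobs 8 S9 b8_746 j9_746_24 = true := by decide +kernel

noncomputable def j9_746_25 : List Job := [
  ⟨37, 0x548a6542a960b25e2fd40a2562b968b65c2ecc464391d4c066381dc40221209860321a0dc2e15098440e0501, 0, 48, 0x4202004601004802004a02004e01005002005202005802005a02006002, []⟩]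

theorem t9_746_25 : jobs 8 S9 b8_746 j9_746_25 = true := by decide +kernel

noncomputable def j9_746_26 : List Job := [
  ⟨36, 0x621128a45a311a8e47e01028241a110a8643d48a6542a960b25e2fd40a2562b968b65c2ecc464391d4c066381dc40221209860321a0dc2e15098440e0501, 0, 48, 0x4202004601004802004a02005002005202005802005a02006002, []⟩]

theorem t9_746_26 : jobs 8 S9 b8_746 j9_746_26 = true := by decide +kernel

noncomputable def j9_746_27 : List Job := [
  ⟨35, 0x520924a259309a4e27d008242219108a4623cc464391d4c066381dc40221209860321a0dc2e15098440e0501, 0, 48, 0x4202004601004802004a02004e01005002005202005802005a02006002, []⟩]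

theorem t9_746_27 : jobs 8 S9 b8_746 j9_746_27 = true := by decide +kernel

noncomputable def j9_746_28 : List Job := [
  ⟨34, 0x621128a45a311a8e47e01028241a110a8643d20924a259309a4e27d008242219108a4623cc464391d4c066381dc40221209860321a0dc2e15098440e0501, 0, 48, 0x4202004601004802004a02005002005202005802005a02006002, []⟩]

theorem t9_746_28 : jobs 8 S9 b8_746 j9_746_28 = true := by decide +kernel

noncomputable def j9_746_29 : List Job := [
  ⟨33, 0x548a6542a960b25e2fd40a2562b968b65c2ecc06232198e0723a1dc40221209860321a0dc2e15098440e0501, 0, 48, 0x4201004601004801004a01004e01005001, []⟩]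

theorem t9_746_29 : jobs 8 S9 b8_746 j9_746_29 = true := by decide +kernel

noncomputable def j9_746_30 : List Job := [
  ⟨32, 0x621128a45a311a8e47e01028241a110a8643d48a6542a960b25e2fd40a2562b968b65c2ecc06232198e0723a1dc40221209860321a0dc2e15098440e0501, 0, 48, 0x4201004601004801, []⟩]

theorem t9_746_30 : jobs 8 S9 b8_746 j9_746_30 = true := by decide +kernel

noncomputable def j9_746_31 : List Job := [
  ⟨31, 0x520924a259309a4e27d008242219108a4623cc06232198e0723a1dc40221209860321a0dc2e15098440e0501, 0, 48, 0x4201004601004801004a01004e01005001, []⟩]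

theorem t9_746_31 : jobs 8 S9 b8_746 j9_746_31 = true := by decide +kernel

noncomputable def j9_746_32 : List Job := [
  ⟨30, 0x621128a45a311a8e47e01028241a110a8643d20924a259309a4e27d008242219108a4623cc06232198e0723a1dc40221209860321a0dc2e15098440e0501, 0, 48, 0x4201004601004801, []⟩]

theorem t9_746_32 : jobs 8 S9 b8_746 j9_746_32 = true := by decide +kernel

noncomputable def j9_746_33 : List Job := [
  ⟨29, 0x4c466391dcc064381d44424190d44026180dc2e15098440e0501, 0, 48, 0x4202004602004802004a02004e03005002005202005802005a02006002, []⟩]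

theorem t9_746_33 : jobs 8 S9 b8_746 j9_746_33 = true := by decide +kernel

noncomputable def j9_746_34 : List Job := [
  ⟨28, 0x621128a45a311a8e47e01028241a110a8643cc466391dcc064381d44424190d44026180dc2e15098440e0501, 0, 48, 0x4202004603004802004a02004e03005002005202005802005a02006002, []⟩]

theorem t9_746_34 : jobs 8 S9 b8_746 j9_746_34 = true := by decide +kernel

noncomputable def j9_746_35 : List Job := [
  ⟨27, 0x548a6542a960b25e2fd40a2562b968b65c2ed20924a259309a4e27d008242219108a4623cc466391dcc064381d44424190d44026180dc2e15098440e0501, 0, 48, 0x4202004601004802004a02004e01005002005202005802005a02006002, []⟩]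

theorem t9_746_35 : jobs 8 S9 b8_746 j9_746_35 = true := by decide +kernel

noncomputable def j9_746_36 : List Job := [
  ⟨26, 0x621128a45a311a8e47e01028241a110a8643d48a6542a960b25e2fd40a2562b968b65c2ed20924a259309a4e27d008242219108a4623cc466391dcc064381d44424190d44026180dc2e15098440e0501, 0, 62, 0x4202004601004802004a02005002005202005802005a02006002006a00006c00007600007800, [(59, ⟨2264, 0x4580140000400004000020000300010000040080001, 0x1862008020020401402⟩), (58, ⟨2263, 0x4580140000400004000020000300010000040080001, 0x1862008020020401402⟩), (53, ⟨2262, 0x460004b000460004800028000300010004040000001, 0x18a230902a020481402⟩), (52, ⟨2261, 0x4580147002440044000828000300210000040000001, 0x1862609420020481402⟩)]⟩]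

theorem t9_746_36 : jobs 8 S9 b8_746 j9_746_36 = true := by decide +kernel

noncomputable def j9_746_37 : List Job := [
  ⟨25, 0x4c06232198e0723a1dc4424190d44026180dc2e15098440e0501, 0, 48, 0x4202004602004801004a03004e03005001, []⟩]

theorem t9_746_37 : jobs 8 S9 b8_746 j9_746_37 = true := by decide +kernel

noncomputable def j9_746_38 : List Job := [
  ⟨24, 0x621128a45a311a8e47e01028241a110a8643cc06232198e0723a1dc4424190d44026180dc2e15098440e0501, 0, 48, 0x4202004603004801004a02004e03, []⟩]

theorem t9_746_38 : jobs 8 S9 b8_746 j9_746_38 = true := by decide +kernel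

noncomputable def j9_746_39 : List Job := [
  ⟨23, 0x548a6542a960b25e2fd40a2562b968b65c2ed20924a259309a4e27d008242219108a4623cc06232198e0723a1dc4424190d44026180dc2e15098440e0501, 0, 48, 0x4201004601004801004a01004e01005001, []⟩]

theorem t9_746_39 : jobs 8 S9 b8_746 j9_746_39 = true := by decide +kernel

noncomputable def j9_746_40 : List Job := [
  ⟨22, 0x621128a45a311a8e47e01028241a110a8643d48a6542a960b25e2fd40a2562b968b65c2ed20924a259309a4e27d008242219108a4623cc06232198e0723a1dc4424190d44026180dc2e15098440e0501, 0, 48, 0x4201004601004801, []⟩]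

theorem t9_746_40 : jobs 8 S9 b8_746 j9_746_40 = true := by decide +kernel

noncomputable def j9_746_41 : List Job := [
  ⟨21, 0x4c06232198e0723a1dc4426190dc4024180d42e15098440e0501, 0, 48, 0x4202004602004801004a03004e03005001, []⟩]

theorem t9_746_41 : jobs 8 S9 b8_746 j9_746_41 = true := by decide +kernel

noncomputable def j9_746_42 : List Job := [
  ⟨20, 0x621128a45a311a8e47e01028241a110a8643cc06232198e0723a1dc4426190dc4024180d42e15098440e0501, 0, 48, 0x4202004603004801004a02004e03, []⟩]

theorem t9_746_42 : jobs 8 S9 b8_746 j9_746_42 = true := by decide +kernel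

noncomputable def j9_746_43 : List Job := [
  ⟨19, 0x548a6542a960b25e2fd40a2562b968b65c2ed20924a259309a4e27d008242219108a4623cc06232198e0723a1dc4426190dc4024180d42e15098440e0501, 0, 48, 0x4201004601004801004a01004e01005001, []⟩]

theorem t9_746_43 : jobs 8 S9 b8_746 j9_746_43 = true := by decide +kernel

noncomputable def j9_746_44 : List Job := [
  ⟨18, 0x621128a45a311a8e47e01028241a110a8643d48a6542a960b25e2fd40a2562b968b65c2ed20924a259309a4e27d008242219108a4623cc06232198e0723a1dc4426190dc4024180d42e15098440e0501, 0, 48, 0x4201004601004801, []⟩]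

theorem t9_746_44 : jobs 8 S9 b8_746 j9_746_44 = true := by decide +kernel

noncomputable def j9_746_45 : List Job := [
  ⟨17, 0x4c466391dcc064381d44426190dc4024180d42e15098440e0501, 0, 48, 0x4202004602004802004a02004e03005002005202005802005a02006002, []⟩]

theorem t9_746_45 : jobs 8 S9 b8_746 j9_746_45 = true := by decide +kernel

noncomputable def j9_746_46 : List Job := [
  ⟨16, 0x621128a45a311a8e47e01028241a110a8643cc466391dcc064381d44426190dc4024180d42e15098440e0501, 0, 48, 0x4202004603004802004a02004e03005002005202005802005a02006002, []⟩]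

theorem t9_746_46 : jobs 8 S9 b8_746 j9_746_46 = true := by decide +kernel

noncomputable def j9_746_47 : List Job := [
  ⟨15, 0x548a6542a960b25e2fd40a2562b968b65c2ed20924a259309a4e27d008242219108a4623cc466391dcc064381d44426190dc4024180d42e15098440e0501, 0, 48, 0x4202004601004802004a02004e01005002005202005802005a02006002, []⟩]

theorem t9_746_47 : jobs 8 S9 b8_746 j9_746_47 = true := by decide +kernel

noncomputable def j9_746_48 : List Job := [
  ⟨14, 0x621128a45a311a8e47e01028241a110a8643d48a6542a960b25e2fd40a2562b968b65c2ed20924a259309a4e27d008242219108a4623cc466391dcc064381d44426190dc4024180d42e15098440e0501, 0, 92, 0x8201008601008c01009001009202009601009802009a0200a00200a20200a80200aa0200b00200b20100b601, []⟩]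

theorem t9_746_48 : jobs 8 S9 b8_746 j9_746_48 = true := by decide +kernel

theorem d9_746 : Dn 8 S9 b8_746 := dn_of (Js := j9_746_0 ++ (j9_746_1 ++ (j9_746_2 ++ (j9_746_3 ++ (j9_746_4 ++ (j9_746_5 ++ (j9_746_6 ++ (j9_746_7 ++ (j9_746_8 ++ (j9_746_9 ++ (j9_746_10 ++ (j9_746_11 ++ (j9_746_12 ++ (j9_746_13 ++ (j9_746_14 ++ (j9_746_15 ++ (j9_746_16 ++ (j9_746_17 ++ (j9_746_18 ++ (j9_746_19 ++ (j9_746_20 ++ (j9_746_21 ++ (j9_746_22 ++ (j9_746_23 ++ (j9_746_24 ++ (j9_746_25 ++ (j9_746_26 ++ (j9_746_27 ++ (j9_746_28 ++ (j9_746_29 ++ (j9_746_30 ++ (j9_746_31 ++ (j9_746_32 ++ (j9_746_33 ++ (j9_746_34 ++ (j9_746_35 ++ (j9_746_36 ++ (j9_746_37 ++ (j9_746_38 ++ (j9_746_39 ++ (j9_746_40 ++ (j9_746_41 ++ (j9_746_42 ++ (j9_746_43 ++ (j9_746_44 ++ (j9_746_45 ++ (j9_746_46 ++ (j9_746_47 ++ (j9_746_48 ++ [])))))))))))))))))))))))))))))))))))))))))))))))))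
  (jobs_append t9_746_0 <| jobs_append t9_746_1 <| jobs_append t9_746_2 <| jobs_append t9_746_3 <| jobs_append t9_746_4 <| jobs_append t9_746_5 <| jobs_append t9_746_6 <| jobs_append t9_746_7 <| jobs_append t9_746_8 <| jobs_append t9_746_9 <| jobs_append t9_746_10 <| jobs_append t9_746_11 <| jobs_append t9_746_12 <| jobs_append t9_746_13 <| jobs_append t9_746_14 <| jobs_append t9_746_15 <| jobs_append t9_746_16 <| jobs_append t9_746_17 <| jobs_append t9_746_18 <| jobs_append t9_746_19 <| jobs_append t9_746_20 <| jobs_append t9_746_21 <| jobs_append t9_746_22 <| jobs_append t9_746_23 <| jobs_append t9_746_24 <| jobs_append t9_746_25 <| jobs_append t9_746_26 <| jobs_append t9_746_27 <| jobs_append t9_746_28 <| jobs_append t9_746_29 <| jobs_append t9_746_30 <| jobs_append t9_746_31 <| jobs_append t9_746_32 <| jobs_append t9_746_33 <| jobs_append t9_746_34 <| jobs_append t9_746_35 <| jobs_append t9_746_36 <| jobs_append t9_746_37 <| jobs_append t9_746_38 <| jobs_append t9_746_39 <| jobs_append t9_746_40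 <| jobs_append t9_746_41 <| jobs_append t9_746_42 <| jobs_append t9_746_43 <| jobs_append t9_746_44 <| jobs_append t9_746_45 <| jobs_append t9_746_46 <| jobs_append t9_746_47 <| jobs_append t9_746_48 <| List.forall_mem_nil _) (by decide +kernel)

noncomputable def j9_747_0 : List Job := [
  ⟨63, 0x68142a251a914aa653aa152aa55ab15aae57e01028241a110a8643a21128a45a311a8e47d48a6542a960b25e2fd008242219108a4623cd06a361b8f07a3e1fcc06232198e0723a1dc381f0804c1e0d01, 0, 62, 0x0, []⟩]

theorem t9_747_0 : jobs 8 S9 b8_747 j9_747_0 = true := by decide +kernel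

noncomputable def j9_747_1 : List Job := [
  ⟨62, 0x601028241a110a8643a21128a45a311a8e47d48a6542a960b25e2fd008242219108a4623cd06a361b8f07a3e1fcc06232198e0723a1dc381f0804c1e0d01, 0, 112, 0x0, []⟩]

theorem t9_747_1 : jobs 8 S9 b8_747 j9_747_1 = true := by decide +kernel

noncomputable def j9_747_2 : List Job := [
  ⟨61, 0x601028241a110a8643a21128a45a311a8e47d48a6542a960b25e2fd008242219108a4623c381f0804c1e0d01, 0, 112, 0x0, []⟩]

theorem t9_747_2 : jobs 8 S9 b8_747 j9_747_2 = true := by decide +kernel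

noncomputable def j9_747_3 : List Job := [
  ⟨60, 0x548a6542a960b25e2fd008242219108a4623c381f0804c1e0d01, 0, 62, 0x0, []⟩]

theorem t9_747_3 : jobs 8 S9 b8_747 j9_747_3 = true := by decide +kernel

noncomputable def j9_747_4 : List Job := [
  ⟨59, 0x68142a251a914aa653aa152aa55ab15aae57e01028241a110a8643a21128a45a311a8e47d48a6542a960b25e2fd008242219108a4623c381f0804c1e0d01, 0, 62, 0x0, []⟩]

theorem t9_747_4 : jobs 8 S9 b8_747 j9_747_4 = true := by decide +kernel

noncomputable def j9_747_5 : List Job := [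
  ⟨58, 0x540a2562b968b65c2ed008242219108a4623c502a160b8703a1e0fc40221209860321a0dc381f0804c1e0d01, 0, 62, 0x0, []⟩]

theorem t9_747_5 : jobs 8 S9 b8_747 j9_747_5 = true := by decide +kernel

noncomputable def j9_747_6 : List Job := [
  ⟨57, 0x68142a251a914aa653aa152aa55ab15aae57e01028241a110a8643a21128a45a311a8e47d40a2562b968b65c2ed008242219108a4623c502a160b8703a1e0fc40221209860321a0dc381f0804c1e0d01, 0, 62, 0x0, []⟩]

theorem t9_747_6 : jobs 8 S9 b8_747 j9_747_6 = true := by decide +kernel

noncomputable def j9_747_7 : List Job := [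
  ⟨56, 0x601028241a110a8643a21128a45a311a8e47d40a2562b968b65c2ed008242219108a4623c502a160b8703a1e0fc40221209860321a0dc381f0804c1e0d01, 0, 112, 0x0, []⟩]

theorem t9_747_7 : jobs 8 S9 b8_747 j9_747_7 = true := by decide +kernel

noncomputable def j9_747_8 : List Job := [
  ⟨55, 0x601028241a110a8643a21128a45a311a8e47d40a2562b968b65c2ed008242219108a4623cd06a361b8f07a3e1fcc06232198e0723a1dc502a160b8703a1e0fc40221209860321a0dc381f0804c1e0d01, 0, 112, 0x0, []⟩]

theorem t9_747_8 : jobs 8 S9 b8_747 j9_747_8 = true := by decide +kernel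

noncomputable def j9_747_9 : List Job := [
  ⟨54, 0x540a2562b968b65c2ed008242219108a4623cd06a361b8f07a3e1fcc06232198e0723a1dc502a160b8703a1e0fc40221209860321a0dc381f0804c1e0d01, 0, 70, 0x0, []⟩]

theorem t9_747_9 : jobs 8 S9 b8_747 j9_747_9 = true := by decide +kernel

noncomputable def j9_747_10 : List Job := [
  ⟨53, 0x68142a251a914aa653aa152aa55ab15aae57e01028241a110a8643a21128a45a311a8e47d40a2562b968b65c2ed008242219108a4623cd06a361b8f07a3e1fcc06232198e0723a1dc502a160b8703a1e0fc40221209860321a0dc381f0804c1e0d01, 0, 70, 0x0, []⟩]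

theorem t9_747_10 : jobs 8 S9 b8_747 j9_747_10 = true := by decide +kernel

noncomputable def j9_747_11 : List Job := [
  ⟨52, 0x601028241a110a8643a21128a45a311a8e47d40a2562b968b65c2ed008242219108a4623cc06232198e0723a1dc40221209860321a0dc301b0804c100b01, 0, 256, 0x8203009003009803009a0300a40300a60300ae0300b60300bc0300be0300c20300d00300d80300da0300e40300e60300ee0300f60300fc0300fe03010203011003011803011a03012403012e03013603013c03014203015003015803015a03016403016e03017603017c03, []⟩]

theorem t9_747_11 : jobs 8 S9 b8_747 j9_747_11 = true := by decide +kernel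

noncomputable def j9_747_12 : List Job := [
  ⟨51, 0x540a2562b968b65c2ed008242219108a4623cc06232198e0723a1dc40221209860321a0dc301b0804c100b01, 0, 144, 0x8203009003009803009a0300a40300ae0300b60300bc0300c20300c80300d40300de0300e60300ec0300f20300fa03010003010203010803010a03011203011803011a03, []⟩]

theorem t9_747_12 : jobs 8 S9 b8_747 j9_747_12 = true := by decide +kernel

noncomputable def j9_747_13 : List Job := [
  ⟨50, 0x68142a251a914aa653aa152aa55ab15aae57e01028241a110a8643a21128a45a311a8e47d40a2562b968b65c2ed008242219108a4623cc06232198e0723a1dc40221209860321a0dc301b0804c100b01, 0, 144, 0x8203008a03009003009203009803009a0300a40300ae0300b60300bc0300c20300c80300ca0300d40300de0300e60300ec0300f203010003010803010a03011203011803, []⟩]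

theorem t9_747_13 : jobs 8 S9 b8_747 j9_747_13 = true := by decide +kernel

noncomputable def j9_747_14 : List Job := [
  ⟨49, 0x68142a251a914aa653aa152aa55ab15aae57d20924a259309a4e27d008242219108a4623cc06232198e0723a1dc40221209860321a0dc2e15098440e0501, 0, 80, 0x4201005e01, []⟩]

theorem t9_747_14 : jobs 8 S9 b8_747 j9_747_14 = true := by decide +kernel

noncomputable def j9_747_15 : List Job := [
  ⟨48, 0x601028241a110a8643a21128a45a311a8e47d20924a259309a4e27d008242219108a4623cc06232198e0723a1dc40221209860321a0dc2e15098440e0501, 0, 80, 0x4201004e01, []⟩]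

theorem t9_747_15 : jobs 8 S9 b8_747 j9_747_15 = true := by decide +kernel

noncomputable def j9_747_16 : List Job := [
  ⟨47, 0x520924a259309a4e27d008242219108a4623cc464391d4c066381dc40221209860321a0dc2e15098440e0501, 0, 80, 0x4203004803004c03004e03005203005803005c03005e03, []⟩]

theorem t9_747_16 : jobs 8 S9 b8_747 j9_747_16 = true := by decide +kernel

noncomputable def j9_747_17 : List Job := [
  ⟨46, 0x68142a251a914aa653aa152aa55ab15aae57e01028241a110a8643a21128a45a311a8e47d20924a259309a4e27d008242219108a4623cc464391d4c066381dc40221209860321a0dc2e15098440e0501, 0, 80, 0x4203004803004c03004e03005203005803005c03005e03, []⟩]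

theorem t9_747_17 : jobs 8 S9 b8_747 j9_747_17 = true := by decide +kernel

noncomputable def j9_747_18 : List Job := [
  ⟨45, 0x68142a251a914aa653aa152aa55ab15aae57d20924a259309a4e27d008242219108a4623cc464391d4c066381dc40221209860321a0dc2e15098440e0501, 0, 80, 0x4203004803004c03004e03005203005803005c03005e03, []⟩]

theorem t9_747_18 : jobs 8 S9 b8_747 j9_747_18 = true := by decide +kernel

noncomputable def j9_747_19 : List Job := [
  ⟨44, 0x601028241a110a8643a21128a45a311a8e47d20924a259309a4e27d008242219108a4623cc464391d4c066381dc40221209860321a0dc2e15098440e0501, 0, 80, 0x4203004803004c03004e03005203005803005c03005e03, []⟩]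

theorem t9_747_19 : jobs 8 S9 b8_747 j9_747_19 = true := by decide +kernel

noncomputable def j9_747_20 : List Job := [
  ⟨43, 0x520924a259309a4e27d008242219108a4623cc06232198e0723a1dc40221209860321a0dc2e15098440e0501, 0, 80, 0x4201004e01005201005e01, []⟩]

theorem t9_747_20 : jobs 8 S9 b8_747 j9_747_20 = true := by decide +kernel

noncomputable def j9_747_21 : List Job := [
  ⟨42, 0x68142a251a914aa653aa152aa55ab15aae57e01028241a110a8643a21128a45a311a8e47d20924a259309a4e27d008242219108a4623cc06232198e0723a1dc40221209860321a0dc2e15098440e0501, 0, 80, 0x4201, []⟩]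

theorem t9_747_21 : jobs 8 S9 b8_747 j9_747_21 = true := by decide +kernel

noncomputable def j9_747_22 : List Job := [
  ⟨41, 0x601028241a110a8643a21128a45a311a8e47cc466391dcc064381d44424190d44026180dc2e15098440e0501, 0, 80, 0x4203004603004803004a02004c03004e03005203005603005803005a02005c03005e03, []⟩]

theorem t9_747_22 : jobs 8 S9 b8_747 j9_747_22 = true := by decide +kernel

noncomputable def j9_747_23 : List Job := [
  ⟨40, 0x601028241a110a8643a21128a45a311a8e47d48a6542a960b25e2fd40a2562b968b65c2ed20924a259309a4e27d008242219108a4623cc466391dcc064381d44424190d44026180dc2e15098440e0501, 0, 80, 0x4203004803004c03004e03005203005803005c03005e03, []⟩]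

theorem t9_747_23 : jobs 8 S9 b8_747 j9_747_23 = true := by decide +kernel

noncomputable def j9_747_24 : List Job := [
  ⟨39, 0x4c06232198e0723a1dc4424190d44026180dc2e15098440e0501, 0, 44, 0x4203004603004a02004e02005203005602, []⟩]

theorem t9_747_24 : jobs 8 S9 b8_747 j9_747_24 = true := by decide +kernel

noncomputable def j9_747_25 : List Job := [
  ⟨38, 0x68142a251a914aa653aa152aa55ab15aae57e01028241a110a8643a21128a45a311a8e47cc06232198e0723a1dc4424190d44026180dc2e15098440e0501, 0, 44, 0x4203004603004a03004e03005203005603, []⟩]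

theorem t9_747_25 : jobs 8 S9 b8_747 j9_747_25 = true := by decide +kernel

noncomputable def j9_747_26 : List Job := [
  ⟨37, 0x548a6542a960b25e2fd40a2562b968b65c2ed20924a259309a4e27d008242219108a4623cc06232198e0723a1dc4424190d44026180dc2e15098440e0501, 0, 44, 0x4201004e01005201, []⟩]

theorem t9_747_26 : jobs 8 S9 b8_747 j9_747_26 = true := by decide +kernel

noncomputable def j9_747_27 : List Job := [
  ⟨36, 0x68142a251a914aa653aa152aa55ab15aae57e01028241a110a8643a21128a45a311a8e47d48a6542a960b25e2fd40a2562b968b65c2ed20924a259309a4e27d008242219108a4623cc06232198e0723a1dc4424190d44026180dc2e15098440e0501, 0, 44, 0x4201, []⟩]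

theorem t9_747_27 : jobs 8 S9 b8_747 j9_747_27 = true := by decide +kernel

noncomputable def j9_747_28 : List Job := [
  ⟨35, 0x601028241a110a8643a21128a45a311a8e47cc06232198e0723a1dc4426190dc4024180d42e15098440e0501, 0, 80, 0x4202004603004a02004e03005203005603005a02005e02, []⟩]

theorem t9_747_28 : jobs 8 S9 b8_747 j9_747_28 = true := by decide +kernel

noncomputable def j9_747_29 : List Job := [
  ⟨34, 0x601028241a110a8643a21128a45a311a8e47d48a6542a960b25e2fd40a2562b968b65c2ed20924a259309a4e27d008242219108a4623cc06232198e0723a1dc4426190dc4024180d42e15098440e0501, 0, 80, 0x4201004e01, []⟩]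

theorem t9_747_29 : jobs 8 S9 b8_747 j9_747_29 = true := by decide +kernel

noncomputable def j9_747_30 : List Job := [
  ⟨33, 0x4c466391dcc064381d44426190dc4024180d42e15098440e0501, 0, 44, 0x4203004603004803004a02004c03004e03005203005602005803, []⟩]

theorem t9_747_30 : jobs 8 S9 b8_747 j9_747_30 = true := by decide +kernel

noncomputable def j9_747_31 : List Job := [
  ⟨32, 0x68142a251a914aa653aa152aa55ab15aae57e01028241a110a8643a21128a45a311a8e47cc466391dcc064381d44426190dc4024180d42e15098440e0501, 0, 44, 0x4203004602004803004a02004c03004e03005203005602005803, []⟩]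

theorem t9_747_31 : jobs 8 S9 b8_747 j9_747_31 = true := by decide +kernel

noncomputable def j9_747_32 : List Job := [
  ⟨31, 0x548a6542a960b25e2fd40a2562b968b65c2ed20924a259309a4e27d008242219108a4623cc466391dcc064381d44426190dc4024180d42e15098440e0501, 0, 44, 0x4203004803004c03004e03005203005803, []⟩]

theorem t9_747_32 : jobs 8 S9 b8_747 j9_747_32 = true := by decide +kernel

noncomputable def j9_747_33 : List Job := [
  ⟨30, 0x68142a251a914aa653aa152aa55ab15aae57e01028241a110a8643a21128a45a311a8e47d48a6542a960b25e2fd40a2562b968b65c2ed20924a259309a4e27d008242219108a4623cc466391dcc064381d44426190dc4024180d42e15098440e0501, 0, 75, 0x6e01007a03008003008403008603008a03009003, []⟩]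

theorem t9_747_33 : jobs 8 S9 b8_747 j9_747_33 = true := by decide +kernel

noncomputable def j9_747_34 : List Job := [
  ⟨12, 0x621128a45a311a8e47e01028241a110a8643cc466381d4c064391dc4424180dc4026190d42e15098440e0501, 0, 2, 0x0, []⟩]

theorem t9_747_34 : jobs 8 S9 b8_747 j9_747_34 = true := by decide +kernel

noncomputable def j9_747_35 : List Job := [
  ⟨10, 0x621128a45a311a8e47e01028241a110a8643cc466391dcc064381d44424190d44026180dc2e15098440e0501, 0, 2, 0x0, []⟩]

theorem t9_747_35 : jobs 8 S9 b8_747 j9_747_35 = true := by decide +kernel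

noncomputable def j9_747_36 : List Job := [
  ⟨0, 0x621128a45a311a8e47e01028241a110a8643cc466381d4c064391dc4426180d44024190dc2e15098440e0501, 0, 2, 0x201, []⟩]

theorem t9_747_36 : jobs 8 S9 b8_747 j9_747_36 = true := by decide +kernel

theorem d9_747 : Dn 8 S9 b8_747 := dn_of (Js := j9_747_0 ++ (j9_747_1 ++ (j9_747_2 ++ (j9_747_3 ++ (j9_747_4 ++ (j9_747_5 ++ (j9_747_6 ++ (j9_747_7 ++ (j9_747_8 ++ (j9_747_9 ++ (j9_747_10 ++ (j9_747_11 ++ (j9_747_12 ++ (j9_747_13 ++ (j9_747_14 ++ (j9_747_15 ++ (j9_747_16 ++ (j9_747_17 ++ (j9_747_18 ++ (j9_747_19 ++ (j9_747_20 ++ (j9_747_21 ++ (j9_747_22 ++ (j9_747_23 ++ (j9_747_24 ++ (j9_747_25 ++ (j9_747_26 ++ (j9_747_27 ++ (j9_747_28 ++ (j9_747_29 ++ (j9_747_30 ++ (j9_747_31 ++ (j9_747_32 ++ (j9_747_33 ++ (j9_747_34 ++ (j9_747_35 ++ (j9_747_36 ++ [])))))))))))))))))))))))))))))))))))))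
  (jobs_append t9_747_0 <| jobs_append t9_747_1 <| jobs_append t9_747_2 <| jobs_append t9_747_3 <| jobs_append t9_747_4 <| jobs_append t9_747_5 <| jobs_append t9_747_6 <| jobs_append t9_747_7 <| jobs_append t9_747_8 <| jobs_append t9_747_9 <| jobs_append t9_747_10 <| jobs_append t9_747_11 <| jobs_append t9_747_12 <| jobs_append t9_747_13 <| jobs_append t9_747_14 <| jobs_append t9_747_15 <| jobs_append t9_747_16 <| jobs_append t9_747_17 <| jobs_append t9_747_18 <| jobs_append t9_747_19 <| jobs_append t9_747_20 <| jobs_append t9_747_21 <| jobs_append t9_747_22 <| jobs_append t9_747_23 <| jobs_append t9_747_24 <| jobs_append t9_747_25 <| jobs_append t9_747_26 <| jobs_append t9_747_27 <| jobs_append t9_747_28 <| jobs_append t9_747_29 <| jobs_append t9_747_30 <| jobs_append t9_747_31 <| jobs_append t9_747_32 <| jobs_append t9_747_33 <| jobs_append t9_747_34 <| jobs_append t9_747_35 <| jobs_append t9_747_36 <| List.forall_mem_nil _) (by decide +kernel)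

noncomputable def j9_748_0 : List Job := [
  ⟨63, 0x520924a259309a4e27d008242219108a4623cc464391d4c066381dc40221209860321a0dc2e15098440e0501, 0, 8, 0x202000401000802000c02000e02001001, []⟩]

theorem t9_748_0 : jobs 8 S9 b8_748 j9_748_0 = true := by decide +kernel

noncomputable def j9_748_1 : List Job := [
  ⟨62, 0x520924a259309a4e27d008242219108a4623cc464381dcc066391d440221209860321a0dc2e15098440e0501, 0, 8, 0x202000601000802000a01000c02000e02, []⟩]

theorem t9_748_1 : jobs 8 S9 b8_748 j9_748_1 = true := by decide +kernel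

noncomputable def j9_748_2 : List Job := [
  ⟨61, 0x520924a259309a4e27d008242219108a4623cc464391d4c066381dc40221209860321a0dc2e15098440e0501, 0, 8, 0x202000601000802000a01000c02000e02, []⟩]

theorem t9_748_2 : jobs 8 S9 b8_748 j9_748_2 = true := by decide +kernel

noncomputable def j9_748_3 : List Job := [
  ⟨60, 0x520924a259309a4e27d008242219108a4623cc06232198e0723a1dc40221209860321a0dc2e15098440e0501, 0, 8, 0x201000401000e01001001, []⟩]

theorem t9_748_3 : jobs 8 S9 b8_748 j9_748_3 = true := by decide +kernel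

noncomputable def j9_748_4 : List Job := [
  ⟨59, 0x520924a259309a4e27d008242219108a4623cc06232198e0723a1dc40221209860321a0dc2e15098440e0501, 0, 8, 0x201000401000e01001001, []⟩]

theorem t9_748_4 : jobs 8 S9 b8_748 j9_748_4 = true := by decide +kernel

noncomputable def j9_748_5 : List Job := [
  ⟨58, 0x4c466391dcc064381d44424190d44026180dc2e15098440e0501, 0, 8, 0x202000602000802000a02000c02000e02, []⟩]

theorem t9_748_5 : jobs 8 S9 b8_748 j9_748_5 = true := by decide +kernel

noncomputable def j9_748_6 : List Job := [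
  ⟨57, 0x548a6542a960b25e2fd40a2562b968b65c2ed20924a259309a4e27d008242219108a4623cc466391dcc064381d44424190d44026180dc2e15098440e0501, 0, 8, 0x202000601000802000a01000c02000e02, []⟩]

theorem t9_748_6 : jobs 8 S9 b8_748 j9_748_6 = true := by decide +kernel

noncomputable def j9_748_7 : List Job := [
  ⟨56, 0x4c06232198e0723a1dc4424180dc4026190d42e15098440e0501, 0, 8, 0x203000401000602000a02000e02001001, []⟩]

theorem t9_748_7 : jobs 8 S9 b8_748 j9_748_7 = true := by decide +kernel

noncomputable def j9_748_8 : List Job := [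
  ⟨55, 0x4c06232198e0723a1dc4424190d44026180dc2e15098440e0501, 0, 8, 0x202000401000602000a02000e02001001, []⟩]

theorem t9_748_8 : jobs 8 S9 b8_748 j9_748_8 = true := by decide +kernel

noncomputable def j9_748_9 : List Job := [
  ⟨54, 0x548a6542a960b25e2fd40a2562b968b65c2ed20924a259309a4e27d008242219108a4623cc06232198e0723a1dc4424180dc4026190d42e15098440e0501, 0, 8, 0x201000401000e01001001, []⟩]

theorem t9_748_9 : jobs 8 S9 b8_748 j9_748_9 = true := by decide +kernel

noncomputable def j9_748_10 : List Job := [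
  ⟨53, 0x548a6542a960b25e2fd40a2562b968b65c2ed20924a259309a4e27d008242219108a4623cc06232198e0723a1dc4424190d44026180dc2e15098440e0501, 0, 8, 0x201000401000e01001001, []⟩]

theorem t9_748_10 : jobs 8 S9 b8_748 j9_748_10 = true := by decide +kernel

noncomputable def j9_748_11 : List Job := [
  ⟨52, 0x4c06232198e0723a1dc4426190dc4024180d42e15098440e0501, 0, 8, 0x203000602000801000a02000c01000e03, []⟩]

theorem t9_748_11 : jobs 8 S9 b8_748 j9_748_11 = true := by decide +kernel

noncomputable def j9_748_12 : List Job := [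
  ⟨51, 0x548a6542a960b25e2fd40a2562b968b65c2ed20924a259309a4e27d008242219108a4623cc06232198e0723a1dc4426190dc4024180d42e15098440e0501, 0, 8, 0x601000801000a01000c01, []⟩]

theorem t9_748_12 : jobs 8 S9 b8_748 j9_748_12 = true := by decide +kernel

noncomputable def j9_748_13 : List Job := [
  ⟨50, 0x4c466381d4c064391dc4426180d44024190dc2e15098440e0501, 0, 8, 0x202000401000602000802000a02000c02000e02001001, []⟩]

theorem t9_748_13 : jobs 8 S9 b8_748 j9_748_13 = true := by decide +kernel

noncomputable def j9_748_14 : List Job := [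
  ⟨49, 0x4c466391dcc064381d44426190dc4024180d42e15098440e0501, 0, 8, 0x202000401000602000802000a02000c02000e02001001, []⟩]

theorem t9_748_14 : jobs 8 S9 b8_748 j9_748_14 = true := by decide +kernel

noncomputable def j9_748_15 : List Job := [
  ⟨48, 0x548a6542a960b25e2fd40a2562b968b65c2ed20924a259309a4e27d008242219108a4623cc466381d4c064391dc4426180d44024190dc2e15098440e0501, 0, 10, 0x202000401000802000c02000e02001001001401, []⟩]

theorem t9_748_15 : jobs 8 S9 b8_748 j9_748_15 = true := by decide +kernel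

noncomputable def j9_748_16 : List Job := [
  ⟨47, 0x548a6542a960b25e2fd40a2562b968b65c2ed20924a259309a4e27d008242219108a4623cc466391dcc064381d44426190dc4024180d42e15098440e0501, 0, 30, 0x2e03003001003403003803003a03003c01, []⟩]

theorem t9_748_16 : jobs 8 S9 b8_748 j9_748_16 = true := by decide +kernel

noncomputable def j9_748_17 : List Job := [
  ⟨46, 0x548a6542a960b25e2fd008242219108a4623cd06a361b8f07a3e1fcc06232198e0723a1dc381f0804c180f01, 0, 40, 0x1201001401001601001801001a01001c01001e01002001002201002401002601002801004201004401004601004801, []⟩]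

theorem t9_748_17 : jobs 8 S9 b8_748 j9_748_17 = true := by decide +kernel

noncomputable def j9_748_18 : List Job := [
  ⟨45, 0x548a6542a960b25e2fd008242219108a4623c381f0804c180f01, 0, 40, 0x201000401000601000801000a01000c01000e01001001002a01002c01002e01003001003201003401003601003801003a01003c01003e01004001004a01004c01004e01005001, []⟩]

theorem t9_748_18 : jobs 8 S9 b8_748 j9_748_18 = true := by decide +kernel

noncomputable def j9_748_19 : List Job := [
  ⟨44, 0x540a2562b968b65c2ed008242219108a4623c502a160b8703a1e0fc40221209860321a0dc381f0804c180f01, 0, 40, 0x1201001401001601001801001a01001c01001e01002001002201002401002601002801004201004401004601004801, []⟩]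

theorem t9_748_19 : jobs 8 S9 b8_748 j9_748_19 = true := by decide +kernel

noncomputable def j9_748_20 : List Job := [
  ⟨43, 0x540a2562b968b65c2ed008242219108a4623cd06a361b8f07a3e1fcc06232198e0723a1dc502a160b8703a1e0fc40221209860321a0dc381f0804c180f01, 0, 40, 0x201000401000601000801000a01000c01000e01001001002a01002c01002e01003001003201003401003601003801003a01003c01003e01004001004a01004c01004e01005001, []⟩]

theorem t9_748_20 : jobs 8 S9 b8_748 j9_748_20 = true := by decide +kernel

noncomputable def j9_748_21 : List Job := [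
  ⟨42, 0x540a2562b968b65c2ed008242219108a4623cc06232198e0723a1dc40221209860321a0dc301b0804c100b01, 0, 80, 0x603000802000a02000e01001001001202001603001801001e01002002002602002c02003402003e02004202005002005802005a02006202006601006802006a01006e01007401007801007a02007c01008002008402008602009202009802, []⟩]

theorem t9_748_21 : jobs 8 S9 b8_748 j9_748_21 = true := by decide +kernel

noncomputable def j9_748_22 : List Job := [
  ⟨41, 0x540a2562b968b65c2ed008242219108a4623cc06232198e0723a1dc40221209860321a0dc301b0804c100b01, 0, 80, 0x202001002001802001a02002203002402002a01002c01002e02003203003401003602003a01003c02004402004602004801004c01005001005602005c02006402006e02007202007802008201008601008a01008c02008e02009402009602, []⟩]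

theorem t9_748_22 : jobs 8 S9 b8_748 j9_748_22 = true := by decide +kernel

noncomputable def j9_748_23 : List Job := [
  ⟨40, 0x520924a259309a4e27cc06232198e0723a1dc40221209860321a0dc381f0c06c0e0501, 0, 192, 0x0, []⟩]

theorem t9_748_23 : jobs 8 S9 b8_748 j9_748_23 = true := by decide +kernel

noncomputable def j9_748_24 : List Job := [
  ⟨39, 0x68142a251a914aa653aa152aa55ab15aae57e01028241a110a8643a21128a45a311a8e47d20924a259309a4e27cc06232198e0723a1dc40221209860321a0dc381f0c06c0e0501, 0, 192, 0x0, []⟩]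

theorem t9_748_24 : jobs 8 S9 b8_748 j9_748_24 = true := by decide +kernel

noncomputable def j9_748_25 : List Job := [
  ⟨38, 0x548a6542a960b25e2fd40a2562b968b65c2ed008242219108a4623cc06232198e0723a1dc40221209860321a0dc381f0c06c0e0501, 0, 192, 0x0, []⟩]

theorem t9_748_25 : jobs 8 S9 b8_748 j9_748_25 = true := by decide +kernel

noncomputable def j9_748_26 : List Job := [
  ⟨37, 0x68142a251a914aa653aa152aa55ab15aae57e01028241a110a8643a21128a45a311a8e47d48a6542a960b25e2fd40a2562b968b65c2ed008242219108a4623cc06232198e0723a1dc40221209860321a0dc381f0c06c0e0501, 0, 192, 0x0, []⟩]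

theorem t9_748_26 : jobs 8 S9 b8_748 j9_748_26 = true := by decide +kernel

noncomputable def j9_748_27 : List Job := [
  ⟨36, 0x68142a251a914aa653aa152aa55ab15aae57d20924a259309a4e27cc06232198e0723a1dc40221209860321a0dc381f0c06c0e0501, 0, 192, 0x0, []⟩]

theorem t9_748_27 : jobs 8 S9 b8_748 j9_748_27 = true := by decide +kernel

noncomputable def j9_748_28 : List Job := [
  ⟨35, 0x601028241a110a8643a21128a45a311a8e47d20924a259309a4e27cc06232198e0723a1dc40221209860321a0dc381f0c06c0e0501, 0, 192, 0x0, []⟩]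

theorem t9_748_28 : jobs 8 S9 b8_748 j9_748_28 = true := by decide +kernel

noncomputable def j9_748_29 : List Job := [
  ⟨34, 0x68142a251a914aa653aa152aa55ab15aae57d48a6542a960b25e2fd40a2562b968b65c2ed008242219108a4623cc06232198e0723a1dc40221209860321a0dc381f0c06c0e0501, 0, 192, 0x0, []⟩]

theorem t9_748_29 : jobs 8 S9 b8_748 j9_748_29 = true := by decide +kernel

noncomputable def j9_748_30 : List Job := [
  ⟨33, 0x601028241a110a8643a21128a45a311a8e47d48a6542a960b25e2fd40a2562b968b65c2ed008242219108a4623cc06232198e0723a1dc40221209860321a0dc381f0c06c0e0501, 0, 192, 0x0, []⟩]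

theorem t9_748_30 : jobs 8 S9 b8_748 j9_748_30 = true := by decide +kernel

noncomputable def j9_748_31 : List Job := [
  ⟨32, 0x68142a251a914aa653aa152aa55ab15aae57d48a6542a960b25e2fd40a2562b968b65c2ed20924a259309a4e27cd06a361b8f07a3e1fcc06232198e0723a1dc1e0d058240e0501, 0, 72, 0x0, []⟩]

theorem t9_748_31 : jobs 8 S9 b8_748 j9_748_31 = true := by decide +kernel

noncomputable def j9_748_32 : List Job := [
  ⟨31, 0x601028241a110a8643a21128a45a311a8e47d48a6542a960b25e2fd40a2562b968b65c2ed20924a259309a4e27cd06a361b8f07a3e1fcc06232198e0723a1dc1e0d058240e0501, 0, 72, 0x0, []⟩]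

theorem t9_748_32 : jobs 8 S9 b8_748 j9_748_32 = true := by decide +kernel

noncomputable def j9_748_33 : List Job := [
  ⟨30, 0x68142a251a914aa653aa152aa55ab15aae57d04864523d008444234d06a361b8f07a3e1fcc06232198e0723a1dc1e0d058240e0501, 0, 72, 0x4203004402004a02004c02, []⟩]

theorem t9_748_33 : jobs 8 S9 b8_748 j9_748_33 = true := by decide +kernel

noncomputable def j9_748_34 : List Job := [
  ⟨29, 0x601028241a110a8643a21128a45a311a8e47d04864523d008444234d06a361b8f07a3e1fcc06232198e0723a1dc1e0d058240e0501, 0, 72, 0x4203004402004a02004c02, []⟩]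

theorem t9_748_34 : jobs 8 S9 b8_748 j9_748_34 = true := by decide +kernel

noncomputable def j9_748_35 : List Job := [
  ⟨28, 0x548a6542a960b25e2fd40a2562b968b65c2ed20924a259309a4e27cd06a361b8f07a3e1fcc06232198e0723a1dc1e0d058240e0501, 0, 72, 0x0, []⟩]

theorem t9_748_35 : jobs 8 S9 b8_748 j9_748_35 = true := by decide +kernel

noncomputable def j9_748_36 : List Job := [
  ⟨27, 0x68142a251a914aa653aa152aa55ab15aae57e01028241a110a8643a21128a45a311a8e47d48a6542a960b25e2fd40a2562b968b65c2ed20924a259309a4e27cd06a361b8f07a3e1fcc06232198e0723a1dc1e0d058240e0501, 0, 72, 0x0, []⟩]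

theorem t9_748_36 : jobs 8 S9 b8_748 j9_748_36 = true := by decide +kernel

noncomputable def j9_748_37 : List Job := [
  ⟨26, 0x504864523d008444234d06a361b8f07a3e1fcc06232198e0723a1dc1e0d058240e0501, 0, 72, 0x4203004402004a02004c02, []⟩]

theorem t9_748_37 : jobs 8 S9 b8_748 j9_748_37 = true := by decide +kernel

noncomputable def j9_748_38 : List Job := [
  ⟨25, 0x68142a251a914aa653aa152aa55ab15aae57e01028241a110a8643a21128a45a311a8e47d04864523d008444234d06a361b8f07a3e1fcc06232198e0723a1dc1e0d058240e0501, 0, 72, 0x4202004402004a02004c02, []⟩]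

theorem t9_748_38 : jobs 8 S9 b8_748 j9_748_38 = true := by decide +kernel

noncomputable def j9_748_39 : List Job := [
  ⟨24, 0x548a6542a960b25e2fd40a2562b968b65c2ed20924a259309a4e27c1e0d058240e0501, 0, 72, 0x0, []⟩]

theorem t9_748_39 : jobs 8 S9 b8_748 j9_748_39 = true := by decide +kernel

noncomputable def j9_748_40 : List Job := [
  ⟨23, 0x68142a251a914aa653aa152aa55ab15aae57e01028241a110a8643a21128a45a311a8e47d48a6542a960b25e2fd40a2562b968b65c2ed20924a259309a4e27c1e0d058240e0501, 0, 72, 0x0, []⟩]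

theorem t9_748_40 : jobs 8 S9 b8_748 j9_748_40 = true := by decide +kernel

noncomputable def j9_748_41 : List Job := [
  ⟨22, 0x504864523d0084442341e0d058240e0501, 0, 72, 0x4203004402004a02004c02, []⟩]

theorem t9_748_41 : jobs 8 S9 b8_748 j9_748_41 = true := by decide +kernel

noncomputable def j9_748_42 : List Job := [
  ⟨21, 0x68142a251a914aa653aa152aa55ab15aae57e01028241a110a8643a21128a45a311a8e47d04864523d0084442341e0d058240e0501, 0, 72, 0x4202004402004a02004c02, []⟩]

theorem t9_748_42 : jobs 8 S9 b8_748 j9_748_42 = true := by decide +kernel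

noncomputable def j9_748_43 : List Job := [
  ⟨20, 0x68142a251a914aa653aa152aa55ab15aae57d48a6542a960b25e2fd40a2562b968b65c2ed20924a259309a4e27c1e0d058240e0501, 0, 72, 0x0, []⟩]

theorem t9_748_43 : jobs 8 S9 b8_748 j9_748_43 = true := by decide +kernel

noncomputable def j9_748_44 : List Job := [
  ⟨19, 0x601028241a110a8643a21128a45a311a8e47d48a6542a960b25e2fd40a2562b968b65c2ed20924a259309a4e27c1e0d058240e0501, 0, 72, 0x0, []⟩]

theorem t9_748_44 : jobs 8 S9 b8_748 j9_748_44 = true := by decide +kernel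

noncomputable def j9_748_45 : List Job := [
  ⟨18, 0x68142a251a914aa653aa152aa55ab15aae57d04864523d0084442341e0d058240e0501, 0, 72, 0x4203004403004a02004c02, []⟩]

theorem t9_748_45 : jobs 8 S9 b8_748 j9_748_45 = true := by decide +kernel

noncomputable def j9_748_46 : List Job := [
  ⟨17, 0x601028241a110a8643a21128a45a311a8e47d04864523d0084442341e0d058240e0501, 0, 72, 0x4203004402004a02004c03, []⟩]

theorem t9_748_46 : jobs 8 S9 b8_748 j9_748_46 = true := by decide +kernel

noncomputable def j9_748_47 : List Job := [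
  ⟨16, 0x68142a251a914aa653aa152aa55ab15aae57d20924a259309a4e27c502a160b8703a1e0fc40221209860321a0dc1e0d058240e0501, 0, 72, 0x0, []⟩]

theorem t9_748_47 : jobs 8 S9 b8_748 j9_748_47 = true := by decide +kernel

noncomputable def j9_748_48 : List Job := [
  ⟨15, 0x601028241a110a8643a21128a45a311a8e47d20924a259309a4e27c502a160b8703a1e0fc40221209860321a0dc1e0d058240e0501, 0, 72, 0x0, []⟩]

theorem t9_748_48 : jobs 8 S9 b8_748 j9_748_48 = true := by decide +kernel

noncomputable def j9_748_49 : List Job := [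
  ⟨14, 0x68142a251a914aa653aa152aa55ab15aae57d48a6542a960b25e2fd40a2562b968b65c2ed04864523d008444234502a160b8703a1e0fc40221209860321a0dc1e0d058240e0501, 0, 72, 0x0, []⟩]

theorem t9_748_49 : jobs 8 S9 b8_748 j9_748_49 = true := by decide +kernel

noncomputable def j9_748_50 : List Job := [
  ⟨13, 0x601028241a110a8643a21128a45a311a8e47d48a6542a960b25e2fd40a2562b968b65c2ed04864523d008444234502a160b8703a1e0fc40221209860321a0dc1e0d058240e0501, 0, 72, 0x0, []⟩]

theorem t9_748_50 : jobs 8 S9 b8_748 j9_748_50 = true := by decide +kernel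

noncomputable def j9_748_51 : List Job := [
  ⟨12, 0x520924a259309a4e27c502a160b8703a1e0fc40221209860321a0dc1e0d058240e0501, 0, 72, 0x0, []⟩]

theorem t9_748_51 : jobs 8 S9 b8_748 j9_748_51 = true := by decide +kernel

noncomputable def j9_748_52 : List Job := [
  ⟨11, 0x68142a251a914aa653aa152aa55ab15aae57e01028241a110a8643a21128a45a311a8e47d20924a259309a4e27c502a160b8703a1e0fc40221209860321a0dc1e0d058240e0501, 0, 72, 0x0, []⟩]

theorem t9_748_52 : jobs 8 S9 b8_748 j9_748_52 = true := by decide +kernel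

noncomputable def j9_748_53 : List Job := [
  ⟨10, 0x548a6542a960b25e2fd40a2562b968b65c2ed04864523d008444234502a160b8703a1e0fc40221209860321a0dc1e0d058240e0501, 0, 72, 0x0, []⟩]

theorem t9_748_53 : jobs 8 S9 b8_748 j9_748_53 = true := by decide +kernel

noncomputable def j9_748_54 : List Job := [
  ⟨9, 0x68142a251a914aa653aa152aa55ab15aae57e01028241a110a8643a21128a45a311a8e47d48a6542a960b25e2fd40a2562b968b65c2ed04864523d008444234502a160b8703a1e0fc40221209860321a0dc1e0d058240e0501, 0, 72, 0x0, []⟩]

theorem t9_748_54 : jobs 8 S9 b8_748 j9_748_54 = true := by decide +kernel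

noncomputable def j9_748_55 : List Job := [
  ⟨8, 0x520924a259309a4e27cd06a361b8f07a3e1fcc06232198e0723a1dc502a160b8703a1e0fc40221209860321a0dc1e0d058240e0501, 0, 72, 0x0, []⟩]

theorem t9_748_55 : jobs 8 S9 b8_748 j9_748_55 = true := by decide +kernel

noncomputable def j9_748_56 : List Job := [
  ⟨7, 0x68142a251a914aa653aa152aa55ab15aae57e01028241a110a8643a21128a45a311a8e47d20924a259309a4e27cd06a361b8f07a3e1fcc06232198e0723a1dc502a160b8703a1e0fc40221209860321a0dc1e0d058240e0501, 0, 72, 0x0, []⟩]

theorem t9_748_56 : jobs 8 S9 b8_748 j9_748_56 = true := by decide +kernel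

noncomputable def j9_748_57 : List Job := [
  ⟨6, 0x548a6542a960b25e2fd40a2562b968b65c2ed04864523d008444234d06a361b8f07a3e1fcc06232198e0723a1dc502a160b8703a1e0fc40221209860321a0dc1e0d058240e0501, 0, 72, 0x0, []⟩]

theorem t9_748_57 : jobs 8 S9 b8_748 j9_748_57 = true := by decide +kernel

noncomputable def j9_748_58 : List Job := [
  ⟨5, 0x68142a251a914aa653aa152aa55ab15aae57e01028241a110a8643a21128a45a311a8e47d48a6542a960b25e2fd40a2562b968b65c2ed04864523d008444234d06a361b8f07a3e1fcc06232198e0723a1dc502a160b8703a1e0fc40221209860321a0dc1e0d058240e0501, 0, 132, 0x860100e40100ea0c00f00c00f40c00f60c00fa0c01000c01040c01060c, []⟩]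

theorem t9_748_58 : jobs 8 S9 b8_748 j9_748_58 = true := by decide +kernel

noncomputable def j9_748_59 : List Job := [
  ⟨4, 0x68142a251a914aa653aa152aa55ab15aae57d20924a259309a4e27cd06a361b8f07a3e1fcc06232198e0723a1dc502a160b8703a1e0fc40221209860321a0dc1e0d058240e0501, 0, 72, 0x0, []⟩]

theorem t9_748_59 : jobs 8 S9 b8_748 j9_748_59 = true := by decide +kernel

noncomputable def j9_748_60 : List Job := [
  ⟨3, 0x601028241a110a8643a21128a45a311a8e47d20924a259309a4e27cd06a361b8f07a3e1fcc06232198e0723a1dc502a160b8703a1e0fc40221209860321a0dc1e0d058240e0501, 0, 72, 0x0, []⟩]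

theorem t9_748_60 : jobs 8 S9 b8_748 j9_748_60 = true := by decide +kernel

noncomputable def j9_748_61 : List Job := [
  ⟨2, 0x68142a251a914aa653aa152aa55ab15aae57d48a6542a960b25e2fd40a2562b968b65c2ed04864523d008444234d06a361b8f07a3e1fcc06232198e0723a1dc502a160b8703a1e0fc40221209860321a0dc1e0d058240e0501, 0, 72, 0x0, []⟩]

theorem t9_748_61 : jobs 8 S9 b8_748 j9_748_61 = true := by decide +kernel

noncomputable def j9_748_62 : List Job := [
  ⟨1, 0x601028241a110a8643a21128a45a311a8e47d48a6542a960b25e2fd40a2562b968b65c2ed04864523d008444234d06a361b8f07a3e1fcc06232198e0723a1dc502a160b8703a1e0fc40221209860321a0dc1e0d058240e0501, 0, 72, 0x0, []⟩]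

theorem t9_748_62 : jobs 8 S9 b8_748 j9_748_62 = true := by decide +kernel

noncomputable def j9_748_63 : List Job := [
  ⟨0, 0x548a6542a960b25e2fd008242219108a4623cd06a361b8f07a3e1fcc06232198e0723a1dc381f0804c1e0d01, 0, 62, 0x0, []⟩]

theorem t9_748_63 : jobs 8 S9 b8_748 j9_748_63 = true := by decide +kernel

theorem d9_748 : Dn 8 S9 b8_748 := dn_of (Js := j9_748_0 ++ (j9_748_1 ++ (j9_748_2 ++ (j9_748_3 ++ (j9_748_4 ++ (j9_748_5 ++ (j9_748_6 ++ (j9_748_7 ++ (j9_748_8 ++ (j9_748_9 ++ (j9_748_10 ++ (j9_748_11 ++ (j9_748_12 ++ (j9_748_13 ++ (j9_748_14 ++ (j9_748_15 ++ (j9_748_16 ++ (j9_748_17 ++ (j9_748_18 ++ (j9_748_19 ++ (j9_748_20 ++ (j9_748_21 ++ (j9_748_22 ++ (j9_748_23 ++ (j9_748_24 ++ (j9_748_25 ++ (j9_748_26 ++ (j9_748_27 ++ (j9_748_28 ++ (j9_748_29 ++ (j9_748_30 ++ (j9_748_31 ++ (j9_748_32 ++ (j9_748_33 ++ (j9_748_34 ++ (j9_748_35 ++ (j9_748_36 ++ (j9_748_37 ++ (j9_748_38 ++ (j9_748_39 ++ (j9_748_40 ++ (j9_748_41 ++ (j9_748_42 ++ (j9_748_43 ++ (j9_748_44 ++ (j9_748_45 ++ (j9_748_46 ++ (j9_748_47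 ++ (j9_748_48 ++ (j9_748_49 ++ (j9_748_50 ++ (j9_748_51 ++ (j9_748_52 ++ (j9_748_53 ++ (j9_748_54 ++ (j9_748_55 ++ (j9_748_56 ++ (j9_748_57 ++ (j9_748_58 ++ (j9_748_59 ++ (j9_748_60 ++ (j9_748_61 ++ (j9_748_62 ++ (j9_748_63 ++ []))))))))))))))))))))))))))))))))))))))))))))))))))))))))))))))))
  (jobs_append t9_748_0 <| jobs_append t9_748_1 <| jobs_append t9_748_2 <| jobs_append t9_748_3 <| jobs_append t9_748_4 <| jobs_append t9_748_5 <| jobs_append t9_748_6 <| jobs_append t9_748_7 <| jobs_append t9_748_8 <| jobs_append t9_748_9 <| jobs_append t9_748_10 <| jobs_append t9_748_11 <| jobs_append t9_748_12 <| jobs_append t9_748_13 <| jobs_append t9_748_14 <| jobs_append t9_748_15 <| jobs_append t9_748_16 <| jobs_append t9_748_17 <| jobs_append t9_748_18 <| jobs_append t9_748_19 <| jobs_append t9_748_20 <| jobs_append t9_748_21 <| jobs_append t9_748_22 <| jobs_append t9_748_23 <| jobs_append t9_748_24 <| jobs_append t9_748_25 <| jobs_append t9_748_26 <| jobs_append t9_748_27 <| jobs_append t9_748_28 <|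 jobs_append t9_748_29 <| jobs_append t9_748_30 <| jobs_append t9_748_31 <| jobs_append t9_748_32 <| jobs_append t9_748_33 <| jobs_append t9_748_34 <| jobs_append t9_748_35 <| jobs_append t9_748_36 <| jobs_append t9_748_37 <| jobs_append t9_748_38 <| jobs_append t9_748_39 <| jobs_append t9_748_40 <| jobs_append t9_748_41 <| jobs_append t9_748_42 <| jobs_append t9_748_43 <| jobs_append t9_748_44 <| jobs_append t9_748_45 <| jobs_append t9_748_46 <| jobs_append t9_748_47 <| jobs_append t9_748_48 <| jobs_append t9_748_49 <| jobs_append t9_748_50 <| jobs_append t9_748_51 <| jobs_append t9_748_52 <| jobs_append t9_748_53 <| jobs_append t9_748_54 <| jobs_append t9_748_55 <| jobs_append t9_748_56 <| jobs_append t9_748_57 <| jobs_append t9_748_58 <| jobs_append t9_748_59 <| jobs_append t9_748_60 <| jobs_append t9_748_61 <| jobs_append t9_748_62 <| jobs_append t9_748_63 <| List.forall_mem_nil _) (by decide +kernel)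

noncomputable def j9_749_0 : List Job := [
  ⟨63, 0x601028241a110a8643a21128a45a311a8e47d008242219108a4623920924a259309a4e27c804222118904a2613c402212098502a160bc28170804c0e0501, 0, 72, 0x0, []⟩]

theorem t9_749_0 : jobs 8 S9 b8_749 j9_749_0 = true := by decide +kernel

noncomputable def j9_749_1 : List Job := [
  ⟨62, 0x4804222118904a2613c402212098502a160bc1e0d058240e0501, 0, 20, 0x0, []⟩]

theorem t9_749_1 : jobs 8 S9 b8_749 j9_749_1 = true := by decide +kernel

noncomputable def j9_749_2 : List Job := [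
  ⟨61, 0x5008242219108a4623920924a259309a4e27c804222118904a2613c402212098502a160bc1e0d058240e0501, 0, 32, 0x0, []⟩]

theorem t9_749_2 : jobs 8 S9 b8_749 j9_749_2 = true := by decide +kernel

noncomputable def j9_749_3 : List Job := [
  ⟨60, 0x601028241a110a8643a21128a45a311a8e47d008242219108a4623920924a259309a4e27c804222118904a2613c402212098502a160bc1e0d058240e0501, 0, 20, 0x0, []⟩]

theorem t9_749_3 : jobs 8 S9 b8_749 j9_749_3 = true := by decide +kernel

noncomputable def j9_749_4 : List Job := [
  ⟨59, 0x4804222118904a2613c402212098502a160bc1e0d058240e0501, 0, 20, 0x0, []⟩]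

theorem t9_749_4 : jobs 8 S9 b8_749 j9_749_4 = true := by decide +kernel

noncomputable def j9_749_5 : List Job := [
  ⟨58, 0x5008242219108a4623920924a259309a4e27c804222118904a2613c402212098502a160bc1e0d058240e0501, 0, 32, 0x0, []⟩]

theorem t9_749_5 : jobs 8 S9 b8_749 j9_749_5 = true := by decide +kernel

noncomputable def j9_749_6 : List Job := [
  ⟨57, 0x601028241a110a8643a21128a45a311a8e47d008242219108a4623920924a259309a4e27c804222118904a2613c402212098502a160bc1e0d058240e0501, 0, 20, 0x0, []⟩]

theorem t9_749_6 : jobs 8 S9 b8_749 j9_749_6 = true := by decide +kernel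

noncomputable def j9_749_7 : List Job := [
  ⟨56, 0x4804222118904a2613c4424140bc4026150b41e0d058240e0501, 0, 32, 0x0, []⟩]

theorem t9_749_7 : jobs 8 S9 b8_749 j9_749_7 = true := by decide +kernel

noncomputable def j9_749_8 : List Job := [
  ⟨55, 0x601028241a110a8643a21128a45a311a8e47c804222118904a2613c4424140bc4026150b41e0d058240e0501, 0, 32, 0x0, []⟩]

theorem t9_749_8 : jobs 8 S9 b8_749 j9_749_8 = true := by decide +kernel

noncomputable def j9_749_9 : List Job := [
  ⟨54, 0x5008242219108a4623920924a259309a4e27c804222118904a2613c4424140bc4026150b41e0d058240e0501, 0, 32, 0x0, []⟩]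

theorem t9_749_9 : jobs 8 S9 b8_749 j9_749_9 = true := by decide +kernel

noncomputable def j9_749_10 : List Job := [
  ⟨53, 0x601028241a110a8643a21128a45a311a8e47d008242219108a4623920924a259309a4e27c804222118904a2613c4424140bc4026150b41e0d058240e0501, 0, 32, 0x0, []⟩]

theorem t9_749_10 : jobs 8 S9 b8_749 j9_749_10 = true := by decide +kernel

noncomputable def j9_749_11 : List Job := [
  ⟨52, 0x484462513c8044241344424150b44026140bc1e0d058240e0501, 0, 20, 0x0, []⟩]

theorem t9_749_11 : jobs 8 S9 b8_749 j9_749_11 = true := by decide +kernel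

noncomputable def j9_749_12 : List Job := [
  ⟨51, 0x5008242219108a4623920924a259309a4e27c84462513c8044241344424150b44026140bc1e0d058240e0501, 0, 32, 0x0, []⟩]

theorem t9_749_12 : jobs 8 S9 b8_749 j9_749_12 = true := by decide +kernel

noncomputable def j9_749_13 : List Job := [
  ⟨50, 0x601028241a110a8643a21128a45a311a8e47d008242219108a4623920924a259309a4e27c84462513c8044241344424150b44026140bc1e0d058240e0501, 0, 20, 0x0, []⟩]

theorem t9_749_13 : jobs 8 S9 b8_749 j9_749_13 = true := by decide +kernel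

noncomputable def j9_749_14 : List Job := [
  ⟨49, 0x4804222118904a2613c4426140b44024150bc1e0d058240e0501, 0, 32, 0x0, []⟩]

theorem t9_749_14 : jobs 8 S9 b8_749 j9_749_14 = true := by decide +kernel

noncomputable def j9_749_15 : List Job := [
  ⟨48, 0x601028241a110a8643a21128a45a311a8e47c804222118904a2613c4426140b44024150bc1e0d058240e0501, 0, 32, 0x0, []⟩]

theorem t9_749_15 : jobs 8 S9 b8_749 j9_749_15 = true := by decide +kernel

noncomputable def j9_749_16 : List Job := [
  ⟨47, 0x5008242219108a4623920924a259309a4e27c804222118904a2613c4426140b44024150bc1e0d058240e0501, 0, 32, 0x0, []⟩]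

theorem t9_749_16 : jobs 8 S9 b8_749 j9_749_16 = true := by decide +kernel

noncomputable def j9_749_17 : List Job := [
  ⟨46, 0x601028241a110a8643a21128a45a311a8e47d008242219108a4623920924a259309a4e27c804222118904a2613c4426140b44024150bc1e0d058240e0501, 0, 32, 0x0, []⟩]

theorem t9_749_17 : jobs 8 S9 b8_749 j9_749_17 = true := by decide +kernel

noncomputable def j9_749_18 : List Job := [
  ⟨45, 0x484462513c8044241344426150bc4024140b41e0d058240e0501, 0, 20, 0x0, []⟩]

theorem t9_749_18 : jobs 8 S9 b8_749 j9_749_18 = true := by decide +kernel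

noncomputable def j9_749_19 : List Job := [
  ⟨44, 0x5008242219108a4623920924a259309a4e27c84462513c8044241344426150bc4024140b41e0d058240e0501, 0, 32, 0x0, []⟩]

theorem t9_749_19 : jobs 8 S9 b8_749 j9_749_19 = true := by decide +kernel

noncomputable def j9_749_20 : List Job := [
  ⟨43, 0x601028241a110a8643a21128a45a311a8e47d008242219108a4623920924a259309a4e27c84462513c8044241344426150bc4024140b41e0d058240e0501, 0, 46, 0x5201005401, []⟩]

theorem t9_749_20 : jobs 8 S9 b8_749 j9_749_20 = true := by decide +kernel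

noncomputable def j9_749_21 : List Job := [
  ⟨25, 0x4c466391dcc064381d44426190dc4024180d42e15098440e0501, 0, 2, 0x0, []⟩]

theorem t9_749_21 : jobs 8 S9 b8_749 j9_749_21 = true := by decide +kernel

noncomputable def j9_749_22 : List Job := [
  ⟨23, 0x4c466391dcc064381d44426190dc4024180d42e15098440e0501, 0, 20, 0x0, []⟩]

theorem t9_749_22 : jobs 8 S9 b8_749 j9_749_22 = true := by decide +kernel

noncomputable def j9_749_23 : List Job := [
  ⟨5, 0x68142a251a914aa653aa152aa55ab15aae57e01028241a110a8643a21128a45a311a8e47cc466381d4c064391dc4426180d44024190dc2e15098440e0501, 0, 3, 0x0, []⟩]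

theorem t9_749_23 : jobs 8 S9 b8_749 j9_749_23 = true := by decide +kernel

noncomputable def j9_749_24 : List Job := [
  ⟨3, 0x68142a251a914aa653aa152aa55ab15aae57e01028241a110a8643a21128a45a311a8e47cc466391dcc064381d44426190dc4024180d42e15098440e0501, 0, 20, 0x0, []⟩]

theorem t9_749_24 : jobs 8 S9 b8_749 j9_749_24 = true := by decide +kernel

noncomputable def j9_749_25 : List Job := [
  ⟨2, 0x520924a259309a4e27d008242219108a4623cc06232198e0723a1dc40221209860321a0dc2e15098440e0501, 0, 8, 0x601000801000a01000c01, []⟩]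

theorem t9_749_25 : jobs 8 S9 b8_749 j9_749_25 = true := by decide +kernel

noncomputable def j9_749_26 : List Job := [
  ⟨1, 0x520924a259309a4e27d008242219108a4623cc06232198e0723a1dc40221209860321a0dc2e15098440e0501, 0, 8, 0x601000801000a01000c01, []⟩]

theorem t9_749_26 : jobs 8 S9 b8_749 j9_749_26 = true := by decide +kernel

noncomputable def j9_749_27 : List Job := [
  ⟨0, 0x520924a259309a4e27d008242219108a4623cc464381dcc066391d440221209860321a0dc2e15098440e0501, 0, 8, 0x202000401000802000c02000e02001001, []⟩]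

theorem t9_749_27 : jobs 8 S9 b8_749 j9_749_27 = true := by decide +kernel

theorem d9_749 : Dn 8 S9 b8_749 := dn_of (Js := j9_749_0 ++ (j9_749_1 ++ (j9_749_2 ++ (j9_749_3 ++ (j9_749_4 ++ (j9_749_5 ++ (j9_749_6 ++ (j9_749_7 ++ (j9_749_8 ++ (j9_749_9 ++ (j9_749_10 ++ (j9_749_11 ++ (j9_749_12 ++ (j9_749_13 ++ (j9_749_14 ++ (j9_749_15 ++ (j9_749_16 ++ (j9_749_17 ++ (j9_749_18 ++ (j9_749_19 ++ (j9_749_20 ++ (j9_749_21 ++ (j9_749_22 ++ (j9_749_23 ++ (j9_749_24 ++ (j9_749_25 ++ (j9_749_26 ++ (j9_749_27 ++ []))))))))))))))))))))))))))))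
  (jobs_append t9_749_0 <| jobs_append t9_749_1 <| jobs_append t9_749_2 <| jobs_append t9_749_3 <| jobs_append t9_749_4 <| jobs_append t9_749_5 <| jobs_append t9_749_6 <| jobs_append t9_749_7 <| jobs_append t9_749_8 <| jobs_append t9_749_9 <| jobs_append t9_749_10 <| jobs_append t9_749_11 <| jobs_append t9_749_12 <| jobs_append t9_749_13 <| jobs_append t9_749_14 <| jobs_append t9_749_15 <| jobs_append t9_749_16 <| jobs_append t9_749_17 <| jobs_append t9_749_18 <| jobs_append t9_749_19 <| jobs_append t9_749_20 <| jobs_append t9_749_21 <| jobs_append t9_749_22 <| jobs_append t9_749_23 <| jobs_append t9_749_24 <| jobs_append t9_749_25 <| jobs_append t9_749_26 <| jobs_append t9_749_27 <| List.forall_mem_nil _) (by decide +kernel)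

noncomputable def j9_750_0 : List Job := [
  ⟨63, 0x621128a45a311a8e47e01028241a110a8643cc06232198e0723a1dc40221209860321a0dc2e15098440e0501, 0, 8, 0x0, []⟩]

theorem t9_750_0 : jobs 8 S9 b8_750 j9_750_0 = true := by decide +kernel

noncomputable def j9_750_1 : List Job := [
  ⟨62, 0x5008242219108a4623920924a259309a4e27cc06232198e0723a1dc40221209860321a0dc2e15098440e0501, 0, 8, 0x0, []⟩]

theorem t9_750_1 : jobs 8 S9 b8_750 j9_750_1 = true := by decide +kernel

noncomputable def j9_750_2 : List Job := [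
  ⟨61, 0x621128a45a311a8e47e01028241a110a8643d008242219108a4623920924a259309a4e27cc06232198e0723a1dc40221209860321a0dc2e15098440e0501, 0, 8, 0x0, []⟩]

theorem t9_750_2 : jobs 8 S9 b8_750 j9_750_2 = true := by decide +kernel

noncomputable def j9_750_3 : List Job := [
  ⟨60, 0x4c466391dcc064381d44424190d44026180dc2e15098440e0501, 0, 8, 0x202000802000a02001002, []⟩]

theorem t9_750_3 : jobs 8 S9 b8_750 j9_750_3 = true := by decide +kernel

noncomputable def j9_750_4 : List Job := [
  ⟨59, 0x621128a45a311a8e47e01028241a110a8643cc466391dcc064381d44424190d44026180dc2e15098440e0501, 0, 8, 0x202000802000a02001002, []⟩]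

theorem t9_750_4 : jobs 8 S9 b8_750 j9_750_4 = true := by decide +kernel

noncomputable def j9_750_5 : List Job := [
  ⟨58, 0x5008242219108a4623920924a259309a4e27cc466391dcc064381d44424190d44026180dc2e15098440e0501, 0, 8, 0x202000802000a02001002, []⟩]

theorem t9_750_5 : jobs 8 S9 b8_750 j9_750_5 = true := by decide +kernel

noncomputable def j9_750_6 : List Job := [
  ⟨57, 0x621128a45a311a8e47e01028241a110a8643d008242219108a4623920924a259309a4e27cc466391dcc064381d44424190d44026180dc2e15098440e0501, 0, 14, 0x202000802000a02001002001201001600001800, [(11, ⟨2269, 0x20c00490008c00130041001030002000010000001, 0x1842189028020401402⟩), (10, ⟨2268, 0x20c00490008c00130041001030002000010000001, 0x1842189028020401402⟩)]⟩]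

theorem t9_750_6 : jobs 8 S9 b8_750 j9_750_6 = true := by decide +kernel

noncomputable def j9_750_7 : List Job := [
  ⟨56, 0x4c06232198e0723a1dc4424190d44026180dc2e15098440e0501, 0, 8, 0x0, []⟩]

theorem t9_750_7 : jobs 8 S9 b8_750 j9_750_7 = true := by decide +kernel

noncomputable def j9_750_8 : List Job := [
  ⟨55, 0x621128a45a311a8e47e01028241a110a8643cc06232198e0723a1dc4424190d44026180dc2e15098440e0501, 0, 8, 0x0, []⟩]

theorem t9_750_8 : jobs 8 S9 b8_750 j9_750_8 = true := by decide +kernel

noncomputable def j9_750_9 : List Job := [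
  ⟨54, 0x5008242219108a4623920924a259309a4e27cc06232198e0723a1dc4424190d44026180dc2e15098440e0501, 0, 8, 0x0, []⟩]

theorem t9_750_9 : jobs 8 S9 b8_750 j9_750_9 = true := by decide +kernel

noncomputable def j9_750_10 : List Job := [
  ⟨53, 0x621128a45a311a8e47e01028241a110a8643d008242219108a4623920924a259309a4e27cc06232198e0723a1dc4424190d44026180dc2e15098440e0501, 0, 8, 0x0, []⟩]

theorem t9_750_10 : jobs 8 S9 b8_750 j9_750_10 = true := by decide +kernel

noncomputable def j9_750_11 : List Job := [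
  ⟨52, 0x4c06232198e0723a1dc4426190dc4024180d42e15098440e0501, 0, 8, 0x0, []⟩]

theorem t9_750_11 : jobs 8 S9 b8_750 j9_750_11 = true := by decide +kernel

noncomputable def j9_750_12 : List Job := [
  ⟨51, 0x621128a45a311a8e47e01028241a110a8643cc06232198e0723a1dc4426190dc4024180d42e15098440e0501, 0, 8, 0x0, []⟩]

theorem t9_750_12 : jobs 8 S9 b8_750 j9_750_12 = true := by decide +kernel

noncomputable def j9_750_13 : List Job := [
  ⟨50, 0x5008242219108a4623920924a259309a4e27cc06232198e0723a1dc4426190dc4024180d42e15098440e0501, 0, 8, 0x0, []⟩]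

theorem t9_750_13 : jobs 8 S9 b8_750 j9_750_13 = true := by decide +kernel

noncomputable def j9_750_14 : List Job := [
  ⟨49, 0x621128a45a311a8e47e01028241a110a8643d008242219108a4623920924a259309a4e27cc06232198e0723a1dc4426190dc4024180d42e15098440e0501, 0, 8, 0x0, []⟩]

theorem t9_750_14 : jobs 8 S9 b8_750 j9_750_14 = true := by decide +kernel

noncomputable def j9_750_15 : List Job := [
  ⟨48, 0x4c466391dcc064381d44426190dc4024180d42e15098440e0501, 0, 8, 0x202000802000a02001002, []⟩]

theorem t9_750_15 : jobs 8 S9 b8_750 j9_750_15 = true := by decide +kernel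

noncomputable def j9_750_16 : List Job := [
  ⟨47, 0x621128a45a311a8e47e01028241a110a8643cc466391dcc064381d44426190dc4024180d42e15098440e0501, 0, 8, 0x202000802000a02001002, []⟩]

theorem t9_750_16 : jobs 8 S9 b8_750 j9_750_16 = true := by decide +kernel

noncomputable def j9_750_17 : List Job := [
  ⟨46, 0x5008242219108a4623920924a259309a4e27cc466391dcc064381d44426190dc4024180d42e15098440e0501, 0, 8, 0x202000802000a02001002, []⟩]

theorem t9_750_17 : jobs 8 S9 b8_750 j9_750_17 = true := by decide +kernel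

noncomputable def j9_750_18 : List Job := [
  ⟨45, 0x621128a45a311a8e47e01028241a110a8643d008242219108a4623920924a259309a4e27cc466391dcc064381d44426190dc4024180d42e15098440e0501, 0, 42, 0x4202004802004a02005002005201, []⟩]

theorem t9_750_18 : jobs 8 S9 b8_750 j9_750_18 = true := by decide +kernel

noncomputable def j9_750_19 : List Job := [
  ⟨32, 0x68142a251a914aa653aa152aa55ab15aae57d008242219108a4623920924a259309a4e27c84462915c8044281544424190d44026180dc2e15098440e0501, 0, 3, 0x201, []⟩]

theorem t9_750_19 : jobs 8 S9 b8_750 j9_750_19 = true := by decide +kernel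

noncomputable def j9_750_20 : List Job := [
  ⟨25, 0x68142a251a914aa653aa152aa55ab15aae57d008242219108a4623920924a259309a4e27c84462915c8044281544426190dc4024180d42e15098440e0501, 0, 20, 0x0, []⟩]

theorem t9_750_20 : jobs 8 S9 b8_750 j9_750_20 = true := by decide +kernel

noncomputable def j9_750_21 : List Job := [
  ⟨24, 0x43e1d0d8640e0501, 0, 20, 0x0, []⟩]

theorem t9_750_21 : jobs 8 S9 b8_750 j9_750_21 = true := by decide +kernel

noncomputable def j9_750_22 : List Job := [
  ⟨23, 0x5008242219108a4623920924a259309a4e27c3e1d0d8640e0501, 0, 32, 0x0, []⟩]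

theorem t9_750_22 : jobs 8 S9 b8_750 j9_750_22 = true := by decide +kernel

noncomputable def j9_750_23 : List Job := [
  ⟨22, 0x601028241a110a8643a21128a45a311a8e47d008242219108a4623920924a259309a4e27c3e1d0d8640e0501, 0, 20, 0x0, []⟩]

theorem t9_750_23 : jobs 8 S9 b8_750 j9_750_23 = true := by decide +kernel

noncomputable def j9_750_24 : List Job := [
  ⟨21, 0x43e1d0d8640e0501, 0, 20, 0x0, []⟩]

theorem t9_750_24 : jobs 8 S9 b8_750 j9_750_24 = true := by decide +kernel

noncomputable def j9_750_25 : List Job := [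
  ⟨20, 0x5008242219108a4623920924a259309a4e27c3e1d0d8640e0501, 0, 32, 0x0, []⟩]

theorem t9_750_25 : jobs 8 S9 b8_750 j9_750_25 = true := by decide +kernel

noncomputable def j9_750_26 : List Job := [
  ⟨19, 0x601028241a110a8643a21128a45a311a8e47d008242219108a4623920924a259309a4e27c3e1d0d8640e0501, 0, 20, 0x0, []⟩]

theorem t9_750_26 : jobs 8 S9 b8_750 j9_750_26 = true := by decide +kernel

noncomputable def j9_750_27 : List Job := [
  ⟨18, 0x460321a0d8703a1e0fc402212098502a160bc3e1d0d8640e0501, 0, 32, 0x0, []⟩]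

theorem t9_750_27 : jobs 8 S9 b8_750 j9_750_27 = true := by decide +kernel

noncomputable def j9_750_28 : List Job := [
  ⟨17, 0x601028241a110a8643a21128a45a311a8e47c60321a0d8703a1e0fc402212098502a160bc3e1d0d8640e0501, 0, 32, 0x0, []⟩]

theorem t9_750_28 : jobs 8 S9 b8_750 j9_750_28 = true := by decide +kernel

noncomputable def j9_750_29 : List Job := [
  ⟨16, 0x5008242219108a4623920924a259309a4e27c60321a0d8703a1e0fc402212098502a160bc3e1d0d8640e0501, 0, 32, 0x0, []⟩]

theorem t9_750_29 : jobs 8 S9 b8_750 j9_750_29 = true := by decide +kernel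

noncomputable def j9_750_30 : List Job := [
  ⟨15, 0x601028241a110a8643a21128a45a311a8e47d008242219108a4623920924a259309a4e27c60321a0d8703a1e0fc402212098502a160bc3e1d0d8640e0501, 0, 32, 0x0, []⟩]

theorem t9_750_30 : jobs 8 S9 b8_750 j9_750_30 = true := by decide +kernel

noncomputable def j9_750_31 : List Job := [
  ⟨14, 0x460321a0d8703a1e0fc402212098502a160bc3e1d0d8640e0501, 0, 32, 0x0, []⟩]

theorem t9_750_31 : jobs 8 S9 b8_750 j9_750_31 = true := by decide +kernel

noncomputable def j9_750_32 : List Job := [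
  ⟨13, 0x601028241a110a8643a21128a45a311a8e47c60321a0d8703a1e0fc402212098502a160bc3e1d0d8640e0501, 0, 32, 0x0, []⟩]

theorem t9_750_32 : jobs 8 S9 b8_750 j9_750_32 = true := by decide +kernel

noncomputable def j9_750_33 : List Job := [
  ⟨12, 0x5008242219108a4623920924a259309a4e27c60321a0d8703a1e0fc402212098502a160bc3e1d0d8640e0501, 0, 32, 0x0, []⟩]

theorem t9_750_33 : jobs 8 S9 b8_750 j9_750_33 = true := by decide +kernel

noncomputable def j9_750_34 : List Job := [
  ⟨11, 0x601028241a110a8643a21128a45a311a8e47d008242219108a4623920924a259309a4e27c60321a0d8703a1e0fc402212098502a160bc3e1d0d8640e0501, 0, 32, 0x0, []⟩]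

theorem t9_750_34 : jobs 8 S9 b8_750 j9_750_34 = true := by decide +kernel

noncomputable def j9_750_35 : List Job := [
  ⟨10, 0x4a0522a158b05a2e17c804222118904a2613c60321a0d8703a1e0fc402212098502a160bc3e1d0d8640e0501, 0, 20, 0x0, []⟩]

theorem t9_750_35 : jobs 8 S9 b8_750 j9_750_35 = true := by decide +kernel

noncomputable def j9_750_36 : List Job := [
  ⟨9, 0x5008242219108a4623920924a259309a4e27ca0522a158b05a2e17c804222118904a2613c60321a0d8703a1e0fc402212098502a160bc3e1d0d8640e0501, 0, 32, 0x0, []⟩]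

theorem t9_750_36 : jobs 8 S9 b8_750 j9_750_36 = true := by decide +kernel

noncomputable def j9_750_37 : List Job := [
  ⟨8, 0x601028241a110a8643a21128a45a311a8e47d008242219108a4623920924a259309a4e27ca0522a158b05a2e17c804222118904a2613c60321a0d8703a1e0fc402212098502a160bc3e1d0d8640e0501, 0, 46, 0x2a01002c01, []⟩]

theorem t9_750_37 : jobs 8 S9 b8_750 j9_750_37 = true := by decide +kernel

noncomputable def j9_750_38 : List Job := [
  ⟨7, 0x4a0522a158b05a2e17c804222118904a2613c60321a0d8703a1e0fc402212098502a160bc3e1d0d8640e0501, 0, 20, 0x0, []⟩]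

theorem t9_750_38 : jobs 8 S9 b8_750 j9_750_38 = true := by decide +kernel

noncomputable def j9_750_39 : List Job := [
  ⟨6, 0x5008242219108a4623920924a259309a4e27ca0522a158b05a2e17c804222118904a2613c60321a0d8703a1e0fc402212098502a160bc3e1d0d8640e0501, 0, 32, 0x0, []⟩]

theorem t9_750_39 : jobs 8 S9 b8_750 j9_750_39 = true := by decide +kernel

noncomputable def j9_750_40 : List Job := [
  ⟨5, 0x601028241a110a8643a21128a45a311a8e47d008242219108a4623920924a259309a4e27ca0522a158b05a2e17c804222118904a2613c60321a0d8703a1e0fc402212098502a160bc3e1d0d8640e0501, 0, 20, 0x0, []⟩]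

theorem t9_750_40 : jobs 8 S9 b8_750 j9_750_40 = true := by decide +kernel

noncomputable def j9_750_41 : List Job := [
  ⟨4, 0x4804222118904a2613c402212098502a160bc28170804c0e0501, 0, 72, 0x0, []⟩]

theorem t9_750_41 : jobs 8 S9 b8_750 j9_750_41 = true := by decide +kernel

noncomputable def j9_750_42 : List Job := [
  ⟨3, 0x5008242219108a4623920924a259309a4e27c804222118904a2613c402212098502a160bc28170804c0e0501, 0, 128, 0x0, []⟩]

theorem t9_750_42 : jobs 8 S9 b8_750 j9_750_42 = true := by decide +kernel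

noncomputable def j9_750_43 : List Job := [
  ⟨2, 0x601028241a110a8643a21128a45a311a8e47d008242219108a4623920924a259309a4e27c804222118904a2613c402212098502a160bc28170804c0e0501, 0, 72, 0x0, []⟩]

theorem t9_750_43 : jobs 8 S9 b8_750 j9_750_43 = true := by decide +kernel

noncomputable def j9_750_44 : List Job := [
  ⟨1, 0x4804222118904a2613c402212098502a160bc28170804c0e0501, 0, 72, 0x0, []⟩]

theorem t9_750_44 : jobs 8 S9 b8_750 j9_750_44 = true := by decide +kernel

noncomputable def j9_750_45 : List Job := [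
  ⟨0, 0x5008242219108a4623920924a259309a4e27c804222118904a2613c402212098502a160bc28170804c0e0501, 0, 128, 0x0, []⟩]

theorem t9_750_45 : jobs 8 S9 b8_750 j9_750_45 = true := by decide +kernel

theorem d9_750 : Dn 8 S9 b8_750 := dn_of (Js := j9_750_0 ++ (j9_750_1 ++ (j9_750_2 ++ (j9_750_3 ++ (j9_750_4 ++ (j9_750_5 ++ (j9_750_6 ++ (j9_750_7 ++ (j9_750_8 ++ (j9_750_9 ++ (j9_750_10 ++ (j9_750_11 ++ (j9_750_12 ++ (j9_750_13 ++ (j9_750_14 ++ (j9_750_15 ++ (j9_750_16 ++ (j9_750_17 ++ (j9_750_18 ++ (j9_750_19 ++ (j9_750_20 ++ (j9_750_21 ++ (j9_750_22 ++ (j9_750_23 ++ (j9_750_24 ++ (j9_750_25 ++ (j9_750_26 ++ (j9_750_27 ++ (j9_750_28 ++ (j9_750_29 ++ (j9_750_30 ++ (j9_750_31 ++ (j9_750_32 ++ (j9_750_33 ++ (j9_750_34 ++ (j9_750_35 ++ (j9_750_36 ++ (j9_750_37 ++ (j9_750_38 ++ (j9_750_39 ++ (j9_750_40 ++ (j9_750_41 ++ (j9_750_42 ++ (j9_750_43 ++ (j9_750_44 ++ (j9_750_45 ++ []))))))))))))))))))))))))))))))))))))))))))))))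
  (jobs_append t9_750_0 <| jobs_append t9_750_1 <| jobs_append t9_750_2 <| jobs_append t9_750_3 <| jobs_append t9_750_4 <| jobs_append t9_750_5 <| jobs_append t9_750_6 <| jobs_append t9_750_7 <| jobs_append t9_750_8 <| jobs_append t9_750_9 <| jobs_append t9_750_10 <| jobs_append t9_750_11 <| jobs_append t9_750_12 <| jobs_append t9_750_13 <| jobs_append t9_750_14 <| jobs_append t9_750_15 <| jobs_append t9_750_16 <| jobs_append t9_750_17 <| jobs_append t9_750_18 <| jobs_append t9_750_19 <| jobs_append t9_750_20 <| jobs_append t9_750_21 <| jobs_append t9_750_22 <| jobs_append t9_750_23 <| jobs_append t9_750_24 <| jobs_append t9_750_25 <| jobs_append t9_750_26 <| jobs_append t9_750_27 <| jobs_append t9_750_28 <| jobs_append t9_750_29 <| jobs_append t9_750_30 <| jobs_append t9_750_31 <| jobs_append t9_750_32 <| jobs_append t9_750_33 <| jobs_append t9_750_34 <| jobs_append t9_750_35 <| jobs_append t9_750_36 <| jobs_append t9_750_37 <| jobs_append t9_750_38 <| jobs_append t9_750_39 <| jobs_append t9_750_40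 <| jobs_append t9_750_41 <| jobs_append t9_750_42 <| jobs_append t9_750_43 <| jobs_append t9_750_44 <| jobs_append t9_750_45 <| List.forall_mem_nil _) (by decide +kernel)

noncomputable def j9_751_0 : List Job := [
  ⟨63, 0x68946a452aa152ae57e8142a653aa956ac56cc466391dcc064381d44426190dc4024180d42e15098440e0501, 0, 32, 0x0, []⟩]

theorem t9_751_0 : jobs 8 S9 b8_751 j9_751_0 = true := by decide +kernel

noncomputable def j9_751_1 : List Job := [
  ⟨62, 0x5008242219108a4623920924a259309a4e27cc466381d4c064391dc4426180d44024190dc2e15098440e0501, 0, 32, 0x0, []⟩]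

theorem t9_751_1 : jobs 8 S9 b8_751 j9_751_1 = true := by decide +kernel

noncomputable def j9_751_2 : List Job := [
  ⟨61, 0x68946a452aa152ae57e8142a653aa956ac56d008242219108a4623920924a259309a4e27cc466391dcc064381d44426190dc4024180d42e15098440e0501, 0, 72, 0x4201004401004601004801, []⟩]

theorem t9_751_2 : jobs 8 S9 b8_751 j9_751_2 = true := by decide +kernel

noncomputable def j9_751_3 : List Job := [
  ⟨60, 0x68142a653aa956ac56cd06a361b8f07a3e1fcc06232198e0723a1dc36190b8541e0d01, 0, 32, 0x0, []⟩]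

theorem t9_751_3 : jobs 8 S9 b8_751 j9_751_3 = true := by decide +kernel

noncomputable def j9_751_4 : List Job := [
  ⟨59, 0x68946a452aa152ae57cd06a361b8f07a3e1fcc06232198e0723a1dc36190b8541e0d01, 0, 32, 0x0, []⟩]

theorem t9_751_4 : jobs 8 S9 b8_751 j9_751_4 = true := by decide +kernel

noncomputable def j9_751_5 : List Job := [
  ⟨58, 0x68142a653aa956ac56d008242219108a4623920924a259309a4e27cd06a361b8f07a3e1fcc06232198e0723a1dc36190b8541e0d01, 0, 32, 0x0, []⟩]

theorem t9_751_5 : jobs 8 S9 b8_751 j9_751_5 = true := by decide +kernel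

noncomputable def j9_751_6 : List Job := [
  ⟨57, 0x68946a452aa152ae57d008242219108a4623920924a259309a4e27cd06a361b8f07a3e1fcc06232198e0723a1dc36190b8541e0d01, 0, 32, 0x0, []⟩]

theorem t9_751_6 : jobs 8 S9 b8_751 j9_751_6 = true := by decide +kernel

noncomputable def j9_751_7 : List Job := [
  ⟨56, 0x68d48a8576894aa957cd06a361b8f07a3e1fcc06232198e0723a1dc36190b8541e0d01, 0, 32, 0x0, []⟩]

theorem t9_751_7 : jobs 8 S9 b8_751 j9_751_7 = true := by decide +kernel

noncomputable def j9_751_8 : List Job := [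
  ⟨55, 0x6854cab56e814eaa564d06a361b8f07a3e1fcc06232198e0723a1dc36190b8541e0d01, 0, 32, 0x0, []⟩]

theorem t9_751_8 : jobs 8 S9 b8_751 j9_751_8 = true := by decide +kernel

noncomputable def j9_751_9 : List Job := [
  ⟨54, 0x68d48a8576894aa957d008242219108a4623920924a259309a4e27cd06a361b8f07a3e1fcc06232198e0723a1dc36190b8541e0d01, 0, 32, 0x0, []⟩]

theorem t9_751_9 : jobs 8 S9 b8_751 j9_751_9 = true := by decide +kernel

noncomputable def j9_751_10 : List Job := [
  ⟨53, 0x6854cab56e814eaa565008242219108a4623920924a259309a4e27cd06a361b8f07a3e1fcc06232198e0723a1dc36190b8541e0d01, 0, 32, 0x0, []⟩]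

theorem t9_751_10 : jobs 8 S9 b8_751 j9_751_10 = true := by decide +kernel

noncomputable def j9_751_11 : List Job := [
  ⟨52, 0x68946a452aa152ae57c36190b8541e0d01, 0, 32, 0x0, []⟩]

theorem t9_751_11 : jobs 8 S9 b8_751 j9_751_11 = true := by decide +kernel

noncomputable def j9_751_12 : List Job := [
  ⟨51, 0x68142a653aa956ac56c36190b8541e0d01, 0, 32, 0x0, []⟩]

theorem t9_751_12 : jobs 8 S9 b8_751 j9_751_12 = true := by decide +kernel

noncomputable def j9_751_13 : List Job := [
  ⟨50, 0x68946a452aa152ae57d008242219108a4623920924a259309a4e27c36190b8541e0d01, 0, 32, 0x0, []⟩]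

theorem t9_751_13 : jobs 8 S9 b8_751 j9_751_13 = true := by decide +kernel

noncomputable def j9_751_14 : List Job := [
  ⟨49, 0x68142a653aa956ac56d008242219108a4623920924a259309a4e27c36190b8541e0d01, 0, 32, 0x0, []⟩]

theorem t9_751_14 : jobs 8 S9 b8_751 j9_751_14 = true := by decide +kernel

noncomputable def j9_751_15 : List Job := [
  ⟨48, 0x6854caa566814eab56c36190b8541e0d01, 0, 32, 0x0, []⟩]

theorem t9_751_15 : jobs 8 S9 b8_751 j9_751_15 = true := by decide +kernel

noncomputable def j9_751_16 : List Job := [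
  ⟨47, 0x68d48a957e894aa857436190b8541e0d01, 0, 32, 0x0, []⟩]

theorem t9_751_16 : jobs 8 S9 b8_751 j9_751_16 = true := by decide +kernel

noncomputable def j9_751_17 : List Job := [
  ⟨46, 0x6854caa566814eab56d008242219108a4623920924a259309a4e27c36190b8541e0d01, 0, 32, 0x0, []⟩]

theorem t9_751_17 : jobs 8 S9 b8_751 j9_751_17 = true := by decide +kernel

noncomputable def j9_751_18 : List Job := [
  ⟨45, 0x68d48a957e894aa8575008242219108a4623920924a259309a4e27c36190b8541e0d01, 0, 32, 0x0, []⟩]

theorem t9_751_18 : jobs 8 S9 b8_751 j9_751_18 = true := by decide +kernel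

noncomputable def j9_751_19 : List Job := [
  ⟨44, 0x68142a653aa956ac56c502a160b8703a1e0fc40221209860321a0dc36190b8541e0d01, 0, 32, 0x0, []⟩]

theorem t9_751_19 : jobs 8 S9 b8_751 j9_751_19 = true := by decide +kernel

noncomputable def j9_751_20 : List Job := [
  ⟨43, 0x68946a452aa152ae57c502a160b8703a1e0fc40221209860321a0dc36190b8541e0d01, 0, 32, 0x0, []⟩]

theorem t9_751_20 : jobs 8 S9 b8_751 j9_751_20 = true := by decide +kernel

noncomputable def j9_751_21 : List Job := [
  ⟨42, 0x68142a653aa956ac56d008242219108a4623920924a259309a4e27c502a160b8703a1e0fc40221209860321a0dc36190b8541e0d01, 0, 32, 0x0, []⟩]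

theorem t9_751_21 : jobs 8 S9 b8_751 j9_751_21 = true := by decide +kernel

noncomputable def j9_751_22 : List Job := [
  ⟨41, 0x68946a452aa152ae57d008242219108a4623920924a259309a4e27c502a160b8703a1e0fc40221209860321a0dc36190b8541e0d01, 0, 32, 0x0, []⟩]

theorem t9_751_22 : jobs 8 S9 b8_751 j9_751_22 = true := by decide +kernel

noncomputable def j9_751_23 : List Job := [
  ⟨40, 0x68d48a8576894aa957c502a160b8703a1e0fc40221209860321a0dc36190b8541e0d01, 0, 32, 0x0, []⟩]

theorem t9_751_23 : jobs 8 S9 b8_751 j9_751_23 = true := by decide +kernel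

noncomputable def j9_751_24 : List Job := [
  ⟨39, 0x6854cab56e814eaa564502a160b8703a1e0fc40221209860321a0dc36190b8541e0d01, 0, 32, 0x0, []⟩]

theorem t9_751_24 : jobs 8 S9 b8_751 j9_751_24 = true := by decide +kernel

noncomputable def j9_751_25 : List Job := [
  ⟨38, 0x68d48a8576894aa957d008242219108a4623920924a259309a4e27c502a160b8703a1e0fc40221209860321a0dc36190b8541e0d01, 0, 32, 0x0, []⟩]

theorem t9_751_25 : jobs 8 S9 b8_751 j9_751_25 = true := by decide +kernel

noncomputable def j9_751_26 : List Job := [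
  ⟨37, 0x6854cab56e814eaa565008242219108a4623920924a259309a4e27c502a160b8703a1e0fc40221209860321a0dc36190b8541e0d01, 0, 32, 0x0, []⟩]

theorem t9_751_26 : jobs 8 S9 b8_751 j9_751_26 = true := by decide +kernel

noncomputable def j9_751_27 : List Job := [
  ⟨36, 0x68946a452aa152ae57cd06a361b8f07a3e1fcc06232198e0723a1dc502a160b8703a1e0fc40221209860321a0dc36190b8541e0d01, 0, 32, 0x0, []⟩]

theorem t9_751_27 : jobs 8 S9 b8_751 j9_751_27 = true := by decide +kernel

noncomputable def j9_751_28 : List Job := [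
  ⟨35, 0x68142a653aa956ac56cd06a361b8f07a3e1fcc06232198e0723a1dc502a160b8703a1e0fc40221209860321a0dc36190b8541e0d01, 0, 32, 0x0, []⟩]

theorem t9_751_28 : jobs 8 S9 b8_751 j9_751_28 = true := by decide +kernel

noncomputable def j9_751_29 : List Job := [
  ⟨34, 0x68946a452aa152ae57d008242219108a4623920924a259309a4e27cd06a361b8f07a3e1fcc06232198e0723a1dc502a160b8703a1e0fc40221209860321a0dc36190b8541e0d01, 0, 32, 0x0, []⟩]

theorem t9_751_29 : jobs 8 S9 b8_751 j9_751_29 = true := by decide +kernel

noncomputable def j9_751_30 : List Job := [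
  ⟨33, 0x68142a653aa956ac56d008242219108a4623920924a259309a4e27cd06a361b8f07a3e1fcc06232198e0723a1dc502a160b8703a1e0fc40221209860321a0dc36190b8541e0d01, 0, 32, 0x0, []⟩]

theorem t9_751_30 : jobs 8 S9 b8_751 j9_751_30 = true := by decide +kernel

noncomputable def j9_751_31 : List Job := [
  ⟨32, 0x6854caa566814eab56cd06a361b8f07a3e1fcc06232198e0723a1dc502a160b8703a1e0fc40221209860321a0dc36190b8541e0d01, 0, 32, 0x0, []⟩]

theorem t9_751_31 : jobs 8 S9 b8_751 j9_751_31 = true := by decide +kernel

noncomputable def j9_751_32 : List Job := [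
  ⟨31, 0x68d48a957e894aa8574d06a361b8f07a3e1fcc06232198e0723a1dc502a160b8703a1e0fc40221209860321a0dc36190b8541e0d01, 0, 32, 0x0, []⟩]

theorem t9_751_32 : jobs 8 S9 b8_751 j9_751_32 = true := by decide +kernel

noncomputable def j9_751_33 : List Job := [
  ⟨30, 0x6854caa566814eab56d008242219108a4623920924a259309a4e27cd06a361b8f07a3e1fcc06232198e0723a1dc502a160b8703a1e0fc40221209860321a0dc36190b8541e0d01, 0, 72, 0x8201008401008601008801, []⟩]

theorem t9_751_33 : jobs 8 S9 b8_751 j9_751_33 = true := by decide +kernel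

noncomputable def j9_751_34 : List Job := [
  ⟨29, 0x68d48a957e894aa8575008242219108a4623920924a259309a4e27cd06a361b8f07a3e1fcc06232198e0723a1dc502a160b8703a1e0fc40221209860321a0dc36190b8541e0d01, 0, 40, 0x4200004600004a01, [(34, ⟨2271, 0x2340140004a8011a0001000020002000010040001, 0x18b200982c020401002⟩), (32, ⟨2270, 0x2340140004a8011a0001000020002000010040001, 0x18b200982c020401002⟩)]⟩]

theorem t9_751_34 : jobs 8 S9 b8_751 j9_751_34 = true := by decide +kernel

noncomputable def j9_751_35 : List Job := [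
  ⟨28, 0x68946a452aa152ae57cc06232198e0723a1dc40221209860321a0dc381f0b854100b01, 0, 128, 0x0, []⟩]

theorem t9_751_35 : jobs 8 S9 b8_751 j9_751_35 = true := by decide +kernel

noncomputable def j9_751_36 : List Job := [
  ⟨27, 0x68142a653aa956ac56cc06232198e0723a1dc40221209860321a0dc381f0b854100b01, 0, 128, 0x0, []⟩]

theorem t9_751_36 : jobs 8 S9 b8_751 j9_751_36 = true := by decide +kernel

noncomputable def j9_751_37 : List Job := [
  ⟨26, 0x68946a452aa152ae57d008242219108a4623920924a259309a4e27cc06232198e0723a1dc40221209860321a0dc381f0b854100b01, 0, 128, 0x0, []⟩]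

theorem t9_751_37 : jobs 8 S9 b8_751 j9_751_37 = true := by decide +kernel

noncomputable def j9_751_38 : List Job := [
  ⟨25, 0x68142a653aa956ac56d008242219108a4623920924a259309a4e27cc06232198e0723a1dc40221209860321a0dc381f0b854100b01, 0, 128, 0x0, []⟩]

theorem t9_751_38 : jobs 8 S9 b8_751 j9_751_38 = true := by decide +kernel

noncomputable def j9_751_39 : List Job := [
  ⟨24, 0x68142a653aa956ac56cc06232198e0723a1dc40221209860321a0dc381f0b854100b01, 0, 128, 0x0, []⟩]

theorem t9_751_39 : jobs 8 S9 b8_751 j9_751_39 = true := by decide +kernel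

noncomputable def j9_751_40 : List Job := [
  ⟨23, 0x68946a452aa152ae57cc06232198e0723a1dc40221209860321a0dc381f0b854100b01, 0, 128, 0x0, []⟩]

theorem t9_751_40 : jobs 8 S9 b8_751 j9_751_40 = true := by decide +kernel

noncomputable def j9_751_41 : List Job := [
  ⟨22, 0x68142a653aa956ac56d008242219108a4623920924a259309a4e27cc06232198e0723a1dc40221209860321a0dc381f0b854100b01, 0, 128, 0x0, []⟩]

theorem t9_751_41 : jobs 8 S9 b8_751 j9_751_41 = true := by decide +kernel

noncomputable def j9_751_42 : List Job := [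
  ⟨21, 0x68946a452aa152ae57d008242219108a4623920924a259309a4e27cc06232198e0723a1dc40221209860321a0dc381f0b854100b01, 0, 128, 0x0, []⟩]

theorem t9_751_42 : jobs 8 S9 b8_751 j9_751_42 = true := by decide +kernel

noncomputable def j9_751_43 : List Job := [
  ⟨20, 0x601028241a110a8643cd06a361b8f07a3e1fc301b0a05c180f01, 0, 64, 0x202001002001802001a02002202003002003802003a02004202005002005802005a02006202007002007802007a02, []⟩]

theorem t9_751_43 : jobs 8 S9 b8_751 j9_751_43 = true := by decide +kernel

noncomputable def j9_751_44 : List Job := [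
  ⟨19, 0x601028241a110a8643d008242219108a4623920924a259309a4e27cd06a361b8f07a3e1fc301b0a05c180f01, 0, 64, 0x202001002001802001a02002202003002003802003a02004202005002005802005a02006202007002007802007a02, []⟩]

theorem t9_751_44 : jobs 8 S9 b8_751 j9_751_44 = true := by decide +kernel

noncomputable def j9_751_45 : List Job := [
  ⟨18, 0x601028241a110a8643cc06232198e0723a1dc502a160b8703a1e0fc40221209860321a0dc301b0a05c180f01, 0, 64, 0x202001002001802001a02002202003002003802003a02004202005002005802005a02006202007002007802007a02, []⟩]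

theorem t9_751_45 : jobs 8 S9 b8_751 j9_751_45 = true := by decide +kernel

noncomputable def j9_751_46 : List Job := [
  ⟨17, 0x601028241a110a8643d008242219108a4623920924a259309a4e27cc06232198e0723a1dc502a160b8703a1e0fc40221209860321a0dc301b0a05c180f01, 0, 64, 0x202001002001802001a02002202003002003802003a02004202005002005802005a02006202007002007802007a02, []⟩]

theorem t9_751_46 : jobs 8 S9 b8_751 j9_751_46 = true := by decide +kernel

noncomputable def j9_751_47 : List Job := [
  ⟨16, 0x601028241a110a8643c40221209860321a0dc381f0a05c100b01, 0, 64, 0x0, []⟩]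

theorem t9_751_47 : jobs 8 S9 b8_751 j9_751_47 = true := by decide +kernel

noncomputable def j9_751_48 : List Job := [
  ⟨15, 0x601028241a110a8643d008242219108a4623920924a259309a4e27c40221209860321a0dc381f0a05c100b01, 0, 64, 0x0, []⟩]

theorem t9_751_48 : jobs 8 S9 b8_751 j9_751_48 = true := by decide +kernel

noncomputable def j9_751_49 : List Job := [
  ⟨14, 0x601028241a110a8643cd06a361b8f07a3e1fcc06232198e0723a1dc40221209860321a0dc381f0a05c100b01, 0, 64, 0x0, []⟩]

theorem t9_751_49 : jobs 8 S9 b8_751 j9_751_49 = true := by decide +kernel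

noncomputable def j9_751_50 : List Job := [
  ⟨13, 0x601028241a110a8643d008242219108a4623920924a259309a4e27cd06a361b8f07a3e1fcc06232198e0723a1dc40221209860321a0dc381f0a05c100b01, 0, 64, 0x0, []⟩]

theorem t9_751_50 : jobs 8 S9 b8_751 j9_751_50 = true := by decide +kernel

noncomputable def j9_751_51 : List Job := [
  ⟨12, 0x4c06232198e0723a1dc40221209860321a0dc2e15098440e0501, 0, 8, 0x0, []⟩]

theorem t9_751_51 : jobs 8 S9 b8_751 j9_751_51 = true := by decide +kernel

noncomputable def j9_751_52 : List Job := [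
  ⟨11, 0x621128a45a311a8e47e01028241a110a8643cc06232198e0723a1dc40221209860321a0dc2e15098440e0501, 0, 8, 0x0, []⟩]

theorem t9_751_52 : jobs 8 S9 b8_751 j9_751_52 = true := by decide +kernel

noncomputable def j9_751_53 : List Job := [
  ⟨10, 0x5008242219108a4623920924a259309a4e27cc06232198e0723a1dc40221209860321a0dc2e15098440e0501, 0, 8, 0x0, []⟩]

theorem t9_751_53 : jobs 8 S9 b8_751 j9_751_53 = true := by decide +kernel

noncomputable def j9_751_54 : List Job := [
  ⟨9, 0x621128a45a311a8e47e01028241a110a8643d008242219108a4623920924a259309a4e27cc06232198e0723a1dc40221209860321a0dc2e15098440e0501, 0, 8, 0x0, []⟩]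

theorem t9_751_54 : jobs 8 S9 b8_751 j9_751_54 = true := by decide +kernel

noncomputable def j9_751_55 : List Job := [
  ⟨8, 0x4c464391d4c066381dc40221209860321a0dc2e15098440e0501, 0, 8, 0x202000802000a02001002, []⟩]

theorem t9_751_55 : jobs 8 S9 b8_751 j9_751_55 = true := by decide +kernel

noncomputable def j9_751_56 : List Job := [
  ⟨7, 0x621128a45a311a8e47e01028241a110a8643cc464391d4c066381dc40221209860321a0dc2e15098440e0501, 0, 8, 0x202000802000a02001002, []⟩]

theorem t9_751_56 : jobs 8 S9 b8_751 j9_751_56 = true := by decide +kernel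

noncomputable def j9_751_57 : List Job := [
  ⟨6, 0x5008242219108a4623920924a259309a4e27cc464391d4c066381dc40221209860321a0dc2e15098440e0501, 0, 8, 0x202000802000a02001002, []⟩]

theorem t9_751_57 : jobs 8 S9 b8_751 j9_751_57 = true := by decide +kernel

noncomputable def j9_751_58 : List Job := [
  ⟨5, 0x621128a45a311a8e47e01028241a110a8643d008242219108a4623920924a259309a4e27cc464391d4c066381dc40221209860321a0dc2e15098440e0501, 0, 8, 0x202000802000a02001002, []⟩]

theorem t9_751_58 : jobs 8 S9 b8_751 j9_751_58 = true := by decide +kernel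

noncomputable def j9_751_59 : List Job := [
  ⟨4, 0x4c464391d4c066381dc40221209860321a0dc2e15098440e0501, 0, 8, 0x202000802000a02001002, []⟩]

theorem t9_751_59 : jobs 8 S9 b8_751 j9_751_59 = true := by decide +kernel

noncomputable def j9_751_60 : List Job := [
  ⟨3, 0x621128a45a311a8e47e01028241a110a8643cc464391d4c066381dc40221209860321a0dc2e15098440e0501, 0, 8, 0x202000802000a02001002, []⟩]

theorem t9_751_60 : jobs 8 S9 b8_751 j9_751_60 = true := by decide +kernel

noncomputable def j9_751_61 : List Job := [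
  ⟨2, 0x5008242219108a4623920924a259309a4e27cc464391d4c066381dc40221209860321a0dc2e15098440e0501, 0, 8, 0x202000802000a02001002, []⟩]

theorem t9_751_61 : jobs 8 S9 b8_751 j9_751_61 = true := by decide +kernel

noncomputable def j9_751_62 : List Job := [
  ⟨1, 0x621128a45a311a8e47e01028241a110a8643d008242219108a4623920924a259309a4e27cc464391d4c066381dc40221209860321a0dc2e15098440e0501, 0, 8, 0x202000802000a02001002, []⟩]

theorem t9_751_62 : jobs 8 S9 b8_751 j9_751_62 = true := by decide +kernel

noncomputable def j9_751_63 : List Job := [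
  ⟨0, 0x4c06232198e0723a1dc40221209860321a0dc2e15098440e0501, 0, 8, 0x0, []⟩]

theorem t9_751_63 : jobs 8 S9 b8_751 j9_751_63 = true := by decide +kernel

theorem d9_751 : Dn 8 S9 b8_751 := dn_of (Js := j9_751_0 ++ (j9_751_1 ++ (j9_751_2 ++ (j9_751_3 ++ (j9_751_4 ++ (j9_751_5 ++ (j9_751_6 ++ (j9_751_7 ++ (j9_751_8 ++ (j9_751_9 ++ (j9_751_10 ++ (j9_751_11 ++ (j9_751_12 ++ (j9_751_13 ++ (j9_751_14 ++ (j9_751_15 ++ (j9_751_16 ++ (j9_751_17 ++ (j9_751_18 ++ (j9_751_19 ++ (j9_751_20 ++ (j9_751_21 ++ (j9_751_22 ++ (j9_751_23 ++ (j9_751_24 ++ (j9_751_25 ++ (j9_751_26 ++ (j9_751_27 ++ (j9_751_28 ++ (j9_751_29 ++ (j9_751_30 ++ (j9_751_31 ++ (j9_751_32 ++ (j9_751_33 ++ (j9_751_34 ++ (j9_751_35 ++ (j9_751_36 ++ (j9_751_37 ++ (j9_751_38 ++ (j9_751_39 ++ (j9_751_40 ++ (j9_751_41 ++ (j9_751_42 ++ (j9_751_43 ++ (j9_751_44 ++ (j9_751_45 ++ (j9_751_46 ++ (j9_751_47 ++ (j9_751_48 ++ (j9_751_49 ++ (j9_751_50 ++ (j9_751_51 ++ (j9_751_52 ++ (j9_751_53 ++ (j9_751_54 ++ (j9_751_55 ++ (j9_751_56 ++ (j9_751_57 ++ (j9_751_58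 ++ (j9_751_59 ++ (j9_751_60 ++ (j9_751_61 ++ (j9_751_62 ++ (j9_751_63 ++ []))))))))))))))))))))))))))))))))))))))))))))))))))))))))))))))))
  (jobs_append t9_751_0 <| jobs_append t9_751_1 <| jobs_append t9_751_2 <| jobs_append t9_751_3 <| jobs_append t9_751_4 <| jobs_append t9_751_5 <| jobs_append t9_751_6 <| jobs_append t9_751_7 <| jobs_append t9_751_8 <| jobs_append t9_751_9 <| jobs_append t9_751_10 <| jobs_append t9_751_11 <| jobs_append t9_751_12 <| jobs_append t9_751_13 <| jobs_append t9_751_14 <| jobs_append t9_751_15 <| jobs_append t9_751_16 <| jobs_append t9_751_17 <| jobs_append t9_751_18 <| jobs_append t9_751_19 <| jobs_append t9_751_20 <| jobs_append t9_751_21 <| jobs_append t9_751_22 <| jobs_append t9_751_23 <| jobs_append t9_751_24 <| jobs_append t9_751_25 <| jobs_append t9_751_26 <| jobs_append t9_751_27 <| jobs_append t9_751_28 <| jobs_append t9_751_29 <| jobs_append t9_751_30 <| jobs_append t9_751_31 <| jobs_append t9_751_32 <| jobs_append t9_751_33 <| jobs_append t9_751_34 <| jobs_append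 t9_751_35 <| jobs_append t9_751_36 <| jobs_append t9_751_37 <| jobs_append t9_751_38 <| jobs_append t9_751_39 <| jobs_append t9_751_40 <| jobs_append t9_751_41 <| jobs_append t9_751_42 <| jobs_append t9_751_43 <| jobs_append t9_751_44 <| jobs_append t9_751_45 <| jobs_append t9_751_46 <| jobs_append t9_751_47 <| jobs_append t9_751_48 <| jobs_append t9_751_49 <| jobs_append t9_751_50 <| jobs_append t9_751_51 <| jobs_append t9_751_52 <| jobs_append t9_751_53 <| jobs_append t9_751_54 <| jobs_append t9_751_55 <| jobs_append t9_751_56 <| jobs_append t9_751_57 <| jobs_append t9_751_58 <| jobs_append t9_751_59 <| jobs_append t9_751_60 <| jobs_append t9_751_61 <| jobs_append t9_751_62 <| jobs_append t9_751_63 <| List.forall_mem_nil _) (by decide +kernel)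

noncomputable def j9_752_0 : List Job := [
  ⟨63, 0x601028241a110a8643a21128a45a311a8e47cd06a361b8f07a3e1fcc06232198e0723a1dc502a160b8703a1e0fc40221209860321a0dc3e1d0b854160901, 0, 32, 0x0, []⟩]

theorem t9_752_0 : jobs 8 S9 b8_752 j9_752_0 = true := by decide +kernel

noncomputable def j9_752_1 : List Job := [
  ⟨62, 0x68142a251a914aa653aa152aa55ab15aae57d008242219108a4623920924a259309a4e27cd06a361b8f07a3e1fcc06232198e0723a1dc502a160b8703a1e0fc40221209860321a0dc3e1d0b854160901, 0, 32, 0x0, []⟩]

theorem t9_752_1 : jobs 8 S9 b8_752 j9_752_1 = true := by decide +kernel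

noncomputable def j9_752_2 : List Job := [
  ⟨61, 0x601028241a110a8643a21128a45a311a8e47d008242219108a4623920924a259309a4e27cd06a361b8f07a3e1fcc06232198e0723a1dc502a160b8703a1e0fc40221209860321a0dc3e1d0b854160901, 0, 32, 0x0, []⟩]

theorem t9_752_2 : jobs 8 S9 b8_752 j9_752_2 = true := by decide +kernel

noncomputable def j9_752_3 : List Job := [
  ⟨60, 0x68142a251a914aa653aa152aa55ab15aae57cc06232198e0723a1dc40221209860321a0dc2e15098440e0501, 0, 32, 0x0, []⟩]

theorem t9_752_3 : jobs 8 S9 b8_752 j9_752_3 = true := by decide +kernel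

noncomputable def j9_752_4 : List Job := [
  ⟨59, 0x601028241a110a8643a21128a45a311a8e47cc06232198e0723a1dc40221209860321a0dc2e15098440e0501, 0, 32, 0x0, []⟩]

theorem t9_752_4 : jobs 8 S9 b8_752 j9_752_4 = true := by decide +kernel

noncomputable def j9_752_5 : List Job := [
  ⟨58, 0x68142a251a914aa653aa152aa55ab15aae57d008242219108a4623920924a259309a4e27cc06232198e0723a1dc40221209860321a0dc2e15098440e0501, 0, 32, 0x0, []⟩]

theorem t9_752_5 : jobs 8 S9 b8_752 j9_752_5 = true := by decide +kernel

noncomputable def j9_752_6 : List Job := [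
  ⟨57, 0x601028241a110a8643a21128a45a311a8e47d008242219108a4623920924a259309a4e27cc06232198e0723a1dc40221209860321a0dc2e15098440e0501, 0, 32, 0x0, []⟩]

theorem t9_752_6 : jobs 8 S9 b8_752 j9_752_6 = true := by decide +kernel

noncomputable def j9_752_7 : List Job := [
  ⟨56, 0x4c464391d4c066381dc40221209860321a0dc2e15098440e0501, 0, 32, 0x0, []⟩]

theorem t9_752_7 : jobs 8 S9 b8_752 j9_752_7 = true := by decide +kernel

noncomputable def j9_752_8 : List Job := [
  ⟨55, 0x68142a251a914aa653aa152aa55ab15aae57e01028241a110a8643a21128a45a311a8e47cc464391d4c066381dc40221209860321a0dc2e15098440e0501, 0, 32, 0x0, []⟩]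

theorem t9_752_8 : jobs 8 S9 b8_752 j9_752_8 = true := by decide +kernel

noncomputable def j9_752_9 : List Job := [
  ⟨54, 0x5008242219108a4623920924a259309a4e27cc464391d4c066381dc40221209860321a0dc2e15098440e0501, 0, 32, 0x0, []⟩]

theorem t9_752_9 : jobs 8 S9 b8_752 j9_752_9 = true := by decide +kernel

noncomputable def j9_752_10 : List Job := [
  ⟨53, 0x68142a251a914aa653aa152aa55ab15aae57e01028241a110a8643a21128a45a311a8e47d008242219108a4623920924a259309a4e27cc464391d4c066381dc40221209860321a0dc2e15098440e0501, 0, 32, 0x0, []⟩]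

theorem t9_752_10 : jobs 8 S9 b8_752 j9_752_10 = true := by decide +kernel

noncomputable def j9_752_11 : List Job := [
  ⟨52, 0x68142a251a914aa653aa152aa55ab15aae57cc464391d4c066381dc40221209860321a0dc2e15098440e0501, 0, 32, 0x0, []⟩]

theorem t9_752_11 : jobs 8 S9 b8_752 j9_752_11 = true := by decide +kernel

noncomputable def j9_752_12 : List Job := [
  ⟨51, 0x601028241a110a8643a21128a45a311a8e47cc464391d4c066381dc40221209860321a0dc2e15098440e0501, 0, 32, 0x0, []⟩]

theorem t9_752_12 : jobs 8 S9 b8_752 j9_752_12 = true := by decide +kernel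

noncomputable def j9_752_13 : List Job := [
  ⟨50, 0x68142a251a914aa653aa152aa55ab15aae57d008242219108a4623920924a259309a4e27cc464391d4c066381dc40221209860321a0dc2e15098440e0501, 0, 32, 0x0, []⟩]

theorem t9_752_13 : jobs 8 S9 b8_752 j9_752_13 = true := by decide +kernel

noncomputable def j9_752_14 : List Job := [
  ⟨49, 0x601028241a110a8643a21128a45a311a8e47d008242219108a4623920924a259309a4e27cc464391d4c066381dc40221209860321a0dc2e15098440e0501, 0, 32, 0x0, []⟩]

theorem t9_752_14 : jobs 8 S9 b8_752 j9_752_14 = true := by decide +kernel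

noncomputable def j9_752_15 : List Job := [
  ⟨48, 0x4c06232198e0723a1dc40221209860321a0dc2e15098440e0501, 0, 32, 0x0, []⟩]

theorem t9_752_15 : jobs 8 S9 b8_752 j9_752_15 = true := by decide +kernel

noncomputable def j9_752_16 : List Job := [
  ⟨47, 0x68142a251a914aa653aa152aa55ab15aae57e01028241a110a8643a21128a45a311a8e47cc06232198e0723a1dc40221209860321a0dc2e15098440e0501, 0, 32, 0x0, []⟩]

theorem t9_752_16 : jobs 8 S9 b8_752 j9_752_16 = true := by decide +kernel

noncomputable def j9_752_17 : List Job := [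
  ⟨46, 0x5008242219108a4623920924a259309a4e27cc06232198e0723a1dc40221209860321a0dc2e15098440e0501, 0, 32, 0x0, []⟩]

theorem t9_752_17 : jobs 8 S9 b8_752 j9_752_17 = true := by decide +kernel

noncomputable def j9_752_18 : List Job := [
  ⟨45, 0x68142a251a914aa653aa152aa55ab15aae57e01028241a110a8643a21128a45a311a8e47d008242219108a4623920924a259309a4e27cc06232198e0723a1dc40221209860321a0dc2e15098440e0501, 0, 32, 0x0, []⟩]

theorem t9_752_18 : jobs 8 S9 b8_752 j9_752_18 = true := by decide +kernel

noncomputable def j9_752_19 : List Job := [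
  ⟨44, 0x68142a251a914aa653aa152aa55ab15aae57cc466391dcc064381d44424190d44026180dc2e15098440e0501, 0, 32, 0x0, []⟩]

theorem t9_752_19 : jobs 8 S9 b8_752 j9_752_19 = true := by decide +kernel

noncomputable def j9_752_20 : List Job := [
  ⟨43, 0x601028241a110a8643a21128a45a311a8e47cc466391dcc064381d44424190d44026180dc2e15098440e0501, 0, 32, 0x0, []⟩]

theorem t9_752_20 : jobs 8 S9 b8_752 j9_752_20 = true := by decide +kernel

noncomputable def j9_752_21 : List Job := [
  ⟨42, 0x68142a251a914aa653aa152aa55ab15aae57d008242219108a4623920924a259309a4e27cc466391dcc064381d44424190d44026180dc2e15098440e0501, 0, 32, 0x0, []⟩]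

theorem t9_752_21 : jobs 8 S9 b8_752 j9_752_21 = true := by decide +kernel

noncomputable def j9_752_22 : List Job := [
  ⟨41, 0x601028241a110a8643a21128a45a311a8e47d008242219108a4623920924a259309a4e27cc466391dcc064381d44424190d44026180dc2e15098440e0501, 0, 32, 0x0, []⟩]

theorem t9_752_22 : jobs 8 S9 b8_752 j9_752_22 = true := by decide +kernel

noncomputable def j9_752_23 : List Job := [
  ⟨40, 0x4c06232198e0723a1dc4424190d44026180dc2e15098440e0501, 0, 32, 0x0, []⟩]

theorem t9_752_23 : jobs 8 S9 b8_752 j9_752_23 = true := by decide +kernel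

noncomputable def j9_752_24 : List Job := [
  ⟨39, 0x68142a251a914aa653aa152aa55ab15aae57e01028241a110a8643a21128a45a311a8e47cc06232198e0723a1dc4424190d44026180dc2e15098440e0501, 0, 32, 0x0, []⟩]

theorem t9_752_24 : jobs 8 S9 b8_752 j9_752_24 = true := by decide +kernel

noncomputable def j9_752_25 : List Job := [
  ⟨38, 0x5008242219108a4623920924a259309a4e27cc06232198e0723a1dc4424190d44026180dc2e15098440e0501, 0, 32, 0x0, []⟩]

theorem t9_752_25 : jobs 8 S9 b8_752 j9_752_25 = true := by decide +kernel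

noncomputable def j9_752_26 : List Job := [
  ⟨37, 0x68142a251a914aa653aa152aa55ab15aae57e01028241a110a8643a21128a45a311a8e47d008242219108a4623920924a259309a4e27cc06232198e0723a1dc4424190d44026180dc2e15098440e0501, 0, 32, 0x0, []⟩]

theorem t9_752_26 : jobs 8 S9 b8_752 j9_752_26 = true := by decide +kernel

noncomputable def j9_752_27 : List Job := [
  ⟨36, 0x68142a251a914aa653aa152aa55ab15aae57cc06232198e0723a1dc4426190dc4024180d42e15098440e0501, 0, 32, 0x0, []⟩]

theorem t9_752_27 : jobs 8 S9 b8_752 j9_752_27 = true := by decide +kernel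

noncomputable def j9_752_28 : List Job := [
  ⟨35, 0x601028241a110a8643a21128a45a311a8e47cc06232198e0723a1dc4426190dc4024180d42e15098440e0501, 0, 32, 0x0, []⟩]

theorem t9_752_28 : jobs 8 S9 b8_752 j9_752_28 = true := by decide +kernel

noncomputable def j9_752_29 : List Job := [
  ⟨34, 0x68142a251a914aa653aa152aa55ab15aae57d008242219108a4623920924a259309a4e27cc06232198e0723a1dc4426190dc4024180d42e15098440e0501, 0, 32, 0x0, []⟩]

theorem t9_752_29 : jobs 8 S9 b8_752 j9_752_29 = true := by decide +kernel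

noncomputable def j9_752_30 : List Job := [
  ⟨33, 0x601028241a110a8643a21128a45a311a8e47d008242219108a4623920924a259309a4e27cc06232198e0723a1dc4426190dc4024180d42e15098440e0501, 0, 32, 0x0, []⟩]

theorem t9_752_30 : jobs 8 S9 b8_752 j9_752_30 = true := by decide +kernel

noncomputable def j9_752_31 : List Job := [
  ⟨32, 0x4c466391dcc064381d44426190dc4024180d42e15098440e0501, 0, 32, 0x0, []⟩]

theorem t9_752_31 : jobs 8 S9 b8_752 j9_752_31 = true := by decide +kernel

noncomputable def j9_752_32 : List Job := [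
  ⟨31, 0x68142a251a914aa653aa152aa55ab15aae57e01028241a110a8643a21128a45a311a8e47cc466391dcc064381d44426190dc4024180d42e15098440e0501, 0, 32, 0x0, []⟩]

theorem t9_752_32 : jobs 8 S9 b8_752 j9_752_32 = true := by decide +kernel

noncomputable def j9_752_33 : List Job := [
  ⟨30, 0x5008242219108a4623920924a259309a4e27cc466391dcc064381d44426190dc4024180d42e15098440e0501, 0, 32, 0x0, []⟩]

theorem t9_752_33 : jobs 8 S9 b8_752 j9_752_33 = true := by decide +kernel

noncomputable def j9_752_34 : List Job := [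
  ⟨29, 0x68142a251a914aa653aa152aa55ab15aae57e01028241a110a8643a21128a45a311a8e47d008242219108a4623920924a259309a4e27cc466391dcc064381d44426190dc4024180d42e15098440e0501, 0, 72, 0x8401, []⟩]

theorem t9_752_34 : jobs 8 S9 b8_752 j9_752_34 = true := by decide +kernel

noncomputable def j9_752_35 : List Job := [
  ⟨28, 0x68946a452aa152ae57e8142a653aa956ac56cc06232198e0723a1dc40221209860321a0dc2e15098440e0501, 0, 32, 0x0, []⟩]

theorem t9_752_35 : jobs 8 S9 b8_752 j9_752_35 = true := by decide +kernel

noncomputable def j9_752_36 : List Job := [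
  ⟨27, 0x4c06232198e0723a1dc40221209860321a0dc2e15098440e0501, 0, 32, 0x0, []⟩]

theorem t9_752_36 : jobs 8 S9 b8_752 j9_752_36 = true := by decide +kernel

noncomputable def j9_752_37 : List Job := [
  ⟨26, 0x68946a452aa152ae57e8142a653aa956ac56d008242219108a4623920924a259309a4e27cc06232198e0723a1dc40221209860321a0dc2e15098440e0501, 0, 32, 0x0, []⟩]

theorem t9_752_37 : jobs 8 S9 b8_752 j9_752_37 = true := by decide +kernel

noncomputable def j9_752_38 : List Job := [
  ⟨25, 0x5008242219108a4623920924a259309a4e27cc06232198e0723a1dc40221209860321a0dc2e15098440e0501, 0, 32, 0x0, []⟩]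

theorem t9_752_38 : jobs 8 S9 b8_752 j9_752_38 = true := by decide +kernel

noncomputable def j9_752_39 : List Job := [
  ⟨24, 0x4c464381dcc066391d440221209860321a0dc2e15098440e0501, 0, 32, 0x0, []⟩]

theorem t9_752_39 : jobs 8 S9 b8_752 j9_752_39 = true := by decide +kernel

noncomputable def j9_752_40 : List Job := [
  ⟨23, 0x68946a452aa152ae57e8142a653aa956ac56cc464391d4c066381dc40221209860321a0dc2e15098440e0501, 0, 32, 0x0, []⟩]

theorem t9_752_40 : jobs 8 S9 b8_752 j9_752_40 = true := by decide +kernel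

noncomputable def j9_752_41 : List Job := [
  ⟨22, 0x5008242219108a4623920924a259309a4e27cc464381dcc066391d440221209860321a0dc2e15098440e0501, 0, 32, 0x0, []⟩]

theorem t9_752_41 : jobs 8 S9 b8_752 j9_752_41 = true := by decide +kernel

noncomputable def j9_752_42 : List Job := [
  ⟨21, 0x68946a452aa152ae57e8142a653aa956ac56d008242219108a4623920924a259309a4e27cc464391d4c066381dc40221209860321a0dc2e15098440e0501, 0, 32, 0x0, []⟩]

theorem t9_752_42 : jobs 8 S9 b8_752 j9_752_42 = true := by decide +kernel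

noncomputable def j9_752_43 : List Job := [
  ⟨20, 0x68946a452aa152ae57e8142a653aa956ac56cc464381dcc066391d440221209860321a0dc2e15098440e0501, 0, 32, 0x0, []⟩]

theorem t9_752_43 : jobs 8 S9 b8_752 j9_752_43 = true := by decide +kernel

noncomputable def j9_752_44 : List Job := [
  ⟨19, 0x4c464391d4c066381dc40221209860321a0dc2e15098440e0501, 0, 32, 0x0, []⟩]

theorem t9_752_44 : jobs 8 S9 b8_752 j9_752_44 = true := by decide +kernel

noncomputable def j9_752_45 : List Job := [
  ⟨18, 0x68946a452aa152ae57e8142a653aa956ac56d008242219108a4623920924a259309a4e27cc464381dcc066391d440221209860321a0dc2e15098440e0501, 0, 32, 0x0, []⟩]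

theorem t9_752_45 : jobs 8 S9 b8_752 j9_752_45 = true := by decide +kernel

noncomputable def j9_752_46 : List Job := [
  ⟨17, 0x5008242219108a4623920924a259309a4e27cc464391d4c066381dc40221209860321a0dc2e15098440e0501, 0, 32, 0x0, []⟩]

theorem t9_752_46 : jobs 8 S9 b8_752 j9_752_46 = true := by decide +kernel

noncomputable def j9_752_47 : List Job := [
  ⟨16, 0x4c06232198e0723a1dc40221209860321a0dc2e15098440e0501, 0, 32, 0x0, []⟩]

theorem t9_752_47 : jobs 8 S9 b8_752 j9_752_47 = true := by decide +kernel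

noncomputable def j9_752_48 : List Job := [
  ⟨15, 0x68946a452aa152ae57e8142a653aa956ac56cc06232198e0723a1dc40221209860321a0dc2e15098440e0501, 0, 32, 0x0, []⟩]

theorem t9_752_48 : jobs 8 S9 b8_752 j9_752_48 = true := by decide +kernel

noncomputable def j9_752_49 : List Job := [
  ⟨14, 0x5008242219108a4623920924a259309a4e27cc06232198e0723a1dc40221209860321a0dc2e15098440e0501, 0, 32, 0x0, []⟩]

theorem t9_752_49 : jobs 8 S9 b8_752 j9_752_49 = true := by decide +kernel

noncomputable def j9_752_50 : List Job := [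
  ⟨13, 0x68946a452aa152ae57e8142a653aa956ac56d008242219108a4623920924a259309a4e27cc06232198e0723a1dc40221209860321a0dc2e15098440e0501, 0, 32, 0x0, []⟩]

theorem t9_752_50 : jobs 8 S9 b8_752 j9_752_50 = true := by decide +kernel

noncomputable def j9_752_51 : List Job := [
  ⟨12, 0x68946a452aa152ae57e8142a653aa956ac56cc466381d4c064391dc4424180dc4026190d42e15098440e0501, 0, 32, 0x0, []⟩]

theorem t9_752_51 : jobs 8 S9 b8_752 j9_752_51 = true := by decide +kernel

noncomputable def j9_752_52 : List Job := [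
  ⟨11, 0x4c466391dcc064381d44424190d44026180dc2e15098440e0501, 0, 32, 0x0, []⟩]

theorem t9_752_52 : jobs 8 S9 b8_752 j9_752_52 = true := by decide +kernel

noncomputable def j9_752_53 : List Job := [
  ⟨10, 0x68946a452aa152ae57e8142a653aa956ac56d008242219108a4623920924a259309a4e27cc466381d4c064391dc4424180dc4026190d42e15098440e0501, 0, 38, 0x400000800000a01, [(3, ⟨2273, 0x200004a00488001a0041001030042400010040001, 0x180230942c030401402⟩), (1, ⟨2272, 0x200004a00488001a0041001030042400010040001, 0x180230942c030401402⟩)]⟩]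

theorem t9_752_53 : jobs 8 S9 b8_752 j9_752_53 = true := by decide +kernel

noncomputable def j9_752_54 : List Job := [
  ⟨9, 0x5008242219108a4623920924a259309a4e27cc466391dcc064381d44424190d44026180dc2e15098440e0501, 0, 32, 0x0, []⟩]

theorem t9_752_54 : jobs 8 S9 b8_752 j9_752_54 = true := by decide +kernel

noncomputable def j9_752_55 : List Job := [
  ⟨8, 0x4c06232198e0723a1dc4424180dc4026190d42e15098440e0501, 0, 32, 0x0, []⟩]

theorem t9_752_55 : jobs 8 S9 b8_752 j9_752_55 = true := by decide +kernel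

noncomputable def j9_752_56 : List Job := [
  ⟨7, 0x68946a452aa152ae57e8142a653aa956ac56cc06232198e0723a1dc4424190d44026180dc2e15098440e0501, 0, 32, 0x0, []⟩]

theorem t9_752_56 : jobs 8 S9 b8_752 j9_752_56 = true := by decide +kernel

noncomputable def j9_752_57 : List Job := [
  ⟨6, 0x5008242219108a4623920924a259309a4e27cc06232198e0723a1dc4424180dc4026190d42e15098440e0501, 0, 32, 0x0, []⟩]

theorem t9_752_57 : jobs 8 S9 b8_752 j9_752_57 = true := by decide +kernel

noncomputable def j9_752_58 : List Job := [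
  ⟨5, 0x68946a452aa152ae57e8142a653aa956ac56d008242219108a4623920924a259309a4e27cc06232198e0723a1dc4424190d44026180dc2e15098440e0501, 0, 32, 0x0, []⟩]

theorem t9_752_58 : jobs 8 S9 b8_752 j9_752_58 = true := by decide +kernel

noncomputable def j9_752_59 : List Job := [
  ⟨4, 0x68946a452aa152ae57e8142a653aa956ac56cc06232198e0723a1dc4426180d44024190dc2e15098440e0501, 0, 32, 0x0, []⟩]

theorem t9_752_59 : jobs 8 S9 b8_752 j9_752_59 = true := by decide +kernel

noncomputable def j9_752_60 : List Job := [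
  ⟨3, 0x4c06232198e0723a1dc4426190dc4024180d42e15098440e0501, 0, 32, 0x0, []⟩]

theorem t9_752_60 : jobs 8 S9 b8_752 j9_752_60 = true := by decide +kernel

noncomputable def j9_752_61 : List Job := [
  ⟨2, 0x68946a452aa152ae57e8142a653aa956ac56d008242219108a4623920924a259309a4e27cc06232198e0723a1dc4426180d44024190dc2e15098440e0501, 0, 32, 0x0, []⟩]

theorem t9_752_61 : jobs 8 S9 b8_752 j9_752_61 = true := by decide +kernel

noncomputable def j9_752_62 : List Job := [
  ⟨1, 0x5008242219108a4623920924a259309a4e27cc06232198e0723a1dc4426190dc4024180d42e15098440e0501, 0, 32, 0x0, []⟩]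

theorem t9_752_62 : jobs 8 S9 b8_752 j9_752_62 = true := by decide +kernel

noncomputable def j9_752_63 : List Job := [
  ⟨0, 0x4c466381d4c064391dc4426180d44024190dc2e15098440e0501, 0, 32, 0x0, []⟩]

theorem t9_752_63 : jobs 8 S9 b8_752 j9_752_63 = true := by decide +kernel

theorem d9_752 : Dn 8 S9 b8_752 := dn_of (Js := j9_752_0 ++ (j9_752_1 ++ (j9_752_2 ++ (j9_752_3 ++ (j9_752_4 ++ (j9_752_5 ++ (j9_752_6 ++ (j9_752_7 ++ (j9_752_8 ++ (j9_752_9 ++ (j9_752_10 ++ (j9_752_11 ++ (j9_752_12 ++ (j9_752_13 ++ (j9_752_14 ++ (j9_752_15 ++ (j9_752_16 ++ (j9_752_17 ++ (j9_752_18 ++ (j9_752_19 ++ (j9_752_20 ++ (j9_752_21 ++ (j9_752_22 ++ (j9_752_23 ++ (j9_752_24 ++ (j9_752_25 ++ (j9_752_26 ++ (j9_752_27 ++ (j9_752_28 ++ (j9_752_29 ++ (j9_752_30 ++ (j9_752_31 ++ (j9_752_32 ++ (j9_752_33 ++ (j9_752_34 ++ (j9_752_35 ++ (j9_752_36 ++ (j9_752_37 ++ (j9_752_38 ++ (j9_752_39 ++ (j9_752_40 ++ (j9_752_41 ++ (j9_752_42 ++ (j9_752_43 ++ (j9_752_44 ++ (j9_752_45 ++ (j9_752_46 ++ (j9_752_47 ++ (j9_752_48 ++ (j9_752_49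 ++ (j9_752_50 ++ (j9_752_51 ++ (j9_752_52 ++ (j9_752_53 ++ (j9_752_54 ++ (j9_752_55 ++ (j9_752_56 ++ (j9_752_57 ++ (j9_752_58 ++ (j9_752_59 ++ (j9_752_60 ++ (j9_752_61 ++ (j9_752_62 ++ (j9_752_63 ++ []))))))))))))))))))))))))))))))))))))))))))))))))))))))))))))))))
  (jobs_append t9_752_0 <| jobs_append t9_752_1 <| jobs_append t9_752_2 <| jobs_append t9_752_3 <| jobs_append t9_752_4 <| jobs_append t9_752_5 <| jobs_append t9_752_6 <| jobs_append t9_752_7 <| jobs_append t9_752_8 <| jobs_append t9_752_9 <| jobs_append t9_752_10 <| jobs_append t9_752_11 <| jobs_append t9_752_12 <| jobs_append t9_752_13 <| jobs_append t9_752_14 <| jobs_append t9_752_15 <| jobs_append t9_752_16 <| jobs_append t9_752_17 <| jobs_append t9_752_18 <| jobs_append t9_752_19 <| jobs_append t9_752_20 <| jobs_append t9_752_21 <| jobs_append t9_752_22 <| jobs_append t9_752_23 <| jobs_append t9_752_24 <| jobs_append t9_752_25 <| jobs_append t9_752_26 <| jobs_append t9_752_27 <| jobs_append t9_752_28 <| jobs_append t9_752_29 <| jobs_append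 t9_752_30 <| jobs_append t9_752_31 <| jobs_append t9_752_32 <| jobs_append t9_752_33 <| jobs_append t9_752_34 <| jobs_append t9_752_35 <| jobs_append t9_752_36 <| jobs_append t9_752_37 <| jobs_append t9_752_38 <| jobs_append t9_752_39 <| jobs_append t9_752_40 <| jobs_append t9_752_41 <| jobs_append t9_752_42 <| jobs_append t9_752_43 <| jobs_append t9_752_44 <| jobs_append t9_752_45 <| jobs_append t9_752_46 <| jobs_append t9_752_47 <| jobs_append t9_752_48 <| jobs_append t9_752_49 <| jobs_append t9_752_50 <| jobs_append t9_752_51 <| jobs_append t9_752_52 <| jobs_append t9_752_53 <| jobs_append t9_752_54 <| jobs_append t9_752_55 <| jobs_append t9_752_56 <| jobs_append t9_752_57 <| jobs_append t9_752_58 <| jobs_append t9_752_59 <| jobs_append t9_752_60 <| jobs_append t9_752_61 <| jobs_append t9_752_62 <| jobs_append t9_752_63 <| List.forall_mem_nil _) (by decide +kernel)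

noncomputable def j9_753_0 : List Job := [
  ⟨38, 0x5008242219108a4623920924a259309a4e27cc466381d4c064391dc4426180d44024190dc2e15098440e0501, 0, 2, 0x401, []⟩]

theorem t9_753_0 : jobs 8 S9 b8_753 j9_753_0 = true := by decide +kernel

noncomputable def j9_753_1 : List Job := [
  ⟨37, 0x5008242219108a4623920924a259309a4e27cc466391dcc064381d44426190dc4024180d42e15098440e0501, 0, 32, 0x0, []⟩]

theorem t9_753_1 : jobs 8 S9 b8_753 j9_753_1 = true := by decide +kernel

noncomputable def j9_753_2 : List Job := [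
  ⟨36, 0x4c06232198e0723a1dc40221209860321a0dc301b0b854180f01, 0, 128, 0x0, []⟩]

theorem t9_753_2 : jobs 8 S9 b8_753 j9_753_2 = true := by decide +kernel

noncomputable def j9_753_3 : List Job := [
  ⟨35, 0x68142a251a914aa653aa152aa55ab15aae57e01028241a110a8643a21128a45a311a8e47cc06232198e0723a1dc40221209860321a0dc301b0b854180f01, 0, 128, 0x0, []⟩]

theorem t9_753_3 : jobs 8 S9 b8_753 j9_753_3 = true := by decide +kernel

noncomputable def j9_753_4 : List Job := [
  ⟨34, 0x5008242219108a4623920924a259309a4e27cc06232198e0723a1dc40221209860321a0dc301b0b854180f01, 0, 128, 0x0, []⟩]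

theorem t9_753_4 : jobs 8 S9 b8_753 j9_753_4 = true := by decide +kernel

noncomputable def j9_753_5 : List Job := [
  ⟨33, 0x68142a251a914aa653aa152aa55ab15aae57e01028241a110a8643a21128a45a311a8e47d008242219108a4623920924a259309a4e27cc06232198e0723a1dc40221209860321a0dc301b0b854180f01, 0, 128, 0x0, []⟩]

theorem t9_753_5 : jobs 8 S9 b8_753 j9_753_5 = true := by decide +kernel

noncomputable def j9_753_6 : List Job := [
  ⟨32, 0x68142a251a914aa653aa152aa55ab15aae57cc06232198e0723a1dc40221209860321a0dc301b0b854180f01, 0, 128, 0x0, []⟩]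

theorem t9_753_6 : jobs 8 S9 b8_753 j9_753_6 = true := by decide +kernel

noncomputable def j9_753_7 : List Job := [
  ⟨31, 0x601028241a110a8643a21128a45a311a8e47cc06232198e0723a1dc40221209860321a0dc301b0b854180f01, 0, 128, 0x0, []⟩]

theorem t9_753_7 : jobs 8 S9 b8_753 j9_753_7 = true := by decide +kernel

noncomputable def j9_753_8 : List Job := [
  ⟨30, 0x68142a251a914aa653aa152aa55ab15aae57d008242219108a4623920924a259309a4e27cc06232198e0723a1dc40221209860321a0dc301b0b854180f01, 0, 128, 0x0, []⟩]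

theorem t9_753_8 : jobs 8 S9 b8_753 j9_753_8 = true := by decide +kernel

noncomputable def j9_753_9 : List Job := [
  ⟨29, 0x601028241a110a8643a21128a45a311a8e47d008242219108a4623920924a259309a4e27cc06232198e0723a1dc40221209860321a0dc301b0b854180f01, 0, 128, 0x0, []⟩]

theorem t9_753_9 : jobs 8 S9 b8_753 j9_753_9 = true := by decide +kernel

noncomputable def j9_753_10 : List Job := [
  ⟨28, 0x68142a251a914aa653aa152aa55ab15aae57cd06a361b8f07a3e1fcc06232198e0723a1dc3e1d0b854160901, 0, 32, 0x0, []⟩]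

theorem t9_753_10 : jobs 8 S9 b8_753 j9_753_10 = true := by decide +kernel

noncomputable def j9_753_11 : List Job := [
  ⟨27, 0x601028241a110a8643a21128a45a311a8e47cd06a361b8f07a3e1fcc06232198e0723a1dc3e1d0b854160901, 0, 32, 0x0, []⟩]

theorem t9_753_11 : jobs 8 S9 b8_753 j9_753_11 = true := by decide +kernel

noncomputable def j9_753_12 : List Job := [
  ⟨26, 0x68142a251a914aa653aa152aa55ab15aae57d008242219108a4623920924a259309a4e27cd06a361b8f07a3e1fcc06232198e0723a1dc3e1d0b854160901, 0, 32, 0x0, []⟩]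

theorem t9_753_12 : jobs 8 S9 b8_753 j9_753_12 = true := by decide +kernel

noncomputable def j9_753_13 : List Job := [
  ⟨25, 0x601028241a110a8643a21128a45a311a8e47d008242219108a4623920924a259309a4e27cd06a361b8f07a3e1fcc06232198e0723a1dc3e1d0b854160901, 0, 32, 0x0, []⟩]

theorem t9_753_13 : jobs 8 S9 b8_753 j9_753_13 = true := by decide +kernel

noncomputable def j9_753_14 : List Job := [
  ⟨24, 0x4d06a361b8f07a3e1fcc06232198e0723a1dc3e1d0b854160901, 0, 32, 0x0, []⟩]

theorem t9_753_14 : jobs 8 S9 b8_753 j9_753_14 = true := by decide +kernel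

noncomputable def j9_753_15 : List Job := [
  ⟨23, 0x68142a251a914aa653aa152aa55ab15aae57e01028241a110a8643a21128a45a311a8e47cd06a361b8f07a3e1fcc06232198e0723a1dc3e1d0b854160901, 0, 32, 0x0, []⟩]

theorem t9_753_15 : jobs 8 S9 b8_753 j9_753_15 = true := by decide +kernel

noncomputable def j9_753_16 : List Job := [
  ⟨22, 0x5008242219108a4623920924a259309a4e27cd06a361b8f07a3e1fcc06232198e0723a1dc3e1d0b854160901, 0, 32, 0x0, []⟩]

theorem t9_753_16 : jobs 8 S9 b8_753 j9_753_16 = true := by decide +kernel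

noncomputable def j9_753_17 : List Job := [
  ⟨21, 0x68142a251a914aa653aa152aa55ab15aae57e01028241a110a8643a21128a45a311a8e47d008242219108a4623920924a259309a4e27cd06a361b8f07a3e1fcc06232198e0723a1dc3e1d0b854160901, 0, 32, 0x0, []⟩]

theorem t9_753_17 : jobs 8 S9 b8_753 j9_753_17 = true := by decide +kernel

noncomputable def j9_753_18 : List Job := [
  ⟨20, 0x43e1d0b854160901, 0, 32, 0x0, []⟩]

theorem t9_753_18 : jobs 8 S9 b8_753 j9_753_18 = true := by decide +kernel

noncomputable def j9_753_19 : List Job := [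
  ⟨19, 0x68142a251a914aa653aa152aa55ab15aae57e01028241a110a8643a21128a45a311a8e47c3e1d0b854160901, 0, 32, 0x0, []⟩]

theorem t9_753_19 : jobs 8 S9 b8_753 j9_753_19 = true := by decide +kernel

noncomputable def j9_753_20 : List Job := [
  ⟨18, 0x5008242219108a4623920924a259309a4e27c3e1d0b854160901, 0, 32, 0x0, []⟩]

theorem t9_753_20 : jobs 8 S9 b8_753 j9_753_20 = true := by decide +kernel

noncomputable def j9_753_21 : List Job := [
  ⟨17, 0x68142a251a914aa653aa152aa55ab15aae57e01028241a110a8643a21128a45a311a8e47d008242219108a4623920924a259309a4e27c3e1d0b854160901, 0, 32, 0x0, []⟩]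

theorem t9_753_21 : jobs 8 S9 b8_753 j9_753_21 = true := by decide +kernel

noncomputable def j9_753_22 : List Job := [
  ⟨16, 0x68142a251a914aa653aa152aa55ab15aae57c3e1d0b854160901, 0, 32, 0x0, []⟩]

theorem t9_753_22 : jobs 8 S9 b8_753 j9_753_22 = true := by decide +kernel

noncomputable def j9_753_23 : List Job := [
  ⟨15, 0x601028241a110a8643a21128a45a311a8e47c3e1d0b854160901, 0, 32, 0x0, []⟩]

theorem t9_753_23 : jobs 8 S9 b8_753 j9_753_23 = true := by decide +kernel

noncomputable def j9_753_24 : List Job := [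
  ⟨14, 0x68142a251a914aa653aa152aa55ab15aae57d008242219108a4623920924a259309a4e27c3e1d0b854160901, 0, 32, 0x0, []⟩]

theorem t9_753_24 : jobs 8 S9 b8_753 j9_753_24 = true := by decide +kernel

noncomputable def j9_753_25 : List Job := [
  ⟨13, 0x601028241a110a8643a21128a45a311a8e47d008242219108a4623920924a259309a4e27c3e1d0b854160901, 0, 32, 0x0, []⟩]

theorem t9_753_25 : jobs 8 S9 b8_753 j9_753_25 = true := by decide +kernel

noncomputable def j9_753_26 : List Job := [
  ⟨12, 0x68142a251a914aa653aa152aa55ab15aae57c502a160b8703a1e0fc40221209860321a0dc3e1d0b854160901, 0, 32, 0x0, []⟩]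

theorem t9_753_26 : jobs 8 S9 b8_753 j9_753_26 = true := by decide +kernel

noncomputable def j9_753_27 : List Job := [
  ⟨11, 0x601028241a110a8643a21128a45a311a8e47c502a160b8703a1e0fc40221209860321a0dc3e1d0b854160901, 0, 32, 0x0, []⟩]

theorem t9_753_27 : jobs 8 S9 b8_753 j9_753_27 = true := by decide +kernel

noncomputable def j9_753_28 : List Job := [
  ⟨10, 0x68142a251a914aa653aa152aa55ab15aae57d008242219108a4623920924a259309a4e27c502a160b8703a1e0fc40221209860321a0dc3e1d0b854160901, 0, 32, 0x0, []⟩]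

theorem t9_753_28 : jobs 8 S9 b8_753 j9_753_28 = true := by decide +kernel

noncomputable def j9_753_29 : List Job := [
  ⟨9, 0x601028241a110a8643a21128a45a311a8e47d008242219108a4623920924a259309a4e27c502a160b8703a1e0fc40221209860321a0dc3e1d0b854160901, 0, 32, 0x0, []⟩]

theorem t9_753_29 : jobs 8 S9 b8_753 j9_753_29 = true := by decide +kernel

noncomputable def j9_753_30 : List Job := [
  ⟨8, 0x4502a160b8703a1e0fc40221209860321a0dc3e1d0b854160901, 0, 32, 0x0, []⟩]

theorem t9_753_30 : jobs 8 S9 b8_753 j9_753_30 = true := by decide +kernel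

noncomputable def j9_753_31 : List Job := [
  ⟨7, 0x68142a251a914aa653aa152aa55ab15aae57e01028241a110a8643a21128a45a311a8e47c502a160b8703a1e0fc40221209860321a0dc3e1d0b854160901, 0, 32, 0x0, []⟩]

theorem t9_753_31 : jobs 8 S9 b8_753 j9_753_31 = true := by decide +kernel

noncomputable def j9_753_32 : List Job := [
  ⟨6, 0x5008242219108a4623920924a259309a4e27c502a160b8703a1e0fc40221209860321a0dc3e1d0b854160901, 0, 32, 0x0, []⟩]

theorem t9_753_32 : jobs 8 S9 b8_753 j9_753_32 = true := by decide +kernel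

noncomputable def j9_753_33 : List Job := [
  ⟨5, 0x68142a251a914aa653aa152aa55ab15aae57e01028241a110a8643a21128a45a311a8e47d008242219108a4623920924a259309a4e27c502a160b8703a1e0fc40221209860321a0dc3e1d0b854160901, 0, 32, 0x0, []⟩]

theorem t9_753_33 : jobs 8 S9 b8_753 j9_753_33 = true := by decide +kernel

noncomputable def j9_753_34 : List Job := [
  ⟨4, 0x4d06a361b8f07a3e1fcc06232198e0723a1dc502a160b8703a1e0fc40221209860321a0dc3e1d0b854160901, 0, 32, 0x0, []⟩]

theorem t9_753_34 : jobs 8 S9 b8_753 j9_753_34 = true := by decide +kernel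

noncomputable def j9_753_35 : List Job := [
  ⟨3, 0x68142a251a914aa653aa152aa55ab15aae57e01028241a110a8643a21128a45a311a8e47cd06a361b8f07a3e1fcc06232198e0723a1dc502a160b8703a1e0fc40221209860321a0dc3e1d0b854160901, 0, 32, 0x0, []⟩]

theorem t9_753_35 : jobs 8 S9 b8_753 j9_753_35 = true := by decide +kernel

noncomputable def j9_753_36 : List Job := [
  ⟨2, 0x5008242219108a4623920924a259309a4e27cd06a361b8f07a3e1fcc06232198e0723a1dc502a160b8703a1e0fc40221209860321a0dc3e1d0b854160901, 0, 32, 0x0, []⟩]

theorem t9_753_36 : jobs 8 S9 b8_753 j9_753_36 = true := by decide +kernel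

noncomputable def j9_753_37 : List Job := [
  ⟨1, 0x68142a251a914aa653aa152aa55ab15aae57e01028241a110a8643a21128a45a311a8e47d008242219108a4623920924a259309a4e27cd06a361b8f07a3e1fcc06232198e0723a1dc502a160b8703a1e0fc40221209860321a0dc3e1d0b854160901, 0, 72, 0x4401, []⟩]

theorem t9_753_37 : jobs 8 S9 b8_753 j9_753_37 = true := by decide +kernel

noncomputable def j9_753_38 : List Job := [
  ⟨0, 0x68142a251a914aa653aa152aa55ab15aae57cd06a361b8f07a3e1fcc06232198e0723a1dc502a160b8703a1e0fc40221209860321a0dc3e1d0b854160901, 0, 32, 0x0, []⟩]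

theorem t9_753_38 : jobs 8 S9 b8_753 j9_753_38 = true := by decide +kernel

theorem d9_753 : Dn 8 S9 b8_753 := dn_of (Js := j9_753_0 ++ (j9_753_1 ++ (j9_753_2 ++ (j9_753_3 ++ (j9_753_4 ++ (j9_753_5 ++ (j9_753_6 ++ (j9_753_7 ++ (j9_753_8 ++ (j9_753_9 ++ (j9_753_10 ++ (j9_753_11 ++ (j9_753_12 ++ (j9_753_13 ++ (j9_753_14 ++ (j9_753_15 ++ (j9_753_16 ++ (j9_753_17 ++ (j9_753_18 ++ (j9_753_19 ++ (j9_753_20 ++ (j9_753_21 ++ (j9_753_22 ++ (j9_753_23 ++ (j9_753_24 ++ (j9_753_25 ++ (j9_753_26 ++ (j9_753_27 ++ (j9_753_28 ++ (j9_753_29 ++ (j9_753_30 ++ (j9_753_31 ++ (j9_753_32 ++ (j9_753_33 ++ (j9_753_34 ++ (j9_753_35 ++ (j9_753_36 ++ (j9_753_37 ++ (j9_753_38 ++ [])))))))))))))))))))))))))))))))))))))))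
  (jobs_append t9_753_0 <| jobs_append t9_753_1 <| jobs_append t9_753_2 <| jobs_append t9_753_3 <| jobs_append t9_753_4 <| jobs_append t9_753_5 <| jobs_append t9_753_6 <| jobs_append t9_753_7 <| jobs_append t9_753_8 <| jobs_append t9_753_9 <| jobs_append t9_753_10 <| jobs_append t9_753_11 <| jobs_append t9_753_12 <| jobs_append t9_753_13 <| jobs_append t9_753_14 <| jobs_append t9_753_15 <| jobs_append t9_753_16 <| jobs_append t9_753_17 <| jobs_append t9_753_18 <| jobs_append t9_753_19 <| jobs_append t9_753_20 <| jobs_append t9_753_21 <| jobs_append t9_753_22 <| jobs_append t9_753_23 <| jobs_append t9_753_24 <| jobs_append t9_753_25 <| jobs_append t9_753_26 <| jobs_append t9_753_27 <| jobs_append t9_753_28 <| jobs_append t9_753_29 <| jobs_append t9_753_30 <| jobs_append t9_753_31 <| jobs_append t9_753_32 <| jobs_append t9_753_33 <| jobs_append t9_753_34 <| jobs_append t9_753_35 <| jobs_append t9_753_36 <| jobs_append t9_753_37 <| jobs_append t9_753_38 <| List.forall_mem_nil _) (by decide +kernel)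

noncomputable def j9_754_0 : List Job := [
  ⟨52, 0x609068643a21128c46e01028442a29168e47d20924a259309a4e27d008242219108a4623cc466381d4c064391dc2e15098440e0501, 0, 2, 0x201000401, []⟩]

theorem t9_754_0 : jobs 8 S9 b8_754 j9_754_0 = true := by decide +kernel

noncomputable def j9_754_1 : List Job := [
  ⟨48, 0x609068643a21128c46e01028442a29168e47d20924a259309a4e27d008242219108a4623cc466381d4c064391dc2e15098440e0501, 0, 4, 0x201000401, []⟩]

theorem t9_754_1 : jobs 8 S9 b8_754 j9_754_1 = true := by decide +kernel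

noncomputable def j9_754_2 : List Job := [
  ⟨45, 0x609068643a21128c46e01028442a29168e47d20924a259309a4e27d008242219108a4623cc466391dcc064381d42e15098440e0501, 0, 20, 0x0, []⟩]

theorem t9_754_2 : jobs 8 S9 b8_754 j9_754_2 = true := by decide +kernel

noncomputable def j9_754_3 : List Job := [
  ⟨32, 0x520924a259309a4e27d008242219108a4623cc466391dcc064381d42e15098440e0501, 0, 4, 0x0, []⟩]

theorem t9_754_3 : jobs 8 S9 b8_754 j9_754_3 = true := by decide +kernel

noncomputable def j9_754_4 : List Job := [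
  ⟨25, 0x520924a259309a4e27d008242219108a4623cc466391dcc064381d42e15098440e0501, 0, 20, 0x0, []⟩]

theorem t9_754_4 : jobs 8 S9 b8_754 j9_754_4 = true := by decide +kernel

noncomputable def j9_754_5 : List Job := [
  ⟨11, 0x68142a251a914aa653aa152aa55ab15aae57e01028241a110a8643a21128a45a311a8e47d20924a259309a4e27d008242219108a4623cc466381d4c064391dc2e15098440e0501, 0, 6, 0x601000801, []⟩]

theorem t9_754_5 : jobs 8 S9 b8_754 j9_754_5 = true := by decide +kernel

noncomputable def j9_754_6 : List Job := [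
  ⟨5, 0x68142a251a914aa653aa152aa55ab15aae57e01028241a110a8643a21128a45a311a8e47d20924a259309a4e27d008242219108a4623cc466391dcc064381d42e15098440e0501, 0, 20, 0x0, []⟩]

theorem t9_754_6 : jobs 8 S9 b8_754 j9_754_6 = true := by decide +kernel

theorem d9_754 : Dn 8 S9 b8_754 := dn_of (Js := j9_754_0 ++ (j9_754_1 ++ (j9_754_2 ++ (j9_754_3 ++ (j9_754_4 ++ (j9_754_5 ++ (j9_754_6 ++ [])))))))
  (jobs_append t9_754_0 <| jobs_append t9_754_1 <| jobs_append t9_754_2 <| jobs_append t9_754_3 <| jobs_append t9_754_4 <| jobs_append t9_754_5 <| jobs_append t9_754_6 <| List.forall_mem_nil _) (by decide +kernel)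

noncomputable def j9_755_0 : List Job := [
  ⟨63, 0x68946a452aa152ae57e8142a653aa956ac56d20924a259309a4e27d008242219108a4623c2e15098440e0501, 0, 2, 0x401, []⟩]

theorem t9_755_0 : jobs 8 S9 b8_755 j9_755_0 = true := by decide +kernel

noncomputable def j9_755_1 : List Job := [
  ⟨59, 0x68946a452aa152ae57e8142a653aa956ac56d20924a259309a4e27d008242219108a4623c2e15098440e0501, 0, 20, 0x0, []⟩]

theorem t9_755_1 : jobs 8 S9 b8_755 j9_755_1 = true := by decide +kernel

noncomputable def j9_755_2 : List Job := [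
  ⟨53, 0x621128a45a311a8e47e01028241a110a8643d20924a259309a4e27d008242219108a4623c2e15098440e0501, 0, 2, 0x0, []⟩]

theorem t9_755_2 : jobs 8 S9 b8_755 j9_755_2 = true := by decide +kernel

noncomputable def j9_755_3 : List Job := [
  ⟨42, 0x621128a45a311a8e47e01028241a110a8643d20924a259309a4e27d008242219108a4623c2e15098440e0501, 0, 2, 0x401, []⟩]

theorem t9_755_3 : jobs 8 S9 b8_755 j9_755_3 = true := by decide +kernel

noncomputable def j9_755_4 : List Job := [
  ⟨39, 0x621128a45a311a8e47e01028241a110a8643d20924a259309a4e27d008242219108a4623c2e15098440e0501, 0, 20, 0x0, []⟩]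

theorem t9_755_4 : jobs 8 S9 b8_755 j9_755_4 = true := by decide +kernel

noncomputable def j9_755_5 : List Job := [
  ⟨29, 0x4c466391dcc064381d42e15098440e0501, 0, 10, 0x0, []⟩]

theorem t9_755_5 : jobs 8 S9 b8_755 j9_755_5 = true := by decide +kernel

noncomputable def j9_755_6 : List Job := [
  ⟨13, 0x540a25229950aa562b960b25a2d970ba5e2fd008242219108a4623920924a259309a4e27cc466391dcc064381d42e15098440e0501, 0, 16, 0x0, []⟩]

theorem t9_755_6 : jobs 8 S9 b8_755 j9_755_6 = true := by decide +kernel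

noncomputable def j9_755_7 : List Job := [
  ⟨1, 0x68142a251a914aa653aa152aa55ab15aae57e01028241a110a8643a21128a45a311a8e47d40a25229950aa562b960b25a2d970ba5e2fd008242219108a4623920924a259309a4e27cc466391dcc064381d42e15098440e0501, 0, 12, 0x0, []⟩]

theorem t9_755_7 : jobs 8 S9 b8_755 j9_755_7 = true := by decide +kernel

theorem d9_755 : Dn 8 S9 b8_755 := dn_of (Js := j9_755_0 ++ (j9_755_1 ++ (j9_755_2 ++ (j9_755_3 ++ (j9_755_4 ++ (j9_755_5 ++ (j9_755_6 ++ (j9_755_7 ++ []))))))))
  (jobs_append t9_755_0 <| jobs_append t9_755_1 <| jobs_append t9_755_2 <| jobs_append t9_755_3 <| jobs_append t9_755_4 <| jobs_append t9_755_5 <| jobs_append t9_755_6 <| jobs_append t9_755_7 <| List.forall_mem_nil _) (by decide +kernel)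

noncomputable def j9_756_0 : List Job := [
  ⟨63, 0x520924a259309a4e27d008242219108a4623c2e15098440e0501, 0, 2, 0x0, []⟩]

theorem t9_756_0 : jobs 8 S9 b8_756 j9_756_0 = true := by decide +kernel

noncomputable def j9_756_1 : List Job := [
  ⟨47, 0x520924a259309a4e27d008242219108a4623c2e15098440e0501, 0, 32, 0x0, []⟩]

theorem t9_756_1 : jobs 8 S9 b8_756 j9_756_1 = true := by decide +kernel

noncomputable def j9_756_2 : List Job := [
  ⟨31, 0x68142a251a914aa653aa152aa55ab15aae57e01028241a110a8643a21128a45a311a8e47d20924a259309a4e27d008242219108a4623c2e15098440e0501, 0, 4, 0x0, []⟩]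

theorem t9_756_2 : jobs 8 S9 b8_756 j9_756_2 = true := by decide +kernel

noncomputable def j9_756_3 : List Job := [
  ⟨15, 0x68142a251a914aa653aa152aa55ab15aae57e01028241a110a8643a21128a45a311a8e47d20924a259309a4e27d008242219108a4623c2e15098440e0501, 0, 32, 0x0, []⟩]

theorem t9_756_3 : jobs 8 S9 b8_756 j9_756_3 = true := by decide +kernel

noncomputable def j9_756_4 : List Job := [
  ⟨10, 0x68946a452aa152ae57e8142a653aa956ac56d20924a259309a4e27d008242219108a4623c2e15098440e0501, 0, 2, 0x0, []⟩]

theorem t9_756_4 : jobs 8 S9 b8_756 j9_756_4 = true := by decide +kernel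

theorem d9_756 : Dn 8 S9 b8_756 := dn_of (Js := j9_756_0 ++ (j9_756_1 ++ (j9_756_2 ++ (j9_756_3 ++ (j9_756_4 ++ [])))))
  (jobs_append t9_756_0 <| jobs_append t9_756_1 <| jobs_append t9_756_2 <| jobs_append t9_756_3 <| jobs_append t9_756_4 <| List.forall_mem_nil _) (by decide +kernel)

noncomputable def j9_757_0 : List Job := [
  ⟨63, 0x68142a251a914aa653aa152aa55ab15aae57e01028241a110a8643a21128a45a311a8e47d40a25229950aa562b960b25a2d970ba5e2fd008242219108a4623920924a259309a4e27cc46b301a4844b20124442b100a4160901, 0, 19, 0x0, []⟩]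

theorem t9_757_0 : jobs 8 S9 b8_757 j9_757_0 = true := by decide +kernel

noncomputable def j9_757_1 : List Job := [
  ⟨49, 0x42e15098440e0501, 0, 14, 0x0, []⟩]

theorem t9_757_1 : jobs 8 S9 b8_757 j9_757_1 = true := by decide +kernel

noncomputable def j9_757_2 : List Job := [
  ⟨29, 0x540a25229950aa562b960b25a2d970ba5e2fd008242219108a4623920924a259309a4e27c2e15098440e0501, 0, 20, 0x0, []⟩]

theorem t9_757_2 : jobs 8 S9 b8_757 j9_757_2 = true := by decide +kernel

noncomputable def j9_757_3 : List Job := [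
  ⟨15, 0x68142a251a914aa653aa152aa55ab15aae57e01028241a110a8643a21128a45a311a8e47d40a25229950aa562b960b25a2d970ba5e2fd008242219108a4623920924a259309a4e27c2e15098440e0501, 0, 14, 0x0, []⟩]

theorem t9_757_3 : jobs 8 S9 b8_757 j9_757_3 = true := by decide +kernel

theorem d9_757 : Dn 8 S9 b8_757 := dn_of (Js := j9_757_0 ++ (j9_757_1 ++ (j9_757_2 ++ (j9_757_3 ++ []))))
  (jobs_append t9_757_0 <| jobs_append t9_757_1 <| jobs_append t9_757_2 <| jobs_append t9_757_3 <| List.forall_mem_nil _) (by decide +kernel)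

noncomputable def j9_758_0 : List Job := [
  ⟨58, 0x6c162b259ad16ab65bae172ba5daf17abe5fc442a190ec4028180e4361909844160901, 0, 4, 0x0, []⟩]

theorem t9_758_0 : jobs 8 S9 b8_758 j9_758_0 = true := by decide +kernel

noncomputable def j9_758_1 : List Job := [
  ⟨50, 0x6c162b259ad16ab65bae172ba5daf17abe5fc442a190ec4028180e4361909844160901, 0, 32, 0x0, []⟩]

theorem t9_758_1 : jobs 8 S9 b8_758 j9_758_1 = true := by decide +kernel

noncomputable def j9_758_2 : List Job := [
  ⟨26, 0x621128a45a311a8e47e01028241a110a8643c442a190ec4028180e4361909844160901, 0, 4, 0x0, []⟩]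

theorem t9_758_2 : jobs 8 S9 b8_758 j9_758_2 = true := by decide +kernel

noncomputable def j9_758_3 : List Job := [
  ⟨18, 0x621128a45a311a8e47e01028241a110a8643c442a190ec4028180e4361909844160901, 0, 32, 0x0, []⟩]

theorem t9_758_3 : jobs 8 S9 b8_758 j9_758_3 = true := by decide +kernel

theorem d9_758 : Dn 8 S9 b8_758 := dn_of (Js := j9_758_0 ++ (j9_758_1 ++ (j9_758_2 ++ (j9_758_3 ++ []))))
  (jobs_append t9_758_0 <| jobs_append t9_758_1 <| jobs_append t9_758_2 <| jobs_append t9_758_3 <| List.forall_mem_nil _) (by decide +kernel)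

noncomputable def j9_759_0 : List Job := [
  ⟨58, 0x6d16ab65bae172ba5dec162b259af17abe5fe01028241a110a8643a21128a45a311a8e47c442a190ec4028180e4361909844160901, 0, 4, 0x0, []⟩]

theorem t9_759_0 : jobs 8 S9 b8_759 j9_759_0 = true := by decide +kernel

noncomputable def j9_759_1 : List Job := [
  ⟨50, 0x6d16ab65bae172ba5dec162b259af17abe5fe01028241a110a8643a21128a45a311a8e47c442a190ec4028180e4361909844160901, 0, 32, 0x0, []⟩]

theorem t9_759_1 : jobs 8 S9 b8_759 j9_759_1 = true := by decide +kernel

noncomputable def j9_759_2 : List Job := [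
  ⟨31, 0x548a6542a968b65c2ed40a2562b960b25e2fd309a4e27d20924a25d108a4623d00824221c442a180e44028190ec361909844160901, 0, 2, 0x201000401, []⟩]

theorem t9_759_2 : jobs 8 S9 b8_759 j9_759_2 = true := by decide +kernel

noncomputable def j9_759_3 : List Job := [
  ⟨26, 0x548a6542a968b65c2ed40a2562b960b25e2fd309a4e27d20924a25d108a4623d00824221c442a190ec4028180e4361909844160901, 0, 4, 0x0, []⟩]

theorem t9_759_3 : jobs 8 S9 b8_759 j9_759_3 = true := by decide +kernel

noncomputable def j9_759_4 : List Job := [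
  ⟨23, 0x548a6542a968b65c2ed40a2562b960b25e2fd309a4e27d20924a25d108a4623d00824221c442a180e44028190ec361909844160901, 0, 2, 0x201, []⟩]

theorem t9_759_4 : jobs 8 S9 b8_759 j9_759_4 = true := by decide +kernel

noncomputable def j9_759_5 : List Job := [
  ⟨18, 0x548a6542a968b65c2ed40a2562b960b25e2fd309a4e27d20924a25d108a4623d00824221c442a190ec4028180e4361909844160901, 0, 32, 0x218000608000c08001019001209001618001c19002018, []⟩]

theorem t9_759_5 : jobs 8 S9 b8_759 j9_759_5 = true := by decide +kernel

theorem d9_759 : Dn 8 S9 b8_759 := dn_of (Js := j9_759_0 ++ (j9_759_1 ++ (j9_759_2 ++ (j9_759_3 ++ (j9_759_4 ++ (j9_759_5 ++ []))))))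
  (jobs_append t9_759_0 <| jobs_append t9_759_1 <| jobs_append t9_759_2 <| jobs_append t9_759_3 <| jobs_append t9_759_4 <| jobs_append t9_759_5 <| List.forall_mem_nil _) (by decide +kernel)

noncomputable def j9_760_0 : List Job := [
  ⟨63, 0x520924a259309a4e27d008242219108a4623c4426190dc4024180d42e15098440e0501, 0, 32, 0x0, []⟩]

theorem t9_760_0 : jobs 8 S9 b8_760 j9_760_0 = true := by decide +kernel

noncomputable def j9_760_1 : List Job := [
  ⟨62, 0x609068643a29168e47e01028442a21128c46d20924a259309a4e27d008242219108a4623c4426190dc4024180d42e15098440e0501, 0, 32, 0x0, []⟩]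

theorem t9_760_1 : jobs 8 S9 b8_760 j9_760_1 = true := by decide +kernel

noncomputable def j9_760_2 : List Job := [
  ⟨61, 0x44426190dc4024180d42e15098440e0501, 0, 32, 0x0, []⟩]

theorem t9_760_2 : jobs 8 S9 b8_760 j9_760_2 = true := by decide +kernel

noncomputable def j9_760_3 : List Job := [
  ⟨60, 0x609068643a29168e47e01028442a21128c46c4426190dc4024180d42e15098440e0501, 0, 32, 0x0, []⟩]

theorem t9_760_3 : jobs 8 S9 b8_760 j9_760_3 = true := by decide +kernel

noncomputable def j9_760_4 : List Job := [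
  ⟨59, 0x520924a259309a4e27d008242219108a4623c4426190dc4024180d42e15098440e0501, 0, 32, 0x0, []⟩]

theorem t9_760_4 : jobs 8 S9 b8_760 j9_760_4 = true := by decide +kernel

noncomputable def j9_760_5 : List Job := [
  ⟨58, 0x609068643a29168e47e01028442a21128c46d20924a259309a4e27d008242219108a4623c4426190dc4024180d42e15098440e0501, 0, 38, 0x4a01004c01, []⟩]

theorem t9_760_5 : jobs 8 S9 b8_760 j9_760_5 = true := by decide +kernel

noncomputable def j9_760_6 : List Job := [
  ⟨57, 0x44426190dc4024180d42e15098440e0501, 0, 32, 0x0, []⟩]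

theorem t9_760_6 : jobs 8 S9 b8_760 j9_760_6 = true := by decide +kernel

noncomputable def j9_760_7 : List Job := [
  ⟨56, 0x609068643a29168e47e01028442a21128c46c4426190dc4024180d42e15098440e0501, 0, 32, 0x0, []⟩]

theorem t9_760_7 : jobs 8 S9 b8_760 j9_760_7 = true := by decide +kernel

noncomputable def j9_760_8 : List Job := [
  ⟨55, 0x520924a259309a4e27d008242219108a4623c4426190dc4024180d42e15098440e0501, 0, 32, 0x0, []⟩]

theorem t9_760_8 : jobs 8 S9 b8_760 j9_760_8 = true := by decide +kernel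

noncomputable def j9_760_9 : List Job := [
  ⟨54, 0x609068643a29168e47e01028442a21128c46d20924a259309a4e27d008242219108a4623c4426190dc4024180d42e15098440e0501, 0, 32, 0x0, []⟩]

theorem t9_760_9 : jobs 8 S9 b8_760 j9_760_9 = true := by decide +kernel

noncomputable def j9_760_10 : List Job := [
  ⟨53, 0x44426190dc4024180d42e15098440e0501, 0, 32, 0x0, []⟩]

theorem t9_760_10 : jobs 8 S9 b8_760 j9_760_10 = true := by decide +kernel

noncomputable def j9_760_11 : List Job := [
  ⟨52, 0x609068643a29168e47e01028442a21128c46c4426190dc4024180d42e15098440e0501, 0, 32, 0x0, []⟩]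

theorem t9_760_11 : jobs 8 S9 b8_760 j9_760_11 = true := by decide +kernel

noncomputable def j9_760_12 : List Job := [
  ⟨51, 0x520924a259309a4e27d008242219108a4623c4426190dc4024180d42e15098440e0501, 0, 32, 0x0, []⟩]

theorem t9_760_12 : jobs 8 S9 b8_760 j9_760_12 = true := by decide +kernel

noncomputable def j9_760_13 : List Job := [
  ⟨50, 0x609068643a29168e47e01028442a21128c46d20924a259309a4e27d008242219108a4623c4426190dc4024180d42e15098440e0501, 0, 72, 0x8210008410008611008811, []⟩]

theorem t9_760_13 : jobs 8 S9 b8_760 j9_760_13 = true := by decide +kernel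

noncomputable def j9_760_14 : List Job := [
  ⟨26, 0x4442a190ec4028180e4361909844160901, 0, 4, 0x0, []⟩]

theorem t9_760_14 : jobs 8 S9 b8_760 j9_760_14 = true := by decide +kernel

noncomputable def j9_760_15 : List Job := [
  ⟨18, 0x4442a190ec4028180e4361909844160901, 0, 32, 0x0, []⟩]

theorem t9_760_15 : jobs 8 S9 b8_760 j9_760_15 = true := by decide +kernel

theorem d9_760 : Dn 8 S9 b8_760 := dn_of (Js := j9_760_0 ++ (j9_760_1 ++ (j9_760_2 ++ (j9_760_3 ++ (j9_760_4 ++ (j9_760_5 ++ (j9_760_6 ++ (j9_760_7 ++ (j9_760_8 ++ (j9_760_9 ++ (j9_760_10 ++ (j9_760_11 ++ (j9_760_12 ++ (j9_760_13 ++ (j9_760_14 ++ (j9_760_15 ++ []))))))))))))))))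
  (jobs_append t9_760_0 <| jobs_append t9_760_1 <| jobs_append t9_760_2 <| jobs_append t9_760_3 <| jobs_append t9_760_4 <| jobs_append t9_760_5 <| jobs_append t9_760_6 <| jobs_append t9_760_7 <| jobs_append t9_760_8 <| jobs_append t9_760_9 <| jobs_append t9_760_10 <| jobs_append t9_760_11 <| jobs_append t9_760_12 <| jobs_append t9_760_13 <| jobs_append t9_760_14 <| jobs_append t9_760_15 <| List.forall_mem_nil _) (by decide +kernel)

noncomputable def j9_761_0 : List Job := [
  ⟨60, 0x621128a45a311a8e47e01028241a110a8643d48a6542a968b65c2ed40a2562b960b25e2fc442a190ec4028180e4361909844160901, 0, 2, 0x200, [(0, ⟨2292, 0x10c014c00100045002060004000400004020001, 0x18c2308028020202402⟩)]⟩]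

theorem t9_761_0 : jobs 8 S9 b8_761 j9_761_0 = true := by decide +kernel

noncomputable def j9_761_1 : List Job := [
  ⟨56, 0x621128a45a311a8e47e01028241a110a8643d48a6542a968b65c2ed40a2562b960b25e2fc442a190ec4028180e4361909844160901, 0, 32, 0x0, []⟩]

theorem t9_761_1 : jobs 8 S9 b8_761 j9_761_1 = true := by decide +kernel

noncomputable def j9_761_2 : List Job := [
  ⟨32, 0x6c162b259ad16ab65bae172ba5daf17abe5fd108a46239309a4e27d00824221920924a25c442a190ec4028180e4361909844160901, 0, 4, 0x0, []⟩]

theorem t9_761_2 : jobs 8 S9 b8_761 j9_761_2 = true := by decide +kernel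

noncomputable def j9_761_3 : List Job := [
  ⟨24, 0x6c162b259ad16ab65bae172ba5daf17abe5fd108a46239309a4e27d00824221920924a25c442a190ec4028180e4361909844160901, 0, 32, 0x0, []⟩]

theorem t9_761_3 : jobs 8 S9 b8_761 j9_761_3 = true := by decide +kernel

noncomputable def j9_761_4 : List Job := [
  ⟨23, 0x601028442a21128c46c40221209860321a0dc381f09844180f01, 0, 64, 0x0, []⟩]

theorem t9_761_4 : jobs 8 S9 b8_761 j9_761_4 = true := by decide +kernel

noncomputable def j9_761_5 : List Job := [
  ⟨22, 0x609068643a29168e47d20924a259309a4e27d008242219108a4623c40221209860321a0dc381f09844180f01, 0, 72, 0x0, []⟩]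

theorem t9_761_5 : jobs 8 S9 b8_761 j9_761_5 = true := by decide +kernel

noncomputable def j9_761_6 : List Job := [
  ⟨21, 0x609068643a29168e47c40221209860321a0dc381f09844180f01, 0, 64, 0x0, []⟩]

theorem t9_761_6 : jobs 8 S9 b8_761 j9_761_6 = true := by decide +kernel

noncomputable def j9_761_7 : List Job := [
  ⟨20, 0x601028442a21128c46c40221209860321a0dc381f09844180f01, 0, 128, 0x0, []⟩]

theorem t9_761_7 : jobs 8 S9 b8_761 j9_761_7 = true := by decide +kernel

noncomputable def j9_761_8 : List Job := [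
  ⟨19, 0x609068643a29168e47d20924a259309a4e27d008242219108a4623c40221209860321a0dc381f09844180f01, 0, 128, 0x0, []⟩]

theorem t9_761_8 : jobs 8 S9 b8_761 j9_761_8 = true := by decide +kernel

noncomputable def j9_761_9 : List Job := [
  ⟨18, 0x601028442a21128c46d20924a259309a4e27d008242219108a4623c40221209860321a0dc381f09844180f01, 0, 72, 0x0, []⟩]

theorem t9_761_9 : jobs 8 S9 b8_761 j9_761_9 = true := by decide +kernel

noncomputable def j9_761_10 : List Job := [
  ⟨17, 0x440221209860321a0dc2e15098440e0501, 0, 32, 0x0, []⟩]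

theorem t9_761_10 : jobs 8 S9 b8_761 j9_761_10 = true := by decide +kernel

noncomputable def j9_761_11 : List Job := [
  ⟨16, 0x609068643a29168e47e01028442a21128c46c40221209860321a0dc2e15098440e0501, 0, 32, 0x0, []⟩]

theorem t9_761_11 : jobs 8 S9 b8_761 j9_761_11 = true := by decide +kernel

noncomputable def j9_761_12 : List Job := [
  ⟨15, 0x520924a259309a4e27d008242219108a4623c40221209860321a0dc2e15098440e0501, 0, 32, 0x0, []⟩]

theorem t9_761_12 : jobs 8 S9 b8_761 j9_761_12 = true := by decide +kernel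

noncomputable def j9_761_13 : List Job := [
  ⟨14, 0x609068643a29168e47e01028442a21128c46d20924a259309a4e27d008242219108a4623c40221209860321a0dc2e15098440e0501, 0, 32, 0x0, []⟩]

theorem t9_761_13 : jobs 8 S9 b8_761 j9_761_13 = true := by decide +kernel

noncomputable def j9_761_14 : List Job := [
  ⟨13, 0x440221209860321a0dc2e15098440e0501, 0, 32, 0x0, []⟩]

theorem t9_761_14 : jobs 8 S9 b8_761 j9_761_14 = true := by decide +kernel

noncomputable def j9_761_15 : List Job := [
  ⟨12, 0x609068643a29168e47e01028442a21128c46c40221209860321a0dc2e15098440e0501, 0, 32, 0x0, []⟩]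

theorem t9_761_15 : jobs 8 S9 b8_761 j9_761_15 = true := by decide +kernel

noncomputable def j9_761_16 : List Job := [
  ⟨11, 0x520924a259309a4e27d008242219108a4623c40221209860321a0dc2e15098440e0501, 0, 32, 0x0, []⟩]

theorem t9_761_16 : jobs 8 S9 b8_761 j9_761_16 = true := by decide +kernel

noncomputable def j9_761_17 : List Job := [
  ⟨10, 0x609068643a29168e47e01028442a21128c46d20924a259309a4e27d008242219108a4623c40221209860321a0dc2e15098440e0501, 0, 32, 0x0, []⟩]

theorem t9_761_17 : jobs 8 S9 b8_761 j9_761_17 = true := by decide +kernel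

noncomputable def j9_761_18 : List Job := [
  ⟨9, 0x440221209860321a0dc2e15098440e0501, 0, 32, 0x0, []⟩]

theorem t9_761_18 : jobs 8 S9 b8_761 j9_761_18 = true := by decide +kernel

noncomputable def j9_761_19 : List Job := [
  ⟨8, 0x609068643a29168e47e01028442a21128c46c40221209860321a0dc2e15098440e0501, 0, 32, 0x0, []⟩]

theorem t9_761_19 : jobs 8 S9 b8_761 j9_761_19 = true := by decide +kernel

noncomputable def j9_761_20 : List Job := [
  ⟨7, 0x520924a259309a4e27d008242219108a4623c40221209860321a0dc2e15098440e0501, 0, 32, 0x0, []⟩]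

theorem t9_761_20 : jobs 8 S9 b8_761 j9_761_20 = true := by decide +kernel

noncomputable def j9_761_21 : List Job := [
  ⟨6, 0x609068643a29168e47e01028442a21128c46d20924a259309a4e27d008242219108a4623c40221209860321a0dc2e15098440e0501, 0, 32, 0x0, []⟩]

theorem t9_761_21 : jobs 8 S9 b8_761 j9_761_21 = true := by decide +kernel

noncomputable def j9_761_22 : List Job := [
  ⟨5, 0x440221209860321a0dc2e15098440e0501, 0, 32, 0x0, []⟩]

theorem t9_761_22 : jobs 8 S9 b8_761 j9_761_22 = true := by decide +kernel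

noncomputable def j9_761_23 : List Job := [
  ⟨4, 0x609068643a29168e47e01028442a21128c46c40221209860321a0dc2e15098440e0501, 0, 32, 0x0, []⟩]

theorem t9_761_23 : jobs 8 S9 b8_761 j9_761_23 = true := by decide +kernel

noncomputable def j9_761_24 : List Job := [
  ⟨3, 0x520924a259309a4e27d008242219108a4623c40221209860321a0dc2e15098440e0501, 0, 32, 0x0, []⟩]

theorem t9_761_24 : jobs 8 S9 b8_761 j9_761_24 = true := by decide +kernel

noncomputable def j9_761_25 : List Job := [
  ⟨2, 0x609068643a29168e47e01028442a21128c46d20924a259309a4e27d008242219108a4623c40221209860321a0dc2e15098440e0501, 0, 32, 0x0, []⟩]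

theorem t9_761_25 : jobs 8 S9 b8_761 j9_761_25 = true := by decide +kernel

noncomputable def j9_761_26 : List Job := [
  ⟨1, 0x44426190dc4024180d42e15098440e0501, 0, 32, 0x0, []⟩]

theorem t9_761_26 : jobs 8 S9 b8_761 j9_761_26 = true := by decide +kernel

noncomputable def j9_761_27 : List Job := [
  ⟨0, 0x609068643a29168e47e01028442a21128c46c4426190dc4024180d42e15098440e0501, 0, 32, 0x0, []⟩]

theorem t9_761_27 : jobs 8 S9 b8_761 j9_761_27 = true := by decide +kernel

theorem d9_761 : Dn 8 S9 b8_761 := dn_of (Js := j9_761_0 ++ (j9_761_1 ++ (j9_761_2 ++ (j9_761_3 ++ (j9_761_4 ++ (j9_761_5 ++ (j9_761_6 ++ (j9_761_7 ++ (j9_761_8 ++ (j9_761_9 ++ (j9_761_10 ++ (j9_761_11 ++ (j9_761_12 ++ (j9_761_13 ++ (j9_761_14 ++ (j9_761_15 ++ (j9_761_16 ++ (j9_761_17 ++ (j9_761_18 ++ (j9_761_19 ++ (j9_761_20 ++ (j9_761_21 ++ (j9_761_22 ++ (j9_761_23 ++ (j9_761_24 ++ (j9_761_25 ++ (j9_761_26 ++ (j9_761_27 ++ []))))))))))))))))))))))))))))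
  (jobs_append t9_761_0 <| jobs_append t9_761_1 <| jobs_append t9_761_2 <| jobs_append t9_761_3 <| jobs_append t9_761_4 <| jobs_append t9_761_5 <| jobs_append t9_761_6 <| jobs_append t9_761_7 <| jobs_append t9_761_8 <| jobs_append t9_761_9 <| jobs_append t9_761_10 <| jobs_append t9_761_11 <| jobs_append t9_761_12 <| jobs_append t9_761_13 <| jobs_append t9_761_14 <| jobs_append t9_761_15 <| jobs_append t9_761_16 <| jobs_append t9_761_17 <| jobs_append t9_761_18 <| jobs_append t9_761_19 <| jobs_append t9_761_20 <| jobs_append t9_761_21 <| jobs_append t9_761_22 <| jobs_append t9_761_23 <| jobs_append t9_761_24 <| jobs_append t9_761_25 <| jobs_append t9_761_26 <| jobs_append t9_761_27 <| List.forall_mem_nil _) (by decide +kernel)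

noncomputable def j9_762_0 : List Job := [
  ⟨63, 0x6c162b259ad16ab65bae172ba5daf17abe5fc4826160b868361e0fc4022140a860321c0ec3e1d0d8640e0501, 0, 32, 0x0, []⟩]

theorem t9_762_0 : jobs 8 S9 b8_762 j9_762_0 = true := by decide +kernel

noncomputable def j9_762_1 : List Job := [
  ⟨62, 0x44826160b868361e0fc4022140a860321c0ec3e1d0d8640e0501, 0, 32, 0x0, []⟩]

theorem t9_762_1 : jobs 8 S9 b8_762 j9_762_1 = true := by decide +kernel

noncomputable def j9_762_2 : List Job := [
  ⟨61, 0x6c162b259ad16ab65bae172ba5daf17abe5fd48a6542a968b65c2ed40a2562b960b25e2fc4826160b868361e0fc4022140a860321c0ec3e1d0d8640e0501, 0, 32, 0x0, []⟩]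

theorem t9_762_2 : jobs 8 S9 b8_762 j9_762_2 = true := by decide +kernel

noncomputable def j9_762_3 : List Job := [
  ⟨60, 0x548a6542a968b65c2ed40a2562b960b25e2fc4826160b868361e0fc4022140a860321c0ec3e1d0d8640e0501, 0, 32, 0x0, []⟩]

theorem t9_762_3 : jobs 8 S9 b8_762 j9_762_3 = true := by decide +kernel

noncomputable def j9_762_4 : List Job := [
  ⟨59, 0x44826160b868361e0fc4022140a860321c0ec3e1d0d8640e0501, 0, 32, 0x0, []⟩]

theorem t9_762_4 : jobs 8 S9 b8_762 j9_762_4 = true := by decide +kernel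

noncomputable def j9_762_5 : List Job := [
  ⟨58, 0x6c162b259ad16ab65bae172ba5daf17abe5fc4826160b868361e0fc4022140a860321c0ec3e1d0d8640e0501, 0, 32, 0x0, []⟩]

theorem t9_762_5 : jobs 8 S9 b8_762 j9_762_5 = true := by decide +kernel

noncomputable def j9_762_6 : List Job := [
  ⟨57, 0x548a6542a968b65c2ed40a2562b960b25e2fc4826160b868361e0fc4022140a860321c0ec3e1d0d8640e0501, 0, 32, 0x0, []⟩]

theorem t9_762_6 : jobs 8 S9 b8_762 j9_762_6 = true := by decide +kernel

noncomputable def j9_762_7 : List Job := [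
  ⟨56, 0x6c162b259ad16ab65bae172ba5daf17abe5fd48a6542a968b65c2ed40a2562b960b25e2fc4826160b868361e0fc4022140a860321c0ec3e1d0d8640e0501, 0, 72, 0x821b00861a008a1a008e1b, []⟩]

theorem t9_762_7 : jobs 8 S9 b8_762 j9_762_7 = true := by decide +kernel

noncomputable def j9_762_8 : List Job := [
  ⟨55, 0x6c162b259ad16ab65bae172ba5daf17abe5fd48a6542a968b65c2ed40a2562b960b25e2fc4022140a860321c0ec361909844160901, 0, 32, 0x0, []⟩]

theorem t9_762_8 : jobs 8 S9 b8_762 j9_762_8 = true := by decide +kernel

noncomputable def j9_762_9 : List Job := [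
  ⟨54, 0x548a6542a968b65c2ed40a2562b960b25e2fc4022140a860321c0ec361909844160901, 0, 32, 0x0, []⟩]

theorem t9_762_9 : jobs 8 S9 b8_762 j9_762_9 = true := by decide +kernel

noncomputable def j9_762_10 : List Job := [
  ⟨53, 0x6c162b259ad16ab65bae172ba5daf17abe5fc4022140a860321c0ec361909844160901, 0, 32, 0x0, []⟩]

theorem t9_762_10 : jobs 8 S9 b8_762 j9_762_10 = true := by decide +kernel

noncomputable def j9_762_11 : List Job := [
  ⟨52, 0x44022140a860321c0ec361909844160901, 0, 32, 0x0, []⟩]

theorem t9_762_11 : jobs 8 S9 b8_762 j9_762_11 = true := by decide +kernel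

noncomputable def j9_762_12 : List Job := [
  ⟨51, 0x548a6542a968b65c2ed40a2562b960b25e2fc4022140a860321c0ec361909844160901, 0, 32, 0x0, []⟩]

theorem t9_762_12 : jobs 8 S9 b8_762 j9_762_12 = true := by decide +kernel

noncomputable def j9_762_13 : List Job := [
  ⟨50, 0x6c162b259ad16ab65bae172ba5daf17abe5fd48a6542a968b65c2ed40a2562b960b25e2fc4022140a860321c0ec361909844160901, 0, 32, 0x0, []⟩]

theorem t9_762_13 : jobs 8 S9 b8_762 j9_762_13 = true := by decide +kernel

noncomputable def j9_762_14 : List Job := [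
  ⟨49, 0x44022140a860321c0ec361909844160901, 0, 32, 0x0, []⟩]

theorem t9_762_14 : jobs 8 S9 b8_762 j9_762_14 = true := by decide +kernel

noncomputable def j9_762_15 : List Job := [
  ⟨48, 0x6c162b259ad16ab65bae172ba5daf17abe5fc4022140a860321c0ec361909844160901, 0, 32, 0x0, []⟩]

theorem t9_762_15 : jobs 8 S9 b8_762 j9_762_15 = true := by decide +kernel

noncomputable def j9_762_16 : List Job := [
  ⟨47, 0x6c162b259ad16ab65bae172ba5daf17abe5fd48a6542a968b65c2ed40a2562b960b25e2fc4022140a860321c0ec361909844160901, 0, 32, 0x0, []⟩]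

theorem t9_762_16 : jobs 8 S9 b8_762 j9_762_16 = true := by decide +kernel

noncomputable def j9_762_17 : List Job := [
  ⟨46, 0x548a6542a968b65c2ed40a2562b960b25e2fc4022140a860321c0ec361909844160901, 0, 32, 0x0, []⟩]

theorem t9_762_17 : jobs 8 S9 b8_762 j9_762_17 = true := by decide +kernel

noncomputable def j9_762_18 : List Job := [
  ⟨45, 0x6c162b259ad16ab65bae172ba5daf17abe5fc4022140a860321c0ec361909844160901, 0, 32, 0x0, []⟩]

theorem t9_762_18 : jobs 8 S9 b8_762 j9_762_18 = true := by decide +kernel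

noncomputable def j9_762_19 : List Job := [
  ⟨44, 0x44022140a860321c0ec361909844160901, 0, 32, 0x0, []⟩]

theorem t9_762_19 : jobs 8 S9 b8_762 j9_762_19 = true := by decide +kernel

noncomputable def j9_762_20 : List Job := [
  ⟨43, 0x548a6542a968b65c2ed40a2562b960b25e2fc4022140a860321c0ec361909844160901, 0, 32, 0x0, []⟩]

theorem t9_762_20 : jobs 8 S9 b8_762 j9_762_20 = true := by decide +kernel

noncomputable def j9_762_21 : List Job := [
  ⟨42, 0x6c162b259ad16ab65bae172ba5daf17abe5fd48a6542a968b65c2ed40a2562b960b25e2fc4022140a860321c0ec361909844160901, 0, 32, 0x0, []⟩]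

theorem t9_762_21 : jobs 8 S9 b8_762 j9_762_21 = true := by decide +kernel

noncomputable def j9_762_22 : List Job := [
  ⟨41, 0x44022140a860321c0ec361909844160901, 0, 32, 0x0, []⟩]

theorem t9_762_22 : jobs 8 S9 b8_762 j9_762_22 = true := by decide +kernel

noncomputable def j9_762_23 : List Job := [
  ⟨40, 0x6c162b259ad16ab65bae172ba5daf17abe5fc4022140a860321c0ec361909844160901, 0, 32, 0x0, []⟩]

theorem t9_762_23 : jobs 8 S9 b8_762 j9_762_23 = true := by decide +kernel

noncomputable def j9_762_24 : List Job := [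
  ⟨39, 0x6c162b259ad16ab65bae172ba5daf17abe5fc442a180e44028190ec361909844160901, 0, 32, 0x0, []⟩]

theorem t9_762_24 : jobs 8 S9 b8_762 j9_762_24 = true := by decide +kernel

noncomputable def j9_762_25 : List Job := [
  ⟨38, 0x4442a190ec4028180e4361909844160901, 0, 32, 0x0, []⟩]

theorem t9_762_25 : jobs 8 S9 b8_762 j9_762_25 = true := by decide +kernel

noncomputable def j9_762_26 : List Job := [
  ⟨37, 0x6c162b259ad16ab65bae172ba5daf17abe5fd48a6542a968b65c2ed40a2562b960b25e2fc442a180e44028190ec361909844160901, 0, 32, 0x0, []⟩]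

theorem t9_762_26 : jobs 8 S9 b8_762 j9_762_26 = true := by decide +kernel

noncomputable def j9_762_27 : List Job := [
  ⟨36, 0x548a6542a968b65c2ed40a2562b960b25e2fc442a190ec4028180e4361909844160901, 0, 32, 0x0, []⟩]

theorem t9_762_27 : jobs 8 S9 b8_762 j9_762_27 = true := by decide +kernel

noncomputable def j9_762_28 : List Job := [
  ⟨35, 0x4442a180e44028190ec361909844160901, 0, 32, 0x0, []⟩]

theorem t9_762_28 : jobs 8 S9 b8_762 j9_762_28 = true := by decide +kernel

noncomputable def j9_762_29 : List Job := [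
  ⟨34, 0x6c162b259ad16ab65bae172ba5daf17abe5fc442a190ec4028180e4361909844160901, 0, 32, 0x0, []⟩]

theorem t9_762_29 : jobs 8 S9 b8_762 j9_762_29 = true := by decide +kernel

noncomputable def j9_762_30 : List Job := [
  ⟨33, 0x548a6542a968b65c2ed40a2562b960b25e2fc442a180e44028190ec361909844160901, 0, 32, 0x0, []⟩]

theorem t9_762_30 : jobs 8 S9 b8_762 j9_762_30 = true := by decide +kernel

noncomputable def j9_762_31 : List Job := [
  ⟨32, 0x6c162b259ad16ab65bae172ba5daf17abe5fd48a6542a968b65c2ed40a2562b960b25e2fc442a190ec4028180e4361909844160901, 0, 38, 0x4a01, []⟩]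

theorem t9_762_31 : jobs 8 S9 b8_762 j9_762_31 = true := by decide +kernel

noncomputable def j9_762_32 : List Job := [
  ⟨31, 0x6c162b259ad16ab65bae172ba5daf17abe5fc442a180e44028190ec361909844160901, 0, 32, 0x0, []⟩]

theorem t9_762_32 : jobs 8 S9 b8_762 j9_762_32 = true := by decide +kernel

noncomputable def j9_762_33 : List Job := [
  ⟨30, 0x4442a190ec4028180e4361909844160901, 0, 32, 0x0, []⟩]

theorem t9_762_33 : jobs 8 S9 b8_762 j9_762_33 = true := by decide +kernel

noncomputable def j9_762_34 : List Job := [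
  ⟨29, 0x6c162b259ad16ab65bae172ba5daf17abe5fd48a6542a968b65c2ed40a2562b960b25e2fc442a180e44028190ec361909844160901, 0, 32, 0x0, []⟩]

theorem t9_762_34 : jobs 8 S9 b8_762 j9_762_34 = true := by decide +kernel

noncomputable def j9_762_35 : List Job := [
  ⟨28, 0x548a6542a968b65c2ed40a2562b960b25e2fc442a190ec4028180e4361909844160901, 0, 32, 0x0, []⟩]

theorem t9_762_35 : jobs 8 S9 b8_762 j9_762_35 = true := by decide +kernel

noncomputable def j9_762_36 : List Job := [
  ⟨27, 0x4442a180e44028190ec361909844160901, 0, 32, 0x0, []⟩]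

theorem t9_762_36 : jobs 8 S9 b8_762 j9_762_36 = true := by decide +kernel

noncomputable def j9_762_37 : List Job := [
  ⟨26, 0x6c162b259ad16ab65bae172ba5daf17abe5fc442a190ec4028180e4361909844160901, 0, 32, 0x0, []⟩]

theorem t9_762_37 : jobs 8 S9 b8_762 j9_762_37 = true := by decide +kernel

noncomputable def j9_762_38 : List Job := [
  ⟨25, 0x548a6542a968b65c2ed40a2562b960b25e2fc442a180e44028190ec361909844160901, 0, 32, 0x0, []⟩]

theorem t9_762_38 : jobs 8 S9 b8_762 j9_762_38 = true := by decide +kernel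

noncomputable def j9_762_39 : List Job := [
  ⟨24, 0x6c162b259ad16ab65bae172ba5daf17abe5fd48a6542a968b65c2ed40a2562b960b25e2fc442a190ec4028180e4361909844160901, 0, 72, 0x8219008618008a18008e19, []⟩]

theorem t9_762_39 : jobs 8 S9 b8_762 j9_762_39 = true := by decide +kernel

noncomputable def j9_762_40 : List Job := [
  ⟨4, 0x621128a45a311a8e47e01028241a110a8643d48a6542a968b65c2ed40a2562b960b25e2fc442a190ec4028180e4361909844160901, 0, 2, 0x201000401, []⟩]

theorem t9_762_40 : jobs 8 S9 b8_762 j9_762_40 = true := by decide +kernel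

noncomputable def j9_762_41 : List Job := [
  ⟨0, 0x621128a45a311a8e47e01028241a110a8643d48a6542a968b65c2ed40a2562b960b25e2fc442a190ec4028180e4361909844160901, 0, 4, 0x0, []⟩]

theorem t9_762_41 : jobs 8 S9 b8_762 j9_762_41 = true := by decide +kernel

theorem d9_762 : Dn 8 S9 b8_762 := dn_of (Js := j9_762_0 ++ (j9_762_1 ++ (j9_762_2 ++ (j9_762_3 ++ (j9_762_4 ++ (j9_762_5 ++ (j9_762_6 ++ (j9_762_7 ++ (j9_762_8 ++ (j9_762_9 ++ (j9_762_10 ++ (j9_762_11 ++ (j9_762_12 ++ (j9_762_13 ++ (j9_762_14 ++ (j9_762_15 ++ (j9_762_16 ++ (j9_762_17 ++ (j9_762_18 ++ (j9_762_19 ++ (j9_762_20 ++ (j9_762_21 ++ (j9_762_22 ++ (j9_762_23 ++ (j9_762_24 ++ (j9_762_25 ++ (j9_762_26 ++ (j9_762_27 ++ (j9_762_28 ++ (j9_762_29 ++ (j9_762_30 ++ (j9_762_31 ++ (j9_762_32 ++ (j9_762_33 ++ (j9_762_34 ++ (j9_762_35 ++ (j9_762_36 ++ (j9_762_37 ++ (j9_762_38 ++ (j9_762_39 ++ (j9_762_40 ++ (j9_762_41 ++ []))))))))))))))))))))))))))))))))))))))))))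
  (jobs_append t9_762_0 <| jobs_append t9_762_1 <| jobs_append t9_762_2 <| jobs_append t9_762_3 <| jobs_append t9_762_4 <| jobs_append t9_762_5 <| jobs_append t9_762_6 <| jobs_append t9_762_7 <| jobs_append t9_762_8 <| jobs_append t9_762_9 <| jobs_append t9_762_10 <| jobs_append t9_762_11 <| jobs_append t9_762_12 <| jobs_append t9_762_13 <| jobs_append t9_762_14 <| jobs_append t9_762_15 <| jobs_append t9_762_16 <| jobs_append t9_762_17 <| jobs_append t9_762_18 <| jobs_append t9_762_19 <| jobs_append t9_762_20 <| jobs_append t9_762_21 <| jobs_append t9_762_22 <| jobs_append t9_762_23 <| jobs_append t9_762_24 <| jobs_append t9_762_25 <| jobs_append t9_762_26 <| jobs_append t9_762_27 <| jobs_append t9_762_28 <| jobs_append t9_762_29 <| jobs_append t9_762_30 <| jobs_append t9_762_31 <| jobs_append t9_762_32 <| jobs_append t9_762_33 <| jobs_append t9_762_34 <| jobs_append t9_762_35 <| jobs_append t9_762_36 <| jobs_append t9_762_37 <| jobs_append t9_762_38 <| jobs_append t9_762_39 <| jobs_append t9_762_40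 <| jobs_append t9_762_41 <| List.forall_mem_nil _) (by decide +kernel)

noncomputable def j9_763_0 : List Job := [
  ⟨63, 0x6c966b45aae172be5fec162b65bae976bc5ec40221209860321a0dc2e15098440e0501, 0, 32, 0x0, []⟩]

theorem t9_763_0 : jobs 8 S9 b8_763 j9_763_0 = true := by decide +kernel

noncomputable def j9_763_1 : List Job := [
  ⟨62, 0x601028241a110a8643a21128a45a311a8e47c40221209860321a0dc2e15098440e0501, 0, 32, 0x0, []⟩]

theorem t9_763_1 : jobs 8 S9 b8_763 j9_763_1 = true := by decide +kernel

noncomputable def j9_763_2 : List Job := [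
  ⟨61, 0x6c966b45aae172be5fec162b65bae976bc5ed20924a259309a4e27d008242219108a4623c40221209860321a0dc2e15098440e0501, 0, 32, 0x0, []⟩]

theorem t9_763_2 : jobs 8 S9 b8_763 j9_763_2 = true := by decide +kernel

noncomputable def j9_763_3 : List Job := [
  ⟨60, 0x601028241a110a8643a21128a45a311a8e47d20924a259309a4e27d008242219108a4623c40221209860321a0dc2e15098440e0501, 0, 32, 0x0, []⟩]

theorem t9_763_3 : jobs 8 S9 b8_763 j9_763_3 = true := by decide +kernel

noncomputable def j9_763_4 : List Job := [
  ⟨59, 0x440221209860321a0dc2e15098440e0501, 0, 32, 0x0, []⟩]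

theorem t9_763_4 : jobs 8 S9 b8_763 j9_763_4 = true := by decide +kernel

noncomputable def j9_763_5 : List Job := [
  ⟨58, 0x6c966b45aae172be5fec162b65bae976bc5ee01028241a110a8643a21128a45a311a8e47c40221209860321a0dc2e15098440e0501, 0, 32, 0x0, []⟩]

theorem t9_763_5 : jobs 8 S9 b8_763 j9_763_5 = true := by decide +kernel

noncomputable def j9_763_6 : List Job := [
  ⟨57, 0x520924a259309a4e27d008242219108a4623c40221209860321a0dc2e15098440e0501, 0, 32, 0x0, []⟩]

theorem t9_763_6 : jobs 8 S9 b8_763 j9_763_6 = true := by decide +kernel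

noncomputable def j9_763_7 : List Job := [
  ⟨56, 0x6c966b45aae172be5fec162b65bae976bc5ee01028241a110a8643a21128a45a311a8e47d20924a259309a4e27d008242219108a4623c40221209860321a0dc2e15098440e0501, 0, 32, 0x0, []⟩]

theorem t9_763_7 : jobs 8 S9 b8_763 j9_763_7 = true := by decide +kernel

noncomputable def j9_763_8 : List Job := [
  ⟨55, 0x6c966b45aae172be5fec162b65bae976bc5ec40221209860321a0dc2e15098440e0501, 0, 32, 0x0, []⟩]

theorem t9_763_8 : jobs 8 S9 b8_763 j9_763_8 = true := by decide +kernel

noncomputable def j9_763_9 : List Job := [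
  ⟨54, 0x601028241a110a8643a21128a45a311a8e47c40221209860321a0dc2e15098440e0501, 0, 32, 0x0, []⟩]

theorem t9_763_9 : jobs 8 S9 b8_763 j9_763_9 = true := by decide +kernel

noncomputable def j9_763_10 : List Job := [
  ⟨53, 0x6c966b45aae172be5fec162b65bae976bc5ed20924a259309a4e27d008242219108a4623c40221209860321a0dc2e15098440e0501, 0, 32, 0x0, []⟩]

theorem t9_763_10 : jobs 8 S9 b8_763 j9_763_10 = true := by decide +kernel

noncomputable def j9_763_11 : List Job := [
  ⟨52, 0x601028241a110a8643a21128a45a311a8e47d20924a259309a4e27d008242219108a4623c40221209860321a0dc2e15098440e0501, 0, 32, 0x0, []⟩]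

theorem t9_763_11 : jobs 8 S9 b8_763 j9_763_11 = true := by decide +kernel

noncomputable def j9_763_12 : List Job := [
  ⟨51, 0x440221209860321a0dc2e15098440e0501, 0, 32, 0x0, []⟩]

theorem t9_763_12 : jobs 8 S9 b8_763 j9_763_12 = true := by decide +kernel

noncomputable def j9_763_13 : List Job := [
  ⟨50, 0x6c966b45aae172be5fec162b65bae976bc5ee01028241a110a8643a21128a45a311a8e47c40221209860321a0dc2e15098440e0501, 0, 32, 0x0, []⟩]

theorem t9_763_13 : jobs 8 S9 b8_763 j9_763_13 = true := by decide +kernel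

noncomputable def j9_763_14 : List Job := [
  ⟨49, 0x520924a259309a4e27d008242219108a4623c40221209860321a0dc2e15098440e0501, 0, 32, 0x0, []⟩]

theorem t9_763_14 : jobs 8 S9 b8_763 j9_763_14 = true := by decide +kernel

noncomputable def j9_763_15 : List Job := [
  ⟨48, 0x6c966b45aae172be5fec162b65bae976bc5ee01028241a110a8643a21128a45a311a8e47d20924a259309a4e27d008242219108a4623c40221209860321a0dc2e15098440e0501, 0, 32, 0x0, []⟩]

theorem t9_763_15 : jobs 8 S9 b8_763 j9_763_15 = true := by decide +kernel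

noncomputable def j9_763_16 : List Job := [
  ⟨47, 0x6c966b45aae172be5fec162b65bae976bc5ec4424190d44026180dc2e15098440e0501, 0, 32, 0x0, []⟩]

theorem t9_763_16 : jobs 8 S9 b8_763 j9_763_16 = true := by decide +kernel

noncomputable def j9_763_17 : List Job := [
  ⟨46, 0x601028241a110a8643a21128a45a311a8e47c4424190d44026180dc2e15098440e0501, 0, 32, 0x0, []⟩]

theorem t9_763_17 : jobs 8 S9 b8_763 j9_763_17 = true := by decide +kernel

noncomputable def j9_763_18 : List Job := [
  ⟨45, 0x6c966b45aae172be5fec162b65bae976bc5ed20924a259309a4e27d008242219108a4623c4424190d44026180dc2e15098440e0501, 0, 32, 0x0, []⟩]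

theorem t9_763_18 : jobs 8 S9 b8_763 j9_763_18 = true := by decide +kernel

noncomputable def j9_763_19 : List Job := [
  ⟨44, 0x601028241a110a8643a21128a45a311a8e47d20924a259309a4e27d008242219108a4623c4424190d44026180dc2e15098440e0501, 0, 32, 0x0, []⟩]

theorem t9_763_19 : jobs 8 S9 b8_763 j9_763_19 = true := by decide +kernel

noncomputable def j9_763_20 : List Job := [
  ⟨43, 0x44426190dc4024180d42e15098440e0501, 0, 32, 0x0, []⟩]

theorem t9_763_20 : jobs 8 S9 b8_763 j9_763_20 = true := by decide +kernel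

noncomputable def j9_763_21 : List Job := [
  ⟨42, 0x6c966b45aae172be5fec162b65bae976bc5ee01028241a110a8643a21128a45a311a8e47c4426190dc4024180d42e15098440e0501, 0, 32, 0x0, []⟩]

theorem t9_763_21 : jobs 8 S9 b8_763 j9_763_21 = true := by decide +kernel

noncomputable def j9_763_22 : List Job := [
  ⟨41, 0x520924a259309a4e27d008242219108a4623c4426190dc4024180d42e15098440e0501, 0, 32, 0x0, []⟩]

theorem t9_763_22 : jobs 8 S9 b8_763 j9_763_22 = true := by decide +kernel

noncomputable def j9_763_23 : List Job := [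
  ⟨40, 0x6c966b45aae172be5fec162b65bae976bc5ee01028241a110a8643a21128a45a311a8e47d20924a259309a4e27d008242219108a4623c4426190dc4024180d42e15098440e0501, 0, 40, 0x4400004600, [(34, ⟨2293, 0x2180145004ac01180001000080040801010040001, 0x18b2409c28040400802⟩), (33, ⟨2294, 0x2080140000ac00130041001080040800010040001, 0x1822009c26040400802⟩)]⟩]

theorem t9_763_23 : jobs 8 S9 b8_763 j9_763_23 = true := by decide +kernel

noncomputable def j9_763_24 : List Job := [
  ⟨39, 0x6c966b45aae172be5fec162b65bae976bc5ec4424190d44026180dc2e15098440e0501, 0, 32, 0x0, []⟩]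

theorem t9_763_24 : jobs 8 S9 b8_763 j9_763_24 = true := by decide +kernel

noncomputable def j9_763_25 : List Job := [
  ⟨38, 0x601028241a110a8643a21128a45a311a8e47c4424190d44026180dc2e15098440e0501, 0, 32, 0x0, []⟩]

theorem t9_763_25 : jobs 8 S9 b8_763 j9_763_25 = true := by decide +kernel

noncomputable def j9_763_26 : List Job := [
  ⟨37, 0x6c966b45aae172be5fec162b65bae976bc5ed20924a259309a4e27d008242219108a4623c4424190d44026180dc2e15098440e0501, 0, 32, 0x0, []⟩]

theorem t9_763_26 : jobs 8 S9 b8_763 j9_763_26 = true := by decide +kernel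

noncomputable def j9_763_27 : List Job := [
  ⟨36, 0x601028241a110a8643a21128a45a311a8e47d20924a259309a4e27d008242219108a4623c4424190d44026180dc2e15098440e0501, 0, 32, 0x0, []⟩]

theorem t9_763_27 : jobs 8 S9 b8_763 j9_763_27 = true := by decide +kernel

noncomputable def j9_763_28 : List Job := [
  ⟨35, 0x44426190dc4024180d42e15098440e0501, 0, 32, 0x0, []⟩]

theorem t9_763_28 : jobs 8 S9 b8_763 j9_763_28 = true := by decide +kernel

noncomputable def j9_763_29 : List Job := [
  ⟨34, 0x6c966b45aae172be5fec162b65bae976bc5ee01028241a110a8643a21128a45a311a8e47c4426190dc4024180d42e15098440e0501, 0, 32, 0x0, []⟩]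

theorem t9_763_29 : jobs 8 S9 b8_763 j9_763_29 = true := by decide +kernel

noncomputable def j9_763_30 : List Job := [
  ⟨33, 0x520924a259309a4e27d008242219108a4623c4426190dc4024180d42e15098440e0501, 0, 32, 0x0, []⟩]

theorem t9_763_30 : jobs 8 S9 b8_763 j9_763_30 = true := by decide +kernel

noncomputable def j9_763_31 : List Job := [
  ⟨32, 0x6c966b45aae172be5fec162b65bae976bc5ee01028241a110a8643a21128a45a311a8e47d20924a259309a4e27d008242219108a4623c4426190dc4024180d42e15098440e0501, 0, 72, 0x8210008411008810008a10008c11008e11, []⟩]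

theorem t9_763_31 : jobs 8 S9 b8_763 j9_763_31 = true := by decide +kernel

noncomputable def j9_763_32 : List Job := [
  ⟨31, 0x6c162b259ad16ab65bae172ba5daf17abe5fc4022140a860321c0ec36190a05c180f01, 0, 128, 0x0, []⟩]

theorem t9_763_32 : jobs 8 S9 b8_763 j9_763_32 = true := by decide +kernel

noncomputable def j9_763_33 : List Job := [
  ⟨30, 0x44022140a860321c0ec36190a05c180f01, 0, 128, 0x0, []⟩]

theorem t9_763_33 : jobs 8 S9 b8_763 j9_763_33 = true := by decide +kernel

noncomputable def j9_763_34 : List Job := [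
  ⟨29, 0x6c162b259ad16ab65bae172ba5daf17abe5fd48a6542a968b65c2ed40a2562b960b25e2fc4022140a860321c0ec36190a05c180f01, 0, 128, 0x0, []⟩]

theorem t9_763_34 : jobs 8 S9 b8_763 j9_763_34 = true := by decide +kernel

noncomputable def j9_763_35 : List Job := [
  ⟨28, 0x548a6542a968b65c2ed40a2562b960b25e2fc4022140a860321c0ec36190a05c180f01, 0, 128, 0x0, []⟩]

theorem t9_763_35 : jobs 8 S9 b8_763 j9_763_35 = true := by decide +kernel

noncomputable def j9_763_36 : List Job := [
  ⟨27, 0x44022140a860321c0ec36190a05c180f01, 0, 128, 0x0, []⟩]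

theorem t9_763_36 : jobs 8 S9 b8_763 j9_763_36 = true := by decide +kernel

noncomputable def j9_763_37 : List Job := [
  ⟨26, 0x6c162b259ad16ab65bae172ba5daf17abe5fc4022140a860321c0ec36190a05c180f01, 0, 128, 0x0, []⟩]

theorem t9_763_37 : jobs 8 S9 b8_763 j9_763_37 = true := by decide +kernel

noncomputable def j9_763_38 : List Job := [
  ⟨25, 0x548a6542a968b65c2ed40a2562b960b25e2fc4022140a860321c0ec36190a05c180f01, 0, 128, 0x0, []⟩]

theorem t9_763_38 : jobs 8 S9 b8_763 j9_763_38 = true := by decide +kernel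

noncomputable def j9_763_39 : List Job := [
  ⟨24, 0x6c162b259ad16ab65bae172ba5daf17abe5fd48a6542a968b65c2ed40a2562b960b25e2fc4022140a860321c0ec36190a05c180f01, 0, 128, 0x0, []⟩]

theorem t9_763_39 : jobs 8 S9 b8_763 j9_763_39 = true := by decide +kernel

noncomputable def j9_763_40 : List Job := [
  ⟨23, 0x548a6542a968b65c2ed40a2562b960b25e2fc3e1d0d8640e0501, 0, 32, 0x0, []⟩]

theorem t9_763_40 : jobs 8 S9 b8_763 j9_763_40 = true := by decide +kernel

noncomputable def j9_763_41 : List Job := [
  ⟨22, 0x6c162b259ad16ab65bae172ba5daf17abe5fd48a6542a968b65c2ed40a2562b960b25e2fc3e1d0d8640e0501, 0, 32, 0x0, []⟩]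

theorem t9_763_41 : jobs 8 S9 b8_763 j9_763_41 = true := by decide +kernel

noncomputable def j9_763_42 : List Job := [
  ⟨21, 0x43e1d0d8640e0501, 0, 32, 0x0, []⟩]

theorem t9_763_42 : jobs 8 S9 b8_763 j9_763_42 = true := by decide +kernel

noncomputable def j9_763_43 : List Job := [
  ⟨20, 0x6c162b259ad16ab65bae172ba5daf17abe5fc3e1d0d8640e0501, 0, 32, 0x0, []⟩]

theorem t9_763_43 : jobs 8 S9 b8_763 j9_763_43 = true := by decide +kernel

noncomputable def j9_763_44 : List Job := [
  ⟨19, 0x6c162b259ad16ab65bae172ba5daf17abe5fd48a6542a968b65c2ed40a2562b960b25e2fc3e1d0d8640e0501, 0, 32, 0x0, []⟩]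

theorem t9_763_44 : jobs 8 S9 b8_763 j9_763_44 = true := by decide +kernel

noncomputable def j9_763_45 : List Job := [
  ⟨18, 0x548a6542a968b65c2ed40a2562b960b25e2fc3e1d0d8640e0501, 0, 32, 0x0, []⟩]

theorem t9_763_45 : jobs 8 S9 b8_763 j9_763_45 = true := by decide +kernel

noncomputable def j9_763_46 : List Job := [
  ⟨17, 0x6c162b259ad16ab65bae172ba5daf17abe5fc3e1d0d8640e0501, 0, 32, 0x0, []⟩]

theorem t9_763_46 : jobs 8 S9 b8_763 j9_763_46 = true := by decide +kernel

noncomputable def j9_763_47 : List Job := [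
  ⟨16, 0x43e1d0d8640e0501, 0, 32, 0x0, []⟩]

theorem t9_763_47 : jobs 8 S9 b8_763 j9_763_47 = true := by decide +kernel

noncomputable def j9_763_48 : List Job := [
  ⟨15, 0x548a6542a968b65c2ed40a2562b960b25e2fc3e1d0d8640e0501, 0, 32, 0x0, []⟩]

theorem t9_763_48 : jobs 8 S9 b8_763 j9_763_48 = true := by decide +kernel

noncomputable def j9_763_49 : List Job := [
  ⟨14, 0x6c162b259ad16ab65bae172ba5daf17abe5fd48a6542a968b65c2ed40a2562b960b25e2fc3e1d0d8640e0501, 0, 32, 0x0, []⟩]

theorem t9_763_49 : jobs 8 S9 b8_763 j9_763_49 = true := by decide +kernel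

noncomputable def j9_763_50 : List Job := [
  ⟨13, 0x43e1d0d8640e0501, 0, 32, 0x0, []⟩]

theorem t9_763_50 : jobs 8 S9 b8_763 j9_763_50 = true := by decide +kernel

noncomputable def j9_763_51 : List Job := [
  ⟨12, 0x6c162b259ad16ab65bae172ba5daf17abe5fc3e1d0d8640e0501, 0, 32, 0x0, []⟩]

theorem t9_763_51 : jobs 8 S9 b8_763 j9_763_51 = true := by decide +kernel

noncomputable def j9_763_52 : List Job := [
  ⟨11, 0x6c162b259ad16ab65bae172ba5daf17abe5fd48a6542a968b65c2ed40a2562b960b25e2fc3e1d0d8640e0501, 0, 32, 0x0, []⟩]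

theorem t9_763_52 : jobs 8 S9 b8_763 j9_763_52 = true := by decide +kernel

noncomputable def j9_763_53 : List Job := [
  ⟨10, 0x548a6542a968b65c2ed40a2562b960b25e2fc3e1d0d8640e0501, 0, 32, 0x0, []⟩]

theorem t9_763_53 : jobs 8 S9 b8_763 j9_763_53 = true := by decide +kernel

noncomputable def j9_763_54 : List Job := [
  ⟨9, 0x6c162b259ad16ab65bae172ba5daf17abe5fc3e1d0d8640e0501, 0, 32, 0x0, []⟩]

theorem t9_763_54 : jobs 8 S9 b8_763 j9_763_54 = true := by decide +kernel

noncomputable def j9_763_55 : List Job := [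
  ⟨8, 0x43e1d0d8640e0501, 0, 32, 0x0, []⟩]

theorem t9_763_55 : jobs 8 S9 b8_763 j9_763_55 = true := by decide +kernel

noncomputable def j9_763_56 : List Job := [
  ⟨7, 0x6c162b259ad16ab65bae172ba5daf17abe5fc4826160b868361e0fc4022140a860321c0ec3e1d0d8640e0501, 0, 32, 0x0, []⟩]

theorem t9_763_56 : jobs 8 S9 b8_763 j9_763_56 = true := by decide +kernel

noncomputable def j9_763_57 : List Job := [
  ⟨6, 0x44826160b868361e0fc4022140a860321c0ec3e1d0d8640e0501, 0, 32, 0x0, []⟩]

theorem t9_763_57 : jobs 8 S9 b8_763 j9_763_57 = true := by decide +kernel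

noncomputable def j9_763_58 : List Job := [
  ⟨5, 0x6c162b259ad16ab65bae172ba5daf17abe5fd48a6542a968b65c2ed40a2562b960b25e2fc4826160b868361e0fc4022140a860321c0ec3e1d0d8640e0501, 0, 32, 0x0, []⟩]

theorem t9_763_58 : jobs 8 S9 b8_763 j9_763_58 = true := by decide +kernel

noncomputable def j9_763_59 : List Job := [
  ⟨4, 0x548a6542a968b65c2ed40a2562b960b25e2fc4826160b868361e0fc4022140a860321c0ec3e1d0d8640e0501, 0, 32, 0x0, []⟩]

theorem t9_763_59 : jobs 8 S9 b8_763 j9_763_59 = true := by decide +kernel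

noncomputable def j9_763_60 : List Job := [
  ⟨3, 0x44826160b868361e0fc4022140a860321c0ec3e1d0d8640e0501, 0, 32, 0x0, []⟩]

theorem t9_763_60 : jobs 8 S9 b8_763 j9_763_60 = true := by decide +kernel

noncomputable def j9_763_61 : List Job := [
  ⟨2, 0x6c162b259ad16ab65bae172ba5daf17abe5fc4826160b868361e0fc4022140a860321c0ec3e1d0d8640e0501, 0, 32, 0x0, []⟩]

theorem t9_763_61 : jobs 8 S9 b8_763 j9_763_61 = true := by decide +kernel

noncomputable def j9_763_62 : List Job := [
  ⟨1, 0x548a6542a968b65c2ed40a2562b960b25e2fc4826160b868361e0fc4022140a860321c0ec3e1d0d8640e0501, 0, 32, 0x0, []⟩]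

theorem t9_763_62 : jobs 8 S9 b8_763 j9_763_62 = true := by decide +kernel

noncomputable def j9_763_63 : List Job := [
  ⟨0, 0x6c162b259ad16ab65bae172ba5daf17abe5fd48a6542a968b65c2ed40a2562b960b25e2fc4826160b868361e0fc4022140a860321c0ec3e1d0d8640e0501, 0, 32, 0x0, []⟩]

theorem t9_763_63 : jobs 8 S9 b8_763 j9_763_63 = true := by decide +kernel

theorem d9_763 : Dn 8 S9 b8_763 := dn_of (Js := j9_763_0 ++ (j9_763_1 ++ (j9_763_2 ++ (j9_763_3 ++ (j9_763_4 ++ (j9_763_5 ++ (j9_763_6 ++ (j9_763_7 ++ (j9_763_8 ++ (j9_763_9 ++ (j9_763_10 ++ (j9_763_11 ++ (j9_763_12 ++ (j9_763_13 ++ (j9_763_14 ++ (j9_763_15 ++ (j9_763_16 ++ (j9_763_17 ++ (j9_763_18 ++ (j9_763_19 ++ (j9_763_20 ++ (j9_763_21 ++ (j9_763_22 ++ (j9_763_23 ++ (j9_763_24 ++ (j9_763_25 ++ (j9_763_26 ++ (j9_763_27 ++ (j9_763_28 ++ (j9_763_29 ++ (j9_763_30 ++ (j9_763_31 ++ (j9_763_32 ++ (j9_763_33 ++ (j9_763_34 ++ (j9_763_35 ++ (j9_763_36 ++ (j9_763_37 ++ (j9_763_38 ++ (j9_763_39 ++ (j9_763_40 ++ (j9_763_41 ++ (j9_763_42 ++ (j9_763_43 ++ (j9_763_44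 ++ (j9_763_45 ++ (j9_763_46 ++ (j9_763_47 ++ (j9_763_48 ++ (j9_763_49 ++ (j9_763_50 ++ (j9_763_51 ++ (j9_763_52 ++ (j9_763_53 ++ (j9_763_54 ++ (j9_763_55 ++ (j9_763_56 ++ (j9_763_57 ++ (j9_763_58 ++ (j9_763_59 ++ (j9_763_60 ++ (j9_763_61 ++ (j9_763_62 ++ (j9_763_63 ++ []))))))))))))))))))))))))))))))))))))))))))))))))))))))))))))))))
  (jobs_append t9_763_0 <| jobs_append t9_763_1 <| jobs_append t9_763_2 <| jobs_append t9_763_3 <| jobs_append t9_763_4 <| jobs_append t9_763_5 <| jobs_append t9_763_6 <| jobs_append t9_763_7 <| jobs_append t9_763_8 <| jobs_append t9_763_9 <| jobs_append t9_763_10 <| jobs_append t9_763_11 <| jobs_append t9_763_12 <| jobs_append t9_763_13 <| jobs_append t9_763_14 <| jobs_append t9_763_15 <| jobs_append t9_763_16 <| jobs_append t9_763_17 <| jobs_append t9_763_18 <| jobs_append t9_763_19 <| jobs_append t9_763_20 <| jobs_append t9_763_21 <| jobs_append t9_763_22 <| jobs_append t9_763_23 <| jobs_append t9_763_24 <| jobs_append t9_763_25 <| jobs_append t9_763_26 <| jobs_append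 t9_763_27 <| jobs_append t9_763_28 <| jobs_append t9_763_29 <| jobs_append t9_763_30 <| jobs_append t9_763_31 <| jobs_append t9_763_32 <| jobs_append t9_763_33 <| jobs_append t9_763_34 <| jobs_append t9_763_35 <| jobs_append t9_763_36 <| jobs_append t9_763_37 <| jobs_append t9_763_38 <| jobs_append t9_763_39 <| jobs_append t9_763_40 <| jobs_append t9_763_41 <| jobs_append t9_763_42 <| jobs_append t9_763_43 <| jobs_append t9_763_44 <| jobs_append t9_763_45 <| jobs_append t9_763_46 <| jobs_append t9_763_47 <| jobs_append t9_763_48 <| jobs_append t9_763_49 <| jobs_append t9_763_50 <| jobs_append t9_763_51 <| jobs_append t9_763_52 <| jobs_append t9_763_53 <| jobs_append t9_763_54 <| jobs_append t9_763_55 <| jobs_append t9_763_56 <| jobs_append t9_763_57 <| jobs_append t9_763_58 <| jobs_append t9_763_59 <| jobs_append t9_763_60 <| jobs_append t9_763_61 <| jobs_append t9_763_62 <| jobs_append t9_763_63 <| List.forall_mem_nil _) (by decide +kernel)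

noncomputable def j9_764_0 : List Job := [
  ⟨48, 0x5108a46239309a4e27d00824221920924a25c442a190ec4028180e4361909844160901, 0, 4, 0x0, []⟩]

theorem t9_764_0 : jobs 8 S9 b8_764 j9_764_0 = true := by decide +kernel

noncomputable def j9_764_1 : List Job := [
  ⟨40, 0x5108a46239309a4e27d00824221920924a25c442a190ec4028180e4361909844160901, 0, 32, 0x0, []⟩]

theorem t9_764_1 : jobs 8 S9 b8_764 j9_764_1 = true := by decide +kernel

noncomputable def j9_764_2 : List Job := [
  ⟨39, 0x6c966b45aae172be5fec162b65bae976bc5ec3e1d098441e0d01, 0, 32, 0x0, []⟩]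

theorem t9_764_2 : jobs 8 S9 b8_764 j9_764_2 = true := by decide +kernel

noncomputable def j9_764_3 : List Job := [
  ⟨38, 0x601028241a110a8643a21128a45a311a8e47c3e1d098441e0d01, 0, 32, 0x0, []⟩]

theorem t9_764_3 : jobs 8 S9 b8_764 j9_764_3 = true := by decide +kernel

noncomputable def j9_764_4 : List Job := [
  ⟨37, 0x6c966b45aae172be5fec162b65bae976bc5ed20924a259309a4e27d008242219108a4623c3e1d098441e0d01, 0, 32, 0x0, []⟩]

theorem t9_764_4 : jobs 8 S9 b8_764 j9_764_4 = true := by decide +kernel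

noncomputable def j9_764_5 : List Job := [
  ⟨36, 0x601028241a110a8643a21128a45a311a8e47d20924a259309a4e27d008242219108a4623c3e1d098441e0d01, 0, 32, 0x0, []⟩]

theorem t9_764_5 : jobs 8 S9 b8_764 j9_764_5 = true := by decide +kernel

noncomputable def j9_764_6 : List Job := [
  ⟨35, 0x43e1d098441e0d01, 0, 32, 0x0, []⟩]

theorem t9_764_6 : jobs 8 S9 b8_764 j9_764_6 = true := by decide +kernel

noncomputable def j9_764_7 : List Job := [
  ⟨34, 0x6c966b45aae172be5fec162b65bae976bc5ee01028241a110a8643a21128a45a311a8e47c3e1d098441e0d01, 0, 32, 0x0, []⟩]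

theorem t9_764_7 : jobs 8 S9 b8_764 j9_764_7 = true := by decide +kernel

noncomputable def j9_764_8 : List Job := [
  ⟨33, 0x520924a259309a4e27d008242219108a4623c3e1d098441e0d01, 0, 32, 0x0, []⟩]

theorem t9_764_8 : jobs 8 S9 b8_764 j9_764_8 = true := by decide +kernel

noncomputable def j9_764_9 : List Job := [
  ⟨32, 0x6c966b45aae172be5fec162b65bae976bc5ee01028241a110a8643a21128a45a311a8e47d20924a259309a4e27d008242219108a4623c3e1d098441e0d01, 0, 32, 0x0, []⟩]

theorem t9_764_9 : jobs 8 S9 b8_764 j9_764_9 = true := by decide +kernel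

noncomputable def j9_764_10 : List Job := [
  ⟨31, 0x6c966b45aae172be5fec162b65bae976bc5ec3e1d098441e0d01, 0, 32, 0x0, []⟩]

theorem t9_764_10 : jobs 8 S9 b8_764 j9_764_10 = true := by decide +kernel

noncomputable def j9_764_11 : List Job := [
  ⟨30, 0x601028241a110a8643a21128a45a311a8e47c3e1d098441e0d01, 0, 32, 0x0, []⟩]

theorem t9_764_11 : jobs 8 S9 b8_764 j9_764_11 = true := by decide +kernel

noncomputable def j9_764_12 : List Job := [
  ⟨29, 0x6c966b45aae172be5fec162b65bae976bc5ed20924a259309a4e27d008242219108a4623c3e1d098441e0d01, 0, 32, 0x0, []⟩]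

theorem t9_764_12 : jobs 8 S9 b8_764 j9_764_12 = true := by decide +kernel

noncomputable def j9_764_13 : List Job := [
  ⟨28, 0x601028241a110a8643a21128a45a311a8e47d20924a259309a4e27d008242219108a4623c3e1d098441e0d01, 0, 32, 0x0, []⟩]

theorem t9_764_13 : jobs 8 S9 b8_764 j9_764_13 = true := by decide +kernel

noncomputable def j9_764_14 : List Job := [
  ⟨27, 0x43e1d098441e0d01, 0, 32, 0x0, []⟩]

theorem t9_764_14 : jobs 8 S9 b8_764 j9_764_14 = true := by decide +kernel

noncomputable def j9_764_15 : List Job := [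
  ⟨26, 0x6c966b45aae172be5fec162b65bae976bc5ee01028241a110a8643a21128a45a311a8e47c3e1d098441e0d01, 0, 32, 0x0, []⟩]

theorem t9_764_15 : jobs 8 S9 b8_764 j9_764_15 = true := by decide +kernel

noncomputable def j9_764_16 : List Job := [
  ⟨25, 0x520924a259309a4e27d008242219108a4623c3e1d098441e0d01, 0, 32, 0x0, []⟩]

theorem t9_764_16 : jobs 8 S9 b8_764 j9_764_16 = true := by decide +kernel

noncomputable def j9_764_17 : List Job := [
  ⟨24, 0x6c966b45aae172be5fec162b65bae976bc5ee01028241a110a8643a21128a45a311a8e47d20924a259309a4e27d008242219108a4623c3e1d098441e0d01, 0, 32, 0x0, []⟩]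

theorem t9_764_17 : jobs 8 S9 b8_764 j9_764_17 = true := by decide +kernel

noncomputable def j9_764_18 : List Job := [
  ⟨23, 0x4502a160b8703a1e0fc40221209860321a0dc3e1d098441e0d01, 0, 32, 0x0, []⟩]

theorem t9_764_18 : jobs 8 S9 b8_764 j9_764_18 = true := by decide +kernel

noncomputable def j9_764_19 : List Job := [
  ⟨22, 0x6c966b45aae172be5fec162b65bae976bc5ee01028241a110a8643a21128a45a311a8e47c502a160b8703a1e0fc40221209860321a0dc3e1d098441e0d01, 0, 32, 0x0, []⟩]

theorem t9_764_19 : jobs 8 S9 b8_764 j9_764_19 = true := by decide +kernel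

noncomputable def j9_764_20 : List Job := [
  ⟨21, 0x520924a259309a4e27d008242219108a4623c502a160b8703a1e0fc40221209860321a0dc3e1d098441e0d01, 0, 32, 0x0, []⟩]

theorem t9_764_20 : jobs 8 S9 b8_764 j9_764_20 = true := by decide +kernel

noncomputable def j9_764_21 : List Job := [
  ⟨20, 0x6c966b45aae172be5fec162b65bae976bc5ee01028241a110a8643a21128a45a311a8e47d20924a259309a4e27d008242219108a4623c502a160b8703a1e0fc40221209860321a0dc3e1d098441e0d01, 0, 38, 0x0, []⟩]

theorem t9_764_21 : jobs 8 S9 b8_764 j9_764_21 = true := by decide +kernel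

noncomputable def j9_764_22 : List Job := [
  ⟨19, 0x6c966b45aae172be5fec162b65bae976bc5ec502a160b8703a1e0fc40221209860321a0dc3e1d098441e0d01, 0, 32, 0x0, []⟩]

theorem t9_764_22 : jobs 8 S9 b8_764 j9_764_22 = true := by decide +kernel

noncomputable def j9_764_23 : List Job := [
  ⟨18, 0x601028241a110a8643a21128a45a311a8e47c502a160b8703a1e0fc40221209860321a0dc3e1d098441e0d01, 0, 32, 0x0, []⟩]

theorem t9_764_23 : jobs 8 S9 b8_764 j9_764_23 = true := by decide +kernel

noncomputable def j9_764_24 : List Job := [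
  ⟨17, 0x6c966b45aae172be5fec162b65bae976bc5ed20924a259309a4e27d008242219108a4623c502a160b8703a1e0fc40221209860321a0dc3e1d098441e0d01, 0, 32, 0x0, []⟩]

theorem t9_764_24 : jobs 8 S9 b8_764 j9_764_24 = true := by decide +kernel

noncomputable def j9_764_25 : List Job := [
  ⟨16, 0x601028241a110a8643a21128a45a311a8e47d20924a259309a4e27d008242219108a4623c502a160b8703a1e0fc40221209860321a0dc3e1d098441e0d01, 0, 32, 0x0, []⟩]

theorem t9_764_25 : jobs 8 S9 b8_764 j9_764_25 = true := by decide +kernel

noncomputable def j9_764_26 : List Job := [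
  ⟨15, 0x4502a160b8703a1e0fc40221209860321a0dc3e1d098441e0d01, 0, 32, 0x0, []⟩]

theorem t9_764_26 : jobs 8 S9 b8_764 j9_764_26 = true := by decide +kernel

noncomputable def j9_764_27 : List Job := [
  ⟨14, 0x6c966b45aae172be5fec162b65bae976bc5ee01028241a110a8643a21128a45a311a8e47c502a160b8703a1e0fc40221209860321a0dc3e1d098441e0d01, 0, 32, 0x0, []⟩]

theorem t9_764_27 : jobs 8 S9 b8_764 j9_764_27 = true := by decide +kernel

noncomputable def j9_764_28 : List Job := [
  ⟨13, 0x520924a259309a4e27d008242219108a4623c502a160b8703a1e0fc40221209860321a0dc3e1d098441e0d01, 0, 32, 0x0, []⟩]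

theorem t9_764_28 : jobs 8 S9 b8_764 j9_764_28 = true := by decide +kernel

noncomputable def j9_764_29 : List Job := [
  ⟨12, 0x6c966b45aae172be5fec162b65bae976bc5ee01028241a110a8643a21128a45a311a8e47d20924a259309a4e27d008242219108a4623c502a160b8703a1e0fc40221209860321a0dc3e1d098441e0d01, 0, 72, 0x4210004411004611004a10004c11005010, []⟩]

theorem t9_764_29 : jobs 8 S9 b8_764 j9_764_29 = true := by decide +kernel

noncomputable def j9_764_30 : List Job := [
  ⟨11, 0x6c966b45aae172be5fec162b65bae976bc5ec502a160b8703a1e0fc40221209860321a0dc3e1d098441e0d01, 0, 32, 0x0, []⟩]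

theorem t9_764_30 : jobs 8 S9 b8_764 j9_764_30 = true := by decide +kernel

noncomputable def j9_764_31 : List Job := [
  ⟨10, 0x601028241a110a8643a21128a45a311a8e47c502a160b8703a1e0fc40221209860321a0dc3e1d098441e0d01, 0, 32, 0x0, []⟩]

theorem t9_764_31 : jobs 8 S9 b8_764 j9_764_31 = true := by decide +kernel

noncomputable def j9_764_32 : List Job := [
  ⟨9, 0x6c966b45aae172be5fec162b65bae976bc5ed20924a259309a4e27d008242219108a4623c502a160b8703a1e0fc40221209860321a0dc3e1d098441e0d01, 0, 32, 0x0, []⟩]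

theorem t9_764_32 : jobs 8 S9 b8_764 j9_764_32 = true := by decide +kernel

noncomputable def j9_764_33 : List Job := [
  ⟨8, 0x601028241a110a8643a21128a45a311a8e47d20924a259309a4e27d008242219108a4623c502a160b8703a1e0fc40221209860321a0dc3e1d098441e0d01, 0, 32, 0x0, []⟩]

theorem t9_764_33 : jobs 8 S9 b8_764 j9_764_33 = true := by decide +kernel

noncomputable def j9_764_34 : List Job := [
  ⟨7, 0x440221209860321a0dc301b09844100b01, 0, 128, 0x0, []⟩]

theorem t9_764_34 : jobs 8 S9 b8_764 j9_764_34 = true := by decide +kernel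

noncomputable def j9_764_35 : List Job := [
  ⟨6, 0x6c966b45aae172be5fec162b65bae976bc5ee01028241a110a8643a21128a45a311a8e47c40221209860321a0dc301b09844100b01, 0, 128, 0x0, []⟩]

theorem t9_764_35 : jobs 8 S9 b8_764 j9_764_35 = true := by decide +kernel

noncomputable def j9_764_36 : List Job := [
  ⟨5, 0x520924a259309a4e27d008242219108a4623c40221209860321a0dc301b09844100b01, 0, 128, 0x0, []⟩]

theorem t9_764_36 : jobs 8 S9 b8_764 j9_764_36 = true := by decide +kernel

noncomputable def j9_764_37 : List Job := [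
  ⟨4, 0x6c966b45aae172be5fec162b65bae976bc5ee01028241a110a8643a21128a45a311a8e47d20924a259309a4e27d008242219108a4623c40221209860321a0dc301b09844100b01, 0, 128, 0x0, []⟩]

theorem t9_764_37 : jobs 8 S9 b8_764 j9_764_37 = true := by decide +kernel

noncomputable def j9_764_38 : List Job := [
  ⟨3, 0x6c966b45aae172be5fec162b65bae976bc5ec40221209860321a0dc301b09844100b01, 0, 128, 0x0, []⟩]

theorem t9_764_38 : jobs 8 S9 b8_764 j9_764_38 = true := by decide +kernel

noncomputable def j9_764_39 : List Job := [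
  ⟨2, 0x601028241a110a8643a21128a45a311a8e47c40221209860321a0dc301b09844100b01, 0, 128, 0x0, []⟩]

theorem t9_764_39 : jobs 8 S9 b8_764 j9_764_39 = true := by decide +kernel

noncomputable def j9_764_40 : List Job := [
  ⟨1, 0x6c966b45aae172be5fec162b65bae976bc5ed20924a259309a4e27d008242219108a4623c40221209860321a0dc301b09844100b01, 0, 128, 0x0, []⟩]

theorem t9_764_40 : jobs 8 S9 b8_764 j9_764_40 = true := by decide +kernel

noncomputable def j9_764_41 : List Job := [
  ⟨0, 0x601028241a110a8643a21128a45a311a8e47d20924a259309a4e27d008242219108a4623c40221209860321a0dc301b09844100b01, 0, 128, 0x0, []⟩]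

theorem t9_764_41 : jobs 8 S9 b8_764 j9_764_41 = true := by decide +kernel

theorem d9_764 : Dn 8 S9 b8_764 := dn_of (Js := j9_764_0 ++ (j9_764_1 ++ (j9_764_2 ++ (j9_764_3 ++ (j9_764_4 ++ (j9_764_5 ++ (j9_764_6 ++ (j9_764_7 ++ (j9_764_8 ++ (j9_764_9 ++ (j9_764_10 ++ (j9_764_11 ++ (j9_764_12 ++ (j9_764_13 ++ (j9_764_14 ++ (j9_764_15 ++ (j9_764_16 ++ (j9_764_17 ++ (j9_764_18 ++ (j9_764_19 ++ (j9_764_20 ++ (j9_764_21 ++ (j9_764_22 ++ (j9_764_23 ++ (j9_764_24 ++ (j9_764_25 ++ (j9_764_26 ++ (j9_764_27 ++ (j9_764_28 ++ (j9_764_29 ++ (j9_764_30 ++ (j9_764_31 ++ (j9_764_32 ++ (j9_764_33 ++ (j9_764_34 ++ (j9_764_35 ++ (j9_764_36 ++ (j9_764_37 ++ (j9_764_38 ++ (j9_764_39 ++ (j9_764_40 ++ (j9_764_41 ++ []))))))))))))))))))))))))))))))))))))))))))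
  (jobs_append t9_764_0 <| jobs_append t9_764_1 <| jobs_append t9_764_2 <| jobs_append t9_764_3 <| jobs_append t9_764_4 <| jobs_append t9_764_5 <| jobs_append t9_764_6 <| jobs_append t9_764_7 <| jobs_append t9_764_8 <| jobs_append t9_764_9 <| jobs_append t9_764_10 <| jobs_append t9_764_11 <| jobs_append t9_764_12 <| jobs_append t9_764_13 <| jobs_append t9_764_14 <| jobs_append t9_764_15 <| jobs_append t9_764_16 <| jobs_append t9_764_17 <| jobs_append t9_764_18 <| jobs_append t9_764_19 <| jobs_append t9_764_20 <| jobs_append t9_764_21 <| jobs_append t9_764_22 <| jobs_append t9_764_23 <| jobs_append t9_764_24 <| jobs_append t9_764_25 <| jobs_append t9_764_26 <| jobs_append t9_764_27 <| jobs_append t9_764_28 <| jobs_append t9_764_29 <| jobs_append t9_764_30 <| jobs_append t9_764_31 <| jobs_append t9_764_32 <| jobs_append t9_764_33 <| jobs_append t9_764_34 <| jobs_append t9_764_35 <| jobs_append t9_764_36 <| jobs_append t9_764_37 <| jobs_append t9_764_38 <| jobs_append t9_764_39 <| jobs_append t9_764_40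 <| jobs_append t9_764_41 <| List.forall_mem_nil _) (by decide +kernel)

noncomputable def j9_765_0 : List Job := [
  ⟨63, 0x6c966b45aae172be5fec162b65bae976bc5ec442a180e44028190ec361909844160901, 0, 32, 0x0, []⟩]

theorem t9_765_0 : jobs 8 S9 b8_765 j9_765_0 = true := by decide +kernel

noncomputable def j9_765_1 : List Job := [
  ⟨62, 0x601028241a110a8643a21128a45a311a8e47c442a180e44028190ec361909844160901, 0, 32, 0x0, []⟩]

theorem t9_765_1 : jobs 8 S9 b8_765 j9_765_1 = true := by decide +kernel

noncomputable def j9_765_2 : List Job := [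
  ⟨61, 0x6c966b45aae172be5fec162b65bae976bc5ed48a6542a968b65c2ed40a2562b960b25e2fc442a190ec4028180e4361909844160901, 0, 32, 0x0, []⟩]

theorem t9_765_2 : jobs 8 S9 b8_765 j9_765_2 = true := by decide +kernel

noncomputable def j9_765_3 : List Job := [
  ⟨60, 0x601028241a110a8643a21128a45a311a8e47d48a6542a968b65c2ed40a2562b960b25e2fc442a190ec4028180e4361909844160901, 0, 32, 0x0, []⟩]

theorem t9_765_3 : jobs 8 S9 b8_765 j9_765_3 = true := by decide +kernel

noncomputable def j9_765_4 : List Job := [
  ⟨59, 0x4442a180e44028190ec361909844160901, 0, 32, 0x0, []⟩]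

theorem t9_765_4 : jobs 8 S9 b8_765 j9_765_4 = true := by decide +kernel

noncomputable def j9_765_5 : List Job := [
  ⟨58, 0x6c966b45aae172be5fec162b65bae976bc5ee01028241a110a8643a21128a45a311a8e47c442a180e44028190ec361909844160901, 0, 32, 0x0, []⟩]

theorem t9_765_5 : jobs 8 S9 b8_765 j9_765_5 = true := by decide +kernel

noncomputable def j9_765_6 : List Job := [
  ⟨57, 0x548a6542a968b65c2ed40a2562b960b25e2fc442a190ec4028180e4361909844160901, 0, 32, 0x0, []⟩]

theorem t9_765_6 : jobs 8 S9 b8_765 j9_765_6 = true := by decide +kernel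

noncomputable def j9_765_7 : List Job := [
  ⟨56, 0x6c966b45aae172be5fec162b65bae976bc5ee01028241a110a8643a21128a45a311a8e47d48a6542a968b65c2ed40a2562b960b25e2fc442a190ec4028180e4361909844160901, 0, 38, 0x4a01, []⟩]

theorem t9_765_7 : jobs 8 S9 b8_765 j9_765_7 = true := by decide +kernel

noncomputable def j9_765_8 : List Job := [
  ⟨55, 0x6c966b45aae172be5fec162b65bae976bc5ec442a180e44028190ec361909844160901, 0, 32, 0x0, []⟩]

theorem t9_765_8 : jobs 8 S9 b8_765 j9_765_8 = true := by decide +kernel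

noncomputable def j9_765_9 : List Job := [
  ⟨54, 0x601028241a110a8643a21128a45a311a8e47c442a180e44028190ec361909844160901, 0, 32, 0x0, []⟩]

theorem t9_765_9 : jobs 8 S9 b8_765 j9_765_9 = true := by decide +kernel

noncomputable def j9_765_10 : List Job := [
  ⟨53, 0x6c966b45aae172be5fec162b65bae976bc5ed48a6542a968b65c2ed40a2562b960b25e2fc442a190ec4028180e4361909844160901, 0, 32, 0x0, []⟩]

theorem t9_765_10 : jobs 8 S9 b8_765 j9_765_10 = true := by decide +kernel

noncomputable def j9_765_11 : List Job := [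
  ⟨52, 0x601028241a110a8643a21128a45a311a8e47d48a6542a968b65c2ed40a2562b960b25e2fc442a190ec4028180e4361909844160901, 0, 32, 0x0, []⟩]

theorem t9_765_11 : jobs 8 S9 b8_765 j9_765_11 = true := by decide +kernel

noncomputable def j9_765_12 : List Job := [
  ⟨51, 0x4442a180e44028190ec361909844160901, 0, 32, 0x0, []⟩]

theorem t9_765_12 : jobs 8 S9 b8_765 j9_765_12 = true := by decide +kernel

noncomputable def j9_765_13 : List Job := [
  ⟨50, 0x6c966b45aae172be5fec162b65bae976bc5ee01028241a110a8643a21128a45a311a8e47c442a180e44028190ec361909844160901, 0, 32, 0x0, []⟩]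

theorem t9_765_13 : jobs 8 S9 b8_765 j9_765_13 = true := by decide +kernel

noncomputable def j9_765_14 : List Job := [
  ⟨49, 0x548a6542a968b65c2ed40a2562b960b25e2fc442a190ec4028180e4361909844160901, 0, 32, 0x0, []⟩]

theorem t9_765_14 : jobs 8 S9 b8_765 j9_765_14 = true := by decide +kernel

noncomputable def j9_765_15 : List Job := [
  ⟨48, 0x6c966b45aae172be5fec162b65bae976bc5ee01028241a110a8643a21128a45a311a8e47d48a6542a968b65c2ed40a2562b960b25e2fc442a190ec4028180e4361909844160901, 0, 72, 0x8218008618008a19008e19, []⟩]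

theorem t9_765_15 : jobs 8 S9 b8_765 j9_765_15 = true := by decide +kernel

noncomputable def j9_765_16 : List Job := [
  ⟨47, 0x6c162b65bae976bc5ec4022140a860321c0ec381f0d864080701, 0, 128, 0x0, []⟩]

theorem t9_765_16 : jobs 8 S9 b8_765 j9_765_16 = true := by decide +kernel

noncomputable def j9_765_17 : List Job := [
  ⟨46, 0x6c966b45aae172be5fe01028241a110a8643a21128a45a311a8e47c4022140a860321c0ec381f0d864080701, 0, 128, 0x0, []⟩]

theorem t9_765_17 : jobs 8 S9 b8_765 j9_765_17 = true := by decide +kernel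

noncomputable def j9_765_18 : List Job := [
  ⟨45, 0x6c162b65bae976bc5ed48a6542a968b65c2ed40a2562b960b25e2fc4022140a860321c0ec381f0d864080701, 0, 128, 0x0, []⟩]

theorem t9_765_18 : jobs 8 S9 b8_765 j9_765_18 = true := by decide +kernel

noncomputable def j9_765_19 : List Job := [
  ⟨44, 0x6c966b45aae172be5fe01028241a110a8643a21128a45a311a8e47d48a6542a968b65c2ed40a2562b960b25e2fc4022140a860321c0ec381f0d864080701, 0, 128, 0x0, []⟩]

theorem t9_765_19 : jobs 8 S9 b8_765 j9_765_19 = true := by decide +kernel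

noncomputable def j9_765_20 : List Job := [
  ⟨43, 0x6c966b45aae172be5fc4022140a860321c0ec381f0d864080701, 0, 128, 0x0, []⟩]

theorem t9_765_20 : jobs 8 S9 b8_765 j9_765_20 = true := by decide +kernel

noncomputable def j9_765_21 : List Job := [
  ⟨42, 0x6c162b65bae976bc5ee01028241a110a8643a21128a45a311a8e47c4022140a860321c0ec381f0d864080701, 0, 128, 0x0, []⟩]

theorem t9_765_21 : jobs 8 S9 b8_765 j9_765_21 = true := by decide +kernel

noncomputable def j9_765_22 : List Job := [
  ⟨41, 0x6c966b45aae172be5fd48a6542a968b65c2ed40a2562b960b25e2fc4022140a860321c0ec381f0d864080701, 0, 128, 0x0, []⟩]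

theorem t9_765_22 : jobs 8 S9 b8_765 j9_765_22 = true := by decide +kernel

noncomputable def j9_765_23 : List Job := [
  ⟨40, 0x6c162b65bae976bc5ee01028241a110a8643a21128a45a311a8e47d48a6542a968b65c2ed40a2562b960b25e2fc4022140a860321c0ec381f0d864080701, 0, 128, 0x0, []⟩]

theorem t9_765_23 : jobs 8 S9 b8_765 j9_765_23 = true := by decide +kernel

noncomputable def j9_765_24 : List Job := [
  ⟨39, 0x6cd6ab85fec968b95f548a6542a968b65c2ed40a2562b960b25e2fc36190b8541e0d01, 0, 32, 0x0, []⟩]

theorem t9_765_24 : jobs 8 S9 b8_765 j9_765_24 = true := by decide +kernel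

noncomputable def j9_765_25 : List Job := [
  ⟨38, 0x6c56ebb5e6c16cba5ee01028241a110a8643a21128a45a311a8e47d48a6542a968b65c2ed40a2562b960b25e2fc36190b8541e0d01, 0, 32, 0x0, []⟩]

theorem t9_765_25 : jobs 8 S9 b8_765 j9_765_25 = true := by decide +kernel

noncomputable def j9_765_26 : List Job := [
  ⟨37, 0x6cd6ab95f6c968b85fc36190b8541e0d01, 0, 32, 0x0, []⟩]

theorem t9_765_26 : jobs 8 S9 b8_765 j9_765_26 = true := by decide +kernel

noncomputable def j9_765_27 : List Job := [
  ⟨36, 0x6c56eba5eec16cbb5e601028241a110a8643a21128a45a311a8e47c36190b8541e0d01, 0, 32, 0x0, []⟩]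

theorem t9_765_27 : jobs 8 S9 b8_765 j9_765_27 = true := by decide +kernel

noncomputable def j9_765_28 : List Job := [
  ⟨35, 0x6c162b65bae976bc5ed48a6542a968b65c2ed40a2562b960b25e2fc36190b8541e0d01, 0, 32, 0x0, []⟩]

theorem t9_765_28 : jobs 8 S9 b8_765 j9_765_28 = true := by decide +kernel

noncomputable def j9_765_29 : List Job := [
  ⟨34, 0x6c966b45aae172be5fe01028241a110a8643a21128a45a311a8e47d48a6542a968b65c2ed40a2562b960b25e2fc36190b8541e0d01, 0, 32, 0x0, []⟩]

theorem t9_765_29 : jobs 8 S9 b8_765 j9_765_29 = true := by decide +kernel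

noncomputable def j9_765_30 : List Job := [
  ⟨33, 0x6c162b65bae976bc5ec36190b8541e0d01, 0, 32, 0x0, []⟩]

theorem t9_765_30 : jobs 8 S9 b8_765 j9_765_30 = true := by decide +kernel

noncomputable def j9_765_31 : List Job := [
  ⟨32, 0x6c966b45aae172be5fe01028241a110a8643a21128a45a311a8e47c36190b8541e0d01, 0, 32, 0x0, []⟩]

theorem t9_765_31 : jobs 8 S9 b8_765 j9_765_31 = true := by decide +kernel

noncomputable def j9_765_32 : List Job := [
  ⟨31, 0x6cd68b95fec96ab85f548a6542a968b65c2ed40a2562b960b25e2fc36190b8541e0d01, 0, 32, 0x0, []⟩]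

theorem t9_765_32 : jobs 8 S9 b8_765 j9_765_32 = true := by decide +kernel

noncomputable def j9_765_33 : List Job := [
  ⟨30, 0x6c56cba5e6c16ebb5ee01028241a110a8643a21128a45a311a8e47d48a6542a968b65c2ed40a2562b960b25e2fc36190b8541e0d01, 0, 32, 0x0, []⟩]

theorem t9_765_33 : jobs 8 S9 b8_765 j9_765_33 = true := by decide +kernel

noncomputable def j9_765_34 : List Job := [
  ⟨29, 0x6cd68b85f6c96ab95fc36190b8541e0d01, 0, 32, 0x0, []⟩]

theorem t9_765_34 : jobs 8 S9 b8_765 j9_765_34 = true := by decide +kernel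

noncomputable def j9_765_35 : List Job := [
  ⟨28, 0x6c56cbb5eec16eba5e601028241a110a8643a21128a45a311a8e47c36190b8541e0d01, 0, 32, 0x0, []⟩]

theorem t9_765_35 : jobs 8 S9 b8_765 j9_765_35 = true := by decide +kernel

noncomputable def j9_765_36 : List Job := [
  ⟨27, 0x6c162b65bae976bc5ed48a6542a968b65c2ed40a2562b960b25e2fc36190b8541e0d01, 0, 32, 0x0, []⟩]

theorem t9_765_36 : jobs 8 S9 b8_765 j9_765_36 = true := by decide +kernel

noncomputable def j9_765_37 : List Job := [
  ⟨26, 0x6c966b45aae172be5fe01028241a110a8643a21128a45a311a8e47d48a6542a968b65c2ed40a2562b960b25e2fc36190b8541e0d01, 0, 32, 0x0, []⟩]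

theorem t9_765_37 : jobs 8 S9 b8_765 j9_765_37 = true := by decide +kernel

noncomputable def j9_765_38 : List Job := [
  ⟨25, 0x6c162b65bae976bc5ec36190b8541e0d01, 0, 32, 0x0, []⟩]

theorem t9_765_38 : jobs 8 S9 b8_765 j9_765_38 = true := by decide +kernel

noncomputable def j9_765_39 : List Job := [
  ⟨24, 0x6c966b45aae172be5fe01028241a110a8643a21128a45a311a8e47c36190b8541e0d01, 0, 32, 0x0, []⟩]

theorem t9_765_39 : jobs 8 S9 b8_765 j9_765_39 = true := by decide +kernel

noncomputable def j9_765_40 : List Job := [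
  ⟨23, 0x6c56ebb5e6c16cba5ec4826160b868361e0fc4022140a860321c0ec36190b8541e0d01, 0, 32, 0x0, []⟩]

theorem t9_765_40 : jobs 8 S9 b8_765 j9_765_40 = true := by decide +kernel

noncomputable def j9_765_41 : List Job := [
  ⟨22, 0x6cd6ab85fec968b95f601028241a110a8643a21128a45a311a8e47c4826160b868361e0fc4022140a860321c0ec36190b8541e0d01, 0, 32, 0x0, []⟩]

theorem t9_765_41 : jobs 8 S9 b8_765 j9_765_41 = true := by decide +kernel

noncomputable def j9_765_42 : List Job := [
  ⟨21, 0x6c56eba5eec16cbb5e548a6542a968b65c2ed40a2562b960b25e2fc4826160b868361e0fc4022140a860321c0ec36190b8541e0d01, 0, 32, 0x0, []⟩]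

theorem t9_765_42 : jobs 8 S9 b8_765 j9_765_42 = true := by decide +kernel

noncomputable def j9_765_43 : List Job := [
  ⟨20, 0x6cd6ab95f6c968b85fe01028241a110a8643a21128a45a311a8e47d48a6542a968b65c2ed40a2562b960b25e2fc4826160b868361e0fc4022140a860321c0ec36190b8541e0d01, 0, 38, 0x4a01, []⟩]

theorem t9_765_43 : jobs 8 S9 b8_765 j9_765_43 = true := by decide +kernel

noncomputable def j9_765_44 : List Job := [
  ⟨19, 0x6c966b45aae172be5fc4826160b868361e0fc4022140a860321c0ec36190b8541e0d01, 0, 32, 0x0, []⟩]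

theorem t9_765_44 : jobs 8 S9 b8_765 j9_765_44 = true := by decide +kernel

noncomputable def j9_765_45 : List Job := [
  ⟨18, 0x6c162b65bae976bc5ee01028241a110a8643a21128a45a311a8e47c4826160b868361e0fc4022140a860321c0ec36190b8541e0d01, 0, 32, 0x0, []⟩]

theorem t9_765_45 : jobs 8 S9 b8_765 j9_765_45 = true := by decide +kernel

noncomputable def j9_765_46 : List Job := [
  ⟨17, 0x6c966b45aae172be5fd48a6542a968b65c2ed40a2562b960b25e2fc4826160b868361e0fc4022140a860321c0ec36190b8541e0d01, 0, 32, 0x0, []⟩]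

theorem t9_765_46 : jobs 8 S9 b8_765 j9_765_46 = true := by decide +kernel

noncomputable def j9_765_47 : List Job := [
  ⟨16, 0x6c162b65bae976bc5ee01028241a110a8643a21128a45a311a8e47d48a6542a968b65c2ed40a2562b960b25e2fc4826160b868361e0fc4022140a860321c0ec36190b8541e0d01, 0, 32, 0x0, []⟩]

theorem t9_765_47 : jobs 8 S9 b8_765 j9_765_47 = true := by decide +kernel

noncomputable def j9_765_48 : List Job := [
  ⟨15, 0x6c56cba5e6c16ebb5ec4826160b868361e0fc4022140a860321c0ec36190b8541e0d01, 0, 32, 0x0, []⟩]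

theorem t9_765_48 : jobs 8 S9 b8_765 j9_765_48 = true := by decide +kernel

noncomputable def j9_765_49 : List Job := [
  ⟨14, 0x6cd68b95fec96ab85f601028241a110a8643a21128a45a311a8e47c4826160b868361e0fc4022140a860321c0ec36190b8541e0d01, 0, 32, 0x0, []⟩]

theorem t9_765_49 : jobs 8 S9 b8_765 j9_765_49 = true := by decide +kernel

noncomputable def j9_765_50 : List Job := [
  ⟨13, 0x6c56cbb5eec16eba5e548a6542a968b65c2ed40a2562b960b25e2fc4826160b868361e0fc4022140a860321c0ec36190b8541e0d01, 0, 32, 0x0, []⟩]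

theorem t9_765_50 : jobs 8 S9 b8_765 j9_765_50 = true := by decide +kernel

noncomputable def j9_765_51 : List Job := [
  ⟨12, 0x6cd68b85f6c96ab95fe01028241a110a8643a21128a45a311a8e47d48a6542a968b65c2ed40a2562b960b25e2fc4826160b868361e0fc4022140a860321c0ec36190b8541e0d01, 0, 72, 0x421a00461a004a1b004e1b, []⟩]

theorem t9_765_51 : jobs 8 S9 b8_765 j9_765_51 = true := by decide +kernel

noncomputable def j9_765_52 : List Job := [
  ⟨11, 0x6c966b45aae172be5fc4826160b868361e0fc4022140a860321c0ec36190b8541e0d01, 0, 32, 0x0, []⟩]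

theorem t9_765_52 : jobs 8 S9 b8_765 j9_765_52 = true := by decide +kernel

noncomputable def j9_765_53 : List Job := [
  ⟨10, 0x6c162b65bae976bc5ee01028241a110a8643a21128a45a311a8e47c4826160b868361e0fc4022140a860321c0ec36190b8541e0d01, 0, 32, 0x0, []⟩]

theorem t9_765_53 : jobs 8 S9 b8_765 j9_765_53 = true := by decide +kernel

noncomputable def j9_765_54 : List Job := [
  ⟨9, 0x6c966b45aae172be5fd48a6542a968b65c2ed40a2562b960b25e2fc4826160b868361e0fc4022140a860321c0ec36190b8541e0d01, 0, 32, 0x0, []⟩]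

theorem t9_765_54 : jobs 8 S9 b8_765 j9_765_54 = true := by decide +kernel

noncomputable def j9_765_55 : List Job := [
  ⟨8, 0x6c162b65bae976bc5ee01028241a110a8643a21128a45a311a8e47d48a6542a968b65c2ed40a2562b960b25e2fc4826160b868361e0fc4022140a860321c0ec36190b8541e0d01, 0, 32, 0x0, []⟩]

theorem t9_765_55 : jobs 8 S9 b8_765 j9_765_55 = true := by decide +kernel

theorem d9_765 : Dn 8 S9 b8_765 := dn_of (Js := j9_765_0 ++ (j9_765_1 ++ (j9_765_2 ++ (j9_765_3 ++ (j9_765_4 ++ (j9_765_5 ++ (j9_765_6 ++ (j9_765_7 ++ (j9_765_8 ++ (j9_765_9 ++ (j9_765_10 ++ (j9_765_11 ++ (j9_765_12 ++ (j9_765_13 ++ (j9_765_14 ++ (j9_765_15 ++ (j9_765_16 ++ (j9_765_17 ++ (j9_765_18 ++ (j9_765_19 ++ (j9_765_20 ++ (j9_765_21 ++ (j9_765_22 ++ (j9_765_23 ++ (j9_765_24 ++ (j9_765_25 ++ (j9_765_26 ++ (j9_765_27 ++ (j9_765_28 ++ (j9_765_29 ++ (j9_765_30 ++ (j9_765_31 ++ (j9_765_32 ++ (j9_765_33 ++ (j9_765_34 ++ (j9_765_35 ++ (j9_765_36 ++ (j9_765_37 ++ (j9_765_38 ++ (j9_765_39 ++ (j9_765_40 ++ (j9_765_41 ++ (j9_765_42 ++ (j9_765_43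 ++ (j9_765_44 ++ (j9_765_45 ++ (j9_765_46 ++ (j9_765_47 ++ (j9_765_48 ++ (j9_765_49 ++ (j9_765_50 ++ (j9_765_51 ++ (j9_765_52 ++ (j9_765_53 ++ (j9_765_54 ++ (j9_765_55 ++ []))))))))))))))))))))))))))))))))))))))))))))))))))))))))
  (jobs_append t9_765_0 <| jobs_append t9_765_1 <| jobs_append t9_765_2 <| jobs_append t9_765_3 <| jobs_append t9_765_4 <| jobs_append t9_765_5 <| jobs_append t9_765_6 <| jobs_append t9_765_7 <| jobs_append t9_765_8 <| jobs_append t9_765_9 <| jobs_append t9_765_10 <| jobs_append t9_765_11 <| jobs_append t9_765_12 <| jobs_append t9_765_13 <| jobs_append t9_765_14 <| jobs_append t9_765_15 <| jobs_append t9_765_16 <| jobs_append t9_765_17 <| jobs_append t9_765_18 <| jobs_append t9_765_19 <| jobs_append t9_765_20 <| jobs_append t9_765_21 <| jobs_append t9_765_22 <| jobs_append t9_765_23 <| jobs_append t9_765_24 <| jobs_append t9_765_25 <| jobs_append t9_765_26 <| jobs_append t9_765_27 <| jobs_append t9_765_28 <| jobs_append t9_765_29 <| jobs_append t9_765_30 <| jobs_append t9_765_31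 <| jobs_append t9_765_32 <| jobs_append t9_765_33 <| jobs_append t9_765_34 <| jobs_append t9_765_35 <| jobs_append t9_765_36 <| jobs_append t9_765_37 <| jobs_append t9_765_38 <| jobs_append t9_765_39 <| jobs_append t9_765_40 <| jobs_append t9_765_41 <| jobs_append t9_765_42 <| jobs_append t9_765_43 <| jobs_append t9_765_44 <| jobs_append t9_765_45 <| jobs_append t9_765_46 <| jobs_append t9_765_47 <| jobs_append t9_765_48 <| jobs_append t9_765_49 <| jobs_append t9_765_50 <| jobs_append t9_765_51 <| jobs_append t9_765_52 <| jobs_append t9_765_53 <| jobs_append t9_765_54 <| jobs_append t9_765_55 <| List.forall_mem_nil _) (by decide +kernel)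

end Cfsg.Agent.FS.N.Sw
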