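import Cfsg.Agent.FS.N.Sw.Seg
import Cfsg.Agent.FS.N.G.S9
import Cfsg.Agent.FS.N.G.L.L31
import Cfsg.Agent.FS.N.G.L.L32
import Cfsg.Agent.FS.N.G.L.L33

/-! The filter on the pairs for the order 512, part 75 (generated; helper52, project FS) -/

set_option autoImplicit false
set_option maxRecDepth 100000
set_option Elab.async false

namespace Cfsg.Agent.FS.N.Sw

open G

noncomputable def j9_766_0 : List Job := [
  ⟨54, 0x6110a8643a311a8e47e01028241a21128a45d20924a259309a4e27d008242219108a4623c361909844160901, 0, 4, 0x0, []⟩]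

theorem t9_766_0 : jobs 8 S9 b8_766 j9_766_0 = true := by decide +kernel

noncomputable def j9_766_1 : List Job := [
  ⟨51, 0x6110a8643a311a8e47e01028241a21128a45d20924a259309a4e27d008242219108a4623c361909844160901, 0, 2, 0x201000401, []⟩]

theorem t9_766_1 : jobs 8 S9 b8_766 j9_766_1 = true := by decide +kernel

noncomputable def j9_766_2 : List Job := [
  ⟨48, 0x6110a8643a311a8e47e01028241a21128a45d20924a259309a4e27d008242219108a4623c361909844160901, 0, 20, 0x0, []⟩]

theorem t9_766_2 : jobs 8 S9 b8_766 j9_766_2 = true := by decide +kernel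

noncomputable def j9_766_3 : List Job := [
  ⟨29, 0x548a6542a968b65c2ed40a2562b960b25e2fc442a180e44028190ec361909844160901, 0, 2, 0x201000401, []⟩]

theorem t9_766_3 : jobs 8 S9 b8_766 j9_766_3 = true := by decide +kernel

noncomputable def j9_766_4 : List Job := [
  ⟨24, 0x548a6542a968b65c2ed40a2562b960b25e2fc442a190ec4028180e4361909844160901, 0, 4, 0x0, []⟩]

theorem t9_766_4 : jobs 8 S9 b8_766 j9_766_4 = true := by decide +kernel

noncomputable def j9_766_5 : List Job := [
  ⟨21, 0x548a6542a968b65c2ed40a2562b960b25e2fc442a180e44028190ec361909844160901, 0, 2, 0x200, [(0, ⟨2297, 0x10c014c00968044002060104000480004020001, 0x18c2389820030202402⟩)]⟩]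

theorem t9_766_5 : jobs 8 S9 b8_766 j9_766_5 = true := by decide +kernel

noncomputable def j9_766_6 : List Job := [
  ⟨16, 0x548a6542a968b65c2ed40a2562b960b25e2fc442a190ec4028180e4361909844160901, 0, 32, 0x0, []⟩]

theorem t9_766_6 : jobs 8 S9 b8_766 j9_766_6 = true := by decide +kernel

noncomputable def j9_766_7 : List Job := [
  ⟨15, 0x6c966b45aae172be5fec162b65bae976bc5ed48a6542a968b65c2ed40a2562b960b25e2fc4022140a860321c0ec361909844160901, 0, 32, 0x0, []⟩]

theorem t9_766_7 : jobs 8 S9 b8_766 j9_766_7 = true := by decide +kernel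

noncomputable def j9_766_8 : List Job := [
  ⟨14, 0x601028241a110a8643a21128a45a311a8e47d48a6542a968b65c2ed40a2562b960b25e2fc4022140a860321c0ec361909844160901, 0, 32, 0x0, []⟩]

theorem t9_766_8 : jobs 8 S9 b8_766 j9_766_8 = true := by decide +kernel

noncomputable def j9_766_9 : List Job := [
  ⟨13, 0x6c966b45aae172be5fec162b65bae976bc5ec4022140a860321c0ec361909844160901, 0, 32, 0x0, []⟩]

theorem t9_766_9 : jobs 8 S9 b8_766 j9_766_9 = true := by decide +kernel

noncomputable def j9_766_10 : List Job := [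
  ⟨12, 0x601028241a110a8643a21128a45a311a8e47c4022140a860321c0ec361909844160901, 0, 32, 0x0, []⟩]

theorem t9_766_10 : jobs 8 S9 b8_766 j9_766_10 = true := by decide +kernel

noncomputable def j9_766_11 : List Job := [
  ⟨11, 0x548a6542a968b65c2ed40a2562b960b25e2fc4022140a860321c0ec361909844160901, 0, 32, 0x0, []⟩]

theorem t9_766_11 : jobs 8 S9 b8_766 j9_766_11 = true := by decide +kernel

noncomputable def j9_766_12 : List Job := [
  ⟨10, 0x6c966b45aae172be5fec162b65bae976bc5ee01028241a110a8643a21128a45a311a8e47d48a6542a968b65c2ed40a2562b960b25e2fc4022140a860321c0ec361909844160901, 0, 32, 0x0, []⟩]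

theorem t9_766_12 : jobs 8 S9 b8_766 j9_766_12 = true := by decide +kernel

noncomputable def j9_766_13 : List Job := [
  ⟨9, 0x44022140a860321c0ec361909844160901, 0, 32, 0x0, []⟩]

theorem t9_766_13 : jobs 8 S9 b8_766 j9_766_13 = true := by decide +kernel

noncomputable def j9_766_14 : List Job := [
  ⟨8, 0x6c966b45aae172be5fec162b65bae976bc5ee01028241a110a8643a21128a45a311a8e47c4022140a860321c0ec361909844160901, 0, 32, 0x0, []⟩]

theorem t9_766_14 : jobs 8 S9 b8_766 j9_766_14 = true := by decide +kernel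

noncomputable def j9_766_15 : List Job := [
  ⟨7, 0x6c966b45aae172be5fec162b65bae976bc5ed48a6542a968b65c2ed40a2562b960b25e2fc4022140a860321c0ec361909844160901, 0, 32, 0x0, []⟩]

theorem t9_766_15 : jobs 8 S9 b8_766 j9_766_15 = true := by decide +kernel

noncomputable def j9_766_16 : List Job := [
  ⟨6, 0x601028241a110a8643a21128a45a311a8e47d48a6542a968b65c2ed40a2562b960b25e2fc4022140a860321c0ec361909844160901, 0, 32, 0x0, []⟩]

theorem t9_766_16 : jobs 8 S9 b8_766 j9_766_16 = true := by decide +kernel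

noncomputable def j9_766_17 : List Job := [
  ⟨5, 0x6c966b45aae172be5fec162b65bae976bc5ec4022140a860321c0ec361909844160901, 0, 32, 0x0, []⟩]

theorem t9_766_17 : jobs 8 S9 b8_766 j9_766_17 = true := by decide +kernel

noncomputable def j9_766_18 : List Job := [
  ⟨4, 0x601028241a110a8643a21128a45a311a8e47c4022140a860321c0ec361909844160901, 0, 32, 0x0, []⟩]

theorem t9_766_18 : jobs 8 S9 b8_766 j9_766_18 = true := by decide +kernel

noncomputable def j9_766_19 : List Job := [
  ⟨3, 0x548a6542a968b65c2ed40a2562b960b25e2fc4022140a860321c0ec361909844160901, 0, 32, 0x0, []⟩]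

theorem t9_766_19 : jobs 8 S9 b8_766 j9_766_19 = true := by decide +kernel

noncomputable def j9_766_20 : List Job := [
  ⟨2, 0x6c966b45aae172be5fec162b65bae976bc5ee01028241a110a8643a21128a45a311a8e47d48a6542a968b65c2ed40a2562b960b25e2fc4022140a860321c0ec361909844160901, 0, 32, 0x0, []⟩]

theorem t9_766_20 : jobs 8 S9 b8_766 j9_766_20 = true := by decide +kernel

noncomputable def j9_766_21 : List Job := [
  ⟨1, 0x44022140a860321c0ec361909844160901, 0, 32, 0x0, []⟩]

theorem t9_766_21 : jobs 8 S9 b8_766 j9_766_21 = true := by decide +kernel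

noncomputable def j9_766_22 : List Job := [
  ⟨0, 0x6c966b45aae172be5fec162b65bae976bc5ee01028241a110a8643a21128a45a311a8e47c4022140a860321c0ec361909844160901, 0, 32, 0x0, []⟩]

theorem t9_766_22 : jobs 8 S9 b8_766 j9_766_22 = true := by decide +kernel

theorem d9_766 : Dn 8 S9 b8_766 := dn_of (Js := j9_766_0 ++ (j9_766_1 ++ (j9_766_2 ++ (j9_766_3 ++ (j9_766_4 ++ (j9_766_5 ++ (j9_766_6 ++ (j9_766_7 ++ (j9_766_8 ++ (j9_766_9 ++ (j9_766_10 ++ (j9_766_11 ++ (j9_766_12 ++ (j9_766_13 ++ (j9_766_14 ++ (j9_766_15 ++ (j9_766_16 ++ (j9_766_17 ++ (j9_766_18 ++ (j9_766_19 ++ (j9_766_20 ++ (j9_766_21 ++ (j9_766_22 ++ [])))))))))))))))))))))))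
  (jobs_append t9_766_0 <| jobs_append t9_766_1 <| jobs_append t9_766_2 <| jobs_append t9_766_3 <| jobs_append t9_766_4 <| jobs_append t9_766_5 <| jobs_append t9_766_6 <| jobs_append t9_766_7 <| jobs_append t9_766_8 <| jobs_append t9_766_9 <| jobs_append t9_766_10 <| jobs_append t9_766_11 <| jobs_append t9_766_12 <| jobs_append t9_766_13 <| jobs_append t9_766_14 <| jobs_append t9_766_15 <| jobs_append t9_766_16 <| jobs_append t9_766_17 <| jobs_append t9_766_18 <| jobs_append t9_766_19 <| jobs_append t9_766_20 <| jobs_append t9_766_21 <| jobs_append t9_766_22 <| List.forall_mem_nil _) (by decide +kernel)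

noncomputable def j9_767_0 : List Job := [
  ⟨63, 0x4361909844160901, 0, 4, 0x201000401000601000801, []⟩]

theorem t9_767_0 : jobs 8 S9 b8_767 j9_767_0 = true := by decide +kernel

noncomputable def j9_767_1 : List Job := [
  ⟨62, 0x6c966b45aae172be5fec162b65bae976bc5ee110a8643a21128a45e01028241a311a8e47c361909844160901, 0, 4, 0x201000401000601000801, []⟩]

theorem t9_767_1 : jobs 8 S9 b8_767 j9_767_1 = true := by decide +kernel

noncomputable def j9_767_2 : List Job := [
  ⟨61, 0x520924a259309a4e27d008242219108a4623c361909844160901, 0, 4, 0x201000401000601000801, []⟩]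

theorem t9_767_2 : jobs 8 S9 b8_767 j9_767_2 = true := by decide +kernel

noncomputable def j9_767_3 : List Job := [
  ⟨60, 0x6c966b45aae172be5fec162b65bae976bc5ee110a8643a21128a45e01028241a311a8e47d20924a259309a4e27d008242219108a4623c361909844160901, 0, 26, 0x201000401000601000801003201003401, []⟩]

theorem t9_767_3 : jobs 8 S9 b8_767 j9_767_3 = true := by decide +kernel

noncomputable def j9_767_4 : List Job := [
  ⟨48, 0x601028241a110a8643a21128a45a311a8e47d309a4e27d20924a25d108a4623d00824221c361909844160901, 0, 4, 0x0, []⟩]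

theorem t9_767_4 : jobs 8 S9 b8_767 j9_767_4 = true := by decide +kernel

noncomputable def j9_767_5 : List Job := [
  ⟨44, 0x601028241a110a8643a21128a45a311a8e47d309a4e27d20924a25d108a4623d00824221c361909844160901, 0, 16, 0x208000409000610000809001208001410001608001809, []⟩]

theorem t9_767_5 : jobs 8 S9 b8_767 j9_767_5 = true := by decide +kernel

noncomputable def j9_767_6 : List Job := [
  ⟨30, 0x5108a46239309a4e27d00824221920924a25c361909844160901, 0, 4, 0x201000401000601000801, []⟩]

theorem t9_767_6 : jobs 8 S9 b8_767 j9_767_6 = true := by decide +kernel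

noncomputable def j9_767_7 : List Job := [
  ⟨24, 0x5108a46239309a4e27d00824221920924a25c361909844160901, 0, 20, 0x0, []⟩]

theorem t9_767_7 : jobs 8 S9 b8_767 j9_767_7 = true := by decide +kernel

noncomputable def j9_767_8 : List Job := [
  ⟨10, 0x6c162b259ad16ab65bae172ba5daf17abe5fe01028241a110a8643a21128a45a311a8e47d20924a259309a4e27d008242219108a4623c361909844160901, 0, 6, 0x201000401000601000801, []⟩]

theorem t9_767_8 : jobs 8 S9 b8_767 j9_767_8 = true := by decide +kernel

noncomputable def j9_767_9 : List Job := [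
  ⟨4, 0x6c162b259ad16ab65bae172ba5daf17abe5fe01028241a110a8643a21128a45a311a8e47d20924a259309a4e27d008242219108a4623c361909844160901, 0, 20, 0x0, []⟩]

theorem t9_767_9 : jobs 8 S9 b8_767 j9_767_9 = true := by decide +kernel

theorem d9_767 : Dn 8 S9 b8_767 := dn_of (Js := j9_767_0 ++ (j9_767_1 ++ (j9_767_2 ++ (j9_767_3 ++ (j9_767_4 ++ (j9_767_5 ++ (j9_767_6 ++ (j9_767_7 ++ (j9_767_8 ++ (j9_767_9 ++ []))))))))))
  (jobs_append t9_767_0 <| jobs_append t9_767_1 <| jobs_append t9_767_2 <| jobs_append t9_767_3 <| jobs_append t9_767_4 <| jobs_append t9_767_5 <| jobs_append t9_767_6 <| jobs_append t9_767_7 <| jobs_append t9_767_8 <| jobs_append t9_767_9 <| List.forall_mem_nil _) (by decide +kernel)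

noncomputable def j9_768_0 : List Job := [
  ⟨48, 0x601028241a110a8643a21128a45a311a8e47d20924a259309a4e27d008242219108a4623c361909844160901, 0, 4, 0x0, []⟩]

theorem t9_768_0 : jobs 8 S9 b8_768 j9_768_0 = true := by decide +kernel

noncomputable def j9_768_1 : List Job := [
  ⟨40, 0x601028241a110a8643a21128a45a311a8e47d20924a259309a4e27d008242219108a4623c361909844160901, 0, 32, 0x0, []⟩]

theorem t9_768_1 : jobs 8 S9 b8_768 j9_768_1 = true := by decide +kernel

noncomputable def j9_768_2 : List Job := [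
  ⟨27, 0x5108a46239309a4e27d00824221920924a25c361909844160901, 0, 4, 0x0, []⟩]

theorem t9_768_2 : jobs 8 S9 b8_768 j9_768_2 = true := by decide +kernel

noncomputable def j9_768_3 : List Job := [
  ⟨26, 0x5108a46239309a4e27d00824221920924a25c361909844160901, 0, 4, 0x201000401000601000801, []⟩]

theorem t9_768_3 : jobs 8 S9 b8_768 j9_768_3 = true := by decide +kernel

noncomputable def j9_768_4 : List Job := [
  ⟨21, 0x5108a46239309a4e27d00824221920924a25c361909844160901, 0, 2, 0x201000401, []⟩]

theorem t9_768_4 : jobs 8 S9 b8_768 j9_768_4 = true := by decide +kernel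

noncomputable def j9_768_5 : List Job := [
  ⟨20, 0x5108a46239309a4e27d00824221920924a25c361909844160901, 0, 20, 0x0, []⟩]

theorem t9_768_5 : jobs 8 S9 b8_768 j9_768_5 = true := by decide +kernel

noncomputable def j9_768_6 : List Job := [
  ⟨19, 0x6c966b45aae172be5fe01028241a311a8e47d008242219108a4623c381f0a05c100b01, 0, 40, 0x201000401000601000801000a01000c01000e01001001001201001401001601001801001a01001c01001e01002001002201002401002601002801002a01002c01002e01003001003201003401003601003801003a01003c01003e01004001004201004401004601004801004a01004c01004e01005001, []⟩]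

theorem t9_768_6 : jobs 8 S9 b8_768 j9_768_6 = true := by decide +kernel

noncomputable def j9_768_7 : List Job := [
  ⟨18, 0x6c966b45aae172be5fe01028241a311a8e47d008242219108a4623c381f0a05c100b01, 0, 40, 0x201000401000601000801000a01000c01000e01001001001201001401001601001801001a01001c01001e01002001002201002401002601002801002a01002c01002e01003001003201003401003601003801003a01003c01003e01004001004201004401004601004801004a01004c01004e01005001, []⟩]

theorem t9_768_7 : jobs 8 S9 b8_768 j9_768_7 = true := by decide +kernel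

noncomputable def j9_768_8 : List Job := [
  ⟨17, 0x6c966b45aae172be5fe01028241a311a8e47d008242219108a4623c180f0402c080701, 0, 40, 0x201000401000601000801000a01000c01000e01001001001201001401001601001801001a01001c01001e01002001002201002401002601002801002a01002c01002e01003001003201003401003601003801003a01003c01003e01004001004201004401004601004801004a01004c01004e01005001, []⟩]

theorem t9_768_8 : jobs 8 S9 b8_768 j9_768_8 = true := by decide +kernel

noncomputable def j9_768_9 : List Job := [
  ⟨16, 0x6c966b45aae172be5fe01028241a311a8e47d04864523500844423c180f0402c080701, 0, 40, 0x201000401000601000801000a01000c01000e01001001001201001401001601001801001a01001c01001e01002001002201002401002601002801002a01002c01002e01003001003201003401003601003801003a01003c01003e01004001004201004401004601004801004a01004c01004e01005001, []⟩]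

theorem t9_768_9 : jobs 8 S9 b8_768 j9_768_9 = true := by decide +kernel

noncomputable def j9_768_10 : List Job := [
  ⟨15, 0x4361909844160901, 0, 4, 0x201000401000601000801, []⟩]

theorem t9_768_10 : jobs 8 S9 b8_768 j9_768_10 = true := by decide +kernel

noncomputable def j9_768_11 : List Job := [
  ⟨14, 0x6c966b45aae172be5fec162b65bae976bc5ee110a8643a21128a45e01028241a311a8e47c361909844160901, 0, 4, 0x201000401000601000801, []⟩]

theorem t9_768_11 : jobs 8 S9 b8_768 j9_768_11 = true := by decide +kernel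

noncomputable def j9_768_12 : List Job := [
  ⟨13, 0x520924a259309a4e27d008242219108a4623c361909844160901, 0, 4, 0x201000401000601000801, []⟩]

theorem t9_768_12 : jobs 8 S9 b8_768 j9_768_12 = true := by decide +kernel

noncomputable def j9_768_13 : List Job := [
  ⟨12, 0x6c966b45aae172be5fec162b65bae976bc5ee110a8643a21128a45e01028241a311a8e47d20924a259309a4e27d008242219108a4623c361909844160901, 0, 4, 0x201000401000601000801, []⟩]

theorem t9_768_13 : jobs 8 S9 b8_768 j9_768_13 = true := by decide +kernel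

noncomputable def j9_768_14 : List Job := [
  ⟨11, 0x6c966b45aae172be5fec162b65bae976bc5ec361909844160901, 0, 4, 0x201000401000601000801, []⟩]

theorem t9_768_14 : jobs 8 S9 b8_768 j9_768_14 = true := by decide +kernel

noncomputable def j9_768_15 : List Job := [
  ⟨10, 0x6110a8643a21128a45e01028241a311a8e47c361909844160901, 0, 4, 0x201000401000601000801, []⟩]

theorem t9_768_15 : jobs 8 S9 b8_768 j9_768_15 = true := by decide +kernel

noncomputable def j9_768_16 : List Job := [
  ⟨9, 0x6c966b45aae172be5fec162b65bae976bc5ed20924a259309a4e27d008242219108a4623c361909844160901, 0, 4, 0x201000401000601000801, []⟩]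

theorem t9_768_16 : jobs 8 S9 b8_768 j9_768_16 = true := by decide +kernel

noncomputable def j9_768_17 : List Job := [
  ⟨8, 0x6110a8643a21128a45e01028241a311a8e47d20924a259309a4e27d008242219108a4623c361909844160901, 0, 4, 0x201000401000601000801, []⟩]

theorem t9_768_17 : jobs 8 S9 b8_768 j9_768_17 = true := by decide +kernel

noncomputable def j9_768_18 : List Job := [
  ⟨7, 0x6110a8643a21128a45e01028241a311a8e47c361909844160901, 0, 4, 0x201000401000601000801, []⟩]

theorem t9_768_18 : jobs 8 S9 b8_768 j9_768_18 = true := by decide +kernel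

noncomputable def j9_768_19 : List Job := [
  ⟨6, 0x6110a8643a21128a45e01028241a311a8e47d20924a259309a4e27d008242219108a4623c361909844160901, 0, 4, 0x201000401000601000801, []⟩]

theorem t9_768_19 : jobs 8 S9 b8_768 j9_768_19 = true := by decide +kernel

noncomputable def j9_768_20 : List Job := [
  ⟨5, 0x4361909844160901, 0, 4, 0x201000401000601000801, []⟩]

theorem t9_768_20 : jobs 8 S9 b8_768 j9_768_20 = true := by decide +kernel

noncomputable def j9_768_21 : List Job := [
  ⟨4, 0x6c966b45aae172be5fec162b65bae976bc5ee110a8643a21128a45e01028241a311a8e47c361909844160901, 0, 4, 0x201000401000601000801, []⟩]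

theorem t9_768_21 : jobs 8 S9 b8_768 j9_768_21 = true := by decide +kernel

noncomputable def j9_768_22 : List Job := [
  ⟨3, 0x520924a259309a4e27d008242219108a4623c361909844160901, 0, 4, 0x201000401000601000801, []⟩]

theorem t9_768_22 : jobs 8 S9 b8_768 j9_768_22 = true := by decide +kernel

noncomputable def j9_768_23 : List Job := [
  ⟨2, 0x6c966b45aae172be5fec162b65bae976bc5ee110a8643a21128a45e01028241a311a8e47d20924a259309a4e27d008242219108a4623c361909844160901, 0, 14, 0x201000401000601000801000a01000c01000e01001001, []⟩]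

theorem t9_768_23 : jobs 8 S9 b8_768 j9_768_23 = true := by decide +kernel

noncomputable def j9_768_24 : List Job := [
  ⟨1, 0x6110a8643a21128a45e01028241a311a8e47c361909844160901, 0, 4, 0x201000401000601000801, []⟩]

theorem t9_768_24 : jobs 8 S9 b8_768 j9_768_24 = true := by decide +kernel

noncomputable def j9_768_25 : List Job := [
  ⟨0, 0x6110a8643a21128a45e01028241a311a8e47d20924a259309a4e27d008242219108a4623c361909844160901, 0, 4, 0x201000401000601000801, []⟩]

theorem t9_768_25 : jobs 8 S9 b8_768 j9_768_25 = true := by decide +kernel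

theorem d9_768 : Dn 8 S9 b8_768 := dn_of (Js := j9_768_0 ++ (j9_768_1 ++ (j9_768_2 ++ (j9_768_3 ++ (j9_768_4 ++ (j9_768_5 ++ (j9_768_6 ++ (j9_768_7 ++ (j9_768_8 ++ (j9_768_9 ++ (j9_768_10 ++ (j9_768_11 ++ (j9_768_12 ++ (j9_768_13 ++ (j9_768_14 ++ (j9_768_15 ++ (j9_768_16 ++ (j9_768_17 ++ (j9_768_18 ++ (j9_768_19 ++ (j9_768_20 ++ (j9_768_21 ++ (j9_768_22 ++ (j9_768_23 ++ (j9_768_24 ++ (j9_768_25 ++ []))))))))))))))))))))))))))
  (jobs_append t9_768_0 <| jobs_append t9_768_1 <| jobs_append t9_768_2 <| jobs_append t9_768_3 <| jobs_append t9_768_4 <| jobs_append t9_768_5 <| jobs_append t9_768_6 <| jobs_append t9_768_7 <| jobs_append t9_768_8 <| jobs_append t9_768_9 <| jobs_append t9_768_10 <| jobs_append t9_768_11 <| jobs_append t9_768_12 <| jobs_append t9_768_13 <| jobs_append t9_768_14 <| jobs_append t9_768_15 <| jobs_append t9_768_16 <| jobs_append t9_768_17 <| jobs_append t9_768_18 <| jobs_append t9_768_19 <| jobs_append t9_768_20 <| jobs_append t9_768_21 <| jobs_append t9_768_22 <| jobs_append t9_768_23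 <| jobs_append t9_768_24 <| jobs_append t9_768_25 <| List.forall_mem_nil _) (by decide +kernel)

noncomputable def j9_769_0 : List Job := [
  ⟨61, 0x4361909844160901, 0, 14, 0x0, []⟩]

theorem t9_769_0 : jobs 8 S9 b8_769 j9_769_0 = true := by decide +kernel

noncomputable def j9_769_1 : List Job := [
  ⟨47, 0x6c162b259ad16ab65bae172ba5daf17abe5fe01028241a110a8643a21128a45a311a8e47c361909844160901, 0, 6, 0x201000401000601000801, []⟩]

theorem t9_769_1 : jobs 8 S9 b8_769 j9_769_1 = true := by decide +kernel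

noncomputable def j9_769_2 : List Job := [
  ⟨45, 0x6c162b259ad16ab65bae172ba5daf17abe5fe01028241a110a8643a21128a45a311a8e47c361909844160901, 0, 16, 0x0, []⟩]

theorem t9_769_2 : jobs 8 S9 b8_769 j9_769_2 = true := by decide +kernel

noncomputable def j9_769_3 : List Job := [
  ⟨30, 0x548a6542a968b65c2ed40a2562b960b25e2fd108a46239309a4e27d00824221920924a25c361909844160901, 0, 4, 0x201000401000601000801, []⟩]

theorem t9_769_3 : jobs 8 S9 b8_769 j9_769_3 = true := by decide +kernel

noncomputable def j9_769_4 : List Job := [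
  ⟨29, 0x548a6542a968b65c2ed40a2562b960b25e2fd108a46239309a4e27d00824221920924a25c361909844160901, 0, 16, 0x0, []⟩]

theorem t9_769_4 : jobs 8 S9 b8_769 j9_769_4 = true := by decide +kernel

noncomputable def j9_769_5 : List Job := [
  ⟨28, 0x601028241a110a8643a21128a45a311a8e47d48a6562b960b25c2ed008242219108a4623c381f0c06c080701, 0, 64, 0x201000a01001401001c01002201002a01003401003c01004201004a01005401005c01006201006a01007401007c01, []⟩]

theorem t9_769_5 : jobs 8 S9 b8_769 j9_769_5 = true := by decide +kernel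

noncomputable def j9_769_6 : List Job := [
  ⟨27, 0x548a6562b960b25c2ed008242219108a4623c381f0c06c080701, 0, 36, 0x601000e01001601001e01002401002801002e01003401, []⟩]

theorem t9_769_6 : jobs 8 S9 b8_769 j9_769_6 = true := by decide +kernel

noncomputable def j9_769_7 : List Job := [
  ⟨26, 0x6c162b259ad16ab65bae172ba5daf17abe5fe01028241a110a8643a21128a45a311a8e47d48a6562b960b25c2ed008242219108a4623c381f0c06c080701, 0, 36, 0x601000e01001601001e01002401002801002e01003401, []⟩]

theorem t9_769_7 : jobs 8 S9 b8_769 j9_769_7 = true := by decide +kernel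

noncomputable def j9_769_8 : List Job := [
  ⟨25, 0x520924a259309a4e27d008242219108a4623c361909844160901, 0, 6, 0x0, []⟩]

theorem t9_769_8 : jobs 8 S9 b8_769 j9_769_8 = true := by decide +kernel

noncomputable def j9_769_9 : List Job := [
  ⟨24, 0x6c162b259ad16ab65bae172ba5daf17abe5fe01028241a110a8643a21128a45a311a8e47d20924a259309a4e27d008242219108a4623c361909844160901, 0, 6, 0x0, []⟩]

theorem t9_769_9 : jobs 8 S9 b8_769 j9_769_9 = true := by decide +kernel

noncomputable def j9_769_10 : List Job := [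
  ⟨23, 0x601028241a110a8643a21128a45a311a8e47d20924a259309a4e27d008242219108a4623c361909844160901, 0, 8, 0x201000401000601000801000a01000c01000e01001001, []⟩]

theorem t9_769_10 : jobs 8 S9 b8_769 j9_769_10 = true := by decide +kernel

noncomputable def j9_769_11 : List Job := [
  ⟨22, 0x4361909844160901, 0, 3, 0x0, []⟩]

theorem t9_769_11 : jobs 8 S9 b8_769 j9_769_11 = true := by decide +kernel

noncomputable def j9_769_12 : List Job := [
  ⟨21, 0x6c162b259ad16ab65bae172ba5daf17abe5fe01028241a110a8643a21128a45a311a8e47c361909844160901, 0, 3, 0x0, []⟩]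

theorem t9_769_12 : jobs 8 S9 b8_769 j9_769_12 = true := by decide +kernel

noncomputable def j9_769_13 : List Job := [
  ⟨20, 0x548a6562b960b25c2ed40a2542a968b65e2fd20924a259309a4e27d008242219108a4623c361909844160901, 0, 3, 0x0, []⟩]

theorem t9_769_13 : jobs 8 S9 b8_769 j9_769_13 = true := by decide +kernel

noncomputable def j9_769_14 : List Job := [
  ⟨19, 0x6c162b259ad16ab65bae172ba5daf17abe5fe01028241a110a8643a21128a45a311a8e47d48a6562b960b25c2ed40a2542a968b65e2fd20924a259309a4e27d008242219108a4623c361909844160901, 0, 3, 0x0, []⟩]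

theorem t9_769_14 : jobs 8 S9 b8_769 j9_769_14 = true := by decide +kernel

noncomputable def j9_769_15 : List Job := [
  ⟨18, 0x601028241a110a8643a21128a45a311a8e47c361909844160901, 0, 4, 0x201000401000601000801, []⟩]

theorem t9_769_15 : jobs 8 S9 b8_769 j9_769_15 = true := by decide +kernel

noncomputable def j9_769_16 : List Job := [
  ⟨17, 0x601028241a110a8643a21128a45a311a8e47d48a6562b960b25c2ed40a2542a968b65e2fd20924a259309a4e27d008242219108a4623c361909844160901, 0, 4, 0x201000401000601000801, []⟩]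

theorem t9_769_16 : jobs 8 S9 b8_769 j9_769_16 = true := by decide +kernel

noncomputable def j9_769_17 : List Job := [
  ⟨16, 0x601028241a110a8643a21128a45a311a8e47d20924a259309a4e27d008242219108a4623c361909844160901, 0, 8, 0x0, []⟩]

theorem t9_769_17 : jobs 8 S9 b8_769 j9_769_17 = true := by decide +kernel

noncomputable def j9_769_18 : List Job := [
  ⟨15, 0x520924a259309a4e27d008242219108a4623c361909844160901, 0, 6, 0x201000401000601000801000a01000c01, []⟩]

theorem t9_769_18 : jobs 8 S9 b8_769 j9_769_18 = true := by decide +kernel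

noncomputable def j9_769_19 : List Job := [
  ⟨14, 0x6c162b259ad16ab65bae172ba5daf17abe5fe01028241a110a8643a21128a45a311a8e47d20924a259309a4e27d008242219108a4623c361909844160901, 0, 6, 0x201000401000601000801, []⟩]

theorem t9_769_19 : jobs 8 S9 b8_769 j9_769_19 = true := by decide +kernel

noncomputable def j9_769_20 : List Job := [
  ⟨13, 0x601028241a110a8643a21128a45a311a8e47c361909844160901, 0, 4, 0x0, []⟩]

theorem t9_769_20 : jobs 8 S9 b8_769 j9_769_20 = true := by decide +kernel

noncomputable def j9_769_21 : List Job := [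
  ⟨12, 0x601028241a110a8643a21128a45a311a8e47d48a6562b960b25c2ed40a2542a968b65e2fd20924a259309a4e27d008242219108a4623c361909844160901, 0, 4, 0x0, []⟩]

theorem t9_769_21 : jobs 8 S9 b8_769 j9_769_21 = true := by decide +kernel

noncomputable def j9_769_22 : List Job := [
  ⟨11, 0x4361909844160901, 0, 4, 0x201000401000601000801, []⟩]

theorem t9_769_22 : jobs 8 S9 b8_769 j9_769_22 = true := by decide +kernel

noncomputable def j9_769_23 : List Job := [
  ⟨10, 0x6c162b259ad16ab65bae172ba5daf17abe5fe01028241a110a8643a21128a45a311a8e47c361909844160901, 0, 6, 0x201000401000601000801, []⟩]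

theorem t9_769_23 : jobs 8 S9 b8_769 j9_769_23 = true := by decide +kernel

noncomputable def j9_769_24 : List Job := [
  ⟨9, 0x548a6562b960b25c2ed40a2542a968b65e2fd20924a259309a4e27d008242219108a4623c361909844160901, 0, 4, 0x201000401000601000801, []⟩]

theorem t9_769_24 : jobs 8 S9 b8_769 j9_769_24 = true := by decide +kernel

noncomputable def j9_769_25 : List Job := [
  ⟨8, 0x6c162b259ad16ab65bae172ba5daf17abe5fe01028241a110a8643a21128a45a311a8e47d48a6562b960b25c2ed40a2542a968b65e2fd20924a259309a4e27d008242219108a4623c361909844160901, 0, 30, 0x2601002801002a01002c01003201003401003601003801, []⟩]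

theorem t9_769_25 : jobs 8 S9 b8_769 j9_769_25 = true := by decide +kernel

theorem d9_769 : Dn 8 S9 b8_769 := dn_of (Js := j9_769_0 ++ (j9_769_1 ++ (j9_769_2 ++ (j9_769_3 ++ (j9_769_4 ++ (j9_769_5 ++ (j9_769_6 ++ (j9_769_7 ++ (j9_769_8 ++ (j9_769_9 ++ (j9_769_10 ++ (j9_769_11 ++ (j9_769_12 ++ (j9_769_13 ++ (j9_769_14 ++ (j9_769_15 ++ (j9_769_16 ++ (j9_769_17 ++ (j9_769_18 ++ (j9_769_19 ++ (j9_769_20 ++ (j9_769_21 ++ (j9_769_22 ++ (j9_769_23 ++ (j9_769_24 ++ (j9_769_25 ++ []))))))))))))))))))))))))))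
  (jobs_append t9_769_0 <| jobs_append t9_769_1 <| jobs_append t9_769_2 <| jobs_append t9_769_3 <| jobs_append t9_769_4 <| jobs_append t9_769_5 <| jobs_append t9_769_6 <| jobs_append t9_769_7 <| jobs_append t9_769_8 <| jobs_append t9_769_9 <| jobs_append t9_769_10 <| jobs_append t9_769_11 <| jobs_append t9_769_12 <| jobs_append t9_769_13 <| jobs_append t9_769_14 <| jobs_append t9_769_15 <| jobs_append t9_769_16 <| jobs_append t9_769_17 <| jobs_append t9_769_18 <| jobs_append t9_769_19 <| jobs_append t9_769_20 <| jobs_append t9_769_21 <| jobs_append t9_769_22 <| jobs_append t9_769_23 <| jobs_append t9_769_24 <| jobs_append t9_769_25 <| List.forall_mem_nil _) (by decide +kernel)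

noncomputable def j9_770_0 : List Job := [
  ⟨63, 0x601028241a110a8643a21128a45a311a8e47d48a6562b960b25c2ed40a2542a968b65e2fd20924a259309a4e27d008242219108a4623c361909844160901, 0, 4, 0x200000600, [(2, ⟨2301, 0x10000400012804440204000c008200404000001, 0x1802008c22060102002⟩), (0, ⟨2300, 0x10000400012804440204000c008200404000001, 0x1802008c22060102002⟩)]⟩]

theorem t9_770_0 : jobs 8 S9 b8_770 j9_770_0 = true := by decide +kernel

noncomputable def j9_770_1 : List Job := [
  ⟨55, 0x601028241a110a8643a21128a45a311a8e47d48a6562b960b25c2ed40a2542a968b65e2fd20924a259309a4e27d008242219108a4623c361909844160901, 0, 4, 0x0, []⟩]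

theorem t9_770_1 : jobs 8 S9 b8_770 j9_770_1 = true := by decide +kernel

noncomputable def j9_770_2 : List Job := [
  ⟨51, 0x601028241a110a8643a21128a45a311a8e47d48a6562b960b25c2ed40a2542a968b65e2fd20924a259309a4e27d008242219108a4623c361909844160901, 0, 20, 0x0, []⟩]

theorem t9_770_2 : jobs 8 S9 b8_770 j9_770_2 = true := by decide +kernel

noncomputable def j9_770_3 : List Job := [
  ⟨35, 0x601028241a110a8643a21128a45a311a8e47c361909844160901, 0, 4, 0x0, []⟩]

theorem t9_770_3 : jobs 8 S9 b8_770 j9_770_3 = true := by decide +kernel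

noncomputable def j9_770_4 : List Job := [
  ⟨31, 0x601028241a110a8643a21128a45a311a8e47c361909844160901, 0, 20, 0x0, []⟩]

theorem t9_770_4 : jobs 8 S9 b8_770 j9_770_4 = true := by decide +kernel

noncomputable def j9_770_5 : List Job := [
  ⟨23, 0x601028241a110a8643a21128a45a311a8e47d48a6562b960b25c2ed40a2542a968b65e2fd20924a259309a4e27d008242219108a4623c361909844160901, 0, 4, 0x200000600, [(2, ⟨2299, 0x11001400092000500004000c008200004020001, 0x1862008824060102002⟩), (0, ⟨2298, 0x11001400092000500004000c008200004020001, 0x1862008824060102002⟩)]⟩]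

theorem t9_770_5 : jobs 8 S9 b8_770 j9_770_5 = true := by decide +kernel

noncomputable def j9_770_6 : List Job := [
  ⟨15, 0x601028241a110a8643a21128a45a311a8e47d48a6562b960b25c2ed40a2542a968b65e2fd20924a259309a4e27d008242219108a4623c361909844160901, 0, 4, 0x0, []⟩]

theorem t9_770_6 : jobs 8 S9 b8_770 j9_770_6 = true := by decide +kernel

noncomputable def j9_770_7 : List Job := [
  ⟨11, 0x601028241a110a8643a21128a45a311a8e47d48a6562b960b25c2ed40a2542a968b65e2fd20924a259309a4e27d008242219108a4623c361909844160901, 0, 20, 0x0, []⟩]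

theorem t9_770_7 : jobs 8 S9 b8_770 j9_770_7 = true := by decide +kernel

noncomputable def j9_770_8 : List Job := [
  ⟨0, 0x4361909844160901, 0, 4, 0x201000401000601000801, []⟩]

theorem t9_770_8 : jobs 8 S9 b8_770 j9_770_8 = true := by decide +kernel

theorem d9_770 : Dn 8 S9 b8_770 := dn_of (Js := j9_770_0 ++ (j9_770_1 ++ (j9_770_2 ++ (j9_770_3 ++ (j9_770_4 ++ (j9_770_5 ++ (j9_770_6 ++ (j9_770_7 ++ (j9_770_8 ++ [])))))))))
  (jobs_append t9_770_0 <| jobs_append t9_770_1 <| jobs_append t9_770_2 <| jobs_append t9_770_3 <| jobs_append t9_770_4 <| jobs_append t9_770_5 <| jobs_append t9_770_6 <| jobs_append t9_770_7 <| jobs_append t9_770_8 <| List.forall_mem_nil _) (by decide +kernel)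

noncomputable def j9_771_0 : List Job := [
  ⟨59, 0x6c162b259ad16ab65bae172ba5daf17abe5fe21128a45a311a8e47e01028241a110a8643d48a6542a968b65c2ed40a2562b960b25e2fc361909844160901, 0, 32, 0x0, []⟩]

theorem t9_771_0 : jobs 8 S9 b8_771 j9_771_0 = true := by decide +kernel

noncomputable def j9_771_1 : List Job := [
  ⟨35, 0x5309a4e27d20924a25d108a4623d00824221c361909844160901, 0, 4, 0x0, []⟩]

theorem t9_771_1 : jobs 8 S9 b8_771 j9_771_1 = true := by decide +kernel

noncomputable def j9_771_2 : List Job := [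
  ⟨27, 0x5309a4e27d20924a25d108a4623d00824221c361909844160901, 0, 32, 0x210000408000609000811000a11000c10000e11001008001209001408001609001811001a11001c10001e11002008, []⟩]

theorem t9_771_2 : jobs 8 S9 b8_771 j9_771_2 = true := by decide +kernel

noncomputable def j9_771_3 : List Job := [
  ⟨13, 0x601028241a110a8643a21128a45a311a8e47c361909844160901, 0, 4, 0x0, []⟩]

theorem t9_771_3 : jobs 8 S9 b8_771 j9_771_3 = true := by decide +kernel

noncomputable def j9_771_4 : List Job := [
  ⟨7, 0x601028241a110a8643a21128a45a311a8e47c361909844160901, 0, 20, 0x0, []⟩]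

theorem t9_771_4 : jobs 8 S9 b8_771 j9_771_4 = true := by decide +kernel

theorem d9_771 : Dn 8 S9 b8_771 := dn_of (Js := j9_771_0 ++ (j9_771_1 ++ (j9_771_2 ++ (j9_771_3 ++ (j9_771_4 ++ [])))))
  (jobs_append t9_771_0 <| jobs_append t9_771_1 <| jobs_append t9_771_2 <| jobs_append t9_771_3 <| jobs_append t9_771_4 <| List.forall_mem_nil _) (by decide +kernel)

noncomputable def j9_772_0 : List Job := [
  ⟨59, 0x601028241a110a8643a21128a45a311a8e47d309a4e27d20924a25d108a4623d00824221c361909844160901, 0, 32, 0x208000409000608000810000a09000c10000e09001008002210002411002608002809002a09002c08002e10003011, []⟩]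

theorem t9_772_0 : jobs 8 S9 b8_772 j9_772_0 = true := by decide +kernel

noncomputable def j9_772_1 : List Job := [
  ⟨35, 0x548a6542a968b65c2ed40a2562b960b25e2fc361909844160901, 0, 4, 0x0, []⟩]

theorem t9_772_1 : jobs 8 S9 b8_772 j9_772_1 = true := by decide +kernel

noncomputable def j9_772_2 : List Job := [
  ⟨27, 0x548a6542a968b65c2ed40a2562b960b25e2fc361909844160901, 0, 32, 0x0, []⟩]

theorem t9_772_2 : jobs 8 S9 b8_772 j9_772_2 = true := by decide +kernel

noncomputable def j9_772_3 : List Job := [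
  ⟨3, 0x6c162b259ad16ab65bae172ba5daf17abe5fe21128a45a311a8e47e01028241a110a8643d48a6542a968b65c2ed40a2562b960b25e2fc361909844160901, 0, 4, 0x0, []⟩]

theorem t9_772_3 : jobs 8 S9 b8_772 j9_772_3 = true := by decide +kernel

theorem d9_772 : Dn 8 S9 b8_772 := dn_of (Js := j9_772_0 ++ (j9_772_1 ++ (j9_772_2 ++ (j9_772_3 ++ []))))
  (jobs_append t9_772_0 <| jobs_append t9_772_1 <| jobs_append t9_772_2 <| jobs_append t9_772_3 <| List.forall_mem_nil _) (by decide +kernel)

noncomputable def j9_773_0 : List Job := [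
  ⟨59, 0x6d16ab65bae172ba5dec162b259af17abe5fd48a6542a968b65c2ed40a2562b960b25e2fc361909844160901, 0, 32, 0x0, []⟩]

theorem t9_773_0 : jobs 8 S9 b8_773 j9_773_0 = true := by decide +kernel

noncomputable def j9_773_1 : List Job := [
  ⟨35, 0x601028241a110a8643a21128a45a311a8e47d48a6542a968b65c2ed40a2562b960b25e2fc361909844160901, 0, 4, 0x0, []⟩]

theorem t9_773_1 : jobs 8 S9 b8_773 j9_773_1 = true := by decide +kernel

noncomputable def j9_773_2 : List Job := [
  ⟨27, 0x601028241a110a8643a21128a45a311a8e47d48a6542a968b65c2ed40a2562b960b25e2fc361909844160901, 0, 32, 0x0, []⟩]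

theorem t9_773_2 : jobs 8 S9 b8_773 j9_773_2 = true := by decide +kernel

noncomputable def j9_773_3 : List Job := [
  ⟨3, 0x601028241a110a8643a21128a45a311a8e47d309a4e27d20924a25d108a4623d00824221c361909844160901, 0, 4, 0x0, []⟩]

theorem t9_773_3 : jobs 8 S9 b8_773 j9_773_3 = true := by decide +kernel

theorem d9_773 : Dn 8 S9 b8_773 := dn_of (Js := j9_773_0 ++ (j9_773_1 ++ (j9_773_2 ++ (j9_773_3 ++ []))))
  (jobs_append t9_773_0 <| jobs_append t9_773_1 <| jobs_append t9_773_2 <| jobs_append t9_773_3 <| List.forall_mem_nil _) (by decide +kernel)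

noncomputable def j9_774_0 : List Job := [
  ⟨59, 0x6c162b259ad16ab65bae172ba5daf17abe5fe21128a45a311a8e47e01028241a110a8643c361909844160901, 0, 32, 0x0, []⟩]

theorem t9_774_0 : jobs 8 S9 b8_774 j9_774_0 = true := by decide +kernel

noncomputable def j9_774_1 : List Job := [
  ⟨35, 0x548a6542a968b65c2ed40a2562b960b25e2fd108a46239309a4e27d00824221920924a25c361909844160901, 0, 4, 0x0, []⟩]

theorem t9_774_1 : jobs 8 S9 b8_774 j9_774_1 = true := by decide +kernel

noncomputable def j9_774_2 : List Job := [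
  ⟨27, 0x548a6542a968b65c2ed40a2562b960b25e2fd108a46239309a4e27d00824221920924a25c361909844160901, 0, 32, 0x0, []⟩]

theorem t9_774_2 : jobs 8 S9 b8_774 j9_774_2 = true := by decide +kernel

noncomputable def j9_774_3 : List Job := [
  ⟨3, 0x6d16ab65bae172ba5dec162b259af17abe5fd48a6542a968b65c2ed40a2562b960b25e2fc361909844160901, 0, 4, 0x0, []⟩]

theorem t9_774_3 : jobs 8 S9 b8_774 j9_774_3 = true := by decide +kernel

theorem d9_774 : Dn 8 S9 b8_774 := dn_of (Js := j9_774_0 ++ (j9_774_1 ++ (j9_774_2 ++ (j9_774_3 ++ []))))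
  (jobs_append t9_774_0 <| jobs_append t9_774_1 <| jobs_append t9_774_2 <| jobs_append t9_774_3 <| List.forall_mem_nil _) (by decide +kernel)

noncomputable def j9_775_0 : List Job := [
  ⟨59, 0x601028241a110a8643a21128a45a311a8e47d48a6562b960b25c2ed40a2542a968b65e2fd20924a259309a4e27d008242219108a4623c361909844160901, 0, 32, 0x0, []⟩]

theorem t9_775_0 : jobs 8 S9 b8_775 j9_775_0 = true := by decide +kernel

noncomputable def j9_775_1 : List Job := [
  ⟨35, 0x4361909844160901, 0, 4, 0x0, []⟩]

theorem t9_775_1 : jobs 8 S9 b8_775 j9_775_1 = true := by decide +kernel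

noncomputable def j9_775_2 : List Job := [
  ⟨27, 0x4361909844160901, 0, 32, 0x0, []⟩]

theorem t9_775_2 : jobs 8 S9 b8_775 j9_775_2 = true := by decide +kernel

noncomputable def j9_775_3 : List Job := [
  ⟨3, 0x6c162b259ad16ab65bae172ba5daf17abe5fe21128a45a311a8e47e01028241a110a8643c361909844160901, 0, 4, 0x0, []⟩]

theorem t9_775_3 : jobs 8 S9 b8_775 j9_775_3 = true := by decide +kernel

theorem d9_775 : Dn 8 S9 b8_775 := dn_of (Js := j9_775_0 ++ (j9_775_1 ++ (j9_775_2 ++ (j9_775_3 ++ []))))
  (jobs_append t9_775_0 <| jobs_append t9_775_1 <| jobs_append t9_775_2 <| jobs_append t9_775_3 <| List.forall_mem_nil _) (by decide +kernel)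

noncomputable def j9_776_0 : List Job := [
  ⟨63, 0x43e1d0b854160901, 0, 32, 0x0, []⟩]

theorem t9_776_0 : jobs 8 S9 b8_776 j9_776_0 = true := by decide +kernel

noncomputable def j9_776_1 : List Job := [
  ⟨62, 0x6c966b45aae172be5fec162b65bae976bc5ed48a6542a968b65c2ed40a2562b960b25e2fd108a46239309a4e27d00824221920924a25c3e1d0b854160901, 0, 32, 0x0, []⟩]

theorem t9_776_1 : jobs 8 S9 b8_776 j9_776_1 = true := by decide +kernel

noncomputable def j9_776_2 : List Job := [
  ⟨61, 0x548a6542a968b65c2ed40a2562b960b25e2fd108a46239309a4e27d00824221920924a25c3e1d0b854160901, 0, 32, 0x0, []⟩]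

theorem t9_776_2 : jobs 8 S9 b8_776 j9_776_2 = true := by decide +kernel

noncomputable def j9_776_3 : List Job := [
  ⟨60, 0x43e1d0b854160901, 0, 32, 0x0, []⟩]

theorem t9_776_3 : jobs 8 S9 b8_776 j9_776_3 = true := by decide +kernel

noncomputable def j9_776_4 : List Job := [
  ⟨59, 0x6c966b45aae172be5fec162b65bae976bc5ec3e1d0b854160901, 0, 32, 0x0, []⟩]

theorem t9_776_4 : jobs 8 S9 b8_776 j9_776_4 = true := by decide +kernel

noncomputable def j9_776_5 : List Job := [
  ⟨58, 0x548a6542a968b65c2ed40a2562b960b25e2fd108a46239309a4e27d00824221920924a25c3e1d0b854160901, 0, 32, 0x0, []⟩]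

theorem t9_776_5 : jobs 8 S9 b8_776 j9_776_5 = true := by decide +kernel

noncomputable def j9_776_6 : List Job := [
  ⟨57, 0x6c966b45aae172be5fec162b65bae976bc5ed48a6542a968b65c2ed40a2562b960b25e2fd108a46239309a4e27d00824221920924a25c3e1d0b854160901, 0, 72, 0x8208008408008608008808008a08008c08008e08, []⟩]

theorem t9_776_6 : jobs 8 S9 b8_776 j9_776_6 = true := by decide +kernel

noncomputable def j9_776_7 : List Job := [
  ⟨56, 0x6c966b45aae172be5fec162b65bae976bc5ed48a6542a968b65c2ed40a2562b960b25e2fc3e1d0b854160901, 0, 32, 0x0, []⟩]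

theorem t9_776_7 : jobs 8 S9 b8_776 j9_776_7 = true := by decide +kernel

noncomputable def j9_776_8 : List Job := [
  ⟨55, 0x548a6542a968b65c2ed40a2562b960b25e2fc3e1d0b854160901, 0, 32, 0x0, []⟩]

theorem t9_776_8 : jobs 8 S9 b8_776 j9_776_8 = true := by decide +kernel

noncomputable def j9_776_9 : List Job := [
  ⟨54, 0x6c966b45aae172be5fec162b65bae976bc5ed108a46239309a4e27d00824221920924a25c3e1d0b854160901, 0, 32, 0x0, []⟩]

theorem t9_776_9 : jobs 8 S9 b8_776 j9_776_9 = true := by decide +kernel

noncomputable def j9_776_10 : List Job := [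
  ⟨53, 0x5108a46239309a4e27d00824221920924a25c3e1d0b854160901, 0, 32, 0x0, []⟩]

theorem t9_776_10 : jobs 8 S9 b8_776 j9_776_10 = true := by decide +kernel

noncomputable def j9_776_11 : List Job := [
  ⟨52, 0x548a6542a968b65c2ed40a2562b960b25e2fc3e1d0b854160901, 0, 32, 0x0, []⟩]

theorem t9_776_11 : jobs 8 S9 b8_776 j9_776_11 = true := by decide +kernel

noncomputable def j9_776_12 : List Job := [
  ⟨51, 0x6c966b45aae172be5fec162b65bae976bc5ed48a6542a968b65c2ed40a2562b960b25e2fc3e1d0b854160901, 0, 32, 0x0, []⟩]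

theorem t9_776_12 : jobs 8 S9 b8_776 j9_776_12 = true := by decide +kernel

noncomputable def j9_776_13 : List Job := [
  ⟨50, 0x5108a46239309a4e27d00824221920924a25c3e1d0b854160901, 0, 32, 0x0, []⟩]

theorem t9_776_13 : jobs 8 S9 b8_776 j9_776_13 = true := by decide +kernel

noncomputable def j9_776_14 : List Job := [
  ⟨49, 0x6c966b45aae172be5fec162b65bae976bc5ed108a46239309a4e27d00824221920924a25c3e1d0b854160901, 0, 32, 0x0, []⟩]

theorem t9_776_14 : jobs 8 S9 b8_776 j9_776_14 = true := by decide +kernel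

noncomputable def j9_776_15 : List Job := [
  ⟨48, 0x43e1d0b854160901, 0, 32, 0x0, []⟩]

theorem t9_776_15 : jobs 8 S9 b8_776 j9_776_15 = true := by decide +kernel

noncomputable def j9_776_16 : List Job := [
  ⟨47, 0x6c966b45aae172be5fec162b65bae976bc5ec3e1d0b854160901, 0, 32, 0x0, []⟩]

theorem t9_776_16 : jobs 8 S9 b8_776 j9_776_16 = true := by decide +kernel

noncomputable def j9_776_17 : List Job := [
  ⟨46, 0x548a6542a968b65c2ed40a2562b960b25e2fd108a46239309a4e27d00824221920924a25c3e1d0b854160901, 0, 32, 0x0, []⟩]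

theorem t9_776_17 : jobs 8 S9 b8_776 j9_776_17 = true := by decide +kernel

noncomputable def j9_776_18 : List Job := [
  ⟨45, 0x6c966b45aae172be5fec162b65bae976bc5ed48a6542a968b65c2ed40a2562b960b25e2fd108a46239309a4e27d00824221920924a25c3e1d0b854160901, 0, 32, 0x0, []⟩]

theorem t9_776_18 : jobs 8 S9 b8_776 j9_776_18 = true := by decide +kernel

noncomputable def j9_776_19 : List Job := [
  ⟨44, 0x6c966b45aae172be5fec162b65bae976bc5ec3e1d0b854160901, 0, 32, 0x0, []⟩]

theorem t9_776_19 : jobs 8 S9 b8_776 j9_776_19 = true := by decide +kernel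

noncomputable def j9_776_20 : List Job := [
  ⟨43, 0x43e1d0b854160901, 0, 32, 0x0, []⟩]

theorem t9_776_20 : jobs 8 S9 b8_776 j9_776_20 = true := by decide +kernel

noncomputable def j9_776_21 : List Job := [
  ⟨42, 0x6c966b45aae172be5fec162b65bae976bc5ed48a6542a968b65c2ed40a2562b960b25e2fd108a46239309a4e27d00824221920924a25c3e1d0b854160901, 0, 38, 0x4c00, [(37, ⟨2302, 0x23000400009000190000c00040042001010040001, 0x1872009024020202402⟩)]⟩]

theorem t9_776_21 : jobs 8 S9 b8_776 j9_776_21 = true := by decide +kernel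

noncomputable def j9_776_22 : List Job := [
  ⟨41, 0x548a6542a968b65c2ed40a2562b960b25e2fd108a46239309a4e27d00824221920924a25c3e1d0b854160901, 0, 32, 0x0, []⟩]

theorem t9_776_22 : jobs 8 S9 b8_776 j9_776_22 = true := by decide +kernel

noncomputable def j9_776_23 : List Job := [
  ⟨40, 0x548a6542a968b65c2ed40a2562b960b25e2fc3e1d0b854160901, 0, 32, 0x0, []⟩]

theorem t9_776_23 : jobs 8 S9 b8_776 j9_776_23 = true := by decide +kernel

noncomputable def j9_776_24 : List Job := [
  ⟨39, 0x6c966b45aae172be5fec162b65bae976bc5ed48a6542a968b65c2ed40a2562b960b25e2fc3e1d0b854160901, 0, 32, 0x0, []⟩]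

theorem t9_776_24 : jobs 8 S9 b8_776 j9_776_24 = true := by decide +kernel

noncomputable def j9_776_25 : List Job := [
  ⟨38, 0x5108a46239309a4e27d00824221920924a25c3e1d0b854160901, 0, 32, 0x0, []⟩]

theorem t9_776_25 : jobs 8 S9 b8_776 j9_776_25 = true := by decide +kernel

noncomputable def j9_776_26 : List Job := [
  ⟨37, 0x6c966b45aae172be5fec162b65bae976bc5ed108a46239309a4e27d00824221920924a25c3e1d0b854160901, 0, 32, 0x0, []⟩]

theorem t9_776_26 : jobs 8 S9 b8_776 j9_776_26 = true := by decide +kernel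

noncomputable def j9_776_27 : List Job := [
  ⟨36, 0x6c966b45aae172be5fec162b65bae976bc5ed48a6542a968b65c2ed40a2562b960b25e2fc3e1d0b854160901, 0, 32, 0x0, []⟩]

theorem t9_776_27 : jobs 8 S9 b8_776 j9_776_27 = true := by decide +kernel

noncomputable def j9_776_28 : List Job := [
  ⟨35, 0x548a6542a968b65c2ed40a2562b960b25e2fc3e1d0b854160901, 0, 32, 0x0, []⟩]

theorem t9_776_28 : jobs 8 S9 b8_776 j9_776_28 = true := by decide +kernel

noncomputable def j9_776_29 : List Job := [
  ⟨34, 0x6c966b45aae172be5fec162b65bae976bc5ed108a46239309a4e27d00824221920924a25c3e1d0b854160901, 0, 32, 0x0, []⟩]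

theorem t9_776_29 : jobs 8 S9 b8_776 j9_776_29 = true := by decide +kernel

noncomputable def j9_776_30 : List Job := [
  ⟨33, 0x5108a46239309a4e27d00824221920924a25c3e1d0b854160901, 0, 32, 0x0, []⟩]

theorem t9_776_30 : jobs 8 S9 b8_776 j9_776_30 = true := by decide +kernel

noncomputable def j9_776_31 : List Job := [
  ⟨32, 0x4180f05824080701, 0, 64, 0x0, []⟩]

theorem t9_776_31 : jobs 8 S9 b8_776 j9_776_31 = true := by decide +kernel

noncomputable def j9_776_32 : List Job := [
  ⟨31, 0x6c966b45aae172be5fec162b65bae976bc5ed48a6542a968b65c2ed40a2562b960b25e2fd108a46239309a4e27d00824221920924a25c180f05824080701, 0, 72, 0x0, []⟩]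

theorem t9_776_32 : jobs 8 S9 b8_776 j9_776_32 = true := by decide +kernel

noncomputable def j9_776_33 : List Job := [
  ⟨30, 0x6c966b45aae172be5fec162b65bae976bc5ed48a6542a968b65c2ed40a2562b960b25e2fc180f05824080701, 0, 64, 0x0, []⟩]

theorem t9_776_33 : jobs 8 S9 b8_776 j9_776_33 = true := by decide +kernel

noncomputable def j9_776_34 : List Job := [
  ⟨29, 0x548a6542a968b65c2ed40a2562b960b25e2fc180f05824080701, 0, 128, 0x0, []⟩]

theorem t9_776_34 : jobs 8 S9 b8_776 j9_776_34 = true := by decide +kernel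

noncomputable def j9_776_35 : List Job := [
  ⟨28, 0x6c966b45aae172be5fec162b65bae976bc5ed108a46239309a4e27d00824221920924a25c180f05824080701, 0, 128, 0x0, []⟩]

theorem t9_776_35 : jobs 8 S9 b8_776 j9_776_35 = true := by decide +kernel

noncomputable def j9_776_36 : List Job := [
  ⟨27, 0x5108a46239309a4e27d00824221920924a25c180f05824080701, 0, 72, 0x0, []⟩]

theorem t9_776_36 : jobs 8 S9 b8_776 j9_776_36 = true := by decide +kernel

noncomputable def j9_776_37 : List Job := [
  ⟨3, 0x601028241a110a8643a21128a45a311a8e47d48a6562b960b25c2ed40a2542a968b65e2fd20924a259309a4e27d008242219108a4623c361909844160901, 0, 4, 0x0, []⟩]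

theorem t9_776_37 : jobs 8 S9 b8_776 j9_776_37 = true := by decide +kernel

theorem d9_776 : Dn 8 S9 b8_776 := dn_of (Js := j9_776_0 ++ (j9_776_1 ++ (j9_776_2 ++ (j9_776_3 ++ (j9_776_4 ++ (j9_776_5 ++ (j9_776_6 ++ (j9_776_7 ++ (j9_776_8 ++ (j9_776_9 ++ (j9_776_10 ++ (j9_776_11 ++ (j9_776_12 ++ (j9_776_13 ++ (j9_776_14 ++ (j9_776_15 ++ (j9_776_16 ++ (j9_776_17 ++ (j9_776_18 ++ (j9_776_19 ++ (j9_776_20 ++ (j9_776_21 ++ (j9_776_22 ++ (j9_776_23 ++ (j9_776_24 ++ (j9_776_25 ++ (j9_776_26 ++ (j9_776_27 ++ (j9_776_28 ++ (j9_776_29 ++ (j9_776_30 ++ (j9_776_31 ++ (j9_776_32 ++ (j9_776_33 ++ (j9_776_34 ++ (j9_776_35 ++ (j9_776_36 ++ (j9_776_37 ++ []))))))))))))))))))))))))))))))))))))))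
  (jobs_append t9_776_0 <| jobs_append t9_776_1 <| jobs_append t9_776_2 <| jobs_append t9_776_3 <| jobs_append t9_776_4 <| jobs_append t9_776_5 <| jobs_append t9_776_6 <| jobs_append t9_776_7 <| jobs_append t9_776_8 <| jobs_append t9_776_9 <| jobs_append t9_776_10 <| jobs_append t9_776_11 <| jobs_append t9_776_12 <| jobs_append t9_776_13 <| jobs_append t9_776_14 <| jobs_append t9_776_15 <| jobs_append t9_776_16 <| jobs_append t9_776_17 <| jobs_append t9_776_18 <| jobs_append t9_776_19 <| jobs_append t9_776_20 <| jobs_append t9_776_21 <| jobs_append t9_776_22 <| jobs_append t9_776_23 <| jobs_append t9_776_24 <| jobs_append t9_776_25 <| jobs_append t9_776_26 <| jobs_append t9_776_27 <| jobs_append t9_776_28 <| jobs_append t9_776_29 <| jobs_append t9_776_30 <| jobs_append t9_776_31 <| jobs_append t9_776_32 <| jobs_append t9_776_33 <| jobs_append t9_776_34 <| jobs_append t9_776_35 <| jobs_append t9_776_36 <| jobs_append t9_776_37 <| List.forall_mem_nil _) (by decide +kernel)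

noncomputable def j9_777_0 : List Job := [
  ⟨41, 0x6c966b45aae172be5fec162b65bae976bc5ec361909844160901, 0, 4, 0x0, []⟩]

theorem t9_777_0 : jobs 8 S9 b8_777 j9_777_0 = true := by decide +kernel

noncomputable def j9_777_1 : List Job := [
  ⟨33, 0x6c966b45aae172be5fec162b65bae976bc5ec361909844160901, 0, 32, 0x0, []⟩]

theorem t9_777_1 : jobs 8 S9 b8_777 j9_777_1 = true := by decide +kernel

noncomputable def j9_777_2 : List Job := [
  ⟨9, 0x601028241a110a8643a21128a45a311a8e47c361909844160901, 0, 4, 0x0, []⟩]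

theorem t9_777_2 : jobs 8 S9 b8_777 j9_777_2 = true := by decide +kernel

noncomputable def j9_777_3 : List Job := [
  ⟨1, 0x601028241a110a8643a21128a45a311a8e47c361909844160901, 0, 32, 0x0, []⟩]

theorem t9_777_3 : jobs 8 S9 b8_777 j9_777_3 = true := by decide +kernel

noncomputable def j9_777_4 : List Job := [
  ⟨0, 0x6c966b45aae172be5fec162b65bae976bc5ec3e1d0b854160901, 0, 32, 0x0, []⟩]

theorem t9_777_4 : jobs 8 S9 b8_777 j9_777_4 = true := by decide +kernel

theorem d9_777 : Dn 8 S9 b8_777 := dn_of (Js := j9_777_0 ++ (j9_777_1 ++ (j9_777_2 ++ (j9_777_3 ++ (j9_777_4 ++ [])))))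
  (jobs_append t9_777_0 <| jobs_append t9_777_1 <| jobs_append t9_777_2 <| jobs_append t9_777_3 <| jobs_append t9_777_4 <| List.forall_mem_nil _) (by decide +kernel)

noncomputable def j9_778_0 : List Job := [
  ⟨63, 0x6c162b259ad16ab65bae172ba5daf17abe5fd80c26231990ca66339a0d26a359b0da6e37d44ac5b2ed40ae5a2e436190b8541e0d01, 0, 32, 0x0, []⟩]

theorem t9_778_0 : jobs 8 S9 b8_778 j9_778_0 = true := by decide +kernel

noncomputable def j9_778_1 : List Job := [
  ⟨62, 0x548a6542a960b25e2fd20924a259309a4e27d008242219108a4623c36190b8541e0d01, 0, 32, 0x0, []⟩]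

theorem t9_778_1 : jobs 8 S9 b8_778 j9_778_1 = true := by decide +kernel

noncomputable def j9_778_2 : List Job := [
  ⟨61, 0x6c162b259ad16ab65bae172ba5daf17abe5fd48a6542a960b25e2fd20924a259309a4e27d008242219108a4623c36190b8541e0d01, 0, 32, 0x0, []⟩]

theorem t9_778_2 : jobs 8 S9 b8_778 j9_778_2 = true := by decide +kernel

noncomputable def j9_778_3 : List Job := [
  ⟨60, 0x6c162b259ad16ab65bae172ba5daf17abe5fd80c26231990ca66339a0d26a359b0da6e37d44ac5a2e540ae5b2ec36190b8541e0d01, 0, 32, 0x0, []⟩]

theorem t9_778_3 : jobs 8 S9 b8_778 j9_778_3 = true := by decide +kernel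

noncomputable def j9_778_4 : List Job := [
  ⟨59, 0x580c26231990ca66339a0d26a359b0da6e37d44ac5b2ed40ae5a2e436190b8541e0d01, 0, 32, 0x0, []⟩]

theorem t9_778_4 : jobs 8 S9 b8_778 j9_778_4 = true := by decide +kernel

noncomputable def j9_778_5 : List Job := [
  ⟨58, 0x6c162b259ad16ab65bae172ba5daf17abe5fd48a6542a960b25e2fd20924a259309a4e27d008242219108a4623c36190b8541e0d01, 0, 32, 0x0, []⟩]

theorem t9_778_5 : jobs 8 S9 b8_778 j9_778_5 = true := by decide +kernel

noncomputable def j9_778_6 : List Job := [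
  ⟨57, 0x548a6542a960b25e2fd20924a259309a4e27d008242219108a4623c36190b8541e0d01, 0, 32, 0x0, []⟩]

theorem t9_778_6 : jobs 8 S9 b8_778 j9_778_6 = true := by decide +kernel

noncomputable def j9_778_7 : List Job := [
  ⟨56, 0x6c162b259ad16ab65bae172ba5daf17abe5fd48a6542a960b25e2fc4826160b868361e0fc4022140a860321c0ec36190b8541e0d01, 0, 32, 0x0, []⟩]

theorem t9_778_7 : jobs 8 S9 b8_778 j9_778_7 = true := by decide +kernel

noncomputable def j9_778_8 : List Job := [
  ⟨55, 0x548a6542a960b25e2fc4826160b868361e0fc4022140a860321c0ec36190b8541e0d01, 0, 32, 0x0, []⟩]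

theorem t9_778_8 : jobs 8 S9 b8_778 j9_778_8 = true := by decide +kernel

noncomputable def j9_778_9 : List Job := [
  ⟨54, 0x6c162b259ad16ab65bae172ba5daf17abe5fd80c26231990ca66339a0d26a359b0da6e37d44ac5b2ed40ae5a2e520924a259309a4e27d008242219108a4623c4826160b868361e0fc4022140a860321c0ec36190b8541e0d01, 0, 32, 0x0, []⟩]

theorem t9_778_9 : jobs 8 S9 b8_778 j9_778_9 = true := by decide +kernel

noncomputable def j9_778_10 : List Job := [
  ⟨53, 0x580c26231990ca66339a0d26a359b0da6e37d44ac5a2e540ae5b2ed20924a259309a4e27d008242219108a4623c4826160b868361e0fc4022140a860321c0ec36190b8541e0d01, 0, 32, 0x0, []⟩]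

theorem t9_778_10 : jobs 8 S9 b8_778 j9_778_10 = true := by decide +kernel

noncomputable def j9_778_11 : List Job := [
  ⟨52, 0x548a6542a960b25e2fc4826160b868361e0fc4022140a860321c0ec36190b8541e0d01, 0, 32, 0x0, []⟩]

theorem t9_778_11 : jobs 8 S9 b8_778 j9_778_11 = true := by decide +kernel

noncomputable def j9_778_12 : List Job := [
  ⟨51, 0x6c162b259ad16ab65bae172ba5daf17abe5fd48a6542a960b25e2fc4826160b868361e0fc4022140a860321c0ec36190b8541e0d01, 0, 32, 0x0, []⟩]

theorem t9_778_12 : jobs 8 S9 b8_778 j9_778_12 = true := by decide +kernel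

noncomputable def j9_778_13 : List Job := [
  ⟨50, 0x580c26231990ca66339a0d26a359b0da6e37d44ac5b2ed40ae5a2e520924a259309a4e27d008242219108a4623c4826160b868361e0fc4022140a860321c0ec36190b8541e0d01, 0, 32, 0x0, []⟩]

theorem t9_778_13 : jobs 8 S9 b8_778 j9_778_13 = true := by decide +kernel

noncomputable def j9_778_14 : List Job := [
  ⟨49, 0x6c162b259ad16ab65bae172ba5daf17abe5fd80c26231990ca66339a0d26a359b0da6e37d44ac5a2e540ae5b2ed20924a259309a4e27d008242219108a4623c4826160b868361e0fc4022140a860321c0ec36190b8541e0d01, 0, 72, 0x8801, []⟩]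

theorem t9_778_14 : jobs 8 S9 b8_778 j9_778_14 = true := by decide +kernel

noncomputable def j9_778_15 : List Job := [
  ⟨48, 0x6c162b259ad16ab65bae172ba5daf17abe5fd80c26231990ca66339a0d26a359b0da6e37d48a6542a960b25e2fc4826160b868361e0fc4022140a860321c0ec36190b8541e0d01, 0, 32, 0x0, []⟩]

theorem t9_778_15 : jobs 8 S9 b8_778 j9_778_15 = true := by decide +kernel

noncomputable def j9_778_16 : List Job := [
  ⟨47, 0x580c26231990ca66339a0d26a359b0da6e37d48a6542a960b25e2fc4826160b868361e0fc4022140a860321c0ec36190b8541e0d01, 0, 32, 0x0, []⟩]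

theorem t9_778_16 : jobs 8 S9 b8_778 j9_778_16 = true := by decide +kernel

noncomputable def j9_778_17 : List Job := [
  ⟨46, 0x6c162b259ad16ab65bae172ba5daf17abe5fd44ac5a2e540ae5b2ed20924a259309a4e27d008242219108a4623c4826160b868361e0fc4022140a860321c0ec36190b8541e0d01, 0, 32, 0x0, []⟩]

theorem t9_778_17 : jobs 8 S9 b8_778 j9_778_17 = true := by decide +kernel

noncomputable def j9_778_18 : List Job := [
  ⟨45, 0x544ac5b2ed40ae5a2e520924a259309a4e27d008242219108a4623c4826160b868361e0fc4022140a860321c0ec36190b8541e0d01, 0, 32, 0x0, []⟩]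

theorem t9_778_18 : jobs 8 S9 b8_778 j9_778_18 = true := by decide +kernel

noncomputable def j9_778_19 : List Job := [
  ⟨44, 0x580c26231990ca66339a0d26a359b0da6e37d48a6542a960b25e2fc4826160b868361e0fc4022140a860321c0ec36190b8541e0d01, 0, 32, 0x0, []⟩]

theorem t9_778_19 : jobs 8 S9 b8_778 j9_778_19 = true := by decide +kernel

noncomputable def j9_778_20 : List Job := [
  ⟨43, 0x6c162b259ad16ab65bae172ba5daf17abe5fd80c26231990ca66339a0d26a359b0da6e37d48a6542a960b25e2fc4826160b868361e0fc4022140a860321c0ec36190b8541e0d01, 0, 32, 0x0, []⟩]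

theorem t9_778_20 : jobs 8 S9 b8_778 j9_778_20 = true := by decide +kernel

noncomputable def j9_778_21 : List Job := [
  ⟨42, 0x544ac5a2e540ae5b2ed20924a259309a4e27d008242219108a4623c4826160b868361e0fc4022140a860321c0ec36190b8541e0d01, 0, 32, 0x0, []⟩]

theorem t9_778_21 : jobs 8 S9 b8_778 j9_778_21 = true := by decide +kernel

noncomputable def j9_778_22 : List Job := [
  ⟨41, 0x6c162b259ad16ab65bae172ba5daf17abe5fd44ac5b2ed40ae5a2e520924a259309a4e27d008242219108a4623c4826160b868361e0fc4022140a860321c0ec36190b8541e0d01, 0, 32, 0x0, []⟩]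

theorem t9_778_22 : jobs 8 S9 b8_778 j9_778_22 = true := by decide +kernel

noncomputable def j9_778_23 : List Job := [
  ⟨40, 0x548a6542a960b25e2fc4022140a860321c0ec381f0d864080701, 0, 64, 0x0, []⟩]

theorem t9_778_23 : jobs 8 S9 b8_778 j9_778_23 = true := by decide +kernel

noncomputable def j9_778_24 : List Job := [
  ⟨39, 0x6c162b259ad16ab65bae172ba5daf17abe5fd80c26231990ca66339a0d26a359b0da6e37d40a2562b968b65c2ed20924a259309a4e27d008242219108a4623c4022140a860321c0ec381f0d864080701, 0, 72, 0x0, []⟩]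

theorem t9_778_24 : jobs 8 S9 b8_778 j9_778_24 = true := by decide +kernel

noncomputable def j9_778_25 : List Job := [
  ⟨38, 0x580c26231990ca66339a0d26a359b0da6e37d48a6542a960b25e2fc4022140a860321c0ec381f0d864080701, 0, 128, 0x0, []⟩]

theorem t9_778_25 : jobs 8 S9 b8_778 j9_778_25 = true := by decide +kernel

noncomputable def j9_778_26 : List Job := [
  ⟨37, 0x6c162b259ad16ab65bae172ba5daf17abe5fd80c26231990ca66339a0d26a359b0da6e37d48a6542a960b25e2fc4022140a860321c0ec381f0d864080701, 0, 64, 0x0, []⟩]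

theorem t9_778_26 : jobs 8 S9 b8_778 j9_778_26 = true := by decide +kernel

noncomputable def j9_778_27 : List Job := [
  ⟨36, 0x540a2562b968b65c2ed20924a259309a4e27d008242219108a4623c4022140a860321c0ec381f0d864080701, 0, 72, 0x0, []⟩]

theorem t9_778_27 : jobs 8 S9 b8_778 j9_778_27 = true := by decide +kernel

noncomputable def j9_778_28 : List Job := [
  ⟨35, 0x6c162b259ad16ab65bae172ba5daf17abe5fd40a2562b968b65c2ed20924a259309a4e27d008242219108a4623c4022140a860321c0ec381f0d864080701, 0, 128, 0x0, []⟩]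

theorem t9_778_28 : jobs 8 S9 b8_778 j9_778_28 = true := by decide +kernel

noncomputable def j9_778_29 : List Job := [
  ⟨7, 0x6c162b259ad16ab65bae172ba5daf17abe5fe01028241a110a8643a21128a45a311a8e47d50aa562b960b25a2dd40a25229970ba5e2fd20924a259309a4e27d008242219108a4623c4433100c4261101, 0, 6, 0x401000601, []⟩]

theorem t9_778_29 : jobs 8 S9 b8_778 j9_778_29 = true := by decide +kernel

noncomputable def j9_778_30 : List Job := [
  ⟨1, 0x6c162b259ad16ab65bae172ba5daf17abe5fe01028241a110a8643a21128a45a311a8e47d50aa562b960b25a2dd40a25229970ba5e2fd20924a259309a4e27d008242219108a4623c4433100c4261101, 0, 28, 0x210000610000c10001010001211001811002810002e10003011, []⟩]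

theorem t9_778_30 : jobs 8 S9 b8_778 j9_778_30 = true := by decide +kernel

theorem d9_778 : Dn 8 S9 b8_778 := dn_of (Js := j9_778_0 ++ (j9_778_1 ++ (j9_778_2 ++ (j9_778_3 ++ (j9_778_4 ++ (j9_778_5 ++ (j9_778_6 ++ (j9_778_7 ++ (j9_778_8 ++ (j9_778_9 ++ (j9_778_10 ++ (j9_778_11 ++ (j9_778_12 ++ (j9_778_13 ++ (j9_778_14 ++ (j9_778_15 ++ (j9_778_16 ++ (j9_778_17 ++ (j9_778_18 ++ (j9_778_19 ++ (j9_778_20 ++ (j9_778_21 ++ (j9_778_22 ++ (j9_778_23 ++ (j9_778_24 ++ (j9_778_25 ++ (j9_778_26 ++ (j9_778_27 ++ (j9_778_28 ++ (j9_778_29 ++ (j9_778_30 ++ [])))))))))))))))))))))))))))))))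
  (jobs_append t9_778_0 <| jobs_append t9_778_1 <| jobs_append t9_778_2 <| jobs_append t9_778_3 <| jobs_append t9_778_4 <| jobs_append t9_778_5 <| jobs_append t9_778_6 <| jobs_append t9_778_7 <| jobs_append t9_778_8 <| jobs_append t9_778_9 <| jobs_append t9_778_10 <| jobs_append t9_778_11 <| jobs_append t9_778_12 <| jobs_append t9_778_13 <| jobs_append t9_778_14 <| jobs_append t9_778_15 <| jobs_append t9_778_16 <| jobs_append t9_778_17 <| jobs_append t9_778_18 <| jobs_append t9_778_19 <| jobs_append t9_778_20 <| jobs_append t9_778_21 <| jobs_append t9_778_22 <| jobs_append t9_778_23 <| jobs_append t9_778_24 <| jobs_append t9_778_25 <| jobs_append t9_778_26 <| jobs_append t9_778_27 <| jobs_append t9_778_28 <| jobs_append t9_778_29 <| jobs_append t9_778_30 <| List.forall_mem_nil _) (by decide +kernel)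

noncomputable def j9_779_0 : List Job := [
  ⟨41, 0x6c162b259ad16ab65bae172ba5daf17abe5fdc0e272399d0ea763b9e0f27a3d9f0fa7e3fc442a190ec4028180e4361909844160901, 0, 32, 0x0, []⟩]

theorem t9_779_0 : jobs 8 S9 b8_779 j9_779_0 = true := by decide +kernel

noncomputable def j9_779_1 : List Job := [
  ⟨23, 0x621128a45a311a8e47e01028241a110a8643dc0e272399d0ea763b9e0f27a3d9f0fa7e3fc442a180e44028190ec361909844160901, 0, 4, 0x401, []⟩]

theorem t9_779_1 : jobs 8 S9 b8_779 j9_779_1 = true := by decide +kernel

noncomputable def j9_779_2 : List Job := [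
  ⟨9, 0x621128a45a311a8e47e01028241a110a8643dc0e272399d0ea763b9e0f27a3d9f0fa7e3fc442a190ec4028180e4361909844160901, 0, 32, 0x0, []⟩]

theorem t9_779_2 : jobs 8 S9 b8_779 j9_779_2 = true := by decide +kernel

noncomputable def j9_779_3 : List Job := [
  ⟨8, 0x544ac5b2ed40ae5a2e436190b8541e0d01, 0, 32, 0x0, []⟩]

theorem t9_779_3 : jobs 8 S9 b8_779 j9_779_3 = true := by decide +kernel

noncomputable def j9_779_4 : List Job := [
  ⟨7, 0x6c162b259ad16ab65bae172ba5daf17abe5fd44ac5a2e540ae5b2ec36190b8541e0d01, 0, 32, 0x0, []⟩]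

theorem t9_779_4 : jobs 8 S9 b8_779 j9_779_4 = true := by decide +kernel

noncomputable def j9_779_5 : List Job := [
  ⟨6, 0x580c26231990ca66339a0d26a359b0da6e37d48a6542a960b25e2fd20924a259309a4e27d008242219108a4623c36190b8541e0d01, 0, 32, 0x0, []⟩]

theorem t9_779_5 : jobs 8 S9 b8_779 j9_779_5 = true := by decide +kernel

noncomputable def j9_779_6 : List Job := [
  ⟨5, 0x6c162b259ad16ab65bae172ba5daf17abe5fd80c26231990ca66339a0d26a359b0da6e37d48a6542a960b25e2fd20924a259309a4e27d008242219108a4623c36190b8541e0d01, 0, 32, 0x0, []⟩]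

theorem t9_779_6 : jobs 8 S9 b8_779 j9_779_6 = true := by decide +kernel

noncomputable def j9_779_7 : List Job := [
  ⟨4, 0x6c162b259ad16ab65bae172ba5daf17abe5fd44ac5b2ed40ae5a2e436190b8541e0d01, 0, 32, 0x0, []⟩]

theorem t9_779_7 : jobs 8 S9 b8_779 j9_779_7 = true := by decide +kernel

noncomputable def j9_779_8 : List Job := [
  ⟨3, 0x544ac5a2e540ae5b2ec36190b8541e0d01, 0, 32, 0x0, []⟩]

theorem t9_779_8 : jobs 8 S9 b8_779 j9_779_8 = true := by decide +kernel

noncomputable def j9_779_9 : List Job := [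
  ⟨2, 0x6c162b259ad16ab65bae172ba5daf17abe5fd80c26231990ca66339a0d26a359b0da6e37d48a6542a960b25e2fd20924a259309a4e27d008242219108a4623c36190b8541e0d01, 0, 32, 0x0, []⟩]

theorem t9_779_9 : jobs 8 S9 b8_779 j9_779_9 = true := by decide +kernel

noncomputable def j9_779_10 : List Job := [
  ⟨1, 0x580c26231990ca66339a0d26a359b0da6e37d48a6542a960b25e2fd20924a259309a4e27d008242219108a4623c36190b8541e0d01, 0, 32, 0x0, []⟩]

theorem t9_779_10 : jobs 8 S9 b8_779 j9_779_10 = true := by decide +kernel

noncomputable def j9_779_11 : List Job := [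
  ⟨0, 0x580c26231990ca66339a0d26a359b0da6e37d44ac5a2e540ae5b2ec36190b8541e0d01, 0, 32, 0x0, []⟩]

theorem t9_779_11 : jobs 8 S9 b8_779 j9_779_11 = true := by decide +kernel

theorem d9_779 : Dn 8 S9 b8_779 := dn_of (Js := j9_779_0 ++ (j9_779_1 ++ (j9_779_2 ++ (j9_779_3 ++ (j9_779_4 ++ (j9_779_5 ++ (j9_779_6 ++ (j9_779_7 ++ (j9_779_8 ++ (j9_779_9 ++ (j9_779_10 ++ (j9_779_11 ++ []))))))))))))
  (jobs_append t9_779_0 <| jobs_append t9_779_1 <| jobs_append t9_779_2 <| jobs_append t9_779_3 <| jobs_append t9_779_4 <| jobs_append t9_779_5 <| jobs_append t9_779_6 <| jobs_append t9_779_7 <| jobs_append t9_779_8 <| jobs_append t9_779_9 <| jobs_append t9_779_10 <| jobs_append t9_779_11 <| List.forall_mem_nil _) (by decide +kernel)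

noncomputable def j9_780_0 : List Job := [
  ⟨51, 0x6c966b45aae172be5fec162b65bae976bc5ee01028241a110a8643a21128a45a311a8e47dc0e272399d0ea763b9e0f27a3d9f0fa7e3fc442a180e44028190ec361909844160901, 0, 4, 0x401, []⟩]

theorem t9_780_0 : jobs 8 S9 b8_780 j9_780_0 = true := by decide +kernel

noncomputable def j9_780_1 : List Job := [
  ⟨41, 0x6c966b45aae172be5fec162b65bae976bc5ee01028241a110a8643a21128a45a311a8e47dc0e272399d0ea763b9e0f27a3d9f0fa7e3fc442a190ec4028180e4361909844160901, 0, 32, 0x0, []⟩]

theorem t9_780_1 : jobs 8 S9 b8_780 j9_780_1 = true := by decide +kernel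

noncomputable def j9_780_2 : List Job := [
  ⟨14, 0x580c26231990ca66339a0d26a359b0da6e37d48a6542a960b25e2fd40a2562b968b65c2ed20924a259309a4e27d008242219108a4623c442a180e44028190ec361909844160901, 0, 4, 0x401, []⟩]

theorem t9_780_2 : jobs 8 S9 b8_780 j9_780_2 = true := by decide +kernel

noncomputable def j9_780_3 : List Job := [
  ⟨9, 0x580c26231990ca66339a0d26a359b0da6e37d48a6542a960b25e2fd40a2562b968b65c2ed20924a259309a4e27d008242219108a4623c442a190ec4028180e4361909844160901, 0, 32, 0x0, []⟩]

theorem t9_780_3 : jobs 8 S9 b8_780 j9_780_3 = true := by decide +kernel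

theorem d9_780 : Dn 8 S9 b8_780 := dn_of (Js := j9_780_0 ++ (j9_780_1 ++ (j9_780_2 ++ (j9_780_3 ++ []))))
  (jobs_append t9_780_0 <| jobs_append t9_780_1 <| jobs_append t9_780_2 <| jobs_append t9_780_3 <| List.forall_mem_nil _) (by decide +kernel)

noncomputable def j9_781_0 : List Job := [
  ⟨53, 0x540a25229950aa562b960b25a2d970ba5e2fd008242219108a4623920924a259309a4e27c361909844160901, 0, 16, 0x0, []⟩]

theorem t9_781_0 : jobs 8 S9 b8_781 j9_781_0 = true := by decide +kernel

noncomputable def j9_781_1 : List Job := [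
  ⟨41, 0x6c162b259ad16ab65bae172ba5daf17abe5fe01028241a110a8643a21128a45a311a8e47d40a25229950aa562b960b25a2d970ba5e2fd008242219108a4623920924a259309a4e27c361909844160901, 0, 12, 0x0, []⟩]

theorem t9_781_1 : jobs 8 S9 b8_781 j9_781_1 = true := by decide +kernel

noncomputable def j9_781_2 : List Job := [
  ⟨9, 0x5c0e272399d0ea763b9e0f27a3d9f0fa7e3fc442a190ec4028180e4361909844160901, 0, 32, 0x0, []⟩]

theorem t9_781_2 : jobs 8 S9 b8_781 j9_781_2 = true := by decide +kernel

theorem d9_781 : Dn 8 S9 b8_781 := dn_of (Js := j9_781_0 ++ (j9_781_1 ++ (j9_781_2 ++ [])))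
  (jobs_append t9_781_0 <| jobs_append t9_781_1 <| jobs_append t9_781_2 <| List.forall_mem_nil _) (by decide +kernel)

noncomputable def j9_782_0 : List Job := [
  ⟨49, 0x5c0e272399d0ea763b9e0f27a3d9f0fa7e3fd80c26231990ca66339a0d26a359b0da6e37d20924a259309a4e27d008242219108a4623c361909844160901, 0, 32, 0x0, []⟩]

theorem t9_782_0 : jobs 8 S9 b8_782 j9_782_0 = true := by decide +kernel

noncomputable def j9_782_1 : List Job := [
  ⟨35, 0x601028241a110a8643a21128a45a311a8e47c361909844160901, 0, 14, 0x0, []⟩]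

theorem t9_782_1 : jobs 8 S9 b8_782 j9_782_1 = true := by decide +kernel

noncomputable def j9_782_2 : List Job := [
  ⟨25, 0x601028241a110a8643a21128a45a311a8e47dc0e272399d0ea763b9e0f27a3d9f0fa7e3fd80c26231990ca66339a0d26a359b0da6e37d40a25229950aa562b960b25a2d970ba5e2fd008242219108a4623920924a259309a4e27c361909844160901, 0, 10, 0x0, []⟩]

theorem t9_782_2 : jobs 8 S9 b8_782 j9_782_2 = true := by decide +kernel

noncomputable def j9_782_3 : List Job := [
  ⟨5, 0x601028241a110a8643a21128a45a311a8e47d40a25229950aa562b960b25a2d970ba5e2fd008242219108a4623920924a259309a4e27c361909844160901, 0, 20, 0x0, []⟩]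

theorem t9_782_3 : jobs 8 S9 b8_782 j9_782_3 = true := by decide +kernel

theorem d9_782 : Dn 8 S9 b8_782 := dn_of (Js := j9_782_0 ++ (j9_782_1 ++ (j9_782_2 ++ (j9_782_3 ++ []))))
  (jobs_append t9_782_0 <| jobs_append t9_782_1 <| jobs_append t9_782_2 <| jobs_append t9_782_3 <| List.forall_mem_nil _) (by decide +kernel)

noncomputable def j9_783_0 : List Job := [
  ⟨49, 0x548a6542a960b25e2fd40a2562b968b65c2ec361909844160901, 0, 32, 0x0, []⟩]

theorem t9_783_0 : jobs 8 S9 b8_783 j9_783_0 = true := by decide +kernel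

noncomputable def j9_783_1 : List Job := [
  ⟨25, 0x6c162b259ad16ab65bae172ba5daf17abe5fe21128a45a311a8e47e01028241a110a8643d48a6542a960b25e2fd40a2562b968b65c2ec361909844160901, 0, 2, 0x201, []⟩]

theorem t9_783_1 : jobs 8 S9 b8_783 j9_783_1 = true := by decide +kernel

noncomputable def j9_783_2 : List Job := [
  ⟨17, 0x6c162b259ad16ab65bae172ba5daf17abe5fe21128a45a311a8e47e01028241a110a8643d48a6542a960b25e2fd40a2562b968b65c2ec361909844160901, 0, 32, 0x0, []⟩]

theorem t9_783_2 : jobs 8 S9 b8_783 j9_783_2 = true := by decide +kernel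

theorem d9_783 : Dn 8 S9 b8_783 := dn_of (Js := j9_783_0 ++ (j9_783_1 ++ (j9_783_2 ++ [])))
  (jobs_append t9_783_0 <| jobs_append t9_783_1 <| jobs_append t9_783_2 <| List.forall_mem_nil _) (by decide +kernel)

noncomputable def j9_784_0 : List Job := [
  ⟨63, 0x5c0e272399d0ea763b9e0f27a3d9f0fa7e3fd80c26231990ca66339a0d26a359b0da6e37c361909844160901, 0, 32, 0x0, []⟩]

theorem t9_784_0 : jobs 8 S9 b8_784 j9_784_0 = true := by decide +kernel

noncomputable def j9_784_1 : List Job := [
  ⟨62, 0x6c966b45aae172be5fec162b65bae976bc5ed20924a259309a4e27d008242219108a4623c361909844160901, 0, 32, 0x0, []⟩]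

theorem t9_784_1 : jobs 8 S9 b8_784 j9_784_1 = true := by decide +kernel

noncomputable def j9_784_2 : List Job := [
  ⟨61, 0x520924a259309a4e27d008242219108a4623c361909844160901, 0, 32, 0x0, []⟩]

theorem t9_784_2 : jobs 8 S9 b8_784 j9_784_2 = true := by decide +kernel

noncomputable def j9_784_3 : List Job := [
  ⟨60, 0x5c0e272399d0ea763b9e0f27a3d9f0fa7e3fd80c26231990ca66339a0d26a359b0da6e37c361909844160901, 0, 32, 0x0, []⟩]

theorem t9_784_3 : jobs 8 S9 b8_784 j9_784_3 = true := by decide +kernel

noncomputable def j9_784_4 : List Job := [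
  ⟨59, 0x6c966b45aae172be5fec162b65bae976bc5edc0e272399d0ea763b9e0f27a3d9f0fa7e3fd80c26231990ca66339a0d26a359b0da6e37c361909844160901, 0, 32, 0x0, []⟩]

theorem t9_784_4 : jobs 8 S9 b8_784 j9_784_4 = true := by decide +kernel

noncomputable def j9_784_5 : List Job := [
  ⟨58, 0x520924a259309a4e27d008242219108a4623c361909844160901, 0, 32, 0x0, []⟩]

theorem t9_784_5 : jobs 8 S9 b8_784 j9_784_5 = true := by decide +kernel

noncomputable def j9_784_6 : List Job := [
  ⟨57, 0x6c966b45aae172be5fec162b65bae976bc5ed20924a259309a4e27d008242219108a4623c361909844160901, 0, 32, 0x0, []⟩]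

theorem t9_784_6 : jobs 8 S9 b8_784 j9_784_6 = true := by decide +kernel

noncomputable def j9_784_7 : List Job := [
  ⟨56, 0x6c966b45aae172be5fec162b65bae976bc5ec361909844160901, 0, 32, 0x0, []⟩]

theorem t9_784_7 : jobs 8 S9 b8_784 j9_784_7 = true := by decide +kernel

noncomputable def j9_784_8 : List Job := [
  ⟨55, 0x4361909844160901, 0, 32, 0x0, []⟩]

theorem t9_784_8 : jobs 8 S9 b8_784 j9_784_8 = true := by decide +kernel

noncomputable def j9_784_9 : List Job := [
  ⟨54, 0x6c966b45aae172be5fec162b65bae976bc5edc0e272399d0ea763b9e0f27a3d9f0fa7e3fd80c26231990ca66339a0d26a359b0da6e37d20924a259309a4e27d008242219108a4623c361909844160901, 0, 32, 0x0, []⟩]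

theorem t9_784_9 : jobs 8 S9 b8_784 j9_784_9 = true := by decide +kernel

noncomputable def j9_784_10 : List Job := [
  ⟨53, 0x5c0e272399d0ea763b9e0f27a3d9f0fa7e3fd80c26231990ca66339a0d26a359b0da6e37d20924a259309a4e27d008242219108a4623c361909844160901, 0, 32, 0x0, []⟩]

theorem t9_784_10 : jobs 8 S9 b8_784 j9_784_10 = true := by decide +kernel

noncomputable def j9_784_11 : List Job := [
  ⟨52, 0x4361909844160901, 0, 32, 0x0, []⟩]

theorem t9_784_11 : jobs 8 S9 b8_784 j9_784_11 = true := by decide +kernel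

noncomputable def j9_784_12 : List Job := [
  ⟨51, 0x6c966b45aae172be5fec162b65bae976bc5ec361909844160901, 0, 32, 0x0, []⟩]

theorem t9_784_12 : jobs 8 S9 b8_784 j9_784_12 = true := by decide +kernel

noncomputable def j9_784_13 : List Job := [
  ⟨50, 0x5c0e272399d0ea763b9e0f27a3d9f0fa7e3fd80c26231990ca66339a0d26a359b0da6e37d20924a259309a4e27d008242219108a4623c361909844160901, 0, 32, 0x0, []⟩]

theorem t9_784_13 : jobs 8 S9 b8_784 j9_784_13 = true := by decide +kernel

noncomputable def j9_784_14 : List Job := [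
  ⟨49, 0x6c966b45aae172be5fec162b65bae976bc5edc0e272399d0ea763b9e0f27a3d9f0fa7e3fd80c26231990ca66339a0d26a359b0da6e37d20924a259309a4e27d008242219108a4623c361909844160901, 0, 72, 0x8408008808008a09008e09, []⟩]

theorem t9_784_14 : jobs 8 S9 b8_784 j9_784_14 = true := by decide +kernel

noncomputable def j9_784_15 : List Job := [
  ⟨17, 0x601028241a110a8643a21128a45a311a8e47dc0e272399d0ea763b9e0f27a3d9f0fa7e3fd80c26231990ca66339a0d26a359b0da6e37d108a46239309a4e27d00824221920924a25c361909844160901, 0, 32, 0x0, []⟩]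

theorem t9_784_15 : jobs 8 S9 b8_784 j9_784_15 = true := by decide +kernel

theorem d9_784 : Dn 8 S9 b8_784 := dn_of (Js := j9_784_0 ++ (j9_784_1 ++ (j9_784_2 ++ (j9_784_3 ++ (j9_784_4 ++ (j9_784_5 ++ (j9_784_6 ++ (j9_784_7 ++ (j9_784_8 ++ (j9_784_9 ++ (j9_784_10 ++ (j9_784_11 ++ (j9_784_12 ++ (j9_784_13 ++ (j9_784_14 ++ (j9_784_15 ++ []))))))))))))))))
  (jobs_append t9_784_0 <| jobs_append t9_784_1 <| jobs_append t9_784_2 <| jobs_append t9_784_3 <| jobs_append t9_784_4 <| jobs_append t9_784_5 <| jobs_append t9_784_6 <| jobs_append t9_784_7 <| jobs_append t9_784_8 <| jobs_append t9_784_9 <| jobs_append t9_784_10 <| jobs_append t9_784_11 <| jobs_append t9_784_12 <| jobs_append t9_784_13 <| jobs_append t9_784_14 <| jobs_append t9_784_15 <| List.forall_mem_nil _) (by decide +kernel)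

noncomputable def j9_785_0 : List Job := [
  ⟨57, 0x601028241a110a8643a21128a45a311a8e47d48a6542a960b25e2fd40a2562b968b65c2ec361909844160901, 0, 32, 0x0, []⟩]

theorem t9_785_0 : jobs 8 S9 b8_785 j9_785_0 = true := by decide +kernel

noncomputable def j9_785_1 : List Job := [
  ⟨56, 0x6c966b45aae172be5fec162b65bae976bc5ed20924a259309a4e27c381f0a05c160901, 0, 128, 0x0, []⟩]

theorem t9_785_1 : jobs 8 S9 b8_785 j9_785_1 = true := by decide +kernel

noncomputable def j9_785_2 : List Job := [
  ⟨55, 0x520924a259309a4e27c381f0a05c160901, 0, 128, 0x0, []⟩]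

theorem t9_785_2 : jobs 8 S9 b8_785 j9_785_2 = true := by decide +kernel

noncomputable def j9_785_3 : List Job := [
  ⟨54, 0x6c966b45aae172be5fec162b65bae976bc5edc0e272399d0ea763b9e0f27a3d9f0fa7e3fd80c26231990ca66339a0d26a359b0da6e37d008242219108a4623c381f0a05c160901, 0, 128, 0x0, []⟩]

theorem t9_785_3 : jobs 8 S9 b8_785 j9_785_3 = true := by decide +kernel

noncomputable def j9_785_4 : List Job := [
  ⟨53, 0x5c0e272399d0ea763b9e0f27a3d9f0fa7e3fd80c26231990ca66339a0d26a359b0da6e37d008242219108a4623c381f0a05c160901, 0, 128, 0x0, []⟩]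

theorem t9_785_4 : jobs 8 S9 b8_785 j9_785_4 = true := by decide +kernel

noncomputable def j9_785_5 : List Job := [
  ⟨52, 0x6c966b45aae172be5fec162b65bae976bc5edc0e272399d0ea763b9e0f27a3d9f0fa7e3fd20924a259309a4e27c381f0a05c160901, 0, 128, 0x0, []⟩]

theorem t9_785_5 : jobs 8 S9 b8_785 j9_785_5 = true := by decide +kernel

noncomputable def j9_785_6 : List Job := [
  ⟨51, 0x5c0e272399d0ea763b9e0f27a3d9f0fa7e3fd20924a259309a4e27c381f0a05c160901, 0, 128, 0x0, []⟩]

theorem t9_785_6 : jobs 8 S9 b8_785 j9_785_6 = true := by decide +kernel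

noncomputable def j9_785_7 : List Job := [
  ⟨50, 0x6c966b45aae172be5fec162b65bae976bc5ed80c26231990ca66339a0d26a359b0da6e37d008242219108a4623c381f0a05c160901, 0, 128, 0x0, []⟩]

theorem t9_785_7 : jobs 8 S9 b8_785 j9_785_7 = true := by decide +kernel

noncomputable def j9_785_8 : List Job := [
  ⟨49, 0x580c26231990ca66339a0d26a359b0da6e37d008242219108a4623c381f0a05c160901, 0, 128, 0x0, []⟩]

theorem t9_785_8 : jobs 8 S9 b8_785 j9_785_8 = true := by decide +kernel

noncomputable def j9_785_9 : List Job := [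
  ⟨48, 0x6c966b45aae172be5fec162b65bae976bc5ed80c26231990ca66339a0d26a359b0da6e37d20924a259309a4e27c1e0d058240e0501, 0, 32, 0x0, []⟩]

theorem t9_785_9 : jobs 8 S9 b8_785 j9_785_9 = true := by decide +kernel

noncomputable def j9_785_10 : List Job := [
  ⟨47, 0x580c26231990ca66339a0d26a359b0da6e37d20924a259309a4e27c1e0d058240e0501, 0, 32, 0x0, []⟩]

theorem t9_785_10 : jobs 8 S9 b8_785 j9_785_10 = true := by decide +kernel

noncomputable def j9_785_11 : List Job := [
  ⟨46, 0x6c966b45aae172be5fec162b65bae976bc5edc0e272399d0ea763b9e0f27a3d9f0fa7e3fd008242219108a4623c1e0d058240e0501, 0, 32, 0x0, []⟩]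

theorem t9_785_11 : jobs 8 S9 b8_785 j9_785_11 = true := by decide +kernel

noncomputable def j9_785_12 : List Job := [
  ⟨45, 0x5c0e272399d0ea763b9e0f27a3d9f0fa7e3fd008242219108a4623c1e0d058240e0501, 0, 32, 0x0, []⟩]

theorem t9_785_12 : jobs 8 S9 b8_785 j9_785_12 = true := by decide +kernel

noncomputable def j9_785_13 : List Job := [
  ⟨44, 0x5c0e272399d0ea763b9e0f27a3d9f0fa7e3fd20924a259309a4e27c1e0d058240e0501, 0, 32, 0x0, []⟩]

theorem t9_785_13 : jobs 8 S9 b8_785 j9_785_13 = true := by decide +kernel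

noncomputable def j9_785_14 : List Job := [
  ⟨43, 0x6c966b45aae172be5fec162b65bae976bc5edc0e272399d0ea763b9e0f27a3d9f0fa7e3fd20924a259309a4e27c1e0d058240e0501, 0, 32, 0x0, []⟩]

theorem t9_785_14 : jobs 8 S9 b8_785 j9_785_14 = true := by decide +kernel

noncomputable def j9_785_15 : List Job := [
  ⟨42, 0x580c26231990ca66339a0d26a359b0da6e37d008242219108a4623c1e0d058240e0501, 0, 32, 0x0, []⟩]

theorem t9_785_15 : jobs 8 S9 b8_785 j9_785_15 = true := by decide +kernel

noncomputable def j9_785_16 : List Job := [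
  ⟨41, 0x6c966b45aae172be5fec162b65bae976bc5ed80c26231990ca66339a0d26a359b0da6e37d008242219108a4623c1e0d058240e0501, 0, 32, 0x0, []⟩]

theorem t9_785_16 : jobs 8 S9 b8_785 j9_785_16 = true := by decide +kernel

noncomputable def j9_785_17 : List Job := [
  ⟨40, 0x6c966b45aae172be5fec162b65bae976bc5edc0e272399d0ea763b9e0f27a3d9f0fa7e3fd80c26231990ca66339a0d26a359b0da6e37d24964d27d20944c2741e0d058240e0501, 0, 32, 0x0, []⟩]

theorem t9_785_17 : jobs 8 S9 b8_785 j9_785_17 = true := by decide +kernel

noncomputable def j9_785_18 : List Job := [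
  ⟨39, 0x5c0e272399d0ea763b9e0f27a3d9f0fa7e3fd80c26231990ca66339a0d26a359b0da6e37d24964d27d20944c2741e0d058240e0501, 0, 32, 0x0, []⟩]

theorem t9_785_18 : jobs 8 S9 b8_785 j9_785_18 = true := by decide +kernel

noncomputable def j9_785_19 : List Job := [
  ⟨38, 0x6c966b45aae172be5fec162b65bae976bc5ed04864423500844523c1e0d058240e0501, 0, 32, 0x0, []⟩]

theorem t9_785_19 : jobs 8 S9 b8_785 j9_785_19 = true := by decide +kernel

noncomputable def j9_785_20 : List Job := [
  ⟨37, 0x504864423500844523c1e0d058240e0501, 0, 32, 0x0, []⟩]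

theorem t9_785_20 : jobs 8 S9 b8_785 j9_785_20 = true := by decide +kernel

noncomputable def j9_785_21 : List Job := [
  ⟨36, 0x524964c27520944d27c1e0d058240e0501, 0, 32, 0x0, []⟩]

theorem t9_785_21 : jobs 8 S9 b8_785 j9_785_21 = true := by decide +kernel

noncomputable def j9_785_22 : List Job := [
  ⟨35, 0x6c966b45aae172be5fec162b65bae976bc5ed24964c27520944d27c1e0d058240e0501, 0, 32, 0x0, []⟩]

theorem t9_785_22 : jobs 8 S9 b8_785 j9_785_22 = true := by decide +kernel

noncomputable def j9_785_23 : List Job := [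
  ⟨34, 0x5c0e272399d0ea763b9e0f27a3d9f0fa7e3fd80c26231990ca66339a0d26a359b0da6e37d04864523d0084442341e0d058240e0501, 0, 32, 0x0, []⟩]

theorem t9_785_23 : jobs 8 S9 b8_785 j9_785_23 = true := by decide +kernel

noncomputable def j9_785_24 : List Job := [
  ⟨33, 0x6c966b45aae172be5fec162b65bae976bc5edc0e272399d0ea763b9e0f27a3d9f0fa7e3fd80c26231990ca66339a0d26a359b0da6e37d04864523d0084442341e0d058240e0501, 0, 72, 0x8408008808008a09008e09, []⟩]

theorem t9_785_24 : jobs 8 S9 b8_785 j9_785_24 = true := by decide +kernel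

noncomputable def j9_785_25 : List Job := [
  ⟨32, 0x5c0e272399d0ea763b9e0f27a3d9f0fa7e3fd80c26231990ca66339a0d26a359b0da6e37d20924a259309a4e27c1e0d058240e0501, 0, 32, 0x0, []⟩]

theorem t9_785_25 : jobs 8 S9 b8_785 j9_785_25 = true := by decide +kernel

noncomputable def j9_785_26 : List Job := [
  ⟨31, 0x6c966b45aae172be5fec162b65bae976bc5edc0e272399d0ea763b9e0f27a3d9f0fa7e3fd80c26231990ca66339a0d26a359b0da6e37d20924a259309a4e27c1e0d058240e0501, 0, 32, 0x0, []⟩]

theorem t9_785_26 : jobs 8 S9 b8_785 j9_785_26 = true := by decide +kernel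

noncomputable def j9_785_27 : List Job := [
  ⟨30, 0x5008242219108a4623c1e0d058240e0501, 0, 32, 0x0, []⟩]

theorem t9_785_27 : jobs 8 S9 b8_785 j9_785_27 = true := by decide +kernel

noncomputable def j9_785_28 : List Job := [
  ⟨29, 0x6c966b45aae172be5fec162b65bae976bc5ed008242219108a4623c1e0d058240e0501, 0, 32, 0x0, []⟩]

theorem t9_785_28 : jobs 8 S9 b8_785 j9_785_28 = true := by decide +kernel

noncomputable def j9_785_29 : List Job := [
  ⟨28, 0x6c966b45aae172be5fec162b65bae976bc5ed20924a259309a4e27c1e0d058240e0501, 0, 32, 0x0, []⟩]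

theorem t9_785_29 : jobs 8 S9 b8_785 j9_785_29 = true := by decide +kernel

noncomputable def j9_785_30 : List Job := [
  ⟨27, 0x520924a259309a4e27c1e0d058240e0501, 0, 32, 0x0, []⟩]

theorem t9_785_30 : jobs 8 S9 b8_785 j9_785_30 = true := by decide +kernel

noncomputable def j9_785_31 : List Job := [
  ⟨26, 0x6c966b45aae172be5fec162b65bae976bc5edc0e272399d0ea763b9e0f27a3d9f0fa7e3fd80c26231990ca66339a0d26a359b0da6e37d008242219108a4623c1e0d058240e0501, 0, 32, 0x0, []⟩]

theorem t9_785_31 : jobs 8 S9 b8_785 j9_785_31 = true := by decide +kernel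

noncomputable def j9_785_32 : List Job := [
  ⟨25, 0x5c0e272399d0ea763b9e0f27a3d9f0fa7e3fd80c26231990ca66339a0d26a359b0da6e37d008242219108a4623c1e0d058240e0501, 0, 32, 0x0, []⟩]

theorem t9_785_32 : jobs 8 S9 b8_785 j9_785_32 = true := by decide +kernel

noncomputable def j9_785_33 : List Job := [
  ⟨24, 0x580c26231990ca66339a0d26a359b0da6e37d24964d27d20944c2741e0d058240e0501, 0, 32, 0x0, []⟩]

theorem t9_785_33 : jobs 8 S9 b8_785 j9_785_33 = true := by decide +kernel

noncomputable def j9_785_34 : List Job := [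
  ⟨23, 0x6c966b45aae172be5fec162b65bae976bc5ed80c26231990ca66339a0d26a359b0da6e37d24964d27d20944c2741e0d058240e0501, 0, 32, 0x0, []⟩]

theorem t9_785_34 : jobs 8 S9 b8_785 j9_785_34 = true := by decide +kernel

noncomputable def j9_785_35 : List Job := [
  ⟨22, 0x5c0e272399d0ea763b9e0f27a3d9f0fa7e3fd04864423500844523c1e0d058240e0501, 0, 32, 0x0, []⟩]

theorem t9_785_35 : jobs 8 S9 b8_785 j9_785_35 = true := by decide +kernel

noncomputable def j9_785_36 : List Job := [
  ⟨21, 0x6c966b45aae172be5fec162b65bae976bc5edc0e272399d0ea763b9e0f27a3d9f0fa7e3fd04864423500844523c1e0d058240e0501, 0, 32, 0x0, []⟩]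

theorem t9_785_36 : jobs 8 S9 b8_785 j9_785_36 = true := by decide +kernel

noncomputable def j9_785_37 : List Job := [
  ⟨20, 0x6c966b45aae172be5fec162b65bae976bc5edc0e272399d0ea763b9e0f27a3d9f0fa7e3fd24964c27520944d27c1e0d058240e0501, 0, 32, 0x0, []⟩]

theorem t9_785_37 : jobs 8 S9 b8_785 j9_785_37 = true := by decide +kernel

noncomputable def j9_785_38 : List Job := [
  ⟨19, 0x5c0e272399d0ea763b9e0f27a3d9f0fa7e3fd24964c27520944d27c1e0d058240e0501, 0, 32, 0x0, []⟩]

theorem t9_785_38 : jobs 8 S9 b8_785 j9_785_38 = true := by decide +kernel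

noncomputable def j9_785_39 : List Job := [
  ⟨18, 0x6c966b45aae172be5fec162b65bae976bc5ed80c26231990ca66339a0d26a359b0da6e37d04864523d0084442341e0d058240e0501, 0, 32, 0x0, []⟩]

theorem t9_785_39 : jobs 8 S9 b8_785 j9_785_39 = true := by decide +kernel

noncomputable def j9_785_40 : List Job := [
  ⟨17, 0x580c26231990ca66339a0d26a359b0da6e37d04864523d0084442341e0d058240e0501, 0, 32, 0x0, []⟩]

theorem t9_785_40 : jobs 8 S9 b8_785 j9_785_40 = true := by decide +kernel

noncomputable def j9_785_41 : List Job := [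
  ⟨16, 0x6c966b45aae172be5fec162b65bae976bc5ed80c26231990ca66339a0d26a359b0da6e37c361909844160901, 0, 32, 0x0, []⟩]

theorem t9_785_41 : jobs 8 S9 b8_785 j9_785_41 = true := by decide +kernel

noncomputable def j9_785_42 : List Job := [
  ⟨15, 0x580c26231990ca66339a0d26a359b0da6e37c361909844160901, 0, 32, 0x0, []⟩]

theorem t9_785_42 : jobs 8 S9 b8_785 j9_785_42 = true := by decide +kernel

noncomputable def j9_785_43 : List Job := [
  ⟨14, 0x6c966b45aae172be5fec162b65bae976bc5edc0e272399d0ea763b9e0f27a3d9f0fa7e3fd20924a259309a4e27d008242219108a4623c361909844160901, 0, 32, 0x0, []⟩]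

theorem t9_785_43 : jobs 8 S9 b8_785 j9_785_43 = true := by decide +kernel

noncomputable def j9_785_44 : List Job := [
  ⟨13, 0x5c0e272399d0ea763b9e0f27a3d9f0fa7e3fd20924a259309a4e27d008242219108a4623c361909844160901, 0, 32, 0x0, []⟩]

theorem t9_785_44 : jobs 8 S9 b8_785 j9_785_44 = true := by decide +kernel

noncomputable def j9_785_45 : List Job := [
  ⟨12, 0x580c26231990ca66339a0d26a359b0da6e37c361909844160901, 0, 32, 0x0, []⟩]

theorem t9_785_45 : jobs 8 S9 b8_785 j9_785_45 = true := by decide +kernel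

noncomputable def j9_785_46 : List Job := [
  ⟨11, 0x6c966b45aae172be5fec162b65bae976bc5ed80c26231990ca66339a0d26a359b0da6e37c361909844160901, 0, 32, 0x0, []⟩]

theorem t9_785_46 : jobs 8 S9 b8_785 j9_785_46 = true := by decide +kernel

noncomputable def j9_785_47 : List Job := [
  ⟨10, 0x5c0e272399d0ea763b9e0f27a3d9f0fa7e3fd20924a259309a4e27d008242219108a4623c361909844160901, 0, 32, 0x0, []⟩]

theorem t9_785_47 : jobs 8 S9 b8_785 j9_785_47 = true := by decide +kernel

noncomputable def j9_785_48 : List Job := [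
  ⟨9, 0x6c966b45aae172be5fec162b65bae976bc5edc0e272399d0ea763b9e0f27a3d9f0fa7e3fd20924a259309a4e27d008242219108a4623c361909844160901, 0, 32, 0x0, []⟩]

theorem t9_785_48 : jobs 8 S9 b8_785 j9_785_48 = true := by decide +kernel

noncomputable def j9_785_49 : List Job := [
  ⟨8, 0x6c966b45aae172be5fec162b65bae976bc5edc0e272399d0ea763b9e0f27a3d9f0fa7e3fc361909844160901, 0, 32, 0x0, []⟩]

theorem t9_785_49 : jobs 8 S9 b8_785 j9_785_49 = true := by decide +kernel

noncomputable def j9_785_50 : List Job := [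
  ⟨7, 0x5c0e272399d0ea763b9e0f27a3d9f0fa7e3fc361909844160901, 0, 32, 0x0, []⟩]

theorem t9_785_50 : jobs 8 S9 b8_785 j9_785_50 = true := by decide +kernel

noncomputable def j9_785_51 : List Job := [
  ⟨6, 0x6c966b45aae172be5fec162b65bae976bc5ed80c26231990ca66339a0d26a359b0da6e37d20924a259309a4e27d008242219108a4623c361909844160901, 0, 32, 0x0, []⟩]

theorem t9_785_51 : jobs 8 S9 b8_785 j9_785_51 = true := by decide +kernel

noncomputable def j9_785_52 : List Job := [
  ⟨5, 0x580c26231990ca66339a0d26a359b0da6e37d20924a259309a4e27d008242219108a4623c361909844160901, 0, 32, 0x0, []⟩]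

theorem t9_785_52 : jobs 8 S9 b8_785 j9_785_52 = true := by decide +kernel

noncomputable def j9_785_53 : List Job := [
  ⟨4, 0x5c0e272399d0ea763b9e0f27a3d9f0fa7e3fc361909844160901, 0, 32, 0x0, []⟩]

theorem t9_785_53 : jobs 8 S9 b8_785 j9_785_53 = true := by decide +kernel

noncomputable def j9_785_54 : List Job := [
  ⟨3, 0x6c966b45aae172be5fec162b65bae976bc5edc0e272399d0ea763b9e0f27a3d9f0fa7e3fc361909844160901, 0, 32, 0x0, []⟩]

theorem t9_785_54 : jobs 8 S9 b8_785 j9_785_54 = true := by decide +kernel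

noncomputable def j9_785_55 : List Job := [
  ⟨2, 0x580c26231990ca66339a0d26a359b0da6e37d20924a259309a4e27d008242219108a4623c361909844160901, 0, 32, 0x0, []⟩]

theorem t9_785_55 : jobs 8 S9 b8_785 j9_785_55 = true := by decide +kernel

noncomputable def j9_785_56 : List Job := [
  ⟨1, 0x6c966b45aae172be5fec162b65bae976bc5ed80c26231990ca66339a0d26a359b0da6e37d20924a259309a4e27d008242219108a4623c361909844160901, 0, 32, 0x0, []⟩]

theorem t9_785_56 : jobs 8 S9 b8_785 j9_785_56 = true := by decide +kernel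

noncomputable def j9_785_57 : List Job := [
  ⟨0, 0x6c966b45aae172be5fec162b65bae976bc5edc0e272399d0ea763b9e0f27a3d9f0fa7e3fd80c26231990ca66339a0d26a359b0da6e37c361909844160901, 0, 32, 0x0, []⟩]

theorem t9_785_57 : jobs 8 S9 b8_785 j9_785_57 = true := by decide +kernel

theorem d9_785 : Dn 8 S9 b8_785 := dn_of (Js := j9_785_0 ++ (j9_785_1 ++ (j9_785_2 ++ (j9_785_3 ++ (j9_785_4 ++ (j9_785_5 ++ (j9_785_6 ++ (j9_785_7 ++ (j9_785_8 ++ (j9_785_9 ++ (j9_785_10 ++ (j9_785_11 ++ (j9_785_12 ++ (j9_785_13 ++ (j9_785_14 ++ (j9_785_15 ++ (j9_785_16 ++ (j9_785_17 ++ (j9_785_18 ++ (j9_785_19 ++ (j9_785_20 ++ (j9_785_21 ++ (j9_785_22 ++ (j9_785_23 ++ (j9_785_24 ++ (j9_785_25 ++ (j9_785_26 ++ (j9_785_27 ++ (j9_785_28 ++ (j9_785_29 ++ (j9_785_30 ++ (j9_785_31 ++ (j9_785_32 ++ (j9_785_33 ++ (j9_785_34 ++ (j9_785_35 ++ (j9_785_36 ++ (j9_785_37 ++ (j9_785_38 ++ (j9_785_39 ++ (j9_785_40 ++ (j9_785_41 ++ (j9_785_42 ++ (j9_785_43 ++ (j9_785_44 ++ (j9_785_45 ++ (j9_785_46 ++ (j9_785_47 ++ (j9_785_48 ++ (j9_785_49 ++ (j9_785_50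 ++ (j9_785_51 ++ (j9_785_52 ++ (j9_785_53 ++ (j9_785_54 ++ (j9_785_55 ++ (j9_785_56 ++ (j9_785_57 ++ []))))))))))))))))))))))))))))))))))))))))))))))))))))))))))
  (jobs_append t9_785_0 <| jobs_append t9_785_1 <| jobs_append t9_785_2 <| jobs_append t9_785_3 <| jobs_append t9_785_4 <| jobs_append t9_785_5 <| jobs_append t9_785_6 <| jobs_append t9_785_7 <| jobs_append t9_785_8 <| jobs_append t9_785_9 <| jobs_append t9_785_10 <| jobs_append t9_785_11 <| jobs_append t9_785_12 <| jobs_append t9_785_13 <| jobs_append t9_785_14 <| jobs_append t9_785_15 <| jobs_append t9_785_16 <| jobs_append t9_785_17 <| jobs_append t9_785_18 <| jobs_append t9_785_19 <| jobs_append t9_785_20 <| jobs_append t9_785_21 <| jobs_append t9_785_22 <| jobs_append t9_785_23 <| jobs_append t9_785_24 <| jobs_append t9_785_25 <| jobs_append t9_785_26 <| jobs_append t9_785_27 <| jobs_append t9_785_28 <| jobs_append t9_785_29 <| jobs_append t9_785_30 <| jobs_append t9_785_31 <| jobs_append t9_785_32 <| jobs_append t9_785_33 <| jobs_append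 t9_785_34 <| jobs_append t9_785_35 <| jobs_append t9_785_36 <| jobs_append t9_785_37 <| jobs_append t9_785_38 <| jobs_append t9_785_39 <| jobs_append t9_785_40 <| jobs_append t9_785_41 <| jobs_append t9_785_42 <| jobs_append t9_785_43 <| jobs_append t9_785_44 <| jobs_append t9_785_45 <| jobs_append t9_785_46 <| jobs_append t9_785_47 <| jobs_append t9_785_48 <| jobs_append t9_785_49 <| jobs_append t9_785_50 <| jobs_append t9_785_51 <| jobs_append t9_785_52 <| jobs_append t9_785_53 <| jobs_append t9_785_54 <| jobs_append t9_785_55 <| jobs_append t9_785_56 <| jobs_append t9_785_57 <| List.forall_mem_nil _) (by decide +kernel)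

noncomputable def j9_786_0 : List Job := [
  ⟨57, 0x6c162b259ad16ab65bae172ba5daf17abe5fe01028241a110a8643a21128a45a311a8e47dc0e272399d0ea763b9e0f27a3d9f0fa7e3fd80c26231990ca66339a0d26a359b0da6e37d40a25229950aa562b960b25a2d970ba5e2fd008242219108a4623920924a259309a4e27c4433100c4261101, 0, 21, 0x0, []⟩]

theorem t9_786_0 : jobs 8 S9 b8_786 j9_786_0 = true := by decide +kernel

noncomputable def j9_786_1 : List Job := [
  ⟨33, 0x6c966b45aae172be5fec162b65bae976bc5ed48a6542a960b25e2fd40a2562b968b65c2ec361909844160901, 0, 2, 0x201000400, [(1, ⟨2308, 0x10e014800100047400060104000400404020001, 0x18d210802e020202402⟩)]⟩]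

theorem t9_786_1 : jobs 8 S9 b8_786 j9_786_1 = true := by decide +kernel

noncomputable def j9_786_2 : List Job := [
  ⟨25, 0x6c966b45aae172be5fec162b65bae976bc5ed48a6542a960b25e2fd40a2562b968b65c2ec361909844160901, 0, 32, 0x0, []⟩]

theorem t9_786_2 : jobs 8 S9 b8_786 j9_786_2 = true := by decide +kernel

theorem d9_786 : Dn 8 S9 b8_786 := dn_of (Js := j9_786_0 ++ (j9_786_1 ++ (j9_786_2 ++ [])))
  (jobs_append t9_786_0 <| jobs_append t9_786_1 <| jobs_append t9_786_2 <| List.forall_mem_nil _) (by decide +kernel)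

noncomputable def j9_787_0 : List Job := [
  ⟨52, 0x6c162b259ad16ab65bae172ba5daf17abe5fc442a190ec4028180e4361909844160901, 0, 32, 0x0, []⟩]

theorem t9_787_0 : jobs 8 S9 b8_787 j9_787_0 = true := by decide +kernel

noncomputable def j9_787_1 : List Job := [
  ⟨51, 0x609068643a29168e47c40221209860321a0dc381f09844180f01, 0, 72, 0x0, []⟩]

theorem t9_787_1 : jobs 8 S9 b8_787 j9_787_1 = true := by decide +kernel

noncomputable def j9_787_2 : List Job := [
  ⟨50, 0x601028442a21128c46c40221209860321a0dc381f09844180f01, 0, 64, 0x0, []⟩]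

theorem t9_787_2 : jobs 8 S9 b8_787 j9_787_2 = true := by decide +kernel

noncomputable def j9_787_3 : List Job := [
  ⟨49, 0x609068643a29168e47c40221209860321a0dc381f09844180f01, 0, 64, 0x0, []⟩]

theorem t9_787_3 : jobs 8 S9 b8_787 j9_787_3 = true := by decide +kernel

noncomputable def j9_787_4 : List Job := [
  ⟨48, 0x601028442a21128c46c40221209860321a0dc381f09844180f01, 0, 128, 0x0, []⟩]

theorem t9_787_4 : jobs 8 S9 b8_787 j9_787_4 = true := by decide +kernel

noncomputable def j9_787_5 : List Job := [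
  ⟨47, 0x609068643a29168e47c40221209860321a0dc381f09844180f01, 0, 128, 0x0, []⟩]

theorem t9_787_5 : jobs 8 S9 b8_787 j9_787_5 = true := by decide +kernel

noncomputable def j9_787_6 : List Job := [
  ⟨46, 0x601028442a21128c46c40221209860321a0dc381f09844180f01, 0, 72, 0x0, []⟩]

theorem t9_787_6 : jobs 8 S9 b8_787 j9_787_6 = true := by decide +kernel

noncomputable def j9_787_7 : List Job := [
  ⟨45, 0x440221209860321a0dc2e15098440e0501, 0, 32, 0x0, []⟩]

theorem t9_787_7 : jobs 8 S9 b8_787 j9_787_7 = true := by decide +kernel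

noncomputable def j9_787_8 : List Job := [
  ⟨44, 0x609068643a29168e47e01028442a21128c46c40221209860321a0dc2e15098440e0501, 0, 32, 0x0, []⟩]

theorem t9_787_8 : jobs 8 S9 b8_787 j9_787_8 = true := by decide +kernel

noncomputable def j9_787_9 : List Job := [
  ⟨43, 0x440221209860321a0dc2e15098440e0501, 0, 32, 0x0, []⟩]

theorem t9_787_9 : jobs 8 S9 b8_787 j9_787_9 = true := by decide +kernel

noncomputable def j9_787_10 : List Job := [
  ⟨42, 0x609068643a29168e47e01028442a21128c46c40221209860321a0dc2e15098440e0501, 0, 32, 0x0, []⟩]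

theorem t9_787_10 : jobs 8 S9 b8_787 j9_787_10 = true := by decide +kernel

noncomputable def j9_787_11 : List Job := [
  ⟨41, 0x440221209860321a0dc2e15098440e0501, 0, 32, 0x0, []⟩]

theorem t9_787_11 : jobs 8 S9 b8_787 j9_787_11 = true := by decide +kernel

noncomputable def j9_787_12 : List Job := [
  ⟨40, 0x609068643a29168e47e01028442a21128c46c40221209860321a0dc2e15098440e0501, 0, 32, 0x0, []⟩]

theorem t9_787_12 : jobs 8 S9 b8_787 j9_787_12 = true := by decide +kernel

noncomputable def j9_787_13 : List Job := [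
  ⟨39, 0x440221209860321a0dc2e15098440e0501, 0, 32, 0x0, []⟩]

theorem t9_787_13 : jobs 8 S9 b8_787 j9_787_13 = true := by decide +kernel

noncomputable def j9_787_14 : List Job := [
  ⟨38, 0x609068643a29168e47e01028442a21128c46c40221209860321a0dc2e15098440e0501, 0, 32, 0x0, []⟩]

theorem t9_787_14 : jobs 8 S9 b8_787 j9_787_14 = true := by decide +kernel

noncomputable def j9_787_15 : List Job := [
  ⟨37, 0x440221209860321a0dc2e15098440e0501, 0, 32, 0x0, []⟩]

theorem t9_787_15 : jobs 8 S9 b8_787 j9_787_15 = true := by decide +kernel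

noncomputable def j9_787_16 : List Job := [
  ⟨36, 0x609068643a29168e47e01028442a21128c46c40221209860321a0dc2e15098440e0501, 0, 32, 0x0, []⟩]

theorem t9_787_16 : jobs 8 S9 b8_787 j9_787_16 = true := by decide +kernel

noncomputable def j9_787_17 : List Job := [
  ⟨35, 0x440221209860321a0dc2e15098440e0501, 0, 32, 0x0, []⟩]

theorem t9_787_17 : jobs 8 S9 b8_787 j9_787_17 = true := by decide +kernel

noncomputable def j9_787_18 : List Job := [
  ⟨34, 0x609068643a29168e47e01028442a21128c46c40221209860321a0dc2e15098440e0501, 0, 32, 0x0, []⟩]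

theorem t9_787_18 : jobs 8 S9 b8_787 j9_787_18 = true := by decide +kernel

noncomputable def j9_787_19 : List Job := [
  ⟨33, 0x440221209860321a0dc2e15098440e0501, 0, 32, 0x0, []⟩]

theorem t9_787_19 : jobs 8 S9 b8_787 j9_787_19 = true := by decide +kernel

noncomputable def j9_787_20 : List Job := [
  ⟨32, 0x609068643a29168e47e01028442a21128c46c40221209860321a0dc2e15098440e0501, 0, 32, 0x0, []⟩]

theorem t9_787_20 : jobs 8 S9 b8_787 j9_787_20 = true := by decide +kernel

noncomputable def j9_787_21 : List Job := [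
  ⟨31, 0x440221209860321a0dc2e15098440e0501, 0, 32, 0x0, []⟩]

theorem t9_787_21 : jobs 8 S9 b8_787 j9_787_21 = true := by decide +kernel

noncomputable def j9_787_22 : List Job := [
  ⟨30, 0x609068643a29168e47e01028442a21128c46c40221209860321a0dc2e15098440e0501, 0, 32, 0x0, []⟩]

theorem t9_787_22 : jobs 8 S9 b8_787 j9_787_22 = true := by decide +kernel

noncomputable def j9_787_23 : List Job := [
  ⟨29, 0x44426180d44024190dc2e15098440e0501, 0, 32, 0x0, []⟩]

theorem t9_787_23 : jobs 8 S9 b8_787 j9_787_23 = true := by decide +kernel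

noncomputable def j9_787_24 : List Job := [
  ⟨28, 0x609068643a29168e47e01028442a21128c46c4426180d44024190dc2e15098440e0501, 0, 32, 0x0, []⟩]

theorem t9_787_24 : jobs 8 S9 b8_787 j9_787_24 = true := by decide +kernel

noncomputable def j9_787_25 : List Job := [
  ⟨27, 0x44426190dc4024180d42e15098440e0501, 0, 32, 0x0, []⟩]

theorem t9_787_25 : jobs 8 S9 b8_787 j9_787_25 = true := by decide +kernel

noncomputable def j9_787_26 : List Job := [
  ⟨26, 0x609068643a29168e47e01028442a21128c46c4426190dc4024180d42e15098440e0501, 0, 32, 0x0, []⟩]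

theorem t9_787_26 : jobs 8 S9 b8_787 j9_787_26 = true := by decide +kernel

noncomputable def j9_787_27 : List Job := [
  ⟨25, 0x44426180d44024190dc2e15098440e0501, 0, 32, 0x0, []⟩]

theorem t9_787_27 : jobs 8 S9 b8_787 j9_787_27 = true := by decide +kernel

noncomputable def j9_787_28 : List Job := [
  ⟨24, 0x609068643a29168e47e01028442a21128c46c4426180d44024190dc2e15098440e0501, 0, 32, 0x0, []⟩]

theorem t9_787_28 : jobs 8 S9 b8_787 j9_787_28 = true := by decide +kernel

noncomputable def j9_787_29 : List Job := [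
  ⟨23, 0x44426190dc4024180d42e15098440e0501, 0, 32, 0x0, []⟩]

theorem t9_787_29 : jobs 8 S9 b8_787 j9_787_29 = true := by decide +kernel

noncomputable def j9_787_30 : List Job := [
  ⟨22, 0x609068643a29168e47e01028442a21128c46c4426190dc4024180d42e15098440e0501, 0, 32, 0x0, []⟩]

theorem t9_787_30 : jobs 8 S9 b8_787 j9_787_30 = true := by decide +kernel

noncomputable def j9_787_31 : List Job := [
  ⟨21, 0x44426180d44024190dc2e15098440e0501, 0, 32, 0x0, []⟩]

theorem t9_787_31 : jobs 8 S9 b8_787 j9_787_31 = true := by decide +kernel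

noncomputable def j9_787_32 : List Job := [
  ⟨20, 0x609068643a29168e47e01028442a21128c46c4426180d44024190dc2e15098440e0501, 0, 32, 0x0, []⟩]

theorem t9_787_32 : jobs 8 S9 b8_787 j9_787_32 = true := by decide +kernel

noncomputable def j9_787_33 : List Job := [
  ⟨19, 0x44426190dc4024180d42e15098440e0501, 0, 32, 0x0, []⟩]

theorem t9_787_33 : jobs 8 S9 b8_787 j9_787_33 = true := by decide +kernel

noncomputable def j9_787_34 : List Job := [
  ⟨18, 0x609068643a29168e47e01028442a21128c46c4426190dc4024180d42e15098440e0501, 0, 32, 0x0, []⟩]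

theorem t9_787_34 : jobs 8 S9 b8_787 j9_787_34 = true := by decide +kernel

noncomputable def j9_787_35 : List Job := [
  ⟨17, 0x44426180d44024190dc2e15098440e0501, 0, 32, 0x0, []⟩]

theorem t9_787_35 : jobs 8 S9 b8_787 j9_787_35 = true := by decide +kernel

noncomputable def j9_787_36 : List Job := [
  ⟨16, 0x609068643a29168e47e01028442a21128c46c4426180d44024190dc2e15098440e0501, 0, 32, 0x0, []⟩]

theorem t9_787_36 : jobs 8 S9 b8_787 j9_787_36 = true := by decide +kernel

noncomputable def j9_787_37 : List Job := [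
  ⟨15, 0x44426190dc4024180d42e15098440e0501, 0, 32, 0x0, []⟩]

theorem t9_787_37 : jobs 8 S9 b8_787 j9_787_37 = true := by decide +kernel

noncomputable def j9_787_38 : List Job := [
  ⟨14, 0x609068643a29168e47e01028442a21128c46c4426190dc4024180d42e15098440e0501, 0, 72, 0x8201008401008601008801008a01008c01008e01009001, []⟩]

theorem t9_787_38 : jobs 8 S9 b8_787 j9_787_38 = true := by decide +kernel

theorem d9_787 : Dn 8 S9 b8_787 := dn_of (Js := j9_787_0 ++ (j9_787_1 ++ (j9_787_2 ++ (j9_787_3 ++ (j9_787_4 ++ (j9_787_5 ++ (j9_787_6 ++ (j9_787_7 ++ (j9_787_8 ++ (j9_787_9 ++ (j9_787_10 ++ (j9_787_11 ++ (j9_787_12 ++ (j9_787_13 ++ (j9_787_14 ++ (j9_787_15 ++ (j9_787_16 ++ (j9_787_17 ++ (j9_787_18 ++ (j9_787_19 ++ (j9_787_20 ++ (j9_787_21 ++ (j9_787_22 ++ (j9_787_23 ++ (j9_787_24 ++ (j9_787_25 ++ (j9_787_26 ++ (j9_787_27 ++ (j9_787_28 ++ (j9_787_29 ++ (j9_787_30 ++ (j9_787_31 ++ (j9_787_32 ++ (j9_787_33 ++ (j9_787_34 ++ (j9_787_35 ++ (j9_787_36 ++ (j9_787_37 ++ (j9_787_38 ++ [])))))))))))))))))))))))))))))))))))))))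
  (jobs_append t9_787_0 <| jobs_append t9_787_1 <| jobs_append t9_787_2 <| jobs_append t9_787_3 <| jobs_append t9_787_4 <| jobs_append t9_787_5 <| jobs_append t9_787_6 <| jobs_append t9_787_7 <| jobs_append t9_787_8 <| jobs_append t9_787_9 <| jobs_append t9_787_10 <| jobs_append t9_787_11 <| jobs_append t9_787_12 <| jobs_append t9_787_13 <| jobs_append t9_787_14 <| jobs_append t9_787_15 <| jobs_append t9_787_16 <| jobs_append t9_787_17 <| jobs_append t9_787_18 <| jobs_append t9_787_19 <| jobs_append t9_787_20 <| jobs_append t9_787_21 <| jobs_append t9_787_22 <| jobs_append t9_787_23 <| jobs_append t9_787_24 <| jobs_append t9_787_25 <| jobs_append t9_787_26 <| jobs_append t9_787_27 <| jobs_append t9_787_28 <| jobs_append t9_787_29 <| jobs_append t9_787_30 <| jobs_append t9_787_31 <| jobs_append t9_787_32 <| jobs_append t9_787_33 <| jobs_append t9_787_34 <| jobs_append t9_787_35 <| jobs_append t9_787_36 <| jobs_append t9_787_37 <| jobs_append t9_787_38 <| List.forall_mem_nil _) (by decide +kernel)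

noncomputable def j9_788_0 : List Job := [
  ⟨63, 0x44826160b868361e0fc4022140a860321c0ec3e1d0b854160901, 0, 32, 0x0, []⟩]

theorem t9_788_0 : jobs 8 S9 b8_788 j9_788_0 = true := by decide +kernel

noncomputable def j9_788_1 : List Job := [
  ⟨62, 0x6c162b259ad16ab65bae172ba5daf17abe5fc4826160b868361e0fc4022140a860321c0ec3e1d0b854160901, 0, 32, 0x0, []⟩]

theorem t9_788_1 : jobs 8 S9 b8_788 j9_788_1 = true := by decide +kernel

noncomputable def j9_788_2 : List Job := [
  ⟨61, 0x44826160b868361e0fc4022140a860321c0ec3e1d0b854160901, 0, 32, 0x0, []⟩]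

theorem t9_788_2 : jobs 8 S9 b8_788 j9_788_2 = true := by decide +kernel

noncomputable def j9_788_3 : List Job := [
  ⟨60, 0x6c162b259ad16ab65bae172ba5daf17abe5fc4826160b868361e0fc4022140a860321c0ec3e1d0b854160901, 0, 32, 0x0, []⟩]

theorem t9_788_3 : jobs 8 S9 b8_788 j9_788_3 = true := by decide +kernel

noncomputable def j9_788_4 : List Job := [
  ⟨59, 0x44022140a860321c0ec180f05824080701, 0, 128, 0x0, []⟩]

theorem t9_788_4 : jobs 8 S9 b8_788 j9_788_4 = true := by decide +kernel

noncomputable def j9_788_5 : List Job := [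
  ⟨58, 0x6c162b259ad16ab65bae172ba5daf17abe5fc4022140a860321c0ec180f05824080701, 0, 128, 0x0, []⟩]

theorem t9_788_5 : jobs 8 S9 b8_788 j9_788_5 = true := by decide +kernel

noncomputable def j9_788_6 : List Job := [
  ⟨57, 0x44022140a860321c0ec180f05824080701, 0, 128, 0x0, []⟩]

theorem t9_788_6 : jobs 8 S9 b8_788 j9_788_6 = true := by decide +kernel

noncomputable def j9_788_7 : List Job := [
  ⟨56, 0x6c162b259ad16ab65bae172ba5daf17abe5fc4022140a860321c0ec180f05824080701, 0, 128, 0x0, []⟩]

theorem t9_788_7 : jobs 8 S9 b8_788 j9_788_7 = true := by decide +kernel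

noncomputable def j9_788_8 : List Job := [
  ⟨55, 0x44022140a860321c0ec180f05824080701, 0, 128, 0x0, []⟩]

theorem t9_788_8 : jobs 8 S9 b8_788 j9_788_8 = true := by decide +kernel

noncomputable def j9_788_9 : List Job := [
  ⟨54, 0x6c162b259ad16ab65bae172ba5daf17abe5fc4022140a860321c0ec180f05824080701, 0, 128, 0x0, []⟩]

theorem t9_788_9 : jobs 8 S9 b8_788 j9_788_9 = true := by decide +kernel

noncomputable def j9_788_10 : List Job := [
  ⟨53, 0x44022140a860321c0ec180f05824080701, 0, 128, 0x0, []⟩]

theorem t9_788_10 : jobs 8 S9 b8_788 j9_788_10 = true := by decide +kernel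

noncomputable def j9_788_11 : List Job := [
  ⟨52, 0x6c162b259ad16ab65bae172ba5daf17abe5fc4022140a860321c0ec180f05824080701, 0, 128, 0x0, []⟩]

theorem t9_788_11 : jobs 8 S9 b8_788 j9_788_11 = true := by decide +kernel

noncomputable def j9_788_12 : List Job := [
  ⟨24, 0x621128a45a311a8e47e01028241a110a8643c442a190ec4028180e4361909844160901, 0, 2, 0x201000401, []⟩]

theorem t9_788_12 : jobs 8 S9 b8_788 j9_788_12 = true := by decide +kernel

noncomputable def j9_788_13 : List Job := [
  ⟨20, 0x621128a45a311a8e47e01028241a110a8643c442a190ec4028180e4361909844160901, 0, 32, 0x0, []⟩]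

theorem t9_788_13 : jobs 8 S9 b8_788 j9_788_13 = true := by decide +kernel

theorem d9_788 : Dn 8 S9 b8_788 := dn_of (Js := j9_788_0 ++ (j9_788_1 ++ (j9_788_2 ++ (j9_788_3 ++ (j9_788_4 ++ (j9_788_5 ++ (j9_788_6 ++ (j9_788_7 ++ (j9_788_8 ++ (j9_788_9 ++ (j9_788_10 ++ (j9_788_11 ++ (j9_788_12 ++ (j9_788_13 ++ []))))))))))))))
  (jobs_append t9_788_0 <| jobs_append t9_788_1 <| jobs_append t9_788_2 <| jobs_append t9_788_3 <| jobs_append t9_788_4 <| jobs_append t9_788_5 <| jobs_append t9_788_6 <| jobs_append t9_788_7 <| jobs_append t9_788_8 <| jobs_append t9_788_9 <| jobs_append t9_788_10 <| jobs_append t9_788_11 <| jobs_append t9_788_12 <| jobs_append t9_788_13 <| List.forall_mem_nil _) (by decide +kernel)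

noncomputable def j9_789_0 : List Job := [
  ⟨63, 0x44426180d44024190dc2e15098440e0501, 0, 32, 0x0, []⟩]

theorem t9_789_0 : jobs 8 S9 b8_789 j9_789_0 = true := by decide +kernel

noncomputable def j9_789_1 : List Job := [
  ⟨62, 0x6c966b45aae172be5fec162b65bae976bc5ee01028241a110a8643a21128a45a311a8e47c4426180d44024190dc2e15098440e0501, 0, 32, 0x0, []⟩]

theorem t9_789_1 : jobs 8 S9 b8_789 j9_789_1 = true := by decide +kernel

noncomputable def j9_789_2 : List Job := [
  ⟨61, 0x44426190dc4024180d42e15098440e0501, 0, 32, 0x0, []⟩]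

theorem t9_789_2 : jobs 8 S9 b8_789 j9_789_2 = true := by decide +kernel

noncomputable def j9_789_3 : List Job := [
  ⟨60, 0x6c966b45aae172be5fec162b65bae976bc5ee01028241a110a8643a21128a45a311a8e47c4426190dc4024180d42e15098440e0501, 0, 72, 0x8410008610008a10009010, []⟩]

theorem t9_789_3 : jobs 8 S9 b8_789 j9_789_3 = true := by decide +kernel

noncomputable def j9_789_4 : List Job := [
  ⟨59, 0x6c162b259ad16ab65bae172ba5daf17abe5fc4022140a860321c0ec361909844160901, 0, 32, 0x0, []⟩]

theorem t9_789_4 : jobs 8 S9 b8_789 j9_789_4 = true := by decide +kernel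

noncomputable def j9_789_5 : List Job := [
  ⟨58, 0x44022140a860321c0ec361909844160901, 0, 32, 0x0, []⟩]

theorem t9_789_5 : jobs 8 S9 b8_789 j9_789_5 = true := by decide +kernel

noncomputable def j9_789_6 : List Job := [
  ⟨57, 0x6c162b259ad16ab65bae172ba5daf17abe5fc4022140a860321c0ec361909844160901, 0, 32, 0x0, []⟩]

theorem t9_789_6 : jobs 8 S9 b8_789 j9_789_6 = true := by decide +kernel

noncomputable def j9_789_7 : List Job := [
  ⟨56, 0x44022140a860321c0ec361909844160901, 0, 32, 0x0, []⟩]

theorem t9_789_7 : jobs 8 S9 b8_789 j9_789_7 = true := by decide +kernel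

noncomputable def j9_789_8 : List Job := [
  ⟨55, 0x44022140a860321c0ec361909844160901, 0, 32, 0x0, []⟩]

theorem t9_789_8 : jobs 8 S9 b8_789 j9_789_8 = true := by decide +kernel

noncomputable def j9_789_9 : List Job := [
  ⟨54, 0x6c162b259ad16ab65bae172ba5daf17abe5fc4022140a860321c0ec361909844160901, 0, 32, 0x0, []⟩]

theorem t9_789_9 : jobs 8 S9 b8_789 j9_789_9 = true := by decide +kernel

noncomputable def j9_789_10 : List Job := [
  ⟨53, 0x44022140a860321c0ec361909844160901, 0, 32, 0x0, []⟩]

theorem t9_789_10 : jobs 8 S9 b8_789 j9_789_10 = true := by decide +kernel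

noncomputable def j9_789_11 : List Job := [
  ⟨52, 0x6c162b259ad16ab65bae172ba5daf17abe5fc4022140a860321c0ec361909844160901, 0, 32, 0x0, []⟩]

theorem t9_789_11 : jobs 8 S9 b8_789 j9_789_11 = true := by decide +kernel

noncomputable def j9_789_12 : List Job := [
  ⟨51, 0x6c162b259ad16ab65bae172ba5daf17abe5fc4022140a860321c0ec361909844160901, 0, 32, 0x0, []⟩]

theorem t9_789_12 : jobs 8 S9 b8_789 j9_789_12 = true := by decide +kernel

noncomputable def j9_789_13 : List Job := [
  ⟨50, 0x44022140a860321c0ec361909844160901, 0, 32, 0x0, []⟩]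

theorem t9_789_13 : jobs 8 S9 b8_789 j9_789_13 = true := by decide +kernel

noncomputable def j9_789_14 : List Job := [
  ⟨49, 0x6c162b259ad16ab65bae172ba5daf17abe5fc4022140a860321c0ec361909844160901, 0, 32, 0x0, []⟩]

theorem t9_789_14 : jobs 8 S9 b8_789 j9_789_14 = true := by decide +kernel

noncomputable def j9_789_15 : List Job := [
  ⟨48, 0x44022140a860321c0ec361909844160901, 0, 32, 0x0, []⟩]

theorem t9_789_15 : jobs 8 S9 b8_789 j9_789_15 = true := by decide +kernel

noncomputable def j9_789_16 : List Job := [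
  ⟨47, 0x44022140a860321c0ec361909844160901, 0, 32, 0x0, []⟩]

theorem t9_789_16 : jobs 8 S9 b8_789 j9_789_16 = true := by decide +kernel

noncomputable def j9_789_17 : List Job := [
  ⟨46, 0x6c162b259ad16ab65bae172ba5daf17abe5fc4022140a860321c0ec361909844160901, 0, 32, 0x0, []⟩]

theorem t9_789_17 : jobs 8 S9 b8_789 j9_789_17 = true := by decide +kernel

noncomputable def j9_789_18 : List Job := [
  ⟨45, 0x44022140a860321c0ec361909844160901, 0, 32, 0x0, []⟩]

theorem t9_789_18 : jobs 8 S9 b8_789 j9_789_18 = true := by decide +kernel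

noncomputable def j9_789_19 : List Job := [
  ⟨44, 0x6c162b259ad16ab65bae172ba5daf17abe5fc4022140a860321c0ec361909844160901, 0, 32, 0x0, []⟩]

theorem t9_789_19 : jobs 8 S9 b8_789 j9_789_19 = true := by decide +kernel

noncomputable def j9_789_20 : List Job := [
  ⟨43, 0x6c162b259ad16ab65bae172ba5daf17abe5fc4428180ec402a190e4361909844160901, 0, 32, 0x0, []⟩]

theorem t9_789_20 : jobs 8 S9 b8_789 j9_789_20 = true := by decide +kernel

noncomputable def j9_789_21 : List Job := [
  ⟨42, 0x44428190e4402a180ec361909844160901, 0, 32, 0x0, []⟩]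

theorem t9_789_21 : jobs 8 S9 b8_789 j9_789_21 = true := by decide +kernel

noncomputable def j9_789_22 : List Job := [
  ⟨41, 0x6c162b259ad16ab65bae172ba5daf17abe5fc442a180e44028190ec361909844160901, 0, 32, 0x0, []⟩]

theorem t9_789_22 : jobs 8 S9 b8_789 j9_789_22 = true := by decide +kernel

noncomputable def j9_789_23 : List Job := [
  ⟨40, 0x4442a190ec4028180e4361909844160901, 0, 32, 0x0, []⟩]

theorem t9_789_23 : jobs 8 S9 b8_789 j9_789_23 = true := by decide +kernel

noncomputable def j9_789_24 : List Job := [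
  ⟨39, 0x44428180ec402a190e4361909844160901, 0, 32, 0x0, []⟩]

theorem t9_789_24 : jobs 8 S9 b8_789 j9_789_24 = true := by decide +kernel

noncomputable def j9_789_25 : List Job := [
  ⟨38, 0x6c162b259ad16ab65bae172ba5daf17abe5fc4428190e4402a180ec361909844160901, 0, 32, 0x0, []⟩]

theorem t9_789_25 : jobs 8 S9 b8_789 j9_789_25 = true := by decide +kernel

noncomputable def j9_789_26 : List Job := [
  ⟨37, 0x4442a180e44028190ec361909844160901, 0, 32, 0x0, []⟩]

theorem t9_789_26 : jobs 8 S9 b8_789 j9_789_26 = true := by decide +kernel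

noncomputable def j9_789_27 : List Job := [
  ⟨36, 0x6c162b259ad16ab65bae172ba5daf17abe5fc442a190ec4028180e4361909844160901, 0, 32, 0x0, []⟩]

theorem t9_789_27 : jobs 8 S9 b8_789 j9_789_27 = true := by decide +kernel

noncomputable def j9_789_28 : List Job := [
  ⟨35, 0x6c162b259ad16ab65bae172ba5daf17abe5fc4428180ec402a190e4361909844160901, 0, 32, 0x0, []⟩]

theorem t9_789_28 : jobs 8 S9 b8_789 j9_789_28 = true := by decide +kernel

noncomputable def j9_789_29 : List Job := [
  ⟨34, 0x44428190e4402a180ec361909844160901, 0, 32, 0x0, []⟩]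

theorem t9_789_29 : jobs 8 S9 b8_789 j9_789_29 = true := by decide +kernel

noncomputable def j9_789_30 : List Job := [
  ⟨33, 0x6c162b259ad16ab65bae172ba5daf17abe5fc442a180e44028190ec361909844160901, 0, 32, 0x0, []⟩]

theorem t9_789_30 : jobs 8 S9 b8_789 j9_789_30 = true := by decide +kernel

noncomputable def j9_789_31 : List Job := [
  ⟨32, 0x4442a190ec4028180e4361909844160901, 0, 32, 0x0, []⟩]

theorem t9_789_31 : jobs 8 S9 b8_789 j9_789_31 = true := by decide +kernel

noncomputable def j9_789_32 : List Job := [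
  ⟨31, 0x44428180ec402a190e4361909844160901, 0, 32, 0x0, []⟩]

theorem t9_789_32 : jobs 8 S9 b8_789 j9_789_32 = true := by decide +kernel

noncomputable def j9_789_33 : List Job := [
  ⟨30, 0x6c162b259ad16ab65bae172ba5daf17abe5fc4428190e4402a180ec361909844160901, 0, 32, 0x0, []⟩]

theorem t9_789_33 : jobs 8 S9 b8_789 j9_789_33 = true := by decide +kernel

noncomputable def j9_789_34 : List Job := [
  ⟨29, 0x4442a180e44028190ec361909844160901, 0, 32, 0x0, []⟩]

theorem t9_789_34 : jobs 8 S9 b8_789 j9_789_34 = true := by decide +kernel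

noncomputable def j9_789_35 : List Job := [
  ⟨28, 0x6c162b259ad16ab65bae172ba5daf17abe5fc442a190ec4028180e4361909844160901, 0, 72, 0x4201004801004c01004e01, []⟩]

theorem t9_789_35 : jobs 8 S9 b8_789 j9_789_35 = true := by decide +kernel

noncomputable def j9_789_36 : List Job := [
  ⟨27, 0x43e1d0b854160901, 0, 32, 0x0, []⟩]

theorem t9_789_36 : jobs 8 S9 b8_789 j9_789_36 = true := by decide +kernel

noncomputable def j9_789_37 : List Job := [
  ⟨26, 0x6c162b259ad16ab65bae172ba5daf17abe5fc3e1d0b854160901, 0, 32, 0x0, []⟩]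

theorem t9_789_37 : jobs 8 S9 b8_789 j9_789_37 = true := by decide +kernel

noncomputable def j9_789_38 : List Job := [
  ⟨25, 0x43e1d0b854160901, 0, 32, 0x0, []⟩]

theorem t9_789_38 : jobs 8 S9 b8_789 j9_789_38 = true := by decide +kernel

noncomputable def j9_789_39 : List Job := [
  ⟨24, 0x6c162b259ad16ab65bae172ba5daf17abe5fc3e1d0b854160901, 0, 32, 0x0, []⟩]

theorem t9_789_39 : jobs 8 S9 b8_789 j9_789_39 = true := by decide +kernel

noncomputable def j9_789_40 : List Job := [
  ⟨23, 0x6c162b259ad16ab65bae172ba5daf17abe5fc3e1d0b854160901, 0, 32, 0x0, []⟩]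

theorem t9_789_40 : jobs 8 S9 b8_789 j9_789_40 = true := by decide +kernel

noncomputable def j9_789_41 : List Job := [
  ⟨22, 0x43e1d0b854160901, 0, 32, 0x0, []⟩]

theorem t9_789_41 : jobs 8 S9 b8_789 j9_789_41 = true := by decide +kernel

noncomputable def j9_789_42 : List Job := [
  ⟨21, 0x6c162b259ad16ab65bae172ba5daf17abe5fc3e1d0b854160901, 0, 32, 0x0, []⟩]

theorem t9_789_42 : jobs 8 S9 b8_789 j9_789_42 = true := by decide +kernel

noncomputable def j9_789_43 : List Job := [
  ⟨20, 0x43e1d0b854160901, 0, 32, 0x0, []⟩]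

theorem t9_789_43 : jobs 8 S9 b8_789 j9_789_43 = true := by decide +kernel

noncomputable def j9_789_44 : List Job := [
  ⟨19, 0x43e1d0b854160901, 0, 32, 0x0, []⟩]

theorem t9_789_44 : jobs 8 S9 b8_789 j9_789_44 = true := by decide +kernel

noncomputable def j9_789_45 : List Job := [
  ⟨18, 0x6c162b259ad16ab65bae172ba5daf17abe5fc3e1d0b854160901, 0, 32, 0x0, []⟩]

theorem t9_789_45 : jobs 8 S9 b8_789 j9_789_45 = true := by decide +kernel

noncomputable def j9_789_46 : List Job := [
  ⟨17, 0x43e1d0b854160901, 0, 32, 0x0, []⟩]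

theorem t9_789_46 : jobs 8 S9 b8_789 j9_789_46 = true := by decide +kernel

noncomputable def j9_789_47 : List Job := [
  ⟨16, 0x6c162b259ad16ab65bae172ba5daf17abe5fc3e1d0b854160901, 0, 32, 0x0, []⟩]

theorem t9_789_47 : jobs 8 S9 b8_789 j9_789_47 = true := by decide +kernel

noncomputable def j9_789_48 : List Job := [
  ⟨15, 0x6c162b259ad16ab65bae172ba5daf17abe5fc3e1d0b854160901, 0, 32, 0x0, []⟩]

theorem t9_789_48 : jobs 8 S9 b8_789 j9_789_48 = true := by decide +kernel

noncomputable def j9_789_49 : List Job := [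
  ⟨14, 0x43e1d0b854160901, 0, 32, 0x0, []⟩]

theorem t9_789_49 : jobs 8 S9 b8_789 j9_789_49 = true := by decide +kernel

noncomputable def j9_789_50 : List Job := [
  ⟨13, 0x6c162b259ad16ab65bae172ba5daf17abe5fc3e1d0b854160901, 0, 32, 0x0, []⟩]

theorem t9_789_50 : jobs 8 S9 b8_789 j9_789_50 = true := by decide +kernel

noncomputable def j9_789_51 : List Job := [
  ⟨12, 0x43e1d0b854160901, 0, 32, 0x0, []⟩]

theorem t9_789_51 : jobs 8 S9 b8_789 j9_789_51 = true := by decide +kernel

noncomputable def j9_789_52 : List Job := [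
  ⟨11, 0x6c162b259ad16ab65bae172ba5daf17abe5fc4826160b868361e0fc4022140a860321c0ec3e1d0b854160901, 0, 32, 0x0, []⟩]

theorem t9_789_52 : jobs 8 S9 b8_789 j9_789_52 = true := by decide +kernel

noncomputable def j9_789_53 : List Job := [
  ⟨10, 0x44826160b868361e0fc4022140a860321c0ec3e1d0b854160901, 0, 32, 0x0, []⟩]

theorem t9_789_53 : jobs 8 S9 b8_789 j9_789_53 = true := by decide +kernel

noncomputable def j9_789_54 : List Job := [
  ⟨9, 0x6c162b259ad16ab65bae172ba5daf17abe5fc4826160b868361e0fc4022140a860321c0ec3e1d0b854160901, 0, 32, 0x0, []⟩]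

theorem t9_789_54 : jobs 8 S9 b8_789 j9_789_54 = true := by decide +kernel

noncomputable def j9_789_55 : List Job := [
  ⟨8, 0x44826160b868361e0fc4022140a860321c0ec3e1d0b854160901, 0, 32, 0x0, []⟩]

theorem t9_789_55 : jobs 8 S9 b8_789 j9_789_55 = true := by decide +kernel

noncomputable def j9_789_56 : List Job := [
  ⟨7, 0x44826160b868361e0fc4022140a860321c0ec3e1d0b854160901, 0, 32, 0x0, []⟩]

theorem t9_789_56 : jobs 8 S9 b8_789 j9_789_56 = true := by decide +kernel

noncomputable def j9_789_57 : List Job := [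
  ⟨6, 0x6c162b259ad16ab65bae172ba5daf17abe5fc4826160b868361e0fc4022140a860321c0ec3e1d0b854160901, 0, 72, 0x8201008801008c01008e01, []⟩]

theorem t9_789_57 : jobs 8 S9 b8_789 j9_789_57 = true := by decide +kernel

noncomputable def j9_789_58 : List Job := [
  ⟨5, 0x44826160b868361e0fc4022140a860321c0ec3e1d0b854160901, 0, 32, 0x0, []⟩]

theorem t9_789_58 : jobs 8 S9 b8_789 j9_789_58 = true := by decide +kernel

noncomputable def j9_789_59 : List Job := [
  ⟨4, 0x6c162b259ad16ab65bae172ba5daf17abe5fc4826160b868361e0fc4022140a860321c0ec3e1d0b854160901, 0, 32, 0x0, []⟩]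

theorem t9_789_59 : jobs 8 S9 b8_789 j9_789_59 = true := by decide +kernel

noncomputable def j9_789_60 : List Job := [
  ⟨3, 0x6c162b259ad16ab65bae172ba5daf17abe5fc4826160b868361e0fc4022140a860321c0ec3e1d0b854160901, 0, 32, 0x0, []⟩]

theorem t9_789_60 : jobs 8 S9 b8_789 j9_789_60 = true := by decide +kernel

noncomputable def j9_789_61 : List Job := [
  ⟨2, 0x44826160b868361e0fc4022140a860321c0ec3e1d0b854160901, 0, 32, 0x0, []⟩]

theorem t9_789_61 : jobs 8 S9 b8_789 j9_789_61 = true := by decide +kernel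

noncomputable def j9_789_62 : List Job := [
  ⟨1, 0x6c162b259ad16ab65bae172ba5daf17abe5fc4826160b868361e0fc4022140a860321c0ec3e1d0b854160901, 0, 32, 0x0, []⟩]

theorem t9_789_62 : jobs 8 S9 b8_789 j9_789_62 = true := by decide +kernel

noncomputable def j9_789_63 : List Job := [
  ⟨0, 0x44826160b868361e0fc4022140a860321c0ec3e1d0b854160901, 0, 32, 0x0, []⟩]

theorem t9_789_63 : jobs 8 S9 b8_789 j9_789_63 = true := by decide +kernel

theorem d9_789 : Dn 8 S9 b8_789 := dn_of (Js := j9_789_0 ++ (j9_789_1 ++ (j9_789_2 ++ (j9_789_3 ++ (j9_789_4 ++ (j9_789_5 ++ (j9_789_6 ++ (j9_789_7 ++ (j9_789_8 ++ (j9_789_9 ++ (j9_789_10 ++ (j9_789_11 ++ (j9_789_12 ++ (j9_789_13 ++ (j9_789_14 ++ (j9_789_15 ++ (j9_789_16 ++ (j9_789_17 ++ (j9_789_18 ++ (j9_789_19 ++ (j9_789_20 ++ (j9_789_21 ++ (j9_789_22 ++ (j9_789_23 ++ (j9_789_24 ++ (j9_789_25 ++ (j9_789_26 ++ (j9_789_27 ++ (j9_789_28 ++ (j9_789_29 ++ (j9_789_30 ++ (j9_789_31 ++ (j9_789_32 ++ (j9_789_33 ++ (j9_789_34 ++ (j9_789_35 ++ (j9_789_36 ++ (j9_789_37 ++ (j9_789_38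 ++ (j9_789_39 ++ (j9_789_40 ++ (j9_789_41 ++ (j9_789_42 ++ (j9_789_43 ++ (j9_789_44 ++ (j9_789_45 ++ (j9_789_46 ++ (j9_789_47 ++ (j9_789_48 ++ (j9_789_49 ++ (j9_789_50 ++ (j9_789_51 ++ (j9_789_52 ++ (j9_789_53 ++ (j9_789_54 ++ (j9_789_55 ++ (j9_789_56 ++ (j9_789_57 ++ (j9_789_58 ++ (j9_789_59 ++ (j9_789_60 ++ (j9_789_61 ++ (j9_789_62 ++ (j9_789_63 ++ []))))))))))))))))))))))))))))))))))))))))))))))))))))))))))))))))
  (jobs_append t9_789_0 <| jobs_append t9_789_1 <| jobs_append t9_789_2 <| jobs_append t9_789_3 <| jobs_append t9_789_4 <| jobs_append t9_789_5 <| jobs_append t9_789_6 <| jobs_append t9_789_7 <| jobs_append t9_789_8 <| jobs_append t9_789_9 <| jobs_append t9_789_10 <| jobs_append t9_789_11 <| jobs_append t9_789_12 <| jobs_append t9_789_13 <| jobs_append t9_789_14 <| jobs_append t9_789_15 <| jobs_append t9_789_16 <| jobs_append t9_789_17 <| jobs_append t9_789_18 <| jobs_append t9_789_19 <| jobs_append t9_789_20 <| jobs_append t9_789_21 <| jobs_append t9_789_22 <| jobs_append t9_789_23 <| jobs_append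 t9_789_24 <| jobs_append t9_789_25 <| jobs_append t9_789_26 <| jobs_append t9_789_27 <| jobs_append t9_789_28 <| jobs_append t9_789_29 <| jobs_append t9_789_30 <| jobs_append t9_789_31 <| jobs_append t9_789_32 <| jobs_append t9_789_33 <| jobs_append t9_789_34 <| jobs_append t9_789_35 <| jobs_append t9_789_36 <| jobs_append t9_789_37 <| jobs_append t9_789_38 <| jobs_append t9_789_39 <| jobs_append t9_789_40 <| jobs_append t9_789_41 <| jobs_append t9_789_42 <| jobs_append t9_789_43 <| jobs_append t9_789_44 <| jobs_append t9_789_45 <| jobs_append t9_789_46 <| jobs_append t9_789_47 <| jobs_append t9_789_48 <| jobs_append t9_789_49 <| jobs_append t9_789_50 <| jobs_append t9_789_51 <| jobs_append t9_789_52 <| jobs_append t9_789_53 <| jobs_append t9_789_54 <| jobs_append t9_789_55 <| jobs_append t9_789_56 <| jobs_append t9_789_57 <| jobs_append t9_789_58 <| jobs_append t9_789_59 <| jobs_append t9_789_60 <| jobs_append t9_789_61 <| jobs_append t9_789_62 <| jobs_append t9_789_63 <| List.forall_mem_nil _) (by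 decide +kernel)

noncomputable def j9_790_0 : List Job := [
  ⟨63, 0x440221209860321a0dc381f09844180f01, 0, 128, 0x0, []⟩]

theorem t9_790_0 : jobs 8 S9 b8_790 j9_790_0 = true := by decide +kernel

noncomputable def j9_790_1 : List Job := [
  ⟨62, 0x6c966b45aae172be5fec162b65bae976bc5ee01028241a110a8643a21128a45a311a8e47c40221209860321a0dc381f09844180f01, 0, 128, 0x0, []⟩]

theorem t9_790_1 : jobs 8 S9 b8_790 j9_790_1 = true := by decide +kernel

noncomputable def j9_790_2 : List Job := [
  ⟨61, 0x6c966b45aae172be5fec162b65bae976bc5ec40221209860321a0dc381f09844180f01, 0, 128, 0x0, []⟩]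

theorem t9_790_2 : jobs 8 S9 b8_790 j9_790_2 = true := by decide +kernel

noncomputable def j9_790_3 : List Job := [
  ⟨60, 0x601028241a110a8643a21128a45a311a8e47c40221209860321a0dc381f09844180f01, 0, 128, 0x0, []⟩]

theorem t9_790_3 : jobs 8 S9 b8_790 j9_790_3 = true := by decide +kernel

noncomputable def j9_790_4 : List Job := [
  ⟨59, 0x6c966b45aae172be5fec162b65bae976bc5ec361909844160901, 0, 32, 0x0, []⟩]

theorem t9_790_4 : jobs 8 S9 b8_790 j9_790_4 = true := by decide +kernel

noncomputable def j9_790_5 : List Job := [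
  ⟨58, 0x601028241a110a8643a21128a45a311a8e47c361909844160901, 0, 32, 0x0, []⟩]

theorem t9_790_5 : jobs 8 S9 b8_790 j9_790_5 = true := by decide +kernel

noncomputable def j9_790_6 : List Job := [
  ⟨57, 0x6c966b45aae172be5fec162b65bae976bc5ec361909844160901, 0, 32, 0x0, []⟩]

theorem t9_790_6 : jobs 8 S9 b8_790 j9_790_6 = true := by decide +kernel

noncomputable def j9_790_7 : List Job := [
  ⟨56, 0x601028241a110a8643a21128a45a311a8e47c361909844160901, 0, 32, 0x0, []⟩]

theorem t9_790_7 : jobs 8 S9 b8_790 j9_790_7 = true := by decide +kernel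

noncomputable def j9_790_8 : List Job := [
  ⟨55, 0x4361909844160901, 0, 32, 0x0, []⟩]

theorem t9_790_8 : jobs 8 S9 b8_790 j9_790_8 = true := by decide +kernel

noncomputable def j9_790_9 : List Job := [
  ⟨54, 0x6c966b45aae172be5fec162b65bae976bc5ee01028241a110a8643a21128a45a311a8e47c361909844160901, 0, 32, 0x0, []⟩]

theorem t9_790_9 : jobs 8 S9 b8_790 j9_790_9 = true := by decide +kernel

noncomputable def j9_790_10 : List Job := [
  ⟨53, 0x4361909844160901, 0, 32, 0x0, []⟩]

theorem t9_790_10 : jobs 8 S9 b8_790 j9_790_10 = true := by decide +kernel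

noncomputable def j9_790_11 : List Job := [
  ⟨52, 0x6c966b45aae172be5fec162b65bae976bc5ee01028241a110a8643a21128a45a311a8e47c361909844160901, 0, 32, 0x0, []⟩]

theorem t9_790_11 : jobs 8 S9 b8_790 j9_790_11 = true := by decide +kernel

noncomputable def j9_790_12 : List Job := [
  ⟨51, 0x6c966b45aae172be5fec162b65bae976bc5ec361909844160901, 0, 32, 0x0, []⟩]

theorem t9_790_12 : jobs 8 S9 b8_790 j9_790_12 = true := by decide +kernel

noncomputable def j9_790_13 : List Job := [
  ⟨50, 0x601028241a110a8643a21128a45a311a8e47c361909844160901, 0, 32, 0x0, []⟩]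

theorem t9_790_13 : jobs 8 S9 b8_790 j9_790_13 = true := by decide +kernel

noncomputable def j9_790_14 : List Job := [
  ⟨49, 0x6c966b45aae172be5fec162b65bae976bc5ec361909844160901, 0, 32, 0x0, []⟩]

theorem t9_790_14 : jobs 8 S9 b8_790 j9_790_14 = true := by decide +kernel

noncomputable def j9_790_15 : List Job := [
  ⟨48, 0x601028241a110a8643a21128a45a311a8e47c361909844160901, 0, 32, 0x0, []⟩]

theorem t9_790_15 : jobs 8 S9 b8_790 j9_790_15 = true := by decide +kernel

noncomputable def j9_790_16 : List Job := [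
  ⟨47, 0x4361909844160901, 0, 32, 0x0, []⟩]

theorem t9_790_16 : jobs 8 S9 b8_790 j9_790_16 = true := by decide +kernel

noncomputable def j9_790_17 : List Job := [
  ⟨46, 0x6c966b45aae172be5fec162b65bae976bc5ee01028241a110a8643a21128a45a311a8e47c361909844160901, 0, 32, 0x0, []⟩]

theorem t9_790_17 : jobs 8 S9 b8_790 j9_790_17 = true := by decide +kernel

noncomputable def j9_790_18 : List Job := [
  ⟨45, 0x4361909844160901, 0, 32, 0x0, []⟩]

theorem t9_790_18 : jobs 8 S9 b8_790 j9_790_18 = true := by decide +kernel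

noncomputable def j9_790_19 : List Job := [
  ⟨44, 0x6c966b45aae172be5fec162b65bae976bc5ee01028241a110a8643a21128a45a311a8e47c361909844160901, 0, 32, 0x0, []⟩]

theorem t9_790_19 : jobs 8 S9 b8_790 j9_790_19 = true := by decide +kernel

noncomputable def j9_790_20 : List Job := [
  ⟨43, 0x4502a160b8703a1e0fc40221209860321a0dc361909844160901, 0, 32, 0x0, []⟩]

theorem t9_790_20 : jobs 8 S9 b8_790 j9_790_20 = true := by decide +kernel

noncomputable def j9_790_21 : List Job := [
  ⟨42, 0x6c966b45aae172be5fec162b65bae976bc5ee01028241a110a8643a21128a45a311a8e47c502a160b8703a1e0fc40221209860321a0dc361909844160901, 0, 32, 0x0, []⟩]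

theorem t9_790_21 : jobs 8 S9 b8_790 j9_790_21 = true := by decide +kernel

noncomputable def j9_790_22 : List Job := [
  ⟨41, 0x4502a160b8703a1e0fc40221209860321a0dc361909844160901, 0, 32, 0x0, []⟩]

theorem t9_790_22 : jobs 8 S9 b8_790 j9_790_22 = true := by decide +kernel

noncomputable def j9_790_23 : List Job := [
  ⟨40, 0x6c966b45aae172be5fec162b65bae976bc5ee01028241a110a8643a21128a45a311a8e47c502a160b8703a1e0fc40221209860321a0dc361909844160901, 0, 32, 0x0, []⟩]

theorem t9_790_23 : jobs 8 S9 b8_790 j9_790_23 = true := by decide +kernel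

noncomputable def j9_790_24 : List Job := [
  ⟨39, 0x6c966b45aae172be5fec162b65bae976bc5ec502a160b8703a1e0fc40221209860321a0dc361909844160901, 0, 32, 0x0, []⟩]

theorem t9_790_24 : jobs 8 S9 b8_790 j9_790_24 = true := by decide +kernel

noncomputable def j9_790_25 : List Job := [
  ⟨38, 0x601028241a110a8643a21128a45a311a8e47c502a160b8703a1e0fc40221209860321a0dc361909844160901, 0, 32, 0x0, []⟩]

theorem t9_790_25 : jobs 8 S9 b8_790 j9_790_25 = true := by decide +kernel

noncomputable def j9_790_26 : List Job := [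
  ⟨37, 0x6c966b45aae172be5fec162b65bae976bc5ec502a160b8703a1e0fc40221209860321a0dc361909844160901, 0, 32, 0x0, []⟩]

theorem t9_790_26 : jobs 8 S9 b8_790 j9_790_26 = true := by decide +kernel

noncomputable def j9_790_27 : List Job := [
  ⟨36, 0x601028241a110a8643a21128a45a311a8e47c502a160b8703a1e0fc40221209860321a0dc361909844160901, 0, 32, 0x0, []⟩]

theorem t9_790_27 : jobs 8 S9 b8_790 j9_790_27 = true := by decide +kernel

noncomputable def j9_790_28 : List Job := [
  ⟨35, 0x4502a160b8703a1e0fc40221209860321a0dc361909844160901, 0, 32, 0x0, []⟩]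

theorem t9_790_28 : jobs 8 S9 b8_790 j9_790_28 = true := by decide +kernel

noncomputable def j9_790_29 : List Job := [
  ⟨34, 0x6c966b45aae172be5fec162b65bae976bc5ee01028241a110a8643a21128a45a311a8e47c502a160b8703a1e0fc40221209860321a0dc361909844160901, 0, 32, 0x0, []⟩]

theorem t9_790_29 : jobs 8 S9 b8_790 j9_790_29 = true := by decide +kernel

noncomputable def j9_790_30 : List Job := [
  ⟨33, 0x4502a160b8703a1e0fc40221209860321a0dc361909844160901, 0, 32, 0x0, []⟩]

theorem t9_790_30 : jobs 8 S9 b8_790 j9_790_30 = true := by decide +kernel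

noncomputable def j9_790_31 : List Job := [
  ⟨32, 0x6c966b45aae172be5fec162b65bae976bc5ee01028241a110a8643a21128a45a311a8e47c502a160b8703a1e0fc40221209860321a0dc361909844160901, 0, 72, 0x8410008610008a10009010, []⟩]

theorem t9_790_31 : jobs 8 S9 b8_790 j9_790_31 = true := by decide +kernel

noncomputable def j9_790_32 : List Job := [
  ⟨31, 0x6c966b45aae172be5fec162b65bae976bc5ec502a160b8703a1e0fc40221209860321a0dc361909844160901, 0, 32, 0x0, []⟩]

theorem t9_790_32 : jobs 8 S9 b8_790 j9_790_32 = true := by decide +kernel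

noncomputable def j9_790_33 : List Job := [
  ⟨30, 0x601028241a110a8643a21128a45a311a8e47c502a160b8703a1e0fc40221209860321a0dc361909844160901, 0, 32, 0x0, []⟩]

theorem t9_790_33 : jobs 8 S9 b8_790 j9_790_33 = true := by decide +kernel

noncomputable def j9_790_34 : List Job := [
  ⟨29, 0x6c966b45aae172be5fec162b65bae976bc5ec502a160b8703a1e0fc40221209860321a0dc361909844160901, 0, 32, 0x0, []⟩]

theorem t9_790_34 : jobs 8 S9 b8_790 j9_790_34 = true := by decide +kernel

noncomputable def j9_790_35 : List Job := [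
  ⟨28, 0x601028241a110a8643a21128a45a311a8e47c502a160b8703a1e0fc40221209860321a0dc361909844160901, 0, 32, 0x0, []⟩]

theorem t9_790_35 : jobs 8 S9 b8_790 j9_790_35 = true := by decide +kernel

noncomputable def j9_790_36 : List Job := [
  ⟨27, 0x6c966b45aae172be5fec162b65bae976bc5ec40221209860321a0dc2e15098440e0501, 0, 32, 0x0, []⟩]

theorem t9_790_36 : jobs 8 S9 b8_790 j9_790_36 = true := by decide +kernel

noncomputable def j9_790_37 : List Job := [
  ⟨26, 0x601028241a110a8643a21128a45a311a8e47c40221209860321a0dc2e15098440e0501, 0, 32, 0x0, []⟩]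

theorem t9_790_37 : jobs 8 S9 b8_790 j9_790_37 = true := by decide +kernel

noncomputable def j9_790_38 : List Job := [
  ⟨25, 0x6c966b45aae172be5fec162b65bae976bc5ec40221209860321a0dc2e15098440e0501, 0, 32, 0x0, []⟩]

theorem t9_790_38 : jobs 8 S9 b8_790 j9_790_38 = true := by decide +kernel

noncomputable def j9_790_39 : List Job := [
  ⟨24, 0x601028241a110a8643a21128a45a311a8e47c40221209860321a0dc2e15098440e0501, 0, 32, 0x0, []⟩]

theorem t9_790_39 : jobs 8 S9 b8_790 j9_790_39 = true := by decide +kernel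

noncomputable def j9_790_40 : List Job := [
  ⟨23, 0x440221209860321a0dc2e15098440e0501, 0, 32, 0x0, []⟩]

theorem t9_790_40 : jobs 8 S9 b8_790 j9_790_40 = true := by decide +kernel

noncomputable def j9_790_41 : List Job := [
  ⟨22, 0x6c966b45aae172be5fec162b65bae976bc5ee01028241a110a8643a21128a45a311a8e47c40221209860321a0dc2e15098440e0501, 0, 32, 0x0, []⟩]

theorem t9_790_41 : jobs 8 S9 b8_790 j9_790_41 = true := by decide +kernel

noncomputable def j9_790_42 : List Job := [
  ⟨21, 0x440221209860321a0dc2e15098440e0501, 0, 32, 0x0, []⟩]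

theorem t9_790_42 : jobs 8 S9 b8_790 j9_790_42 = true := by decide +kernel

noncomputable def j9_790_43 : List Job := [
  ⟨20, 0x6c966b45aae172be5fec162b65bae976bc5ee01028241a110a8643a21128a45a311a8e47c40221209860321a0dc2e15098440e0501, 0, 32, 0x0, []⟩]

theorem t9_790_43 : jobs 8 S9 b8_790 j9_790_43 = true := by decide +kernel

noncomputable def j9_790_44 : List Job := [
  ⟨19, 0x6c966b45aae172be5fec162b65bae976bc5ec40221209860321a0dc2e15098440e0501, 0, 32, 0x0, []⟩]

theorem t9_790_44 : jobs 8 S9 b8_790 j9_790_44 = true := by decide +kernel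

noncomputable def j9_790_45 : List Job := [
  ⟨18, 0x601028241a110a8643a21128a45a311a8e47c40221209860321a0dc2e15098440e0501, 0, 32, 0x0, []⟩]

theorem t9_790_45 : jobs 8 S9 b8_790 j9_790_45 = true := by decide +kernel

noncomputable def j9_790_46 : List Job := [
  ⟨17, 0x6c966b45aae172be5fec162b65bae976bc5ec40221209860321a0dc2e15098440e0501, 0, 32, 0x0, []⟩]

theorem t9_790_46 : jobs 8 S9 b8_790 j9_790_46 = true := by decide +kernel

noncomputable def j9_790_47 : List Job := [
  ⟨16, 0x601028241a110a8643a21128a45a311a8e47c40221209860321a0dc2e15098440e0501, 0, 32, 0x0, []⟩]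

theorem t9_790_47 : jobs 8 S9 b8_790 j9_790_47 = true := by decide +kernel

noncomputable def j9_790_48 : List Job := [
  ⟨15, 0x440221209860321a0dc2e15098440e0501, 0, 32, 0x0, []⟩]

theorem t9_790_48 : jobs 8 S9 b8_790 j9_790_48 = true := by decide +kernel

noncomputable def j9_790_49 : List Job := [
  ⟨14, 0x6c966b45aae172be5fec162b65bae976bc5ee01028241a110a8643a21128a45a311a8e47c40221209860321a0dc2e15098440e0501, 0, 32, 0x0, []⟩]

theorem t9_790_49 : jobs 8 S9 b8_790 j9_790_49 = true := by decide +kernel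

noncomputable def j9_790_50 : List Job := [
  ⟨13, 0x440221209860321a0dc2e15098440e0501, 0, 32, 0x0, []⟩]

theorem t9_790_50 : jobs 8 S9 b8_790 j9_790_50 = true := by decide +kernel

noncomputable def j9_790_51 : List Job := [
  ⟨12, 0x6c966b45aae172be5fec162b65bae976bc5ee01028241a110a8643a21128a45a311a8e47c40221209860321a0dc2e15098440e0501, 0, 32, 0x0, []⟩]

theorem t9_790_51 : jobs 8 S9 b8_790 j9_790_51 = true := by decide +kernel

noncomputable def j9_790_52 : List Job := [
  ⟨11, 0x6c966b45aae172be5fec162b65bae976bc5ec4424180dc4026190d42e15098440e0501, 0, 32, 0x0, []⟩]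

theorem t9_790_52 : jobs 8 S9 b8_790 j9_790_52 = true := by decide +kernel

noncomputable def j9_790_53 : List Job := [
  ⟨10, 0x601028241a110a8643a21128a45a311a8e47c4424180dc4026190d42e15098440e0501, 0, 32, 0x0, []⟩]

theorem t9_790_53 : jobs 8 S9 b8_790 j9_790_53 = true := by decide +kernel

noncomputable def j9_790_54 : List Job := [
  ⟨9, 0x6c966b45aae172be5fec162b65bae976bc5ec4424190d44026180dc2e15098440e0501, 0, 32, 0x0, []⟩]

theorem t9_790_54 : jobs 8 S9 b8_790 j9_790_54 = true := by decide +kernel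

noncomputable def j9_790_55 : List Job := [
  ⟨8, 0x601028241a110a8643a21128a45a311a8e47c4424190d44026180dc2e15098440e0501, 0, 32, 0x0, []⟩]

theorem t9_790_55 : jobs 8 S9 b8_790 j9_790_55 = true := by decide +kernel

noncomputable def j9_790_56 : List Job := [
  ⟨7, 0x44426180d44024190dc2e15098440e0501, 0, 32, 0x0, []⟩]

theorem t9_790_56 : jobs 8 S9 b8_790 j9_790_56 = true := by decide +kernel

noncomputable def j9_790_57 : List Job := [
  ⟨6, 0x6c966b45aae172be5fec162b65bae976bc5ee01028241a110a8643a21128a45a311a8e47c4426180d44024190dc2e15098440e0501, 0, 32, 0x0, []⟩]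

theorem t9_790_57 : jobs 8 S9 b8_790 j9_790_57 = true := by decide +kernel

noncomputable def j9_790_58 : List Job := [
  ⟨5, 0x44426190dc4024180d42e15098440e0501, 0, 32, 0x0, []⟩]

theorem t9_790_58 : jobs 8 S9 b8_790 j9_790_58 = true := by decide +kernel

noncomputable def j9_790_59 : List Job := [
  ⟨4, 0x6c966b45aae172be5fec162b65bae976bc5ee01028241a110a8643a21128a45a311a8e47c4426190dc4024180d42e15098440e0501, 0, 32, 0x0, []⟩]

theorem t9_790_59 : jobs 8 S9 b8_790 j9_790_59 = true := by decide +kernel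

noncomputable def j9_790_60 : List Job := [
  ⟨3, 0x6c966b45aae172be5fec162b65bae976bc5ec4424180dc4026190d42e15098440e0501, 0, 32, 0x0, []⟩]

theorem t9_790_60 : jobs 8 S9 b8_790 j9_790_60 = true := by decide +kernel

noncomputable def j9_790_61 : List Job := [
  ⟨2, 0x601028241a110a8643a21128a45a311a8e47c4424180dc4026190d42e15098440e0501, 0, 32, 0x0, []⟩]

theorem t9_790_61 : jobs 8 S9 b8_790 j9_790_61 = true := by decide +kernel

noncomputable def j9_790_62 : List Job := [
  ⟨1, 0x6c966b45aae172be5fec162b65bae976bc5ec4424190d44026180dc2e15098440e0501, 0, 32, 0x0, []⟩]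

theorem t9_790_62 : jobs 8 S9 b8_790 j9_790_62 = true := by decide +kernel

noncomputable def j9_790_63 : List Job := [
  ⟨0, 0x601028241a110a8643a21128a45a311a8e47c4424190d44026180dc2e15098440e0501, 0, 32, 0x0, []⟩]

theorem t9_790_63 : jobs 8 S9 b8_790 j9_790_63 = true := by decide +kernel

theorem d9_790 : Dn 8 S9 b8_790 := dn_of (Js := j9_790_0 ++ (j9_790_1 ++ (j9_790_2 ++ (j9_790_3 ++ (j9_790_4 ++ (j9_790_5 ++ (j9_790_6 ++ (j9_790_7 ++ (j9_790_8 ++ (j9_790_9 ++ (j9_790_10 ++ (j9_790_11 ++ (j9_790_12 ++ (j9_790_13 ++ (j9_790_14 ++ (j9_790_15 ++ (j9_790_16 ++ (j9_790_17 ++ (j9_790_18 ++ (j9_790_19 ++ (j9_790_20 ++ (j9_790_21 ++ (j9_790_22 ++ (j9_790_23 ++ (j9_790_24 ++ (j9_790_25 ++ (j9_790_26 ++ (j9_790_27 ++ (j9_790_28 ++ (j9_790_29 ++ (j9_790_30 ++ (j9_790_31 ++ (j9_790_32 ++ (j9_790_33 ++ (j9_790_34 ++ (j9_790_35 ++ (j9_790_36 ++ (j9_790_37 ++ (j9_790_38 ++ (j9_790_39 ++ (j9_790_40 ++ (j9_790_41 ++ (j9_790_42 ++ (j9_790_43 ++ (j9_790_44 ++ (j9_790_45 ++ (j9_790_46 ++ (j9_790_47 ++ (j9_790_48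 ++ (j9_790_49 ++ (j9_790_50 ++ (j9_790_51 ++ (j9_790_52 ++ (j9_790_53 ++ (j9_790_54 ++ (j9_790_55 ++ (j9_790_56 ++ (j9_790_57 ++ (j9_790_58 ++ (j9_790_59 ++ (j9_790_60 ++ (j9_790_61 ++ (j9_790_62 ++ (j9_790_63 ++ []))))))))))))))))))))))))))))))))))))))))))))))))))))))))))))))))
  (jobs_append t9_790_0 <| jobs_append t9_790_1 <| jobs_append t9_790_2 <| jobs_append t9_790_3 <| jobs_append t9_790_4 <| jobs_append t9_790_5 <| jobs_append t9_790_6 <| jobs_append t9_790_7 <| jobs_append t9_790_8 <| jobs_append t9_790_9 <| jobs_append t9_790_10 <| jobs_append t9_790_11 <| jobs_append t9_790_12 <| jobs_append t9_790_13 <| jobs_append t9_790_14 <| jobs_append t9_790_15 <| jobs_append t9_790_16 <| jobs_append t9_790_17 <| jobs_append t9_790_18 <| jobs_append t9_790_19 <| jobs_append t9_790_20 <| jobs_append t9_790_21 <| jobs_append t9_790_22 <| jobs_append t9_790_23 <| jobs_append t9_790_24 <| jobs_append t9_790_25 <| jobs_append t9_790_26 <| jobs_append t9_790_27 <| jobs_append t9_790_28 <| jobs_append t9_790_29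 <| jobs_append t9_790_30 <| jobs_append t9_790_31 <| jobs_append t9_790_32 <| jobs_append t9_790_33 <| jobs_append t9_790_34 <| jobs_append t9_790_35 <| jobs_append t9_790_36 <| jobs_append t9_790_37 <| jobs_append t9_790_38 <| jobs_append t9_790_39 <| jobs_append t9_790_40 <| jobs_append t9_790_41 <| jobs_append t9_790_42 <| jobs_append t9_790_43 <| jobs_append t9_790_44 <| jobs_append t9_790_45 <| jobs_append t9_790_46 <| jobs_append t9_790_47 <| jobs_append t9_790_48 <| jobs_append t9_790_49 <| jobs_append t9_790_50 <| jobs_append t9_790_51 <| jobs_append t9_790_52 <| jobs_append t9_790_53 <| jobs_append t9_790_54 <| jobs_append t9_790_55 <| jobs_append t9_790_56 <| jobs_append t9_790_57 <| jobs_append t9_790_58 <| jobs_append t9_790_59 <| jobs_append t9_790_60 <| jobs_append t9_790_61 <| jobs_append t9_790_62 <| jobs_append t9_790_63 <| List.forall_mem_nil _) (by decide +kernel)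

noncomputable def j9_791_0 : List Job := [
  ⟨63, 0x44022140a860321c0ec361909844160901, 0, 32, 0x0, []⟩]

theorem t9_791_0 : jobs 8 S9 b8_791 j9_791_0 = true := by decide +kernel

noncomputable def j9_791_1 : List Job := [
  ⟨62, 0x6c966b45aae976bc5eec162b65bae172be5fe01028241a110a8643a21128a45a311a8e47c4022140a860321c0ec361909844160901, 0, 32, 0x0, []⟩]

theorem t9_791_1 : jobs 8 S9 b8_791 j9_791_1 = true := by decide +kernel

noncomputable def j9_791_2 : List Job := [
  ⟨61, 0x44022140a860321c0ec361909844160901, 0, 32, 0x0, []⟩]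

theorem t9_791_2 : jobs 8 S9 b8_791 j9_791_2 = true := by decide +kernel

noncomputable def j9_791_3 : List Job := [
  ⟨60, 0x6c966b45aae976bc5eec162b65bae172be5fe01028241a110a8643a21128a45a311a8e47c4022140a860321c0ec361909844160901, 0, 32, 0x0, []⟩]

theorem t9_791_3 : jobs 8 S9 b8_791 j9_791_3 = true := by decide +kernel

noncomputable def j9_791_4 : List Job := [
  ⟨59, 0x6c966b45aae976bc5eec162b65bae172be5fc4022140a860321c0ec361909844160901, 0, 32, 0x0, []⟩]

theorem t9_791_4 : jobs 8 S9 b8_791 j9_791_4 = true := by decide +kernel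

noncomputable def j9_791_5 : List Job := [
  ⟨58, 0x601028241a110a8643a21128a45a311a8e47c4022140a860321c0ec361909844160901, 0, 32, 0x0, []⟩]

theorem t9_791_5 : jobs 8 S9 b8_791 j9_791_5 = true := by decide +kernel

noncomputable def j9_791_6 : List Job := [
  ⟨57, 0x6c966b45aae976bc5eec162b65bae172be5fc4022140a860321c0ec361909844160901, 0, 32, 0x0, []⟩]

theorem t9_791_6 : jobs 8 S9 b8_791 j9_791_6 = true := by decide +kernel

noncomputable def j9_791_7 : List Job := [
  ⟨56, 0x601028241a110a8643a21128a45a311a8e47c4022140a860321c0ec361909844160901, 0, 32, 0x0, []⟩]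

theorem t9_791_7 : jobs 8 S9 b8_791 j9_791_7 = true := by decide +kernel

noncomputable def j9_791_8 : List Job := [
  ⟨55, 0x44022140a860321c0ec361909844160901, 0, 32, 0x0, []⟩]

theorem t9_791_8 : jobs 8 S9 b8_791 j9_791_8 = true := by decide +kernel

noncomputable def j9_791_9 : List Job := [
  ⟨54, 0x6c966b45aae976bc5eec162b65bae172be5fe01028241a110a8643a21128a45a311a8e47c4022140a860321c0ec361909844160901, 0, 32, 0x0, []⟩]

theorem t9_791_9 : jobs 8 S9 b8_791 j9_791_9 = true := by decide +kernel

noncomputable def j9_791_10 : List Job := [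
  ⟨53, 0x44022140a860321c0ec361909844160901, 0, 32, 0x0, []⟩]

theorem t9_791_10 : jobs 8 S9 b8_791 j9_791_10 = true := by decide +kernel

noncomputable def j9_791_11 : List Job := [
  ⟨52, 0x6c966b45aae976bc5eec162b65bae172be5fe01028241a110a8643a21128a45a311a8e47c4022140a860321c0ec361909844160901, 0, 32, 0x0, []⟩]

theorem t9_791_11 : jobs 8 S9 b8_791 j9_791_11 = true := by decide +kernel

noncomputable def j9_791_12 : List Job := [
  ⟨51, 0x6c966b45aae976bc5eec162b65bae172be5fc442a180e44028190ec361909844160901, 0, 32, 0x0, []⟩]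

theorem t9_791_12 : jobs 8 S9 b8_791 j9_791_12 = true := by decide +kernel

noncomputable def j9_791_13 : List Job := [
  ⟨50, 0x601028241a110a8643a21128a45a311a8e47c442a180e44028190ec361909844160901, 0, 32, 0x0, []⟩]

theorem t9_791_13 : jobs 8 S9 b8_791 j9_791_13 = true := by decide +kernel

noncomputable def j9_791_14 : List Job := [
  ⟨49, 0x6c966b45aae976bc5eec162b65bae172be5fc442a190ec4028180e4361909844160901, 0, 32, 0x0, []⟩]

theorem t9_791_14 : jobs 8 S9 b8_791 j9_791_14 = true := by decide +kernel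

noncomputable def j9_791_15 : List Job := [
  ⟨48, 0x601028241a110a8643a21128a45a311a8e47c442a190ec4028180e4361909844160901, 0, 32, 0x0, []⟩]

theorem t9_791_15 : jobs 8 S9 b8_791 j9_791_15 = true := by decide +kernel

noncomputable def j9_791_16 : List Job := [
  ⟨47, 0x4442a180e44028190ec361909844160901, 0, 32, 0x0, []⟩]

theorem t9_791_16 : jobs 8 S9 b8_791 j9_791_16 = true := by decide +kernel

noncomputable def j9_791_17 : List Job := [
  ⟨46, 0x6c966b45aae976bc5eec162b65bae172be5fe01028241a110a8643a21128a45a311a8e47c442a180e44028190ec361909844160901, 0, 32, 0x0, []⟩]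

theorem t9_791_17 : jobs 8 S9 b8_791 j9_791_17 = true := by decide +kernel

noncomputable def j9_791_18 : List Job := [
  ⟨45, 0x4442a190ec4028180e4361909844160901, 0, 32, 0x0, []⟩]

theorem t9_791_18 : jobs 8 S9 b8_791 j9_791_18 = true := by decide +kernel

noncomputable def j9_791_19 : List Job := [
  ⟨44, 0x6c966b45aae976bc5eec162b65bae172be5fe01028241a110a8643a21128a45a311a8e47c442a190ec4028180e4361909844160901, 0, 32, 0x0, []⟩]

theorem t9_791_19 : jobs 8 S9 b8_791 j9_791_19 = true := by decide +kernel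

noncomputable def j9_791_20 : List Job := [
  ⟨43, 0x6c966b45aae976bc5eec162b65bae172be5fc442a180e44028190ec361909844160901, 0, 32, 0x0, []⟩]

theorem t9_791_20 : jobs 8 S9 b8_791 j9_791_20 = true := by decide +kernel

noncomputable def j9_791_21 : List Job := [
  ⟨42, 0x601028241a110a8643a21128a45a311a8e47c442a180e44028190ec361909844160901, 0, 32, 0x0, []⟩]

theorem t9_791_21 : jobs 8 S9 b8_791 j9_791_21 = true := by decide +kernel

noncomputable def j9_791_22 : List Job := [
  ⟨41, 0x6c966b45aae976bc5eec162b65bae172be5fc442a190ec4028180e4361909844160901, 0, 32, 0x0, []⟩]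

theorem t9_791_22 : jobs 8 S9 b8_791 j9_791_22 = true := by decide +kernel

noncomputable def j9_791_23 : List Job := [
  ⟨40, 0x601028241a110a8643a21128a45a311a8e47c442a190ec4028180e4361909844160901, 0, 32, 0x0, []⟩]

theorem t9_791_23 : jobs 8 S9 b8_791 j9_791_23 = true := by decide +kernel

noncomputable def j9_791_24 : List Job := [
  ⟨39, 0x4442a180e44028190ec361909844160901, 0, 32, 0x0, []⟩]

theorem t9_791_24 : jobs 8 S9 b8_791 j9_791_24 = true := by decide +kernel

noncomputable def j9_791_25 : List Job := [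
  ⟨38, 0x6c966b45aae976bc5eec162b65bae172be5fe01028241a110a8643a21128a45a311a8e47c442a180e44028190ec361909844160901, 0, 32, 0x0, []⟩]

theorem t9_791_25 : jobs 8 S9 b8_791 j9_791_25 = true := by decide +kernel

noncomputable def j9_791_26 : List Job := [
  ⟨37, 0x4442a190ec4028180e4361909844160901, 0, 32, 0x0, []⟩]

theorem t9_791_26 : jobs 8 S9 b8_791 j9_791_26 = true := by decide +kernel

noncomputable def j9_791_27 : List Job := [
  ⟨36, 0x6c966b45aae976bc5eec162b65bae172be5fe01028241a110a8643a21128a45a311a8e47c442a190ec4028180e4361909844160901, 0, 72, 0x8201008401008601008801, []⟩]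

theorem t9_791_27 : jobs 8 S9 b8_791 j9_791_27 = true := by decide +kernel

noncomputable def j9_791_28 : List Job := [
  ⟨4, 0x4442a190ec4028180e4361909844160901, 0, 32, 0x0, []⟩]

theorem t9_791_28 : jobs 8 S9 b8_791 j9_791_28 = true := by decide +kernel

noncomputable def j9_791_29 : List Job := [
  ⟨3, 0x440221209860321a0dc381f09844180f01, 0, 128, 0x0, []⟩]

theorem t9_791_29 : jobs 8 S9 b8_791 j9_791_29 = true := by decide +kernel

noncomputable def j9_791_30 : List Job := [
  ⟨2, 0x6c966b45aae172be5fec162b65bae976bc5ee01028241a110a8643a21128a45a311a8e47c40221209860321a0dc381f09844180f01, 0, 128, 0x0, []⟩]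

theorem t9_791_30 : jobs 8 S9 b8_791 j9_791_30 = true := by decide +kernel

noncomputable def j9_791_31 : List Job := [
  ⟨1, 0x6c966b45aae172be5fec162b65bae976bc5ec40221209860321a0dc381f09844180f01, 0, 128, 0x0, []⟩]

theorem t9_791_31 : jobs 8 S9 b8_791 j9_791_31 = true := by decide +kernel

noncomputable def j9_791_32 : List Job := [
  ⟨0, 0x601028241a110a8643a21128a45a311a8e47c40221209860321a0dc381f09844180f01, 0, 128, 0x0, []⟩]

theorem t9_791_32 : jobs 8 S9 b8_791 j9_791_32 = true := by decide +kernel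

theorem d9_791 : Dn 8 S9 b8_791 := dn_of (Js := j9_791_0 ++ (j9_791_1 ++ (j9_791_2 ++ (j9_791_3 ++ (j9_791_4 ++ (j9_791_5 ++ (j9_791_6 ++ (j9_791_7 ++ (j9_791_8 ++ (j9_791_9 ++ (j9_791_10 ++ (j9_791_11 ++ (j9_791_12 ++ (j9_791_13 ++ (j9_791_14 ++ (j9_791_15 ++ (j9_791_16 ++ (j9_791_17 ++ (j9_791_18 ++ (j9_791_19 ++ (j9_791_20 ++ (j9_791_21 ++ (j9_791_22 ++ (j9_791_23 ++ (j9_791_24 ++ (j9_791_25 ++ (j9_791_26 ++ (j9_791_27 ++ (j9_791_28 ++ (j9_791_29 ++ (j9_791_30 ++ (j9_791_31 ++ (j9_791_32 ++ [])))))))))))))))))))))))))))))))))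
  (jobs_append t9_791_0 <| jobs_append t9_791_1 <| jobs_append t9_791_2 <| jobs_append t9_791_3 <| jobs_append t9_791_4 <| jobs_append t9_791_5 <| jobs_append t9_791_6 <| jobs_append t9_791_7 <| jobs_append t9_791_8 <| jobs_append t9_791_9 <| jobs_append t9_791_10 <| jobs_append t9_791_11 <| jobs_append t9_791_12 <| jobs_append t9_791_13 <| jobs_append t9_791_14 <| jobs_append t9_791_15 <| jobs_append t9_791_16 <| jobs_append t9_791_17 <| jobs_append t9_791_18 <| jobs_append t9_791_19 <| jobs_append t9_791_20 <| jobs_append t9_791_21 <| jobs_append t9_791_22 <| jobs_append t9_791_23 <| jobs_append t9_791_24 <| jobs_append t9_791_25 <| jobs_append t9_791_26 <| jobs_append t9_791_27 <| jobs_append t9_791_28 <| jobs_append t9_791_29 <| jobs_append t9_791_30 <| jobs_append t9_791_31 <| jobs_append t9_791_32 <| List.forall_mem_nil _) (by decide +kernel)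

noncomputable def j9_792_0 : List Job := [
  ⟨49, 0x4442a180e44028190ec361909844160901, 0, 2, 0x201000401, []⟩]

theorem t9_792_0 : jobs 8 S9 b8_792 j9_792_0 = true := by decide +kernel

noncomputable def j9_792_1 : List Job := [
  ⟨44, 0x4442a190ec4028180e4361909844160901, 0, 32, 0x0, []⟩]

theorem t9_792_1 : jobs 8 S9 b8_792 j9_792_1 = true := by decide +kernel

noncomputable def j9_792_2 : List Job := [
  ⟨43, 0x6cd6abb5eec968ba5e43e1d098441e0d01, 0, 32, 0x0, []⟩]

theorem t9_792_2 : jobs 8 S9 b8_792 j9_792_2 = true := by decide +kernel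

noncomputable def j9_792_3 : List Job := [
  ⟨42, 0x6c56eb85f6c16cb95fe01028241a110a8643a21128a45a311a8e47c3e1d098441e0d01, 0, 32, 0x0, []⟩]

theorem t9_792_3 : jobs 8 S9 b8_792 j9_792_3 = true := by decide +kernel

noncomputable def j9_792_4 : List Job := [
  ⟨41, 0x6cd6aba5e6c968bb5ec3e1d098441e0d01, 0, 32, 0x0, []⟩]

theorem t9_792_4 : jobs 8 S9 b8_792 j9_792_4 = true := by decide +kernel

noncomputable def j9_792_5 : List Job := [
  ⟨40, 0x6c56eb95fec16cb85f601028241a110a8643a21128a45a311a8e47c3e1d098441e0d01, 0, 32, 0x0, []⟩]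

theorem t9_792_5 : jobs 8 S9 b8_792 j9_792_5 = true := by decide +kernel

noncomputable def j9_792_6 : List Job := [
  ⟨39, 0x6c162b65bae172be5fc3e1d098441e0d01, 0, 32, 0x0, []⟩]

theorem t9_792_6 : jobs 8 S9 b8_792 j9_792_6 = true := by decide +kernel

noncomputable def j9_792_7 : List Job := [
  ⟨38, 0x6c966b45aae976bc5ee01028241a110a8643a21128a45a311a8e47c3e1d098441e0d01, 0, 32, 0x0, []⟩]

theorem t9_792_7 : jobs 8 S9 b8_792 j9_792_7 = true := by decide +kernel

noncomputable def j9_792_8 : List Job := [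
  ⟨37, 0x6c162b65bae172be5fc3e1d098441e0d01, 0, 32, 0x0, []⟩]

theorem t9_792_8 : jobs 8 S9 b8_792 j9_792_8 = true := by decide +kernel

noncomputable def j9_792_9 : List Job := [
  ⟨36, 0x6c966b45aae976bc5ee01028241a110a8643a21128a45a311a8e47c3e1d098441e0d01, 0, 32, 0x0, []⟩]

theorem t9_792_9 : jobs 8 S9 b8_792 j9_792_9 = true := by decide +kernel

noncomputable def j9_792_10 : List Job := [
  ⟨35, 0x6cd68bb5e6c96aba5ec3e1d098441e0d01, 0, 32, 0x0, []⟩]

theorem t9_792_10 : jobs 8 S9 b8_792 j9_792_10 = true := by decide +kernel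

noncomputable def j9_792_11 : List Job := [
  ⟨34, 0x6c56cb85fec16eb95f601028241a110a8643a21128a45a311a8e47c3e1d098441e0d01, 0, 32, 0x0, []⟩]

theorem t9_792_11 : jobs 8 S9 b8_792 j9_792_11 = true := by decide +kernel

noncomputable def j9_792_12 : List Job := [
  ⟨33, 0x6cd68ba5eec96abb5e43e1d098441e0d01, 0, 32, 0x0, []⟩]

theorem t9_792_12 : jobs 8 S9 b8_792 j9_792_12 = true := by decide +kernel

noncomputable def j9_792_13 : List Job := [
  ⟨32, 0x6c56cb95f6c16eb85fe01028241a110a8643a21128a45a311a8e47c3e1d098441e0d01, 0, 32, 0x0, []⟩]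

theorem t9_792_13 : jobs 8 S9 b8_792 j9_792_13 = true := by decide +kernel

noncomputable def j9_792_14 : List Job := [
  ⟨31, 0x6c162b65bae172be5fc3e1d098441e0d01, 0, 32, 0x0, []⟩]

theorem t9_792_14 : jobs 8 S9 b8_792 j9_792_14 = true := by decide +kernel

noncomputable def j9_792_15 : List Job := [
  ⟨30, 0x6c966b45aae976bc5ee01028241a110a8643a21128a45a311a8e47c3e1d098441e0d01, 0, 32, 0x0, []⟩]

theorem t9_792_15 : jobs 8 S9 b8_792 j9_792_15 = true := by decide +kernel

noncomputable def j9_792_16 : List Job := [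
  ⟨29, 0x6c162b65bae172be5fc3e1d098441e0d01, 0, 32, 0x0, []⟩]

theorem t9_792_16 : jobs 8 S9 b8_792 j9_792_16 = true := by decide +kernel

noncomputable def j9_792_17 : List Job := [
  ⟨28, 0x6c966b45aae976bc5ee01028241a110a8643a21128a45a311a8e47c3e1d098441e0d01, 0, 32, 0x0, []⟩]

theorem t9_792_17 : jobs 8 S9 b8_792 j9_792_17 = true := by decide +kernel

noncomputable def j9_792_18 : List Job := [
  ⟨27, 0x6c56eb85f6c16cb95fc4826160b868361e0fc4022140a860321c0ec3e1d098441e0d01, 0, 32, 0x0, []⟩]

theorem t9_792_18 : jobs 8 S9 b8_792 j9_792_18 = true := by decide +kernel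

noncomputable def j9_792_19 : List Job := [
  ⟨26, 0x6cd6abb5eec968ba5e601028241a110a8643a21128a45a311a8e47c4826160b868361e0fc4022140a860321c0ec3e1d098441e0d01, 0, 72, 0x4201004401004601004801, []⟩]

theorem t9_792_19 : jobs 8 S9 b8_792 j9_792_19 = true := by decide +kernel

noncomputable def j9_792_20 : List Job := [
  ⟨25, 0x6c56eb95fec16cb85f44826160b868361e0fc4022140a860321c0ec3e1d098441e0d01, 0, 32, 0x0, []⟩]

theorem t9_792_20 : jobs 8 S9 b8_792 j9_792_20 = true := by decide +kernel

noncomputable def j9_792_21 : List Job := [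
  ⟨24, 0x6cd6aba5e6c968bb5ee01028241a110a8643a21128a45a311a8e47c4826160b868361e0fc4022140a860321c0ec3e1d098441e0d01, 0, 32, 0x0, []⟩]

theorem t9_792_21 : jobs 8 S9 b8_792 j9_792_21 = true := by decide +kernel

noncomputable def j9_792_22 : List Job := [
  ⟨23, 0x6c966b45aae976bc5ec4826160b868361e0fc4022140a860321c0ec3e1d098441e0d01, 0, 32, 0x0, []⟩]

theorem t9_792_22 : jobs 8 S9 b8_792 j9_792_22 = true := by decide +kernel

noncomputable def j9_792_23 : List Job := [
  ⟨22, 0x6c162b65bae172be5fe01028241a110a8643a21128a45a311a8e47c4826160b868361e0fc4022140a860321c0ec3e1d098441e0d01, 0, 32, 0x0, []⟩]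

theorem t9_792_23 : jobs 8 S9 b8_792 j9_792_23 = true := by decide +kernel

noncomputable def j9_792_24 : List Job := [
  ⟨21, 0x6c966b45aae976bc5ec4826160b868361e0fc4022140a860321c0ec3e1d098441e0d01, 0, 32, 0x0, []⟩]

theorem t9_792_24 : jobs 8 S9 b8_792 j9_792_24 = true := by decide +kernel

noncomputable def j9_792_25 : List Job := [
  ⟨20, 0x6c162b65bae172be5fe01028241a110a8643a21128a45a311a8e47c4826160b868361e0fc4022140a860321c0ec3e1d098441e0d01, 0, 32, 0x0, []⟩]

theorem t9_792_25 : jobs 8 S9 b8_792 j9_792_25 = true := by decide +kernel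

noncomputable def j9_792_26 : List Job := [
  ⟨19, 0x6c56cb85fec16eb95f44826160b868361e0fc4022140a860321c0ec3e1d098441e0d01, 0, 32, 0x0, []⟩]

theorem t9_792_26 : jobs 8 S9 b8_792 j9_792_26 = true := by decide +kernel

noncomputable def j9_792_27 : List Job := [
  ⟨18, 0x6cd68bb5e6c96aba5ee01028241a110a8643a21128a45a311a8e47c4826160b868361e0fc4022140a860321c0ec3e1d098441e0d01, 0, 32, 0x0, []⟩]

theorem t9_792_27 : jobs 8 S9 b8_792 j9_792_27 = true := by decide +kernel

noncomputable def j9_792_28 : List Job := [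
  ⟨17, 0x6c56cb95f6c16eb85fc4826160b868361e0fc4022140a860321c0ec3e1d098441e0d01, 0, 32, 0x0, []⟩]

theorem t9_792_28 : jobs 8 S9 b8_792 j9_792_28 = true := by decide +kernel

noncomputable def j9_792_29 : List Job := [
  ⟨16, 0x6cd68ba5eec96abb5e601028241a110a8643a21128a45a311a8e47c4826160b868361e0fc4022140a860321c0ec3e1d098441e0d01, 0, 32, 0x0, []⟩]

theorem t9_792_29 : jobs 8 S9 b8_792 j9_792_29 = true := by decide +kernel

noncomputable def j9_792_30 : List Job := [
  ⟨15, 0x6c966b45aae976bc5ec4826160b868361e0fc4022140a860321c0ec3e1d098441e0d01, 0, 32, 0x0, []⟩]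

theorem t9_792_30 : jobs 8 S9 b8_792 j9_792_30 = true := by decide +kernel

noncomputable def j9_792_31 : List Job := [
  ⟨14, 0x6c162b65bae172be5fe01028241a110a8643a21128a45a311a8e47c4826160b868361e0fc4022140a860321c0ec3e1d098441e0d01, 0, 32, 0x0, []⟩]

theorem t9_792_31 : jobs 8 S9 b8_792 j9_792_31 = true := by decide +kernel

noncomputable def j9_792_32 : List Job := [
  ⟨13, 0x6c966b45aae976bc5ec4826160b868361e0fc4022140a860321c0ec3e1d098441e0d01, 0, 32, 0x0, []⟩]

theorem t9_792_32 : jobs 8 S9 b8_792 j9_792_32 = true := by decide +kernel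

noncomputable def j9_792_33 : List Job := [
  ⟨12, 0x6c162b65bae172be5fe01028241a110a8643a21128a45a311a8e47c4826160b868361e0fc4022140a860321c0ec3e1d098441e0d01, 0, 32, 0x0, []⟩]

theorem t9_792_33 : jobs 8 S9 b8_792 j9_792_33 = true := by decide +kernel

noncomputable def j9_792_34 : List Job := [
  ⟨11, 0x6c966b45aae976bc5ec4022140a860321c0ec281709844080701, 0, 128, 0x0, []⟩]

theorem t9_792_34 : jobs 8 S9 b8_792 j9_792_34 = true := by decide +kernel

noncomputable def j9_792_35 : List Job := [
  ⟨10, 0x6c162b65bae172be5fe01028241a110a8643a21128a45a311a8e47c4022140a860321c0ec281709844080701, 0, 128, 0x0, []⟩]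

theorem t9_792_35 : jobs 8 S9 b8_792 j9_792_35 = true := by decide +kernel

noncomputable def j9_792_36 : List Job := [
  ⟨9, 0x6c966b45aae976bc5ec4022140a860321c0ec281709844080701, 0, 128, 0x0, []⟩]

theorem t9_792_36 : jobs 8 S9 b8_792 j9_792_36 = true := by decide +kernel

noncomputable def j9_792_37 : List Job := [
  ⟨8, 0x6c162b65bae172be5fe01028241a110a8643a21128a45a311a8e47c4022140a860321c0ec281709844080701, 0, 128, 0x0, []⟩]

theorem t9_792_37 : jobs 8 S9 b8_792 j9_792_37 = true := by decide +kernel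

noncomputable def j9_792_38 : List Job := [
  ⟨7, 0x6c966b45aae976bc5ec4022140a860321c0ec281709844080701, 0, 128, 0x0, []⟩]

theorem t9_792_38 : jobs 8 S9 b8_792 j9_792_38 = true := by decide +kernel

noncomputable def j9_792_39 : List Job := [
  ⟨6, 0x6c162b65bae172be5fe01028241a110a8643a21128a45a311a8e47c4022140a860321c0ec281709844080701, 0, 128, 0x0, []⟩]

theorem t9_792_39 : jobs 8 S9 b8_792 j9_792_39 = true := by decide +kernel

noncomputable def j9_792_40 : List Job := [
  ⟨5, 0x6c966b45aae976bc5ec4022140a860321c0ec281709844080701, 0, 128, 0x0, []⟩]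

theorem t9_792_40 : jobs 8 S9 b8_792 j9_792_40 = true := by decide +kernel

noncomputable def j9_792_41 : List Job := [
  ⟨4, 0x6c162b65bae172be5fe01028241a110a8643a21128a45a311a8e47c4022140a860321c0ec281709844080701, 0, 128, 0x0, []⟩]

theorem t9_792_41 : jobs 8 S9 b8_792 j9_792_41 = true := by decide +kernel

noncomputable def j9_792_42 : List Job := [
  ⟨3, 0x6c966b45aae976bc5eec162b65bae172be5fc4022140a860321c0ec361909844160901, 0, 32, 0x0, []⟩]

theorem t9_792_42 : jobs 8 S9 b8_792 j9_792_42 = true := by decide +kernel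

noncomputable def j9_792_43 : List Job := [
  ⟨2, 0x601028241a110a8643a21128a45a311a8e47c4022140a860321c0ec361909844160901, 0, 32, 0x0, []⟩]

theorem t9_792_43 : jobs 8 S9 b8_792 j9_792_43 = true := by decide +kernel

noncomputable def j9_792_44 : List Job := [
  ⟨1, 0x6c966b45aae976bc5eec162b65bae172be5fc4022140a860321c0ec361909844160901, 0, 32, 0x0, []⟩]

theorem t9_792_44 : jobs 8 S9 b8_792 j9_792_44 = true := by decide +kernel

noncomputable def j9_792_45 : List Job := [
  ⟨0, 0x601028241a110a8643a21128a45a311a8e47c4022140a860321c0ec361909844160901, 0, 32, 0x0, []⟩]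

theorem t9_792_45 : jobs 8 S9 b8_792 j9_792_45 = true := by decide +kernel

theorem d9_792 : Dn 8 S9 b8_792 := dn_of (Js := j9_792_0 ++ (j9_792_1 ++ (j9_792_2 ++ (j9_792_3 ++ (j9_792_4 ++ (j9_792_5 ++ (j9_792_6 ++ (j9_792_7 ++ (j9_792_8 ++ (j9_792_9 ++ (j9_792_10 ++ (j9_792_11 ++ (j9_792_12 ++ (j9_792_13 ++ (j9_792_14 ++ (j9_792_15 ++ (j9_792_16 ++ (j9_792_17 ++ (j9_792_18 ++ (j9_792_19 ++ (j9_792_20 ++ (j9_792_21 ++ (j9_792_22 ++ (j9_792_23 ++ (j9_792_24 ++ (j9_792_25 ++ (j9_792_26 ++ (j9_792_27 ++ (j9_792_28 ++ (j9_792_29 ++ (j9_792_30 ++ (j9_792_31 ++ (j9_792_32 ++ (j9_792_33 ++ (j9_792_34 ++ (j9_792_35 ++ (j9_792_36 ++ (j9_792_37 ++ (j9_792_38 ++ (j9_792_39 ++ (j9_792_40 ++ (j9_792_41 ++ (j9_792_42 ++ (j9_792_43 ++ (j9_792_44 ++ (j9_792_45 ++ []))))))))))))))))))))))))))))))))))))))))))))))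
  (jobs_append t9_792_0 <| jobs_append t9_792_1 <| jobs_append t9_792_2 <| jobs_append t9_792_3 <| jobs_append t9_792_4 <| jobs_append t9_792_5 <| jobs_append t9_792_6 <| jobs_append t9_792_7 <| jobs_append t9_792_8 <| jobs_append t9_792_9 <| jobs_append t9_792_10 <| jobs_append t9_792_11 <| jobs_append t9_792_12 <| jobs_append t9_792_13 <| jobs_append t9_792_14 <| jobs_append t9_792_15 <| jobs_append t9_792_16 <| jobs_append t9_792_17 <| jobs_append t9_792_18 <| jobs_append t9_792_19 <| jobs_append t9_792_20 <| jobs_append t9_792_21 <| jobs_append t9_792_22 <| jobs_append t9_792_23 <| jobs_append t9_792_24 <| jobs_append t9_792_25 <| jobs_append t9_792_26 <| jobs_append t9_792_27 <| jobs_append t9_792_28 <| jobs_append t9_792_29 <| jobs_append t9_792_30 <| jobs_append t9_792_31 <| jobs_append t9_792_32 <| jobs_append t9_792_33 <| jobs_append t9_792_34 <| jobs_append t9_792_35 <| jobs_append t9_792_36 <| jobs_append t9_792_37 <| jobs_append t9_792_38 <| jobs_append t9_792_39 <| jobs_append t9_792_40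 <| jobs_append t9_792_41 <| jobs_append t9_792_42 <| jobs_append t9_792_43 <| jobs_append t9_792_44 <| jobs_append t9_792_45 <| List.forall_mem_nil _) (by decide +kernel)

noncomputable def j9_793_0 : List Job := [
  ⟨42, 0x4361909844160901, 0, 32, 0x0, []⟩]

theorem t9_793_0 : jobs 8 S9 b8_793 j9_793_0 = true := by decide +kernel

noncomputable def j9_793_1 : List Job := [
  ⟨22, 0x601028241a110a8643a21128a45a311a8e47c361909844160901, 0, 20, 0x0, []⟩]

theorem t9_793_1 : jobs 8 S9 b8_793 j9_793_1 = true := by decide +kernel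

noncomputable def j9_793_2 : List Job := [
  ⟨12, 0x4361909844160901, 0, 10, 0x0, []⟩]

theorem t9_793_2 : jobs 8 S9 b8_793 j9_793_2 = true := by decide +kernel

theorem d9_793 : Dn 8 S9 b8_793 := dn_of (Js := j9_793_0 ++ (j9_793_1 ++ (j9_793_2 ++ [])))
  (jobs_append t9_793_0 <| jobs_append t9_793_1 <| jobs_append t9_793_2 <| List.forall_mem_nil _) (by decide +kernel)

noncomputable def j9_794_0 : List Job := [
  ⟨42, 0x4361909844160901, 0, 32, 0x0, []⟩]

theorem t9_794_0 : jobs 8 S9 b8_794 j9_794_0 = true := by decide +kernel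

noncomputable def j9_794_1 : List Job := [
  ⟨20, 0x6c162b259ad16ab65bae172ba5daf17abe5fe21128a45a311a8e47e01028241a110a8643c361909844160901, 0, 2, 0x401, []⟩]

theorem t9_794_1 : jobs 8 S9 b8_794 j9_794_1 = true := by decide +kernel

noncomputable def j9_794_2 : List Job := [
  ⟨10, 0x6c162b259ad16ab65bae172ba5daf17abe5fe21128a45a311a8e47e01028241a110a8643c361909844160901, 0, 32, 0x0, []⟩]

theorem t9_794_2 : jobs 8 S9 b8_794 j9_794_2 = true := by decide +kernel

theorem d9_794 : Dn 8 S9 b8_794 := dn_of (Js := j9_794_0 ++ (j9_794_1 ++ (j9_794_2 ++ [])))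
  (jobs_append t9_794_0 <| jobs_append t9_794_1 <| jobs_append t9_794_2 <| List.forall_mem_nil _) (by decide +kernel)

noncomputable def j9_795_0 : List Job := [
  ⟨63, 0x6c966b45aae172be5fec162b65bae976bc5ec361909844160901, 0, 32, 0x0, []⟩]

theorem t9_795_0 : jobs 8 S9 b8_795 j9_795_0 = true := by decide +kernel

noncomputable def j9_795_1 : List Job := [
  ⟨62, 0x4361909844160901, 0, 32, 0x0, []⟩]

theorem t9_795_1 : jobs 8 S9 b8_795 j9_795_1 = true := by decide +kernel

noncomputable def j9_795_2 : List Job := [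
  ⟨61, 0x4361909844160901, 0, 32, 0x0, []⟩]

theorem t9_795_2 : jobs 8 S9 b8_795 j9_795_2 = true := by decide +kernel

noncomputable def j9_795_3 : List Job := [
  ⟨60, 0x6c966b45aae172be5fec162b65bae976bc5ec361909844160901, 0, 32, 0x0, []⟩]

theorem t9_795_3 : jobs 8 S9 b8_795 j9_795_3 = true := by decide +kernel

noncomputable def j9_795_4 : List Job := [
  ⟨59, 0x4361909844160901, 0, 32, 0x0, []⟩]

theorem t9_795_4 : jobs 8 S9 b8_795 j9_795_4 = true := by decide +kernel

noncomputable def j9_795_5 : List Job := [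
  ⟨58, 0x6c966b45aae172be5fec162b65bae976bc5ec361909844160901, 0, 32, 0x0, []⟩]

theorem t9_795_5 : jobs 8 S9 b8_795 j9_795_5 = true := by decide +kernel

noncomputable def j9_795_6 : List Job := [
  ⟨57, 0x6c966b45aae172be5fec162b65bae976bc5ec361909844160901, 0, 32, 0x0, []⟩]

theorem t9_795_6 : jobs 8 S9 b8_795 j9_795_6 = true := by decide +kernel

noncomputable def j9_795_7 : List Job := [
  ⟨56, 0x4361909844160901, 0, 32, 0x0, []⟩]

theorem t9_795_7 : jobs 8 S9 b8_795 j9_795_7 = true := by decide +kernel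

noncomputable def j9_795_8 : List Job := [
  ⟨55, 0x6c966b45aae172be5fec162b65bae976bc5ec361909844160901, 0, 32, 0x0, []⟩]

theorem t9_795_8 : jobs 8 S9 b8_795 j9_795_8 = true := by decide +kernel

noncomputable def j9_795_9 : List Job := [
  ⟨54, 0x4361909844160901, 0, 32, 0x0, []⟩]

theorem t9_795_9 : jobs 8 S9 b8_795 j9_795_9 = true := by decide +kernel

noncomputable def j9_795_10 : List Job := [
  ⟨53, 0x4361909844160901, 0, 32, 0x0, []⟩]

theorem t9_795_10 : jobs 8 S9 b8_795 j9_795_10 = true := by decide +kernel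

noncomputable def j9_795_11 : List Job := [
  ⟨52, 0x6c966b45aae172be5fec162b65bae976bc5ec361909844160901, 0, 32, 0x0, []⟩]

theorem t9_795_11 : jobs 8 S9 b8_795 j9_795_11 = true := by decide +kernel

noncomputable def j9_795_12 : List Job := [
  ⟨51, 0x4361909844160901, 0, 32, 0x0, []⟩]

theorem t9_795_12 : jobs 8 S9 b8_795 j9_795_12 = true := by decide +kernel

noncomputable def j9_795_13 : List Job := [
  ⟨50, 0x6c966b45aae172be5fec162b65bae976bc5ec361909844160901, 0, 32, 0x0, []⟩]

theorem t9_795_13 : jobs 8 S9 b8_795 j9_795_13 = true := by decide +kernel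

noncomputable def j9_795_14 : List Job := [
  ⟨49, 0x6c966b45aae172be5fec162b65bae976bc5ec361909844160901, 0, 32, 0x0, []⟩]

theorem t9_795_14 : jobs 8 S9 b8_795 j9_795_14 = true := by decide +kernel

noncomputable def j9_795_15 : List Job := [
  ⟨48, 0x4361909844160901, 0, 32, 0x0, []⟩]

theorem t9_795_15 : jobs 8 S9 b8_795 j9_795_15 = true := by decide +kernel

noncomputable def j9_795_16 : List Job := [
  ⟨47, 0x6c966b45aae172be5fec162b65bae976bc5ec361909844160901, 0, 32, 0x0, []⟩]

theorem t9_795_16 : jobs 8 S9 b8_795 j9_795_16 = true := by decide +kernel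

noncomputable def j9_795_17 : List Job := [
  ⟨46, 0x4361909844160901, 0, 32, 0x0, []⟩]

theorem t9_795_17 : jobs 8 S9 b8_795 j9_795_17 = true := by decide +kernel

noncomputable def j9_795_18 : List Job := [
  ⟨45, 0x4361909844160901, 0, 32, 0x0, []⟩]

theorem t9_795_18 : jobs 8 S9 b8_795 j9_795_18 = true := by decide +kernel

noncomputable def j9_795_19 : List Job := [
  ⟨44, 0x6c966b45aae172be5fec162b65bae976bc5ec361909844160901, 0, 32, 0x0, []⟩]

theorem t9_795_19 : jobs 8 S9 b8_795 j9_795_19 = true := by decide +kernel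

noncomputable def j9_795_20 : List Job := [
  ⟨43, 0x4361909844160901, 0, 32, 0x0, []⟩]

theorem t9_795_20 : jobs 8 S9 b8_795 j9_795_20 = true := by decide +kernel

noncomputable def j9_795_21 : List Job := [
  ⟨42, 0x6c966b45aae172be5fec162b65bae976bc5ec361909844160901, 0, 72, 0x8408008809008c08009009, []⟩]

theorem t9_795_21 : jobs 8 S9 b8_795 j9_795_21 = true := by decide +kernel

noncomputable def j9_795_22 : List Job := [
  ⟨10, 0x601028241a110a8643a21128a45a311a8e47c361909844160901, 0, 32, 0x0, []⟩]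

theorem t9_795_22 : jobs 8 S9 b8_795 j9_795_22 = true := by decide +kernel

theorem d9_795 : Dn 8 S9 b8_795 := dn_of (Js := j9_795_0 ++ (j9_795_1 ++ (j9_795_2 ++ (j9_795_3 ++ (j9_795_4 ++ (j9_795_5 ++ (j9_795_6 ++ (j9_795_7 ++ (j9_795_8 ++ (j9_795_9 ++ (j9_795_10 ++ (j9_795_11 ++ (j9_795_12 ++ (j9_795_13 ++ (j9_795_14 ++ (j9_795_15 ++ (j9_795_16 ++ (j9_795_17 ++ (j9_795_18 ++ (j9_795_19 ++ (j9_795_20 ++ (j9_795_21 ++ (j9_795_22 ++ [])))))))))))))))))))))))
  (jobs_append t9_795_0 <| jobs_append t9_795_1 <| jobs_append t9_795_2 <| jobs_append t9_795_3 <| jobs_append t9_795_4 <| jobs_append t9_795_5 <| jobs_append t9_795_6 <| jobs_append t9_795_7 <| jobs_append t9_795_8 <| jobs_append t9_795_9 <| jobs_append t9_795_10 <| jobs_append t9_795_11 <| jobs_append t9_795_12 <| jobs_append t9_795_13 <| jobs_append t9_795_14 <| jobs_append t9_795_15 <| jobs_append t9_795_16 <| jobs_append t9_795_17 <| jobs_append t9_795_18 <| jobs_append t9_795_19 <| jobs_append t9_795_20 <| jobs_append t9_795_21 <| jobs_append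 t9_795_22 <| List.forall_mem_nil _) (by decide +kernel)

noncomputable def j9_796_0 : List Job := [
  ⟨58, 0x6c966b65bae172bc5eec162b45aae976be5fc361909844160901, 0, 2, 0x400, [(1, ⟨2309, 0x11e00490010004500206000d000400404000001, 0x18c218802e020382402⟩)]⟩]

theorem t9_796_0 : jobs 8 S9 b8_796 j9_796_0 = true := by decide +kernel

noncomputable def j9_796_1 : List Job := [
  ⟨48, 0x6c966b65bae172bc5eec162b45aae976be5fc361909844160901, 0, 32, 0x0, []⟩]

theorem t9_796_1 : jobs 8 S9 b8_796 j9_796_1 = true := by decide +kernel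

noncomputable def j9_796_2 : List Job := [
  ⟨16, 0x601028241a110a8643a21128a45a311a8e47c361909844160901, 0, 32, 0x0, []⟩]

theorem t9_796_2 : jobs 8 S9 b8_796 j9_796_2 = true := by decide +kernel

noncomputable def j9_796_3 : List Job := [
  ⟨15, 0x6c966b45aae172be5fec162b65bae976bc5ec381f0a05c160901, 0, 72, 0x0, []⟩]

theorem t9_796_3 : jobs 8 S9 b8_796 j9_796_3 = true := by decide +kernel

noncomputable def j9_796_4 : List Job := [
  ⟨14, 0x4381f0a05c160901, 0, 64, 0x0, []⟩]

theorem t9_796_4 : jobs 8 S9 b8_796 j9_796_4 = true := by decide +kernel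

noncomputable def j9_796_5 : List Job := [
  ⟨13, 0x6c966b45aae172be5fec162b65bae976bc5ec381f0a05c160901, 0, 72, 0x0, []⟩]

theorem t9_796_5 : jobs 8 S9 b8_796 j9_796_5 = true := by decide +kernel

noncomputable def j9_796_6 : List Job := [
  ⟨12, 0x4381f0a05c160901, 0, 128, 0x0, []⟩]

theorem t9_796_6 : jobs 8 S9 b8_796 j9_796_6 = true := by decide +kernel

noncomputable def j9_796_7 : List Job := [
  ⟨11, 0x6c966b45aae172be5fec162b65bae976bc5ec381f0a05c160901, 0, 128, 0x0, []⟩]

theorem t9_796_7 : jobs 8 S9 b8_796 j9_796_7 = true := by decide +kernel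

noncomputable def j9_796_8 : List Job := [
  ⟨10, 0x4381f0a05c160901, 0, 64, 0x0, []⟩]

theorem t9_796_8 : jobs 8 S9 b8_796 j9_796_8 = true := by decide +kernel

noncomputable def j9_796_9 : List Job := [
  ⟨9, 0x6c966b45aae172be5fec162b65bae976bc5ec361909844160901, 0, 32, 0x0, []⟩]

theorem t9_796_9 : jobs 8 S9 b8_796 j9_796_9 = true := by decide +kernel

noncomputable def j9_796_10 : List Job := [
  ⟨8, 0x4361909844160901, 0, 32, 0x0, []⟩]

theorem t9_796_10 : jobs 8 S9 b8_796 j9_796_10 = true := by decide +kernel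

noncomputable def j9_796_11 : List Job := [
  ⟨7, 0x6c966b45aae172be5fec162b65bae976bc5ec361909844160901, 0, 32, 0x0, []⟩]

theorem t9_796_11 : jobs 8 S9 b8_796 j9_796_11 = true := by decide +kernel

noncomputable def j9_796_12 : List Job := [
  ⟨6, 0x4361909844160901, 0, 32, 0x0, []⟩]

theorem t9_796_12 : jobs 8 S9 b8_796 j9_796_12 = true := by decide +kernel

noncomputable def j9_796_13 : List Job := [
  ⟨5, 0x4361909844160901, 0, 32, 0x0, []⟩]

theorem t9_796_13 : jobs 8 S9 b8_796 j9_796_13 = true := by decide +kernel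

noncomputable def j9_796_14 : List Job := [
  ⟨4, 0x6c966b45aae172be5fec162b65bae976bc5ec361909844160901, 0, 32, 0x0, []⟩]

theorem t9_796_14 : jobs 8 S9 b8_796 j9_796_14 = true := by decide +kernel

noncomputable def j9_796_15 : List Job := [
  ⟨3, 0x4361909844160901, 0, 32, 0x0, []⟩]

theorem t9_796_15 : jobs 8 S9 b8_796 j9_796_15 = true := by decide +kernel

noncomputable def j9_796_16 : List Job := [
  ⟨2, 0x6c966b45aae172be5fec162b65bae976bc5ec361909844160901, 0, 32, 0x0, []⟩]

theorem t9_796_16 : jobs 8 S9 b8_796 j9_796_16 = true := by decide +kernel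

noncomputable def j9_796_17 : List Job := [
  ⟨1, 0x6c966b45aae172be5fec162b65bae976bc5ec361909844160901, 0, 32, 0x0, []⟩]

theorem t9_796_17 : jobs 8 S9 b8_796 j9_796_17 = true := by decide +kernel

noncomputable def j9_796_18 : List Job := [
  ⟨0, 0x4361909844160901, 0, 32, 0x0, []⟩]

theorem t9_796_18 : jobs 8 S9 b8_796 j9_796_18 = true := by decide +kernel

theorem d9_796 : Dn 8 S9 b8_796 := dn_of (Js := j9_796_0 ++ (j9_796_1 ++ (j9_796_2 ++ (j9_796_3 ++ (j9_796_4 ++ (j9_796_5 ++ (j9_796_6 ++ (j9_796_7 ++ (j9_796_8 ++ (j9_796_9 ++ (j9_796_10 ++ (j9_796_11 ++ (j9_796_12 ++ (j9_796_13 ++ (j9_796_14 ++ (j9_796_15 ++ (j9_796_16 ++ (j9_796_17 ++ (j9_796_18 ++ [])))))))))))))))))))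
  (jobs_append t9_796_0 <| jobs_append t9_796_1 <| jobs_append t9_796_2 <| jobs_append t9_796_3 <| jobs_append t9_796_4 <| jobs_append t9_796_5 <| jobs_append t9_796_6 <| jobs_append t9_796_7 <| jobs_append t9_796_8 <| jobs_append t9_796_9 <| jobs_append t9_796_10 <| jobs_append t9_796_11 <| jobs_append t9_796_12 <| jobs_append t9_796_13 <| jobs_append t9_796_14 <| jobs_append t9_796_15 <| jobs_append t9_796_16 <| jobs_append t9_796_17 <| jobs_append t9_796_18 <| List.forall_mem_nil _) (by decide +kernel)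

noncomputable def j9_797_0 : List Job := [
  ⟨43, 0x6c162b259ad16ab65bae172ba5daf17abe5fd20924a259309a4e27d008242219108a4623c442a190ec4028180e4361909844160901, 0, 2, 0x201, []⟩]

theorem t9_797_0 : jobs 8 S9 b8_797 j9_797_0 = true := by decide +kernel

noncomputable def j9_797_1 : List Job := [
  ⟨35, 0x6c162b259ad16ab65bae172ba5daf17abe5fd20924a259309a4e27d008242219108a4623c442a190ec4028180e4361909844160901, 0, 32, 0x0, []⟩]

theorem t9_797_1 : jobs 8 S9 b8_797 j9_797_1 = true := by decide +kernel

noncomputable def j9_797_2 : List Job := [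
  ⟨16, 0x6c162b259ad16ab65bae172ba5daf17abe5fe01028241a110a8643a21128a45a311a8e47c4433100c4261101, 0, 19, 0x0, []⟩]

theorem t9_797_2 : jobs 8 S9 b8_797 j9_797_2 = true := by decide +kernel

theorem d9_797 : Dn 8 S9 b8_797 := dn_of (Js := j9_797_0 ++ (j9_797_1 ++ (j9_797_2 ++ [])))
  (jobs_append t9_797_0 <| jobs_append t9_797_1 <| jobs_append t9_797_2 <| List.forall_mem_nil _) (by decide +kernel)

noncomputable def j9_798_0 : List Job := [
  ⟨63, 0x6c56cbb5eec16eba5e601028241a110a8643a21128a45a311a8e47dc0e272399d0ea763b9e0f27a3d9f0fa7e3fc36190b8541e0d01, 0, 32, 0x0, []⟩]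

theorem t9_798_0 : jobs 8 S9 b8_798 j9_798_0 = true := by decide +kernel

noncomputable def j9_798_1 : List Job := [
  ⟨62, 0x6c162b65bae976bc5ec36190b8541e0d01, 0, 32, 0x0, []⟩]

theorem t9_798_1 : jobs 8 S9 b8_798 j9_798_1 = true := by decide +kernel

noncomputable def j9_798_2 : List Job := [
  ⟨61, 0x6c966b45aae172be5fe01028241a110a8643a21128a45a311a8e47c36190b8541e0d01, 0, 32, 0x0, []⟩]

theorem t9_798_2 : jobs 8 S9 b8_798 j9_798_2 = true := by decide +kernel

noncomputable def j9_798_3 : List Job := [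
  ⟨60, 0x6c162b65bae976bc5edc0e272399d0ea763b9e0f27a3d9f0fa7e3fc36190b8541e0d01, 0, 32, 0x0, []⟩]

theorem t9_798_3 : jobs 8 S9 b8_798 j9_798_3 = true := by decide +kernel

noncomputable def j9_798_4 : List Job := [
  ⟨59, 0x6c966b45aae172be5fe01028241a110a8643a21128a45a311a8e47dc0e272399d0ea763b9e0f27a3d9f0fa7e3fc36190b8541e0d01, 0, 32, 0x0, []⟩]

theorem t9_798_4 : jobs 8 S9 b8_798 j9_798_4 = true := by decide +kernel

noncomputable def j9_798_5 : List Job := [
  ⟨58, 0x6cd68b95fec96ab85f5c0e272399d0ea763b9e0f27a3d9f0fa7e3fc36190b8541e0d01, 0, 32, 0x0, []⟩]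

theorem t9_798_5 : jobs 8 S9 b8_798 j9_798_5 = true := by decide +kernel

noncomputable def j9_798_6 : List Job := [
  ⟨57, 0x6c56ebb5e6c16cba5ee01028241a110a8643a21128a45a311a8e47dc0e272399d0ea763b9e0f27a3d9f0fa7e3fc36190b8541e0d01, 0, 32, 0x0, []⟩]

theorem t9_798_6 : jobs 8 S9 b8_798 j9_798_6 = true := by decide +kernel

noncomputable def j9_798_7 : List Job := [
  ⟨56, 0x6cd68b85f6c96ab95fc36190b8541e0d01, 0, 32, 0x0, []⟩]

theorem t9_798_7 : jobs 8 S9 b8_798 j9_798_7 = true := by decide +kernel

noncomputable def j9_798_8 : List Job := [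
  ⟨55, 0x6c56eba5eec16cbb5e601028241a110a8643a21128a45a311a8e47c36190b8541e0d01, 0, 32, 0x0, []⟩]

theorem t9_798_8 : jobs 8 S9 b8_798 j9_798_8 = true := by decide +kernel

noncomputable def j9_798_9 : List Job := [
  ⟨54, 0x6c162b65bae976bc5edc0e272399d0ea763b9e0f27a3d9f0fa7e3fc36190b8541e0d01, 0, 32, 0x0, []⟩]

theorem t9_798_9 : jobs 8 S9 b8_798 j9_798_9 = true := by decide +kernel

noncomputable def j9_798_10 : List Job := [
  ⟨53, 0x6c966b45aae172be5fe01028241a110a8643a21128a45a311a8e47dc0e272399d0ea763b9e0f27a3d9f0fa7e3fc36190b8541e0d01, 0, 32, 0x0, []⟩]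

theorem t9_798_10 : jobs 8 S9 b8_798 j9_798_10 = true := by decide +kernel

noncomputable def j9_798_11 : List Job := [
  ⟨52, 0x6c162b65bae976bc5ec36190b8541e0d01, 0, 32, 0x0, []⟩]

theorem t9_798_11 : jobs 8 S9 b8_798 j9_798_11 = true := by decide +kernel

noncomputable def j9_798_12 : List Job := [
  ⟨51, 0x6c966b45aae172be5fe01028241a110a8643a21128a45a311a8e47c36190b8541e0d01, 0, 32, 0x0, []⟩]

theorem t9_798_12 : jobs 8 S9 b8_798 j9_798_12 = true := by decide +kernel

noncomputable def j9_798_13 : List Job := [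
  ⟨50, 0x6c56cba5e6c16ebb5edc0e272399d0ea763b9e0f27a3d9f0fa7e3fc4826160b868361e0fc4022140a860321c0ec36190b8541e0d01, 0, 32, 0x0, []⟩]

theorem t9_798_13 : jobs 8 S9 b8_798 j9_798_13 = true := by decide +kernel

noncomputable def j9_798_14 : List Job := [
  ⟨49, 0x6cd6ab85fec968b95f601028241a110a8643a21128a45a311a8e47dc0e272399d0ea763b9e0f27a3d9f0fa7e3fc4826160b868361e0fc4022140a860321c0ec36190b8541e0d01, 0, 32, 0x0, []⟩]

theorem t9_798_14 : jobs 8 S9 b8_798 j9_798_14 = true := by decide +kernel

noncomputable def j9_798_15 : List Job := [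
  ⟨48, 0x6c56cbb5eec16eba5e44826160b868361e0fc4022140a860321c0ec36190b8541e0d01, 0, 32, 0x0, []⟩]

theorem t9_798_15 : jobs 8 S9 b8_798 j9_798_15 = true := by decide +kernel

noncomputable def j9_798_16 : List Job := [
  ⟨47, 0x6cd6ab95f6c968b85fe01028241a110a8643a21128a45a311a8e47c4826160b868361e0fc4022140a860321c0ec36190b8541e0d01, 0, 32, 0x0, []⟩]

theorem t9_798_16 : jobs 8 S9 b8_798 j9_798_16 = true := by decide +kernel

noncomputable def j9_798_17 : List Job := [
  ⟨46, 0x6c966b45aae172be5fdc0e272399d0ea763b9e0f27a3d9f0fa7e3fc4826160b868361e0fc4022140a860321c0ec36190b8541e0d01, 0, 32, 0x0, []⟩]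

theorem t9_798_17 : jobs 8 S9 b8_798 j9_798_17 = true := by decide +kernel

noncomputable def j9_798_18 : List Job := [
  ⟨45, 0x6c162b65bae976bc5ee01028241a110a8643a21128a45a311a8e47dc0e272399d0ea763b9e0f27a3d9f0fa7e3fc4826160b868361e0fc4022140a860321c0ec36190b8541e0d01, 0, 32, 0x0, []⟩]

theorem t9_798_18 : jobs 8 S9 b8_798 j9_798_18 = true := by decide +kernel

noncomputable def j9_798_19 : List Job := [
  ⟨44, 0x6c966b45aae172be5fc4826160b868361e0fc4022140a860321c0ec36190b8541e0d01, 0, 32, 0x0, []⟩]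

theorem t9_798_19 : jobs 8 S9 b8_798 j9_798_19 = true := by decide +kernel

noncomputable def j9_798_20 : List Job := [
  ⟨43, 0x6c162b65bae976bc5ee01028241a110a8643a21128a45a311a8e47c4826160b868361e0fc4022140a860321c0ec36190b8541e0d01, 0, 32, 0x0, []⟩]

theorem t9_798_20 : jobs 8 S9 b8_798 j9_798_20 = true := by decide +kernel

noncomputable def j9_798_21 : List Job := [
  ⟨42, 0x6c56ebb5e6c16cba5ec4826160b868361e0fc4022140a860321c0ec36190b8541e0d01, 0, 32, 0x0, []⟩]

theorem t9_798_21 : jobs 8 S9 b8_798 j9_798_21 = true := by decide +kernel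

noncomputable def j9_798_22 : List Job := [
  ⟨41, 0x6cd68b95fec96ab85f601028241a110a8643a21128a45a311a8e47c4826160b868361e0fc4022140a860321c0ec36190b8541e0d01, 0, 32, 0x0, []⟩]

theorem t9_798_22 : jobs 8 S9 b8_798 j9_798_22 = true := by decide +kernel

noncomputable def j9_798_23 : List Job := [
  ⟨40, 0x6c56eba5eec16cbb5e5c0e272399d0ea763b9e0f27a3d9f0fa7e3fc4826160b868361e0fc4022140a860321c0ec36190b8541e0d01, 0, 32, 0x0, []⟩]

theorem t9_798_23 : jobs 8 S9 b8_798 j9_798_23 = true := by decide +kernel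

noncomputable def j9_798_24 : List Job := [
  ⟨39, 0x6cd68b85f6c96ab95fe01028241a110a8643a21128a45a311a8e47dc0e272399d0ea763b9e0f27a3d9f0fa7e3fc4826160b868361e0fc4022140a860321c0ec36190b8541e0d01, 0, 72, 0x4201004801, []⟩]

theorem t9_798_24 : jobs 8 S9 b8_798 j9_798_24 = true := by decide +kernel

noncomputable def j9_798_25 : List Job := [
  ⟨38, 0x6c966b45aae172be5fc4826160b868361e0fc4022140a860321c0ec36190b8541e0d01, 0, 32, 0x0, []⟩]

theorem t9_798_25 : jobs 8 S9 b8_798 j9_798_25 = true := by decide +kernel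

noncomputable def j9_798_26 : List Job := [
  ⟨37, 0x6c162b65bae976bc5ee01028241a110a8643a21128a45a311a8e47c4826160b868361e0fc4022140a860321c0ec36190b8541e0d01, 0, 32, 0x0, []⟩]

theorem t9_798_26 : jobs 8 S9 b8_798 j9_798_26 = true := by decide +kernel

noncomputable def j9_798_27 : List Job := [
  ⟨36, 0x6c966b45aae172be5fdc0e272399d0ea763b9e0f27a3d9f0fa7e3fc4826160b868361e0fc4022140a860321c0ec36190b8541e0d01, 0, 32, 0x0, []⟩]

theorem t9_798_27 : jobs 8 S9 b8_798 j9_798_27 = true := by decide +kernel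

noncomputable def j9_798_28 : List Job := [
  ⟨35, 0x6c162b65bae976bc5ee01028241a110a8643a21128a45a311a8e47dc0e272399d0ea763b9e0f27a3d9f0fa7e3fc4826160b868361e0fc4022140a860321c0ec36190b8541e0d01, 0, 32, 0x0, []⟩]

theorem t9_798_28 : jobs 8 S9 b8_798 j9_798_28 = true := by decide +kernel

noncomputable def j9_798_29 : List Job := [
  ⟨16, 0x520924a259309a4e27d008242219108a4623c442a180e44028190ec361909844160901, 0, 2, 0x201000401, []⟩]

theorem t9_798_29 : jobs 8 S9 b8_798 j9_798_29 = true := by decide +kernel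

noncomputable def j9_798_30 : List Job := [
  ⟨3, 0x520924a259309a4e27d008242219108a4623c442a190ec4028180e4361909844160901, 0, 32, 0x0, []⟩]

theorem t9_798_30 : jobs 8 S9 b8_798 j9_798_30 = true := by decide +kernel

theorem d9_798 : Dn 8 S9 b8_798 := dn_of (Js := j9_798_0 ++ (j9_798_1 ++ (j9_798_2 ++ (j9_798_3 ++ (j9_798_4 ++ (j9_798_5 ++ (j9_798_6 ++ (j9_798_7 ++ (j9_798_8 ++ (j9_798_9 ++ (j9_798_10 ++ (j9_798_11 ++ (j9_798_12 ++ (j9_798_13 ++ (j9_798_14 ++ (j9_798_15 ++ (j9_798_16 ++ (j9_798_17 ++ (j9_798_18 ++ (j9_798_19 ++ (j9_798_20 ++ (j9_798_21 ++ (j9_798_22 ++ (j9_798_23 ++ (j9_798_24 ++ (j9_798_25 ++ (j9_798_26 ++ (j9_798_27 ++ (j9_798_28 ++ (j9_798_29 ++ (j9_798_30 ++ [])))))))))))))))))))))))))))))))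
  (jobs_append t9_798_0 <| jobs_append t9_798_1 <| jobs_append t9_798_2 <| jobs_append t9_798_3 <| jobs_append t9_798_4 <| jobs_append t9_798_5 <| jobs_append t9_798_6 <| jobs_append t9_798_7 <| jobs_append t9_798_8 <| jobs_append t9_798_9 <| jobs_append t9_798_10 <| jobs_append t9_798_11 <| jobs_append t9_798_12 <| jobs_append t9_798_13 <| jobs_append t9_798_14 <| jobs_append t9_798_15 <| jobs_append t9_798_16 <| jobs_append t9_798_17 <| jobs_append t9_798_18 <| jobs_append t9_798_19 <| jobs_append t9_798_20 <| jobs_append t9_798_21 <| jobs_append t9_798_22 <| jobs_append t9_798_23 <| jobs_append t9_798_24 <| jobs_append t9_798_25 <| jobs_append t9_798_26 <| jobs_append t9_798_27 <| jobs_append t9_798_28 <| jobs_append t9_798_29 <| jobs_append t9_798_30 <| List.forall_mem_nil _) (by decide +kernel)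

noncomputable def j9_799_0 : List Job := [
  ⟨46, 0x5d0ea763b9e0f27a3ddc0e272399f0fa7e3fd008242219108a4623920924a259309a4e27c442a180e44028190ec361909844160901, 0, 2, 0x201, []⟩]

theorem t9_799_0 : jobs 8 S9 b8_799 j9_799_0 = true := by decide +kernel

noncomputable def j9_799_1 : List Job := [
  ⟨41, 0x5d0ea763b9e0f27a3ddc0e272399f0fa7e3fd008242219108a4623920924a259309a4e27c442a190ec4028180e4361909844160901, 0, 32, 0x0, []⟩]

theorem t9_799_1 : jobs 8 S9 b8_799 j9_799_1 = true := by decide +kernel

noncomputable def j9_799_2 : List Job := [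
  ⟨14, 0x5c0e272399d0ea763b9e0f27a3d9f0fa7e3fc442a180e44028190ec361909844160901, 0, 2, 0x201, []⟩]

theorem t9_799_2 : jobs 8 S9 b8_799 j9_799_2 = true := by decide +kernel

noncomputable def j9_799_3 : List Job := [
  ⟨9, 0x5c0e272399d0ea763b9e0f27a3d9f0fa7e3fc442a190ec4028180e4361909844160901, 0, 32, 0x0, []⟩]

theorem t9_799_3 : jobs 8 S9 b8_799 j9_799_3 = true := by decide +kernel

noncomputable def j9_799_4 : List Job := [
  ⟨8, 0x6c162b65bae976bc5ec4022140a860321c0ec381f0d864080701, 0, 72, 0x0, []⟩]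

theorem t9_799_4 : jobs 8 S9 b8_799 j9_799_4 = true := by decide +kernel

noncomputable def j9_799_5 : List Job := [
  ⟨7, 0x6c162b65bae976bc5edc0e272399d0ea763b9e0f27a3d9f0fa7e3fc4022140a860321c0ec381f0d864080701, 0, 128, 0x0, []⟩]

theorem t9_799_5 : jobs 8 S9 b8_799 j9_799_5 = true := by decide +kernel

noncomputable def j9_799_6 : List Job := [
  ⟨6, 0x6c966b45aae172be5fe01028241a110a8643a21128a45a311a8e47dc0e272399d0ea763b9e0f27a3d9f0fa7e3fc4022140a860321c0ec381f0d864080701, 0, 72, 0x0, []⟩]

theorem t9_799_6 : jobs 8 S9 b8_799 j9_799_6 = true := by decide +kernel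

noncomputable def j9_799_7 : List Job := [
  ⟨5, 0x6c966b45aae172be5fc4022140a860321c0ec381f0d864080701, 0, 64, 0x0, []⟩]

theorem t9_799_7 : jobs 8 S9 b8_799 j9_799_7 = true := by decide +kernel

noncomputable def j9_799_8 : List Job := [
  ⟨4, 0x6c966b45aae172be5fdc0e272399d0ea763b9e0f27a3d9f0fa7e3fc4022140a860321c0ec381f0d864080701, 0, 128, 0x0, []⟩]

theorem t9_799_8 : jobs 8 S9 b8_799 j9_799_8 = true := by decide +kernel

noncomputable def j9_799_9 : List Job := [
  ⟨3, 0x6c162b65bae976bc5ee01028241a110a8643a21128a45a311a8e47dc0e272399d0ea763b9e0f27a3d9f0fa7e3fc4022140a860321c0ec381f0d864080701, 0, 64, 0x0, []⟩]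

theorem t9_799_9 : jobs 8 S9 b8_799 j9_799_9 = true := by decide +kernel

noncomputable def j9_799_10 : List Job := [
  ⟨2, 0x6cd6ab85fec968b95f436190b8541e0d01, 0, 32, 0x0, []⟩]

theorem t9_799_10 : jobs 8 S9 b8_799 j9_799_10 = true := by decide +kernel

noncomputable def j9_799_11 : List Job := [
  ⟨1, 0x6c56cba5e6c16ebb5ee01028241a110a8643a21128a45a311a8e47c36190b8541e0d01, 0, 32, 0x0, []⟩]

theorem t9_799_11 : jobs 8 S9 b8_799 j9_799_11 = true := by decide +kernel

noncomputable def j9_799_12 : List Job := [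
  ⟨0, 0x6cd6ab95f6c968b85fdc0e272399d0ea763b9e0f27a3d9f0fa7e3fc36190b8541e0d01, 0, 32, 0x0, []⟩]

theorem t9_799_12 : jobs 8 S9 b8_799 j9_799_12 = true := by decide +kernel

theorem d9_799 : Dn 8 S9 b8_799 := dn_of (Js := j9_799_0 ++ (j9_799_1 ++ (j9_799_2 ++ (j9_799_3 ++ (j9_799_4 ++ (j9_799_5 ++ (j9_799_6 ++ (j9_799_7 ++ (j9_799_8 ++ (j9_799_9 ++ (j9_799_10 ++ (j9_799_11 ++ (j9_799_12 ++ [])))))))))))))
  (jobs_append t9_799_0 <| jobs_append t9_799_1 <| jobs_append t9_799_2 <| jobs_append t9_799_3 <| jobs_append t9_799_4 <| jobs_append t9_799_5 <| jobs_append t9_799_6 <| jobs_append t9_799_7 <| jobs_append t9_799_8 <| jobs_append t9_799_9 <| jobs_append t9_799_10 <| jobs_append t9_799_11 <| jobs_append t9_799_12 <| List.forall_mem_nil _) (by decide +kernel)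

noncomputable def j9_800_0 : List Job := [
  ⟨41, 0x5c0e272399d0ea763b9e0f27a3d9f0fa7e3fd20924a259309a4e27d008242219108a4623c361909844160901, 0, 32, 0x0, []⟩]

theorem t9_800_0 : jobs 8 S9 b8_800 j9_800_0 = true := by decide +kernel

noncomputable def j9_800_1 : List Job := [
  ⟨35, 0x601028241a110a8643a21128a45a311a8e47d008242219108a4623920924a259309a4e27c361909844160901, 0, 3, 0x201, []⟩]

theorem t9_800_1 : jobs 8 S9 b8_800 j9_800_1 = true := by decide +kernel

noncomputable def j9_800_2 : List Job := [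
  ⟨29, 0x601028241a110a8643a21128a45a311a8e47d008242219108a4623920924a259309a4e27c361909844160901, 0, 12, 0x0, []⟩]

theorem t9_800_2 : jobs 8 S9 b8_800 j9_800_2 = true := by decide +kernel

noncomputable def j9_800_3 : List Job := [
  ⟨18, 0x4442a180e44028190ec361909844160901, 0, 2, 0x201000401, []⟩]

theorem t9_800_3 : jobs 8 S9 b8_800 j9_800_3 = true := by decide +kernel

noncomputable def j9_800_4 : List Job := [
  ⟨9, 0x4442a190ec4028180e4361909844160901, 0, 20, 0x0, []⟩]

theorem t9_800_4 : jobs 8 S9 b8_800 j9_800_4 = true := by decide +kernel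

theorem d9_800 : Dn 8 S9 b8_800 := dn_of (Js := j9_800_0 ++ (j9_800_1 ++ (j9_800_2 ++ (j9_800_3 ++ (j9_800_4 ++ [])))))
  (jobs_append t9_800_0 <| jobs_append t9_800_1 <| jobs_append t9_800_2 <| jobs_append t9_800_3 <| jobs_append t9_800_4 <| List.forall_mem_nil _) (by decide +kernel)

noncomputable def j9_801_0 : List Job := [
  ⟨61, 0x601028241a110a8643a21128a45a311a8e47c361909844160901, 0, 32, 0x0, []⟩]

theorem t9_801_0 : jobs 8 S9 b8_801 j9_801_0 = true := by decide +kernel

noncomputable def j9_801_1 : List Job := [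
  ⟨29, 0x601028241a110a8643a21128a45a311a8e47dc0e272399d0ea763b9e0f27a3d9f0fa7e3fd108a46239309a4e27d00824221920924a25c361909844160901, 0, 32, 0x0, []⟩]

theorem t9_801_1 : jobs 8 S9 b8_801 j9_801_1 = true := by decide +kernel

noncomputable def j9_801_2 : List Job := [
  ⟨9, 0x4361909844160901, 0, 20, 0x0, []⟩]

theorem t9_801_2 : jobs 8 S9 b8_801 j9_801_2 = true := by decide +kernel

theorem d9_801 : Dn 8 S9 b8_801 := dn_of (Js := j9_801_0 ++ (j9_801_1 ++ (j9_801_2 ++ [])))
  (jobs_append t9_801_0 <| jobs_append t9_801_1 <| jobs_append t9_801_2 <| List.forall_mem_nil _) (by decide +kernel)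

noncomputable def j9_802_0 : List Job := [
  ⟨61, 0x601028241a110a8643a21128a45a311a8e47d008242219108a4623920924a259309a4e27c361909844160901, 0, 20, 0x0, []⟩]

theorem t9_802_0 : jobs 8 S9 b8_802 j9_802_0 = true := by decide +kernel

noncomputable def j9_802_1 : List Job := [
  ⟨29, 0x6c966b45aae172be5fec162b65bae976bc5ec361909844160901, 0, 32, 0x0, []⟩]

theorem t9_802_1 : jobs 8 S9 b8_802 j9_802_1 = true := by decide +kernel

theorem d9_802 : Dn 8 S9 b8_802 := dn_of (Js := j9_802_0 ++ (j9_802_1 ++ []))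
  (jobs_append t9_802_0 <| jobs_append t9_802_1 <| List.forall_mem_nil _) (by decide +kernel)

noncomputable def j9_803_0 : List Job := [
  ⟨49, 0x6c162b259ad16ab65bae172ba5daf17abe5fe01028241a110a8643a21128a45a311a8e47dc0e272399d0ea763b9e0f27a3d9f0fa7e3fd008242219108a4623920924a259309a4e27c4433100c4261101, 0, 19, 0x0, []⟩]

theorem t9_803_0 : jobs 8 S9 b8_803 j9_803_0 = true := by decide +kernel

noncomputable def j9_803_1 : List Job := [
  ⟨17, 0x6d16ab65bae172ba5dec162b259af17abe5fd008242219108a4623920924a259309a4e27c361909844160901, 0, 32, 0x0, []⟩]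

theorem t9_803_1 : jobs 8 S9 b8_803 j9_803_1 = true := by decide +kernel

theorem d9_803 : Dn 8 S9 b8_803 := dn_of (Js := j9_803_0 ++ (j9_803_1 ++ []))
  (jobs_append t9_803_0 <| jobs_append t9_803_1 <| List.forall_mem_nil _) (by decide +kernel)

noncomputable def j9_804_0 : List Job := [
  ⟨36, 0x5c0e272399d0ea763b9e0f27a3d9f0fa7e3fc442a190ec4028180e4361909844160901, 0, 32, 0x0, []⟩]

theorem t9_804_0 : jobs 8 S9 b8_804 j9_804_0 = true := by decide +kernel

noncomputable def j9_804_1 : List Job := [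
  ⟨8, 0x520924a259309a4e27d008242219108a4623c442a190ec4028180e4361909844160901, 0, 2, 0x201000401, []⟩]

theorem t9_804_1 : jobs 8 S9 b8_804 j9_804_1 = true := by decide +kernel

noncomputable def j9_804_2 : List Job := [
  ⟨4, 0x520924a259309a4e27d008242219108a4623c442a190ec4028180e4361909844160901, 0, 32, 0x0, []⟩]

theorem t9_804_2 : jobs 8 S9 b8_804 j9_804_2 = true := by decide +kernel

theorem d9_804 : Dn 8 S9 b8_804 := dn_of (Js := j9_804_0 ++ (j9_804_1 ++ (j9_804_2 ++ [])))
  (jobs_append t9_804_0 <| jobs_append t9_804_1 <| jobs_append t9_804_2 <| List.forall_mem_nil _) (by decide +kernel)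

noncomputable def j9_805_0 : List Job := [
  ⟨63, 0x609068643a29168e47e01028442a21128c46dc8e6763b9e0f27c3edc0e2743a9e8f67e3fc40221209860321a0dc2e15098440e0501, 0, 38, 0x0, []⟩]

theorem t9_805_0 : jobs 8 S9 b8_805 j9_805_0 = true := by decide +kernel

noncomputable def j9_805_1 : List Job := [
  ⟨62, 0x68142a251a914aa653aa152aa55ab15aae57d008242219108a4623920924a259309a4e27c40221209860321a0dc2e15098440e0501, 0, 38, 0x0, []⟩]

theorem t9_805_1 : jobs 8 S9 b8_805 j9_805_1 = true := by decide +kernel

noncomputable def j9_805_2 : List Job := [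
  ⟨61, 0x609068643a29168e47e01028442a21128c46d008242219108a4623920924a259309a4e27c40221209860321a0dc2e15098440e0501, 0, 72, 0x0, []⟩]

theorem t9_805_2 : jobs 8 S9 b8_805 j9_805_2 = true := by decide +kernel

noncomputable def j9_805_3 : List Job := [
  ⟨60, 0x68142a251a914aa653aa152aa55ab15aae57c40221209860321a0dc2e15098440e0501, 0, 72, 0x0, []⟩]

theorem t9_805_3 : jobs 8 S9 b8_805 j9_805_3 = true := by decide +kernel

noncomputable def j9_805_4 : List Job := [
  ⟨59, 0x609068643a29168e47e01028442a21128c46c40221209860321a0dc2e15098440e0501, 0, 72, 0x0, []⟩]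

theorem t9_805_4 : jobs 8 S9 b8_805 j9_805_4 = true := by decide +kernel

noncomputable def j9_805_5 : List Job := [
  ⟨58, 0x68142a251a914aa653aa152aa55ab15aae57dc8e6763b9e0f27c3edc0e2743a9e8f67e3fd008242219108a4623920924a259309a4e27c40221209860321a0dc2e15098440e0501, 0, 72, 0x0, []⟩]

theorem t9_805_5 : jobs 8 S9 b8_805 j9_805_5 = true := by decide +kernel

noncomputable def j9_805_6 : List Job := [
  ⟨57, 0x609068643a29168e47e01028442a21128c46dc8e6763b9e0f27c3edc0e2743a9e8f67e3fd008242219108a4623920924a259309a4e27c40221209860321a0dc2e15098440e0501, 0, 72, 0x0, []⟩]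

theorem t9_805_6 : jobs 8 S9 b8_805 j9_805_6 = true := by decide +kernel

noncomputable def j9_805_7 : List Job := [
  ⟨56, 0x440221209860321a0dc2e15098440e0501, 0, 38, 0x0, []⟩]

theorem t9_805_7 : jobs 8 S9 b8_805 j9_805_7 = true := by decide +kernel

noncomputable def j9_805_8 : List Job := [
  ⟨55, 0x5c8e6763b9e0f27c3edc0e2743a9e8f67e3fd008242219108a4623920924a259309a4e27c40221209860321a0dc2e15098440e0501, 0, 72, 0x0, []⟩]

theorem t9_805_8 : jobs 8 S9 b8_805 j9_805_8 = true := by decide +kernel

noncomputable def j9_805_9 : List Job := [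
  ⟨54, 0x68142a251a914aa653aa152aa55ab15aae57e09068643a29168e47e01028442a21128c46dc8e6763b9e0f27c3edc0e2743a9e8f67e3fd008242219108a4623920924a259309a4e27c40221209860321a0dc2e15098440e0501, 0, 38, 0x0, []⟩]

theorem t9_805_9 : jobs 8 S9 b8_805 j9_805_9 = true := by decide +kernel

noncomputable def j9_805_10 : List Job := [
  ⟨53, 0x609068643a29168e47e01028442a21128c46dc8e6763b9e0f27c3edc0e2743a9e8f67e3fc4424190d44026180dc2e15098440e0501, 0, 38, 0x4202004602004a02, []⟩]

theorem t9_805_10 : jobs 8 S9 b8_805 j9_805_10 = true := by decide +kernel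

noncomputable def j9_805_11 : List Job := [
  ⟨52, 0x68142a251a914aa653aa152aa55ab15aae57d008242219108a4623920924a259309a4e27c4424190d44026180dc2e15098440e0501, 0, 38, 0x4202004602004a02, []⟩]

theorem t9_805_11 : jobs 8 S9 b8_805 j9_805_11 = true := by decide +kernel

noncomputable def j9_805_12 : List Job := [
  ⟨51, 0x609068643a29168e47e01028442a21128c46d008242219108a4623920924a259309a4e27c4424190d44026180dc2e15098440e0501, 0, 72, 0x4202004602004a02004e02, []⟩]

theorem t9_805_12 : jobs 8 S9 b8_805 j9_805_12 = true := by decide +kernel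

noncomputable def j9_805_13 : List Job := [
  ⟨50, 0x68142a251a914aa653aa152aa55ab15aae57c4426190dc4024180d42e15098440e0501, 0, 72, 0x4202004602004a02004e02, []⟩]

theorem t9_805_13 : jobs 8 S9 b8_805 j9_805_13 = true := by decide +kernel

noncomputable def j9_805_14 : List Job := [
  ⟨49, 0x609068643a29168e47e01028442a21128c46c4426190dc4024180d42e15098440e0501, 0, 72, 0x4202004602004a02004e02, []⟩]

theorem t9_805_14 : jobs 8 S9 b8_805 j9_805_14 = true := by decide +kernel

noncomputable def j9_805_15 : List Job := [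
  ⟨48, 0x68142a251a914aa653aa152aa55ab15aae57dc8e6763b9e0f27c3edc0e2743a9e8f67e3fd008242219108a4623920924a259309a4e27c4426190dc4024180d42e15098440e0501, 0, 72, 0x4202004602004a02004e02, []⟩]

theorem t9_805_15 : jobs 8 S9 b8_805 j9_805_15 = true := by decide +kernel

noncomputable def j9_805_16 : List Job := [
  ⟨47, 0x609068643a29168e47e01028442a21128c46dc8e6763b9e0f27c3edc0e2743a9e8f67e3fd008242219108a4623920924a259309a4e27c4426190dc4024180d42e15098440e0501, 0, 72, 0x4202004602004a02004e02, []⟩]

theorem t9_805_16 : jobs 8 S9 b8_805 j9_805_16 = true := by decide +kernel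

noncomputable def j9_805_17 : List Job := [
  ⟨46, 0x44426190dc4024180d42e15098440e0501, 0, 38, 0x4202004602004a02, []⟩]

theorem t9_805_17 : jobs 8 S9 b8_805 j9_805_17 = true := by decide +kernel

noncomputable def j9_805_18 : List Job := [
  ⟨45, 0x5c8e6763b9e0f27c3edc0e2743a9e8f67e3fd008242219108a4623920924a259309a4e27c4426190dc4024180d42e15098440e0501, 0, 72, 0x4202004602004a02004e02, []⟩]

theorem t9_805_18 : jobs 8 S9 b8_805 j9_805_18 = true := by decide +kernel

noncomputable def j9_805_19 : List Job := [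
  ⟨44, 0x68142a251a914aa653aa152aa55ab15aae57e09068643a29168e47e01028442a21128c46dc8e6763b9e0f27c3edc0e2743a9e8f67e3fd008242219108a4623920924a259309a4e27c4426190dc4024180d42e15098440e0501, 0, 69, 0x6c11006e10007210007811007a02007e02008202, []⟩]

theorem t9_805_19 : jobs 8 S9 b8_805 j9_805_19 = true := by decide +kernel

noncomputable def j9_805_20 : List Job := [
  ⟨24, 0x601028241a110a8643a21128a45a311a8e47dc0e272399d0ea763b9e0f27a3d9f0fa7e3fc442a190ec4028180e4361909844160901, 0, 20, 0x0, []⟩]

theorem t9_805_20 : jobs 8 S9 b8_805 j9_805_20 = true := by decide +kernel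

noncomputable def j9_805_21 : List Job := [
  ⟨12, 0x6914aa653aa152aa55e8142a251ab15aae57d20924a259309a4e27d008242219108a4623c442a180e44028190ec361909844160901, 0, 3, 0x0, []⟩]

theorem t9_805_21 : jobs 8 S9 b8_805 j9_805_21 = true := by decide +kernel

noncomputable def j9_805_22 : List Job := [
  ⟨8, 0x6914aa653aa152aa55e8142a251ab15aae57d20924a259309a4e27d008242219108a4623c442a180e44028190ec361909844160901, 0, 2, 0x201000401, []⟩]

theorem t9_805_22 : jobs 8 S9 b8_805 j9_805_22 = true := by decide +kernel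

noncomputable def j9_805_23 : List Job := [
  ⟨4, 0x6914aa653aa152aa55e8142a251ab15aae57d20924a259309a4e27d008242219108a4623c442a190ec4028180e4361909844160901, 0, 20, 0x0, []⟩]

theorem t9_805_23 : jobs 8 S9 b8_805 j9_805_23 = true := by decide +kernel

theorem d9_805 : Dn 8 S9 b8_805 := dn_of (Js := j9_805_0 ++ (j9_805_1 ++ (j9_805_2 ++ (j9_805_3 ++ (j9_805_4 ++ (j9_805_5 ++ (j9_805_6 ++ (j9_805_7 ++ (j9_805_8 ++ (j9_805_9 ++ (j9_805_10 ++ (j9_805_11 ++ (j9_805_12 ++ (j9_805_13 ++ (j9_805_14 ++ (j9_805_15 ++ (j9_805_16 ++ (j9_805_17 ++ (j9_805_18 ++ (j9_805_19 ++ (j9_805_20 ++ (j9_805_21 ++ (j9_805_22 ++ (j9_805_23 ++ []))))))))))))))))))))))))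
  (jobs_append t9_805_0 <| jobs_append t9_805_1 <| jobs_append t9_805_2 <| jobs_append t9_805_3 <| jobs_append t9_805_4 <| jobs_append t9_805_5 <| jobs_append t9_805_6 <| jobs_append t9_805_7 <| jobs_append t9_805_8 <| jobs_append t9_805_9 <| jobs_append t9_805_10 <| jobs_append t9_805_11 <| jobs_append t9_805_12 <| jobs_append t9_805_13 <| jobs_append t9_805_14 <| jobs_append t9_805_15 <| jobs_append t9_805_16 <| jobs_append t9_805_17 <| jobs_append t9_805_18 <| jobs_append t9_805_19 <| jobs_append t9_805_20 <| jobs_append t9_805_21 <| jobs_append t9_805_22 <| jobs_append t9_805_23 <| List.forall_mem_nil _) (by decide +kernel)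

noncomputable def j9_806_0 : List Job := [
  ⟨61, 0x601028241a110a8643a21128a45a311a8e47d008242219108a4623920924a259309a4e27c361909844160901, 0, 12, 0x0, []⟩]

theorem t9_806_0 : jobs 8 S9 b8_806 j9_806_0 = true := by decide +kernel

noncomputable def j9_806_1 : List Job := [
  ⟨41, 0x4442a190ec4028180e4361909844160901, 0, 20, 0x0, []⟩]

theorem t9_806_1 : jobs 8 S9 b8_806 j9_806_1 = true := by decide +kernel

noncomputable def j9_806_2 : List Job := [
  ⟨13, 0x5d0ea763b9e0f27a3ddc0e272399f0fa7e3fd008242219108a4623920924a259309a4e27c442a190ec4028180e4361909844160901, 0, 4, 0x400000600, [(2, ⟨2310, 0x114004100948007000060004008400004000001, 0x18a2088c2c020202402⟩), (1, ⟨2311, 0x114004100940007400060004000400004000001, 0x18a208882e020202402⟩)]⟩]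

theorem t9_806_2 : jobs 8 S9 b8_806 j9_806_2 = true := by decide +kernel

noncomputable def j9_806_3 : List Job := [
  ⟨9, 0x5d0ea763b9e0f27a3ddc0e272399f0fa7e3fd008242219108a4623920924a259309a4e27c442a190ec4028180e4361909844160901, 0, 32, 0x0, []⟩]

theorem t9_806_3 : jobs 8 S9 b8_806 j9_806_3 = true := by decide +kernel

noncomputable def j9_806_4 : List Job := [
  ⟨8, 0x601028442a21128c46dc0e2743a9e8f67e3fc40221209860321a0dc381f0c06c080701, 0, 40, 0x203000403000603000e03001003001203001403001e03002003002203, []⟩]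

theorem t9_806_4 : jobs 8 S9 b8_806 j9_806_4 = true := by decide +kernel

noncomputable def j9_806_5 : List Job := [
  ⟨7, 0x68142a251a914aa653aa152aa55ab15aae57e09068643a29168e47dc8e6763b9e0f27c3ed008242219108a4623920924a259309a4e27c40221209860321a0dc381f0c06c080701, 0, 40, 0x2a03002c03002e03003003003a03003c03003e03004603004803004a03, []⟩]

theorem t9_806_5 : jobs 8 S9 b8_806 j9_806_5 = true := by decide +kernel

noncomputable def j9_806_6 : List Job := [
  ⟨6, 0x601028442a21128c46dc8e6763b9e0f27c3ed008242219108a4623920924a259309a4e27c40221209860321a0dc381f0c06c080701, 0, 64, 0x203000403000603000803001203001403001603001803002203002403002603002803003203003403003603003803, []⟩]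

theorem t9_806_6 : jobs 8 S9 b8_806 j9_806_6 = true := by decide +kernel

noncomputable def j9_806_7 : List Job := [
  ⟨5, 0x601028442a21128c46dc8e6763b9e0f27c3ec180f05824080701, 0, 100, 0x0, []⟩]

theorem t9_806_7 : jobs 8 S9 b8_806 j9_806_7 = true := by decide +kernel

noncomputable def j9_806_8 : List Job := [
  ⟨4, 0x68142a251a914aa653aa152aa55ab15aae57e09068643a29168e47dc0e2743a9e8f67e3fd008242219108a4623920924a259309a4e27c180f05824080701, 0, 100, 0x0, []⟩]

theorem t9_806_8 : jobs 8 S9 b8_806 j9_806_8 = true := by decide +kernel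

noncomputable def j9_806_9 : List Job := [
  ⟨3, 0x601028442a21128c46dc0e2743a9e8f67e3fd008242219108a4623920924a259309a4e27c180f05824080701, 0, 192, 0x0, []⟩]

theorem t9_806_9 : jobs 8 S9 b8_806 j9_806_9 = true := by decide +kernel

noncomputable def j9_806_10 : List Job := [
  ⟨2, 0x601028442a21128c46dc0e2743a9e8f67e3fc502a160b8703a1e0fc40221209860321a0dc180f05824080701, 0, 112, 0x0, []⟩]

theorem t9_806_10 : jobs 8 S9 b8_806 j9_806_10 = true := by decide +kernel

noncomputable def j9_806_11 : List Job := [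
  ⟨1, 0x68142a251a914aa653aa152aa55ab15aae57e09068643a29168e47dc8e6763b9e0f27c3ed008242219108a4623920924a259309a4e27c502a160b8703a1e0fc40221209860321a0dc180f05824080701, 0, 112, 0x0, []⟩]

theorem t9_806_11 : jobs 8 S9 b8_806 j9_806_11 = true := by decide +kernel

noncomputable def j9_806_12 : List Job := [
  ⟨0, 0x601028442a21128c46dc8e6763b9e0f27c3ed008242219108a4623920924a259309a4e27c502a160b8703a1e0fc40221209860321a0dc180f05824080701, 0, 192, 0x0, []⟩]

theorem t9_806_12 : jobs 8 S9 b8_806 j9_806_12 = true := by decide +kernel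

theorem d9_806 : Dn 8 S9 b8_806 := dn_of (Js := j9_806_0 ++ (j9_806_1 ++ (j9_806_2 ++ (j9_806_3 ++ (j9_806_4 ++ (j9_806_5 ++ (j9_806_6 ++ (j9_806_7 ++ (j9_806_8 ++ (j9_806_9 ++ (j9_806_10 ++ (j9_806_11 ++ (j9_806_12 ++ [])))))))))))))
  (jobs_append t9_806_0 <| jobs_append t9_806_1 <| jobs_append t9_806_2 <| jobs_append t9_806_3 <| jobs_append t9_806_4 <| jobs_append t9_806_5 <| jobs_append t9_806_6 <| jobs_append t9_806_7 <| jobs_append t9_806_8 <| jobs_append t9_806_9 <| jobs_append t9_806_10 <| jobs_append t9_806_11 <| jobs_append t9_806_12 <| List.forall_mem_nil _) (by decide +kernel)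

noncomputable def j9_807_0 : List Job := [
  ⟨61, 0x601028241a110a8643a21128a45a311a8e47dc0e272399d0ea763b9e0f27a3d9f0fa7e3fd108a46239309a4e27d00824221920924a25c361909844160901, 0, 32, 0x0, []⟩]

theorem t9_807_0 : jobs 8 S9 b8_807 j9_807_0 = true := by decide +kernel

noncomputable def j9_807_1 : List Job := [
  ⟨41, 0x4361909844160901, 0, 20, 0x0, []⟩]

theorem t9_807_1 : jobs 8 S9 b8_807 j9_807_1 = true := by decide +kernel

noncomputable def j9_807_2 : List Job := [
  ⟨9, 0x5c0e272399d0ea763b9e0f27a3d9f0fa7e3fd20924a259309a4e27d008242219108a4623c361909844160901, 0, 32, 0x0, []⟩]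

theorem t9_807_2 : jobs 8 S9 b8_807 j9_807_2 = true := by decide +kernel

noncomputable def j9_807_3 : List Job := [
  ⟨6, 0x601028241a110a8643a21128a45a311a8e47d008242219108a4623920924a259309a4e27c361909844160901, 0, 3, 0x201, []⟩]

theorem t9_807_3 : jobs 8 S9 b8_807 j9_807_3 = true := by decide +kernel

theorem d9_807 : Dn 8 S9 b8_807 := dn_of (Js := j9_807_0 ++ (j9_807_1 ++ (j9_807_2 ++ (j9_807_3 ++ []))))
  (jobs_append t9_807_0 <| jobs_append t9_807_1 <| jobs_append t9_807_2 <| jobs_append t9_807_3 <| List.forall_mem_nil _) (by decide +kernel)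

noncomputable def j9_808_0 : List Job := [
  ⟨61, 0x6914aa653aa152aa55e8142a251ab15aae57c361909844160901, 0, 32, 0x0, []⟩]

theorem t9_808_0 : jobs 8 S9 b8_808 j9_808_0 = true := by decide +kernel

noncomputable def j9_808_1 : List Job := [
  ⟨29, 0x601028241a110a8643a21128a45a311a8e47c361909844160901, 0, 32, 0x0, []⟩]

theorem t9_808_1 : jobs 8 S9 b8_808 j9_808_1 = true := by decide +kernel

theorem d9_808 : Dn 8 S9 b8_808 := dn_of (Js := j9_808_0 ++ (j9_808_1 ++ []))
  (jobs_append t9_808_0 <| jobs_append t9_808_1 <| List.forall_mem_nil _) (by decide +kernel)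

noncomputable def j9_809_0 : List Job := [
  ⟨49, 0x68946a452aa152ae57e8142a653aa956ac56d008242219108a4623920924a259309a4e27c361909844160901, 0, 32, 0x0, []⟩]

theorem t9_809_0 : jobs 8 S9 b8_809 j9_809_0 = true := by decide +kernel

noncomputable def j9_809_1 : List Job := [
  ⟨29, 0x601028241a110a8643a21128a45a311a8e47d008242219108a4623920924a259309a4e27c361909844160901, 0, 20, 0x0, []⟩]

theorem t9_809_1 : jobs 8 S9 b8_809 j9_809_1 = true := by decide +kernel

theorem d9_809 : Dn 8 S9 b8_809 := dn_of (Js := j9_809_0 ++ (j9_809_1 ++ []))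
  (jobs_append t9_809_0 <| jobs_append t9_809_1 <| List.forall_mem_nil _) (by decide +kernel)

noncomputable def j9_810_0 : List Job := [
  ⟨62, 0x68142a251a914aa653aa152aa55ab15aae57e41229249a512a964ba61329a4da713a9e4fe110a8643a311a8e47e01028241a21128a45d80c26231990ca66339a0d26a359b0da6e37d40a25229950aa562b960b25a2d970ba5e2fd108a46239309a4e27d00824221920924a25c844b20124442b100a4160901, 0, 31, 0x200000600000c08001000001400001e08003201, [(9, ⟨2315, 0x2700083000200008000040010400004000040000001, 0x1424684040080200802⟩), (7, ⟨2313, 0x220008c002400004000048010400004004040000001, 0x14e4208020090200802⟩), (2, ⟨2314, 0x2700083000200008000040010400004000040000001, 0x1424684040080200802⟩), (0, ⟨2312, 0x220008c002400004000048010400004004040000001, 0x14e4208020090200802⟩)]⟩]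

theorem t9_810_0 : jobs 8 S9 b8_810 j9_810_0 = true := by decide +kernel

noncomputable def j9_810_1 : List Job := [
  ⟨43, 0x68142a251a914aa653aa152aa55ab15aae57e01028241a110a8643a21128a45a311a8e47dc0e272399d0ea763b9e0f27a3d9f0fa7e3fd008242219108a4623920924a259309a4e27c4433100c4261101, 0, 19, 0x0, []⟩]

theorem t9_810_1 : jobs 8 S9 b8_810 j9_810_1 = true := by decide +kernel

noncomputable def j9_810_2 : List Job := [
  ⟨42, 0x68946a452aa152ae57e8142a653aa956ac56dc8e6743a9e0f27e3fdc0e2763b9e8f67c3ec381f0a05c160901, 0, 36, 0x0, []⟩]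

theorem t9_810_2 : jobs 8 S9 b8_810 j9_810_2 = true := by decide +kernel

noncomputable def j9_810_3 : List Job := [
  ⟨41, 0x4381f0a05c160901, 0, 36, 0x0, []⟩]

theorem t9_810_3 : jobs 8 S9 b8_810 j9_810_3 = true := by decide +kernel

noncomputable def j9_810_4 : List Job := [
  ⟨40, 0x68946a452aa152ae57e8142a653aa956ac56c381f0a05c160901, 0, 64, 0x0, []⟩]

theorem t9_810_4 : jobs 8 S9 b8_810 j9_810_4 = true := by decide +kernel

noncomputable def j9_810_5 : List Job := [
  ⟨39, 0x68946a452aa152ae57e8142a653aa956ac56dc8e6743a9e0f27e3fdc0e2763b9e8f67c3ec381f0a05c160901, 0, 48, 0x0, []⟩]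

theorem t9_810_5 : jobs 8 S9 b8_810 j9_810_5 = true := by decide +kernel

noncomputable def j9_810_6 : List Job := [
  ⟨38, 0x4381f0a05c160901, 0, 40, 0x0, []⟩]

theorem t9_810_6 : jobs 8 S9 b8_810 j9_810_6 = true := by decide +kernel

noncomputable def j9_810_7 : List Job := [
  ⟨37, 0x68946a452aa152ae57e8142a653aa956ac56c381f0a05c160901, 0, 64, 0x0, []⟩]

theorem t9_810_7 : jobs 8 S9 b8_810 j9_810_7 = true := by decide +kernel

noncomputable def j9_810_8 : List Job := [
  ⟨36, 0x68946a452aa152ae57e8142a653aa956ac56dc8e6743a9e0f27e3fdc0e2763b9e8f67c3ec361909844160901, 0, 20, 0x0, []⟩]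

theorem t9_810_8 : jobs 8 S9 b8_810 j9_810_8 = true := by decide +kernel

noncomputable def j9_810_9 : List Job := [
  ⟨35, 0x68946a452aa152ae57e8142a653aa956ac56c361909844160901, 0, 32, 0x0, []⟩]

theorem t9_810_9 : jobs 8 S9 b8_810 j9_810_9 = true := by decide +kernel

noncomputable def j9_810_10 : List Job := [
  ⟨34, 0x4361909844160901, 0, 20, 0x0, []⟩]

theorem t9_810_10 : jobs 8 S9 b8_810 j9_810_10 = true := by decide +kernel

noncomputable def j9_810_11 : List Job := [
  ⟨33, 0x68946a452aa152ae57e8142a653aa956ac56c361909844160901, 0, 32, 0x0, []⟩]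

theorem t9_810_11 : jobs 8 S9 b8_810 j9_810_11 = true := by decide +kernel

noncomputable def j9_810_12 : List Job := [
  ⟨32, 0x4361909844160901, 0, 32, 0x0, []⟩]

theorem t9_810_12 : jobs 8 S9 b8_810 j9_810_12 = true := by decide +kernel

noncomputable def j9_810_13 : List Job := [
  ⟨31, 0x68946a452aa152ae57e8142a653aa956ac56dc8e6743a9e0f27e3fdc0e2763b9e8f67c3ec361909844160901, 0, 32, 0x0, []⟩]

theorem t9_810_13 : jobs 8 S9 b8_810 j9_810_13 = true := by decide +kernel

noncomputable def j9_810_14 : List Job := [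
  ⟨30, 0x5c8e6743a9e0f27e3fdc0e2763b9e8f67c3ec361909844160901, 0, 32, 0x0, []⟩]

theorem t9_810_14 : jobs 8 S9 b8_810 j9_810_14 = true := by decide +kernel

noncomputable def j9_810_15 : List Job := [
  ⟨29, 0x4361909844160901, 0, 20, 0x0, []⟩]

theorem t9_810_15 : jobs 8 S9 b8_810 j9_810_15 = true := by decide +kernel

noncomputable def j9_810_16 : List Job := [
  ⟨28, 0x5c8e6743a9e0f27e3fdc0e2763b9e8f67c3ec361909844160901, 0, 32, 0x0, []⟩]

theorem t9_810_16 : jobs 8 S9 b8_810 j9_810_16 = true := by decide +kernel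

noncomputable def j9_810_17 : List Job := [
  ⟨27, 0x68946a452aa152ae57e8142a653aa956ac56dc8e6743a9e0f27e3fdc0e2763b9e8f67c3ec361909844160901, 0, 20, 0x0, []⟩]

theorem t9_810_17 : jobs 8 S9 b8_810 j9_810_17 = true := by decide +kernel

noncomputable def j9_810_18 : List Job := [
  ⟨26, 0x68946a452aa152ae57e8142a653aa956ac56dc8e6743a9e0f27e3fdc0e2763b9e8f67c3ec361909844160901, 0, 20, 0x0, []⟩]

theorem t9_810_18 : jobs 8 S9 b8_810 j9_810_18 = true := by decide +kernel

noncomputable def j9_810_19 : List Job := [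
  ⟨25, 0x68946a452aa152ae57e8142a653aa956ac56c361909844160901, 0, 32, 0x0, []⟩]

theorem t9_810_19 : jobs 8 S9 b8_810 j9_810_19 = true := by decide +kernel

noncomputable def j9_810_20 : List Job := [
  ⟨24, 0x4361909844160901, 0, 20, 0x0, []⟩]

theorem t9_810_20 : jobs 8 S9 b8_810 j9_810_20 = true := by decide +kernel

noncomputable def j9_810_21 : List Job := [
  ⟨23, 0x68946a452aa152ae57e8142a653aa956ac56c361909844160901, 0, 32, 0x0, []⟩]

theorem t9_810_21 : jobs 8 S9 b8_810 j9_810_21 = true := by decide +kernel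

noncomputable def j9_810_22 : List Job := [
  ⟨22, 0x4361909844160901, 0, 32, 0x0, []⟩]

theorem t9_810_22 : jobs 8 S9 b8_810 j9_810_22 = true := by decide +kernel

noncomputable def j9_810_23 : List Job := [
  ⟨21, 0x68946a452aa152ae57e8142a653aa956ac56dc8e6743a9e0f27e3fdc0e2763b9e8f67c3ec361909844160901, 0, 32, 0x0, []⟩]

theorem t9_810_23 : jobs 8 S9 b8_810 j9_810_23 = true := by decide +kernel

noncomputable def j9_810_24 : List Job := [
  ⟨20, 0x5c8e6743a9e0f27e3fdc0e2763b9e8f67c3ec361909844160901, 0, 32, 0x0, []⟩]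

theorem t9_810_24 : jobs 8 S9 b8_810 j9_810_24 = true := by decide +kernel

noncomputable def j9_810_25 : List Job := [
  ⟨19, 0x4361909844160901, 0, 20, 0x0, []⟩]

theorem t9_810_25 : jobs 8 S9 b8_810 j9_810_25 = true := by decide +kernel

noncomputable def j9_810_26 : List Job := [
  ⟨18, 0x5c8e6743a9e0f27e3fdc0e2763b9e8f67c3ec361909844160901, 0, 32, 0x0, []⟩]

theorem t9_810_26 : jobs 8 S9 b8_810 j9_810_26 = true := by decide +kernel

noncomputable def j9_810_27 : List Job := [
  ⟨17, 0x68946a452aa152ae57e8142a653aa956ac56dc8e6743a9e0f27e3fdc0e2763b9e8f67c3ec361909844160901, 0, 46, 0x5208005408005608005808, []⟩]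

theorem t9_810_27 : jobs 8 S9 b8_810 j9_810_27 = true := by decide +kernel

theorem d9_810 : Dn 8 S9 b8_810 := dn_of (Js := j9_810_0 ++ (j9_810_1 ++ (j9_810_2 ++ (j9_810_3 ++ (j9_810_4 ++ (j9_810_5 ++ (j9_810_6 ++ (j9_810_7 ++ (j9_810_8 ++ (j9_810_9 ++ (j9_810_10 ++ (j9_810_11 ++ (j9_810_12 ++ (j9_810_13 ++ (j9_810_14 ++ (j9_810_15 ++ (j9_810_16 ++ (j9_810_17 ++ (j9_810_18 ++ (j9_810_19 ++ (j9_810_20 ++ (j9_810_21 ++ (j9_810_22 ++ (j9_810_23 ++ (j9_810_24 ++ (j9_810_25 ++ (j9_810_26 ++ (j9_810_27 ++ []))))))))))))))))))))))))))))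
  (jobs_append t9_810_0 <| jobs_append t9_810_1 <| jobs_append t9_810_2 <| jobs_append t9_810_3 <| jobs_append t9_810_4 <| jobs_append t9_810_5 <| jobs_append t9_810_6 <| jobs_append t9_810_7 <| jobs_append t9_810_8 <| jobs_append t9_810_9 <| jobs_append t9_810_10 <| jobs_append t9_810_11 <| jobs_append t9_810_12 <| jobs_append t9_810_13 <| jobs_append t9_810_14 <| jobs_append t9_810_15 <| jobs_append t9_810_16 <| jobs_append t9_810_17 <| jobs_append t9_810_18 <| jobs_append t9_810_19 <| jobs_append t9_810_20 <| jobs_append t9_810_21 <| jobs_append t9_810_22 <| jobs_append t9_810_23 <| jobs_append t9_810_24 <| jobs_append t9_810_25 <| jobs_append t9_810_26 <| jobs_append t9_810_27 <| List.forall_mem_nil _) (by decide +kernel)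

noncomputable def j9_811_0 : List Job := [
  ⟨29, 0x6c162b259ad16ab65bae172ba5daf17abe5fd80c26231990ca66339a0d26a359b0da6e37d40a25229950aa562b960b25a2d970ba5e2fd20924a259309a4e27d008242219108a4623c8453201444433100c4261101, 0, 40, 0x210000600000c10001000002610002811, [(7, ⟨2348, 0x224014b0046400200041401080040801010000001, 0x185230404a040480802⟩), (2, ⟨2347, 0x2100042000a000100041c01080040c01010040001, 0x1882109020040580c02⟩)]⟩]

theorem t9_811_0 : jobs 8 S9 b8_811 j9_811_0 = true := by decide +kernel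

theorem d9_811 : Dn 8 S9 b8_811 := dn_of (Js := j9_811_0 ++ [])
  (jobs_append t9_811_0 <| List.forall_mem_nil _) (by decide +kernel)

noncomputable def j9_812_0 : List Job := [
  ⟨62, 0x6c162b259ad16ab65bae172ba5daf17abe5fe8142a251a914aa653aa152aa55ab15aae57e41229249a512a964ba61329a4da713a9e4fdc0e272399d0ea763b9e0f27a3d9f0fa7e3fd80c26231990ca66339a0d26a359b0da6e37d40a25229950aa562b960b25a2d970ba5e2fc261101, 0, 13, 0x0, []⟩]

theorem t9_812_0 : jobs 8 S9 b8_812 j9_812_0 = true := by decide +kernel

noncomputable def j9_812_1 : List Job := [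
  ⟨42, 0x6c162b259ad16ab65bae172ba5daf17abe5fe8142a251a914aa653aa152aa55ab15aae57e41229249a512a964ba61329a4da713a9e4fd20924a259309a4e27d008242219108a4623c261101, 0, 20, 0x210000410000611000811000a10000c11000e11001010001211001411, []⟩]

theorem t9_812_1 : jobs 8 S9 b8_812 j9_812_1 = true := by decide +kernel

noncomputable def j9_812_2 : List Job := [
  ⟨29, 0x621128a45a311a8e47e01028241a110a8643d20924a259309a4e27d008242219108a4623c261101, 0, 13, 0x210000410000610000811000a10000c11000e10001010001211, []⟩]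

theorem t9_812_2 : jobs 8 S9 b8_812 j9_812_2 = true := by decide +kernel

noncomputable def j9_812_3 : List Job := [
  ⟨5, 0x6c162b259ad16ab65bae172ba5daf17abe5fdc0e272399d0ea763b9e0f27a3d9f0fa7e3fc8453201444433100c4261101, 0, 24, 0x0, []⟩]

theorem t9_812_3 : jobs 8 S9 b8_812 j9_812_3 = true := by decide +kernel

theorem d9_812 : Dn 8 S9 b8_812 := dn_of (Js := j9_812_0 ++ (j9_812_1 ++ (j9_812_2 ++ (j9_812_3 ++ []))))
  (jobs_append t9_812_0 <| jobs_append t9_812_1 <| jobs_append t9_812_2 <| jobs_append t9_812_3 <| List.forall_mem_nil _) (by decide +kernel)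

noncomputable def j9_813_0 : List Job := [
  ⟨63, 0x4783f1a0dc582f1209c301b09844100b01, 0, 80, 0x202000a03001602002601004203006001, []⟩]

theorem t9_813_0 : jobs 8 S9 b8_813 j9_813_0 = true := by decide +kernel

noncomputable def j9_813_1 : List Job := [
  ⟨62, 0x4f07a3e1fce0723a1dcd06a361bcc0623219cb05a2e17ca0522a15c904a2613c80422211c783f1a0dc582f1209c301b09844100b01, 0, 80, 0x200001602001e01002803003e00005c01006602008602, [(30, ⟨2403, 0x2400048004a401110041400080000c01010040400, 0x3902209422040440c01⟩), (0, ⟨2435, 0x210004f004c000110001400090040800010000001, 0x189270c022050480802⟩)]⟩]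

theorem t9_813_1 : jobs 8 S9 b8_813 j9_813_1 = true := by decide +kernel

noncomputable def j9_813_2 : List Job := [
  ⟨61, 0x4b05a2e17ca0522a15c904a2613c80422211c381f0c06c2e1509844180f0402c0e0501, 0, 42, 0x202000801002e01004210004801004c03005002, []⟩]

theorem t9_813_2 : jobs 8 S9 b8_813 j9_813_2 = true := by decide +kernel

noncomputable def j9_813_3 : List Job := [
  ⟨60, 0x4b45d2c17ca45728154944d2413c844720114381f0c06c2e1509844180f0402c0e0501, 0, 44, 0x202001402001802001e02002202002803002c02003803004610005003, []⟩]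

theorem t9_813_3 : jobs 8 S9 b8_813 j9_813_3 = true := by decide +kernel

noncomputable def j9_813_4 : List Job := [
  ⟨59, 0x4b05a2e17ca0522a15c904a2613c80422211c703b180cc502b1008c301b09844100b01, 0, 94, 0x603000c01001001001a02001c01002201002601002a01002c01002e00004203004602004c03005601005c01006203006801006a01006e01007201007401007603008001008a10008c01009011009e0100a40100a80100b801, [(22, ⟨2431, 0x220017b004a001100041800080040801010000401, 0x3843909020040540802⟩)]⟩]

theorem t9_813_4 : jobs 8 S9 b8_813 j9_813_4 = true := by decide +kernel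

noncomputable def j9_813_5 : List Job := [
  ⟨58, 0x4f07a3e1fcd06a361bca0522a15c80422211c7e3d180cc582f1008c381f0804c180f01, 0, 168, 0xa01000e01001203001801002202002401002801002e01003001003600003c01004201004401004a00004e00005200005401005802005c02006601006801006c01006e02007201007603007a01008003008401008a01008c01008e01009201009a0100a00100a20000a80300ac0100ae0100b00100b20000b40100b60000ba0000bc0300c00100c20100c40100c60100c80100ca0100ce0100d60100dc0100de0300e80100ee01010200010600010801010a00010e01011001011602011801011c01012201012401012e01013401013e02014001014201014602014801014c02, [(132, ⟨2434, 0x2080045004f801110041400090000c01010000001, 0x182248f822050480c02⟩), (130, ⟨2433, 0x2080045004f801110041400090000c01010000001, 0x182248f822050480c02⟩), (128, ⟨2432, 0x2200045000a000110001400090000c00010000001, 0x1852489422050480c02⟩), (92, ⟨2411, 0x3840049000dc011f0001400080000801000040400, 0x2f4224d03c040440801⟩), (90, ⟨2397, 0x3f0014900484011f0001400080000801000040400, 0x2f2224823c040440801⟩), (88, ⟨2408, 0x2d80149000d801120001400080000800010040400,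 0x3a0224e226040440801⟩), (80, ⟨2398, 0x3b0017b00480001e0001801090040c01000040400, 0x2d0bd48039048500a01⟩), (40, ⟨2410, 0x3440153000e0001c0041000090000801010040400, 0x3c62f0e238048400801⟩), (38, ⟨2402, 0x30400520008c011c0001000090000800010040400, 0x3daaf48838048400801⟩), (36, ⟨2395, 0x2200045004a001110001400090000c00010040400, 0x384a489421048440a01⟩), (26, ⟨2431, 0x248015a000a001110001400090040c01010000001, 0x1932b09422050480c02⟩)]⟩]

theorem t9_813_5 : jobs 8 S9 b8_813 j9_813_5 = true := by decide +kernel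

noncomputable def j9_813_6 : List Job := [
  ⟨57, 0x4783f1c0ec6837180cc582f140ac48271008c381f0c06c2e1509844180f0402c0e0501, 0, 62, 0x202000601001000001802001a01001c01002002002201002401002802003801003a01004001004402004c10004e01005001005213005401005800005a01005c01005e01006001006201006401006612006c01007202007602, [(43, ⟨2430, 0x460004f002540004400028010800204000040080001, 0x18d2709822040480802⟩), (7, ⟨2429, 0x440017b002500044000030010800204000040000001, 0x1843909020040500802⟩)]⟩]

theorem t9_813_6 : jobs 8 S9 b8_813 j9_813_6 = true := by decide +kernel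

noncomputable def j9_813_7 : List Job := [
  ⟨56, 0x4f07a3e1fce0723a1dcd06a361bcc0623219cb45d2c17ca45728154944d2413c844720114783f1c0ec6837180cc582f140ac48271008c381f0c06c2e1509844180f0402c0e0501, 0, 94, 0x200001400001c00002800003000003c10004410004c13005612006000006800007600008600009201009c0100ae0000b20000b401, [(88, ⟨2428, 0x538005f0024a0004c00828000900006000040000001, 0x1a32e0a024050480c02⟩), (86, ⟨2427, 0x538005f0024a0004c00828000900206000040000001, 0x1a32e0a024050480c02⟩), (66, ⟨2420, 0x6f0005a000520007000820010900004004040080001, 0x1cc2d0903a050400802⟩), (58, ⟨2403, 0x6f0015a002520007000020000900004000000080800, 0x2cc2d09039048400801⟩), (51, ⟨2426, 0x4880066000540004000830000800204004040080001, 0x1913709820040500802⟩), (47, ⟨2425, 0x4880066000540004000830010800004000040080001, 0x1913709820040500802⟩), (23, ⟨2424, 0x448007b000520004000030010900004000040000001, 0x1843909020050500802⟩), (19, ⟨2423, 0x448017b002520044000830000900204004040000001, 0x1843909020050500802⟩), (13, ⟨2422, 0x448007b000520004000830000900004004040000001,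 0x1843909020050500802⟩), (9, ⟨2421, 0x448017b002520044000030010900204000040000001, 0x1843909020050500802⟩), (0, ⟨2419, 0x448007b000520004000830010900004004040000001, 0x1843909020050500802⟩)]⟩]

theorem t9_813_7 : jobs 8 S9 b8_813 j9_813_7 = true := by decide +kernel

noncomputable def j9_813_8 : List Job := [
  ⟨55, 0x4e0723a1dcc0623219ca0522a15c80422211c6837180cc4e251188428170804c0e0501, 0, 66, 0x202000601000c02001001001401001603001e01002001002202002601002c02003001003601003801003a02003e02004001004201004401004a01004c01005401005601005801005e02006001006202006602006a01007401007e01, []⟩]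

theorem t9_813_8 : jobs 8 S9 b8_813 j9_813_8 = true := by decide +kernel

noncomputable def j9_813_9 : List Job := [
  ⟨54, 0x4e475381dcc46730194a4552815c8447201146837180cc4e251188428170804c0e0501, 0, 66, 0x200000601000a01000c02001001001603001e01002001002200002601002c00003001003600003801003a00003e00004001004201004403004a01004c01004e00005401005601005803005e00006001006200006600006a01007202007401007603007c02007e01008003, [(50, ⟨2418, 0x2a4014e004c401130041001090000801010000001, 0x1b6270c826050400802⟩), (48, ⟨2417, 0x2a4004e000c400130001001090000801010000001, 0x1b6270c826050400802⟩), (46, ⟨2416, 0x210014a004a400100001401080000c00010000001, 0x1882389420040480c02⟩), (38, ⟨2413, 0x22000530048801110041000080000800010000001, 0x1842908822040400802⟩), (30, ⟨2410, 0x22000530048801110001000080000800000040400, 0x2842908821040400801⟩), (28, ⟨2402, 0x22000530008801110001000080000800000040400, 0x2842908821040400801⟩), (26, ⟨2395, 0x22001530048801110001000080040800000040400, 0x2842908821040400801⟩), (21, ⟨2415, 0x220017a004a001110041c00080040c01010000001,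 0x1843909022040500c02⟩), (16, ⟨2414, 0x220017a004a001110001c01080040c00010000001, 0x1843909022040500c02⟩), (0, ⟨2412, 0x220007a000a000110041c01080000c01010000001, 0x1843909022040500c02⟩)]⟩]

theorem t9_813_9 : jobs 8 S9 b8_813 j9_813_9 = true := by decide +kernel

noncomputable def j9_813_10 : List Job := [
  ⟨53, 0x47e3d1b8d45e2d13894361909844160901, 0, 80, 0x202000601000a03001602001e02002201002603002802002c02003a00004001004602004c03005a02005e01006202006602006a03006c24007813007c01008202008603008a03009400009e12, [(73, ⟨2411, 0x214014d000c400100001000080040800010000001, 0x189268c020040400802⟩), (28, ⟨2410, 0x214014d000c400100001000080040800010000001, 0x189268c020040400802⟩)]⟩]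

theorem t9_813_10 : jobs 8 S9 b8_813 j9_813_10 = true := by decide +kernel

noncomputable def j9_813_11 : List Job := [
  ⟨52, 0x4f07a3e1fce0723a1dcd06a361bcc0623219cb05a2e17ca0522a15c904a2613c80422211c7e3d1b8d45e2d13894361909844160901, 0, 162, 0x200000601001602001e01002201002802002c02003a00004001004600005a02005e02006201006602006c26007410007601007c01007e01008001008200008401008601008801008e01009201009601009a01009c00009e0100a00100a20100a60100a80100aa0100ac0100ae1000b00100b40100b80100ba0100bc0100be1000c00100c61000c80100cc0100d00100d20100d40100d60100d80000da0100dc0100de0100e40100e80100ec0100ee1000f20100f40100f60100f80100fa0100fc0000fe01010401010801010a01010c01010e01011201011410011810012002012602012a01013800013e10, [(155, ⟨2408, 0x4380048002780044400820010800006000040000001, 0x18b220f022040400c02⟩), (125, ⟨2409, 0x428014c002620044000820000800204004040000001, 0x189260c020040400802⟩), (107, ⟨2407, 0x428004d000620004000820000800004000040000001, 0x189268c020040400802⟩), (77, ⟨2406, 0x428014c002620044000020010800204000040000001,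 0x189260c020040400802⟩), (64, ⟨2405, 0x428014c002620004000820000800204004040000001, 0x189260c020040400802⟩), (34, ⟨2403, 0x4080056000480044000020010800204004040000001, 0x1812d0a020040400802⟩), (28, ⟨2402, 0x428014c000620004000020000800204000040000001, 0x189260c020040400802⟩), (0, ⟨2404, 0x428004c002620004000020000800204000040000001, 0x189260c020040400802⟩)]⟩]

theorem t9_813_11 : jobs 8 S9 b8_813 j9_813_11 = true := by decide +kernel

noncomputable def j9_813_12 : List Job := [
  ⟨51, 0x4f07a3e1fcd06a361bca0522a15c80422211c783f180cc582f1008c381f0804c180f01, 0, 168, 0x202000401001002001601001a03002001002a02002e01003401003a01004002004401004801004c01004e03005201005e01006802006c01006e01008601008801008a01008e03009401009801009e0200a80100b00100b20100b40100b60100ba0100bc0100c00100c40100c80100d40100da0300e40100ec0100f80000fc01010203010401011603011801011a01011e03012001013403013801013c01013e01014803014c01, [(123, ⟨2398, 0x25c005f004a000100001000090040c01010000001, 0x19a2f89420050400c02⟩)]⟩]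

theorem t9_813_12 : jobs 8 S9 b8_813 j9_813_12 = true := by decide +kernel

noncomputable def j9_813_13 : List Job := [
  ⟨50, 0x4b05a2e17ca0522a15c904a2613c80422211c703b180cc502b1008c361909844160901, 0, 94, 0x202000603000a01001001001a00001c01002001002e02003203003801004200004801004e02005203005802006401006e02007201007601007a01007e01008001008202008a10008c01009013009402009a0200a20300a80100ae0000b402, [(86, ⟨2397, 0x23c014c000a000110041000080040c00010000001, 0x18f2609022040400c02⟩), (32, ⟨2395, 0x27c01560048000110041001090040800010000001, 0x19e2d08022050400802⟩), (12, ⟨2396, 0x2500141000a400100001000080000c01010000001, 0x1982089420040400c02⟩)]⟩]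

theorem t9_813_13 : jobs 8 S9 b8_813 j9_813_13 = true := by decide +kernel

noncomputable def j9_813_14 : List Job := [
  ⟨38, 0x7c9e6f47abe1f2fe7fe01028241a21128a45c381f0c06c28170804c180f0402c080701, 0, 64, 0x0, []⟩]

theorem t9_813_14 : jobs 8 S9 b8_813 j9_813_14 = true := by decide +kernel

noncomputable def j9_813_15 : List Job := [
  ⟨37, 0x7c1e2f67bbe9f6fc7ee01028241a21128a45c60321a0d8703a1e0fc4426150b44024140bc381f0c06c28170804c180f0402c080701, 0, 72, 0x0, []⟩]

theorem t9_813_15 : jobs 8 S9 b8_813 j9_813_15 = true := by decide +kernel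

noncomputable def j9_813_16 : List Job := [
  ⟨31, 0x4381f0c06c28170804c180f0402c080701, 0, 6, 0x0, []⟩]

theorem t9_813_16 : jobs 8 S9 b8_813 j9_813_16 = true := by decide +kernel

noncomputable def j9_813_17 : List Job := [
  ⟨30, 0x4783f1c0ec6837180cc582f140ac482711884381f0c06c28170804c180f0402c080701, 0, 6, 0x600, [(2, ⟨2359, 0x1fa009c00e000040001c000b000380404000001, 0x1563e2f4200b0683802⟩)]⟩]

theorem t9_813_17 : jobs 8 S9 b8_813 j9_813_17 = true := by decide +kernel

noncomputable def j9_813_18 : List Job := [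
  ⟨24, 0x4e0723a1d8f07a3e1fc804222118904a2613c381f0c06c28170804c180f0402c080701, 0, 12, 0x402000a02001403, []⟩]

theorem t9_813_18 : jobs 8 S9 b8_813 j9_813_18 = true := by decide +kernel

noncomputable def j9_813_19 : List Job := [
  ⟨23, 0x4c06232198d06a361bc804222118904a2613c60321a0d8703a1e0fc4424150bc4026140b4381f0c06c28170804c180f0402c080701, 0, 18, 0x200000a00001c00, [(13, ⟨2357, 0x9e00c400938045c02120005008100004000001, 0x1cb478982c090280802⟩), (4, ⟨2356, 0x11800ce00988044802120007000180004020001, 0x18f658c826090300c02⟩), (0, ⟨2355, 0x11801ce00188044800120007000180404020001, 0x18f658c826090300c02⟩)]⟩]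

theorem t9_813_19 : jobs 8 S9 b8_813 j9_813_19 = true := by decide +kernel

noncomputable def j9_813_20 : List Job := [
  ⟨11, 0x6c162b259ad16ab65bae172ba5daf17abe5fe8142a251a914aa653aa152aa55ab15aae57e41229249a512a964ba61329a4da713a9e4fe01028241a110a8643a21128a45a311a8e47dc0e272399d0ea763b9e0f27a3d9f0fa7e3fd80c26231990ca66339a0d26a359b0da6e37d40a25229950aa562b960b25a2d970ba5e2fd008242219108a4623920924a259309a4e27cc66121904462101, 0, 10, 0x200000800001000, [(7, ⟨2350, 0x3f80080000400004000058010500204004040000001, 0x1405d080200a0280802⟩), (3, ⟨2351, 0x2080180000200008000078000700206004040080001, 0x14040840400f0380c02⟩), (0, ⟨2349, 0x3f80080000400004000058010500204004040000001, 0x1405d080200a0280802⟩)]⟩]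

theorem t9_813_20 : jobs 8 S9 b8_813 j9_813_20 = true := by decide +kernel

theorem d9_813 : Dn 8 S9 b8_813 := dn_of (Js := j9_813_0 ++ (j9_813_1 ++ (j9_813_2 ++ (j9_813_3 ++ (j9_813_4 ++ (j9_813_5 ++ (j9_813_6 ++ (j9_813_7 ++ (j9_813_8 ++ (j9_813_9 ++ (j9_813_10 ++ (j9_813_11 ++ (j9_813_12 ++ (j9_813_13 ++ (j9_813_14 ++ (j9_813_15 ++ (j9_813_16 ++ (j9_813_17 ++ (j9_813_18 ++ (j9_813_19 ++ (j9_813_20 ++ [])))))))))))))))))))))
  (jobs_append t9_813_0 <| jobs_append t9_813_1 <| jobs_append t9_813_2 <| jobs_append t9_813_3 <| jobs_append t9_813_4 <| jobs_append t9_813_5 <| jobs_append t9_813_6 <| jobs_append t9_813_7 <| jobs_append t9_813_8 <| jobs_append t9_813_9 <| jobs_append t9_813_10 <| jobs_append t9_813_11 <| jobs_append t9_813_12 <| jobs_append t9_813_13 <| jobs_append t9_813_14 <| jobs_append t9_813_15 <| jobs_append t9_813_16 <| jobs_append t9_813_17 <| jobs_append t9_813_18 <| jobs_append t9_813_19 <| jobs_append t9_813_20 <| List.forall_mem_nil _) (by decide +kernel)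

noncomputable def j9_814_0 : List Job := [
  ⟨63, 0x4703b180cc502b1008c301b0804c160901, 0, 18, 0x401000e01001603001801001a01001e03002001002201, []⟩]

theorem t9_814_0 : jobs 8 S9 b8_814 j9_814_0 = true := by decide +kernel

noncomputable def j9_814_1 : List Job := [
  ⟨62, 0x47e3d1d8e46e35198c45e2d158a44e25118843e1d0d8642e15098441e0d058240e0501, 0, 77, 0x208000401000801000a01000c01000e01001001001201001401001601001801001a01001c01002200002401002620002801002a01002c01002e01003001003201003401003608003801003a01003c01003e3e004001004201004401004601004a20004c01005001005210005434005601005801005c01005e00006001006601006801006e00007001007201007401007808007a01007c01008000008201008401008801008a01008c00008e01009001009210009401009601009801, [(69, ⟨2387, 0x800002d00044001100000100104001020010800000001, 0x1801213420010200810⟩), (63, ⟨2386, 0x800012d00144001100000100004001020010800000001, 0x1801213420010200810⟩), (54, ⟨2384, 0x9b0014b0012c000100000200008000010010400000001, 0x19e2709420040082004⟩), (46, ⟨2383, 0x870016f0002400010000030000c001010000400000001,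 0x1893608420050082804⟩), (16, ⟨2385, 0x8a000450006f001100010200008000030010c00000001, 0x18c279a020040282014⟩)]⟩]

theorem t9_814_1 : jobs 8 S9 b8_814 j9_814_1 = true := by decide +kernel

noncomputable def j9_814_2 : List Job := [
  ⟨61, 0x4f07a3e1fcc0623219cb05a2e17c80422211c6837180cc582f140ac381f0c06c080701, 0, 55, 0x202001403001a02, []⟩]

theorem t9_814_2 : jobs 8 S9 b8_814 j9_814_2 = true := by decide +kernel

noncomputable def j9_814_3 : List Job := [
  ⟨60, 0x4e0723a1dcd06a361bcb05a2e17c80422211c783f1c0ec48271008c381f0c06c080701, 0, 55, 0x202001a01001c01002401002c01002e01003001003401003a01004001004801004e01005001005201005401005601005e01, []⟩]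

theorem t9_814_3 : jobs 8 S9 b8_814 j9_814_3 = true := by decide +kernel

noncomputable def j9_814_4 : List Job := [
  ⟨59, 0x4f07a3e1fce0723a1dc904a2613c80422211c582f140ac48271008c180f0402c080701, 0, 100, 0x202001a01002201002a01002e02003801004401004801004a01005803006201006801006a01007801008001008a02009601009e0100b80100bc01, []⟩]

theorem t9_814_4 : jobs 8 S9 b8_814 j9_814_4 = true := by decide +kernel

noncomputable def j9_814_5 : List Job := [
  ⟨58, 0x4f07a3e1fcc0623219cb05a2e17c80422211c6837180cc582f140ac3e1d0c06c080701, 0, 61, 0x202001403001a02002402006a02, []⟩]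

theorem t9_814_5 : jobs 8 S9 b8_814 j9_814_5 = true := by decide +kernel

noncomputable def j9_814_6 : List Job := [
  ⟨57, 0x4e0723a1dcd06a361bcb05a2e17c80422211c783f1c0ec48271008c3e1d0c06c080701, 0, 61, 0x202001a02001c01002001002201002402003001003601003a01003e01004201004601004801005401005a01006201006a02007401, []⟩]

theorem t9_814_6 : jobs 8 S9 b8_814 j9_814_6 = true := by decide +kernel

noncomputable def j9_814_7 : List Job := [
  ⟨56, 0x4f07a3e1fce0723a1dc904a2613c80422211c582f140ac48271008c180f05824080701, 0, 100, 0x202001a02001c03002201002a01002e02003003003801004202004e01005001005602006201006801006c01007801008001008a02009601009e0100a60200b60100c201, []⟩]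

theorem t9_814_7 : jobs 8 S9 b8_814 j9_814_7 = true := by decide +kernel

noncomputable def j9_814_8 : List Job := [
  ⟨55, 0x4381f0c06c2e150804c180f0402c080701, 0, 48, 0x202000602000a02001602001a03003201003a01004201004c02005201, []⟩]

theorem t9_814_8 : jobs 8 S9 b8_814 j9_814_8 = true := by decide +kernel

noncomputable def j9_814_9 : List Job := [
  ⟨54, 0x4f07a3e1fce0723a1dcd06a361bcc0623219cb05a2e17ca0522a15c904a2613c80422211c381f0c06c2e150804c180f0402c080701, 0, 48, 0x202001602003201003a01004201004c02005201, []⟩]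

theorem t9_814_9 : jobs 8 S9 b8_814 j9_814_9 = true := by decide +kernel

noncomputable def j9_814_10 : List Job := [
  ⟨53, 0x4f07a3e1fcd06a361bca0522a15c80422211c6837180cc48271008c281709844080701, 0, 108, 0x202002202002401003602003a01003e01004003004201004803005001005401005c01006801006c01007002007201007a01007e01008201008610008801008e11009202009c0200a60200aa0200ae0200b00300b40100b80100cc0100d00100d40100d801, []⟩]

theorem t9_814_10 : jobs 8 S9 b8_814 j9_814_10 = true := by decide +kernel

noncomputable def j9_814_11 : List Job := [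
  ⟨52, 0x4b05a2e17ca0522a15c904a2613c80422211c783f1c0ec6837180cc582f140ac48271008c381f0c06c2e150804c180f0402c080701, 0, 58, 0x202000401001201001801001a00002001002401002601002c01003001003201003801003e01004201004401004a01005001005602005801005c01005e01, [(12, ⟨2454, 0x24c0043004a001110001401080040800000040400, 0x2922149021040440801⟩)]⟩]

theorem t9_814_11 : jobs 8 S9 b8_814 j9_814_11 = true := by decide +kernel

noncomputable def j9_814_12 : List Job := [
  ⟨51, 0x4381f0d864281709844180f05824080701, 0, 66, 0x202000602000a02001602001c02002002002202003401003a02003e02005002005402005601006400006a01007013007403007602007813007a00, [(60, ⟨2434, 0x2c80149004b000120001001080000c01000040401, 0x2bca24b025040400a01⟩), (49, ⟨2418, 0x28c0141000e000120001000080000c01000040400, 0x2b4a04d825040400a01⟩)]⟩]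

theorem t9_814_12 : jobs 8 S9 b8_814 j9_814_12 = true := by decide +kernel

noncomputable def j9_814_13 : List Job := [
  ⟨50, 0x4f07a3e1fce0723a1dcd06a361bcc0623219cb05a2e17ca0522a15c904a2613c80422211c381f0d864281709844180f05824080701, 0, 72, 0x202001602001c01002002002402003a01004002004401005802005c01006002006e00007401007a10008400, [(65, ⟨2433, 0x2340140000a401100041000080000801000040400, 0x28ca009220040400801⟩), (54, ⟨2417, 0x27c0044000e001100041001080040c01000040400, 0x29ea40d220040400a01⟩)]⟩]

theorem t9_814_13 : jobs 8 S9 b8_814 j9_814_13 = true := by decide +kernel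

noncomputable def j9_814_14 : List Job := [
  ⟨49, 0x4f07a3e1fcd06a361bca0522a15c80422211c6837180cc48271008c2e150804c080701, 0, 108, 0x202002202002401002c02003003004003004201004403004803004a01004e01005001005201005401005801005c01006202006a01006c01007001007c00008000008201008400008603008801008e03009202009c0200a60000aa0000ae0000b00300b40300b80300c20200c40200cc0100d401, [(86, ⟨2418, 0x314016600090011d0001c01090000801010040400, 0x3ecb14a83c048540801⟩), (84, ⟨2417, 0x3a4006400080001f0041801090040800010040400, 0x3ca3548039050500801⟩), (82, ⟨2416, 0x2000066000a401100001c01090040c01010040400, 0x3803609020050500c01⟩), (65, ⟨2411, 0x3b00168004c0001e0041c01080040801010040400, 0x3ce3c0f038040580801⟩), (63, ⟨2408, 0x2000066004a400100001c01090000c00000040400, 0x2803609020048500a01⟩), (61, ⟨2397, 0x2000066004a400100001c01090000c00010040400, 0x3803609020048500a01⟩)]⟩]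

theorem t9_814_14 : jobs 8 S9 b8_814 j9_814_14 = true := by decide +kernel

noncomputable def j9_814_15 : List Job := [
  ⟨48, 0x4b05a2e17ca0522a15c904a2613c80422211c783f1c0ec6837180cc582f140ac48271008c381f0d864281709844180f05824080701, 0, 137, 0x202000401001201001801001a00002201002800002a01002c00002e01003401003610003801003a10003c10003e01004010004200004401004601004801004a00004c01004e00005001005201005401005610005801005a01005c01005e01006012006201006401006601006801006a01006e01007001007601007a01007e10008801008c01008e01009601009a01009c10009e0100a21000a61000a80100ac1000b00100b20100b60000b80100bc1200be0100c01200c21200c60100c80100ca0100ce1000d00100d40100d60100da0100dc1300de0100e20100e40100e80100ea0000ec0100f00100f20100f610010011010a00010c01, [(132, ⟨2432, 0x7700145002520047c00020010800204004000080801, 0x2e6244923d040400801⟩), (116, ⟨2416, 0x4e80147002560044000828010800204004000080800, 0x29c2509a20040440801⟩), (90, ⟨2461, 0x5b00148000560004800020010800004000040000001, 0x1be2209c24040400802⟩), (38, ⟨2463, 0x640014b000520007000028010800004000040000001,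 0x1c7238943a040480802⟩), (36, ⟨2462, 0x640004b000520007000028010800004000040000001, 0x1c7238943a040480802⟩), (32, ⟨2460, 0x7700045000520007c00020010800204000040000001, 0x1e6248943e040400802⟩), (21, ⟨2459, 0x710014b002420047c00828010800204004000080801, 0x2e0234823c040440801⟩), (19, ⟨2458, 0x710014b002420047c00828010800204004000080801, 0x2e0234823c040440801⟩), (12, ⟨2453, 0x640004b002520007000028010800204004000080801, 0x2c6a349239040440801⟩)]⟩]

theorem t9_814_15 : jobs 8 S9 b8_814 j9_814_15 = true := by decide +kernel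

noncomputable def j9_814_16 : List Job := [
  ⟨47, 0x4f07a3e1fce0723a1dc904a2613c80422211c6e35180cc582f140ac381f0c06c080701, 0, 100, 0x202000803001403003403003a02004003004c03005403005602005c0300a20200b40300b60200c803, []⟩]

theorem t9_814_16 : jobs 8 S9 b8_814 j9_814_16 = true := by decide +kernel

noncomputable def j9_814_17 : List Job := [
  ⟨46, 0x4e0723a1dcd06a361bcb05a2e17c80422211c783f1c0ec6837180cc180f0402c080701, 0, 100, 0x202000803001001001403001c01002401003403003a02004003004a01004c03005401006003006803006e03007001007c01008001009a01009e0100a00100a80300b00100bc0100c20100c801, []⟩]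

theorem t9_814_17 : jobs 8 S9 b8_814 j9_814_17 = true := by decide +kernel

noncomputable def j9_814_18 : List Job := [
  ⟨45, 0x4d06a361bcc0623219c904a2613c80422211c783f1c0ec4e251008c381f0c06c080701, 0, 100, 0x403001003001a01002c01003003003803003a02003c03004803004a01005003005201005602005803006c01006e01007001007601007c01007e01008001008a01008c01009001009201009401009801009c01009e0100a00100a40100ae0100b00300b80100bc0100c00100c20100c40100c601, []⟩]

theorem t9_814_18 : jobs 8 S9 b8_814 j9_814_18 = true := by decide +kernel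

noncomputable def j9_814_19 : List Job := [
  ⟨44, 0x4f07a3e1fcc0623219cb05a2e17c80422211c582f140ac482711884180f0402c080701, 0, 100, 0x403000e02001003003003003a02003c03004201004803005a02005c03006201006c0100840100980100a20200a40300b60200b803, []⟩]

theorem t9_814_19 : jobs 8 S9 b8_814 j9_814_19 = true := by decide +kernel

noncomputable def j9_814_20 : List Job := [
  ⟨43, 0x4f07a3e1fce0723a1dc904a2613c80422211c6837180cc582f140ac381f0c06c080701, 0, 100, 0x202000803001403003403003a02004003004c03005403005c0300b40300b602, []⟩]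

theorem t9_814_20 : jobs 8 S9 b8_814 j9_814_20 = true := by decide +kernel

noncomputable def j9_814_21 : List Job := [
  ⟨42, 0x4e0723a1dcd06a361bcb05a2e17c80422211c783f1c0ec6837198c4180f0402c080701, 0, 100, 0x202000803001001001403001a02001c01003403003a02004003004a01004c03005401005a02006003007401007601007801008003008a01008c01009001009a0100a20200a80300ae0100b40100b60200bc0300c401, []⟩]

theorem t9_814_21 : jobs 8 S9 b8_814 j9_814_21 = true := by decide +kernel

noncomputable def j9_814_22 : List Job := [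
  ⟨41, 0x4d06a361bcc0623219c904a2613c80422211c783f1c0ec4e251008c381f0c06c080701, 0, 100, 0x403000e02001003001c01002a01002c01003003003803003a02003c03004202004803004a01005024005201005602005803005e01006801007201007601007c01008001008401009c0100a00100a20200a80100ac0100b00300b20100b60200c403, []⟩]

theorem t9_814_22 : jobs 8 S9 b8_814 j9_814_22 = true := by decide +kernel

noncomputable def j9_814_23 : List Job := [
  ⟨40, 0x4f07a3e1fcc0623219cb05a2e17c80422211c582f140ac482711884180f0402c080701, 0, 100, 0x403001003001a02001c03002402002603003003003a02003c03004803005a02005c03006602006803006c01007002007203008601009a0100a20200a40300ac0100ae0100c00100c201, []⟩]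

theorem t9_814_23 : jobs 8 S9 b8_814 j9_814_23 = true := by decide +kernel

noncomputable def j9_814_24 : List Job := [
  ⟨39, 0x4f07a3e1fcc0623219cb05a2e17c80422211c7e3d180cc502b1209c301b0a05c180f01, 0, 160, 0x1003001a02002003002601002801003401003a01003c02004403004e02005c03007a01007c03007e01008a03009001009202009a01009e0100a40100a60100ac0200b80300ba0100c00100c60300cc0300e80200ee0300f20200f80300fe01010001010601011203011401012003012603012e02013403, []⟩]

theorem t9_814_24 : jobs 8 S9 b8_814 j9_814_24 = true := by decide +kernel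

noncomputable def j9_814_25 : List Job := [
  ⟨38, 0x4d06a361bcc0623219c904a2613c80422211c703b180cc582f13894381f0a05c100b01, 0, 160, 0x202000403000e01001001001c01002601003001004e02005003005601005e01006601006a02006c03007202007c01008401009a2600a00100a80300bc0300c40100d00300d60100de0100e40300fa01010003010201010a01011403011c01012401012c03014003, []⟩]

theorem t9_814_25 : jobs 8 S9 b8_814 j9_814_25 = true := by decide +kernel

noncomputable def j9_814_26 : List Job := [
  ⟨37, 0x4e0723a1dcd46f341b4b05a2e17c8447201146837180cc5e2d158a4381f0c06c0e0501, 0, 80, 0x202000803000e02001403001e02002803003803004202004e02005c03006a02007202008403008a02008c03009a02009c03, []⟩]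

theorem t9_814_26 : jobs 8 S9 b8_814 j9_814_26 = true := by decide +kernel

noncomputable def j9_814_27 : List Job := [
  ⟨36, 0x4f07a3e1fce475381dc904a2613c844720114783f1c0ec6837180cc180f0402c0e0501, 0, 80, 0x202000803000e02001403001c03001e02004a02005003006803006a02008a02009003009803009a02, []⟩]

theorem t9_814_27 : jobs 8 S9 b8_814 j9_814_27 = true := by decide +kernel

noncomputable def j9_814_28 : List Job := [
  ⟨35, 0x4e0723a1dcd06a361bcb05a2e17c80422211c703b1a0dc5e2d1008c301b0a05c180f01, 0, 160, 0x202001001001403001a02001c03002e02003c01004401004803004e02005a01005e01006003006401006801006e02007c01008402008a01008c01008e0100900100960100980200a40100a80100ae0300b60100be0100c20300ca0100cc0100d60300de0100ea0100ec0100f40300fc01010401010601010803010a01011c03012601012a01012c01012e01013003013601, []⟩]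

theorem t9_814_28 : jobs 8 S9 b8_814 j9_814_28 = true := by decide +kernel

noncomputable def j9_814_29 : List Job := [
  ⟨34, 0x4f07a3e1fce0723a1dc904a2613c80422211c783f1a0dc502b1008c381f0a05c100b01, 0, 160, 0x202000803001a01001c03002e02004401005403005a01006201007003007c01008602008e01009201009601009a0200a40300b60100be0100de0100e00300f401010601011c01012001012e02013601013c03, []⟩]

theorem t9_814_29 : jobs 8 S9 b8_814 j9_814_29 = true := by decide +kernel

noncomputable def j9_814_30 : List Job := [
  ⟨33, 0x4f47f3c1f4c0623219cb05a2e17c8447201147e3d1d8e448271008c381f0c06c0e0501, 0, 80, 0x202000403000801000e02001003001201001a01001e02002001002801002a01002c03003403004202004e02005c01005e01006003006601006a02006c01007801008201008a02009003009202009803009a02009e03, []⟩]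

theorem t9_814_30 : jobs 8 S9 b8_814 j9_814_30 = true := by decide +kernel

noncomputable def j9_814_31 : List Job := [
  ⟨32, 0x4d06a361bcc46730194904a2613c844720114582f140ac4e2511884180f0402c0e0501, 0, 80, 0x202000403000e02001003001e02002003002a01002c01002e01003001004a02004c03005201005401006a02006c03007202007403008a02008c03009a02009c03, []⟩]

theorem t9_814_31 : jobs 8 S9 b8_814 j9_814_31 = true := by decide +kernel

noncomputable def j9_814_32 : List Job := [
  ⟨31, 0x4f07a3e1fcc0623219cb05a2e17c80422211c7e3d180cc502b1389436190a05c180f01, 0, 91, 0x202000801000a01000e01001003001a02002e02004602005201005603005a03006001006c2700740100800300900300a40300a802, []⟩]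

theorem t9_814_32 : jobs 8 S9 b8_814 j9_814_32 = true := by decide +kernel

noncomputable def j9_814_33 : List Job := [
  ⟨30, 0x4e0723a1dcd06a361bcb05a2e17c80422211c6837180cc582f140ac3e1d0d8640e0501, 0, 37, 0x202000e02001802, []⟩]

theorem t9_814_33 : jobs 8 S9 b8_814 j9_814_33 = true := by decide +kernel

noncomputable def j9_814_34 : List Job := [
  ⟨29, 0x4e475381dcd46d341bcb45f2c1748447201146837180cc582f140ac3e1d0d8640e0501, 0, 37, 0x202000e02001403001802001e03002602002c03003602, []⟩]

theorem t9_814_34 : jobs 8 S9 b8_814 j9_814_34 = true := by decide +kernel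

noncomputable def j9_814_35 : List Job := [
  ⟨28, 0x4f07a3e1fce0723a1dc904a2613c80422211c783f1a0dc502b1008c381f0a05c100b01, 0, 160, 0x803001a01001c01002e02004403004602005401005c01006602006e01007c03008401008a0100960100a40300b60100be0100d40100de0100e00300e601010001011201011a02012401012a01012e02013601013a01, []⟩]

theorem t9_814_35 : jobs 8 S9 b8_814 j9_814_35 = true := by decide +kernel

noncomputable def j9_814_36 : List Job := [
  ⟨27, 0x4e0723a1dcd06a361bcb05a2e17c80422211c703b1a0dc582f1008c36190a05c180f01, 0, 91, 0x202001001001403001a02001c01002001002201002e02003a01004401004602004c01005403005e01006201006401006803007001007c03008601009401009c0100aa01, []⟩]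

theorem t9_814_36 : jobs 8 S9 b8_814 j9_814_36 = true := by decide +kernel

noncomputable def j9_814_37 : List Job := [
  ⟨26, 0x4d06a361bcc0623219c944d2413c844720114582f140ac48271008c180f0402c0e0501, 0, 76, 0x202000403002202002602002e02003202003e02004003005602005803008202008802008e02009402, []⟩]

theorem t9_814_37 : jobs 8 S9 b8_814 j9_814_37 = true := by decide +kernel

noncomputable def j9_814_38 : List Job := [
  ⟨25, 0x4f07a3e1fcc0623219cb05a2e17c80422211c7e3d1d8e44e25118843e1d0d8640e0501, 0, 37, 0x202000801000a01000e20001802002a01003401003c02004402, []⟩]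

theorem t9_814_38 : jobs 8 S9 b8_814 j9_814_38 = true := by decide +kernel

noncomputable def j9_814_39 : List Job := [
  ⟨24, 0x4f47f3c1f4c46730194b45f2c1748447201147e3d1d8e44e25118843e1d0d8640e0501, 0, 74, 0x202000403000c01000e01001e01002001002a02002e01003203003a01003c03004001004401004e01005001005402006201006801006a01006c01007201007403007a01007e02008003009003, []⟩]

theorem t9_814_39 : jobs 8 S9 b8_814 j9_814_39 = true := by decide +kernel

noncomputable def j9_814_40 : List Job := [
  ⟨23, 0x4f07a3e1fcc0623219cb05a2e17c80422211c783f180cc502b1209c301b0a05c180f01, 0, 91, 0x1003002e02004403005202006602007001007403007c0100a403, []⟩]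

theorem t9_814_40 : jobs 8 S9 b8_814 j9_814_40 = true := by decide +kernel

noncomputable def j9_814_41 : List Job := [
  ⟨22, 0x4e0723a1dcd06a361bcb05a2e17c80422211c703b1a0dc582f1008c301b0a05c180f01, 0, 91, 0x202001001001403001a01001c03002801002e02004201004603004a01005202005e01007001007801008001008201008601009401009c0100a801, []⟩]

theorem t9_814_41 : jobs 8 S9 b8_814 j9_814_41 = true := by decide +kernel

noncomputable def j9_814_42 : List Job := [
  ⟨21, 0x4f07a3e1fce0723a1dc904a2613c80422211c7e3d1b8d4502b1008c381f0a05c160901, 0, 160, 0x202000803001a02001c03002001002401002602002e02003403003801003a01004401004e02005403005a01006201006a02007003007c02007e02008602008c01008e01009001009201009601009a0200a00300a40300a60200ae0100b40100b60100b80300ba0100be0100c20100c80300cc0300de0100e00300e60200ec0300f20100f40100f80100fc0300fe02010602010c03011003011201011c01012803012e02013403013601013c03, []⟩]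

theorem t9_814_42 : jobs 8 S9 b8_814 j9_814_42 = true := by decide +kernel

noncomputable def j9_814_43 : List Job := [
  ⟨20, 0x4b05a2e17ca0522a15c904a2613c80422211c783f1c0ec582f140ac281709844080701, 0, 104, 0x603000a01001001001203001803001c01002002002c01003203003e03004201004602004a03004e01005a03007201007601007801008801008e00009201009a0100a00100a40100aa0200b00100b20200b60300c60200cc0100ce03, [(70, ⟨2398, 0x3c80054004a8011f0041400080000801010040400, 0x3e82b8983d040440801⟩)]⟩]

theorem t9_814_43 : jobs 8 S9 b8_814 j9_814_43 = true := by decide +kernel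

noncomputable def j9_814_44 : List Job := [
  ⟨19, 0x4f07a3e1fcd06a361bca0522a15c80422211c381f0c06c28170804c180f0402c080701, 0, 108, 0x603000a01000e02001203001802002203002601002a01002c03003a03003e01004603004a01005402005602005a03006001006e03007201008a01008e0100920100a80200b20000b60300ba0300c001, [(88, ⟨2459, 0x234014b0048400110001001090000c00010000001, 0x18c2388422050400c02⟩)]⟩]

theorem t9_814_44 : jobs 8 S9 b8_814 j9_814_44 = true := by decide +kernel

noncomputable def j9_814_45 : List Job := [
  ⟨18, 0x46e35180cc4e251008c281709844080701, 0, 102, 0x202000a03000c03000e03003603003e27004002004803004a03005203005a02005c0200620300a00100aa0200b40300bc0200c603, []⟩]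

theorem t9_814_45 : jobs 8 S9 b8_814 j9_814_45 = true := by decide +kernel

noncomputable def j9_814_46 : List Job := [
  ⟨17, 0x4f07a3e1fce0723a1dcd06a361bcc0623219cb05a2e17ca0522a15c904a2613c80422211c6e35180cc4e251008c281709844080701, 0, 106, 0x200000c00003a00004225004400004e00005603005e0000a00100b20200bc0300c40200ce03, [(46, ⟨2424, 0x220017a004a001100001c00080040800000040400, 0x2843909020040540801⟩), (38, ⟨2415, 0x2800045000e000120001001080040801010040400, 0x3b6240d824040400801⟩), (33, ⟨2442, 0x36c007e000a8011d0041800090000801010040400, 0x3e8ba09a3d048500801⟩), (28, ⟨2447, 0x3c80048000cc001e0041001080000c00010040400, 0x3e0a20f03c040400a01⟩), (5, ⟨2445, 0x220017a004a001100001c00080040800010040400, 0x3843909020040540801⟩), (0, ⟨2437, 0x220007a000a000100041c01080000801010040400, 0x3843909020040540801⟩)]⟩]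

theorem t9_814_46 : jobs 8 S9 b8_814 j9_814_46 = true := by decide +kernel

noncomputable def j9_814_47 : List Job := [
  ⟨16, 0x4e0723a1dcc0623219ca0522a15c80422211c783f1c0ec6837180cc582f140ac482711884381f0c06c28170804c180f0402c080701, 0, 108, 0x200000a01000c02001403001600001a01002001002601002a01002c01003600004003004a00005001005201005600005801006001006201006a00007801007a01008000008401008601008a01008c0100920100940100980100ac0100ae0100b20000b80100c00100c40100c60000d00100d201, [(98, ⟨2454, 0x330016f0048c011d0041801090040c01010000401, 0x3e4b74883e048580a02⟩), (88, ⟨2458, 0x24c00490048000100041000080000801010000001, 0x1932288020040400802⟩), (63, ⟨2431, 0x23c0152004a401110001000090040800000040400, 0x28e2949021048400801⟩), (52, ⟨2423, 0x224017b004a401110001800090040c00000040400, 0x2843909021048540a01⟩), (42, ⟨2415, 0x224007b000a400110041801090000c01000040400, 0x2843909021048540a01⟩), (36, ⟨2441, 0x3bc005f000a8011e0001000080000801010040400, 0x3fc284983c040400801⟩), (26, ⟨2448, 0x304007f004ec011d0041801090000c00000040400,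 0x2ee350e03d048540a01⟩), (10, ⟨2446, 0x224017b004a401110001800090040c00010040400, 0x3843909021050540a01⟩), (0, ⟨2436, 0x224007b000a400110041801090000c01010040400, 0x3843909022048540c01⟩)]⟩]

theorem t9_814_47 : jobs 8 S9 b8_814 j9_814_47 = true := by decide +kernel

noncomputable def j9_814_48 : List Job := [
  ⟨15, 0x4b05a2e17ca0522a15c904a2613c80422211c783f1c0ec582f140ac28170804c080701, 0, 104, 0x603000a01000e02001001001203001601001803001c01001e01002401002601002801003203003601003e03004201004602004a03004e01005a03005e01006a02006e03007201007a01008001008201008601008801008a01008c01008e02009003009c0100a20200a40100ae0100b40100b60300b80100ba0300be0200c40100c602, []⟩]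

theorem t9_814_48 : jobs 8 S9 b8_814 j9_814_48 = true := by decide +kernel

noncomputable def j9_814_49 : List Job := [
  ⟨14, 0x4f07a3e1fcd06a361bca0522a15c80422211c381f0c06c281709844180f0402c080701, 0, 108, 0x603000a01001203003001003a03004603004a01005402005602005a03006001006e0300800100940100a20300b60300ba0300c00100ce03, []⟩]

theorem t9_814_49 : jobs 8 S9 b8_814 j9_814_49 = true := by decide +kernel

noncomputable def j9_814_50 : List Job := [
  ⟨13, 0x46837180cc4e251008c28170804c080701, 0, 88, 0x202000c03000e03002001002401002601002802003003003202003402003a03004c02004e02005403005c03006001006401006601006801006e01007001007401007801007a01008001008201008401008a01008c01009001009a0100a20100ac0100ae01, []⟩]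

theorem t9_814_50 : jobs 8 S9 b8_814 j9_814_50 = true := by decide +kernel

noncomputable def j9_814_51 : List Job := [
  ⟨12, 0x4f07a3e1fce0723a1dcd06a361bcc0623219cb05a2e17ca0522a15c904a2613c80422211c6837180cc4e251008c28170804c080701, 0, 88, 0x200000c00002001002800003001003200003c00004403004c00005c01006001006401006e01007001007401007801007a01007c01008001008201008a01008c01009001009801009a0100a20100ac0100ae01, [(37, ⟨2422, 0x220017a004a001110001800080040c00000040400, 0x2843909021040540a01⟩), (29, ⟨2414, 0x2880148004e801120001401080000c01010040400, 0x3b7220d026040480c01⟩), (24, ⟨2442, 0x3ac006700488001f0001801090040800000040400, 0x2ca3548839048500801⟩), (19, ⟨2448, 0x3ac006700088001f0041801090000800010040400, 0x3ca354883a048500801⟩), (5, ⟨2446, 0x220017a004a001110001800080040c00000040400, 0x2843909021040540a01⟩), (0, ⟨2437, 0x220007a000a000110041801080000c01000040400, 0x2843909021040540a01⟩)]⟩]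

theorem t9_814_51 : jobs 8 S9 b8_814 j9_814_51 = true := by decide +kernel

noncomputable def j9_814_52 : List Job := [
  ⟨11, 0x4e0723a1dcc0623219ca0522a15c80422211c783f1c0ec6837198c4582f140ac482711884381f0c06c281709844180f0402c080701, 0, 176, 0x200000a01000c02001403001600001a01002001002200002401002601002a01002c01002e01003002003600004020004a00005001005203005600005801006001006201006a00007200007601007801007a01008001008201008403008601008a00008c01008e01009001009210009400009601009801009a01009c10009e0000a00100a20100a40100a61200a80100aa1000ac0100ae0100b00100b60100b81300bc0100be2000c62000c80100ce0100d20000d40100dc0100e00100e60000e80100f00100f20100f40100fa0000fc0100fe01010001010401010601010801010c01010e10011201011401011600011800011c01011e01012010012401012601012801012c01012e10013001013201013401013601013a01013c01013e01014401014601014801014c12015001015201015412015601015810015a01015c10015e01016001, [(139, ⟨2455, 0x4b00171002500044000838000800206004040080001, 0x1993a89020040500c02⟩), (138, ⟨2456, 0x4b00171000500044000838000800206004040080001,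 0x1993a89020040500c02⟩), (124, ⟨2454, 0x4980040002420004000828000800004004040000001, 0x1932008420040480802⟩), (114, ⟨2453, 0x4980040002420004000828000800004004040000001, 0x1932008420040480802⟩), (104, ⟨2449, 0x5100145000740004800028000800204004000080800, 0x2b6240d024040440801⟩), (78, ⟨2452, 0x4980040000420004000828000800004004040000001, 0x1932008420040480802⟩), (73, ⟨2451, 0x4a00151000700004000020010800006000040000001, 0x198288d020040400c02⟩), (68, ⟨2450, 0x4a00151000700004000020010800006000040000001, 0x198288d020040400c02⟩), (56, ⟨2429, 0x448007b002520004000038000900004000000080800, 0x2843909020048540801⟩), (52, ⟨2421, 0x448017b002520044000038000900204000000080800, 0x2843909020048540801⟩), (42, ⟨2414, 0x448007b000520004000838010900004004000080800, 0x2843909020048540801⟩), (36, ⟨2441, 0x7580067002440007800030010800204000000080800, 0x2cab508838040500801⟩), (26, ⟨2447, 0x7580067000440007800830010800004000000080800, 0x2cab508838040500801⟩), (16, ⟨2396, 0x4980040002420004000828000800004000000080800, 0x292a008220040440801⟩),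 (10, ⟨2445, 0x448017b002520044000038000900204000000080800, 0x2843909020048540801⟩), (0, ⟨2436, 0x448007b000520004000838010900004004000080800, 0x2843909020048540801⟩)]⟩]

theorem t9_814_52 : jobs 8 S9 b8_814 j9_814_52 = true := by decide +kernel

noncomputable def j9_814_53 : List Job := [
  ⟨10, 0x4e0723a1dcc0623219ca0522a15c80422211c703b1a0dc502b1209c381f09844180f01, 0, 168, 0x601000a01001001001402001603001801002202002801002a02003001003a01003e03004201004a03006201006601006801006a03006e02007401007801007e02009801009c03009e0100a20100a80200b80100c00300ca0100d20100d40300e00100e80300f20200fa0100fc03010c01011001011401012e03013401013801013c01, []⟩]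

theorem t9_814_53 : jobs 8 S9 b8_814 j9_814_53 = true := by decide +kernel

noncomputable def j9_814_54 : List Job := [
  ⟨9, 0x4783f1a0dc582f13894301b0804c100b01, 0, 142, 0x402001402001603001e02003402003601004402004602004801004c03004e02005003005603006002006202006803006c02007401008402008603008801008c03009401009801009c01009e0100a00100a60100ac0100ae0100b00100b60100b80100c00100c40100c80100ca0100d40100d60100da0100dc0100e40100ec0100ee0100f801010001010401010801010a01011003011201011801011a01, []⟩]

theorem t9_814_54 : jobs 8 S9 b8_814 j9_814_54 = true := by decide +kernel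

noncomputable def j9_814_55 : List Job := [
  ⟨8, 0x4f07a3e1fce0723a1dcd06a361bcc0623219cb05a2e17ca0522a15c904a2613c80422211c783f1a0dc582f13894301b0804c100b01, 0, 142, 0x203001e00003601004400004801004e01006000006c00007401007c00008401008801009401009801009c01009e0100a00100a60100a80100ac0100ae0100b60100b80100c00100c40100c80100ca0100d20100d40100d60100da0100dc0100e40100ec0100ee0100f60300f801010001010401010801010a01011003011201011801011a01, [(61, ⟨2449, 0x214014d004c401100041001090000801010000001, 0x189260c020050400802⟩), (53, ⟨2413, 0x214014d000c400100001000090040800000040400, 0x288a60c020048400801⟩), (47, ⟨2420, 0x220015d000b400110001401080040c01000040400, 0x2842e0b021040440a01⟩), (33, ⟨2435, 0x30001530048c001d0041400080040800010000401, 0x3daaf48838040480802⟩), (14, ⟨2404, 0x214014d004c400100001000090040800010000401, 0x388a60c020048400802⟩)]⟩]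

theorem t9_814_55 : jobs 8 S9 b8_814 j9_814_55 = true := by decide +kernel

noncomputable def j9_814_56 : List Job := [
  ⟨7, 0x4f07a3e1fcd06a361bca0522a15c80422211c7e3d1d8e45e2d158a42e15098440e0501, 0, 66, 0x202001003002401002601002c01002e03003401003602003a01003e01004002004401004803005001005401005e10006c0300723a007801007a3a007c01007e3d008002008403, []⟩]

theorem t9_814_56 : jobs 8 S9 b8_814 j9_814_56 = true := by decide +kernel

noncomputable def j9_814_57 : List Job := [
  ⟨6, 0x4f47f3c1f4d46f341b4a457281548447201147e3d1d8e45e2d158a42e15098440e0501, 0, 126, 0x202000603000c02001003001a02002003002601002c01002e03003402003e10004c03005200005801005a02005e01006000006401007201007401009201009801009c01009e0100ba0100c00100c40100c60100ca0100d00100de0200e40100e60100ee0000f803, [(118, ⟨2412, 0x7400065000400007c00830010800204000040080800, 0x3ca3508038040500801⟩), (47, ⟨2448, 0x5300165002540044c00838010800004004040080001, 0x1ae3689826040580802⟩), (40, ⟨2447, 0x5300065000540044c00038010800204000040000001, 0x1ae3689826040580802⟩)]⟩]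

theorem t9_814_57 : jobs 8 S9 b8_814 j9_814_57 = true := by decide +kernel

noncomputable def j9_814_58 : List Job := [
  ⟨5, 0x4b05a2e17ca4552815c904a2613c844720114381f0c06c28170804c180f0402c0e0501, 0, 84, 0x202000603000e02001203001a03001e02002401002601002e01003603003a01003c01003e01004201004801004a02004e03005201005401005602005a03006001006201006a01006e03007202007a03007e02009202009603009e0300a202, []⟩]

theorem t9_814_58 : jobs 8 S9 b8_814 j9_814_58 = true := by decide +kernel

noncomputable def j9_814_59 : List Job := [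
  ⟨4, 0x4f07a3e1fcd06a361bca0522a15c80422211c7e3d180cc5e2d1008c381f09844180f01, 0, 168, 0x202000801000a01001203002200002401002c01003401003602003a01003e01004c01004e03005602006002006a01006e00007202007401007801007c01007e02008401008602008c01009402009801009c01009e0100a60200a80200b40100bc0300c00100c40100c60100ce0200d00300dc0100e40300ee0100f20100f60200f80300fe01010003010210010401010c01011401011603011a01011e01012a3d012c0101323c013601013801013c01013e03014401014603, [(54, ⟨2413, 0x30001520048c001d0001000080040800010040400, 0x3daaf48838040400801⟩), (16, ⟨2396, 0x220017b004a001100001801080040800010000401, 0x3843909020040540802⟩)]⟩]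

theorem t9_814_59 : jobs 8 S9 b8_814 j9_814_59 = true := by decide +kernel

noncomputable def j9_814_60 : List Job := [
  ⟨3, 0x4b05a2e17ca0522a15c904a2613c80422211c703b180cc502b1008c301b0804c100b01, 0, 164, 0x202000401000601000c01000e01001401001601001801001e01002001002202002603002a01002c01003a02003e01004001004401004601004a01004c01005203005c01005e01006401006602007203007601008202008602008a01008e01009201009a03009e0100a60100aa0300ac0100b00100b20300be0300c00100c20100c80100d20100d40100de0100e40100f20300f60100f80100fc0100fe01010601010c01010e01011001011201011601011801011a03011e03012e01013201013e01014601, []⟩]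

theorem t9_814_60 : jobs 8 S9 b8_814 j9_814_60 = true := by decide +kernel

noncomputable def j9_814_61 : List Job := [
  ⟨2, 0x4e0723a1dcc0623219ca457281548447201146837180cc48271008c2e15098440e0501, 0, 84, 0x200000a02000e00001001001201001603001801001e02002601002a03002e01003203003e03004a02004e03005201005401005602005a01005e01006001006603006e01007202007601009202009603009e0300a202, [(6, ⟨2446, 0x224007b000a400100041800090000801010000001, 0x1843909020050500802⟩), (0, ⟨2445, 0x224017b004a401100001801090040800010000001, 0x1843909020050500802⟩)]⟩]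

theorem t9_814_61 : jobs 8 S9 b8_814 j9_814_61 = true := by decide +kernel

noncomputable def j9_814_62 : List Job := [
  ⟨1, 0x4783f1c0ec6837180cc582f140ac4e2511884381f0c06c28170804c180f0402c0e0501, 0, 66, 0x202000601000a03001001001601001e01002401002801002e01003203003401003801003e02004201004603004a01005e02007203007601007a01007c01008002, []⟩]

theorem t9_814_62 : jobs 8 S9 b8_814 j9_814_62 = true := by decide +kernel

noncomputable def j9_814_63 : List Job := [
  ⟨0, 0x4f07a3e1fce475381dcd06a361bcc46730194b05a2e17ca4552815c904a2613c844720114783f1c0ec6837180cc582f140ac4e2511884381f0c06c28170804c180f0402c0e0501, 0, 96, 0x200000c00001600001800001a01001e01002200002601002a01003200004201004601004801004e00006001006200006601007c0000960000a40000aa0100ac0000ae0100b60000c001, [(90, ⟨2443, 0x5d00161000440004c00830010800204000040000001, 0x1b73188826040500802⟩), (85, ⟨2444, 0x5d00061002440044c00830000800204000040000001, 0x1b73188826040500802⟩), (81, ⟨2442, 0x5f00061000600004c00038000800004004040000001, 0x1ad390cc26040580802⟩),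 (74, ⟨2441, 0x4380156002520044000828000900206004040000001, 0x18b2d09020050480c02⟩), (61, ⟨2435, 0x4380056002520004000028000900006000000080801, 0x28aad09020048440a01⟩), (48, ⟨2419, 0x440017a002500044400838010800206004000080801, 0x2843909021040500a01⟩), (38, ⟨2412, 0x440007a000500004400038000800006000000080801, 0x2843909021040500a01⟩), (24, ⟨2404, 0x4380056002520004000828000900006004000080800, 0x28aad09020048440a01⟩), (16, ⟨2439, 0x5080075000620004800030010900204000040000001, 0x1b2350cc24050500802⟩), (11, ⟨2440, 0x5000074002600044800030000900004000040000001, 0x1b2350c824050500802⟩), (10, ⟨2438, 0x5000074000600004800030000900004000040000001, 0x1b2350c824050500802⟩), (5, ⟨2437, 0x440007a000500004400838000800006004040000001, 0x1843909022040500c02⟩), (0, ⟨2436, 0x440017a002500044400038010800206000040000001, 0x1843909022040500c02⟩)]⟩]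

theorem t9_814_63 : jobs 8 S9 b8_814 j9_814_63 = true := by decide +kernel

theorem d9_814 : Dn 8 S9 b8_814 := dn_of (Js := j9_814_0 ++ (j9_814_1 ++ (j9_814_2 ++ (j9_814_3 ++ (j9_814_4 ++ (j9_814_5 ++ (j9_814_6 ++ (j9_814_7 ++ (j9_814_8 ++ (j9_814_9 ++ (j9_814_10 ++ (j9_814_11 ++ (j9_814_12 ++ (j9_814_13 ++ (j9_814_14 ++ (j9_814_15 ++ (j9_814_16 ++ (j9_814_17 ++ (j9_814_18 ++ (j9_814_19 ++ (j9_814_20 ++ (j9_814_21 ++ (j9_814_22 ++ (j9_814_23 ++ (j9_814_24 ++ (j9_814_25 ++ (j9_814_26 ++ (j9_814_27 ++ (j9_814_28 ++ (j9_814_29 ++ (j9_814_30 ++ (j9_814_31 ++ (j9_814_32 ++ (j9_814_33 ++ (j9_814_34 ++ (j9_814_35 ++ (j9_814_36 ++ (j9_814_37 ++ (j9_814_38 ++ (j9_814_39 ++ (j9_814_40 ++ (j9_814_41 ++ (j9_814_42 ++ (j9_814_43 ++ (j9_814_44 ++ (j9_814_45 ++ (j9_814_46 ++ (j9_814_47 ++ (j9_814_48 ++ (j9_814_49 ++ (j9_814_50 ++ (j9_814_51 ++ (j9_814_52 ++ (j9_814_53 ++ (j9_814_54 ++ (j9_814_55 ++ (j9_814_56 ++ (j9_814_57 ++ (j9_814_58 ++ (j9_814_59 ++ (j9_814_60 ++ (j9_814_61 ++ (j9_814_62 ++ (j9_814_63 ++ []))))))))))))))))))))))))))))))))))))))))))))))))))))))))))))))))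
  (jobs_append t9_814_0 <| jobs_append t9_814_1 <| jobs_append t9_814_2 <| jobs_append t9_814_3 <| jobs_append t9_814_4 <| jobs_append t9_814_5 <| jobs_append t9_814_6 <| jobs_append t9_814_7 <| jobs_append t9_814_8 <| jobs_append t9_814_9 <| jobs_append t9_814_10 <| jobs_append t9_814_11 <| jobs_append t9_814_12 <| jobs_append t9_814_13 <| jobs_append t9_814_14 <| jobs_append t9_814_15 <| jobs_append t9_814_16 <| jobs_append t9_814_17 <| jobs_append t9_814_18 <| jobs_append t9_814_19 <| jobs_append t9_814_20 <| jobs_append t9_814_21 <| jobs_append t9_814_22 <| jobs_append t9_814_23 <| jobs_append t9_814_24 <| jobs_append t9_814_25 <| jobs_append t9_814_26 <| jobs_append t9_814_27 <| jobs_append t9_814_28 <| jobs_append t9_814_29 <| jobs_append t9_814_30 <| jobs_append t9_814_31 <| jobs_append t9_814_32 <| jobs_append t9_814_33 <| jobs_append t9_814_34 <| jobs_append t9_814_35 <| jobs_append t9_814_36 <| jobs_append t9_814_37 <| jobs_append t9_814_38 <| jobs_append t9_814_39 <| jobs_append t9_814_40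 <| jobs_append t9_814_41 <| jobs_append t9_814_42 <| jobs_append t9_814_43 <| jobs_append t9_814_44 <| jobs_append t9_814_45 <| jobs_append t9_814_46 <| jobs_append t9_814_47 <| jobs_append t9_814_48 <| jobs_append t9_814_49 <| jobs_append t9_814_50 <| jobs_append t9_814_51 <| jobs_append t9_814_52 <| jobs_append t9_814_53 <| jobs_append t9_814_54 <| jobs_append t9_814_55 <| jobs_append t9_814_56 <| jobs_append t9_814_57 <| jobs_append t9_814_58 <| jobs_append t9_814_59 <| jobs_append t9_814_60 <| jobs_append t9_814_61 <| jobs_append t9_814_62 <| jobs_append t9_814_63 <| List.forall_mem_nil _) (by decide +kernel)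

end Cfsg.Agent.FS.N.Sw
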