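import Cfsg.Agent.FS.N.Sw.Seg
import Cfsg.Agent.FS.N.G.S9
import Cfsg.Agent.FS.N.G.L.L34

/-! The filter on the pairs for the order 512, part 78 (generated; helper52, project FS) -/

set_option autoImplicit false
set_option maxRecDepth 100000
set_option Elab.async false

namespace Cfsg.Agent.FS.N.Sw

open G

noncomputable def j9_827_0 : List Job := [
  ⟨63, 0x520924a259309a4e27d008242219108a4623c703b1a0dc582f1008c301b0a05c180f01, 0, 102, 0x1401002201004201004601005801005c01006001006401007401007601007a01007e01008c02008e01009002009202009602009801009c01, []⟩]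

theorem t9_827_0 : jobs 8 S9 b8_827 j9_827_0 = true := by decide +kernel

noncomputable def j9_827_1 : List Job := [
  ⟨62, 0x4783f1a0dc502b11884381f0a05c100b01, 0, 87, 0x802000c02002401003423003602004801009c0300a603, []⟩]

theorem t9_827_1 : jobs 8 S9 b8_827 j9_827_1 = true := by decide +kernel

noncomputable def j9_827_2 : List Job := [
  ⟨61, 0x560b25a2d970ba5e2fd40a25229950aa562bd20924a259309a4e27d008242219108a4623c783f1a0dc502b11884381f0a05c100b01, 0, 87, 0x802000c02002401003023003622004601, []⟩]

theorem t9_827_2 : jobs 8 S9 b8_827 j9_827_2 = true := by decide +kernel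

noncomputable def j9_827_3 : List Job := [
  ⟨60, 0x540a25229950aa562bd008242219108a4623c703b180cc582f1209c381f0a05c100b01, 0, 107, 0x1801003002003201003402003601004801005401005601005e01006a0100a20100b802, []⟩]

theorem t9_827_3 : jobs 8 S9 b8_827 j9_827_3 = true := by decide +kernel

noncomputable def j9_827_4 : List Job := [
  ⟨59, 0x560b25a2d970ba5e2fd008242219108a4623c783f180cc502b1209c301b0a05c180f01, 0, 103, 0xa02001601002e02003801003e01004002004e01005401005601006601009a01009c01009e0100a00100a20100a60100a80100ba0100be0100c40200c802, []⟩]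

theorem t9_827_4 : jobs 8 S9 b8_827 j9_827_4 = true := by decide +kernel

noncomputable def j9_827_5 : List Job := [
  ⟨58, 0x560b25a2d970ba5e2fd008242219108a4623c783f1a0dc502b1008c381f0a05c100b01, 0, 103, 0xa02001601003401003801004801005201005601006601009a01009c01009e0100a20100b20200b40100b60200b80200ba0200bc0100c00100c403, []⟩]

theorem t9_827_5 : jobs 8 S9 b8_827 j9_827_5 = true := by decide +kernel

noncomputable def j9_827_6 : List Job := [
  ⟨57, 0x540a25229950aa562bd008242219108a4623c703b1a0dc582f11884301b0a05c180f01, 0, 107, 0xc02001801001e01002401002a01003022003201003423003622003823003a02003e02005001005601005801005c01005e01006201006a01008e01009a0100a20100c60100d201, []⟩]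

theorem t9_827_6 : jobs 8 S9 b8_827 j9_827_6 = true := by decide +kernel

noncomputable def j9_827_7 : List Job := [
  ⟨56, 0x540a25229950aa562bd008242219108a4623c783f180cc56291209c301b0a05c180f01, 0, 107, 0xc02001002001801003002003201003402003c02004002004801006a0100880200940200a20100b80200cc02, []⟩]

theorem t9_827_7 : jobs 8 S9 b8_827 j9_827_7 = true := by decide +kernel

noncomputable def j9_827_8 : List Job := [
  ⟨55, 0x560b25a2d970ba5e2fd008242219108a4623c703b180cc582f1209c381f0a05c160901, 0, 103, 0xa02001601002e02004601004a01004e01005a01006001006201006601009a01009c01009e0100a00100a20100a60100a80100b80200ba0100be0100c40200c802, []⟩]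

theorem t9_827_8 : jobs 8 S9 b8_827 j9_827_8 = true := by decide +kernel

noncomputable def j9_827_9 : List Job := [
  ⟨54, 0x560b25a2d970ba5e2fd008242219108a4623c703b1a0dc582f1008c301b0a05c180f01, 0, 103, 0xa02001601004001004401004801005a01006001006201006601009a01009c01009e0100a20100b20200b40100b60200b80200ba0200bc0100c00100c403, []⟩]

theorem t9_827_9 : jobs 8 S9 b8_827 j9_827_9 = true := by decide +kernel

noncomputable def j9_827_10 : List Job := [
  ⟨53, 0x540a25229950aa562bd008242219108a4623c783f1a0dc562911884381f0a05c160901, 0, 107, 0xc02001001001801001e01002401002a01003022003201003423003622003823004422004802005001005601005c01006201006a01008802008e01009402009a0100a20100c00200c60100cc0200d201, []⟩]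

theorem t9_827_10 : jobs 8 S9 b8_827 j9_827_10 = true := by decide +kernel

noncomputable def j9_827_11 : List Job := [
  ⟨52, 0x540a25229950aa562bd008242219108a4623c783f1c0ec6837180cc180f0402c080701, 0, 67, 0x1802001c02004402004c03, []⟩]

theorem t9_827_11 : jobs 8 S9 b8_827 j9_827_11 = true := by decide +kernel

noncomputable def j9_827_12 : List Job := [
  ⟨51, 0x560b25a2d970ba5e2fd008242219108a4623c6e35180cc582f140ac381f0c06c080701, 0, 64, 0x1203001602001c01002001002401002a02003a03004002005801005c01006002006402006602006802006c01007201007401, []⟩]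

theorem t9_827_12 : jobs 8 S9 b8_827 j9_827_12 = true := by decide +kernel

noncomputable def j9_827_13 : List Job := [
  ⟨50, 0x560b25a2d970ba5e2fd008242219108a4623c582f140ac48271008c180f0402c080701, 0, 64, 0x203000603002401002a01002c01004603005801005c01006001006401006601006801006c01007201007401, []⟩]

theorem t9_827_13 : jobs 8 S9 b8_827 j9_827_13 = true := by decide +kernel

noncomputable def j9_827_14 : List Job := [
  ⟨49, 0x540a25229950aa562bd008242219108a4623c783f1c0ec482711884381f0c06c080701, 0, 67, 0x1820001c20002a03003a03003e03, []⟩]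

theorem t9_827_14 : jobs 8 S9 b8_827 j9_827_14 = true := by decide +kernel

noncomputable def j9_827_15 : List Job := [
  ⟨48, 0x540a25229950aa562bd008242219108a4623c6837180cc582f140ac381f0c06c080701, 0, 67, 0x1403001e02003802004c03006801006c01007e01, []⟩]

theorem t9_827_15 : jobs 8 S9 b8_827 j9_827_15 = true := by decide +kernel

noncomputable def j9_827_16 : List Job := [
  ⟨47, 0x564b65c2fd60b45d2f504864523500844423c783f1c0ec6e35180cc180f0402c080701, 0, 64, 0x403001602003402003c03004603, []⟩]

theorem t9_827_16 : jobs 8 S9 b8_827 j9_827_16 = true := by decide +kernel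

noncomputable def j9_827_17 : List Job := [
  ⟨46, 0x560b25a2d970ba5e2fd008242219108a4623c783f1c0ec48271008c381f0c06c080701, 0, 64, 0x1003002c03003003004603004a03, []⟩]

theorem t9_827_17 : jobs 8 S9 b8_827 j9_827_17 = true := by decide +kernel

noncomputable def j9_827_18 : List Job := [
  ⟨45, 0x544a6552b540a4542bd04864523500844423c582f140ac482711884180f0402c080701, 0, 67, 0x203000603002001006803006c03007e01, []⟩]

theorem t9_827_18 : jobs 8 S9 b8_827 j9_827_18 = true := by decide +kernel

noncomputable def j9_827_19 : List Job := [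
  ⟨44, 0x47e3d1c0ec6837180cc180f0402c080701, 0, 87, 0x402001202001803003602003e03004a03005003005203, []⟩]

theorem t9_827_19 : jobs 8 S9 b8_827 j9_827_19 = true := by decide +kernel

noncomputable def j9_827_20 : List Job := [
  ⟨43, 0x560b25a2d970ba5e2fd40a25229950aa562bd20924a259309a4e27d008242219108a4623c7e3d1c0ec6837180cc180f0402c080701, 0, 87, 0x1202001803003602003e03005003, []⟩]

theorem t9_827_20 : jobs 8 S9 b8_827 j9_827_20 = true := by decide +kernel

noncomputable def j9_827_21 : List Job := [
  ⟨42, 0x520924a259309a4e27d008242219108a4623c6837180cc582f140ac3e1d0c06c080701, 0, 102, 0x1203001402001801001c01002201002602002e01003401003a03003e03004601005003005602007a01007e01008002008402008602008a02008e0100920100960100b00100b40100b60100ba0100bc0100c00100c40100c80100cc01, []⟩]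

theorem t9_827_21 : jobs 8 S9 b8_827 j9_827_21 = true := by decide +kernel

noncomputable def j9_827_22 : List Job := [
  ⟨41, 0x520924a259309a4e27d008242219108a4623c582f140ac48271008c180f0402c080701, 0, 102, 0x203000603002201002601002a01002e01003401003a01005a03007a01007e01008001008401008601008a01008e0100920100960100b00100b40100b60100ba0100bc0100c00100c40100c80100cc01, []⟩]

theorem t9_827_22 : jobs 8 S9 b8_827 j9_827_22 = true := by decide +kernel

noncomputable def j9_827_23 : List Job := [
  ⟨40, 0x47e3d1c0ec4827118843e1d0c06c080701, 0, 87, 0x801000e03001220001c01002003003020003403003602003c01004403004821004a02004e01005e01006401007801007c01008c0100920100a60100aa01, []⟩]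

theorem t9_827_23 : jobs 8 S9 b8_827 j9_827_23 = true := by decide +kernel

noncomputable def j9_827_24 : List Job := [
  ⟨39, 0x560b25a2d970ba5e2fd40a25229950aa562bd20924a259309a4e27d008242219108a4623c7e3d1c0ec4827118843e1d0c06c080701, 0, 87, 0x801000e03001220001c01002003003020003420003602003c01004421004a02004e01005e01006401007801007c01008c0100920100a60100aa01, []⟩]

theorem t9_827_24 : jobs 8 S9 b8_827 j9_827_24 = true := by decide +kernel

noncomputable def j9_827_25 : List Job := [
  ⟨38, 0x46837180cc5e2d140ac381f0c06c080701, 0, 87, 0x1003001602001a03001e02002203002403002801003c01004201004e01005603005c02005e03006402006a01007001007401007601007801007c01008001008202008603008803008e02009003009402, []⟩]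

theorem t9_827_25 : jobs 8 S9 b8_827 j9_827_25 = true := by decide +kernel

noncomputable def j9_827_26 : List Job := [
  ⟨37, 0x560b25a2d970ba5e2fd40a25229950aa562bd20924a259309a4e27d008242219108a4623c6837180cc5e2d140ac381f0c06c080701, 0, 87, 0x1003001602002203002801003c01004201004e01005603005c02005e03006402006a01006e01007001007201007801007c01007e01008202008e03, []⟩]

theorem t9_827_26 : jobs 8 S9 b8_827 j9_827_26 = true := by decide +kernel

noncomputable def j9_827_27 : List Job := [
  ⟨36, 0x520924a259309a4e27d008242219108a4623c783f1c0ec6837180cc1e0d0402c080701, 0, 102, 0x1402001a03003e02004202005c03006003, []⟩]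

theorem t9_827_27 : jobs 8 S9 b8_827 j9_827_27 = true := by decide +kernel

noncomputable def j9_827_28 : List Job := [
  ⟨35, 0x520924a259309a4e27d008242219108a4623c783f1c0ec48271008c381f0c06c080701, 0, 102, 0x2403003803003c03003e02004202004e03005203005602, []⟩]

theorem t9_827_28 : jobs 8 S9 b8_827 j9_827_28 = true := by decide +kernel

noncomputable def j9_827_29 : List Job := [
  ⟨34, 0x45e2d140ac4827118841e0d0402c080701, 0, 87, 0x220000603000801000e01001220001603001a21001c01001e01002001002201002401002802003203003603003c02004201004601004a03004e02005601005c01005e01006401006a01007001007420007603007801007c01008001008220008620008821008c01008e0100900100920100940100a60100aa01, []⟩]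

theorem t9_827_29 : jobs 8 S9 b8_827 j9_827_29 = true := by decide +kernel

noncomputable def j9_827_30 : List Job := [
  ⟨33, 0x560b25a2d970ba5e2fd40a25229950aa562bd20924a259309a4e27d008242219108a4623c5e2d140ac4827118841e0d0402c080701, 0, 87, 0x220000620000801000e01001621001c01002001002201002802003203004201004601005601005c01005e01006401006a01006e20007001007220007801007c01007e01008220008c01008e0100920100a60100aa01, []⟩]

theorem t9_827_30 : jobs 8 S9 b8_827 j9_827_30 = true := by decide +kernel

noncomputable def j9_827_31 : List Job := [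
  ⟨32, 0x540a25229950aa562bd008242219108a4623c783f1c0ec6837180cc180f0402c0e0501, 0, 67, 0xc02001403003802003c02, []⟩]

theorem t9_827_31 : jobs 8 S9 b8_827 j9_827_31 = true := by decide +kernel

noncomputable def j9_827_32 : List Job := [
  ⟨31, 0x560b25a2d970ba5e2fd008242219108a4623c6837180cc582f140ac381f0c06c0e0501, 0, 63, 0xe02003202003801003c01004001004602006201006401006601006801006a01006c01007401007601007801, []⟩]

theorem t9_827_32 : jobs 8 S9 b8_827 j9_827_32 = true := by decide +kernel

noncomputable def j9_827_33 : List Job := [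
  ⟨30, 0x560b25a2d970ba5e2fd008242219108a4623c582f140ac48271008c180f0402c0e0501, 0, 64, 0x203000603000a02003a02004201004801004a01006401006601006801006a01006c01006e01007001007201007401, []⟩]

theorem t9_827_33 : jobs 8 S9 b8_827 j9_827_33 = true := by decide +kernel

noncomputable def j9_827_34 : List Job := [
  ⟨29, 0x540a25229950aa562bd008242219108a4623c783f1c0ec4e2511884381f0c06c0e0501, 0, 61, 0xc02001e03002a03003020003402004203, []⟩]

theorem t9_827_34 : jobs 8 S9 b8_827 j9_827_34 = true := by decide +kernel

noncomputable def j9_827_35 : List Job := [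
  ⟨28, 0x540a25229950aa562bd008242219108a4623c783f1c0ec4e2511884381f0c06c0e0501, 0, 61, 0xc02001e03002a03003022003422004203, []⟩]

theorem t9_827_35 : jobs 8 S9 b8_827 j9_827_35 = true := by decide +kernel

noncomputable def j9_827_36 : List Job := [
  ⟨27, 0x540a25229950aa562bd008242219108a4623c6837180cc5e2d158a4381f0c06c0e0501, 0, 67, 0x202000602001802001c02003402003e02004a02, []⟩]

theorem t9_827_36 : jobs 8 S9 b8_827 j9_827_36 = true := by decide +kernel

noncomputable def j9_827_37 : List Job := [
  ⟨26, 0x564b65c2f560b45d2fd04864523d008444234783f1c0ec6837180cc1e0d058240e0501, 0, 63, 0x202004403, []⟩]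

theorem t9_827_37 : jobs 8 S9 b8_827 j9_827_37 = true := by decide +kernel

noncomputable def j9_827_38 : List Job := [
  ⟨25, 0x560b25a2d970ba5e2fd008242219108a4623c783f1c0ec48271008c381f0c06c0e0501, 0, 64, 0x202003202003602004602004a02, []⟩]

theorem t9_827_38 : jobs 8 S9 b8_827 j9_827_38 = true := by decide +kernel

noncomputable def j9_827_39 : List Job := [
  ⟨24, 0x544a6552bd40a4542b504864523d0084442345e2d158a44e25118841e0d058240e0501, 0, 104, 0x202000601001a01002401002620002a02003201003801004a02005002006e0200980100a20100c60100d001, []⟩]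

theorem t9_827_39 : jobs 8 S9 b8_827 j9_827_39 = true := by decide +kernel

noncomputable def j9_827_40 : List Job := [
  ⟨23, 0x544a6552bd40a4542b504864523d0084442345e2d158a44e25118841e0d058240e0501, 0, 93, 0x202000601001401001601001801001c22002022002801002a01002e01004002004602004c01004e01005a02006001006201008001008201008401008601008a0100ac0100ae0100b00100b20100b601, []⟩]

theorem t9_827_40 : jobs 8 S9 b8_827 j9_827_40 = true := by decide +kernel

noncomputable def j9_827_41 : List Job := [
  ⟨22, 0x540a25229950aa562bd008242219108a4623c703b1a0dc56291209c381f0804c180f01, 0, 107, 0xc02000e01001203001801001a03001c03001e03002003002e03003001003403003802003a01003c02004a02005001005c01005e03006001006402006802006a03006c02006e02007002007401007e03008403008802008a03008c03008e03009003009201009c02009e0100a00100a20200a80100aa0100ac0100b00100b40100b60300b80100bc0300c20100c40100c60100cc0200d202, []⟩]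

theorem t9_827_41 : jobs 8 S9 b8_827 j9_827_41 = true := by decide +kernel

noncomputable def j9_827_42 : List Job := [
  ⟨21, 0x560b25a2d970ba5e2fd008242219108a4623c783f1a0dc582f1209c301b0804c160901, 0, 102, 0xe02001001001a01001c01001e01002801002a01003202004001004201004401004801004a01004c01004e01005601005801005a01005e01006001006202006403006602006803006a02006c02007001007401007601007801007c01008602008803008a03008c01009001009202009401009601009e0100a00100a20100aa0100b60300c20200c401, []⟩]

theorem t9_827_42 : jobs 8 S9 b8_827 j9_827_42 = true := by decide +kernel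

noncomputable def j9_827_43 : List Job := [
  ⟨20, 0x560b25a2d970ba5e2fd008242219108a4623c783f198c4582f1008c381f0804c180f01, 0, 103, 0xc01001603001801001a03001c01002a01002c01003402003601003801004002004201004401004601004a01004e01005801005a01005c01006001006201006400006601006830006a00006c30007001007401007801008200008401008600008801008a01008e0100900100920100940200960100980100a20100a40100ac0100ae0100b00100ba0100c40200c60100c802, [(66, ⟨2770, 0x1500143001300040020e0002000400404020200, 0x3a8a20a220020601001⟩), (64, ⟨2769, 0x1580047009c00444020c0102008400004020200, 0x3bea44ca22020641001⟩), (52, ⟨2761, 0x1220058001080040000a0002000400000020200, 0x290a908220020441001⟩), (49, ⟨2760, 0x1500059001100040000c0003000480000020200, 0x2a42909020028601201⟩)]⟩]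

theorem t9_827_43 : jobs 8 S9 b8_827 j9_827_43 = true := by decide +kernel

noncomputable def j9_827_44 : List Job := [
  ⟨19, 0x540a25229950aa562bd008242219108a4623c703b180cc562911884301b0804c160901, 0, 99, 0xc02000e01001203001801001a01001c01002601002801002c01003022003201003422003c20003e01004020004202004801004a01004c01005601005801005c01006020006201006420006620006820006c01007601007c01008000008201008401008601008c02008e01009001009201009822009a01009c2200a00100a60100ac0100b00000b20100b40100b60100bc0200be0100c00100c201, [(87, ⟨2780, 0x16c0043001900444020e0103000480400020200, 0x2aea24d221028641201⟩), (63, ⟨2770, 0x13e0142009880440020a0102008400000020200, 0x29ea24c220020441001⟩)]⟩]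

theorem t9_827_44 : jobs 8 S9 b8_827 j9_827_44 = true := by decide +kernel

noncomputable def j9_827_45 : List Job := [
  ⟨18, 0x540a25229950aa562bd008242219108a4623c703b180cc562911884301b0804c160901, 0, 99, 0xc02000e01001203001801001a01001c01002601002801002c01003020003201003420003c20003e01004002004202004801004a01004c01005601005801005c01006020006201006420006620006820006c01007601007c01008000008201008401008601008c02008e01009001009201009821009a01009c2100a00100a60100ac0100b00000b20100b40100b60100bc0200be0100c00100c201, [(87, ⟨2779, 0x14e0044001a00440020c0102008400000020200, 0x2b6264f220020641001⟩), (63, ⟨2769, 0x1020046009080040000a0102000400000020200, 0x280a608220020441001⟩)]⟩]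

theorem t9_827_45 : jobs 8 S9 b8_827 j9_827_45 = true := by decide +kernel

noncomputable def j9_827_46 : List Job := [
  ⟨17, 0x540a25229950aa562bd008242219108a4623c703b1a0dc502b13894381f0804c180f01, 0, 107, 0xc02000e01001802001a01001c01002603002803002a01002c01003803004402004601004802005001005203005401005c01006802006a01006c02006e02007002007e01008802008a01008c01009402009601009801009a01009c0100a80100aa0100ac0100b40100b80100c00200cc0200ce0100d001, []⟩]

theorem t9_827_46 : jobs 8 S9 b8_827 j9_827_46 = true := by decide +kernel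

noncomputable def j9_827_47 : List Job := [
  ⟨16, 0x560b25a2d970ba5e2fd008242219108a4623c783f1b8d4582f1209c301b0804c100b01, 0, 103, 0xa02000c01000e01001c02001e01002001002a01002c01003402003601003801004002004601004a01004c01005001005801005a01005c01006001006201006402006601006802006a02006c02007801007a01008003008203008403008603008802008a01008c01009402009601009801009a01009e0100a00100ac0100ae0100b00100b80200ba0100c403, []⟩]

theorem t9_827_47 : jobs 8 S9 b8_827 j9_827_47 = true := by decide +kernel

noncomputable def j9_827_48 : List Job := [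
  ⟨15, 0x560b25a2d970ba5e2fd008242219108a4623c783f198c4582f1008c381f0804c180f01, 0, 103, 0xc01001601001801001a01002401002801003402003601003801004002004201004401004601004a01004c01004e01005001005a01006001006201006402006601006802006a02006c02007801007e01008001008202008401008601008e02009001009202009401009601009a01009c01009e0100a00100a20100a40100ae0100b00100b80200ba0100bc0200c601, []⟩]

theorem t9_827_48 : jobs 8 S9 b8_827 j9_827_48 = true := by decide +kernel

noncomputable def j9_827_49 : List Job := [
  ⟨14, 0x540a25229950aa562bd008242219108a4623c703b180cc502b11884301b0804c100b01, 0, 107, 0xc02000e01001002002001002201002401002e01003001003820003a01003c20004420004601004820005201005401005c01005e01006001006820006a01006c02006e20007002007e01009002009201009401009c02009e0100a00100aa0100b42000b60100b82000c00200c20100c40100cc0200ce0100d001, []⟩]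

theorem t9_827_49 : jobs 8 S9 b8_827 j9_827_49 = true := by decide +kernel

noncomputable def j9_827_50 : List Job := [
  ⟨13, 0x4783f1a0dc582f1209c301b09844100b01, 0, 87, 0x802002803002a01003203003801003a02003c03003e03004201004401004a02004c03005201008202008401008c02008e01009803009a0300a803, []⟩]

theorem t9_827_50 : jobs 8 S9 b8_827 j9_827_50 = true := by decide +kernel

noncomputable def j9_827_51 : List Job := [
  ⟨12, 0x560b25a2d970ba5e2fd40a25229950aa562bd20924a259309a4e27d008242219108a4623c783f1a0dc582f1209c301b09844100b01, 0, 87, 0x802002803002a01003203003401003a02003c01003e01004201004401004a02004c01005001008202008401008c02008e01009803009a0300a803, []⟩]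

theorem t9_827_51 : jobs 8 S9 b8_827 j9_827_51 = true := by decide +kernel

noncomputable def j9_827_52 : List Job := [
  ⟨11, 0x520924a259309a4e27d008242219108a4623c703b1a0dc502b1209c381f09844180f01, 0, 102, 0x802002e03003003003201003801003e02004003004a02004c01005001005401005602005801008002008402009802009a03009c0300a00100a20100a60100a80100aa0200ac0100b80300ba0100be0100c20200c403, []⟩]

theorem t9_827_52 : jobs 8 S9 b8_827 j9_827_52 = true := by decide +kernel

noncomputable def j9_827_53 : List Job := [
  ⟨10, 0x520924a259309a4e27d008242219108a4623c703b180cc502b1008c301b09844100b01, 0, 102, 0x2c02003001003401003802004601004c01005201008010008410008c02009002009a01009e0100a20100b00000b40000b60100ba0100bc0100c00100c202, [(89, ⟨2780, 0x1500144009a80040020c0003008400404020200, 0x3bca60f220020601401⟩), (87, ⟨2779, 0x15a0142001b80044020c0103000400404020200, 0x3b4a20e222020601201⟩)]⟩]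

theorem t9_827_53 : jobs 8 S9 b8_827 j9_827_53 = true := by decide +kernel

noncomputable def j9_827_54 : List Job := [
  ⟨9, 0x4783f198c4582f11884381f09844180f01, 0, 87, 0x802001210001801001c10002201002602002801002a21002c21003002003620003801003e20004001004201004401004601004a01004c01004e01005201006e02007401007802007e01008223008401008621009220009401009e0100a00100a80100aa01, []⟩]

theorem t9_827_54 : jobs 8 S9 b8_827 j9_827_54 = true := by decide +kernel

noncomputable def j9_827_55 : List Job := [
  ⟨8, 0x560b25a2d970ba5e2fd40a25229950aa562bd20924a259309a4e27d008242219108a4623c783f198c4582f11884381f09844180f01, 0, 87, 0x800001210001801001c10002201002620002801002a21002c21003020003620003801003a20004001004201004401004601004a01004c01004e01005001006e02007401007802007e01008223008401008621009220009401009e0100a00100a80100aa01, [(3, ⟨2784, 0x170004a001080040000c0003000400004020200, 0x3b0a308220020601201⟩)]⟩]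

theorem t9_827_55 : jobs 8 S9 b8_827 j9_827_55 = true := by decide +kernel

noncomputable def j9_827_56 : List Job := [
  ⟨7, 0x476391a0dc56291209c381f09844180f01, 0, 87, 0x802000c03002602002803003002003203003a02003c03003e03004a02004c01006e02007802008202008401008c02008e01009602009803009a0300a60200a803, []⟩]

theorem t9_827_56 : jobs 8 S9 b8_827 j9_827_56 = true := by decide +kernel

noncomputable def j9_827_57 : List Job := [
  ⟨6, 0x560b25a2d970ba5e2fd40a25229950aa562bd20924a259309a4e27d008242219108a4623c76391a0dc56291209c381f09844180f01, 0, 87, 0x802002602002803003002003203003a02003c03003e03004a02004c01006e02007802008202008401008c02008e01009602009803009a0300a60200a803, []⟩]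

theorem t9_827_57 : jobs 8 S9 b8_827 j9_827_57 = true := by decide +kernel

noncomputable def j9_827_58 : List Job := [
  ⟨5, 0x520924a259309a4e27d008242219108a4623c783f1a0dc582f1209c361909844160901, 0, 102, 0x802002c02002e03003003003e02004003004201004601004a02004c01005602005803005c01006001008002008c02009002009802009a03009c0300a00300a20300a60300a80300aa0200ac0100b60200b80300ba0100be0100c20200c403, []⟩]

theorem t9_827_58 : jobs 8 S9 b8_827 j9_827_58 = true := by decide +kernel

noncomputable def j9_827_59 : List Job := [
  ⟨4, 0x520924a259309a4e27d008242219108a4623c783f180cc582f1008c381f09844180f01, 0, 102, 0x2c02002e01003802003a01003c01004001004403004601004803005601005801005c01006001008002008402008c02009002009801009a01009e0100a20100a40200a60100b00200b20100b40200b60100ba0100bc0100c00100c20200c401, []⟩]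

theorem t9_827_59 : jobs 8 S9 b8_827 j9_827_59 = true := by decide +kernel

noncomputable def j9_827_60 : List Job := [
  ⟨3, 0x47639198c4562911884361909844160901, 0, 87, 0x802000c03001210001801001c10002201002620002a21003620004001004401004a02004e01006e10007401007802007e01009c0200a00100a60200aa01, []⟩]

theorem t9_827_60 : jobs 8 S9 b8_827 j9_827_60 = true := by decide +kernel

noncomputable def j9_827_61 : List Job := [
  ⟨2, 0x560b25a2d970ba5e2fd40a25229950aa562bd20924a259309a4e27d008242219108a4623c7639198c4562911884361909844160901, 0, 167, 0x800001210001801001c10002201002620002a21003620004001004401004a02004e01006e10007401007802007e01009c0200a00100a60200aa0100b20100b80100bc0100c20100c60100d00100da0100de0100e40100e80100f20100fc01010201010801010c01011201011601012001012a01012e01013401013801014201014c01, [(3, ⟨2784, 0x24000580008400100001000020002000000040400, 0x2902908220020401001⟩)]⟩]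

theorem t9_827_61 : jobs 8 S9 b8_827 j9_827_61 = true := by decide +kernel

noncomputable def j9_827_62 : List Job := [
  ⟨1, 0x4381f0c06c281709844180f0402c080701, 0, 54, 0x1c01001e01003a03004a02004c03004e02005a02005c03, []⟩]

theorem t9_827_62 : jobs 8 S9 b8_827 j9_827_62 = true := by decide +kernel

noncomputable def j9_827_63 : List Job := [
  ⟨0, 0x560b25a2d970ba5e2fd40a25229950aa562bd20924a259309a4e27d008242219108a4623c381f0c06c281709844180f0402c080701, 0, 54, 0x1c01001e01003803004a02004c03004e02005a02005c03, []⟩]

theorem t9_827_63 : jobs 8 S9 b8_827 j9_827_63 = true := by decide +kernel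

theorem d9_827 : Dn 8 S9 b8_827 := dn_of (Js := j9_827_0 ++ (j9_827_1 ++ (j9_827_2 ++ (j9_827_3 ++ (j9_827_4 ++ (j9_827_5 ++ (j9_827_6 ++ (j9_827_7 ++ (j9_827_8 ++ (j9_827_9 ++ (j9_827_10 ++ (j9_827_11 ++ (j9_827_12 ++ (j9_827_13 ++ (j9_827_14 ++ (j9_827_15 ++ (j9_827_16 ++ (j9_827_17 ++ (j9_827_18 ++ (j9_827_19 ++ (j9_827_20 ++ (j9_827_21 ++ (j9_827_22 ++ (j9_827_23 ++ (j9_827_24 ++ (j9_827_25 ++ (j9_827_26 ++ (j9_827_27 ++ (j9_827_28 ++ (j9_827_29 ++ (j9_827_30 ++ (j9_827_31 ++ (j9_827_32 ++ (j9_827_33 ++ (j9_827_34 ++ (j9_827_35 ++ (j9_827_36 ++ (j9_827_37 ++ (j9_827_38 ++ (j9_827_39 ++ (j9_827_40 ++ (j9_827_41 ++ (j9_827_42 ++ (j9_827_43 ++ (j9_827_44 ++ (j9_827_45 ++ (j9_827_46 ++ (j9_827_47 ++ (j9_827_48 ++ (j9_827_49 ++ (j9_827_50 ++ (j9_827_51 ++ (j9_827_52 ++ (j9_827_53 ++ (j9_827_54 ++ (j9_827_55 ++ (j9_827_56 ++ (j9_827_57 ++ (j9_827_58 ++ (j9_827_59 ++ (j9_827_60 ++ (j9_827_61 ++ (j9_827_62 ++ (j9_827_63 ++ []))))))))))))))))))))))))))))))))))))))))))))))))))))))))))))))))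
  (jobs_append t9_827_0 <| jobs_append t9_827_1 <| jobs_append t9_827_2 <| jobs_append t9_827_3 <| jobs_append t9_827_4 <| jobs_append t9_827_5 <| jobs_append t9_827_6 <| jobs_append t9_827_7 <| jobs_append t9_827_8 <| jobs_append t9_827_9 <| jobs_append t9_827_10 <| jobs_append t9_827_11 <| jobs_append t9_827_12 <| jobs_append t9_827_13 <| jobs_append t9_827_14 <| jobs_append t9_827_15 <| jobs_append t9_827_16 <| jobs_append t9_827_17 <| jobs_append t9_827_18 <| jobs_append t9_827_19 <| jobs_append t9_827_20 <| jobs_append t9_827_21 <| jobs_append t9_827_22 <| jobs_append t9_827_23 <| jobs_append t9_827_24 <| jobs_append t9_827_25 <| jobs_append t9_827_26 <| jobs_append t9_827_27 <| jobs_append t9_827_28 <| jobs_append t9_827_29 <| jobs_append t9_827_30 <| jobs_append t9_827_31 <| jobs_append t9_827_32 <| jobs_append t9_827_33 <| jobs_append t9_827_34 <| jobs_append t9_827_35 <| jobs_append t9_827_36 <| jobs_append t9_827_37 <| jobs_append t9_827_38 <| jobs_append t9_827_39 <| jobs_append t9_827_40 <| jobs_append t9_827_41 <| jobs_append t9_827_42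 <| jobs_append t9_827_43 <| jobs_append t9_827_44 <| jobs_append t9_827_45 <| jobs_append t9_827_46 <| jobs_append t9_827_47 <| jobs_append t9_827_48 <| jobs_append t9_827_49 <| jobs_append t9_827_50 <| jobs_append t9_827_51 <| jobs_append t9_827_52 <| jobs_append t9_827_53 <| jobs_append t9_827_54 <| jobs_append t9_827_55 <| jobs_append t9_827_56 <| jobs_append t9_827_57 <| jobs_append t9_827_58 <| jobs_append t9_827_59 <| jobs_append t9_827_60 <| jobs_append t9_827_61 <| jobs_append t9_827_62 <| jobs_append t9_827_63 <| List.forall_mem_nil _) (by decide +kernel)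

noncomputable def j9_828_0 : List Job := [
  ⟨63, 0x520924a259309a4e27d008242219108a4623ca457281548447201142e15098440e0501, 0, 54, 0x210000602000810000c13001813002010002413002610002a12003002003403003a13003e00004200004a00004c01005000005400005c00005e01006200006800, [(51, ⟨2795, 0x17e0141001000064000c0002000080020020001, 0x1bb2108026010601004⟩), (48, ⟨2794, 0x11a0045009000044000a0102000080020020001, 0x18b2508024010501004⟩), (45, ⟨2793, 0x16a0141009500464020c0002008080020020001, 0x1bb2109426010601004⟩), (41, ⟨2791, 0x11a0145001000444000a0102000080420020001, 0x18b2508024010501004⟩), (39, ⟨2790, 0x11a0145001000444000a0102000080420020001, 0x18b2508024010501004⟩), (36, ⟨2792, 0x16a0041001500464020c0102008080420020001, 0x1bb2109426010601004⟩), (32, ⟨2789, 0x11a0145001000444000a0102000080020020001, 0x18b2508024010501004⟩), (30, ⟨2788, 0x11a0145001000444000a0102000080020020001, 0x18b2508024010501004⟩)]⟩]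

theorem t9_828_0 : jobs 8 S9 b8_828 j9_828_0 = true := by decide +kernel

noncomputable def j9_828_1 : List Job := [
  ⟨62, 0x47639180cc582f1209c381f0a05c100b01, 0, 37, 0x202003002003402, []⟩]

theorem t9_828_1 : jobs 8 S9 b8_828 j9_828_1 = true := by decide +kernel

noncomputable def j9_828_2 : List Job := [
  ⟨61, 0x4703b1a0dc502b1209c381f09844180f01, 0, 37, 0x202003202, []⟩]

theorem t9_828_2 : jobs 8 S9 b8_828 j9_828_2 = true := by decide +kernel

noncomputable def j9_828_3 : List Job := [
  ⟨60, 0x4783f1a0dc502b1008c381f0a05c100b01, 0, 39, 0x202003802, []⟩]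

theorem t9_828_3 : jobs 8 S9 b8_828 j9_828_3 = true := by decide +kernel

noncomputable def j9_828_4 : List Job := [
  ⟨59, 0x4783f198c4582f11884381f09844180f01, 0, 43, 0x210000610000810000c11001010001e01002201002401003810003c11004010004e01005201005401, []⟩]

theorem t9_828_4 : jobs 8 S9 b8_828 j9_828_4 = true := by decide +kernel

noncomputable def j9_828_5 : List Job := [
  ⟨58, 0x476391a0dc56291209c381f09844180f01, 0, 41, 0x210003402003a02, []⟩]

theorem t9_828_5 : jobs 8 S9 b8_828 j9_828_5 = true := by decide +kernel

noncomputable def j9_828_6 : List Job := [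
  ⟨57, 0x4703b180cc582f1209c381f0a05c100b01, 0, 37, 0x202, []⟩]

theorem t9_828_6 : jobs 8 S9 b8_828 j9_828_6 = true := by decide +kernel

noncomputable def j9_828_7 : List Job := [
  ⟨56, 0x4783f180cc582f1008c381f09844180f01, 0, 39, 0x3210003610003802003c02, []⟩]

theorem t9_828_7 : jobs 8 S9 b8_828 j9_828_7 = true := by decide +kernel

noncomputable def j9_828_8 : List Job := [
  ⟨55, 0x4783f1a0dc502b11884381f0a05c100b01, 0, 39, 0x202000601000c01001e01002401004801004c01, []⟩]

theorem t9_828_8 : jobs 8 S9 b8_828 j9_828_8 = true := by decide +kernel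

noncomputable def j9_828_9 : List Job := [
  ⟨54, 0x4783f1a0dc582f1209c301b09844100b01, 0, 40, 0x210003410, []⟩]

theorem t9_828_9 : jobs 8 S9 b8_828 j9_828_9 = true := by decide +kernel

noncomputable def j9_828_10 : List Job := [
  ⟨53, 0x4783f180cc502b1209c36190a05c180f01, 0, 37, 0x202003002003402, []⟩]

theorem t9_828_10 : jobs 8 S9 b8_828 j9_828_10 = true := by decide +kernel

noncomputable def j9_828_11 : List Job := [
  ⟨52, 0x4703b180cc502b1008c301b09844100b01, 0, 38, 0x3210003611003810, []⟩]

theorem t9_828_11 : jobs 8 S9 b8_828 j9_828_11 = true := by decide +kernel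

noncomputable def j9_828_12 : List Job := [
  ⟨51, 0x476391a0dc582f1188436190a05c180f01, 0, 39, 0x202000601000c01001c01002001003002003402004601004c01, []⟩]

theorem t9_828_12 : jobs 8 S9 b8_828 j9_828_12 = true := by decide +kernel

noncomputable def j9_828_13 : List Job := [
  ⟨50, 0x4783f180cc502b1209c301b0a05c180f01, 0, 37, 0x3002, []⟩]

theorem t9_828_13 : jobs 8 S9 b8_828 j9_828_13 = true := by decide +kernel

noncomputable def j9_828_14 : List Job := [
  ⟨49, 0x4783f1a0dc582f1209c361909844160901, 0, 36, 0x202003010003402, []⟩]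

theorem t9_828_14 : jobs 8 S9 b8_828 j9_828_14 = true := by decide +kernel

noncomputable def j9_828_15 : List Job := [
  ⟨48, 0x4703b1a0dc582f1008c301b0a05c180f01, 0, 39, 0x202003002, []⟩]

theorem t9_828_15 : jobs 8 S9 b8_828 j9_828_15 = true := by decide +kernel

noncomputable def j9_828_16 : List Job := [
  ⟨47, 0x47639198c4562911884361909844160901, 0, 67, 0x210000601000c12001a01001e01002e12003202004001004401004a01004e01005201005601005a01005e01006201006601006a01006e01007201007601007a01007e01008201008601, []⟩]

theorem t9_828_16 : jobs 8 S9 b8_828 j9_828_16 = true := by decide +kernel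

noncomputable def j9_828_17 : List Job := [
  ⟨46, 0x47639198c4562911884361909844160901, 0, 69, 0x210000610000c10001a01001e01002e10003202004001004401004a01005001005401005801005c01006001006401006801006c01007001007601007a01007e01008201008601008a01, []⟩]

theorem t9_828_17 : jobs 8 S9 b8_828 j9_828_17 = true := by decide +kernel

noncomputable def j9_828_18 : List Job := [
  ⟨45, 0x4783f1c0ec6837180cc180f0402c080701, 0, 28, 0x201000801000c01000e01001001001201001601001a02001e01002001002201002401, []⟩]

theorem t9_828_18 : jobs 8 S9 b8_828 j9_828_18 = true := by decide +kernel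

noncomputable def j9_828_19 : List Job := [
  ⟨44, 0x4783f1c0ec582f140ac281709844080701, 0, 27, 0x210000403000603000801000a01000c01000e01001001001403001c01001e01002001002201002401, []⟩]

theorem t9_828_19 : jobs 8 S9 b8_828 j9_828_19 = true := by decide +kernel

noncomputable def j9_828_20 : List Job := [
  ⟨43, 0x4582f140ac48271008c180f0402c080701, 0, 30, 0x201000803000a01000c03000e01001001001201001601001e01002001002201002401002801, []⟩]

theorem t9_828_20 : jobs 8 S9 b8_828 j9_828_20 = true := by decide +kernel

noncomputable def j9_828_21 : List Job := [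
  ⟨42, 0x46837198c4482711884281709844080701, 0, 34, 0x203000801000a01000c01000e01001001001210001401001610001812001c01001e01002001002201002401, []⟩]

theorem t9_828_21 : jobs 8 S9 b8_828 j9_828_21 = true := by decide +kernel

noncomputable def j9_828_22 : List Job := [
  ⟨41, 0x46837198c4482711884281709844080701, 0, 35, 0x203000801000a01000c01000e01001001001210001410001610001810001c01001e01002001002201002401, []⟩]

theorem t9_828_22 : jobs 8 S9 b8_828 j9_828_22 = true := by decide +kernel

noncomputable def j9_828_23 : List Job := [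
  ⟨40, 0x4783f1c0ec582f140ac281709844080701, 0, 31, 0x210000410000610000801000a01000c01000e01001001001201001603001a03002201002401002601002801002a01002c01, []⟩]

theorem t9_828_23 : jobs 8 S9 b8_828 j9_828_23 = true := by decide +kernel

noncomputable def j9_828_24 : List Job := [
  ⟨39, 0x4783f1c0ec6e35180cc180f0402c080701, 0, 28, 0x201000801000a03000c01000e01001001001401001802001c01001e03002001002203002401002603, []⟩]

theorem t9_828_24 : jobs 8 S9 b8_828 j9_828_24 = true := by decide +kernel

noncomputable def j9_828_25 : List Job := [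
  ⟨38, 0x46837180cc48271008c281709844080701, 0, 29, 0x203000603000a01000c01000e01001001001201001410001610001810001a10001e11002001002201002401002601002801, []⟩]

theorem t9_828_25 : jobs 8 S9 b8_828 j9_828_25 = true := by decide +kernel

noncomputable def j9_828_26 : List Job := [
  ⟨37, 0x4582f140ac482711884180f0402c080701, 0, 30, 0x201000803000a01000c03000e01001001001401001c03001e01002003002203002403002801002a01, []⟩]

theorem t9_828_26 : jobs 8 S9 b8_828 j9_828_26 = true := by decide +kernel

noncomputable def j9_828_27 : List Job := [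
  ⟨36, 0x4381f0c06c281709844180f0402c080701, 0, 32, 0x210000c01000e01001001001201001401001601001a10002010002210002401002601002801002a01002c01002e01, []⟩]

theorem t9_828_27 : jobs 8 S9 b8_828 j9_828_27 = true := by decide +kernel

noncomputable def j9_828_28 : List Job := [
  ⟨35, 0x46e35180cc582f140ac381f0c06c080701, 0, 28, 0x201000801000a03000c01000e03001001001203001601001a02001e01002003002201002401002601, []⟩]

theorem t9_828_28 : jobs 8 S9 b8_828 j9_828_28 = true := by decide +kernel

noncomputable def j9_828_29 : List Job := [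
  ⟨34, 0x4783f1c0ec6837180cc582f140ac48271008c381f0c06c281709844180f0402c080701, 0, 30, 0x401000801001401001801001c10001e01002010002201002601002a01002c01002e01003001003a01003c01, []⟩]

theorem t9_828_29 : jobs 8 S9 b8_828 j9_828_29 = true := by decide +kernel

noncomputable def j9_828_30 : List Job := [
  ⟨33, 0x4783f1c0ec482711884381f0c06c080701, 0, 30, 0x201000803000a01000c03000e03001003001401001601001a01002203002401002603002801002a01, []⟩]

theorem t9_828_30 : jobs 8 S9 b8_828 j9_828_30 = true := by decide +kernel

noncomputable def j9_828_31 : List Job := [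
  ⟨32, 0x46837180cc582f140ac381f0c06c080701, 0, 28, 0x201000801000a01000c01000e01001401001802001c01001e03002001002201002401002601, []⟩]

theorem t9_828_31 : jobs 8 S9 b8_828 j9_828_31 = true := by decide +kernel

noncomputable def j9_828_32 : List Job := [
  ⟨31, 0x4381f0c06c281709844180f0402c080701, 0, 28, 0x210000801000a01000c01000e01001001001410001803001c11001e01002001002201002401002601, []⟩]

theorem t9_828_32 : jobs 8 S9 b8_828 j9_828_32 = true := by decide +kernel

noncomputable def j9_828_33 : List Job := [
  ⟨30, 0x4783f1c0ec48271008c381f0c06c080701, 0, 30, 0x201000801000a01000c01000e01001201001801002003002201002403002601002801002a01, []⟩]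

theorem t9_828_33 : jobs 8 S9 b8_828 j9_828_33 = true := by decide +kernel

noncomputable def j9_828_34 : List Job := [
  ⟨29, 0x4783f1c0ec6837198c4582f140ac482711884381f0c06c281709844180f0402c080701, 0, 52, 0x201000401000601000801001001001401001610001a10001c10001e10002010002201002411002601002801002c01002e01003001003201003400003601003800003a01003c01003e01004010004410004601004801004a01004e01005001005220005600005a01005e01006001006201006401006801, [(42, ⟨2787, 0x1600041001000040020e0102000400404020001, 0x1b22088020020681002⟩), (27, ⟨2786, 0x13a014b001d00440000a0102000400404020001, 0x19a238d820020481002⟩), (25, ⟨2785, 0x13a004a001d00040000a0102000400004020001, 0x19a230d820020481002⟩)]⟩]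

theorem t9_828_34 : jobs 8 S9 b8_828 j9_828_34 = true := by decide +kernel

noncomputable def j9_828_35 : List Job := [
  ⟨28, 0x47e3d1d8e46837180cc180f0402c0e0501, 0, 31, 0x202000401001002001201001603001a01001c03001e01002601002803002a03, []⟩]

theorem t9_828_35 : jobs 8 S9 b8_828 j9_828_35 = true := by decide +kernel

noncomputable def j9_828_36 : List Job := [
  ⟨27, 0x4783f1c0ec582f140ac2e15098440e0501, 0, 30, 0x202000410000603000a10000e10001010001203001403001e01002001002601002801, []⟩]

theorem t9_828_36 : jobs 8 S9 b8_828 j9_828_36 = true := by decide +kernel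

noncomputable def j9_828_37 : List Job := [
  ⟨26, 0x4582f140ac48271008c180f0402c0e0501, 0, 33, 0x401001001001202001403001803001e01002a01002c03002e01, []⟩]

theorem t9_828_37 : jobs 8 S9 b8_828 j9_828_37 = true := by decide +kernel

noncomputable def j9_828_38 : List Job := [
  ⟨25, 0x46e35198c44e25118842e15098440e0501, 0, 44, 0x210000610000810000c11001010003a01003c01003e01004001004a01004c01004e01005001, []⟩]

theorem t9_828_38 : jobs 8 S9 b8_828 j9_828_38 = true := by decide +kernel

noncomputable def j9_828_39 : List Job := [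
  ⟨24, 0x46e35198c44e25118842e15098440e0501, 0, 56, 0x210000610002601002801002a01002c01002e01003401003601004201004401004601004801004a01005001005201005410005811005c10, []⟩]

theorem t9_828_39 : jobs 8 S9 b8_828 j9_828_39 = true := by decide +kernel

noncomputable def j9_828_40 : List Job := [
  ⟨23, 0x47e3d1d8e45e2d158a42e15098440e0501, 0, 43, 0x210000811000e03001c01001e01002001002201002401002601002801002a01, []⟩]

theorem t9_828_40 : jobs 8 S9 b8_828 j9_828_40 = true := by decide +kernel

noncomputable def j9_828_41 : List Job := [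
  ⟨22, 0x47e3d1d8e45e2d158a42e15098440e0501, 0, 52, 0x210002c01002e01003001003201003c01003e01004001004201004c01004e01005001005201005410005a02, []⟩]

theorem t9_828_41 : jobs 8 S9 b8_828 j9_828_41 = true := by decide +kernel

noncomputable def j9_828_42 : List Job := [
  ⟨21, 0x4783f1c0ec6837180cc180f0402c0e0501, 0, 30, 0x202000401000c02000e01001001001a02001c01001e02002801, []⟩]

theorem t9_828_42 : jobs 8 S9 b8_828 j9_828_42 = true := by decide +kernel

noncomputable def j9_828_43 : List Job := [
  ⟨20, 0x46837180cc48271008c2e15098440e0501, 0, 32, 0x202000410000602000e01001001001210001612001810001c12001e03002010002203002a01002c01, []⟩]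

theorem t9_828_43 : jobs 8 S9 b8_828 j9_828_43 = true := by decide +kernel

noncomputable def j9_828_44 : List Job := [
  ⟨19, 0x4582f140ac4e2511884180f0402c0e0501, 0, 26, 0x202000401000c01000e02001602001802001a02001c02002002002201, []⟩]

theorem t9_828_44 : jobs 8 S9 b8_828 j9_828_44 = true := by decide +kernel

noncomputable def j9_828_45 : List Job := [
  ⟨18, 0x4582f140ac4e2511884180f0402c0e0501, 0, 26, 0x202000401000c01000e02001602001802001a02001c02002002002201, []⟩]

theorem t9_828_45 : jobs 8 S9 b8_828 j9_828_45 = true := by decide +kernel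

noncomputable def j9_828_46 : List Job := [
  ⟨17, 0x4381f0c06c2e1509844180f0402c0e0501, 0, 34, 0x210000412000610, []⟩]

theorem t9_828_46 : jobs 8 S9 b8_828 j9_828_46 = true := by decide +kernel

noncomputable def j9_828_47 : List Job := [
  ⟨16, 0x46837180cc582f140ac3e1d0d8640e0501, 0, 30, 0x202000402000c02000e02001002001a03001c03001e03002203002603002803, []⟩]

theorem t9_828_47 : jobs 8 S9 b8_828 j9_828_47 = true := by decide +kernel

noncomputable def j9_828_48 : List Job := [
  ⟨15, 0x4783f1c0ec6837180cc582f140ac48271008c381f0c06c2e1509844180f0402c0e0501, 0, 50, 0x210000610000810000a10000c11000e11001201001801002210002611002c01003401003801003c01004401004601004a01004e01005201005401005601005801005c01005e01006201006401, []⟩]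

theorem t9_828_48 : jobs 8 S9 b8_828 j9_828_48 = true := by decide +kernel

noncomputable def j9_828_49 : List Job := [
  ⟨14, 0x47e3d1d8e44e25118843e1d0d8640e0501, 0, 52, 0x202000402000c01000e01002801002a01003001003201003401003601003801003a01003c01003e01004001004201004a01004c01005201005401005c03005e01006003006203006603006803, []⟩]

theorem t9_828_49 : jobs 8 S9 b8_828 j9_828_49 = true := by decide +kernel

noncomputable def j9_828_50 : List Job := [
  ⟨13, 0x47e3d1d8e44e25118843e1d0d8640e0501, 0, 42, 0x202000402000c01000e01001603001801001a03001c03002003002203003801003c01004001004401004601004801004a01004c01004e01005001005201005401, []⟩]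

theorem t9_828_50 : jobs 8 S9 b8_828 j9_828_50 = true := by decide +kernel

noncomputable def j9_828_51 : List Job := [
  ⟨12, 0x46837180cc582f140ac381f0c06c0e0501, 0, 31, 0x402001002001202001a02001c02001e02002002002602002802002a02, []⟩]

theorem t9_828_51 : jobs 8 S9 b8_828 j9_828_51 = true := by decide +kernel

noncomputable def j9_828_52 : List Job := [
  ⟨11, 0x4783f1c0ec48271008c381f0c06c0e0501, 0, 33, 0x402001001001201001e01002001002201002402002802002e02, []⟩]

theorem t9_828_52 : jobs 8 S9 b8_828 j9_828_52 = true := by decide +kernel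

noncomputable def j9_828_53 : List Job := [
  ⟨10, 0x47e3d180cc56291209c301b0b854180f01, 0, 87, 0x802000c03000e03002402002603002a02002c02003602003a02003e03004c03005002005203005602006002006601006c01006e02007803007e02008401008a01008e02009401009801009c0200a00300a60200aa01, []⟩]

theorem t9_828_53 : jobs 8 S9 b8_828 j9_828_53 = true := by decide +kernel

noncomputable def j9_828_54 : List Job := [
  ⟨9, 0x560b25a2d970ba5e2fd40a25229950aa562bd20924a259309a4e27d008242219108a4623c7e3d180cc56291209c301b0b854180f01, 0, 87, 0x802002401002c02003602003a02005003005602006002006601006c01006e02007803007e02008401008a01008e02009401009801009c0200a00300a60200aa01, []⟩]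

theorem t9_828_54 : jobs 8 S9 b8_828 j9_828_54 = true := by decide +kernel

noncomputable def j9_828_55 : List Job := [
  ⟨8, 0x520924a259309a4e27d008242219108a4623c703b180cc582f1209c3e1d0b854160901, 0, 100, 0xa02000c03002203002402002e02003003003a02003c01003e01004201004602004801005201005401005801005c01006002006402006802006c02007001007401007602007803008202008602008a01008e02009002009202009a02009c0100a60100a80100b20200b40300be0200c001, []⟩]

theorem t9_828_55 : jobs 8 S9 b8_828 j9_828_55 = true := by decide +kernel

noncomputable def j9_828_56 : List Job := [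
  ⟨7, 0x520924a259309a4e27d008242219108a4623c703b1a0dc582f1008c301b0b854180f01, 0, 102, 0xa03002603002802003401004001004201004601004a01004c01005601005801005c01006001006401006a01007001007402007603008002008402008602008a02008c01009001009402009e0100a00100aa0100ac0100b80100c401, []⟩]

theorem t9_828_56 : jobs 8 S9 b8_828 j9_828_56 = true := by decide +kernel

noncomputable def j9_828_57 : List Job := [
  ⟨6, 0x47e3d1b8d45629118843e1d0b854160901, 0, 81, 0x802000c02000e02001e01002001002401002620003020003402003803004601004a01004c01005002005a01006001006601006802006e01007202007801007e02008201008801008c01009002009401009a02009e01, []⟩]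

theorem t9_828_57 : jobs 8 S9 b8_828 j9_828_57 = true := by decide +kernel

noncomputable def j9_828_58 : List Job := [
  ⟨5, 0x560b25a2d970ba5e2fd40a25229950aa562bd20924a259309a4e27d008242219108a4623c7e3d1b8d45629118843e1d0b854160901, 0, 124, 0x202001001001420001820002602003001003402003a02004202004601004802004c02005201005601005801005c01006201006a01006c01007001007601007801007e01008201008401008801008e01009001009601009c01009e0100a20100be2000cc0100d20100d80100da0100de0100e40100ea0100ee0100f401, []⟩]

theorem t9_828_58 : jobs 8 S9 b8_828 j9_828_58 = true := by decide +kernel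

noncomputable def j9_828_59 : List Job := [
  ⟨4, 0x47e3d1b8d45629118843e1d0b854160901, 0, 81, 0x802000c03000e02001e01002001002401002622003020003420003820004601004a01004c01005002005a01006001006601006802006e01007202007801007e02008201008801008c01009002009401009a02009e01, []⟩]

theorem t9_828_59 : jobs 8 S9 b8_828 j9_828_59 = true := by decide +kernel

noncomputable def j9_828_60 : List Job := [
  ⟨3, 0x560b25a2d970ba5e2fd40a25229950aa562bd20924a259309a4e27d008242219108a4623c7e3d1b8d45629118843e1d0b854160901, 0, 121, 0x802001e01002622003020003420004a01005002005a01006001006601006802006e01007202007801007e02008201008801008c01009002009401009a02009e0100a60100a80100aa0100b00100b40100b80100bc0100be0100c20100c60100cc0100ce0100d40100d80100de0100e00100e20100e60100ea0100f001, []⟩]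

theorem t9_828_60 : jobs 8 S9 b8_828 j9_828_60 = true := by decide +kernel

noncomputable def j9_828_61 : List Job := [
  ⟨2, 0x4783f180cc502b13894301b0a05c180f01, 0, 87, 0x802000c03001e01002001002c03003401003602004801006e02007802009c0200a602, []⟩]

theorem t9_828_61 : jobs 8 S9 b8_828 j9_828_61 = true := by decide +kernel

noncomputable def j9_828_62 : List Job := [
  ⟨1, 0x560b25a2d970ba5e2fd40a25229950aa562bd20924a259309a4e27d008242219108a4623c783f180cc502b13894301b0a05c180f01, 0, 87, 0x802001e01002001003001003602004601006e02007802009c0200a602, []⟩]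

theorem t9_828_62 : jobs 8 S9 b8_828 j9_828_62 = true := by decide +kernel

noncomputable def j9_828_63 : List Job := [
  ⟨0, 0x520924a259309a4e27d008242219108a4623c703b180cc582f1209c381f0a05c100b01, 0, 102, 0x802001a01002801003202004201004601005801005c01006001006401007401007601007801007c01007e01008201008401008602008a02009202009401009602009a01, []⟩]

theorem t9_828_63 : jobs 8 S9 b8_828 j9_828_63 = true := by decide +kernel

theorem d9_828 : Dn 8 S9 b8_828 := dn_of (Js := j9_828_0 ++ (j9_828_1 ++ (j9_828_2 ++ (j9_828_3 ++ (j9_828_4 ++ (j9_828_5 ++ (j9_828_6 ++ (j9_828_7 ++ (j9_828_8 ++ (j9_828_9 ++ (j9_828_10 ++ (j9_828_11 ++ (j9_828_12 ++ (j9_828_13 ++ (j9_828_14 ++ (j9_828_15 ++ (j9_828_16 ++ (j9_828_17 ++ (j9_828_18 ++ (j9_828_19 ++ (j9_828_20 ++ (j9_828_21 ++ (j9_828_22 ++ (j9_828_23 ++ (j9_828_24 ++ (j9_828_25 ++ (j9_828_26 ++ (j9_828_27 ++ (j9_828_28 ++ (j9_828_29 ++ (j9_828_30 ++ (j9_828_31 ++ (j9_828_32 ++ (j9_828_33 ++ (j9_828_34 ++ (j9_828_35 ++ (j9_828_36 ++ (j9_828_37 ++ (j9_828_38 ++ (j9_828_39 ++ (j9_828_40 ++ (j9_828_41 ++ (j9_828_42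 ++ (j9_828_43 ++ (j9_828_44 ++ (j9_828_45 ++ (j9_828_46 ++ (j9_828_47 ++ (j9_828_48 ++ (j9_828_49 ++ (j9_828_50 ++ (j9_828_51 ++ (j9_828_52 ++ (j9_828_53 ++ (j9_828_54 ++ (j9_828_55 ++ (j9_828_56 ++ (j9_828_57 ++ (j9_828_58 ++ (j9_828_59 ++ (j9_828_60 ++ (j9_828_61 ++ (j9_828_62 ++ (j9_828_63 ++ []))))))))))))))))))))))))))))))))))))))))))))))))))))))))))))))))
  (jobs_append t9_828_0 <| jobs_append t9_828_1 <| jobs_append t9_828_2 <| jobs_append t9_828_3 <| jobs_append t9_828_4 <| jobs_append t9_828_5 <| jobs_append t9_828_6 <| jobs_append t9_828_7 <| jobs_append t9_828_8 <| jobs_append t9_828_9 <| jobs_append t9_828_10 <| jobs_append t9_828_11 <| jobs_append t9_828_12 <| jobs_append t9_828_13 <| jobs_append t9_828_14 <| jobs_append t9_828_15 <| jobs_append t9_828_16 <| jobs_append t9_828_17 <| jobs_append t9_828_18 <| jobs_append t9_828_19 <| jobs_append t9_828_20 <| jobs_append t9_828_21 <| jobs_append t9_828_22 <| jobs_append t9_828_23 <| jobs_append t9_828_24 <| jobs_append t9_828_25 <| jobs_append t9_828_26 <| jobs_append t9_828_27 <| jobs_append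 t9_828_28 <| jobs_append t9_828_29 <| jobs_append t9_828_30 <| jobs_append t9_828_31 <| jobs_append t9_828_32 <| jobs_append t9_828_33 <| jobs_append t9_828_34 <| jobs_append t9_828_35 <| jobs_append t9_828_36 <| jobs_append t9_828_37 <| jobs_append t9_828_38 <| jobs_append t9_828_39 <| jobs_append t9_828_40 <| jobs_append t9_828_41 <| jobs_append t9_828_42 <| jobs_append t9_828_43 <| jobs_append t9_828_44 <| jobs_append t9_828_45 <| jobs_append t9_828_46 <| jobs_append t9_828_47 <| jobs_append t9_828_48 <| jobs_append t9_828_49 <| jobs_append t9_828_50 <| jobs_append t9_828_51 <| jobs_append t9_828_52 <| jobs_append t9_828_53 <| jobs_append t9_828_54 <| jobs_append t9_828_55 <| jobs_append t9_828_56 <| jobs_append t9_828_57 <| jobs_append t9_828_58 <| jobs_append t9_828_59 <| jobs_append t9_828_60 <| jobs_append t9_828_61 <| jobs_append t9_828_62 <| jobs_append t9_828_63 <| List.forall_mem_nil _) (by decide +kernel)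

noncomputable def j9_829_0 : List Job := [
  ⟨63, 0x520924a259309a4e27d008242219108a4623c281709844080701, 0, 18, 0x203000403000a12000c13001403, []⟩]

theorem t9_829_0 : jobs 8 S9 b8_829 j9_829_0 = true := by decide +kernel

noncomputable def j9_829_1 : List Job := [
  ⟨62, 0x4904a26138b05a2e17c804222118a0522a15c281709844080701, 0, 18, 0x603000803000e10001011001603, []⟩]

theorem t9_829_1 : jobs 8 S9 b8_829 j9_829_1 = true := by decide +kernel

noncomputable def j9_829_2 : List Job := [
  ⟨61, 0x520924a259309a4e27d008242219108a4623c904a26138b05a2e17c804222118a0522a15c281709844080701, 0, 18, 0x210000411000a12000c13001213, []⟩]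

theorem t9_829_2 : jobs 8 S9 b8_829 j9_829_2 = true := by decide +kernel

noncomputable def j9_829_3 : List Job := [
  ⟨60, 0x4804222118a0522a15c381f0c06c281709844180f0402c080701, 0, 32, 0xa03000c03001a10001c11002a03002c03002e03003003, []⟩]

theorem t9_829_3 : jobs 8 S9 b8_829 j9_829_3 = true := by decide +kernel

noncomputable def j9_829_4 : List Job := [
  ⟨59, 0x524964d27520944c27d04864523500844423c804222118a0522a15c381f0c06c281709844180f0402c080701, 0, 44, 0x210000411001210001411002211002410002610002811003210003411004a10004c11, []⟩]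

theorem t9_829_4 : jobs 8 S9 b8_829 j9_829_4 = true := by decide +kernel

noncomputable def j9_829_5 : List Job := [
  ⟨58, 0x4381f0c06c2e1509844180f0402c0e0501, 0, 30, 0x202000402000603000803001a12001c11001e10002013003401003801003a01003c01, []⟩]

theorem t9_829_5 : jobs 8 S9 b8_829 j9_829_5 = true := by decide +kernel

noncomputable def j9_829_6 : List Job := [
  ⟨57, 0x520924a259309a4e27d008242219108a4623c381f0c06c2e1509844180f0402c0e0501, 0, 30, 0x210000410001a13001c03003a01003c01, []⟩]

theorem t9_829_6 : jobs 8 S9 b8_829 j9_829_6 = true := by decide +kernel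

noncomputable def j9_829_7 : List Job := [
  ⟨56, 0x4944e2c174904c2d17c84462915c804428154381f0c06c2e1509844180f0402c0e0501, 0, 48, 0x202000402000603000803000a10000e11001206001407001607001806002a01002e01004206004607005a02005e03, []⟩]

theorem t9_829_7 : jobs 8 S9 b8_829 j9_829_7 = true := by decide +kernel

noncomputable def j9_829_8 : List Job := [
  ⟨55, 0x520924a259309a4e27d008242219108a4623c944e2c174904c2d17c84462915c804428154381f0c06c2e1509844180f0402c0e0501, 0, 48, 0x212000412000a04001216001417002a13003a17005201, []⟩]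

theorem t9_829_8 : jobs 8 S9 b8_829 j9_829_8 = true := by decide +kernel

noncomputable def j9_829_9 : List Job := [
  ⟨54, 0x484462815480442915c2e15098440e0501, 0, 24, 0x210000402000610000812001a10001c13001e10002003, []⟩]

theorem t9_829_9 : jobs 8 S9 b8_829 j9_829_9 = true := by decide +kernel

noncomputable def j9_829_10 : List Job := [
  ⟨53, 0x520924a259309a4e27d008242219108a4623c84462815480442915c2e15098440e0501, 0, 28, 0x210000410001a11001c11003201003400003600003800, [(27, ⟨2840, 0xa10147002900190007000201080001010001, 0x1a22488c26020681002⟩), (26, ⟨2839, 0x960043012001180005000201080101010001, 0x19c2288024020481002⟩), (25, ⟨2838, 0x960043012000180005000200080101010001, 0x19c2288024020481002⟩)]⟩]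

theorem t9_829_10 : jobs 8 S9 b8_829 j9_829_10 = true := by decide +kernel

noncomputable def j9_829_11 : List Job := [
  ⟨52, 0x484462915c8044281542e15098440e0501, 0, 24, 0x210000402000610000812001a10001c13001e10002003, []⟩]

theorem t9_829_11 : jobs 8 S9 b8_829 j9_829_11 = true := by decide +kernel

noncomputable def j9_829_12 : List Job := [
  ⟨51, 0x520924a259309a4e27d008242219108a4623c84462915c8044281542e15098440e0501, 0, 40, 0x210000410001a01002a01004211004411, []⟩]

theorem t9_829_12 : jobs 8 S9 b8_829 j9_829_12 = true := by decide +kernel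

noncomputable def j9_829_13 : List Job := [
  ⟨50, 0x484462815480442915c2e15098440e0501, 0, 24, 0x202000412000603000811001a02001c10001e03002013, []⟩]

theorem t9_829_13 : jobs 8 S9 b8_829 j9_829_13 = true := by decide +kernel

noncomputable def j9_829_14 : List Job := [
  ⟨49, 0x520924a259309a4e27d008242219108a4623c84462815480442915c2e15098440e0501, 0, 40, 0x210000402001a10001c13003a01004601, []⟩]

theorem t9_829_14 : jobs 8 S9 b8_829 j9_829_14 = true := by decide +kernel

noncomputable def j9_829_15 : List Job := [
  ⟨48, 0x484462915c8044281542e15098440e0501, 0, 24, 0x202000412000603000811001a02001c10001e03002013, []⟩]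

theorem t9_829_15 : jobs 8 S9 b8_829 j9_829_15 = true := by decide +kernel

noncomputable def j9_829_16 : List Job := [
  ⟨47, 0x520924a259309a4e27d008242219108a4623c84462915c8044281542e15098440e0501, 0, 29, 0x210000402001a10001c13003200003400003600003800003a00, [(28, ⟨2800, 0x910145002800180105010201010108000001, 0x1922508422010501004⟩), (27, ⟨2799, 0x910045012800180105000201010008000001, 0x1922508422010501004⟩), (26, ⟨2798, 0x910145002800180005000200010008010001, 0x1922508422010501004⟩), (25, ⟨2797, 0x910145002801180105000200010008000001, 0x1922508422010501004⟩), (24, ⟨2796, 0x910145002801180105000201010008000001, 0x1922508422010501004⟩)]⟩]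

theorem t9_829_16 : jobs 8 S9 b8_829 j9_829_16 = true := by decide +kernel

noncomputable def j9_829_17 : List Job := [
  ⟨46, 0x5008242219108a4623c904a2613c80422211c381f0a05c100b01, 0, 48, 0x4a02004c03004e01005202005403005601, []⟩]

theorem t9_829_17 : jobs 8 S9 b8_829 j9_829_17 = true := by decide +kernel

noncomputable def j9_829_18 : List Job := [
  ⟨45, 0x5008242219108a4623cb05a2e17c80422211c301b0a05c180f01, 0, 52, 0x202001003001c03003403003c03004e02005201005602005a01, []⟩]

theorem t9_829_18 : jobs 8 S9 b8_829 j9_829_18 = true := by decide +kernel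

noncomputable def j9_829_19 : List Job := [
  ⟨44, 0x5008242219108a4623cb05a2e17c80422211c301b0a05c180f01, 0, 52, 0x1003001c03003403003c03004e02005201005602005a01005e02, []⟩]

theorem t9_829_19 : jobs 8 S9 b8_829 j9_829_19 = true := by decide +kernel

noncomputable def j9_829_20 : List Job := [
  ⟨43, 0x5008242219108a4623c904a2613c80422211c381f0a05c160901, 0, 48, 0x202004a02004c03004e01005202005403005601005a02, []⟩]

theorem t9_829_20 : jobs 8 S9 b8_829 j9_829_20 = true := by decide +kernel

noncomputable def j9_829_21 : List Job := [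
  ⟨42, 0x5008242219108a4623cb05a2e17c80422211c180f0402c080701, 0, 40, 0x403000a03001003001c03002403002c03003001003403, []⟩]

theorem t9_829_21 : jobs 8 S9 b8_829 j9_829_21 = true := by decide +kernel

noncomputable def j9_829_22 : List Job := [
  ⟨41, 0x5008242219108a4623c904a2613c80422211c381f0c06c080701, 0, 36, 0x403000803000c03001403001803001c03002403002c03, []⟩]

theorem t9_829_22 : jobs 8 S9 b8_829 j9_829_22 = true := by decide +kernel

noncomputable def j9_829_23 : List Job := [
  ⟨40, 0x5008242219108a4623c904a2613c80422211c381f0c06c080701, 0, 36, 0x403000801000c03001403001801001c03002403002c03, []⟩]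

theorem t9_829_23 : jobs 8 S9 b8_829 j9_829_23 = true := by decide +kernel

noncomputable def j9_829_24 : List Job := [
  ⟨39, 0x504864523500844423cb05a2e17c80422211c180f0402c080701, 0, 40, 0x403000a01001003001c03002403002c03003001003403, []⟩]

theorem t9_829_24 : jobs 8 S9 b8_829 j9_829_24 = true := by decide +kernel

noncomputable def j9_829_25 : List Job := [
  ⟨38, 0x5008242219108a4623c904a2613c844720114180f0402c0e0501, 0, 48, 0x202000403000602000803000a02000c03003202003403003a02003c03004202004403004a02004c03, []⟩]

theorem t9_829_25 : jobs 8 S9 b8_829 j9_829_25 = true := by decide +kernel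

noncomputable def j9_829_26 : List Job := [
  ⟨37, 0x5008242219108a4623cb05a2e17c844720114381f0c06c0e0501, 0, 48, 0x202000403000602000a02000c03001403001c03002403002c03003202003403003803003a02003c03004202004a02005403005c03, []⟩]

theorem t9_829_26 : jobs 8 S9 b8_829 j9_829_26 = true := by decide +kernel

noncomputable def j9_829_27 : List Job := [
  ⟨36, 0x5008242219108a4623cb05a2e17c80422211c381f0c06c0e0501, 0, 32, 0x202000403001003001803001e02002003, []⟩]

theorem t9_829_27 : jobs 8 S9 b8_829 j9_829_27 = true := by decide +kernel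

noncomputable def j9_829_28 : List Job := [
  ⟨35, 0x5008242219108a4623cb45d2c17c844720114381f0c06c0e0501, 0, 32, 0x202000403000802000a03001003001803001e02002003002402002603002a02003002003803003e03, []⟩]

theorem t9_829_28 : jobs 8 S9 b8_829 j9_829_28 = true := by decide +kernel

noncomputable def j9_829_29 : List Job := [
  ⟨34, 0x4301b09844100b01, 0, 32, 0x3210, []⟩]

theorem t9_829_29 : jobs 8 S9 b8_829 j9_829_29 = true := by decide +kernel

noncomputable def j9_829_30 : List Job := [
  ⟨33, 0x520924a259309a4e27d008242219108a4623c301b09844100b01, 0, 32, 0x3210, []⟩]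

theorem t9_829_30 : jobs 8 S9 b8_829 j9_829_30 = true := by decide +kernel

noncomputable def j9_829_31 : List Job := [
  ⟨32, 0x4b05a2e17ca0522a15c904a2613c80422211c301b09844100b01, 0, 32, 0x3210003810, []⟩]

theorem t9_829_31 : jobs 8 S9 b8_829 j9_829_31 = true := by decide +kernel

noncomputable def j9_829_32 : List Job := [
  ⟨31, 0x520924a259309a4e27d008242219108a4623cb05a2e17ca0522a15c904a2613c80422211c301b09844100b01, 0, 32, 0x3210003810, []⟩]

theorem t9_829_32 : jobs 8 S9 b8_829 j9_829_32 = true := by decide +kernel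

noncomputable def j9_829_33 : List Job := [
  ⟨30, 0x4a0522a15c80422211c381f09844180f01, 0, 50, 0x210000610000c13001803002a03003610, []⟩]

theorem t9_829_33 : jobs 8 S9 b8_829 j9_829_33 = true := by decide +kernel

noncomputable def j9_829_34 : List Job := [
  ⟨29, 0x520924a259309a4e27d008242219108a4623ca0522a15c80422211c381f09844180f01, 0, 50, 0x210000610000c03001810002a10003603, []⟩]

theorem t9_829_34 : jobs 8 S9 b8_829 j9_829_34 = true := by decide +kernel

noncomputable def j9_829_35 : List Job := [
  ⟨28, 0x4a0522a15c80422211c381f09844180f01, 0, 50, 0xc03001813002a10003603005c02006012, []⟩]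

theorem t9_829_35 : jobs 8 S9 b8_829 j9_829_35 = true := by decide +kernel

noncomputable def j9_829_36 : List Job := [
  ⟨27, 0x520924a259309a4e27d008242219108a4623ca0522a15c80422211c381f09844180f01, 0, 50, 0xc13001803002a03003613005c10006010, []⟩]

theorem t9_829_36 : jobs 8 S9 b8_829 j9_829_36 = true := by decide +kernel

noncomputable def j9_829_37 : List Job := [
  ⟨26, 0x4361909844160901, 0, 32, 0x210000610003210003603003810003a13003c12004002, []⟩]

theorem t9_829_37 : jobs 8 S9 b8_829 j9_829_37 = true := by decide +kernel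

noncomputable def j9_829_38 : List Job := [
  ⟨25, 0x520924a259309a4e27d008242219108a4623c361909844160901, 0, 32, 0x210003210003610003c10, []⟩]

theorem t9_829_38 : jobs 8 S9 b8_829 j9_829_38 = true := by decide +kernel

noncomputable def j9_829_39 : List Job := [
  ⟨24, 0x4b05a2e17ca0522a15c904a2613c80422211c361909844160901, 0, 32, 0x210000610003210003810003c02004012, []⟩]

theorem t9_829_39 : jobs 8 S9 b8_829 j9_829_39 = true := by decide +kernel

noncomputable def j9_829_40 : List Job := [
  ⟨23, 0x520924a259309a4e27d008242219108a4623cb05a2e17ca0522a15c904a2613c80422211c361909844160901, 0, 64, 0x210003210003810003c10004210004400004810004e01005400005810005a01005e10006400006810006a00006e10007210007401007810007e00, [(62, ⟨2837, 0x108014400160004002080102008400004000001, 0x188240a820020401002⟩), (52, ⟨2836, 0x128004400120046000080002000400404000001, 0x198240a024020401002⟩), (49, ⟨2835, 0x10a014400960044002080102008400004000001, 0x189240a820020401002⟩), (41, ⟨2834, 0x108004400960044002080102008400004000001, 0x188240a820020401002⟩), (33, ⟨2833,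 0x120014200120006000080003000400404020001, 0x190220a024020401402⟩)]⟩]

theorem t9_829_40 : jobs 8 S9 b8_829 j9_829_40 = true := by decide +kernel

noncomputable def j9_829_41 : List Job := [
  ⟨22, 0x4a0522a15c80422211c381f0c06c281709844180f0402c080701, 0, 40, 0x210000e10001203001610002210002610002a10003610003803003a03003c03, []⟩]

theorem t9_829_41 : jobs 8 S9 b8_829 j9_829_41 = true := by decide +kernel

noncomputable def j9_829_42 : List Job := [
  ⟨21, 0x520924a259309a4e27d008242219108a4623ca0522a15c80422211c381f0c06c281709844180f0402c080701, 0, 40, 0x210000810000e10001610001c12002210002a10002e10003013003410003610, []⟩]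

theorem t9_829_42 : jobs 8 S9 b8_829 j9_829_42 = true := by decide +kernel

noncomputable def j9_829_43 : List Job := [
  ⟨20, 0x4281709844080701, 0, 26, 0xa13000c13001403001603002013, []⟩]

theorem t9_829_43 : jobs 8 S9 b8_829 j9_829_43 = true := by decide +kernel

noncomputable def j9_829_44 : List Job := [
  ⟨19, 0x520924a259309a4e27d008242219108a4623c281709844080701, 0, 28, 0x213000613000e10001210001c11, []⟩]

theorem t9_829_44 : jobs 8 S9 b8_829 j9_829_44 = true := by decide +kernel

noncomputable def j9_829_45 : List Job := [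
  ⟨18, 0x4b05a2e17ca0522a15c904a2613c80422211c281709844080701, 0, 26, 0x210000a10000c03000e10001410001610001810001e10, []⟩]

theorem t9_829_45 : jobs 8 S9 b8_829 j9_829_45 = true := by decide +kernel

noncomputable def j9_829_46 : List Job := [
  ⟨17, 0x520924a259309a4e27d008242219108a4623cb05a2e17ca0522a15c904a2613c80422211c281709844080701, 0, 32, 0x210000610000a10000e10001210001410001810001e10, []⟩]

theorem t9_829_46 : jobs 8 S9 b8_829 j9_829_46 = true := by decide +kernel

noncomputable def j9_829_47 : List Job := [
  ⟨16, 0x4281709844080701, 0, 24, 0xa13000c13001403001603002013, []⟩]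

theorem t9_829_47 : jobs 8 S9 b8_829 j9_829_47 = true := by decide +kernel

noncomputable def j9_829_48 : List Job := [
  ⟨15, 0x520924a259309a4e27d008242219108a4623c281709844080701, 0, 24, 0x203000603000e12001212001c03, []⟩]

theorem t9_829_48 : jobs 8 S9 b8_829 j9_829_48 = true := by decide +kernel

noncomputable def j9_829_49 : List Job := [
  ⟨14, 0x4b05a2e17ca0522a15c904a2613c80422211c281709844080701, 0, 24, 0x210000a10000c03000e10001410001610001810001e10, []⟩]

theorem t9_829_49 : jobs 8 S9 b8_829 j9_829_49 = true := by decide +kernel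

noncomputable def j9_829_50 : List Job := [
  ⟨13, 0x520924a259309a4e27d008242219108a4623cb05a2e17ca0522a15c904a2613c80422211c281709844080701, 0, 24, 0x210000610000a10000e10001212001410001810001e10, []⟩]

theorem t9_829_50 : jobs 8 S9 b8_829 j9_829_50 = true := by decide +kernel

noncomputable def j9_829_51 : List Job := [
  ⟨12, 0x4a0522a15c80422211c381f0c06c281709844180f0402c080701, 0, 40, 0x210000e10001203001610002210002610002a10003610003803003a03003c03, []⟩]

theorem t9_829_51 : jobs 8 S9 b8_829 j9_829_51 = true := by decide +kernel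

noncomputable def j9_829_52 : List Job := [
  ⟨11, 0x524964d27520944c27d04864523500844423ca0522a15c80422211c381f0c06c281709844180f0402c080701, 0, 58, 0x210000810000e10001610001c10002210002a10002e10003011003410003610003e10004410005e10006410, []⟩]

theorem t9_829_52 : jobs 8 S9 b8_829 j9_829_52 = true := by decide +kernel

noncomputable def j9_829_53 : List Job := [
  ⟨10, 0x4381f0c06c2e1509844180f0402c0e0501, 0, 30, 0x202000401000602000803000a03002012002201002411002610002813002c01003601, []⟩]

theorem t9_829_53 : jobs 8 S9 b8_829 j9_829_53 = true := by decide +kernel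

noncomputable def j9_829_54 : List Job := [
  ⟨9, 0x520924a259309a4e27d008242219108a4623c381f0c06c2e1509844180f0402c0e0501, 0, 30, 0x210000610002013002403002c01003601, []⟩]

theorem t9_829_54 : jobs 8 S9 b8_829 j9_829_54 = true := by decide +kernel

noncomputable def j9_829_55 : List Job := [
  ⟨8, 0x4b05a2e17ca45728154904a2613c844720114381f0c06c2e1509844180f0402c0e0501, 0, 60, 0x210000602000810000a03000c10001211001610001a07001c10001e06002010002201002610002c01003411003601003a10004001005210005810007010007610, []⟩]

theorem t9_829_55 : jobs 8 S9 b8_829 j9_829_55 = true := by decide +kernel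

noncomputable def j9_829_56 : List Job := [
  ⟨7, 0x520924a259309a4e27d008242219108a4623cb05a2e17ca45728154904a2613c844720114381f0c06c2e1509844180f0402c0e0501, 0, 60, 0x210000612000810000c11001211001610001a17001c10003410003a10004810004e10005210005401005810005e01006611006801006c11007201, []⟩]

theorem t9_829_56 : jobs 8 S9 b8_829 j9_829_56 = true := by decide +kernel

noncomputable def j9_829_57 : List Job := [
  ⟨6, 0x4a0522a15c80422211c2e15098440e0501, 0, 30, 0x210000401000602000810000a12002010002201002413002610002803, []⟩]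

theorem t9_829_57 : jobs 8 S9 b8_829 j9_829_57 = true := by decide +kernel

noncomputable def j9_829_58 : List Job := [
  ⟨5, 0x520924a259309a4e27d008242219108a4623ca0522a15c80422211c2e15098440e0501, 0, 30, 0x210000610002011002411, []⟩]

theorem t9_829_58 : jobs 8 S9 b8_829 j9_829_58 = true := by decide +kernel

noncomputable def j9_829_59 : List Job := [
  ⟨4, 0x4a457281548447201142e15098440e0501, 0, 30, 0x210000401000602000810000a12000c13001803002010002201002413002610002803002a10003002003413003a03, []⟩]

theorem t9_829_59 : jobs 8 S9 b8_829 j9_829_59 = true := by decide +kernel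

noncomputable def j9_829_60 : List Job := [
  ⟨3, 0x520924a259309a4e27d008242219108a4623ca457281548447201142e15098440e0501, 0, 52, 0x210000610000810000c10001202001800002001002201002800002e00003601003801003e00004212004e10005610005a11005c10006002006610, [(30, ⟨2832, 0x11e004700158004000080102008400004000001, 0x18e2609c20020401002⟩), (22, ⟨2830, 0x11c0043009000440020a0102000400004020001, 0x18e2288020020481002⟩), (19, ⟨2831, 0x11e014700958004002080002008400004000001, 0x18e2609c20020401002⟩), (11, ⟨2829, 0x11c0043009000440000a0102000400004020001, 0x18e2288020020481002⟩)]⟩]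

theorem t9_829_60 : jobs 8 S9 b8_829 j9_829_60 = true := by decide +kernel

noncomputable def j9_829_61 : List Job := [
  ⟨2, 0x4a0522a15c80422211c2e15098440e0501, 0, 30, 0x202000401000612000803000a11002002002201002410002603002813, []⟩]

theorem t9_829_61 : jobs 8 S9 b8_829 j9_829_61 = true := by decide +kernel

noncomputable def j9_829_62 : List Job := [
  ⟨1, 0x520924a259309a4e27d008242219108a4623ca0522a15c80422211c2e15098440e0501, 0, 30, 0x210000602002010002413, []⟩]

theorem t9_829_62 : jobs 8 S9 b8_829 j9_829_62 = true := by decide +kernel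

noncomputable def j9_829_63 : List Job := [
  ⟨0, 0x4a457281548447201142e15098440e0501, 0, 30, 0x210000401000612000810000a11000c10001803002010002201002410002610002813002a12003002003410003a03, []⟩]

theorem t9_829_63 : jobs 8 S9 b8_829 j9_829_63 = true := by decide +kernel

theorem d9_829 : Dn 8 S9 b8_829 := dn_of (Js := j9_829_0 ++ (j9_829_1 ++ (j9_829_2 ++ (j9_829_3 ++ (j9_829_4 ++ (j9_829_5 ++ (j9_829_6 ++ (j9_829_7 ++ (j9_829_8 ++ (j9_829_9 ++ (j9_829_10 ++ (j9_829_11 ++ (j9_829_12 ++ (j9_829_13 ++ (j9_829_14 ++ (j9_829_15 ++ (j9_829_16 ++ (j9_829_17 ++ (j9_829_18 ++ (j9_829_19 ++ (j9_829_20 ++ (j9_829_21 ++ (j9_829_22 ++ (j9_829_23 ++ (j9_829_24 ++ (j9_829_25 ++ (j9_829_26 ++ (j9_829_27 ++ (j9_829_28 ++ (j9_829_29 ++ (j9_829_30 ++ (j9_829_31 ++ (j9_829_32 ++ (j9_829_33 ++ (j9_829_34 ++ (j9_829_35 ++ (j9_829_36 ++ (j9_829_37 ++ (j9_829_38 ++ (j9_829_39 ++ (j9_829_40 ++ (j9_829_41 ++ (j9_829_42 ++ (j9_829_43 ++ (j9_829_44 ++ (j9_829_45 ++ (j9_829_46 ++ (j9_829_47 ++ (j9_829_48 ++ (j9_829_49 ++ (j9_829_50 ++ (j9_829_51 ++ (j9_829_52 ++ (j9_829_53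 ++ (j9_829_54 ++ (j9_829_55 ++ (j9_829_56 ++ (j9_829_57 ++ (j9_829_58 ++ (j9_829_59 ++ (j9_829_60 ++ (j9_829_61 ++ (j9_829_62 ++ (j9_829_63 ++ []))))))))))))))))))))))))))))))))))))))))))))))))))))))))))))))))
  (jobs_append t9_829_0 <| jobs_append t9_829_1 <| jobs_append t9_829_2 <| jobs_append t9_829_3 <| jobs_append t9_829_4 <| jobs_append t9_829_5 <| jobs_append t9_829_6 <| jobs_append t9_829_7 <| jobs_append t9_829_8 <| jobs_append t9_829_9 <| jobs_append t9_829_10 <| jobs_append t9_829_11 <| jobs_append t9_829_12 <| jobs_append t9_829_13 <| jobs_append t9_829_14 <| jobs_append t9_829_15 <| jobs_append t9_829_16 <| jobs_append t9_829_17 <| jobs_append t9_829_18 <| jobs_append t9_829_19 <| jobs_append t9_829_20 <| jobs_append t9_829_21 <| jobs_append t9_829_22 <| jobs_append t9_829_23 <| jobs_append t9_829_24 <| jobs_append t9_829_25 <| jobs_append t9_829_26 <| jobs_append t9_829_27 <| jobs_append t9_829_28 <| jobs_append t9_829_29 <| jobs_append t9_829_30 <| jobs_append t9_829_31 <| jobs_append t9_829_32 <| jobs_append t9_829_33 <| jobs_append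 t9_829_34 <| jobs_append t9_829_35 <| jobs_append t9_829_36 <| jobs_append t9_829_37 <| jobs_append t9_829_38 <| jobs_append t9_829_39 <| jobs_append t9_829_40 <| jobs_append t9_829_41 <| jobs_append t9_829_42 <| jobs_append t9_829_43 <| jobs_append t9_829_44 <| jobs_append t9_829_45 <| jobs_append t9_829_46 <| jobs_append t9_829_47 <| jobs_append t9_829_48 <| jobs_append t9_829_49 <| jobs_append t9_829_50 <| jobs_append t9_829_51 <| jobs_append t9_829_52 <| jobs_append t9_829_53 <| jobs_append t9_829_54 <| jobs_append t9_829_55 <| jobs_append t9_829_56 <| jobs_append t9_829_57 <| jobs_append t9_829_58 <| jobs_append t9_829_59 <| jobs_append t9_829_60 <| jobs_append t9_829_61 <| jobs_append t9_829_62 <| jobs_append t9_829_63 <| List.forall_mem_nil _) (by decide +kernel)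

noncomputable def j9_830_0 : List Job := [
  ⟨61, 0x504864523924944d27500844423120964c27cc866341acc062361bca0522a158b05a2e17c88462613c844b20124502a160bc40221209c301a0e07c20120a05c180f05824080701, 0, 24, 0x200000601000a00000e01002200002601002a00002e01, [(20, ⟨2883, 0x11c014600908044c00120104008100404020001, 0x18f2308426090200802⟩), (16, ⟨2881, 0x11c014600100004c02120004000100404020001, 0x18f2308026090200802⟩), (4, ⟨2882, 0x11c014600908044c02120004008100404020001, 0x18f2308426090200802⟩), (0, ⟨2880, 0x11c014600100004c00120104000100404020001, 0x18f2308026090200802⟩)]⟩]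

theorem t9_830_0 : jobs 8 S9 b8_830 j9_830_0 = true := by decide +kernel

noncomputable def j9_830_1 : List Job := [
  ⟨44, 0x540a25229950aa562b960b25a2d970ba5e2fd008242219108a4623920924a259309a4e27cc46b301a4844b20124562911884160901, 0, 21, 0x0, []⟩]

theorem t9_830_1 : jobs 8 S9 b8_830 j9_830_1 = true := by decide +kernel

noncomputable def j9_830_2 : List Job := [
  ⟨19, 0x540a25229950aa562b960b25a2d970ba5e2fd008242219108a4623920924a259309a4e27cec7f3a1f4844b201247e3d1b8d4160901, 0, 21, 0x0, []⟩]

theorem t9_830_2 : jobs 8 S9 b8_830 j9_830_2 = true := by decide +kernel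

noncomputable def j9_830_3 : List Job := [
  ⟨18, 0x4301b09844100b01, 0, 24, 0x2610, []⟩]

theorem t9_830_3 : jobs 8 S9 b8_830 j9_830_3 = true := by decide +kernel

noncomputable def j9_830_4 : List Job := [
  ⟨17, 0x520924a259309a4e27d008242219108a4623c301b09844100b01, 0, 24, 0x2610, []⟩]

theorem t9_830_4 : jobs 8 S9 b8_830 j9_830_4 = true := by decide +kernel

noncomputable def j9_830_5 : List Job := [
  ⟨16, 0x4904a26138b05a2e17c804222118a0522a15c301b09844100b01, 0, 24, 0x2612, []⟩]

theorem t9_830_5 : jobs 8 S9 b8_830 j9_830_5 = true := by decide +kernel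

noncomputable def j9_830_6 : List Job := [
  ⟨15, 0x520924a259309a4e27d008242219108a4623c904a26138b05a2e17c804222118a0522a15c301b09844100b01, 0, 24, 0x2613, []⟩]

theorem t9_830_6 : jobs 8 S9 b8_830 j9_830_6 = true := by decide +kernel

noncomputable def j9_830_7 : List Job := [
  ⟨14, 0x4804222118a0522a15c381f09844180f01, 0, 40, 0x210000410, []⟩]

theorem t9_830_7 : jobs 8 S9 b8_830 j9_830_7 = true := by decide +kernel

noncomputable def j9_830_8 : List Job := [
  ⟨13, 0x520924a259309a4e27d008242219108a4623c804222118a0522a15c381f09844180f01, 0, 40, 0x210000410, []⟩]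

theorem t9_830_8 : jobs 8 S9 b8_830 j9_830_8 = true := by decide +kernel

noncomputable def j9_830_9 : List Job := [
  ⟨12, 0x4804222118a0522a15c381f09844180f01, 0, 40, 0x4a02004c12, []⟩]

theorem t9_830_9 : jobs 8 S9 b8_830 j9_830_9 = true := by decide +kernel

noncomputable def j9_830_10 : List Job := [
  ⟨11, 0x520924a259309a4e27d008242219108a4623c804222118a0522a15c381f09844180f01, 0, 40, 0x4a10004c10, []⟩]

theorem t9_830_10 : jobs 8 S9 b8_830 j9_830_10 = true := by decide +kernel

noncomputable def j9_830_11 : List Job := [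
  ⟨10, 0x4361909844160901, 0, 24, 0x210000410002610002803002a10002c13002e12003002, []⟩]

theorem t9_830_11 : jobs 8 S9 b8_830 j9_830_11 = true := by decide +kernel

noncomputable def j9_830_12 : List Job := [
  ⟨9, 0x520924a259309a4e27d008242219108a4623c361909844160901, 0, 24, 0x210002610002810002e10, []⟩]

theorem t9_830_12 : jobs 8 S9 b8_830 j9_830_12 = true := by decide +kernel

noncomputable def j9_830_13 : List Job := [
  ⟨8, 0x4904a26138b05a2e17c804222118a0522a15c361909844160901, 0, 24, 0x210000410002612002a02002e02003012, []⟩]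

theorem t9_830_13 : jobs 8 S9 b8_830 j9_830_13 = true := by decide +kernel

noncomputable def j9_830_14 : List Job := [
  ⟨7, 0x520924a259309a4e27d008242219108a4623c904a26138b05a2e17c804222118a0522a15c361909844160901, 0, 48, 0x210002611002e10, []⟩]

theorem t9_830_14 : jobs 8 S9 b8_830 j9_830_14 = true := by decide +kernel

noncomputable def j9_830_15 : List Job := [
  ⟨6, 0x4804222118a0522a15c381f0c06c281709844180f0402c080701, 0, 32, 0xa03000c03001a10001c11002a03002c03002e03003003, []⟩]

theorem t9_830_15 : jobs 8 S9 b8_830 j9_830_15 = true := by decide +kernel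

noncomputable def j9_830_16 : List Job := [
  ⟨5, 0x520924a259309a4e27d008242219108a4623c804222118a0522a15c381f0c06c281709844180f0402c080701, 0, 32, 0x210000411001212001413002213002412002610002811, []⟩]

theorem t9_830_16 : jobs 8 S9 b8_830 j9_830_16 = true := by decide +kernel

noncomputable def j9_830_17 : List Job := [
  ⟨4, 0x4281709844080701, 0, 18, 0x613000812000e03001003001813, []⟩]

theorem t9_830_17 : jobs 8 S9 b8_830 j9_830_17 = true := by decide +kernel

noncomputable def j9_830_18 : List Job := [
  ⟨3, 0x520924a259309a4e27d008242219108a4623c281709844080701, 0, 20, 0x213000412000a10000c11001411, []⟩]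

theorem t9_830_18 : jobs 8 S9 b8_830 j9_830_18 = true := by decide +kernel

noncomputable def j9_830_19 : List Job := [
  ⟨2, 0x4904a26138b05a2e17c804222118a0522a15c281709844080701, 0, 18, 0x603000803000e10001011001603, []⟩]

theorem t9_830_19 : jobs 8 S9 b8_830 j9_830_19 = true := by decide +kernel

noncomputable def j9_830_20 : List Job := [
  ⟨1, 0x520924a259309a4e27d008242219108a4623c904a26138b05a2e17c804222118a0522a15c281709844080701, 0, 24, 0x210000411000a10000c11001211, []⟩]

theorem t9_830_20 : jobs 8 S9 b8_830 j9_830_20 = true := by decide +kernel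

noncomputable def j9_830_21 : List Job := [
  ⟨0, 0x4281709844080701, 0, 18, 0x613000812000e03001003001813, []⟩]

theorem t9_830_21 : jobs 8 S9 b8_830 j9_830_21 = true := by decide +kernel

theorem d9_830 : Dn 8 S9 b8_830 := dn_of (Js := j9_830_0 ++ (j9_830_1 ++ (j9_830_2 ++ (j9_830_3 ++ (j9_830_4 ++ (j9_830_5 ++ (j9_830_6 ++ (j9_830_7 ++ (j9_830_8 ++ (j9_830_9 ++ (j9_830_10 ++ (j9_830_11 ++ (j9_830_12 ++ (j9_830_13 ++ (j9_830_14 ++ (j9_830_15 ++ (j9_830_16 ++ (j9_830_17 ++ (j9_830_18 ++ (j9_830_19 ++ (j9_830_20 ++ (j9_830_21 ++ []))))))))))))))))))))))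
  (jobs_append t9_830_0 <| jobs_append t9_830_1 <| jobs_append t9_830_2 <| jobs_append t9_830_3 <| jobs_append t9_830_4 <| jobs_append t9_830_5 <| jobs_append t9_830_6 <| jobs_append t9_830_7 <| jobs_append t9_830_8 <| jobs_append t9_830_9 <| jobs_append t9_830_10 <| jobs_append t9_830_11 <| jobs_append t9_830_12 <| jobs_append t9_830_13 <| jobs_append t9_830_14 <| jobs_append t9_830_15 <| jobs_append t9_830_16 <| jobs_append t9_830_17 <| jobs_append t9_830_18 <| jobs_append t9_830_19 <| jobs_append t9_830_20 <| jobs_append t9_830_21 <| List.forall_mem_nil _) (by decide +kernel)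

noncomputable def j9_831_0 : List Job := [
  ⟨39, 0x540a25229950aa562b960b25a2d970ba5e2fd008242219108a4623920924a259309a4e27ce0723a1d8f07a3e1fcc06232198d06a361bca0522a158b05a2e17c804222118904a2613c663111884261101, 0, 30, 0x220000401000820000e01001200001401001a01001c01002001002201002600002801003001003420003601003a20, [(18, ⟨2953, 0x122014300928004002100006000180004020001, 0x1912189020080300c02⟩), (8, ⟨2952, 0x1120145009c0004000100106000180004020001, 0x189220e020080300c02⟩)]⟩]

theorem t9_831_0 : jobs 8 S9 b8_831 j9_831_0 = true := by decide +kernel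

noncomputable def j9_831_1 : List Job := [
  ⟨28, 0x540a2542a960b25e2fd00824422920924e27cc06232198d06a361bc804222118904a2613c703a1e0fc60321a0dc482711884301a0e07c20120a05c080701, 0, 27, 0x200000400000601000c00000e01001000001400001600001e00002200002800002a01002c00003200003401, [(24, ⟨2938, 0x114004f009a8004000140106000100404000001, 0x188278d8200a0300802⟩), (21, ⟨2937, 0x15a0151001300444021e0104008180004020001, 0x1ae28098220f0200c02⟩), (19, ⟨2936, 0x15a0151001300444021e0104008180004020001, 0x1ae28098220f0200c02⟩), (16, ⟨2940, 0x15a0151001300444021e0004008180004020001, 0x1ae28098220f0200c02⟩), (14, ⟨2939, 0x15a0151001300444021e0004008180004020001, 0x1ae28098220f0200c02⟩), (10, ⟨2935, 0x114014f001a8004000140106000100404000001, 0x188278d8200a0300802⟩), (9, ⟨2934, 0x15a0151001300444001e0004008180004020001, 0x1ae28098220f0200c02⟩), (7, ⟨2933, 0x1580151009380044001e0004000180404000001, 0x1ae2809c220f0200c02⟩), (5, ⟨2932, 0x1580151009380044001e0004000180404000001, 0x1ae2809c220f0200c02⟩), (1, ⟨2931, 0x114004f001a0004000140106000100404020001, 0x188278dc200a0300802⟩),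 (0, ⟨2930, 0x110015800930044000100006000100404020001, 0x1882c09420080300802⟩)]⟩]

theorem t9_831_1 : jobs 8 S9 b8_831 j9_831_1 = true := by decide +kernel

noncomputable def j9_831_2 : List Job := [
  ⟨27, 0x540a2542a960b25e2fd00824422920924e27cc06232198d06a361bc804222118904a2613c703a1e0fc60321a0dc482711884301a0e07c20120a05c080701, 0, 27, 0x200000600000820000c00001400001601001800001a20001e00002001002600002801002e20003001003420, [(18, ⟨2925, 0x134004400130044002140005000100004000001, 0x19822098200a0280802⟩), (14, ⟨2929, 0x1440040001880040001e0104008100004000001, 0x1b3200c4200e0200802⟩), (11, ⟨2928, 0x134014400930004000140005000100004000001, 0x19822098200a0280802⟩), (9, ⟨2927, 0x134004400930004000140005000100004000001, 0x19822098200a0280802⟩), (5, ⟨2926, 0x134004400130044002140105000100004000001, 0x19822098200a0280802⟩), (2, ⟨2924, 0x1580150001380440001e0004000180004000001, 0x1ae2809c200f0200c02⟩), (0, ⟨2923, 0x1580050009380440021e0004000180004000001, 0x1ae2809c200f0200c02⟩)]⟩]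

theorem t9_831_2 : jobs 8 S9 b8_831 j9_831_2 = true := by decide +kernel

noncomputable def j9_831_3 : List Job := [
  ⟨21, 0x540a2542a960b25e2fd00824422920924e27cc466351b4c064341bc84462513480442413c60321a0dc502a160bc48271188420120a05c100a0603c080701, 0, 24, 0x200000401000800000a01000c01000e00001001001600001801001c00001e01002000002201002801002a01002e01, [(15, ⟨2912, 0x120005000190044000100005008180404020001, 0x190280cc20080280c02⟩), (13, ⟨2911, 0x122005000998044000100105000180404020001, 0x191280c820080280c02⟩), (10, ⟨2915, 0x122005000998044000100105000180404020001, 0x191280c820080280c02⟩), (6, ⟨2914, 0x120005000190044000100005008180404020001, 0x190280cc20080280c02⟩), (3, ⟨2913, 0x1100144009b8004002160105008100404000001, 0x18b228d8200b0280802⟩), (0, ⟨2910, 0x120005000190044000100005008180404020001, 0x190280cc20080280c02⟩)]⟩]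

theorem t9_831_3 : jobs 8 S9 b8_831 j9_831_3 = true := by decide +kernel

noncomputable def j9_831_4 : List Job := [
  ⟨7, 0x504864523924944d27500844423120964c27cc866341acc062361bc703a1e0fc60321a0dc301a0e07c20120a05c180f05824080701, 0, 12, 0x401000601000801000a01000c01000e01001001001201001401001801, []⟩]

theorem t9_831_4 : jobs 8 S9 b8_831 j9_831_4 = true := by decide +kernel

noncomputable def j9_831_5 : List Job := [
  ⟨5, 0x504864523924944d27500844423120964c27ce0723a1d8f07a3e1fca0522a158b05a2e17c88462613c844b20124703a1e0fc60321a0dc301a0e07c20120a05c180f05824080701, 0, 32, 0x201000a01001601001a01002001002401002601, []⟩]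

theorem t9_831_5 : jobs 8 S9 b8_831 j9_831_5 = true := by decide +kernel

noncomputable def j9_831_6 : List Job := [
  ⟨2, 0x4e0723a1d8f07a3e1fcc866341acc062361bc88462613c844b20124703a1e0fc60321a0dc502a160bc40221209c180f05824080701, 0, 24, 0x200000601000a00000e01001201001801001c01001e01002200002601002a00002e01003001, [(20, ⟨2895, 0x16e0046009000044001c0104000180004000001, 0x1b723880220f0200c02⟩), (16, ⟨2894, 0x16e0046009000044021c0104000180004000001, 0x1b723880220f0200c02⟩), (4, ⟨2893, 0x11e004600908004c02100104000180004000001, 0x18f2388424080200c02⟩), (0, ⟨2892, 0x11e014600900004c00100004000180004000001, 0x18f2388024080200c02⟩)]⟩]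

theorem t9_831_6 : jobs 8 S9 b8_831 j9_831_6 = true := by decide +kernel

noncomputable def j9_831_7 : List Job := [
  ⟨1, 0x5008242219108a4623920924a259309a4e27ce0723a1d8f07a3e1fcc866341acc062361bc88462613c844b20124703a1e0fc60321a0dc502a160bc40221209c180f05824080701, 0, 48, 0x200000601000a00000e01001200001601001a00001e01002201002801002a01003001003401003601003c01003e01004200004601004a00004e01005200005601005a00005e01, [(44, ⟨2891, 0x11e014600908004c00100104000180004000001, 0x18f2388424080200c02⟩), (40, ⟨2890, 0x11e014600908004c00100104000180004000001, 0x18f2388424080200c02⟩), (36, ⟨2887, 0x11e004600900004c02100004000180004000001, 0x18f2388024080200c02⟩), (32, ⟨2886, 0x11e004600900004c02100004000180004000001, 0x18f2388024080200c02⟩), (12, ⟨2889, 0x11e014600908004c02100004000180004000001, 0x18f2388424080200c02⟩), (8, ⟨2888, 0x11e014600908004c02100004000180004000001, 0x18f2388424080200c02⟩), (4, ⟨2885, 0x11e004600900004c00100104000180004000001, 0x18f2388024080200c02⟩), (0, ⟨2884, 0x11e004600900004c00100104000180004000001, 0x18f2388024080200c02⟩)]⟩]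

theorem t9_831_7 : jobs 8 S9 b8_831 j9_831_7 = true := by decide +kernel

theorem d9_831 : Dn 8 S9 b8_831 := dn_of (Js := j9_831_0 ++ (j9_831_1 ++ (j9_831_2 ++ (j9_831_3 ++ (j9_831_4 ++ (j9_831_5 ++ (j9_831_6 ++ (j9_831_7 ++ []))))))))
  (jobs_append t9_831_0 <| jobs_append t9_831_1 <| jobs_append t9_831_2 <| jobs_append t9_831_3 <| jobs_append t9_831_4 <| jobs_append t9_831_5 <| jobs_append t9_831_6 <| jobs_append t9_831_7 <| List.forall_mem_nil _) (by decide +kernel)

noncomputable def j9_832_0 : List Job := [
  ⟨60, 0x524964d27520944c27d04864523500844423c60321a0dc40221209c301a0e07c281709844100a0603c080701, 0, 12, 0x201000401000810000a01001001001601, []⟩]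

theorem t9_832_0 : jobs 8 S9 b8_832 j9_832_0 = true := by decide +kernel

noncomputable def j9_832_1 : List Job := [
  ⟨45, 0x560b25a2d970ba5e2fd40a25229950aa562bd20924a259309a4e27d008242219108a4623c7e3d178b4261101, 0, 5, 0x200000401000601000801, [(0, ⟨2960, 0x9f0048002000100104010800020001000001, 0x19f2208020040400802⟩)]⟩]

theorem t9_832_1 : jobs 8 S9 b8_832 j9_832_1 = true := by decide +kernel

noncomputable def j9_832_2 : List Job := [
  ⟨43, 0x560b25a2d970ba5e2fd40a25229950aa562bd20924a259309a4e27d008242219108a4623c7e3d178b4261101, 0, 12, 0x210000401000810000a01001401001610, []⟩]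

theorem t9_832_2 : jobs 8 S9 b8_832 j9_832_2 = true := by decide +kernel

noncomputable def j9_832_3 : List Job := [
  ⟨42, 0x5008242219108a4623c180f05824080701, 0, 12, 0x0, []⟩]

theorem t9_832_3 : jobs 8 S9 b8_832 j9_832_3 = true := by decide +kernel

noncomputable def j9_832_4 : List Job := [
  ⟨41, 0x5008242219108a4623c381f0a05c160901, 0, 8, 0x0, []⟩]

theorem t9_832_4 : jobs 8 S9 b8_832 j9_832_4 = true := by decide +kernel

noncomputable def j9_832_5 : List Job := [
  ⟨40, 0x5008242219108a4623c381f0a05c160901, 0, 6, 0x0, []⟩]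

theorem t9_832_5 : jobs 8 S9 b8_832 j9_832_5 = true := by decide +kernel

noncomputable def j9_832_6 : List Job := [
  ⟨39, 0x5008242219108a4623c381f0a05c160901, 0, 6, 0x0, []⟩]

theorem t9_832_6 : jobs 8 S9 b8_832 j9_832_6 = true := by decide +kernel

noncomputable def j9_832_7 : List Job := [
  ⟨38, 0x4381f0d864281709844180f05824080701, 0, 20, 0x208000401000609000809000a08000c11000e01001010001218001419, []⟩]

theorem t9_832_7 : jobs 8 S9 b8_832 j9_832_7 = true := by decide +kernel

noncomputable def j9_832_8 : List Job := [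
  ⟨37, 0x520924a259309a4e27d008242219108a4623c381f0d864281709844180f05824080701, 0, 20, 0x210000610002008002409, []⟩]

theorem t9_832_8 : jobs 8 S9 b8_832 j9_832_8 = true := by decide +kernel

noncomputable def j9_832_9 : List Job := [
  ⟨36, 0x4361909844160901, 0, 6, 0x0, []⟩]

theorem t9_832_9 : jobs 8 S9 b8_832 j9_832_9 = true := by decide +kernel

noncomputable def j9_832_10 : List Job := [
  ⟨35, 0x520924a259309a4e27d008242219108a4623c361909844160901, 0, 9, 0x1001, []⟩]

theorem t9_832_10 : jobs 8 S9 b8_832 j9_832_10 = true := by decide +kernel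

noncomputable def j9_832_11 : List Job := [
  ⟨34, 0x4361909844160901, 0, 6, 0x0, []⟩]

theorem t9_832_11 : jobs 8 S9 b8_832 j9_832_11 = true := by decide +kernel

noncomputable def j9_832_12 : List Job := [
  ⟨33, 0x520924a259309a4e27d008242219108a4623c361909844160901, 0, 14, 0x401000a01, []⟩]

theorem t9_832_12 : jobs 8 S9 b8_832 j9_832_12 = true := by decide +kernel

noncomputable def j9_832_13 : List Job := [
  ⟨32, 0x4361909844160901, 0, 5, 0x0, []⟩]

theorem t9_832_13 : jobs 8 S9 b8_832 j9_832_13 = true := by decide +kernel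

noncomputable def j9_832_14 : List Job := [
  ⟨31, 0x520924a259309a4e27d008242219108a4623c361909844160901, 0, 8, 0xc01, []⟩]

theorem t9_832_14 : jobs 8 S9 b8_832 j9_832_14 = true := by decide +kernel

noncomputable def j9_832_15 : List Job := [
  ⟨30, 0x4361909844160901, 0, 5, 0x0, []⟩]

theorem t9_832_15 : jobs 8 S9 b8_832 j9_832_15 = true := by decide +kernel

noncomputable def j9_832_16 : List Job := [
  ⟨29, 0x520924a259309a4e27d008242219108a4623c361909844160901, 0, 14, 0xc01001001001801, []⟩]

theorem t9_832_16 : jobs 8 S9 b8_832 j9_832_16 = true := by decide +kernel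

noncomputable def j9_832_17 : List Job := [
  ⟨28, 0x5108a4623d00824221c180f05824080701, 0, 5, 0x0, []⟩]

theorem t9_832_17 : jobs 8 S9 b8_832 j9_832_17 = true := by decide +kernel

noncomputable def j9_832_18 : List Job := [
  ⟨27, 0x5108a4623d00824221c381f0a05c160901, 0, 10, 0x0, []⟩]

theorem t9_832_18 : jobs 8 S9 b8_832 j9_832_18 = true := by decide +kernel

noncomputable def j9_832_19 : List Job := [
  ⟨26, 0x520924a25d00824221c2e150804c080701, 0, 5, 0x201000601000801000a01, []⟩]

theorem t9_832_19 : jobs 8 S9 b8_832 j9_832_19 = true := by decide +kernel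

noncomputable def j9_832_20 : List Job := [
  ⟨25, 0x520924a25d00824221c2e150804c080701, 0, 5, 0x201000601000801000a01, []⟩]

theorem t9_832_20 : jobs 8 S9 b8_832 j9_832_20 = true := by decide +kernel

noncomputable def j9_832_21 : List Job := [
  ⟨24, 0x4381f0d864281709844180f05824080701, 0, 28, 0x210000401000610000801000a01000c01000e01001001001208001401001618001801001a18001c08001e01002001002201002401003201003601, []⟩]

theorem t9_832_21 : jobs 8 S9 b8_832 j9_832_21 = true := by decide +kernel

noncomputable def j9_832_22 : List Job := [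
  ⟨23, 0x5309a4e27d20924a25d108a4623d00824221c381f0d864281709844180f05824080701, 0, 32, 0x210000611000e01001201002601002a01002e10003211003a01003e01, []⟩]

theorem t9_832_22 : jobs 8 S9 b8_832 j9_832_22 = true := by decide +kernel

noncomputable def j9_832_23 : List Job := [
  ⟨22, 0x520924a25d00824221c381f0804c180f01, 0, 20, 0x201000601000801000c01000e01001001001201001401001601001a01002201002401, []⟩]

theorem t9_832_23 : jobs 8 S9 b8_832 j9_832_23 = true := by decide +kernel

noncomputable def j9_832_24 : List Job := [
  ⟨21, 0x4361909844160901, 0, 7, 0xc01000e01, []⟩]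

theorem t9_832_24 : jobs 8 S9 b8_832 j9_832_24 = true := by decide +kernel

noncomputable def j9_832_25 : List Job := [
  ⟨20, 0x5309a4e27d20924a25d108a4623d00824221c361909844160901, 0, 17, 0xc01000e0100100a00120100140b001a01001c0a001e01002201, []⟩]

theorem t9_832_25 : jobs 8 S9 b8_832 j9_832_25 = true := by decide +kernel

noncomputable def j9_832_26 : List Job := [
  ⟨19, 0x4361909844160901, 0, 7, 0xc01000e01, []⟩]

theorem t9_832_26 : jobs 8 S9 b8_832 j9_832_26 = true := by decide +kernel

noncomputable def j9_832_27 : List Job := [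
  ⟨18, 0x5309a4e27d20924a25d108a4623d00824221c361909844160901, 0, 12, 0xc01000e0100100000120000140a001601, [(8, ⟨2959, 0x8b0142002900110003000801010104000001, 0x18e2409824040082804⟩), (7, ⟨2958, 0x8b0142002900110003000801010104010001, 0x18e2409824040082804⟩)]⟩]

theorem t9_832_27 : jobs 8 S9 b8_832 j9_832_27 = true := by decide +kernel

noncomputable def j9_832_28 : List Job := [
  ⟨17, 0x520924a25d00824221c281709844080701, 0, 12, 0x0, []⟩]

theorem t9_832_28 : jobs 8 S9 b8_832 j9_832_28 = true := by decide +kernel

noncomputable def j9_832_29 : List Job := [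
  ⟨16, 0x520924a25d00824221c281709844080701, 0, 12, 0x0, []⟩]

theorem t9_832_29 : jobs 8 S9 b8_832 j9_832_29 = true := by decide +kernel

noncomputable def j9_832_30 : List Job := [
  ⟨15, 0x520924a25d00824221c381f09844180f01, 0, 24, 0x0, []⟩]

theorem t9_832_30 : jobs 8 S9 b8_832 j9_832_30 = true := by decide +kernel

noncomputable def j9_832_31 : List Job := [
  ⟨14, 0x520924a25d00824221c381f09844180f01, 0, 24, 0x0, []⟩]

theorem t9_832_31 : jobs 8 S9 b8_832 j9_832_31 = true := by decide +kernel

noncomputable def j9_832_32 : List Job := [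
  ⟨13, 0x5108a4623d00824221c180f05824080701, 0, 12, 0x0, []⟩]

theorem t9_832_32 : jobs 8 S9 b8_832 j9_832_32 = true := by decide +kernel

noncomputable def j9_832_33 : List Job := [
  ⟨12, 0x5108a4623d00824221c381f0a05c160901, 0, 12, 0x0, []⟩]

theorem t9_832_33 : jobs 8 S9 b8_832 j9_832_33 = true := by decide +kernel

noncomputable def j9_832_34 : List Job := [
  ⟨11, 0x5108a4623d00824221c381f0a05c160901, 0, 12, 0x0, []⟩]

theorem t9_832_34 : jobs 8 S9 b8_832 j9_832_34 = true := by decide +kernel

noncomputable def j9_832_35 : List Job := [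
  ⟨10, 0x4381f0d864281709844180f05824080701, 0, 31, 0x210000401000601000801000a10000c01000e01001001001208001401001601001801001a18001c01001e01002001002218002408, []⟩]

theorem t9_832_35 : jobs 8 S9 b8_832 j9_832_35 = true := by decide +kernel

noncomputable def j9_832_36 : List Job := [
  ⟨9, 0x5309a4e27d20924a25d108a4623d00824221c381f0d864281709844180f05824080701, 0, 35, 0x210000a11003410003c11, []⟩]

theorem t9_832_36 : jobs 8 S9 b8_832 j9_832_36 = true := by decide +kernel

noncomputable def j9_832_37 : List Job := [
  ⟨8, 0x4361909844160901, 0, 10, 0x0, []⟩]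

theorem t9_832_37 : jobs 8 S9 b8_832 j9_832_37 = true := by decide +kernel

noncomputable def j9_832_38 : List Job := [
  ⟨7, 0x5309a4e27d20924a25d108a4623d00824221c361909844160901, 0, 14, 0x160100180a001a01, []⟩]

theorem t9_832_38 : jobs 8 S9 b8_832 j9_832_38 = true := by decide +kernel

noncomputable def j9_832_39 : List Job := [
  ⟨6, 0x4361909844160901, 0, 10, 0x0, []⟩]

theorem t9_832_39 : jobs 8 S9 b8_832 j9_832_39 = true := by decide +kernel

noncomputable def j9_832_40 : List Job := [
  ⟨5, 0x5309a4e27d20924a25d108a4623d00824221c361909844160901, 0, 23, 0x160000180a001a01001c00001e0a00200100260000280a002a00002c01, [(20, ⟨2957, 0xae0041003a00190003010d01010104000001, 0x1b0210ec2a070082804⟩), (18, ⟨2956, 0xb801480125001c0003010801010104000001, 0x1b72208c2a040082804⟩), (13, ⟨2955, 0xb800480125011c0103010801010004000001, 0x1b72208c2a040082804⟩), (10, ⟨2954, 0xb801480125011c0003010801010004000001, 0x1b72208c2a040082804⟩)]⟩]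

theorem t9_832_40 : jobs 8 S9 b8_832 j9_832_40 = true := by decide +kernel

theorem d9_832 : Dn 8 S9 b8_832 := dn_of (Js := j9_832_0 ++ (j9_832_1 ++ (j9_832_2 ++ (j9_832_3 ++ (j9_832_4 ++ (j9_832_5 ++ (j9_832_6 ++ (j9_832_7 ++ (j9_832_8 ++ (j9_832_9 ++ (j9_832_10 ++ (j9_832_11 ++ (j9_832_12 ++ (j9_832_13 ++ (j9_832_14 ++ (j9_832_15 ++ (j9_832_16 ++ (j9_832_17 ++ (j9_832_18 ++ (j9_832_19 ++ (j9_832_20 ++ (j9_832_21 ++ (j9_832_22 ++ (j9_832_23 ++ (j9_832_24 ++ (j9_832_25 ++ (j9_832_26 ++ (j9_832_27 ++ (j9_832_28 ++ (j9_832_29 ++ (j9_832_30 ++ (j9_832_31 ++ (j9_832_32 ++ (j9_832_33 ++ (j9_832_34 ++ (j9_832_35 ++ (j9_832_36 ++ (j9_832_37 ++ (j9_832_38 ++ (j9_832_39 ++ (j9_832_40 ++ [])))))))))))))))))))))))))))))))))))))))))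
  (jobs_append t9_832_0 <| jobs_append t9_832_1 <| jobs_append t9_832_2 <| jobs_append t9_832_3 <| jobs_append t9_832_4 <| jobs_append t9_832_5 <| jobs_append t9_832_6 <| jobs_append t9_832_7 <| jobs_append t9_832_8 <| jobs_append t9_832_9 <| jobs_append t9_832_10 <| jobs_append t9_832_11 <| jobs_append t9_832_12 <| jobs_append t9_832_13 <| jobs_append t9_832_14 <| jobs_append t9_832_15 <| jobs_append t9_832_16 <| jobs_append t9_832_17 <| jobs_append t9_832_18 <| jobs_append t9_832_19 <| jobs_append t9_832_20 <| jobs_append t9_832_21 <| jobs_append t9_832_22 <| jobs_append t9_832_23 <| jobs_append t9_832_24 <| jobs_append t9_832_25 <| jobs_append t9_832_26 <| jobs_append t9_832_27 <| jobs_append t9_832_28 <| jobs_append t9_832_29 <| jobs_append t9_832_30 <| jobs_append t9_832_31 <| jobs_append t9_832_32 <| jobs_append t9_832_33 <| jobs_append t9_832_34 <| jobs_append t9_832_35 <| jobs_append t9_832_36 <| jobs_append t9_832_37 <| jobs_append t9_832_38 <| jobs_append t9_832_39 <| jobs_append t9_832_40 <| List.forall_mem_nil _) (by decide +kernel)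

noncomputable def j9_833_0 : List Job := [
  ⟨63, 0x520924a25d00824221c281709844080701, 0, 18, 0x203000603000803, []⟩]

theorem t9_833_0 : jobs 8 S9 b8_833 j9_833_0 = true := by decide +kernel

noncomputable def j9_833_1 : List Job := [
  ⟨62, 0x520924a25d00824221c381f09844180f01, 0, 30, 0x211000611, []⟩]

theorem t9_833_1 : jobs 8 S9 b8_833 j9_833_1 = true := by decide +kernel

noncomputable def j9_833_2 : List Job := [
  ⟨61, 0x520924a25d00824221c381f09844180f01, 0, 30, 0x211000611, []⟩]

theorem t9_833_2 : jobs 8 S9 b8_833 j9_833_2 = true := by decide +kernel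

noncomputable def j9_833_3 : List Job := [
  ⟨60, 0x520924a25d00824221c2e15098440e0501, 0, 16, 0x1602001a02, []⟩]

theorem t9_833_3 : jobs 8 S9 b8_833 j9_833_3 = true := by decide +kernel

noncomputable def j9_833_4 : List Job := [
  ⟨59, 0x52497482550487402142e15098440e0501, 0, 23, 0x213000613000e01001401001801001c02002002002a01002e01, []⟩]

theorem t9_833_4 : jobs 8 S9 b8_833 j9_833_4 = true := by decide +kernel

noncomputable def j9_833_5 : List Job := [
  ⟨58, 0x52497482550487402142e15098440e0501, 0, 21, 0x213000613000e01001201001601001802001c02002601002a01, []⟩]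

theorem t9_833_5 : jobs 8 S9 b8_833 j9_833_5 = true := by decide +kernel

noncomputable def j9_833_6 : List Job := [
  ⟨57, 0x4381f0d864281709844180f05824080701, 0, 34, 0x401000a01000c18000e01001018001201001401001601001801001a01001c08001e01002010002201002410002608002801002a01002c01002e01003e01004401, []⟩]

theorem t9_833_6 : jobs 8 S9 b8_833 j9_833_6 = true := by decide +kernel

noncomputable def j9_833_7 : List Job := [
  ⟨56, 0x5309a4e27d20924a25d108a4623d00824221c381f0d864281709844180f05824080701, 0, 38, 0x401000a01001e01002401002618002a19003401003801003a19003e18004801004c01, []⟩]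

theorem t9_833_7 : jobs 8 S9 b8_833 j9_833_7 = true := by decide +kernel

noncomputable def j9_833_8 : List Job := [
  ⟨55, 0x4381f0d864281709844180f05824080701, 0, 34, 0xc08000e01001008001201001401001601001801001a01001c10001e01002018002201002418002610002801002a01002c01002e01, []⟩]

theorem t9_833_8 : jobs 8 S9 b8_833 j9_833_8 = true := by decide +kernel

noncomputable def j9_833_9 : List Job := [
  ⟨54, 0x5309a4e27d20924a25d108a4623d00824221c381f0d864281709844180f05824080701, 0, 38, 0xc08001009003a08003e09, []⟩]

theorem t9_833_9 : jobs 8 S9 b8_833 j9_833_9 = true := by decide +kernel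

noncomputable def j9_833_10 : List Job := [
  ⟨53, 0x4361909844160901, 0, 22, 0x401000a01002401002a01, []⟩]

theorem t9_833_10 : jobs 8 S9 b8_833 j9_833_10 = true := by decide +kernel

noncomputable def j9_833_11 : List Job := [
  ⟨52, 0x5309a4e27d20924a25d108a4623d00824221c361909844160901, 0, 27, 0x401000a01002401002a01002e00003001003200003412, [(24, ⟨2972, 0x9f0046013201190102000d00010008010001, 0x19c268e026010382004⟩), (22, ⟨2971, 0x990142003200180103010d00010108000001, 0x193240e022010382804⟩)]⟩]

theorem t9_833_11 : jobs 8 S9 b8_833 j9_833_11 = true := by decide +kernel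

noncomputable def j9_833_12 : List Job := [
  ⟨51, 0x4361909844160901, 0, 22, 0x401000a01002401002a01, []⟩]

theorem t9_833_12 : jobs 8 S9 b8_833 j9_833_12 = true := by decide +kernel

noncomputable def j9_833_13 : List Job := [
  ⟨50, 0x5309a4e27d20924a25d108a4623d00824221c361909844160901, 0, 38, 0x401000a01002401002a01002e00003012003212003800003a01003c01003e00004008004209004800004a01004c01, [(35, ⟨2970, 0x81004e002400100102010401010008000001, 0x1822789020010202004⟩), (30, ⟨2968, 0x830146002000110003000400010108010001, 0x18a2608024010202804⟩), (27, ⟨2969, 0x81014e012400100102000401010108000001, 0x1822789020010202004⟩), (22, ⟨2967, 0x830146012000110003000400010008010001, 0x18a2608024010202804⟩)]⟩]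

theorem t9_833_13 : jobs 8 S9 b8_833 j9_833_13 = true := by decide +kernel

noncomputable def j9_833_14 : List Job := [
  ⟨49, 0x4180f05824080701, 0, 12, 0x0, []⟩]

theorem t9_833_14 : jobs 8 S9 b8_833 j9_833_14 = true := by decide +kernel

noncomputable def j9_833_15 : List Job := [
  ⟨48, 0x540a25229950aa562bd008242219108a4623c180f05824080701, 0, 12, 0x0, []⟩]

theorem t9_833_15 : jobs 8 S9 b8_833 j9_833_15 = true := by decide +kernel

noncomputable def j9_833_16 : List Job := [
  ⟨47, 0x5008242219108a4623c582f1209c160901, 0, 8, 0x0, []⟩]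

theorem t9_833_16 : jobs 8 S9 b8_833 j9_833_16 = true := by decide +kernel

noncomputable def j9_833_17 : List Job := [
  ⟨46, 0x5008242219108a4623c582f1209c160901, 0, 8, 0x0, []⟩]

theorem t9_833_17 : jobs 8 S9 b8_833 j9_833_17 = true := by decide +kernel

noncomputable def j9_833_18 : List Job := [
  ⟨45, 0x5008242219108a4623c582f140ac48271008c180f05824080701, 0, 32, 0x208000409000608000809001208001409001608001809001a08001c09001e08002009002208002409002608002809002a08002c09002e08003009003208003409, []⟩]

theorem t9_833_18 : jobs 8 S9 b8_833 j9_833_18 = true := by decide +kernel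

noncomputable def j9_833_19 : List Job := [
  ⟨44, 0x4562911884160901, 0, 6, 0x208000608, []⟩]

theorem t9_833_19 : jobs 8 S9 b8_833 j9_833_19 = true := by decide +kernel

noncomputable def j9_833_20 : List Job := [
  ⟨43, 0x540a25229950aa562bd008242219108a4623c562911884160901, 0, 12, 0x208000608, []⟩]

theorem t9_833_20 : jobs 8 S9 b8_833 j9_833_20 = true := by decide +kernel

noncomputable def j9_833_21 : List Job := [
  ⟨42, 0x4562911884160901, 0, 6, 0x208000608, []⟩]

theorem t9_833_21 : jobs 8 S9 b8_833 j9_833_21 = true := by decide +kernel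

noncomputable def j9_833_22 : List Job := [
  ⟨41, 0x540a25229950aa562bd008242219108a4623c562911884160901, 0, 15, 0x1408001808, []⟩]

theorem t9_833_22 : jobs 8 S9 b8_833 j9_833_22 = true := by decide +kernel

noncomputable def j9_833_23 : List Job := [
  ⟨40, 0x45e2d13894160901, 0, 6, 0x608000809, []⟩]

theorem t9_833_23 : jobs 8 S9 b8_833 j9_833_23 = true := by decide +kernel

noncomputable def j9_833_24 : List Job := [
  ⟨39, 0x540a25229950aa562bd008242219108a4623c5e2d13894160901, 0, 12, 0x608000809, []⟩]

theorem t9_833_24 : jobs 8 S9 b8_833 j9_833_24 = true := by decide +kernel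

noncomputable def j9_833_25 : List Job := [
  ⟨38, 0x45e2d13894160901, 0, 6, 0x608000809, []⟩]

theorem t9_833_25 : jobs 8 S9 b8_833 j9_833_25 = true := by decide +kernel

noncomputable def j9_833_26 : List Job := [
  ⟨37, 0x540a25229950aa562bd008242219108a4623c5e2d13894160901, 0, 15, 0x1408001609, []⟩]

theorem t9_833_26 : jobs 8 S9 b8_833 j9_833_26 = true := by decide +kernel

noncomputable def j9_833_27 : List Job := [
  ⟨36, 0x5008242219108a4623c502b1008c160901, 0, 8, 0x0, []⟩]

theorem t9_833_27 : jobs 8 S9 b8_833 j9_833_27 = true := by decide +kernel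

noncomputable def j9_833_28 : List Job := [
  ⟨35, 0x5008242219108a4623c502b1008c160901, 0, 8, 0x0, []⟩]

theorem t9_833_28 : jobs 8 S9 b8_833 j9_833_28 = true := by decide +kernel

noncomputable def j9_833_29 : List Job := [
  ⟨34, 0x4180f05824080701, 0, 8, 0x0, []⟩]

theorem t9_833_29 : jobs 8 S9 b8_833 j9_833_29 = true := by decide +kernel

noncomputable def j9_833_30 : List Job := [
  ⟨33, 0x550aa562bd40a25229d108a4623d00824221c180f05824080701, 0, 10, 0x0, []⟩]

theorem t9_833_30 : jobs 8 S9 b8_833 j9_833_30 = true := by decide +kernel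

noncomputable def j9_833_31 : List Job := [
  ⟨32, 0x550aa562bd00824221c48271008c080701, 0, 6, 0x0, []⟩]

theorem t9_833_31 : jobs 8 S9 b8_833 j9_833_31 = true := by decide +kernel

noncomputable def j9_833_32 : List Job := [
  ⟨31, 0x5108a4623d00824221c582f140ac48271008c180f05824080701, 0, 26, 0x208000408000a01000c01000e08001009001208001409001608001809001a08001c09002208002608003201003401, []⟩]

theorem t9_833_32 : jobs 8 S9 b8_833 j9_833_32 = true := by decide +kernel

noncomputable def j9_833_33 : List Job := [
  ⟨30, 0x45e2d13894160901, 0, 7, 0x608000809, []⟩]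

theorem t9_833_33 : jobs 8 S9 b8_833 j9_833_33 = true := by decide +kernel

noncomputable def j9_833_34 : List Job := [
  ⟨29, 0x550aa562bd40a25229d108a4623d00824221c5e2d13894160901, 0, 15, 0x608000809001000001408001800001c08, [(11, ⟨2966, 0x970054012c00100002010c01010004010001, 0x19b2989420050082004⟩), (7, ⟨2965, 0x800156003201100002000801010004000001, 0x1802c8e020040082004⟩)]⟩]

theorem t9_833_34 : jobs 8 S9 b8_833 j9_833_34 = true := by decide +kernel

noncomputable def j9_833_35 : List Job := [
  ⟨28, 0x45e2d13894160901, 0, 7, 0x608000809, []⟩]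

theorem t9_833_35 : jobs 8 S9 b8_833 j9_833_35 = true := by decide +kernel

noncomputable def j9_833_36 : List Job := [
  ⟨27, 0x550aa562bd40a25229d108a4623d00824221c5e2d13894160901, 0, 18, 0x208000409000e01001208001600001808001a09, [(10, ⟨2964, 0x860043002400110003010801010104000001, 0x1892508424040082804⟩)]⟩]

theorem t9_833_36 : jobs 8 S9 b8_833 j9_833_36 = true := by decide +kernel

noncomputable def j9_833_37 : List Job := [
  ⟨26, 0x550aa562bd00824221c582f1008c180f01, 0, 10, 0x0, []⟩]

theorem t9_833_37 : jobs 8 S9 b8_833 j9_833_37 = true := by decide +kernel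

noncomputable def j9_833_38 : List Job := [
  ⟨25, 0x5108a4623d00824221c502b1008c160901, 0, 9, 0x0, []⟩]

theorem t9_833_38 : jobs 8 S9 b8_833 j9_833_38 = true := by decide +kernel

noncomputable def j9_833_39 : List Job := [
  ⟨24, 0x5108a4623d00824221c502b1008c160901, 0, 9, 0x0, []⟩]

theorem t9_833_39 : jobs 8 S9 b8_833 j9_833_39 = true := by decide +kernel

noncomputable def j9_833_40 : List Job := [
  ⟨23, 0x550aa562bd00824221c48271008c080701, 0, 12, 0x202000602000c01000e01, []⟩]

theorem t9_833_40 : jobs 8 S9 b8_833 j9_833_40 = true := by decide +kernel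

noncomputable def j9_833_41 : List Job := [
  ⟨22, 0x550aa562bd00824221c5e2d1008c180f01, 0, 12, 0x602000e02, []⟩]

theorem t9_833_41 : jobs 8 S9 b8_833 j9_833_41 = true := by decide +kernel

noncomputable def j9_833_42 : List Job := [
  ⟨21, 0x550aa562bd00824221c5e2d1008c180f01, 0, 12, 0x602000e02, []⟩]

theorem t9_833_42 : jobs 8 S9 b8_833 j9_833_42 = true := by decide +kernel

noncomputable def j9_833_43 : List Job := [
  ⟨20, 0x4180f05824080701, 0, 10, 0x0, []⟩]

theorem t9_833_43 : jobs 8 S9 b8_833 j9_833_43 = true := by decide +kernel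

noncomputable def j9_833_44 : List Job := [
  ⟨19, 0x550aa562bd40a25229d108a4623d00824221c180f05824080701, 0, 12, 0x0, []⟩]

theorem t9_833_44 : jobs 8 S9 b8_833 j9_833_44 = true := by decide +kernel

noncomputable def j9_833_45 : List Job := [
  ⟨18, 0x5108a4623d00824221c582f140ac48271008c180f05824080701, 0, 27, 0x208000401000608000801000e08001208001608001808001c08001e08002008002208002408002601002a08002c01, []⟩]

theorem t9_833_45 : jobs 8 S9 b8_833 j9_833_45 = true := by decide +kernel

noncomputable def j9_833_46 : List Job := [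
  ⟨17, 0x45e2d13894160901, 0, 8, 0x608000c08, []⟩]

theorem t9_833_46 : jobs 8 S9 b8_833 j9_833_46 = true := by decide +kernel

noncomputable def j9_833_47 : List Job := [
  ⟨16, 0x550aa562bd40a25229d108a4623d00824221c5e2d13894160901, 0, 16, 0x608000c08001401001608001c01001e08, []⟩]

theorem t9_833_47 : jobs 8 S9 b8_833 j9_833_47 = true := by decide +kernel

noncomputable def j9_833_48 : List Job := [
  ⟨15, 0x45e2d13894160901, 0, 8, 0x608000c08, []⟩]

theorem t9_833_48 : jobs 8 S9 b8_833 j9_833_48 = true := by decide +kernel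

noncomputable def j9_833_49 : List Job := [
  ⟨14, 0x550aa562bd40a25229d108a4623d00824221c5e2d13894160901, 0, 20, 0x208000400000808000a00001400001608001a08002008, [(9, ⟨2963, 0x870155012001110103010800010104000001, 0x18b2988024040082804⟩), (4, ⟨2962, 0x910042013f00110103010c01010104010001, 0x192240fc24050082804⟩), (1, ⟨2961, 0x910042013f00110103010c01010104010001, 0x192240fc24050082804⟩)]⟩]

theorem t9_833_49 : jobs 8 S9 b8_833 j9_833_49 = true := by decide +kernel

noncomputable def j9_833_50 : List Job := [
  ⟨13, 0x5108a4623d00824221c502b1008c160901, 0, 10, 0x401000a01, []⟩]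

theorem t9_833_50 : jobs 8 S9 b8_833 j9_833_50 = true := by decide +kernel

noncomputable def j9_833_51 : List Job := [
  ⟨12, 0x5108a4623d00824221c502b1008c160901, 0, 10, 0x401000a01, []⟩]

theorem t9_833_51 : jobs 8 S9 b8_833 j9_833_51 = true := by decide +kernel

noncomputable def j9_833_52 : List Job := [
  ⟨3, 0x4703a1e0fc60321a0dc502a160bc40221209c281709844080701, 0, 6, 0x201000401000601000801000a01, []⟩]

theorem t9_833_52 : jobs 8 S9 b8_833 j9_833_52 = true := by decide +kernel

noncomputable def j9_833_53 : List Job := [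
  ⟨2, 0x520924a259309a4e27d008242219108a4623c703a1e0fc60321a0dc502a160bc40221209c281709844080701, 0, 8, 0x201000401000c01000e01, []⟩]

theorem t9_833_53 : jobs 8 S9 b8_833 j9_833_53 = true := by decide +kernel

noncomputable def j9_833_54 : List Job := [
  ⟨1, 0x4703a1e0fc60321a0dc502a160bc40221209c281709844080701, 0, 10, 0x401000a01000e01001001001201001401, []⟩]

theorem t9_833_54 : jobs 8 S9 b8_833 j9_833_54 = true := by decide +kernel

noncomputable def j9_833_55 : List Job := [
  ⟨0, 0x520924a259309a4e27d008242219108a4623c703a1e0fc60321a0dc502a160bc40221209c281709844080701, 0, 16, 0x201000401000801000a01001801001c01, []⟩]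

theorem t9_833_55 : jobs 8 S9 b8_833 j9_833_55 = true := by decide +kernel

theorem d9_833 : Dn 8 S9 b8_833 := dn_of (Js := j9_833_0 ++ (j9_833_1 ++ (j9_833_2 ++ (j9_833_3 ++ (j9_833_4 ++ (j9_833_5 ++ (j9_833_6 ++ (j9_833_7 ++ (j9_833_8 ++ (j9_833_9 ++ (j9_833_10 ++ (j9_833_11 ++ (j9_833_12 ++ (j9_833_13 ++ (j9_833_14 ++ (j9_833_15 ++ (j9_833_16 ++ (j9_833_17 ++ (j9_833_18 ++ (j9_833_19 ++ (j9_833_20 ++ (j9_833_21 ++ (j9_833_22 ++ (j9_833_23 ++ (j9_833_24 ++ (j9_833_25 ++ (j9_833_26 ++ (j9_833_27 ++ (j9_833_28 ++ (j9_833_29 ++ (j9_833_30 ++ (j9_833_31 ++ (j9_833_32 ++ (j9_833_33 ++ (j9_833_34 ++ (j9_833_35 ++ (j9_833_36 ++ (j9_833_37 ++ (j9_833_38 ++ (j9_833_39 ++ (j9_833_40 ++ (j9_833_41 ++ (j9_833_42 ++ (j9_833_43 ++ (j9_833_44 ++ (j9_833_45 ++ (j9_833_46 ++ (j9_833_47 ++ (j9_833_48 ++ (j9_833_49 ++ (j9_833_50 ++ (j9_833_51 ++ (j9_833_52 ++ (j9_833_53 ++ (j9_833_54 ++ (j9_833_55 ++ []))))))))))))))))))))))))))))))))))))))))))))))))))))))))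
  (jobs_append t9_833_0 <| jobs_append t9_833_1 <| jobs_append t9_833_2 <| jobs_append t9_833_3 <| jobs_append t9_833_4 <| jobs_append t9_833_5 <| jobs_append t9_833_6 <| jobs_append t9_833_7 <| jobs_append t9_833_8 <| jobs_append t9_833_9 <| jobs_append t9_833_10 <| jobs_append t9_833_11 <| jobs_append t9_833_12 <| jobs_append t9_833_13 <| jobs_append t9_833_14 <| jobs_append t9_833_15 <| jobs_append t9_833_16 <| jobs_append t9_833_17 <| jobs_append t9_833_18 <| jobs_append t9_833_19 <| jobs_append t9_833_20 <| jobs_append t9_833_21 <| jobs_append t9_833_22 <| jobs_append t9_833_23 <| jobs_append t9_833_24 <| jobs_append t9_833_25 <| jobs_append t9_833_26 <| jobs_append t9_833_27 <| jobs_append t9_833_28 <| jobs_append t9_833_29 <| jobs_append t9_833_30 <| jobs_append t9_833_31 <| jobs_append t9_833_32 <| jobs_append t9_833_33 <| jobs_append t9_833_34 <| jobs_append t9_833_35 <| jobs_append t9_833_36 <| jobs_append t9_833_37 <| jobs_append t9_833_38 <| jobs_append t9_833_39 <| jobs_append t9_833_40 <| jobs_append t9_833_41 <| jobs_append t9_833_42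 <| jobs_append t9_833_43 <| jobs_append t9_833_44 <| jobs_append t9_833_45 <| jobs_append t9_833_46 <| jobs_append t9_833_47 <| jobs_append t9_833_48 <| jobs_append t9_833_49 <| jobs_append t9_833_50 <| jobs_append t9_833_51 <| jobs_append t9_833_52 <| jobs_append t9_833_53 <| jobs_append t9_833_54 <| jobs_append t9_833_55 <| List.forall_mem_nil _) (by decide +kernel)

noncomputable def j9_834_0 : List Job := [
  ⟨63, 0x544ab502a5048b40224562911884160901, 0, 10, 0x0, []⟩]

theorem t9_834_0 : jobs 8 S9 b8_834 j9_834_0 = true := by decide +kernel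

noncomputable def j9_834_1 : List Job := [
  ⟨62, 0x544ab502a5048b40224562911884160901, 0, 3, 0x0, []⟩]

theorem t9_834_1 : jobs 8 S9 b8_834 j9_834_1 = true := by decide +kernel

noncomputable def j9_834_2 : List Job := [
  ⟨48, 0x4703a1e0fc60321a0dc502a160bc40221209c281709844080701, 0, 7, 0x210000411000601000810000c01000e01, []⟩]

theorem t9_834_2 : jobs 8 S9 b8_834 j9_834_2 = true := by decide +kernel

noncomputable def j9_834_3 : List Job := [
  ⟨47, 0x520924a259309a4e27d008242219108a4623c703a1e0fc60321a0dc502a160bc40221209c281709844080701, 0, 9, 0x210000610000e10001010, []⟩]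

theorem t9_834_3 : jobs 8 S9 b8_834 j9_834_3 = true := by decide +kernel

noncomputable def j9_834_4 : List Job := [
  ⟨46, 0x4703a1e0fc60321a0dc502a160bc40221209c281709844080701, 0, 12, 0x210000610000a01000c01000e01001001001210001410001601001801, []⟩]

theorem t9_834_4 : jobs 8 S9 b8_834 j9_834_4 = true := by decide +kernel

noncomputable def j9_834_5 : List Job := [
  ⟨45, 0x520924a259309a4e27d008242219108a4623c703a1e0fc60321a0dc502a160bc40221209c281709844080701, 0, 18, 0x210000610000a10000e10001a10001c10001e10002010, []⟩]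

theorem t9_834_5 : jobs 8 S9 b8_834 j9_834_5 = true := by decide +kernel

noncomputable def j9_834_6 : List Job := [
  ⟨41, 0x524964d27520944c27d04864523500844423c60321a0dc40221209c301a0e07c281709844100a0603c080701, 0, 16, 0x210000611001210001611, []⟩]

theorem t9_834_6 : jobs 8 S9 b8_834 j9_834_6 = true := by decide +kernel

noncomputable def j9_834_7 : List Job := [
  ⟨23, 0x560b25a2d970ba5e2fd40a25229950aa562bd20924a259309a4e27d008242219108a4623c7e3d178b4261101, 0, 5, 0x200000401000801000a01, [(0, ⟨2973, 0x8e0041012000130007010800030001010001, 0x18e2088026040580c02⟩)]⟩]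

theorem t9_834_7 : jobs 8 S9 b8_834 j9_834_7 = true := by decide +kernel

noncomputable def j9_834_8 : List Job := [
  ⟨21, 0x560b25a2d970ba5e2fd40a25229950aa562bd20924a259309a4e27d008242219108a4623c7e3d178b4261101, 0, 15, 0x210000611000e10001401001601001801001a01001c01001e01, []⟩]

theorem t9_834_8 : jobs 8 S9 b8_834 j9_834_8 = true := by decide +kernel

noncomputable def j9_834_9 : List Job := [
  ⟨20, 0x5008242219108a4623c180f05824080701, 0, 24, 0x203000403000603000803, []⟩]

theorem t9_834_9 : jobs 8 S9 b8_834 j9_834_9 = true := by decide +kernel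

noncomputable def j9_834_10 : List Job := [
  ⟨19, 0x5008242219108a4623c381f0a05c160901, 0, 24, 0x0, []⟩]

theorem t9_834_10 : jobs 8 S9 b8_834 j9_834_10 = true := by decide +kernel

noncomputable def j9_834_11 : List Job := [
  ⟨18, 0x5008242219108a4623c381f0a05c160901, 0, 24, 0x0, []⟩]

theorem t9_834_11 : jobs 8 S9 b8_834 j9_834_11 = true := by decide +kernel

noncomputable def j9_834_12 : List Job := [
  ⟨17, 0x504864423500844523c1e0d058240e0501, 0, 16, 0x1202001402001a01001c01001e01002001, []⟩]

theorem t9_834_12 : jobs 8 S9 b8_834 j9_834_12 = true := by decide +kernel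

noncomputable def j9_834_13 : List Job := [
  ⟨16, 0x504864523d0084442341e0d058240e0501, 0, 12, 0x1402, []⟩]

theorem t9_834_13 : jobs 8 S9 b8_834 j9_834_13 = true := by decide +kernel

noncomputable def j9_834_14 : List Job := [
  ⟨15, 0x504864523d0084442341e0d058240e0501, 0, 9, 0xe02, []⟩]

theorem t9_834_14 : jobs 8 S9 b8_834 j9_834_14 = true := by decide +kernel

noncomputable def j9_834_15 : List Job := [
  ⟨14, 0x4381f0d864281709844180f05824080701, 0, 28, 0xa08000c09000e09001008001201001401001611001810001a18001c19001e01002001, []⟩]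

theorem t9_834_15 : jobs 8 S9 b8_834 j9_834_15 = true := by decide +kernel

noncomputable def j9_834_16 : List Job := [
  ⟨13, 0x520924a259309a4e27d008242219108a4623c381f0d864281709844180f05824080701, 0, 28, 0xa10000c10002e08003009, []⟩]

theorem t9_834_16 : jobs 8 S9 b8_834 j9_834_16 = true := by decide +kernel

noncomputable def j9_834_17 : List Job := [
  ⟨12, 0x4361909844160901, 0, 16, 0x0, []⟩]

theorem t9_834_17 : jobs 8 S9 b8_834 j9_834_17 = true := by decide +kernel

noncomputable def j9_834_18 : List Job := [
  ⟨11, 0x520924a259309a4e27d008242219108a4623c361909844160901, 0, 28, 0x2a01002c01003601003801, []⟩]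

theorem t9_834_18 : jobs 8 S9 b8_834 j9_834_18 = true := by decide +kernel

noncomputable def j9_834_19 : List Job := [
  ⟨10, 0x4361909844160901, 0, 16, 0x0, []⟩]

theorem t9_834_19 : jobs 8 S9 b8_834 j9_834_19 = true := by decide +kernel

noncomputable def j9_834_20 : List Job := [
  ⟨9, 0x520924a259309a4e27d008242219108a4623c361909844160901, 0, 19, 0x2201, []⟩]

theorem t9_834_20 : jobs 8 S9 b8_834 j9_834_20 = true := by decide +kernel

noncomputable def j9_834_21 : List Job := [
  ⟨8, 0x5309a4e27d00824221c3e1d0c06c080701, 0, 13, 0x403000a03000c03001001001401001801001a01, []⟩]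

theorem t9_834_21 : jobs 8 S9 b8_834 j9_834_21 = true := by decide +kernel

noncomputable def j9_834_22 : List Job := [
  ⟨7, 0x5309a4e27d00824221c3e1d0c06c080701, 0, 13, 0x403000a03000e03001001001401001801001a01, []⟩]

theorem t9_834_22 : jobs 8 S9 b8_834 j9_834_22 = true := by decide +kernel

noncomputable def j9_834_23 : List Job := [
  ⟨6, 0x5309a4e27d00824221c301b0a05c180f01, 0, 36, 0x202000602000a01000e01001201001401001601001801001a01001e01002201002601002a01002c01002e01003001003a01003e01004601004801, []⟩]

theorem t9_834_23 : jobs 8 S9 b8_834 j9_834_23 = true := by decide +kernel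

noncomputable def j9_834_24 : List Job := [
  ⟨5, 0x5309a4e27d00824221c381f0c06c0e0501, 0, 12, 0x201000601000a01000c01000e02001202001802, []⟩]

theorem t9_834_24 : jobs 8 S9 b8_834 j9_834_24 = true := by decide +kernel

noncomputable def j9_834_25 : List Job := [
  ⟨4, 0x5349d4c27d048740214381f0c06c0e0501, 0, 12, 0x202000602000a01000c01000e02001202001802, []⟩]

theorem t9_834_25 : jobs 8 S9 b8_834 j9_834_25 = true := by decide +kernel

noncomputable def j9_834_26 : List Job := [
  ⟨3, 0x5108a4623d00824221c180f05824080701, 0, 11, 0x0, []⟩]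

theorem t9_834_26 : jobs 8 S9 b8_834 j9_834_26 = true := by decide +kernel

noncomputable def j9_834_27 : List Job := [
  ⟨2, 0x5108a4623d00824221c180f05824080701, 0, 11, 0x0, []⟩]

theorem t9_834_27 : jobs 8 S9 b8_834 j9_834_27 = true := by decide +kernel

noncomputable def j9_834_28 : List Job := [
  ⟨1, 0x5108a4623d00824221c381f0a05c160901, 0, 32, 0x0, []⟩]

theorem t9_834_28 : jobs 8 S9 b8_834 j9_834_28 = true := by decide +kernel

noncomputable def j9_834_29 : List Job := [
  ⟨0, 0x520924a25d00824221c281709844080701, 0, 18, 0x203000603000803, []⟩]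

theorem t9_834_29 : jobs 8 S9 b8_834 j9_834_29 = true := by decide +kernel

theorem d9_834 : Dn 8 S9 b8_834 := dn_of (Js := j9_834_0 ++ (j9_834_1 ++ (j9_834_2 ++ (j9_834_3 ++ (j9_834_4 ++ (j9_834_5 ++ (j9_834_6 ++ (j9_834_7 ++ (j9_834_8 ++ (j9_834_9 ++ (j9_834_10 ++ (j9_834_11 ++ (j9_834_12 ++ (j9_834_13 ++ (j9_834_14 ++ (j9_834_15 ++ (j9_834_16 ++ (j9_834_17 ++ (j9_834_18 ++ (j9_834_19 ++ (j9_834_20 ++ (j9_834_21 ++ (j9_834_22 ++ (j9_834_23 ++ (j9_834_24 ++ (j9_834_25 ++ (j9_834_26 ++ (j9_834_27 ++ (j9_834_28 ++ (j9_834_29 ++ []))))))))))))))))))))))))))))))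
  (jobs_append t9_834_0 <| jobs_append t9_834_1 <| jobs_append t9_834_2 <| jobs_append t9_834_3 <| jobs_append t9_834_4 <| jobs_append t9_834_5 <| jobs_append t9_834_6 <| jobs_append t9_834_7 <| jobs_append t9_834_8 <| jobs_append t9_834_9 <| jobs_append t9_834_10 <| jobs_append t9_834_11 <| jobs_append t9_834_12 <| jobs_append t9_834_13 <| jobs_append t9_834_14 <| jobs_append t9_834_15 <| jobs_append t9_834_16 <| jobs_append t9_834_17 <| jobs_append t9_834_18 <| jobs_append t9_834_19 <| jobs_append t9_834_20 <| jobs_append t9_834_21 <| jobs_append t9_834_22 <| jobs_append t9_834_23 <| jobs_append t9_834_24 <| jobs_append t9_834_25 <| jobs_append t9_834_26 <| jobs_append t9_834_27 <| jobs_append t9_834_28 <| jobs_append t9_834_29 <| List.forall_mem_nil _) (by decide +kernel)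

noncomputable def j9_835_0 : List Job := [
  ⟨63, 0x5c0e272399d0ea763b9e0f27a3d9f0fa7e3fd80c26231990ca66339a0d26a359b0da6e37d40a25229950aa562b960b25a2d970ba5e2fd008242219108a4623920924a259309a4e27c7e3d178b4261101, 0, 2, 0x0, []⟩]

theorem t9_835_0 : jobs 8 S9 b8_835 j9_835_0 = true := by decide +kernel

noncomputable def j9_835_1 : List Job := [
  ⟨61, 0x5c0e272399d0ea763b9e0f27a3d9f0fa7e3fd80c26231990ca66339a0d26a359b0da6e37d40a25229950aa562b960b25a2d970ba5e2fd008242219108a4623920924a259309a4e27c7e3d178b4261101, 0, 13, 0x0, []⟩]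

theorem t9_835_1 : jobs 8 S9 b8_835 j9_835_1 = true := by decide +kernel

noncomputable def j9_835_2 : List Job := [
  ⟨60, 0x588c664329a8d66c36d00824221920924a25c301b0a05c180f01, 0, 24, 0x1202001402001602001802001a02001c02002601002801002a01002c01002e01003001, []⟩]

theorem t9_835_2 : jobs 8 S9 b8_835 j9_835_2 = true := by decide +kernel

noncomputable def j9_835_3 : List Job := [
  ⟨59, 0x4381f0a05c160901, 0, 20, 0x220a00240b, []⟩]

theorem t9_835_3 : jobs 8 S9 b8_835 j9_835_3 = true := by decide +kernel

noncomputable def j9_835_4 : List Job := [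
  ⟨58, 0x588c664329a8d66c36d80c266339a0d26e37d108a46239309a4e27d00824221920924a25c381f0a05c160901, 0, 20, 0x1e09002008, []⟩]

theorem t9_835_4 : jobs 8 S9 b8_835 j9_835_4 = true := by decide +kernel

noncomputable def j9_835_5 : List Job := [
  ⟨57, 0x5108a46239309a4e27d00824221920924a25c381f0a05c160901, 0, 28, 0x2203002403, []⟩]

theorem t9_835_5 : jobs 8 S9 b8_835 j9_835_5 = true := by decide +kernel

noncomputable def j9_835_6 : List Job := [
  ⟨56, 0x588c664329a8d66c36d00824221920924a25c381f0c06c080701, 0, 24, 0x202000402000602000802000a02000c02000e01001001001201001401001601001801, []⟩]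

theorem t9_835_6 : jobs 8 S9 b8_835 j9_835_6 = true := by decide +kernel

noncomputable def j9_835_7 : List Job := [
  ⟨55, 0x41e0d058240e0501, 0, 14, 0x140b001608001803, []⟩]

theorem t9_835_7 : jobs 8 S9 b8_835 j9_835_7 = true := by decide +kernel

noncomputable def j9_835_8 : List Job := [
  ⟨54, 0x588c664329a8d66c36d80c266339a0d26e37d108a46239309a4e27d00824221920924a25c1e0d058240e0501, 0, 22, 0x1409001e00002000, [(15, ⟨2990, 0x93006c012c00140107000901040101000001, 0x19a3289824050102c02⟩), (14, ⟨2989, 0x96004b012e00140102000900040101000001, 0x19a268b824050102002⟩)]⟩]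

theorem t9_835_8 : jobs 8 S9 b8_835 j9_835_8 = true := by decide +kernel

noncomputable def j9_835_9 : List Job := [
  ⟨53, 0x41e0d058240e0501, 0, 14, 0x140b001608001803, []⟩]

theorem t9_835_9 : jobs 8 S9 b8_835 j9_835_9 = true := by decide +kernel

noncomputable def j9_835_10 : List Job := [
  ⟨52, 0x588c664329a8d66c36d80c266339a0d26e37d108a46239309a4e27d00824221920924a25c1e0d058240e0501, 0, 25, 0x2009002e01003200, [(24, ⟨2988, 0x8e0064012a01110007010900040101010001, 0x18d340bc22050102c02⟩)]⟩]

theorem t9_835_10 : jobs 8 S9 b8_835 j9_835_10 = true := by decide +kernel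

noncomputable def j9_835_11 : List Job := [
  ⟨51, 0x5108a46239309a4e27d00824221920924a25c1e0d058240e0501, 0, 20, 0x1a02001c0a, []⟩]

theorem t9_835_11 : jobs 8 S9 b8_835 j9_835_11 = true := by decide +kernel

noncomputable def j9_835_12 : List Job := [
  ⟨50, 0x5108a46239309a4e27d00824221920924a25c1e0d058240e0501, 0, 20, 0x1a02001c0a, []⟩]

theorem t9_835_12 : jobs 8 S9 b8_835 j9_835_12 = true := by decide +kernel

noncomputable def j9_835_13 : List Job := [
  ⟨49, 0x580c266339a0d26e37d00824221920924a25c381f0804c180f01, 0, 28, 0x0, []⟩]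

theorem t9_835_13 : jobs 8 S9 b8_835 j9_835_13 = true := by decide +kernel

noncomputable def j9_835_14 : List Job := [
  ⟨48, 0x5108a46239309a4e27d00824221920924a25c381f0d864281709844180f05824080701, 0, 34, 0x2218002419002a01002c01003208003411003c01004201, []⟩]

theorem t9_835_14 : jobs 8 S9 b8_835 j9_835_14 = true := by decide +kernel

noncomputable def j9_835_15 : List Job := [
  ⟨47, 0x4381f0d864281709844180f05824080701, 0, 25, 0xe08001018001209002c01002e01003001003201, []⟩]

theorem t9_835_15 : jobs 8 S9 b8_835 j9_835_15 = true := by decide +kernel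

noncomputable def j9_835_16 : List Job := [
  ⟨46, 0x588c664329a8d66c36d80c266339a0d26e37d108a46239309a4e27d00824221920924a25c381f0d864281709844180f05824080701, 0, 25, 0xe18001018002e01003201, []⟩]

theorem t9_835_16 : jobs 8 S9 b8_835 j9_835_16 = true := by decide +kernel

noncomputable def j9_835_17 : List Job := [
  ⟨45, 0x5108a46239309a4e27d00824221920924a25c361909844160901, 0, 19, 0x2401, []⟩]

theorem t9_835_17 : jobs 8 S9 b8_835 j9_835_17 = true := by decide +kernel

noncomputable def j9_835_18 : List Job := [
  ⟨44, 0x4361909844160901, 0, 14, 0x1a01001c01, []⟩]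

theorem t9_835_18 : jobs 8 S9 b8_835 j9_835_18 = true := by decide +kernel

noncomputable def j9_835_19 : List Job := [
  ⟨43, 0x588c664329a8d66c36d80c266339a0d26e37d108a46239309a4e27d00824221920924a25c361909844160901, 0, 25, 0x1001001a01001e00002000, [(15, ⟨2987, 0x860149012101100003000801040001010001, 0x18a2288420040102402⟩), (14, ⟨2986, 0xaa00410020001c010b000800040101010001, 0x1ac208802c040103402⟩)]⟩]

theorem t9_835_19 : jobs 8 S9 b8_835 j9_835_19 = true := by decide +kernel

noncomputable def j9_835_20 : List Job := [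
  ⟨42, 0x580c266339a0d26e37d04864925500844825c28170804c080701, 0, 28, 0x0, []⟩]

theorem t9_835_20 : jobs 8 S9 b8_835 j9_835_20 = true := by decide +kernel

noncomputable def j9_835_21 : List Job := [
  ⟨41, 0x5108a46239309a4e27d00824221920924a25c361909844160901, 0, 14, 0x1801001c01, []⟩]

theorem t9_835_21 : jobs 8 S9 b8_835 j9_835_21 = true := by decide +kernel

noncomputable def j9_835_22 : List Job := [
  ⟨40, 0x5108a46239309a4e27d00824221920924a25c361909844160901, 0, 14, 0x1801001c01, []⟩]

theorem t9_835_22 : jobs 8 S9 b8_835 j9_835_22 = true := by decide +kernel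

noncomputable def j9_835_23 : List Job := [
  ⟨39, 0x4361909844160901, 0, 13, 0x1401001601001801001a01, []⟩]

theorem t9_835_23 : jobs 8 S9 b8_835 j9_835_23 = true := by decide +kernel

noncomputable def j9_835_24 : List Job := [
  ⟨38, 0x588c664329a8d66c36d80c266339a0d26e37d108a46239309a4e27d00824221920924a25c361909844160901, 0, 30, 0x1c01002001003a01003c01, []⟩]

theorem t9_835_24 : jobs 8 S9 b8_835 j9_835_24 = true := by decide +kernel

noncomputable def j9_835_25 : List Job := [
  ⟨37, 0x4361909844160901, 0, 12, 0x1201001401001601001801, []⟩]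

theorem t9_835_25 : jobs 8 S9 b8_835 j9_835_25 = true := by decide +kernel

noncomputable def j9_835_26 : List Job := [
  ⟨36, 0x588c664329a8d66c36d80c266339a0d26e37d108a46239309a4e27d00824221920924a25c361909844160901, 0, 18, 0x1601001a01001c00001e00002001, [(14, ⟨2979, 0x8f0141002000110003010800010104000001, 0x18f2108024040082804⟩), (13, ⟨2978, 0x8f0041002000110003010800010104010001, 0x18f2108024040082804⟩)]⟩]

theorem t9_835_26 : jobs 8 S9 b8_835 j9_835_26 = true := by decide +kernel

noncomputable def j9_835_27 : List Job := [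
  ⟨35, 0x5a0d26a359b0da6e37d008242219108a4623c301b0a05c180f01, 0, 36, 0x401000801000c03001003001201001603001a01001e01002202002602002a01002e02003403003801003c03004001004201004601, []⟩]

theorem t9_835_27 : jobs 8 S9 b8_835 j9_835_27 = true := by decide +kernel

noncomputable def j9_835_28 : List Job := [
  ⟨34, 0x5a0d26a359b0da6e37d008242219108a4623c381f0c06c0e0501, 0, 24, 0x201000601000a01000e01001201001601001a02001e02002202002602002a01002e01, []⟩]

theorem t9_835_28 : jobs 8 S9 b8_835 j9_835_28 = true := by decide +kernel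

noncomputable def j9_835_29 : List Job := [
  ⟨33, 0x5a0d26a359b0da6e37d008242219108a4623c381f0c06c0e0501, 0, 24, 0x202000602000a01000e01001202001601001a01001e01002201002602002a01002e01, []⟩]

theorem t9_835_29 : jobs 8 S9 b8_835 j9_835_29 = true := by decide +kernel

noncomputable def j9_835_30 : List Job := [
  ⟨32, 0x580c26231990ca6633d008242219108a4623c180f05824080701, 0, 24, 0x0, []⟩]

theorem t9_835_30 : jobs 8 S9 b8_835 j9_835_30 = true := by decide +kernel

noncomputable def j9_835_31 : List Job := [
  ⟨31, 0x580c26231990ca6633d008242219108a4623c381f0a05c160901, 0, 24, 0x0, []⟩]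

theorem t9_835_31 : jobs 8 S9 b8_835 j9_835_31 = true := by decide +kernel

noncomputable def j9_835_32 : List Job := [
  ⟨30, 0x580c26231990ca6633d008242219108a4623c381f0a05c160901, 0, 15, 0x0, []⟩]

theorem t9_835_32 : jobs 8 S9 b8_835 j9_835_32 = true := by decide +kernel

noncomputable def j9_835_33 : List Job := [
  ⟨29, 0x580c26231990ca6633d008242219108a4623c381f0a05c160901, 0, 15, 0x0, []⟩]

theorem t9_835_33 : jobs 8 S9 b8_835 j9_835_33 = true := by decide +kernel

noncomputable def j9_835_34 : List Job := [
  ⟨28, 0x4381f09844180f01, 0, 24, 0x2e12003012, []⟩]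

theorem t9_835_34 : jobs 8 S9 b8_835 j9_835_34 = true := by decide +kernel

noncomputable def j9_835_35 : List Job := [
  ⟨27, 0x5a0d26a359b0da6e37d80c26231990ca6633d20924a259309a4e27d008242219108a4623c381f09844180f01, 0, 24, 0x2611002c11, []⟩]

theorem t9_835_35 : jobs 8 S9 b8_835 j9_835_35 = true := by decide +kernel

noncomputable def j9_835_36 : List Job := [
  ⟨26, 0x520924a259309a4e27d008242219108a4623c381f09844180f01, 0, 30, 0x2a03003003, []⟩]

theorem t9_835_36 : jobs 8 S9 b8_835 j9_835_36 = true := by decide +kernel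

noncomputable def j9_835_37 : List Job := [
  ⟨25, 0x42e15098440e0501, 0, 16, 0x1a13001e10002003, []⟩]

theorem t9_835_37 : jobs 8 S9 b8_835 j9_835_37 = true := by decide +kernel

noncomputable def j9_835_38 : List Job := [
  ⟨24, 0x5a0d26a359b0da6e37d80c26231990ca6633d20924a259309a4e27d008242219108a4623c2e15098440e0501, 0, 24, 0x1a11002401002c01, []⟩]

theorem t9_835_38 : jobs 8 S9 b8_835 j9_835_38 = true := by decide +kernel

noncomputable def j9_835_39 : List Job := [
  ⟨23, 0x42e15098440e0501, 0, 16, 0x1a13001e10002003, []⟩]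

theorem t9_835_39 : jobs 8 S9 b8_835 j9_835_39 = true := by decide +kernel

noncomputable def j9_835_40 : List Job := [
  ⟨22, 0x5a0d26a359b0da6e37d80c26231990ca6633d20924a259309a4e27d008242219108a4623c2e15098440e0501, 0, 28, 0x1400001a00002a11003400, [(25, ⟨2985, 0x930069002100180102000401080101000001, 0x1993388424020202002⟩), (12, ⟨2984, 0x9a0047002600180102000500080101010001, 0x19a268b024020282002⟩), (9, ⟨2983, 0x9a0047002600180102000500080101010001, 0x19a268b024020282002⟩)]⟩]

theorem t9_835_40 : jobs 8 S9 b8_835 j9_835_40 = true := by decide +kernel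

noncomputable def j9_835_41 : List Job := [
  ⟨21, 0x520924a259309a4e27d008242219108a4623c2e15098440e0501, 0, 20, 0x2002002412, []⟩]

theorem t9_835_41 : jobs 8 S9 b8_835 j9_835_41 = true := by decide +kernel

noncomputable def j9_835_42 : List Job := [
  ⟨20, 0x520924a259309a4e27d008242219108a4623c2e15098440e0501, 0, 20, 0x2002002412, []⟩]

theorem t9_835_42 : jobs 8 S9 b8_835 j9_835_42 = true := by decide +kernel

noncomputable def j9_835_43 : List Job := [
  ⟨19, 0x520924a259309a4e27d008242219108a4623c381f0d864281709844180f05824080701, 0, 35, 0x401000a01002a18002e19003401003601003801003e10004209, []⟩]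

theorem t9_835_43 : jobs 8 S9 b8_835 j9_835_43 = true := by decide +kernel

noncomputable def j9_835_44 : List Job := [
  ⟨18, 0x4381f0d864281709844180f05824080701, 0, 28, 0x401000a01001210001618001811001c01, []⟩]

theorem t9_835_44 : jobs 8 S9 b8_835 j9_835_44 = true := by decide +kernel

noncomputable def j9_835_45 : List Job := [
  ⟨17, 0x5a0d26a359b0da6e37d80c26231990ca6633d20924a259309a4e27d008242219108a4623c381f0d864281709844180f05824080701, 0, 28, 0x401000a01001219001618001c01, []⟩]

theorem t9_835_45 : jobs 8 S9 b8_835 j9_835_45 = true := by decide +kernel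

noncomputable def j9_835_46 : List Job := [
  ⟨16, 0x520924a259309a4e27d008242219108a4623c361909844160901, 0, 20, 0x401000a01, []⟩]

theorem t9_835_46 : jobs 8 S9 b8_835 j9_835_46 = true := by decide +kernel

noncomputable def j9_835_47 : List Job := [
  ⟨15, 0x4361909844160901, 0, 16, 0x401000a01, []⟩]

theorem t9_835_47 : jobs 8 S9 b8_835 j9_835_47 = true := by decide +kernel

noncomputable def j9_835_48 : List Job := [
  ⟨14, 0x5a0d26a359b0da6e37d80c26231990ca6633d20924a259309a4e27d008242219108a4623c361909844160901, 0, 28, 0x401000a01001400001c00001e01002400, [(17, ⟨2981, 0x940060012001180002000400080101000001, 0x1943208024020202002⟩), (13, ⟨2982, 0x97016b002401180002010401080101000001, 0x19c3509024020202002⟩), (9, ⟨2980, 0x940060012001180002010400080101000001, 0x1943208024020202002⟩)]⟩]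

theorem t9_835_48 : jobs 8 S9 b8_835 j9_835_48 = true := by decide +kernel

noncomputable def j9_835_49 : List Job := [
  ⟨13, 0x520924a259309a4e27d008242219108a4623c361909844160901, 0, 13, 0x401001801, []⟩]

theorem t9_835_49 : jobs 8 S9 b8_835 j9_835_49 = true := by decide +kernel

noncomputable def j9_835_50 : List Job := [
  ⟨12, 0x520924a259309a4e27d008242219108a4623c361909844160901, 0, 14, 0x401000801001a01, []⟩]

theorem t9_835_50 : jobs 8 S9 b8_835 j9_835_50 = true := by decide +kernel

noncomputable def j9_835_51 : List Job := [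
  ⟨11, 0x4361909844160901, 0, 11, 0x401001401, []⟩]

theorem t9_835_51 : jobs 8 S9 b8_835 j9_835_51 = true := by decide +kernel

noncomputable def j9_835_52 : List Job := [
  ⟨10, 0x5a0d26a359b0da6e37d80c26231990ca6633d20924a259309a4e27d008242219108a4623c361909844160901, 0, 16, 0x401001401001a01001c01, []⟩]

theorem t9_835_52 : jobs 8 S9 b8_835 j9_835_52 = true := by decide +kernel

noncomputable def j9_835_53 : List Job := [
  ⟨9, 0x4361909844160901, 0, 13, 0x401000a01001801, []⟩]

theorem t9_835_53 : jobs 8 S9 b8_835 j9_835_53 = true := by decide +kernel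

noncomputable def j9_835_54 : List Job := [
  ⟨8, 0x5a0d26a359b0da6e37d80c26231990ca6633d20924a259309a4e27d008242219108a4623c361909844160901, 0, 32, 0x401000a01001c01002200002800003200003800, [(27, ⟨2977, 0x9c0065012000180003010400010108000001, 0x1953108022010202804⟩), (24, ⟨2976, 0x9c0065012000180003000400010108000001, 0x1953108022010202804⟩), (19, ⟨2975, 0x9c0065002000180003010400010008000001, 0x1953108022010202804⟩), (16, ⟨2974, 0x9c0065002000180003000400010008000001, 0x1953108022010202804⟩)]⟩]

theorem t9_835_54 : jobs 8 S9 b8_835 j9_835_54 = true := by decide +kernel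

theorem d9_835 : Dn 8 S9 b8_835 := dn_of (Js := j9_835_0 ++ (j9_835_1 ++ (j9_835_2 ++ (j9_835_3 ++ (j9_835_4 ++ (j9_835_5 ++ (j9_835_6 ++ (j9_835_7 ++ (j9_835_8 ++ (j9_835_9 ++ (j9_835_10 ++ (j9_835_11 ++ (j9_835_12 ++ (j9_835_13 ++ (j9_835_14 ++ (j9_835_15 ++ (j9_835_16 ++ (j9_835_17 ++ (j9_835_18 ++ (j9_835_19 ++ (j9_835_20 ++ (j9_835_21 ++ (j9_835_22 ++ (j9_835_23 ++ (j9_835_24 ++ (j9_835_25 ++ (j9_835_26 ++ (j9_835_27 ++ (j9_835_28 ++ (j9_835_29 ++ (j9_835_30 ++ (j9_835_31 ++ (j9_835_32 ++ (j9_835_33 ++ (j9_835_34 ++ (j9_835_35 ++ (j9_835_36 ++ (j9_835_37 ++ (j9_835_38 ++ (j9_835_39 ++ (j9_835_40 ++ (j9_835_41 ++ (j9_835_42 ++ (j9_835_43 ++ (j9_835_44 ++ (j9_835_45 ++ (j9_835_46 ++ (j9_835_47 ++ (j9_835_48 ++ (j9_835_49 ++ (j9_835_50 ++ (j9_835_51 ++ (j9_835_52 ++ (j9_835_53 ++ (j9_835_54 ++ [])))))))))))))))))))))))))))))))))))))))))))))))))))))))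
  (jobs_append t9_835_0 <| jobs_append t9_835_1 <| jobs_append t9_835_2 <| jobs_append t9_835_3 <| jobs_append t9_835_4 <| jobs_append t9_835_5 <| jobs_append t9_835_6 <| jobs_append t9_835_7 <| jobs_append t9_835_8 <| jobs_append t9_835_9 <| jobs_append t9_835_10 <| jobs_append t9_835_11 <| jobs_append t9_835_12 <| jobs_append t9_835_13 <| jobs_append t9_835_14 <| jobs_append t9_835_15 <| jobs_append t9_835_16 <| jobs_append t9_835_17 <| jobs_append t9_835_18 <| jobs_append t9_835_19 <| jobs_append t9_835_20 <| jobs_append t9_835_21 <| jobs_append t9_835_22 <| jobs_append t9_835_23 <| jobs_append t9_835_24 <| jobs_append t9_835_25 <| jobs_append t9_835_26 <| jobs_append t9_835_27 <| jobs_append t9_835_28 <| jobs_append t9_835_29 <| jobs_append t9_835_30 <| jobs_append t9_835_31 <| jobs_append t9_835_32 <| jobs_append t9_835_33 <| jobs_append t9_835_34 <| jobs_append t9_835_35 <| jobs_append t9_835_36 <| jobs_append t9_835_37 <| jobs_append t9_835_38 <| jobs_append t9_835_39 <| jobs_append t9_835_40 <| jobs_append t9_835_41 <| jobs_append t9_835_42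 <| jobs_append t9_835_43 <| jobs_append t9_835_44 <| jobs_append t9_835_45 <| jobs_append t9_835_46 <| jobs_append t9_835_47 <| jobs_append t9_835_48 <| jobs_append t9_835_49 <| jobs_append t9_835_50 <| jobs_append t9_835_51 <| jobs_append t9_835_52 <| jobs_append t9_835_53 <| jobs_append t9_835_54 <| List.forall_mem_nil _) (by decide +kernel)

noncomputable def j9_836_0 : List Job := [
  ⟨63, 0x4361909844160901, 0, 11, 0x1400, [(9, ⟨2999, 0x5100420040045400380050010040400001, 0x1a92688028020283002⟩)]⟩]

theorem t9_836_0 : jobs 8 S9 b8_836 j9_836_0 = true := by decide +kernel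

noncomputable def j9_836_1 : List Job := [
  ⟨62, 0x4361909844160901, 0, 16, 0x400000c00, [(5, ⟨2998, 0x4e01600248046008100040010040400001, 0x1963009024020202002⟩), (1, ⟨2997, 0x4e01600248046008101040010040400001, 0x1963009024020202002⟩)]⟩]

theorem t9_836_1 : jobs 8 S9 b8_836 j9_836_1 = true := by decide +kernel

noncomputable def j9_836_2 : List Job := [
  ⟨61, 0x4361909844160901, 0, 5, 0x0, []⟩]

theorem t9_836_2 : jobs 8 S9 b8_836 j9_836_2 = true := by decide +kernel

noncomputable def j9_836_3 : List Job := [
  ⟨60, 0x4361909844160901, 0, 5, 0x0, []⟩]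

theorem t9_836_3 : jobs 8 S9 b8_836 j9_836_3 = true := by decide +kernel

noncomputable def j9_836_4 : List Job := [
  ⟨59, 0x4361909844160901, 0, 11, 0x1201, []⟩]

theorem t9_836_4 : jobs 8 S9 b8_836 j9_836_4 = true := by decide +kernel

noncomputable def j9_836_5 : List Job := [
  ⟨58, 0x4361909844160901, 0, 20, 0x1200001800001e00002400, [(17, ⟨2994, 0x4201420048004000101040002002000001, 0x1842509020010202004⟩), (14, ⟨2993, 0x4201420048004000101040002002000001, 0x1842509020010202004⟩), (11, ⟨2992, 0x4201420248004000100040002042000001, 0x1842509020010202004⟩), (8, ⟨2991, 0x4201420248004000100040002042000001, 0x1842509020010202004⟩)]⟩]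

theorem t9_836_5 : jobs 8 S9 b8_836 j9_836_5 = true := by decide +kernel

noncomputable def j9_836_6 : List Job := [
  ⟨46, 0x5c0e272399d0ea763b9e0f27a3d9f0fa7e3fd80c26231990ca66339a0d26a359b0da6e37d40a25229950aa562b960b25a2d970ba5e2fd008242219108a4623920924a259309a4e27c562911884160901, 0, 4, 0x201000601, []⟩]

theorem t9_836_6 : jobs 8 S9 b8_836 j9_836_6 = true := by decide +kernel

noncomputable def j9_836_7 : List Job := [
  ⟨44, 0x5c0e272399d0ea763b9e0f27a3d9f0fa7e3fd80c26231990ca66339a0d26a359b0da6e37d40a25229950aa562b960b25a2d970ba5e2fd008242219108a4623920924a259309a4e27c562911884160901, 0, 12, 0x401000a01001201, []⟩]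

theorem t9_836_7 : jobs 8 S9 b8_836 j9_836_7 = true := by decide +kernel

noncomputable def j9_836_8 : List Job := [
  ⟨30, 0x584c665331a4d66d37580c464339a0d46c37d04864523124964d27500844423920944c27c703a1e0fc502a160bc301a0e07c281709844100a0603c080701, 0, 12, 0x210000610001410001810, []⟩]

theorem t9_836_8 : jobs 8 S9 b8_836 j9_836_8 = true := by decide +kernel

noncomputable def j9_836_9 : List Job := [
  ⟨29, 0x5008242219108a4623920924a259309a4e27c703a1e0fc60321a0dc502a160bc40221209c281709844080701, 0, 12, 0x211000611000a01000c01000e01001001001201001411001811, []⟩]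

theorem t9_836_9 : jobs 8 S9 b8_836 j9_836_9 = true := by decide +kernel

noncomputable def j9_836_10 : List Job := [
  ⟨28, 0x4703a1e0fc60321a0dc502a160bc40221209c281709844080701, 0, 12, 0x210000401000611000801000a01000c01000e01001001001410001811, []⟩]

theorem t9_836_10 : jobs 8 S9 b8_836 j9_836_10 = true := by decide +kernel

noncomputable def j9_836_11 : List Job := [
  ⟨27, 0x580c26231990ca66339a0d26a359b0da6e37d008242219108a4623920924a259309a4e27c703a1e0fc60321a0dc502a160bc40221209c281709844080701, 0, 18, 0x210000611000a10000e01001001001201001401001601001801001c10002011002410, []⟩]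

theorem t9_836_11 : jobs 8 S9 b8_836 j9_836_11 = true := by decide +kernel

noncomputable def j9_836_12 : List Job := [
  ⟨24, 0x584c665331a4d66d37580c464339a0d46c37d04864523124964d27500844423920944c27c60321a0dc40221209c301a0e07c281709844100a0603c080701, 0, 12, 0x210000611000a01000c01000e01001001, []⟩]

theorem t9_836_12 : jobs 8 S9 b8_836 j9_836_12 = true := by decide +kernel

noncomputable def j9_836_13 : List Job := [
  ⟨16, 0x5c0e272399d0ea763b9e0f27a3d9f0fa7e3fd80c26231990ca66339a0d26a359b0da6e37d40a25229950aa562b960b25a2d970ba5e2fd008242219108a4623920924a259309a4e27c663111884261101, 0, 12, 0x1601, []⟩]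

theorem t9_836_13 : jobs 8 S9 b8_836 j9_836_13 = true := by decide +kernel

theorem d9_836 : Dn 8 S9 b8_836 := dn_of (Js := j9_836_0 ++ (j9_836_1 ++ (j9_836_2 ++ (j9_836_3 ++ (j9_836_4 ++ (j9_836_5 ++ (j9_836_6 ++ (j9_836_7 ++ (j9_836_8 ++ (j9_836_9 ++ (j9_836_10 ++ (j9_836_11 ++ (j9_836_12 ++ (j9_836_13 ++ []))))))))))))))
  (jobs_append t9_836_0 <| jobs_append t9_836_1 <| jobs_append t9_836_2 <| jobs_append t9_836_3 <| jobs_append t9_836_4 <| jobs_append t9_836_5 <| jobs_append t9_836_6 <| jobs_append t9_836_7 <| jobs_append t9_836_8 <| jobs_append t9_836_9 <| jobs_append t9_836_10 <| jobs_append t9_836_11 <| jobs_append t9_836_12 <| jobs_append t9_836_13 <| List.forall_mem_nil _) (by decide +kernel)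

noncomputable def j9_837_0 : List Job := [
  ⟨63, 0x5a0d26a359b0da6e37d80c26231990ca6633d20924a259309a4e27d008242219108a4623cae55219042e1501, 0, 5, 0x201000400000601000801, [(1, ⟨3029, 0x97006d0020011a0104010201080001010001, 0x19c378802c020401002⟩)]⟩]

theorem t9_837_0 : jobs 8 S9 b8_837 j9_837_0 = true := by decide +kernel

noncomputable def j9_837_1 : List Job := [
  ⟨57, 0x5a0d26a359b0da6e37d80c26231990ca6633d20924a259309a4e27d008242219108a4623cae55219042e1501, 0, 16, 0x216000401000816000a01001217001401001817001a01, []⟩]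

theorem t9_837_1 : jobs 8 S9 b8_837 j9_837_1 = true := by decide +kernel

noncomputable def j9_837_2 : List Job := [
  ⟨48, 0x4703a1e0fc502a160bc301a0e07c281709844100a0603c080701, 0, 4, 0x0, []⟩]

theorem t9_837_2 : jobs 8 S9 b8_837 j9_837_2 = true := by decide +kernel

noncomputable def j9_837_3 : List Job := [
  ⟨47, 0x4703a1e0fc502a160bc301a0e07c281709844100a0603c080701, 0, 8, 0x210000411000610000811000c10001010, []⟩]

theorem t9_837_3 : jobs 8 S9 b8_837 j9_837_3 = true := by decide +kernel

noncomputable def j9_837_4 : List Job := [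
  ⟨46, 0x4703a1e0fc60321a0dc502a160bc40221209c281709844080701, 0, 8, 0x211000610000a01000c11000e01001010, []⟩]

theorem t9_837_4 : jobs 8 S9 b8_837 j9_837_4 = true := by decide +kernel

noncomputable def j9_837_5 : List Job := [
  ⟨45, 0x4703a1e0fc60321a0dc502a160bc40221209c281709844080701, 0, 8, 0x412000813000a12000c01000e13001001, []⟩]

theorem t9_837_5 : jobs 8 S9 b8_837 j9_837_5 = true := by decide +kernel

noncomputable def j9_837_6 : List Job := [
  ⟨44, 0x4703a1e0fc60321a0dc502a160bc40221209c281709844080701, 0, 12, 0x210000611000a11001010001411001811, []⟩]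

theorem t9_837_6 : jobs 8 S9 b8_837 j9_837_6 = true := by decide +kernel

noncomputable def j9_837_7 : List Job := [
  ⟨42, 0x460321a0dc40221209c301a0e07c281709844100a0603c080701, 0, 4, 0x201000401000601000801, []⟩]

theorem t9_837_7 : jobs 8 S9 b8_837 j9_837_7 = true := by decide +kernel

noncomputable def j9_837_8 : List Job := [
  ⟨41, 0x460321a0dc40221209c301a0e07c281709844100a0603c080701, 0, 8, 0x210000410000611000811, []⟩]

theorem t9_837_8 : jobs 8 S9 b8_837 j9_837_8 = true := by decide +kernel

noncomputable def j9_837_9 : List Job := [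
  ⟨35, 0x4663111884261101, 0, 3, 0x0, []⟩]

theorem t9_837_9 : jobs 8 S9 b8_837 j9_837_9 = true := by decide +kernel

noncomputable def j9_837_10 : List Job := [
  ⟨34, 0x4663111884261101, 0, 7, 0x0, []⟩]

theorem t9_837_10 : jobs 8 S9 b8_837 j9_837_10 = true := by decide +kernel

noncomputable def j9_837_11 : List Job := [
  ⟨21, 0x47e3d178b4261101, 0, 1, 0x0, []⟩]

theorem t9_837_11 : jobs 8 S9 b8_837 j9_837_11 = true := by decide +kernel

noncomputable def j9_837_12 : List Job := [
  ⟨20, 0x47e3d178b4261101, 0, 10, 0x0, []⟩]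

theorem t9_837_12 : jobs 8 S9 b8_837 j9_837_12 = true := by decide +kernel

noncomputable def j9_837_13 : List Job := [
  ⟨19, 0x4381f0804c180f01, 0, 12, 0x0, []⟩]

theorem t9_837_13 : jobs 8 S9 b8_837 j9_837_13 = true := by decide +kernel

noncomputable def j9_837_14 : List Job := [
  ⟨18, 0x4381f0d864281709844180f05824080701, 0, 20, 0x1210001410001610001810001a08001c18001e08002019002601002801, []⟩]

theorem t9_837_14 : jobs 8 S9 b8_837 j9_837_14 = true := by decide +kernel

noncomputable def j9_837_15 : List Job := [
  ⟨17, 0x4381f0d864281709844180f05824080701, 0, 14, 0xe1a00100800121a001a01001c01, []⟩]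

theorem t9_837_15 : jobs 8 S9 b8_837 j9_837_15 = true := by decide +kernel

noncomputable def j9_837_16 : List Job := [
  ⟨16, 0x4381f0d864281709844180f05824080701, 0, 14, 0x210000411000610, []⟩]

theorem t9_837_16 : jobs 8 S9 b8_837 j9_837_16 = true := by decide +kernel

noncomputable def j9_837_17 : List Job := [
  ⟨15, 0x4361909844160901, 0, 10, 0x0, []⟩]

theorem t9_837_17 : jobs 8 S9 b8_837 j9_837_17 = true := by decide +kernel

noncomputable def j9_837_18 : List Job := [
  ⟨14, 0x4361909844160901, 0, 10, 0x1200001401, [(8, ⟨3001, 0x58816f0048006400700090208040408001, 0x1b13708828050103c02⟩)]⟩]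

theorem t9_837_18 : jobs 8 S9 b8_837 j9_837_18 = true := by decide +kernel

noncomputable def j9_837_19 : List Job := [
  ⟨13, 0x4361909844160901, 0, 14, 0x801000a00, [(4, ⟨3000, 0x43804b0258004000101080208000400001, 0x18a2609820040102002⟩)]⟩]

theorem t9_837_19 : jobs 8 S9 b8_837 j9_837_19 = true := by decide +kernel

noncomputable def j9_837_20 : List Job := [
  ⟨12, 0x428170804c080701, 0, 12, 0x0, []⟩]

theorem t9_837_20 : jobs 8 S9 b8_837 j9_837_20 = true := by decide +kernel

noncomputable def j9_837_21 : List Job := [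
  ⟨11, 0x4361909844160901, 0, 6, 0x0, []⟩]

theorem t9_837_21 : jobs 8 S9 b8_837 j9_837_21 = true := by decide +kernel

noncomputable def j9_837_22 : List Job := [
  ⟨10, 0x4361909844160901, 0, 6, 0x0, []⟩]

theorem t9_837_22 : jobs 8 S9 b8_837 j9_837_22 = true := by decide +kernel

noncomputable def j9_837_23 : List Job := [
  ⟨9, 0x4361909844160901, 0, 18, 0xe01001001002201002401, []⟩]

theorem t9_837_23 : jobs 8 S9 b8_837 j9_837_23 = true := by decide +kernel

noncomputable def j9_837_24 : List Job := [
  ⟨8, 0x4361909844160901, 0, 12, 0xe01001001001200001400, [(9, ⟨2996, 0x4f01430048005400100080002001000001, 0x19d2408426040082004⟩), (8, ⟨2995, 0x4f00430048045408100080002001008001, 0x19d2408426040082004⟩)]⟩]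

theorem t9_837_24 : jobs 8 S9 b8_837 j9_837_24 = true := by decide +kernel

noncomputable def j9_837_25 : List Job := [
  ⟨7, 0x4180f05824080701, 0, 12, 0x0, []⟩]

theorem t9_837_25 : jobs 8 S9 b8_837 j9_837_25 = true := by decide +kernel

noncomputable def j9_837_26 : List Job := [
  ⟨6, 0x4381f0a05c160901, 0, 12, 0x0, []⟩]

theorem t9_837_26 : jobs 8 S9 b8_837 j9_837_26 = true := by decide +kernel

noncomputable def j9_837_27 : List Job := [
  ⟨5, 0x4381f0a05c160901, 0, 6, 0x0, []⟩]

theorem t9_837_27 : jobs 8 S9 b8_837 j9_837_27 = true := by decide +kernel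

noncomputable def j9_837_28 : List Job := [
  ⟨4, 0x4381f0a05c160901, 0, 6, 0x0, []⟩]

theorem t9_837_28 : jobs 8 S9 b8_837 j9_837_28 = true := by decide +kernel

noncomputable def j9_837_29 : List Job := [
  ⟨3, 0x4381f0d864281709844180f05824080701, 0, 20, 0x1608001801001a08001c08001e08002010002201002418002610002819, []⟩]

theorem t9_837_29 : jobs 8 S9 b8_837 j9_837_29 = true := by decide +kernel

noncomputable def j9_837_30 : List Job := [
  ⟨2, 0x4381f0d864281709844180f05824080701, 0, 16, 0x121a00161000181a, []⟩]

theorem t9_837_30 : jobs 8 S9 b8_837 j9_837_30 = true := by decide +kernel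

noncomputable def j9_837_31 : List Job := [
  ⟨1, 0x4381f0d864281709844180f05824080701, 0, 16, 0x208000609000808, []⟩]

theorem t9_837_31 : jobs 8 S9 b8_837 j9_837_31 = true := by decide +kernel

noncomputable def j9_837_32 : List Job := [
  ⟨0, 0x4361909844160901, 0, 10, 0x0, []⟩]

theorem t9_837_32 : jobs 8 S9 b8_837 j9_837_32 = true := by decide +kernel

theorem d9_837 : Dn 8 S9 b8_837 := dn_of (Js := j9_837_0 ++ (j9_837_1 ++ (j9_837_2 ++ (j9_837_3 ++ (j9_837_4 ++ (j9_837_5 ++ (j9_837_6 ++ (j9_837_7 ++ (j9_837_8 ++ (j9_837_9 ++ (j9_837_10 ++ (j9_837_11 ++ (j9_837_12 ++ (j9_837_13 ++ (j9_837_14 ++ (j9_837_15 ++ (j9_837_16 ++ (j9_837_17 ++ (j9_837_18 ++ (j9_837_19 ++ (j9_837_20 ++ (j9_837_21 ++ (j9_837_22 ++ (j9_837_23 ++ (j9_837_24 ++ (j9_837_25 ++ (j9_837_26 ++ (j9_837_27 ++ (j9_837_28 ++ (j9_837_29 ++ (j9_837_30 ++ (j9_837_31 ++ (j9_837_32 ++ [])))))))))))))))))))))))))))))))))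
  (jobs_append t9_837_0 <| jobs_append t9_837_1 <| jobs_append t9_837_2 <| jobs_append t9_837_3 <| jobs_append t9_837_4 <| jobs_append t9_837_5 <| jobs_append t9_837_6 <| jobs_append t9_837_7 <| jobs_append t9_837_8 <| jobs_append t9_837_9 <| jobs_append t9_837_10 <| jobs_append t9_837_11 <| jobs_append t9_837_12 <| jobs_append t9_837_13 <| jobs_append t9_837_14 <| jobs_append t9_837_15 <| jobs_append t9_837_16 <| jobs_append t9_837_17 <| jobs_append t9_837_18 <| jobs_append t9_837_19 <| jobs_append t9_837_20 <| jobs_append t9_837_21 <| jobs_append t9_837_22 <| jobs_append t9_837_23 <| jobs_append t9_837_24 <| jobs_append t9_837_25 <| jobs_append t9_837_26 <| jobs_append t9_837_27 <| jobs_append t9_837_28 <| jobs_append t9_837_29 <| jobs_append t9_837_30 <| jobs_append t9_837_31 <| jobs_append t9_837_32 <| List.forall_mem_nil _) (by decide +kernel)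

noncomputable def j9_838_0 : List Job := [
  ⟨63, 0x5008242219108a4623920924a259309a4e27c904a2613c80422211c4826140ac4022160bc180f05824080701, 0, 2, 0x201000401, []⟩]

theorem t9_838_0 : jobs 8 S9 b8_838 j9_838_0 = true := by decide +kernel

noncomputable def j9_838_1 : List Job := [
  ⟨62, 0x4904a2613c80422211c4826140ac4022160bc180f05824080701, 0, 2, 0x201000401, []⟩]

theorem t9_838_1 : jobs 8 S9 b8_838 j9_838_1 = true := by decide +kernel

noncomputable def j9_838_2 : List Job := [
  ⟨61, 0x584c465331a4d66d37d80c664339a0d46c37504864523924944d27500844423120964c27c904a2613c80422211c4826140ac4022160bc180f05824080701, 0, 13, 0x208000a08001601001801001a01, []⟩]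

theorem t9_838_2 : jobs 8 S9 b8_838 j9_838_2 = true := by decide +kernel

noncomputable def j9_838_3 : List Job := [
  ⟨56, 0x4984f2412c8e4521904180f0402c0e0501, 0, 8, 0x201000401000601000801000a01000c01000e01001001, []⟩]

theorem t9_838_3 : jobs 8 S9 b8_838 j9_838_3 = true := by decide +kernel

noncomputable def j9_838_4 : List Job := [
  ⟨55, 0x4984f2412c8e4521904180f0402c0e0501, 0, 4, 0x200000400000601000801, [(1, ⟨3080, 0x4401640040045808500070008000408001, 0x188310802a0f0101c02⟩), (0, ⟨3079, 0x4401640040045808500070008000408001, 0x188310802a0f0101c02⟩)]⟩]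

theorem t9_838_4 : jobs 8 S9 b8_838 j9_838_4 = true := by decide +kernel

noncomputable def j9_838_5 : List Job := [
  ⟨51, 0x4c866341acc062361bc984f2412c88472010c4826140ac4022160bc180f0402c0e0501, 0, 8, 0x200000601000801000a00000e01001001, [(4, ⟨3077, 0x5000440240004000401070008040408001, 0x1a02108020080101c02⟩), (0, ⟨3078, 0x4c80470044005c08681070208000400001, 0x1982209c280b0101c02⟩)]⟩]

theorem t9_838_5 : jobs 8 S9 b8_838 j9_838_5 = true := by decide +kernel

noncomputable def j9_838_6 : List Job := [
  ⟨50, 0x4c866341acc062361bc984f2412c8e45219044826140ac4022160bc180f0402c0e0501, 0, 20, 0x200000601000a00000e01001200001601001a01001c01001e01002001, [(8, ⟨3074, 0xa60160002300110008000601050001010001, 0x1a23309822080181c02⟩), (4, ⟨3076, 0xa60160002300110008010601050001010001, 0x1a23309822080181c02⟩), (0, ⟨3075, 0xa60160002300110008000601050001010001, 0x1a23309822080181c02⟩)]⟩]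

theorem t9_838_6 : jobs 8 S9 b8_838 j9_838_6 = true := by decide +kernel

noncomputable def j9_838_7 : List Job := [
  ⟨49, 0x4c866341acc062361bc984f2412c8e45219044826140ac4022160bc180f0402c0e0501, 0, 20, 0x200000a00000c01000e01001200001401001601001a00001e01002200002601, [(16, ⟨3070, 0xa70060002300110008010700040101010001, 0x1a23309822080101c02⟩), (12, ⟨3069, 0xa60161012201110108000700040101010001, 0x1a23309c22080101c02⟩), (8, ⟨3072, 0x8a004b01200016010f000601050001010001, 0x18d26080280d0181c02⟩), (4, ⟨3071, 0xa70160002300110108000701040001000001, 0x1a23309822080101c02⟩), (0, ⟨3073, 0x8a004b01200016000f000601050101000001, 0x18d26080280d0181c02⟩)]⟩]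

theorem t9_838_7 : jobs 8 S9 b8_838 j9_838_7 = true := by decide +kernel

noncomputable def j9_838_8 : List Job := [
  ⟨48, 0x5008242219108a4623920924a259309a4e27cd06a361bc88472010c502a160bc080701, 0, 32, 0x403000601000801000a01001403001601001801001a01001c03002403003403003c03, []⟩]

theorem t9_838_8 : jobs 8 S9 b8_838 j9_838_8 = true := by decide +kernel

noncomputable def j9_838_9 : List Job := [
  ⟨47, 0x4d06a361bc884721904502a160bc080701, 0, 24, 0xc03001403001c03002403002c03, []⟩]

theorem t9_838_9 : jobs 8 S9 b8_838 j9_838_9 = true := by decide +kernel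

noncomputable def j9_838_10 : List Job := [
  ⟨46, 0x580c26231990ca66339a0d26a359b0da6e37d008242219108a4623920924a259309a4e27cd06a361bc884721904502a160bc080701, 0, 24, 0x403000c03001403001c03002c03, []⟩]

theorem t9_838_10 : jobs 8 S9 b8_838 j9_838_10 = true := by decide +kernel

noncomputable def j9_838_11 : List Job := [
  ⟨45, 0x4d06a361bcc0623219c180f05824080701, 0, 12, 0x0, []⟩]

theorem t9_838_11 : jobs 8 S9 b8_838 j9_838_11 = true := by decide +kernel

noncomputable def j9_838_12 : List Job := [
  ⟨44, 0x580c26231990ca66339a0d26a359b0da6e37d008242219108a4623920924a259309a4e27cd06a361bcc0623219c180f05824080701, 0, 12, 0x0, []⟩]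

theorem t9_838_12 : jobs 8 S9 b8_838 j9_838_12 = true := by decide +kernel

noncomputable def j9_838_13 : List Job := [
  ⟨43, 0x504864523924944d27500844423120964c27cd06a361bcc0623219c180f05824080701, 0, 16, 0x601000801000a01000c01, []⟩]

theorem t9_838_13 : jobs 8 S9 b8_838 j9_838_13 = true := by decide +kernel

noncomputable def j9_838_14 : List Job := [
  ⟨42, 0x5008242219108a4623920924a259309a4e27c984f2412c88472010c180f05824080701, 0, 16, 0x601000801000a01000c01, []⟩]

theorem t9_838_14 : jobs 8 S9 b8_838 j9_838_14 = true := by decide +kernel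

noncomputable def j9_838_15 : List Job := [
  ⟨41, 0x4984f25924884721904180f05824080701, 0, 12, 0x0, []⟩]

theorem t9_838_15 : jobs 8 S9 b8_838 j9_838_15 = true := by decide +kernel

noncomputable def j9_838_16 : List Job := [
  ⟨40, 0x584c665339a4d46d37580c464331a0d66c37d04864523924944d27500844423120964c27c984f25924884721904180f05824080701, 0, 24, 0x201000401000601000801000a01000c01000e01001001001200001400001601001801, [(9, ⟨3067, 0xa60160012001110008010200060101010001, 0x1a23008022080301002⟩), (8, ⟨3068, 0xa60160012001110008010200060101010001, 0x1a23008022080301002⟩)]⟩]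

theorem t9_838_16 : jobs 8 S9 b8_838 j9_838_16 = true := by decide +kernel

noncomputable def j9_838_17 : List Job := [
  ⟨39, 0x5008242219108a4623920924a259309a4e27cc0623219c88472010c40221209c080701, 0, 32, 0x203000601000801000a03000c01000e01001203001601001801001c01002203002601002a03002e01003203, []⟩]

theorem t9_838_17 : jobs 8 S9 b8_838 j9_838_17 = true := by decide +kernel

noncomputable def j9_838_18 : List Job := [
  ⟨38, 0x4c0623219c88472190440221209c080701, 0, 24, 0x203000601000a03000e01001202001a03002203002601002a03, []⟩]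

theorem t9_838_18 : jobs 8 S9 b8_838 j9_838_18 = true := by decide +kernel

noncomputable def j9_838_19 : List Job := [
  ⟨37, 0x580c26231990ca66339a0d26a359b0da6e37d008242219108a4623920924a259309a4e27cc0623219c88472190440221209c080701, 0, 24, 0x203000601000a03000e01001203001a03002203002601, []⟩]

theorem t9_838_19 : jobs 8 S9 b8_838 j9_838_19 = true := by decide +kernel

noncomputable def j9_838_20 : List Job := [
  ⟨36, 0x4502a160bc40221209c180f05824080701, 0, 12, 0x601000e01001601, []⟩]

theorem t9_838_20 : jobs 8 S9 b8_838 j9_838_20 = true := by decide +kernel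

noncomputable def j9_838_21 : List Job := [
  ⟨35, 0x580c26231990ca66339a0d26a359b0da6e37d008242219108a4623920924a259309a4e27c502a160bc40221209c180f05824080701, 0, 12, 0x601000e01001601, []⟩]

theorem t9_838_21 : jobs 8 S9 b8_838 j9_838_21 = true := by decide +kernel

noncomputable def j9_838_22 : List Job := [
  ⟨34, 0x504864523924944d27500844423120964c27c502a160bc40221209c180f05824080701, 0, 16, 0x601000801000a01000c01000e01001601001e01, []⟩]

theorem t9_838_22 : jobs 8 S9 b8_838 j9_838_22 = true := by decide +kernel

noncomputable def j9_838_23 : List Job := [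
  ⟨33, 0x5008242219108a4623920924a259309a4e27cd06a361bcc0623219c984f2412c88472010c502a160bc40221209c180f05824080701, 0, 28, 0x200000601000a00000e01001201001601001a01002201002a01003201, [(4, ⟨3066, 0xa8004600240012010c000201060001000001, 0x1ae21098280e0301002⟩), (0, ⟨3065, 0xa8004600240012010c000201060001000001, 0x1ae21098280e0301002⟩)]⟩]

theorem t9_838_23 : jobs 8 S9 b8_838 j9_838_23 = true := by decide +kernel

noncomputable def j9_838_24 : List Job := [
  ⟨32, 0x4d06a361bcc0623219c984f25924884721904502a160bc40221209c180f05824080701, 0, 24, 0x201000401000601000801000a00000e01001001001200001601001801001a01002201002a01002c01002e01003001, [(8, ⟨3064, 0x850043012000100009010200060101000001, 0x1872288020090301002⟩), (4, ⟨3063, 0xac016c01250012010a000300070001010001, 0x1aa3509c2a0d0301402⟩)]⟩]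

theorem t9_838_24 : jobs 8 S9 b8_838 j9_838_24 = true := by decide +kernel

noncomputable def j9_838_25 : List Job := [
  ⟨31, 0x584c665339a4d46d37580c464331a0d66c37d04864523924944d27500844423120964c27cd06a361bcc0623219c984f25924884721904502a160bc40221209c180f05824080701, 0, 50, 0x200000a01000e01001201001601001a01001e00002201002600002a01002e00003201003600003a01003e00004201004e01005001005601005a01005c01005e01, [(30, ⟨3059, 0x158006c00128004802140103000380004020001, 0x1aa3509c2a0d0301402⟩), (26, ⟨3060, 0x11c004e00100004c00160003008380404020001, 0x18924880280c0301402⟩), (22, ⟨3058, 0x158006c00128004802140103000380004020001, 0x1aa3509c2a0d0301402⟩), (18, ⟨3062, 0x158006d00928044802140103000380404020001, 0x1aa3589c2a0d0301402⟩), (14, ⟨3061, 0x15a006c00920004800140003000380404020001, 0x1aa358982a0d0301402⟩), (0, ⟨3057, 0x132016400100004c021e0002008300004000001, 0x198330802a0b0301002⟩)]⟩]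

theorem t9_838_25 : jobs 8 S9 b8_838 j9_838_25 = true := by decide +kernel

noncomputable def j9_838_26 : List Job := [
  ⟨30, 0x5008242219108a4623920924a259309a4e27cd46f341b488472010c502a160bc0e0501, 0, 16, 0x202000402000603000803000a02000c03000e02001002001202001a02, []⟩]

theorem t9_838_26 : jobs 8 S9 b8_838 j9_838_26 = true := by decide +kernel

noncomputable def j9_838_27 : List Job := [
  ⟨29, 0x5008242219108a4623920924a259309a4e27cd06a361bc88472010c502a160bc0e0501, 0, 16, 0x402000603000803000a02000c03000e02001002001a02, []⟩]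

theorem t9_838_27 : jobs 8 S9 b8_838 j9_838_27 = true := by decide +kernel

noncomputable def j9_838_28 : List Job := [
  ⟨28, 0x4d46d341bc88472010c502a160bc0e0501, 0, 12, 0x202000a02001202, []⟩]

theorem t9_838_28 : jobs 8 S9 b8_838 j9_838_28 = true := by decide +kernel

noncomputable def j9_838_29 : List Job := [
  ⟨27, 0x580c26231990ca66339a0d26a359b0da6e37d008242219108a4623920924a259309a4e27cd46d341bc88472010c502a160bc0e0501, 0, 12, 0x202000a02001202, []⟩]

theorem t9_838_29 : jobs 8 S9 b8_838 j9_838_29 = true := by decide +kernel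

noncomputable def j9_838_30 : List Job := [
  ⟨26, 0x4d06a361bc8e4521904502a160bc0e0501, 0, 12, 0x202000a02001203, []⟩]

theorem t9_838_30 : jobs 8 S9 b8_838 j9_838_30 = true := by decide +kernel

noncomputable def j9_838_31 : List Job := [
  ⟨25, 0x580c26231990ca66339a0d26a359b0da6e37d008242219108a4623920924a259309a4e27cd06a361bc8e4521904502a160bc0e0501, 0, 12, 0x202000a02, []⟩]

theorem t9_838_31 : jobs 8 S9 b8_838 j9_838_31 = true := by decide +kernel

noncomputable def j9_838_32 : List Job := [
  ⟨24, 0x5008242219108a4623920924a259309a4e27cc0623219c88472010c4427100940e0501, 0, 16, 0x402000603000803000a02000c03000e02001002001601001a02001e01, []⟩]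

theorem t9_838_32 : jobs 8 S9 b8_838 j9_838_32 = true := by decide +kernel

noncomputable def j9_838_33 : List Job := [
  ⟨23, 0x5008242219108a4623920924a259309a4e27cc4653019c88472010c4427100940e0501, 0, 16, 0x202000402000603000803000a02000c03000e02001002001202001a02, []⟩]

theorem t9_838_33 : jobs 8 S9 b8_838 j9_838_33 = true := by decide +kernel

noncomputable def j9_838_34 : List Job := [
  ⟨22, 0x4c0623219c88472010c4427100940e0501, 0, 12, 0x202000601000a02000e01001203001601, []⟩]

theorem t9_838_34 : jobs 8 S9 b8_838 j9_838_34 = true := by decide +kernel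

noncomputable def j9_838_35 : List Job := [
  ⟨21, 0x580c26231990ca66339a0d26a359b0da6e37d008242219108a4623920924a259309a4e27cc0623219c88472010c4427100940e0501, 0, 12, 0x202000601000a02000e01001601, []⟩]

theorem t9_838_35 : jobs 8 S9 b8_838 j9_838_35 = true := by decide +kernel

noncomputable def j9_838_36 : List Job := [
  ⟨20, 0x4c467301948e45219044427100940e0501, 0, 12, 0x202000a02001202, []⟩]

theorem t9_838_36 : jobs 8 S9 b8_838 j9_838_36 = true := by decide +kernel

noncomputable def j9_838_37 : List Job := [
  ⟨19, 0x580c26231990ca66339a0d26a359b0da6e37d008242219108a4623920924a259309a4e27cc467301948e45219044427100940e0501, 0, 30, 0x202000a02001202, []⟩]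

theorem t9_838_37 : jobs 8 S9 b8_838 j9_838_37 = true := by decide +kernel

noncomputable def j9_838_38 : List Job := [
  ⟨15, 0x580c26231990ca66339a0d26a359b0da6e37d008242219108a4623920924a259309a4e27ccc71321cc2e1501, 0, 3, 0x201, []⟩]

theorem t9_838_38 : jobs 8 S9 b8_838 j9_838_38 = true := by decide +kernel

noncomputable def j9_838_39 : List Job := [
  ⟨9, 0x580c26231990ca66339a0d26a359b0da6e37d008242219108a4623920924a259309a4e27ccc73321c42e1501, 0, 12, 0x0, []⟩]

theorem t9_838_39 : jobs 8 S9 b8_838 j9_838_39 = true := by decide +kernel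

theorem d9_838 : Dn 8 S9 b8_838 := dn_of (Js := j9_838_0 ++ (j9_838_1 ++ (j9_838_2 ++ (j9_838_3 ++ (j9_838_4 ++ (j9_838_5 ++ (j9_838_6 ++ (j9_838_7 ++ (j9_838_8 ++ (j9_838_9 ++ (j9_838_10 ++ (j9_838_11 ++ (j9_838_12 ++ (j9_838_13 ++ (j9_838_14 ++ (j9_838_15 ++ (j9_838_16 ++ (j9_838_17 ++ (j9_838_18 ++ (j9_838_19 ++ (j9_838_20 ++ (j9_838_21 ++ (j9_838_22 ++ (j9_838_23 ++ (j9_838_24 ++ (j9_838_25 ++ (j9_838_26 ++ (j9_838_27 ++ (j9_838_28 ++ (j9_838_29 ++ (j9_838_30 ++ (j9_838_31 ++ (j9_838_32 ++ (j9_838_33 ++ (j9_838_34 ++ (j9_838_35 ++ (j9_838_36 ++ (j9_838_37 ++ (j9_838_38 ++ (j9_838_39 ++ []))))))))))))))))))))))))))))))))))))))))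
  (jobs_append t9_838_0 <| jobs_append t9_838_1 <| jobs_append t9_838_2 <| jobs_append t9_838_3 <| jobs_append t9_838_4 <| jobs_append t9_838_5 <| jobs_append t9_838_6 <| jobs_append t9_838_7 <| jobs_append t9_838_8 <| jobs_append t9_838_9 <| jobs_append t9_838_10 <| jobs_append t9_838_11 <| jobs_append t9_838_12 <| jobs_append t9_838_13 <| jobs_append t9_838_14 <| jobs_append t9_838_15 <| jobs_append t9_838_16 <| jobs_append t9_838_17 <| jobs_append t9_838_18 <| jobs_append t9_838_19 <| jobs_append t9_838_20 <| jobs_append t9_838_21 <| jobs_append t9_838_22 <| jobs_append t9_838_23 <| jobs_append t9_838_24 <| jobs_append t9_838_25 <| jobs_append t9_838_26 <| jobs_append t9_838_27 <| jobs_append t9_838_28 <| jobs_append t9_838_29 <| jobs_append t9_838_30 <| jobs_append t9_838_31 <| jobs_append t9_838_32 <| jobs_append t9_838_33 <| jobs_append t9_838_34 <| jobs_append t9_838_35 <| jobs_append t9_838_36 <| jobs_append t9_838_37 <| jobs_append t9_838_38 <| jobs_append t9_838_39 <| List.forall_mem_nil _) (by decide +kernel)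

noncomputable def j9_839_0 : List Job := [
  ⟨60, 0x580c26231990ca66339a0d26a359b0da6e37d008242219108a4623920924a259309a4e27c442f100b41e0d01, 0, 12, 0x0, []⟩]

theorem t9_839_0 : jobs 8 S9 b8_839 j9_839_0 = true := by decide +kernel

noncomputable def j9_839_1 : List Job := [
  ⟨58, 0x580c26231990ca66339a0d26a359b0da6e37d008242219108a4623920924a259309a4e27c442f100b41e0d01, 0, 3, 0x201, []⟩]

theorem t9_839_1 : jobs 8 S9 b8_839 j9_839_1 = true := by decide +kernel

noncomputable def j9_839_2 : List Job := [
  ⟨45, 0x504864523924944d27500844423120964c27cc06232198d06a361bc904a2613c80422211c180f05824080701, 0, 8, 0x208000409000a08000c09, []⟩]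

theorem t9_839_2 : jobs 8 S9 b8_839 j9_839_2 = true := by decide +kernel

noncomputable def j9_839_3 : List Job := [
  ⟨41, 0x504864523924944d27500844423120964c27cc06232198d06a361bc4826140ac4022160bc180f05824080701, 0, 8, 0x201000a08, []⟩]

theorem t9_839_3 : jobs 8 S9 b8_839 j9_839_3 = true := by decide +kernel

noncomputable def j9_839_4 : List Job := [
  ⟨40, 0x4904a2613c80422211c4826140ac4022160bc180f05824080701, 0, 8, 0x20a00040b000601000a0a000c0b000e01, []⟩]

theorem t9_839_4 : jobs 8 S9 b8_839 j9_839_4 = true := by decide +kernel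

noncomputable def j9_839_5 : List Job := [
  ⟨39, 0x5008242219108a4623920924a259309a4e27c904a2613c80422211c4826140ac4022160bc180f05824080701, 0, 8, 0x20a00040b000601000a0a000c0b, []⟩]

theorem t9_839_5 : jobs 8 S9 b8_839 j9_839_5 = true := by decide +kernel

noncomputable def j9_839_6 : List Job := [
  ⟨38, 0x4904a2613c80422211c4826140ac4022160bc180f05824080701, 0, 8, 0x20a00040b000601000a0a000c0b000e01, []⟩]

theorem t9_839_6 : jobs 8 S9 b8_839 j9_839_6 = true := by decide +kernel

noncomputable def j9_839_7 : List Job := [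
  ⟨37, 0x504864523924944d27500844423120964c27c904a2613c80422211c4826140ac4022160bc180f05824080701, 0, 20, 0x20a00040b000a0a000c0b00120a00140b001a0a001c0b002601002801, []⟩]

theorem t9_839_7 : jobs 8 S9 b8_839 j9_839_7 = true := by decide +kernel

noncomputable def j9_839_8 : List Job := [
  ⟨33, 0x504864523924944d27500844423120964c27cc866361bcc46b301a4180f05824080701, 0, 8, 0x201000401000601000801000a01000c01000e01001001, []⟩]

theorem t9_839_8 : jobs 8 S9 b8_839 j9_839_8 = true := by decide +kernel

noncomputable def j9_839_9 : List Job := [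
  ⟨29, 0x504864523924944d27500844423120964c27c904a2613c80422211c180f05824080701, 0, 4, 0x201000401000600000800, [(3, ⟨3095, 0x4f0048004c005c00400070006000408001, 0x19f2709428080300c02⟩), (2, ⟨3094, 0x4f0048004c005c08400070006000408001, 0x19f2709428080300c02⟩)]⟩]

theorem t9_839_9 : jobs 8 S9 b8_839 j9_839_9 = true := by decide +kernel

noncomputable def j9_839_10 : List Job := [
  ⟨25, 0x504864523924944d27500844423120964c27c4826140ac4022160bc180f05824080701, 0, 4, 0x201000401000601000801, []⟩]

theorem t9_839_10 : jobs 8 S9 b8_839 j9_839_10 = true := by decide +kernel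

noncomputable def j9_839_11 : List Job := [
  ⟨24, 0x4c866361bcc469301ac904a2613c80422211c4826140ac4022160bc180f05824080701, 0, 8, 0x200000401000601000a00000c01000e01, [(4, ⟨3093, 0x41014e0248004408500060204000408001, 0x18224098220a0300802⟩), (0, ⟨3092, 0x41014e0248004408500060204000408001, 0x18224098220a0300802⟩)]⟩]

theorem t9_839_11 : jobs 8 S9 b8_839 j9_839_11 = true := by decide +kernel

noncomputable def j9_839_12 : List Job := [
  ⟨23, 0x5008242219108a4623920924a259309a4e27cc866361bcc469301ac904a2613c80422211c4826140ac4022160bc180f05824080701, 0, 16, 0x200000601000a00000e01001200001601001a00001e01, [(12, ⟨3091, 0x5381490042004400480060204000400001, 0x1a42708422090300802⟩), (8, ⟨3089, 0x5381490242004400481060204000400001, 0x1a42708422090300802⟩), (4, ⟨3090, 0x5381490042004400480060204000400001, 0x1a42708422090300802⟩), (0, ⟨3088, 0x5381490242004400481060204000400001, 0x1a42708422090300802⟩)]⟩]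

theorem t9_839_12 : jobs 8 S9 b8_839 j9_839_12 = true := by decide +kernel

noncomputable def j9_839_13 : List Job := [
  ⟨22, 0x4c866361bcc46b301a4904a2613c80422211c4826140ac4022160bc180f05824080701, 0, 8, 0x200000601000a00000e01, [(4, ⟨3086, 0x5300480042044400401070206000408001, 0x1a42708422080300c02⟩), (0, ⟨3087, 0x5e014f0244005808581070206040400001, 0x1bc2408c2a0a0300c02⟩)]⟩]

theorem t9_839_13 : jobs 8 S9 b8_839 j9_839_13 = true := by decide +kernel

noncomputable def j9_839_14 : List Job := [
  ⟨21, 0x504864523924944d27500844423120964c27cc866361bcc46b301a4904a2613c80422211c4826140ac4022160bc180f05824080701, 0, 20, 0x200000a00000e01001200001601001a00001c01001e01002200002601, [(16, ⟨3082, 0xb90143012201160009000601020001000001, 0x1b82188828090300802⟩), (12, ⟨3081, 0xb90143012201160009000601020001000001, 0x1b82188828090300802⟩), (8, ⟨3085, 0xa70148002000110008000701030001010001, 0x1a42708022080300c02⟩), (4, ⟨3084, 0xa60048002101110108000701030001010001, 0x1a42708422080300c02⟩), (0, ⟨3083, 0xa70048012000110108010700030001010001, 0x1a42708022080300c02⟩)]⟩]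

theorem t9_839_14 : jobs 8 S9 b8_839 j9_839_14 = true := by decide +kernel

noncomputable def j9_839_15 : List Job := [
  ⟨17, 0x4c06232198d06a361bc88462613c80422412c180f0402c0e0501, 0, 8, 0x204000404000a04000c04, []⟩]

theorem t9_839_15 : jobs 8 S9 b8_839 j9_839_15 = true := by decide +kernel

noncomputable def j9_839_16 : List Job := [
  ⟨14, 0x4c06232198d06a361bc4826140ac4022160bc180f0402c0e0501, 0, 8, 0x201000601000801000a01000e01001001, []⟩]

theorem t9_839_16 : jobs 8 S9 b8_839 j9_839_16 = true := by decide +kernel

noncomputable def j9_839_17 : List Job := [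
  ⟨13, 0x4c06232198d06a361bc4826140ac4022160bc180f0402c0e0501, 0, 12, 0x201000a01001201, []⟩]

theorem t9_839_17 : jobs 8 S9 b8_839 j9_839_17 = true := by decide +kernel

noncomputable def j9_839_18 : List Job := [
  ⟨12, 0x4c06232198d06a361bc4826140ac4022160bc180f0402c0e0501, 0, 8, 0x201000401000a01000c01, []⟩]

theorem t9_839_18 : jobs 8 S9 b8_839 j9_839_18 = true := by decide +kernel

noncomputable def j9_839_19 : List Job := [
  ⟨11, 0x488462613c80422412c4826140ac4022160bc180f0402c0e0501, 0, 2, 0x0, []⟩]

theorem t9_839_19 : jobs 8 S9 b8_839 j9_839_19 = true := by decide +kernel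

noncomputable def j9_839_20 : List Job := [
  ⟨10, 0x488462613c80422412c4826140ac4022160bc180f0402c0e0501, 0, 8, 0x204000404000a04000c04, []⟩]

theorem t9_839_20 : jobs 8 S9 b8_839 j9_839_20 = true := by decide +kernel

noncomputable def j9_839_21 : List Job := [
  ⟨3, 0x584c465331a4d66d37d80c664339a0d46c37504864523924944d27500844423120964c27cc06232198d06a361bc904a2613c80422211c180f05824080701, 0, 8, 0x201000a08, []⟩]

theorem t9_839_21 : jobs 8 S9 b8_839 j9_839_21 = true := by decide +kernel

noncomputable def j9_839_22 : List Job := [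
  ⟨2, 0x4c06232198d06a361bc4826140ac4022160bc180f05824080701, 0, 8, 0x201000401000a01000c01, []⟩]

theorem t9_839_22 : jobs 8 S9 b8_839 j9_839_22 = true := by decide +kernel

noncomputable def j9_839_23 : List Job := [
  ⟨1, 0x580c26231990ca66339a0d26a359b0da6e37d008242219108a4623920924a259309a4e27cc06232198d06a361bc4826140ac4022160bc180f05824080701, 0, 12, 0x201, []⟩]

theorem t9_839_23 : jobs 8 S9 b8_839 j9_839_23 = true := by decide +kernel

noncomputable def j9_839_24 : List Job := [
  ⟨0, 0x504864523924944d27500844423120964c27cc06232198d06a361bc4826140ac4022160bc180f05824080701, 0, 8, 0x201000601000801, []⟩]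

theorem t9_839_24 : jobs 8 S9 b8_839 j9_839_24 = true := by decide +kernel

theorem d9_839 : Dn 8 S9 b8_839 := dn_of (Js := j9_839_0 ++ (j9_839_1 ++ (j9_839_2 ++ (j9_839_3 ++ (j9_839_4 ++ (j9_839_5 ++ (j9_839_6 ++ (j9_839_7 ++ (j9_839_8 ++ (j9_839_9 ++ (j9_839_10 ++ (j9_839_11 ++ (j9_839_12 ++ (j9_839_13 ++ (j9_839_14 ++ (j9_839_15 ++ (j9_839_16 ++ (j9_839_17 ++ (j9_839_18 ++ (j9_839_19 ++ (j9_839_20 ++ (j9_839_21 ++ (j9_839_22 ++ (j9_839_23 ++ (j9_839_24 ++ [])))))))))))))))))))))))))
  (jobs_append t9_839_0 <| jobs_append t9_839_1 <| jobs_append t9_839_2 <| jobs_append t9_839_3 <| jobs_append t9_839_4 <| jobs_append t9_839_5 <| jobs_append t9_839_6 <| jobs_append t9_839_7 <| jobs_append t9_839_8 <| jobs_append t9_839_9 <| jobs_append t9_839_10 <| jobs_append t9_839_11 <| jobs_append t9_839_12 <| jobs_append t9_839_13 <| jobs_append t9_839_14 <| jobs_append t9_839_15 <| jobs_append t9_839_16 <| jobs_append t9_839_17 <| jobs_append t9_839_18 <| jobs_append t9_839_19 <| jobs_append t9_839_20 <| jobs_append t9_839_21 <| jobs_append t9_839_22 <|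 jobs_append t9_839_23 <| jobs_append t9_839_24 <| List.forall_mem_nil _) (by decide +kernel)

noncomputable def j9_840_0 : List Job := [
  ⟨63, 0x5008242219108a4623920924a259309a4e27cc0623219c80422211c502a160bc080701, 0, 32, 0x402000602001c02001e02002402002602003c02003e02, []⟩]

theorem t9_840_0 : jobs 8 S9 b8_840 j9_840_0 = true := by decide +kernel

noncomputable def j9_840_1 : List Job := [
  ⟨62, 0x4c0623219c80422211c502a160bc080701, 0, 24, 0xc02000e02001402001602002602002c02, []⟩]

theorem t9_840_1 : jobs 8 S9 b8_840 j9_840_1 = true := by decide +kernel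

noncomputable def j9_840_2 : List Job := [
  ⟨61, 0x580c26231990ca66339a0d26a359b0da6e37d008242219108a4623920924a259309a4e27cc0623219c80422211c502a160bc080701, 0, 24, 0xc02000e02001402001602002602002c02, []⟩]

theorem t9_840_2 : jobs 8 S9 b8_840 j9_840_2 = true := by decide +kernel

noncomputable def j9_840_3 : List Job := [
  ⟨60, 0x4180f05824080701, 0, 12, 0x0, []⟩]

theorem t9_840_3 : jobs 8 S9 b8_840 j9_840_3 = true := by decide +kernel

noncomputable def j9_840_4 : List Job := [
  ⟨59, 0x580c26231990ca66339a0d26a359b0da6e37d008242219108a4623920924a259309a4e27c180f05824080701, 0, 12, 0x0, []⟩]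

theorem t9_840_4 : jobs 8 S9 b8_840 j9_840_4 = true := by decide +kernel

noncomputable def j9_840_5 : List Job := [
  ⟨58, 0x504864523924944d27500844423120964c27c180f05824080701, 0, 16, 0x0, []⟩]

theorem t9_840_5 : jobs 8 S9 b8_840 j9_840_5 = true := by decide +kernel

noncomputable def j9_840_6 : List Job := [
  ⟨57, 0x5008242219108a4623920924a259309a4e27cd06a361bcc0623219c904a2613c80422211c180f05824080701, 0, 16, 0x0, []⟩]

theorem t9_840_6 : jobs 8 S9 b8_840 j9_840_6 = true := by decide +kernel

noncomputable def j9_840_7 : List Job := [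
  ⟨56, 0x4d06a361bcc0623219c904a2613c80422211c180f05824080701, 0, 12, 0x0, []⟩]

theorem t9_840_7 : jobs 8 S9 b8_840 j9_840_7 = true := by decide +kernel

noncomputable def j9_840_8 : List Job := [
  ⟨55, 0x584c465331a4d66d37d80c664339a0d46c37504864523924944d27500844423120964c27cd06a361bcc0623219c904a2613c80422211c180f05824080701, 0, 24, 0x208000809000a08001009, []⟩]

theorem t9_840_8 : jobs 8 S9 b8_840 j9_840_8 = true := by decide +kernel

noncomputable def j9_840_9 : List Job := [
  ⟨54, 0x5008242219108a4623920924a259309a4e27cd06a361bc80422211c502a160bc0e0501, 0, 16, 0x0, []⟩]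

theorem t9_840_9 : jobs 8 S9 b8_840 j9_840_9 = true := by decide +kernel

noncomputable def j9_840_10 : List Job := [
  ⟨53, 0x5008242219108a4623920924a259309a4e27cd46d341bc80422211c502a160bc0e0501, 0, 16, 0x402000602000c02000e02001402001602001c02001e02, []⟩]

theorem t9_840_10 : jobs 8 S9 b8_840 j9_840_10 = true := by decide +kernel

noncomputable def j9_840_11 : List Job := [
  ⟨52, 0x4d46d341bc844720114502a160bc0e0501, 0, 12, 0x402000602000c02000e02001402001602, []⟩]

theorem t9_840_11 : jobs 8 S9 b8_840 j9_840_11 = true := by decide +kernel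

noncomputable def j9_840_12 : List Job := [
  ⟨51, 0x580c26231990ca66339a0d26a359b0da6e37d008242219108a4623920924a259309a4e27cd46d341bc844720114502a160bc0e0501, 0, 12, 0x402000602000c02000e02001402001602, []⟩]

theorem t9_840_12 : jobs 8 S9 b8_840 j9_840_12 = true := by decide +kernel

noncomputable def j9_840_13 : List Job := [
  ⟨50, 0x4d06a361bc844720114502a160bc0e0501, 0, 12, 0x0, []⟩]

theorem t9_840_13 : jobs 8 S9 b8_840 j9_840_13 = true := by decide +kernel

noncomputable def j9_840_14 : List Job := [
  ⟨49, 0x580c26231990ca66339a0d26a359b0da6e37d008242219108a4623920924a259309a4e27cd06a361bc844720114502a160bc0e0501, 0, 12, 0x0, []⟩]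

theorem t9_840_14 : jobs 8 S9 b8_840 j9_840_14 = true := by decide +kernel

noncomputable def j9_840_15 : List Job := [
  ⟨48, 0x5008242219108a4623920924a259309a4e27cd06a361bc80422211c40221209c080701, 0, 32, 0xc03000e03001403001603002c03002e03003403003603, []⟩]

theorem t9_840_15 : jobs 8 S9 b8_840 j9_840_15 = true := by decide +kernel

noncomputable def j9_840_16 : List Job := [
  ⟨47, 0x4d06a361bc80422211c40221209c080701, 0, 24, 0xc03000e03001403001603002603002c03, []⟩]

theorem t9_840_16 : jobs 8 S9 b8_840 j9_840_16 = true := by decide +kernel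

noncomputable def j9_840_17 : List Job := [
  ⟨46, 0x580c26231990ca66339a0d26a359b0da6e37d008242219108a4623920924a259309a4e27cd06a361bc80422211c40221209c080701, 0, 24, 0xc03000e03001403001603002603002c03, []⟩]

theorem t9_840_17 : jobs 8 S9 b8_840 j9_840_17 = true := by decide +kernel

noncomputable def j9_840_18 : List Job := [
  ⟨45, 0x4d06a361bcc0623219c502a160bc40221209c180f05824080701, 0, 24, 0x220b00240b00260a002801002a0b002c0b002e0a003001, []⟩]

theorem t9_840_18 : jobs 8 S9 b8_840 j9_840_18 = true := by decide +kernel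

noncomputable def j9_840_19 : List Job := [
  ⟨44, 0x580c26231990ca66339a0d26a359b0da6e37d008242219108a4623920924a259309a4e27cd06a361bcc0623219c502a160bc40221209c180f05824080701, 0, 30, 0x20b00060a00080a000a0b000e0a00100a00120b00160a00180a, []⟩]

theorem t9_840_19 : jobs 8 S9 b8_840 j9_840_19 = true := by decide +kernel

noncomputable def j9_840_20 : List Job := [
  ⟨43, 0x504864523924944d27500844423120964c27cd06a361bcc0623219c502a160bc40221209c180f05824080701, 0, 28, 0x20b00060b00080a000a0b000e0b00100a001201001401, []⟩]

theorem t9_840_20 : jobs 8 S9 b8_840 j9_840_20 = true := by decide +kernel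

noncomputable def j9_840_21 : List Job := [
  ⟨42, 0x5008242219108a4623920924a259309a4e27c904a2613c80422211c502a160bc40221209c180f05824080701, 0, 16, 0x0, []⟩]

theorem t9_840_21 : jobs 8 S9 b8_840 j9_840_21 = true := by decide +kernel

noncomputable def j9_840_22 : List Job := [
  ⟨41, 0x4904a2613c80422211c502a160bc40221209c180f05824080701, 0, 12, 0x0, []⟩]

theorem t9_840_22 : jobs 8 S9 b8_840 j9_840_22 = true := by decide +kernel

noncomputable def j9_840_23 : List Job := [
  ⟨40, 0x584c465331a4d66d37d80c664339a0d46c37504864523924944d27500844423120964c27c904a2613c80422211c502a160bc40221209c180f05824080701, 0, 24, 0x208000609000a08000e09, []⟩]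

theorem t9_840_23 : jobs 8 S9 b8_840 j9_840_23 = true := by decide +kernel

noncomputable def j9_840_24 : List Job := [
  ⟨39, 0x5008242219108a4623920924a259309a4e27cc0623219c80422211c4427100940e0501, 0, 16, 0x202000602000a02000e02001202001602001a02001e02, []⟩]

theorem t9_840_24 : jobs 8 S9 b8_840 j9_840_24 = true := by decide +kernel

noncomputable def j9_840_25 : List Job := [
  ⟨38, 0x5008242219108a4623920924a259309a4e27cc4673019480422211c44251009c0e0501, 0, 16, 0x402000602000c02000e02001402001602001c02001e02, []⟩]

theorem t9_840_25 : jobs 8 S9 b8_840 j9_840_25 = true := by decide +kernel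

noncomputable def j9_840_26 : List Job := [
  ⟨37, 0x4c467301948447201144427100940e0501, 0, 12, 0x202000402000602000a02000c02000e02001202001402001602, []⟩]

theorem t9_840_26 : jobs 8 S9 b8_840 j9_840_26 = true := by decide +kernel

noncomputable def j9_840_27 : List Job := [
  ⟨36, 0x580c26231990ca66339a0d26a359b0da6e37d008242219108a4623920924a259309a4e27cc467301948447201144427100940e0501, 0, 30, 0x202000402000602000a02000c02000e02001202001402001602, []⟩]

theorem t9_840_27 : jobs 8 S9 b8_840 j9_840_27 = true := by decide +kernel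

noncomputable def j9_840_28 : List Job := [
  ⟨35, 0x4c0623219c84472011444251009c0e0501, 0, 12, 0x0, []⟩]

theorem t9_840_28 : jobs 8 S9 b8_840 j9_840_28 = true := by decide +kernel

noncomputable def j9_840_29 : List Job := [
  ⟨34, 0x580c26231990ca66339a0d26a359b0da6e37d008242219108a4623920924a259309a4e27cc0623219c84472011444251009c0e0501, 0, 12, 0x0, []⟩]

theorem t9_840_29 : jobs 8 S9 b8_840 j9_840_29 = true := by decide +kernel

noncomputable def j9_840_30 : List Job := [
  ⟨30, 0x580c26231990ca66339a0d26a359b0da6e37d008242219108a4623920924a259309a4e27ccc71321cc2e1501, 0, 3, 0x401, []⟩]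

theorem t9_840_30 : jobs 8 S9 b8_840 j9_840_30 = true := by decide +kernel

noncomputable def j9_840_31 : List Job := [
  ⟨26, 0x580c26231990ca66339a0d26a359b0da6e37d008242219108a4623920924a259309a4e27ccc73321c42e1501, 0, 12, 0x0, []⟩]

theorem t9_840_31 : jobs 8 S9 b8_840 j9_840_31 = true := by decide +kernel

noncomputable def j9_840_32 : List Job := [
  ⟨18, 0x590ca66339a0d26a35d80c262319b0da6e37d20924a259309a4e27d008242219108a4623c84552015c2e1501, 0, 2, 0x201000401, []⟩]

theorem t9_840_32 : jobs 8 S9 b8_840 j9_840_32 = true := by decide +kernel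

noncomputable def j9_840_33 : List Job := [
  ⟨16, 0x590ca66339a0d26a35d80c262319b0da6e37d20924a259309a4e27d008242219108a4623c8457201542e1501, 0, 3, 0x200000401, [(0, ⟨3097, 0x5e814b0054004000281020010000408001, 0x1bb2389820020481002⟩)]⟩]

theorem t9_840_33 : jobs 8 S9 b8_840 j9_840_33 = true := by decide +kernel

noncomputable def j9_840_34 : List Job := [
  ⟨12, 0x590ca66339a0d26a35d80c262319b0da6e37d20924a259309a4e27d008242219108a4623c84552015c2e1501, 0, 12, 0x216000417000e17001016, []⟩]

theorem t9_840_34 : jobs 8 S9 b8_840 j9_840_34 = true := by decide +kernel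

noncomputable def j9_840_35 : List Job := [
  ⟨10, 0x590ca66339a0d26a35d80c262319b0da6e37d20924a259309a4e27d008242219108a4623c8457201542e1501, 0, 2, 0x201000401, []⟩]

theorem t9_840_35 : jobs 8 S9 b8_840 j9_840_35 = true := by decide +kernel

theorem d9_840 : Dn 8 S9 b8_840 := dn_of (Js := j9_840_0 ++ (j9_840_1 ++ (j9_840_2 ++ (j9_840_3 ++ (j9_840_4 ++ (j9_840_5 ++ (j9_840_6 ++ (j9_840_7 ++ (j9_840_8 ++ (j9_840_9 ++ (j9_840_10 ++ (j9_840_11 ++ (j9_840_12 ++ (j9_840_13 ++ (j9_840_14 ++ (j9_840_15 ++ (j9_840_16 ++ (j9_840_17 ++ (j9_840_18 ++ (j9_840_19 ++ (j9_840_20 ++ (j9_840_21 ++ (j9_840_22 ++ (j9_840_23 ++ (j9_840_24 ++ (j9_840_25 ++ (j9_840_26 ++ (j9_840_27 ++ (j9_840_28 ++ (j9_840_29 ++ (j9_840_30 ++ (j9_840_31 ++ (j9_840_32 ++ (j9_840_33 ++ (j9_840_34 ++ (j9_840_35 ++ []))))))))))))))))))))))))))))))))))))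
  (jobs_append t9_840_0 <| jobs_append t9_840_1 <| jobs_append t9_840_2 <| jobs_append t9_840_3 <| jobs_append t9_840_4 <| jobs_append t9_840_5 <| jobs_append t9_840_6 <| jobs_append t9_840_7 <| jobs_append t9_840_8 <| jobs_append t9_840_9 <| jobs_append t9_840_10 <| jobs_append t9_840_11 <| jobs_append t9_840_12 <| jobs_append t9_840_13 <| jobs_append t9_840_14 <| jobs_append t9_840_15 <| jobs_append t9_840_16 <| jobs_append t9_840_17 <| jobs_append t9_840_18 <| jobs_append t9_840_19 <| jobs_append t9_840_20 <| jobs_append t9_840_21 <| jobs_append t9_840_22 <| jobs_append t9_840_23 <| jobs_append t9_840_24 <| jobs_append t9_840_25 <| jobs_append t9_840_26 <| jobs_append t9_840_27 <| jobs_append t9_840_28 <| jobs_append t9_840_29 <| jobs_append t9_840_30 <| jobs_append t9_840_31 <| jobs_append t9_840_32 <| jobs_append t9_840_33 <| jobs_append t9_840_34 <| jobs_append t9_840_35 <| List.forall_mem_nil _) (by decide +kernel)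

end Cfsg.Agent.FS.N.Sw
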