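import Cfsg.Agent.FS.N.Sw.Seg
import Cfsg.Agent.FS.N.G.S9
import Cfsg.Agent.FS.N.G.L.L34
import Cfsg.Agent.FS.N.G.L.L35

/-! The filter on the pairs for the order 512, part 79 (generated; helper52, project FS) -/

set_option autoImplicit false
set_option maxRecDepth 100000
set_option Elab.async false

namespace Cfsg.Agent.FS.N.Sw

open G

noncomputable def j9_841_0 : List Job := [
  ⟨56, 0x504864523924944d27500844423120964c27c4826140ac4022160bc180f05824080701, 0, 2, 0x201000401, []⟩]

theorem t9_841_0 : jobs 8 S9 b8_841 j9_841_0 = true := by decide +kernel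

noncomputable def j9_841_1 : List Job := [
  ⟨55, 0x4cc6d321bcc062341ac804222118904a2613c4826140ac4022160bc180f05824080701, 0, 8, 0x201000401000601000a01000c01000e01, []⟩]

theorem t9_841_1 : jobs 8 S9 b8_841 j9_841_1 = true := by decide +kernel

noncomputable def j9_841_2 : List Job := [
  ⟨54, 0x5008242219108a4623920924a259309a4e27ccc6d321bcc062341ac804222118904a2613c4826140ac4022160bc180f05824080701, 0, 16, 0x201000a01, []⟩]

theorem t9_841_2 : jobs 8 S9 b8_841 j9_841_2 = true := by decide +kernel

noncomputable def j9_841_3 : List Job := [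
  ⟨53, 0x4c866361bcc46b301a4804222118904a2613c4826140ac4022160bc180f05824080701, 0, 8, 0x201000a01, []⟩]

theorem t9_841_3 : jobs 8 S9 b8_841 j9_841_3 = true := by decide +kernel

noncomputable def j9_841_4 : List Job := [
  ⟨52, 0x504864523924944d27500844423120964c27cc866361bcc46b301a4804222118904a2613c4826140ac4022160bc180f05824080701, 0, 20, 0x201000400000600000a01001201001c01001e01, [(2, ⟨3100, 0xac014f00220113010d000700030001010001, 0x1ad2688c240f0300c02⟩), (1, ⟨3101, 0xac014f00220113000d000700030001010001, 0x1ad2688c240f0300c02⟩)]⟩]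

theorem t9_841_4 : jobs 8 S9 b8_841 j9_841_4 = true := by decide +kernel

noncomputable def j9_841_5 : List Job := [
  ⟨48, 0x504864523924944d27500844423120964c27c180f05824080701, 0, 4, 0x0, []⟩]

theorem t9_841_5 : jobs 8 S9 b8_841 j9_841_5 = true := by decide +kernel

noncomputable def j9_841_6 : List Job := [
  ⟨44, 0x504864523924944d27500844423120964c27cc06232198d06a361bc804222118904a2613c180f05824080701, 0, 8, 0x208000a08, []⟩]

theorem t9_841_6 : jobs 8 S9 b8_841 j9_841_6 = true := by decide +kernel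

noncomputable def j9_841_7 : List Job := [
  ⟨40, 0x504864523924944d27500844423120964c27cc06232198d06a361bc502a160bc40221209c180f05824080701, 0, 8, 0x208000609000a08000e09, []⟩]

theorem t9_841_7 : jobs 8 S9 b8_841 j9_841_7 = true := by decide +kernel

noncomputable def j9_841_8 : List Job := [
  ⟨39, 0x4804222118904a2613c502a160bc40221209c180f05824080701, 0, 8, 0x20a00040100060b000a0a000c01000e0b, []⟩]

theorem t9_841_8 : jobs 8 S9 b8_841 j9_841_8 = true := by decide +kernel

noncomputable def j9_841_9 : List Job := [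
  ⟨38, 0x5008242219108a4623920924a259309a4e27c804222118904a2613c502a160bc40221209c180f05824080701, 0, 8, 0x20a00040100060b000a0a000e0b, []⟩]

theorem t9_841_9 : jobs 8 S9 b8_841 j9_841_9 = true := by decide +kernel

noncomputable def j9_841_10 : List Job := [
  ⟨37, 0x4804222118904a2613c502a160bc40221209c180f05824080701, 0, 8, 0x20b00040100060a000a0b000c01000e0a, []⟩]

theorem t9_841_10 : jobs 8 S9 b8_841 j9_841_10 = true := by decide +kernel

noncomputable def j9_841_11 : List Job := [
  ⟨36, 0x504864523924944d27500844423120964c27c804222118904a2613c502a160bc40221209c180f05824080701, 0, 16, 0x20b00060a000a0b000e0a00120b00160a001a0b001e0a, []⟩]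

theorem t9_841_11 : jobs 8 S9 b8_841 j9_841_11 = true := by decide +kernel

noncomputable def j9_841_12 : List Job := [
  ⟨31, 0x4944f2413484452011c180f0402c0e0501, 0, 8, 0x201000401000601000801000a01000c01000e01001001, []⟩]

theorem t9_841_12 : jobs 8 S9 b8_841 j9_841_12 = true := by decide +kernel

noncomputable def j9_841_13 : List Job := [
  ⟨26, 0x4c06232198d06a361bc904a2613c80422211c4826140ac4022160bc180f0402c0e0501, 0, 8, 0x601000801000e01001001, []⟩]

theorem t9_841_13 : jobs 8 S9 b8_841 j9_841_13 = true := by decide +kernel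

noncomputable def j9_841_14 : List Job := [
  ⟨25, 0x4c06232198d06a361bc944f2413484452011c4826140ac4022160bc180f0402c0e0501, 0, 12, 0x201000a01001201, []⟩]

theorem t9_841_14 : jobs 8 S9 b8_841 j9_841_14 = true := by decide +kernel

noncomputable def j9_841_15 : List Job := [
  ⟨24, 0x4c06232198d06a361bc944f2413484452011c4826140ac4022160bc180f0402c0e0501, 0, 20, 0x200000400000601000801000c01001401001e01002601, [(1, ⟨3099, 0xa0004c01230113000d010600050101000001, 0x1a6270982c0a0181c02⟩), (0, ⟨3098, 0xa0004c01230113000d010600050101000001, 0x1a6270982c0a0181c02⟩)]⟩]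

theorem t9_841_15 : jobs 8 S9 b8_841 j9_841_15 = true := by decide +kernel

noncomputable def j9_841_16 : List Job := [
  ⟨18, 0x584c665339a4d46d37580c464331a0d66c37d04864523924944d27500844423120964c27c8c4d2213c844b20124180f05824080701, 0, 8, 0x201000401000601000801000a01000c01000e01001001, []⟩]

theorem t9_841_16 : jobs 8 S9 b8_841 j9_841_16 = true := by decide +kernel

noncomputable def j9_841_17 : List Job := [
  ⟨17, 0x4502a160bc40221209c180f05824080701, 0, 2, 0x201000401, []⟩]

theorem t9_841_17 : jobs 8 S9 b8_841 j9_841_17 = true := by decide +kernel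

noncomputable def j9_841_18 : List Job := [
  ⟨16, 0x580c26231990ca66339a0d26a359b0da6e37d008242219108a4623920924a259309a4e27c502a160bc40221209c180f05824080701, 0, 3, 0x201000401000601, []⟩]

theorem t9_841_18 : jobs 8 S9 b8_841 j9_841_18 = true := by decide +kernel

noncomputable def j9_841_19 : List Job := [
  ⟨15, 0x504864523924944d27500844423120964c27c502a160bc40221209c180f05824080701, 0, 2, 0x201000401, []⟩]

theorem t9_841_19 : jobs 8 S9 b8_841 j9_841_19 = true := by decide +kernel

noncomputable def j9_841_20 : List Job := [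
  ⟨14, 0x5008242219108a4623920924a259309a4e27cc06232198d06a361bc88462613c80422412c502a160bc40221209c180f05824080701, 0, 8, 0x601, []⟩]

theorem t9_841_20 : jobs 8 S9 b8_841 j9_841_20 = true := by decide +kernel

noncomputable def j9_841_21 : List Job := [
  ⟨13, 0x4c06232198d06a361bc8c4d2213c844b20124502a160bc40221209c180f05824080701, 0, 8, 0x201000401000601000a01000c01000e01, []⟩]

theorem t9_841_21 : jobs 8 S9 b8_841 j9_841_21 = true := by decide +kernel

noncomputable def j9_841_22 : List Job := [
  ⟨12, 0x584c665339a4d46d37580c464331a0d66c37d04864523924944d27500844423120964c27cc06232198d06a361bc8c4d2213c844b20124502a160bc40221209c180f05824080701, 0, 24, 0x201000401000601000a01001201002601, []⟩]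

theorem t9_841_22 : jobs 8 S9 b8_841 j9_841_22 = true := by decide +kernel

noncomputable def j9_841_23 : List Job := [
  ⟨8, 0x4c866341acc062361bc88462412c80422613c180f0402c0e0501, 0, 8, 0x204000404000805000a04000c04001005, []⟩]

theorem t9_841_23 : jobs 8 S9 b8_841 j9_841_23 = true := by decide +kernel

noncomputable def j9_841_24 : List Job := [
  ⟨7, 0x4c866341acc062361bc88462412c80422613c180f0402c0e0501, 0, 4, 0x0, []⟩]

theorem t9_841_24 : jobs 8 S9 b8_841 j9_841_24 = true := by decide +kernel

noncomputable def j9_841_25 : List Job := [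
  ⟨5, 0x4c866341acc062361bc4826140ac4022160bc180f0402c0e0501, 0, 8, 0x207000607000806000a07000e07001006, []⟩]

theorem t9_841_25 : jobs 8 S9 b8_841 j9_841_25 = true := by decide +kernel

noncomputable def j9_841_26 : List Job := [
  ⟨4, 0x4c866341acc062361bc4826140ac4022160bc180f0402c0e0501, 0, 12, 0x206000406000607000a06000c06000e07001207001606001806, []⟩]

theorem t9_841_26 : jobs 8 S9 b8_841 j9_841_26 = true := by decide +kernel

noncomputable def j9_841_27 : List Job := [
  ⟨3, 0x4c866341acc062361bc4826140ac4022160bc180f0402c0e0501, 0, 8, 0x207000401000606000806000a07000c01000e06001006, []⟩]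

theorem t9_841_27 : jobs 8 S9 b8_841 j9_841_27 = true := by decide +kernel

noncomputable def j9_841_28 : List Job := [
  ⟨2, 0x488462412c80422613c4826140ac4022160bc180f0402c0e0501, 0, 4, 0x0, []⟩]

theorem t9_841_28 : jobs 8 S9 b8_841 j9_841_28 = true := by decide +kernel

noncomputable def j9_841_29 : List Job := [
  ⟨1, 0x488462412c80422613c4826140ac4022160bc180f0402c0e0501, 0, 8, 0x204000405000605000a04000c05000e05, []⟩]

theorem t9_841_29 : jobs 8 S9 b8_841 j9_841_29 = true := by decide +kernel

theorem d9_841 : Dn 8 S9 b8_841 := dn_of (Js := j9_841_0 ++ (j9_841_1 ++ (j9_841_2 ++ (j9_841_3 ++ (j9_841_4 ++ (j9_841_5 ++ (j9_841_6 ++ (j9_841_7 ++ (j9_841_8 ++ (j9_841_9 ++ (j9_841_10 ++ (j9_841_11 ++ (j9_841_12 ++ (j9_841_13 ++ (j9_841_14 ++ (j9_841_15 ++ (j9_841_16 ++ (j9_841_17 ++ (j9_841_18 ++ (j9_841_19 ++ (j9_841_20 ++ (j9_841_21 ++ (j9_841_22 ++ (j9_841_23 ++ (j9_841_24 ++ (j9_841_25 ++ (j9_841_26 ++ (j9_841_27 ++ (j9_841_28 ++ (j9_841_29 ++ []))))))))))))))))))))))))))))))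
  (jobs_append t9_841_0 <| jobs_append t9_841_1 <| jobs_append t9_841_2 <| jobs_append t9_841_3 <| jobs_append t9_841_4 <| jobs_append t9_841_5 <| jobs_append t9_841_6 <| jobs_append t9_841_7 <| jobs_append t9_841_8 <| jobs_append t9_841_9 <| jobs_append t9_841_10 <| jobs_append t9_841_11 <| jobs_append t9_841_12 <| jobs_append t9_841_13 <| jobs_append t9_841_14 <| jobs_append t9_841_15 <| jobs_append t9_841_16 <| jobs_append t9_841_17 <| jobs_append t9_841_18 <| jobs_append t9_841_19 <| jobs_append t9_841_20 <| jobs_append t9_841_21 <| jobs_append t9_841_22 <| jobs_append t9_841_23 <| jobs_append t9_841_24 <| jobs_append t9_841_25 <| jobs_append t9_841_26 <| jobs_append t9_841_27 <| jobs_append t9_841_28 <| jobs_append t9_841_29 <| List.forall_mem_nil _) (by decide +kernel)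

noncomputable def j9_842_0 : List Job := [
  ⟨59, 0x4b05a2e17ca0522a15c904a2613c80422211c281709844080701, 0, 10, 0x210000401000810000a01000e10001001001210001401, []⟩]

theorem t9_842_0 : jobs 8 S9 b8_842 j9_842_0 = true := by decide +kernel

noncomputable def j9_842_1 : List Job := [
  ⟨58, 0x520924a259309a4e27d008242219108a4623cb05a2e17ca0522a15c904a2613c80422211c281709844080701, 0, 16, 0x210000810000e10001210001610001a10001e10002010, []⟩]

theorem t9_842_1 : jobs 8 S9 b8_842 j9_842_1 = true := by decide +kernel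

noncomputable def j9_842_2 : List Job := [
  ⟨57, 0x4b05a2e17ca0522a15c904a2613c80422211c281709844080701, 0, 6, 0x200000401000810000a01000c10, [(0, ⟨3108, 0xbf01460123001a0107000800030101010001, 0x1bc240882e040500c02⟩)]⟩]

theorem t9_842_2 : jobs 8 S9 b8_842 j9_842_2 = true := by decide +kernel

noncomputable def j9_842_3 : List Job := [
  ⟨56, 0x520924a259309a4e27d008242219108a4623cb05a2e17ca0522a15c904a2613c80422211c281709844080701, 0, 8, 0x200000800000c10001010, [(3, ⟨3107, 0xea0043002501160107010801030101010001, 0x1ec210a830040500c02⟩), (0, ⟨3106, 0xea0143002501160007010801030101010001, 0x1ec210a830040500c02⟩)]⟩]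

theorem t9_842_3 : jobs 8 S9 b8_842 j9_842_3 = true := by decide +kernel

noncomputable def j9_842_4 : List Job := [
  ⟨52, 0x524964d27520944c27d04864523500844423ca0522a15c80422211c301a0e07c281709844100a0603c080701, 0, 12, 0x210000810000e10001410, []⟩]

theorem t9_842_4 : jobs 8 S9 b8_842 j9_842_4 = true := by decide +kernel

noncomputable def j9_842_5 : List Job := [
  ⟨44, 0x4b05a2e17ca85729944904a2613c884721904301a0e07c281709844100a0603c080701, 0, 12, 0x210000810, []⟩]

theorem t9_842_5 : jobs 8 S9 b8_842 j9_842_5 = true := by decide +kernel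

noncomputable def j9_842_6 : List Job := [
  ⟨40, 0x4a8572814c88472010c281709844080701, 0, 6, 0x201000401000601000801000a01000c01, []⟩]

theorem t9_842_6 : jobs 8 S9 b8_842 j9_842_6 = true := by decide +kernel

noncomputable def j9_842_7 : List Job := [
  ⟨39, 0x4a85729944884721904281709844080701, 0, 14, 0x201000401000601000801000a01000c01000e01001001001201001401001601001801001a01001c01, []⟩]

theorem t9_842_7 : jobs 8 S9 b8_842 j9_842_7 = true := by decide +kernel

noncomputable def j9_842_8 : List Job := [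
  ⟨38, 0x4a85729944884721904281709844080701, 0, 12, 0x201000401000601000801000a01000c01000e01001001001201001401001601001801, []⟩]

theorem t9_842_8 : jobs 8 S9 b8_842 j9_842_8 = true := by decide +kernel

noncomputable def j9_842_9 : List Job := [
  ⟨30, 0x520924a259309a4e27d008242219108a4623ca8572814c88472010c281709844080701, 0, 6, 0x401000a01, []⟩]

theorem t9_842_9 : jobs 8 S9 b8_842 j9_842_9 = true := by decide +kernel

noncomputable def j9_842_10 : List Job := [
  ⟨29, 0x4a85729944884721904281709844080701, 0, 12, 0x0, []⟩]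

theorem t9_842_10 : jobs 8 S9 b8_842 j9_842_10 = true := by decide +kernel

noncomputable def j9_842_11 : List Job := [
  ⟨28, 0x5a0d26a359b0da6e37d80c26231990ca6633d20924a259309a4e27d008242219108a4623ca85729944884721904281709844080701, 0, 16, 0x201000c01001201001c01, []⟩]

theorem t9_842_11 : jobs 8 S9 b8_842 j9_842_11 = true := by decide +kernel

noncomputable def j9_842_12 : List Job := [
  ⟨24, 0x520924a259309a4e27d008242219108a4623cb05a2e17ca8572814c904a2613c88472010c301a0e07c281709844100a0603c080701, 0, 8, 0x200000601000a00, [(4, ⟨3105, 0x990045012800180104000800030101000001, 0x1952489028040400c02⟩), (0, ⟨3104, 0x990045012800180104010800030101000001, 0x1952489028040400c02⟩)]⟩]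

theorem t9_842_12 : jobs 8 S9 b8_842 j9_842_12 = true := by decide +kernel

noncomputable def j9_842_13 : List Job := [
  ⟨23, 0x4b05a2e17ca85729944904a2613c884721904301a0e07c281709844100a0603c080701, 0, 8, 0x200000401000601000801000a01000c01000e01001001, [(0, ⟨3103, 0xfc01690020001c0107010900020001010001, 0x1d3320803c050580802⟩)]⟩]

theorem t9_842_13 : jobs 8 S9 b8_842 j9_842_13 = true := by decide +kernel

noncomputable def j9_842_14 : List Job := [
  ⟨22, 0x5a4d66d375a0d46c37d84c66533580c46433d24964d27520944c27d04864523500844423cb05a2e17ca85729944904a2613c884721904301a0e07c281709844100a0603c080701, 0, 22, 0x200001601001c01, [(0, ⟨3102, 0x1be0042001000070020c0009000100004020001, 0x1d7210803e050500802⟩)]⟩]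

theorem t9_842_14 : jobs 8 S9 b8_842 j9_842_14 = true := by decide +kernel

noncomputable def j9_842_15 : List Job := [
  ⟨11, 0x580c26231990ca66339a0d26a359b0da6e37d008242219108a4623920924a259309a4e27c442f100b41e0d01, 0, 3, 0x201, []⟩]

theorem t9_842_15 : jobs 8 S9 b8_842 j9_842_15 = true := by decide +kernel

noncomputable def j9_842_16 : List Job := [
  ⟨9, 0x580c26231990ca66339a0d26a359b0da6e37d008242219108a4623920924a259309a4e27c442f100b41e0d01, 0, 12, 0x0, []⟩]

theorem t9_842_16 : jobs 8 S9 b8_842 j9_842_16 = true := by decide +kernel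

noncomputable def j9_842_17 : List Job := [
  ⟨0, 0x504864523924944d27500844423120964c27cc866361bcc46b301a4180f05824080701, 0, 8, 0x201000401000601000801000a01000c01000e01001001, []⟩]

theorem t9_842_17 : jobs 8 S9 b8_842 j9_842_17 = true := by decide +kernel

theorem d9_842 : Dn 8 S9 b8_842 := dn_of (Js := j9_842_0 ++ (j9_842_1 ++ (j9_842_2 ++ (j9_842_3 ++ (j9_842_4 ++ (j9_842_5 ++ (j9_842_6 ++ (j9_842_7 ++ (j9_842_8 ++ (j9_842_9 ++ (j9_842_10 ++ (j9_842_11 ++ (j9_842_12 ++ (j9_842_13 ++ (j9_842_14 ++ (j9_842_15 ++ (j9_842_16 ++ (j9_842_17 ++ []))))))))))))))))))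
  (jobs_append t9_842_0 <| jobs_append t9_842_1 <| jobs_append t9_842_2 <| jobs_append t9_842_3 <| jobs_append t9_842_4 <| jobs_append t9_842_5 <| jobs_append t9_842_6 <| jobs_append t9_842_7 <| jobs_append t9_842_8 <| jobs_append t9_842_9 <| jobs_append t9_842_10 <| jobs_append t9_842_11 <| jobs_append t9_842_12 <| jobs_append t9_842_13 <| jobs_append t9_842_14 <| jobs_append t9_842_15 <| jobs_append t9_842_16 <| jobs_append t9_842_17 <| List.forall_mem_nil _) (by decide +kernel)

noncomputable def j9_843_0 : List Job := [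
  ⟨63, 0x48c552215c845320144281709844080701, 0, 8, 0x201000401000601000801000a01000c01000e01001001, []⟩]

theorem t9_843_0 : jobs 8 S9 b8_843 j9_843_0 = true := by decide +kernel

noncomputable def j9_843_1 : List Job := [
  ⟨62, 0x4984e2c16c904a2e17c281709844080701, 0, 1, 0x0, []⟩]

theorem t9_843_1 : jobs 8 S9 b8_843 j9_843_1 = true := by decide +kernel

noncomputable def j9_843_2 : List Job := [
  ⟨61, 0x590ca66339a0d26a35d80c262319b0da6e37d20924a259309a4e27d008242219108a4623c984e2c16c904a2e17c281709844080701, 0, 1, 0x0, []⟩]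

theorem t9_843_2 : jobs 8 S9 b8_843 j9_843_2 = true := by decide +kernel

noncomputable def j9_843_3 : List Job := [
  ⟨60, 0x520924a259309a4e27d008242219108a4623c984e2c16c904a2e17c281709844080701, 0, 4, 0x201000401000601000800, [(3, ⟨3112, 0x4a00410250006c08301080206000408001, 0x199208902c040580c02⟩)]⟩]

theorem t9_843_3 : jobs 8 S9 b8_843 j9_843_3 = true := by decide +kernel

noncomputable def j9_843_4 : List Job := [
  ⟨59, 0x520924a259309a4e27d008242219108a4623c88462a15c80422814c281709844080701, 0, 4, 0x0, []⟩]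

theorem t9_843_4 : jobs 8 S9 b8_843 j9_843_4 = true := by decide +kernel

noncomputable def j9_843_5 : List Job := [
  ⟨58, 0x48c552215c845320144281709844080701, 0, 8, 0x0, []⟩]

theorem t9_843_5 : jobs 8 S9 b8_843 j9_843_5 = true := by decide +kernel

noncomputable def j9_843_6 : List Job := [
  ⟨57, 0x590ca66339a0d26a35d80c262319b0da6e37d20924a259309a4e27d008242219108a4623c8c552215c845320144281709844080701, 0, 12, 0x201000801000e01001401, []⟩]

theorem t9_843_6 : jobs 8 S9 b8_843 j9_843_6 = true := by decide +kernel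

noncomputable def j9_843_7 : List Job := [
  ⟨56, 0x4301a0e07c281709844100a0603c080701, 0, 2, 0x0, []⟩]

theorem t9_843_7 : jobs 8 S9 b8_843 j9_843_7 = true := by decide +kernel

noncomputable def j9_843_8 : List Job := [
  ⟨55, 0x590ca66339a0d26a35d80c262319b0da6e37d20924a259309a4e27d008242219108a4623c301a0e07c281709844100a0603c080701, 0, 4, 0x201, []⟩]

theorem t9_843_8 : jobs 8 S9 b8_843 j9_843_8 = true := by decide +kernel

noncomputable def j9_843_9 : List Job := [
  ⟨54, 0x524964d27520944c27d04864523500844423c301a0e07c281709844100a0603c080701, 0, 4, 0x0, []⟩]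

theorem t9_843_9 : jobs 8 S9 b8_843 j9_843_9 = true := by decide +kernel

noncomputable def j9_843_10 : List Job := [
  ⟨53, 0x520924a259309a4e27d008242219108a4623c984e2c16c904a2e17c88462a15c80422814c301a0e07c281709844100a0603c080701, 0, 4, 0x200, [(0, ⟨3111, 0x6200440252045800300090206000408001, 0x1c02589030050580c02⟩)]⟩]

theorem t9_843_10 : jobs 8 S9 b8_843 j9_843_10 = true := by decide +kernel

noncomputable def j9_843_11 : List Job := [
  ⟨52, 0x4984e2c16c904a2e17c8c552215c845320144301a0e07c281709844100a0603c080701, 0, 4, 0x200000401000600, [(2, ⟨3109, 0x4e81660250046c08680080206000400001, 0x19b350902c040680c02⟩), (0, ⟨3110, 0x4e81660050046c00680080206000400001, 0x19b350902c040680c02⟩)]⟩]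

theorem t9_843_11 : jobs 8 S9 b8_843 j9_843_11 = true := by decide +kernel

noncomputable def j9_843_12 : List Job := [
  ⟨51, 0x594cc6935d90ce6835584c66d37580c46c37d24964d27520944c27d04864523500844423c984e2c16c904a2e17c8c552215c845320144301a0e07c281709844100a0603c080701, 0, 12, 0x201000401000601000a01000c01, []⟩]

theorem t9_843_12 : jobs 8 S9 b8_843 j9_843_12 = true := by decide +kernel

noncomputable def j9_843_13 : List Job := [
  ⟨50, 0x4180f05824080701, 0, 12, 0x0, []⟩]

theorem t9_843_13 : jobs 8 S9 b8_843 j9_843_13 = true := by decide +kernel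

noncomputable def j9_843_14 : List Job := [
  ⟨49, 0x5a0d26a359b0da6e37d008242219108a4623c180f05824080701, 0, 12, 0x0, []⟩]

theorem t9_843_14 : jobs 8 S9 b8_843 j9_843_14 = true := by decide +kernel

noncomputable def j9_843_15 : List Job := [
  ⟨48, 0x5008242219108a4623c180f05824080701, 0, 16, 0x0, []⟩]

theorem t9_843_15 : jobs 8 S9 b8_843 j9_843_15 = true := by decide +kernel

noncomputable def j9_843_16 : List Job := [
  ⟨47, 0x5008242219108a4623c88462613c84492012c180f05824080701, 0, 32, 0x2208002409002608002809002a08002c09003208003409003a08003c09, []⟩]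

theorem t9_843_16 : jobs 8 S9 b8_843 j9_843_16 = true := by decide +kernel

noncomputable def j9_843_17 : List Job := [
  ⟨46, 0x488462613c844b20124180f05824080701, 0, 24, 0x409000608000809000c09000e08001009001208001409001608001809, []⟩]

theorem t9_843_17 : jobs 8 S9 b8_843 j9_843_17 = true := by decide +kernel

noncomputable def j9_843_18 : List Job := [
  ⟨45, 0x5a0d26a359b0da6e37d008242219108a4623c88462613c844b20124180f05824080701, 0, 24, 0x208000409, []⟩]

theorem t9_843_18 : jobs 8 S9 b8_843 j9_843_18 = true := by decide +kernel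

noncomputable def j9_843_19 : List Job := [
  ⟨44, 0x5008242219108a4623c80422412c160901, 0, 16, 0x0, []⟩]

theorem t9_843_19 : jobs 8 S9 b8_843 j9_843_19 = true := by decide +kernel

noncomputable def j9_843_20 : List Job := [
  ⟨43, 0x5008242219108a4623c84492012c160901, 0, 16, 0x208001208, []⟩]

theorem t9_843_20 : jobs 8 S9 b8_843 j9_843_20 = true := by decide +kernel

noncomputable def j9_843_21 : List Job := [
  ⟨42, 0x480422412c160901, 0, 12, 0x0, []⟩]

theorem t9_843_21 : jobs 8 S9 b8_843 j9_843_21 = true := by decide +kernel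

noncomputable def j9_843_22 : List Job := [
  ⟨41, 0x5a0d26a359b0da6e37d008242219108a4623c80422412c160901, 0, 12, 0x0, []⟩]

theorem t9_843_22 : jobs 8 S9 b8_843 j9_843_22 = true := by decide +kernel

noncomputable def j9_843_23 : List Job := [
  ⟨40, 0x4844b20124160901, 0, 12, 0x409, []⟩]

theorem t9_843_23 : jobs 8 S9 b8_843 j9_843_23 = true := by decide +kernel

noncomputable def j9_843_24 : List Job := [
  ⟨39, 0x5a0d26a359b0da6e37d008242219108a4623c844b20124160901, 0, 24, 0x1c09, []⟩]

theorem t9_843_24 : jobs 8 S9 b8_843 j9_843_24 = true := by decide +kernel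

noncomputable def j9_843_25 : List Job := [
  ⟨38, 0x5008242219108a4623c80422412c160901, 0, 16, 0x0, []⟩]

theorem t9_843_25 : jobs 8 S9 b8_843 j9_843_25 = true := by decide +kernel

noncomputable def j9_843_26 : List Job := [
  ⟨37, 0x5008242219108a4623c84492012c160901, 0, 16, 0x208001208, []⟩]

theorem t9_843_26 : jobs 8 S9 b8_843 j9_843_26 = true := by decide +kernel

noncomputable def j9_843_27 : List Job := [
  ⟨36, 0x480422412c160901, 0, 12, 0x0, []⟩]

theorem t9_843_27 : jobs 8 S9 b8_843 j9_843_27 = true := by decide +kernel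

noncomputable def j9_843_28 : List Job := [
  ⟨35, 0x5a0d26a359b0da6e37d008242219108a4623c80422412c160901, 0, 12, 0x0, []⟩]

theorem t9_843_28 : jobs 8 S9 b8_843 j9_843_28 = true := by decide +kernel

noncomputable def j9_843_29 : List Job := [
  ⟨34, 0x4844b20124160901, 0, 12, 0x409, []⟩]

theorem t9_843_29 : jobs 8 S9 b8_843 j9_843_29 = true := by decide +kernel

noncomputable def j9_843_30 : List Job := [
  ⟨33, 0x5a0d26a359b0da6e37d008242219108a4623c844b20124160901, 0, 24, 0x409, []⟩]

theorem t9_843_30 : jobs 8 S9 b8_843 j9_843_30 = true := by decide +kernel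

noncomputable def j9_843_31 : List Job := [
  ⟨32, 0x4180f05824080701, 0, 9, 0x0, []⟩]

theorem t9_843_31 : jobs 8 S9 b8_843 j9_843_31 = true := by decide +kernel

noncomputable def j9_843_32 : List Job := [
  ⟨31, 0x588c66432d80c26633d108a4623d00824221c180f05824080701, 0, 11, 0x0, []⟩]

theorem t9_843_32 : jobs 8 S9 b8_843 j9_843_32 = true := by decide +kernel

noncomputable def j9_843_33 : List Job := [
  ⟨30, 0x5108a4623d00824221c180f05824080701, 0, 12, 0x1201001401001601001801, []⟩]

theorem t9_843_33 : jobs 8 S9 b8_843 j9_843_33 = true := by decide +kernel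

noncomputable def j9_843_34 : List Job := [
  ⟨29, 0x5108a4623d00824221c88462613c80422412c180f05824080701, 0, 20, 0x1208001408001a08001e08, []⟩]

theorem t9_843_34 : jobs 8 S9 b8_843 j9_843_34 = true := by decide +kernel

noncomputable def j9_843_35 : List Job := [
  ⟨28, 0x48c4d2213c844b20124180f05824080701, 0, 17, 0x208000408000808000a08000c08000e08001008001208001408, []⟩]

theorem t9_843_35 : jobs 8 S9 b8_843 j9_843_35 = true := by decide +kernel

noncomputable def j9_843_36 : List Job := [
  ⟨27, 0x588c66432d80c26633d108a4623d00824221c8c4d2213c844b20124180f05824080701, 0, 21, 0x208, []⟩]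

theorem t9_843_36 : jobs 8 S9 b8_843 j9_843_36 = true := by decide +kernel

noncomputable def j9_843_37 : List Job := [
  ⟨26, 0x5108a4623d00824221c80422412c160901, 0, 16, 0x0, []⟩]

theorem t9_843_37 : jobs 8 S9 b8_843 j9_843_37 = true := by decide +kernel

noncomputable def j9_843_38 : List Job := [
  ⟨25, 0x5108a4623d00824221c80422412c160901, 0, 16, 0x0, []⟩]

theorem t9_843_38 : jobs 8 S9 b8_843 j9_843_38 = true := by decide +kernel

noncomputable def j9_843_39 : List Job := [
  ⟨24, 0x484492012c160901, 0, 12, 0x1208, []⟩]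

theorem t9_843_39 : jobs 8 S9 b8_843 j9_843_39 = true := by decide +kernel

noncomputable def j9_843_40 : List Job := [
  ⟨23, 0x588c66432d80c26633d108a4623d00824221c84492012c160901, 0, 14, 0x208001a01001c01, []⟩]

theorem t9_843_40 : jobs 8 S9 b8_843 j9_843_40 = true := by decide +kernel

noncomputable def j9_843_41 : List Job := [
  ⟨22, 0x4844b20124160901, 0, 12, 0x409001409, []⟩]

theorem t9_843_41 : jobs 8 S9 b8_843 j9_843_41 = true := by decide +kernel

noncomputable def j9_843_42 : List Job := [
  ⟨21, 0x588c66432d80c26633d108a4623d00824221c844b20124160901, 0, 24, 0x409001a09001c08002609002808, []⟩]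

theorem t9_843_42 : jobs 8 S9 b8_843 j9_843_42 = true := by decide +kernel

noncomputable def j9_843_43 : List Job := [
  ⟨20, 0x590ca6633d00824221c88472010c080701, 0, 12, 0x0, []⟩]

theorem t9_843_43 : jobs 8 S9 b8_843 j9_843_43 = true := by decide +kernel

noncomputable def j9_843_44 : List Job := [
  ⟨19, 0x580c26231d00824221c884721904080701, 0, 12, 0x0, []⟩]

theorem t9_843_44 : jobs 8 S9 b8_843 j9_843_44 = true := by decide +kernel

noncomputable def j9_843_45 : List Job := [
  ⟨18, 0x580c26231d00824221c984f2010c180f01, 0, 24, 0x403000c03001c03, []⟩]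

theorem t9_843_45 : jobs 8 S9 b8_843 j9_843_45 = true := by decide +kernel

noncomputable def j9_843_46 : List Job := [
  ⟨17, 0x580c26231d00824221c984f21904180f01, 0, 24, 0xc03001403001c03, []⟩]

theorem t9_843_46 : jobs 8 S9 b8_843 j9_843_46 = true := by decide +kernel

noncomputable def j9_843_47 : List Job := [
  ⟨16, 0x4180f05824080701, 0, 10, 0x0, []⟩]

theorem t9_843_47 : jobs 8 S9 b8_843 j9_843_47 = true := by decide +kernel

noncomputable def j9_843_48 : List Job := [
  ⟨15, 0x590ca6633d80c26231d108a4623d00824221c180f05824080701, 0, 12, 0x0, []⟩]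

theorem t9_843_48 : jobs 8 S9 b8_843 j9_843_48 = true := by decide +kernel

noncomputable def j9_843_49 : List Job := [
  ⟨14, 0x5108a4623d00824221c180f05824080701, 0, 11, 0x0, []⟩]

theorem t9_843_49 : jobs 8 S9 b8_843 j9_843_49 = true := by decide +kernel

noncomputable def j9_843_50 : List Job := [
  ⟨13, 0x5108a4623d00824221c984f2412c88472010c180f05824080701, 0, 27, 0x1808001c08002008002208002408002a08003008003408, []⟩]

theorem t9_843_50 : jobs 8 S9 b8_843 j9_843_50 = true := by decide +kernel

noncomputable def j9_843_51 : List Job := [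
  ⟨12, 0x4984f25924884721904180f05824080701, 0, 24, 0x208000401000608000808000a01000c08000e08001001001208001408001601001808001a08001c08, []⟩]

theorem t9_843_51 : jobs 8 S9 b8_843 j9_843_51 = true := by decide +kernel

noncomputable def j9_843_52 : List Job := [
  ⟨11, 0x590ca6633d80c26231d108a4623d00824221c984f25924884721904180f05824080701, 0, 28, 0x208000808, []⟩]

theorem t9_843_52 : jobs 8 S9 b8_843 j9_843_52 = true := by decide +kernel

noncomputable def j9_843_53 : List Job := [
  ⟨10, 0x5108a4623d00824221c904b2010c160901, 0, 20, 0x208001a08, []⟩]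

theorem t9_843_53 : jobs 8 S9 b8_843 j9_843_53 = true := by decide +kernel

noncomputable def j9_843_54 : List Job := [
  ⟨9, 0x5108a4623d00824221c904b2010c160901, 0, 20, 0x208001a08, []⟩]

theorem t9_843_54 : jobs 8 S9 b8_843 j9_843_54 = true := by decide +kernel

noncomputable def j9_843_55 : List Job := [
  ⟨8, 0x4904b2010c160901, 0, 16, 0x1a08, []⟩]

theorem t9_843_55 : jobs 8 S9 b8_843 j9_843_55 = true := by decide +kernel

noncomputable def j9_843_56 : List Job := [
  ⟨7, 0x590ca6633d80c26231d108a4623d00824221c904b2010c160901, 0, 16, 0x208, []⟩]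

theorem t9_843_56 : jobs 8 S9 b8_843 j9_843_56 = true := by decide +kernel

noncomputable def j9_843_57 : List Job := [
  ⟨6, 0x4964921904160901, 0, 16, 0x808000e08001408001e08, []⟩]

theorem t9_843_57 : jobs 8 S9 b8_843 j9_843_57 = true := by decide +kernel

noncomputable def j9_843_58 : List Job := [
  ⟨5, 0x590ca6633d80c26231d108a4623d00824221c964921904160901, 0, 32, 0x808000e08001408002209002401002809002a01003209003401003809003a01, []⟩]

theorem t9_843_58 : jobs 8 S9 b8_843 j9_843_58 = true := by decide +kernel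

noncomputable def j9_843_59 : List Job := [
  ⟨4, 0x594cd6433d84c56031d148f44235048740214984f2412c88472010c1e0d058240e0501, 0, 21, 0x608001408002408, []⟩]

theorem t9_843_59 : jobs 8 S9 b8_843 j9_843_59 = true := by decide +kernel

theorem d9_843 : Dn 8 S9 b8_843 := dn_of (Js := j9_843_0 ++ (j9_843_1 ++ (j9_843_2 ++ (j9_843_3 ++ (j9_843_4 ++ (j9_843_5 ++ (j9_843_6 ++ (j9_843_7 ++ (j9_843_8 ++ (j9_843_9 ++ (j9_843_10 ++ (j9_843_11 ++ (j9_843_12 ++ (j9_843_13 ++ (j9_843_14 ++ (j9_843_15 ++ (j9_843_16 ++ (j9_843_17 ++ (j9_843_18 ++ (j9_843_19 ++ (j9_843_20 ++ (j9_843_21 ++ (j9_843_22 ++ (j9_843_23 ++ (j9_843_24 ++ (j9_843_25 ++ (j9_843_26 ++ (j9_843_27 ++ (j9_843_28 ++ (j9_843_29 ++ (j9_843_30 ++ (j9_843_31 ++ (j9_843_32 ++ (j9_843_33 ++ (j9_843_34 ++ (j9_843_35 ++ (j9_843_36 ++ (j9_843_37 ++ (j9_843_38 ++ (j9_843_39 ++ (j9_843_40 ++ (j9_843_41 ++ (j9_843_42 ++ (j9_843_43 ++ (j9_843_44 ++ (j9_843_45 ++ (j9_843_46 ++ (j9_843_47 ++ (j9_843_48 ++ (j9_843_49 ++ (j9_843_50 ++ (j9_843_51 ++ (j9_843_52 ++ (j9_843_53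 ++ (j9_843_54 ++ (j9_843_55 ++ (j9_843_56 ++ (j9_843_57 ++ (j9_843_58 ++ (j9_843_59 ++ []))))))))))))))))))))))))))))))))))))))))))))))))))))))))))))
  (jobs_append t9_843_0 <| jobs_append t9_843_1 <| jobs_append t9_843_2 <| jobs_append t9_843_3 <| jobs_append t9_843_4 <| jobs_append t9_843_5 <| jobs_append t9_843_6 <| jobs_append t9_843_7 <| jobs_append t9_843_8 <| jobs_append t9_843_9 <| jobs_append t9_843_10 <| jobs_append t9_843_11 <| jobs_append t9_843_12 <| jobs_append t9_843_13 <| jobs_append t9_843_14 <| jobs_append t9_843_15 <| jobs_append t9_843_16 <| jobs_append t9_843_17 <| jobs_append t9_843_18 <| jobs_append t9_843_19 <| jobs_append t9_843_20 <| jobs_append t9_843_21 <| jobs_append t9_843_22 <| jobs_append t9_843_23 <| jobs_append t9_843_24 <| jobs_append t9_843_25 <| jobs_append t9_843_26 <| jobs_append t9_843_27 <| jobs_append t9_843_28 <| jobs_append t9_843_29 <| jobs_append t9_843_30 <| jobs_append t9_843_31 <| jobs_append t9_843_32 <| jobs_append t9_843_33 <| jobs_append t9_843_34 <| jobs_append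 t9_843_35 <| jobs_append t9_843_36 <| jobs_append t9_843_37 <| jobs_append t9_843_38 <| jobs_append t9_843_39 <| jobs_append t9_843_40 <| jobs_append t9_843_41 <| jobs_append t9_843_42 <| jobs_append t9_843_43 <| jobs_append t9_843_44 <| jobs_append t9_843_45 <| jobs_append t9_843_46 <| jobs_append t9_843_47 <| jobs_append t9_843_48 <| jobs_append t9_843_49 <| jobs_append t9_843_50 <| jobs_append t9_843_51 <| jobs_append t9_843_52 <| jobs_append t9_843_53 <| jobs_append t9_843_54 <| jobs_append t9_843_55 <| jobs_append t9_843_56 <| jobs_append t9_843_57 <| jobs_append t9_843_58 <| jobs_append t9_843_59 <| List.forall_mem_nil _) (by decide +kernel)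

noncomputable def j9_844_0 : List Job := [
  ⟨63, 0x488462814c80422a15c301a0e07c281709844100a0603c080701, 0, 8, 0x210000411000a10000c11000e11001010, []⟩]

theorem t9_844_0 : jobs 8 S9 b8_844 j9_844_0 = true := by decide +kernel

noncomputable def j9_844_1 : List Job := [
  ⟨59, 0x4904a26138b05a2e17c88462814c80422a15c281709844080701, 0, 12, 0x210000411000a11000e10001011001610, []⟩]

theorem t9_844_1 : jobs 8 S9 b8_844 j9_844_1 = true := by decide +kernel

noncomputable def j9_844_2 : List Job := [
  ⟨58, 0x4904a26138b05a2e17c88462814c80422a15c281709844080701, 0, 8, 0x210000411000a10000c11000e01001001, []⟩]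

theorem t9_844_2 : jobs 8 S9 b8_844 j9_844_2 = true := by decide +kernel

noncomputable def j9_844_3 : List Job := [
  ⟨57, 0x4904a26138b05a2e17c88462814c80422a15c281709844080701, 0, 8, 0x210000411000a10000c11000e01001001, []⟩]

theorem t9_844_3 : jobs 8 S9 b8_844 j9_844_3 = true := by decide +kernel

noncomputable def j9_844_4 : List Job := [
  ⟨53, 0x4904a26138b05a2e17c88462814c80422a15c281709844080701, 0, 8, 0x210000411000601000801000a10000c11, []⟩]

theorem t9_844_4 : jobs 8 S9 b8_844 j9_844_4 = true := by decide +kernel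

noncomputable def j9_844_5 : List Job := [
  ⟨52, 0x5c0e272399d0ea763b9e0f27a3d9f0fa7e3fd008242219108a4623920924a259309a4e27c904a26138b05a2e17c88462814c80422a15c281709844080701, 0, 12, 0x210000411000a11000e10001011001610, []⟩]

theorem t9_844_5 : jobs 8 S9 b8_844 j9_844_5 = true := by decide +kernel

noncomputable def j9_844_6 : List Job := [
  ⟨51, 0x5008242219108a4623920924a259309a4e27c904a26138b05a2e17c88462814c80422a15c281709844080701, 0, 8, 0x210000610000a10000c01000e10, []⟩]

theorem t9_844_6 : jobs 8 S9 b8_844 j9_844_6 = true := by decide +kernel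

noncomputable def j9_844_7 : List Job := [
  ⟨49, 0x5c4e6753b1e0f47c3fdc0e4743b9e4f67d3f504864523120944c27d00844423924964d274904a26138b05a2e17c301a0e07c281709844100a0603c080701, 0, 8, 0xa01000e12, []⟩]

theorem t9_844_7 : jobs 8 S9 b8_844 j9_844_7 = true := by decide +kernel

noncomputable def j9_844_8 : List Job := [
  ⟨47, 0x504864523120944c27d00844423924964d27488462814c80422a15c301a0e07c281709844100a0603c080701, 0, 2, 0x201, []⟩]

theorem t9_844_8 : jobs 8 S9 b8_844 j9_844_8 = true := by decide +kernel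

noncomputable def j9_844_9 : List Job := [
  ⟨46, 0x488462814c80422a15c301a0e07c281709844100a0603c080701, 0, 2, 0x0, []⟩]

theorem t9_844_9 : jobs 8 S9 b8_844 j9_844_9 = true := by decide +kernel

noncomputable def j9_844_10 : List Job := [
  ⟨45, 0x5c4e6753b1e4f67d3f5c0e4743b9e0f47c3fd04864523124964d27500844423920944c27c88462814c80422a15c301a0e07c281709844100a0603c080701, 0, 13, 0x810000a11001010001211, []⟩]

theorem t9_844_10 : jobs 8 S9 b8_844 j9_844_10 = true := by decide +kernel

noncomputable def j9_844_11 : List Job := [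
  ⟨40, 0x488462a15c84512014c281709844080701, 0, 8, 0x0, []⟩]

theorem t9_844_11 : jobs 8 S9 b8_844 j9_844_11 = true := by decide +kernel

noncomputable def j9_844_12 : List Job := [
  ⟨39, 0x5008242219108a4623920924a259309a4e27c88462a15c84512014c281709844080701, 0, 8, 0x201000401000a01000c01, []⟩]

theorem t9_844_12 : jobs 8 S9 b8_844 j9_844_12 = true := by decide +kernel

noncomputable def j9_844_13 : List Job := [
  ⟨38, 0x488462a15c845320144281709844080701, 0, 8, 0x201000401000601000801000a01000c01000e01001001, []⟩]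

theorem t9_844_13 : jobs 8 S9 b8_844 j9_844_13 = true := by decide +kernel

noncomputable def j9_844_14 : List Job := [
  ⟨37, 0x5008242219108a4623920924a259309a4e27c88462a15c845320144281709844080701, 0, 16, 0x201000401000601000801001201001401001601001801, []⟩]

theorem t9_844_14 : jobs 8 S9 b8_844 j9_844_14 = true := by decide +kernel

noncomputable def j9_844_15 : List Job := [
  ⟨33, 0x504864523124964d27500844423920944c27c301a0e07c281709844100a0603c080701, 0, 2, 0x201000401, []⟩]

theorem t9_844_15 : jobs 8 S9 b8_844 j9_844_15 = true := by decide +kernel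

noncomputable def j9_844_16 : List Job := [
  ⟨31, 0x504864523120944c27d00844423924964d274904a26138b05a2e17c88462a15c84512014c301a0e07c281709844100a0603c080701, 0, 8, 0xa01000e01, []⟩]

theorem t9_844_16 : jobs 8 S9 b8_844 j9_844_16 = true := by decide +kernel

noncomputable def j9_844_17 : List Job := [
  ⟨29, 0x504864523124964d27500844423920944c27c904a26138b05a2e17c88462a15c845320144301a0e07c281709844100a0603c080701, 0, 8, 0x201000401, []⟩]

theorem t9_844_17 : jobs 8 S9 b8_844 j9_844_17 = true := by decide +kernel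

noncomputable def j9_844_18 : List Job := [
  ⟨20, 0x4281709844080701, 0, 4, 0x0, []⟩]

theorem t9_844_18 : jobs 8 S9 b8_844 j9_844_18 = true := by decide +kernel

noncomputable def j9_844_19 : List Job := [
  ⟨19, 0x520924a259309a4e27d008242219108a4623c281709844080701, 0, 4, 0x201000401000601000801, []⟩]

theorem t9_844_19 : jobs 8 S9 b8_844 j9_844_19 = true := by decide +kernel

noncomputable def j9_844_20 : List Job := [
  ⟨18, 0x4281709844080701, 0, 2, 0x0, []⟩]

theorem t9_844_20 : jobs 8 S9 b8_844 j9_844_20 = true := by decide +kernel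

noncomputable def j9_844_21 : List Job := [
  ⟨17, 0x520924a259309a4e27d008242219108a4623c281709844080701, 0, 2, 0x201000401, []⟩]

theorem t9_844_21 : jobs 8 S9 b8_844 j9_844_21 = true := by decide +kernel

noncomputable def j9_844_22 : List Job := [
  ⟨16, 0x4904a26138b05a2e17c804222118a0522a15c281709844080701, 0, 6, 0xa01000c01, []⟩]

theorem t9_844_22 : jobs 8 S9 b8_844 j9_844_22 = true := by decide +kernel

noncomputable def j9_844_23 : List Job := [
  ⟨15, 0x520924a259309a4e27d008242219108a4623c904a26138b05a2e17c804222118a0522a15c281709844080701, 0, 12, 0x201000601, []⟩]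

theorem t9_844_23 : jobs 8 S9 b8_844 j9_844_23 = true := by decide +kernel

noncomputable def j9_844_24 : List Job := [
  ⟨14, 0x4904a26138b05a2e17c804222118a0522a15c281709844080701, 0, 4, 0x201000601000801, []⟩]

theorem t9_844_24 : jobs 8 S9 b8_844 j9_844_24 = true := by decide +kernel

noncomputable def j9_844_25 : List Job := [
  ⟨13, 0x520924a259309a4e27d008242219108a4623c904a26138b05a2e17c804222118a0522a15c281709844080701, 0, 6, 0x201000a01, []⟩]

theorem t9_844_25 : jobs 8 S9 b8_844 j9_844_25 = true := by decide +kernel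

noncomputable def j9_844_26 : List Job := [
  ⟨9, 0x524964d27520944c27d04864523500844423c804222118a0522a15c301a0e07c281709844100a0603c080701, 0, 8, 0x210000411, []⟩]

theorem t9_844_26 : jobs 8 S9 b8_844 j9_844_26 = true := by decide +kernel

noncomputable def j9_844_27 : List Job := [
  ⟨5, 0x4984e2c16c904a2e17c8c552215c845320144301a0e07c281709844100a0603c080701, 0, 8, 0x210000411, []⟩]

theorem t9_844_27 : jobs 8 S9 b8_844 j9_844_27 = true := by decide +kernel

noncomputable def j9_844_28 : List Job := [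
  ⟨4, 0x4984e2c16c904a2e17c281709844080701, 0, 1, 0x201, []⟩]

theorem t9_844_28 : jobs 8 S9 b8_844 j9_844_28 = true := by decide +kernel

noncomputable def j9_844_29 : List Job := [
  ⟨3, 0x4984e2c16c904a2e17c281709844080701, 0, 1, 0x201, []⟩]

theorem t9_844_29 : jobs 8 S9 b8_844 j9_844_29 = true := by decide +kernel

noncomputable def j9_844_30 : List Job := [
  ⟨2, 0x4984e2c16c904a2e17c281709844080701, 0, 4, 0x201000401000601000801, []⟩]

theorem t9_844_30 : jobs 8 S9 b8_844 j9_844_30 = true := by decide +kernel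

noncomputable def j9_844_31 : List Job := [
  ⟨1, 0x488462a15c80422814c281709844080701, 0, 4, 0x201000401000601000801, []⟩]

theorem t9_844_31 : jobs 8 S9 b8_844 j9_844_31 = true := by decide +kernel

noncomputable def j9_844_32 : List Job := [
  ⟨0, 0x48c552215c845320144281709844080701, 0, 10, 0x201000401000601000801000a01000c01000e01001001001201001401, []⟩]

theorem t9_844_32 : jobs 8 S9 b8_844 j9_844_32 = true := by decide +kernel

theorem d9_844 : Dn 8 S9 b8_844 := dn_of (Js := j9_844_0 ++ (j9_844_1 ++ (j9_844_2 ++ (j9_844_3 ++ (j9_844_4 ++ (j9_844_5 ++ (j9_844_6 ++ (j9_844_7 ++ (j9_844_8 ++ (j9_844_9 ++ (j9_844_10 ++ (j9_844_11 ++ (j9_844_12 ++ (j9_844_13 ++ (j9_844_14 ++ (j9_844_15 ++ (j9_844_16 ++ (j9_844_17 ++ (j9_844_18 ++ (j9_844_19 ++ (j9_844_20 ++ (j9_844_21 ++ (j9_844_22 ++ (j9_844_23 ++ (j9_844_24 ++ (j9_844_25 ++ (j9_844_26 ++ (j9_844_27 ++ (j9_844_28 ++ (j9_844_29 ++ (j9_844_30 ++ (j9_844_31 ++ (j9_844_32 ++ [])))))))))))))))))))))))))))))))))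
  (jobs_append t9_844_0 <| jobs_append t9_844_1 <| jobs_append t9_844_2 <| jobs_append t9_844_3 <| jobs_append t9_844_4 <| jobs_append t9_844_5 <| jobs_append t9_844_6 <| jobs_append t9_844_7 <| jobs_append t9_844_8 <| jobs_append t9_844_9 <| jobs_append t9_844_10 <| jobs_append t9_844_11 <| jobs_append t9_844_12 <| jobs_append t9_844_13 <| jobs_append t9_844_14 <| jobs_append t9_844_15 <| jobs_append t9_844_16 <| jobs_append t9_844_17 <| jobs_append t9_844_18 <| jobs_append t9_844_19 <| jobs_append t9_844_20 <| jobs_append t9_844_21 <| jobs_append t9_844_22 <| jobs_append t9_844_23 <| jobs_append t9_844_24 <| jobs_append t9_844_25 <| jobs_append t9_844_26 <| jobs_append t9_844_27 <| jobs_append t9_844_28 <| jobs_append t9_844_29 <| jobs_append t9_844_30 <| jobs_append t9_844_31 <| jobs_append t9_844_32 <| List.forall_mem_nil _) (by decide +kernel)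

noncomputable def j9_845_0 : List Job := [
  ⟨63, 0x540a25229950aa562b960b25a2d970ba5e2fd008242219108a4623920924a259309a4e27c844d2013c1e0d01, 0, 12, 0x0, []⟩]

theorem t9_845_0 : jobs 8 S9 b8_845 j9_845_0 = true := by decide +kernel

noncomputable def j9_845_1 : List Job := [
  ⟨56, 0x4844b20124160901, 0, 1, 0x0, []⟩]

theorem t9_845_1 : jobs 8 S9 b8_845 j9_845_1 = true := by decide +kernel

noncomputable def j9_845_2 : List Job := [
  ⟨53, 0x4844b20124160901, 0, 10, 0x0, []⟩]

theorem t9_845_2 : jobs 8 S9 b8_845 j9_845_2 = true := by decide +kernel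

noncomputable def j9_845_3 : List Job := [
  ⟨45, 0x5c0e272399d0ea763b9e0f27a3d9f0fa7e3fd80c26231990ca66339a0d26a359b0da6e37d40a25229950aa562b960b25a2d970ba5e2fd008242219108a4623920924a259309a4e27c844f201341e0d01, 0, 2, 0x0, []⟩]

theorem t9_845_3 : jobs 8 S9 b8_845 j9_845_3 = true := by decide +kernel

noncomputable def j9_845_4 : List Job := [
  ⟨43, 0x5c0e272399d0ea763b9e0f27a3d9f0fa7e3fd80c26231990ca66339a0d26a359b0da6e37d40a25229950aa562b960b25a2d970ba5e2fd008242219108a4623920924a259309a4e27c844d2013c1e0d01, 0, 10, 0x0, []⟩]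

theorem t9_845_4 : jobs 8 S9 b8_845 j9_845_4 = true := by decide +kernel

noncomputable def j9_845_5 : List Job := [
  ⟨34, 0x4964921904160901, 0, 4, 0x0, []⟩]

theorem t9_845_5 : jobs 8 S9 b8_845 j9_845_5 = true := by decide +kernel

noncomputable def j9_845_6 : List Job := [
  ⟨33, 0x4964921904160901, 0, 10, 0x0, []⟩]

theorem t9_845_6 : jobs 8 S9 b8_845 j9_845_6 = true := by decide +kernel

noncomputable def j9_845_7 : List Job := [
  ⟨32, 0x5c0e272399d0ea763b9e0f27a3d9f0fa7e3fd008242219108a4623920924a259309a4e27c904b2010c160901, 0, 12, 0x0, []⟩]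

theorem t9_845_7 : jobs 8 S9 b8_845 j9_845_7 = true := by decide +kernel

noncomputable def j9_845_8 : List Job := [
  ⟨31, 0x5c0e272399d0ea763b9e0f27a3d9f0fa7e3fd008242219108a4623920924a259309a4e27c904b2010c160901, 0, 12, 0x0, []⟩]

theorem t9_845_8 : jobs 8 S9 b8_845 j9_845_8 = true := by decide +kernel

noncomputable def j9_845_9 : List Job := [
  ⟨30, 0x580c26231990ca66339a0d26a359b0da6e37d008242219108a4623920924a259309a4e27c904b2010c160901, 0, 12, 0x0, []⟩]

theorem t9_845_9 : jobs 8 S9 b8_845 j9_845_9 = true := by decide +kernel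

noncomputable def j9_845_10 : List Job := [
  ⟨29, 0x580c26231990ca66339a0d26a359b0da6e37d008242219108a4623920924a259309a4e27c964921904160901, 0, 12, 0x0, []⟩]

theorem t9_845_10 : jobs 8 S9 b8_845 j9_845_10 = true := by decide +kernel

noncomputable def j9_845_11 : List Job := [
  ⟨28, 0x540a25229950aa562b960b25a2d970ba5e2fd008242219108a4623920924a259309a4e27c904b2010c160901, 0, 12, 0x0, []⟩]

theorem t9_845_11 : jobs 8 S9 b8_845 j9_845_11 = true := by decide +kernel

noncomputable def j9_845_12 : List Job := [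
  ⟨27, 0x540a25229950aa562b960b25a2d970ba5e2fd008242219108a4623920924a259309a4e27c904b2010c160901, 0, 12, 0x0, []⟩]

theorem t9_845_12 : jobs 8 S9 b8_845 j9_845_12 = true := by decide +kernel

noncomputable def j9_845_13 : List Job := [
  ⟨26, 0x4904b2010c160901, 0, 10, 0x0, []⟩]

theorem t9_845_13 : jobs 8 S9 b8_845 j9_845_13 = true := by decide +kernel

noncomputable def j9_845_14 : List Job := [
  ⟨25, 0x5c0e272399d0ea763b9e0f27a3d9f0fa7e3fd80c26231990ca66339a0d26a359b0da6e37d40a25229950aa562b960b25a2d970ba5e2fd008242219108a4623920924a259309a4e27c904b2010c160901, 0, 10, 0x0, []⟩]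

theorem t9_845_14 : jobs 8 S9 b8_845 j9_845_14 = true := by decide +kernel

noncomputable def j9_845_15 : List Job := [
  ⟨24, 0x4964921904160901, 0, 10, 0x0, []⟩]

theorem t9_845_15 : jobs 8 S9 b8_845 j9_845_15 = true := by decide +kernel

noncomputable def j9_845_16 : List Job := [
  ⟨23, 0x5c0e272399d0ea763b9e0f27a3d9f0fa7e3fd80c26231990ca66339a0d26a359b0da6e37d40a25229950aa562b960b25a2d970ba5e2fd008242219108a4623920924a259309a4e27c964921904160901, 0, 25, 0x1801, []⟩]

theorem t9_845_16 : jobs 8 S9 b8_845 j9_845_16 = true := by decide +kernel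

noncomputable def j9_845_17 : List Job := [
  ⟨22, 0x5c0e272399d0ea763b9e0f27a3d9f0fa7e3fd008242219108a4623920924a259309a4e27c88472010c080701, 0, 12, 0x0, []⟩]

theorem t9_845_17 : jobs 8 S9 b8_845 j9_845_17 = true := by decide +kernel

noncomputable def j9_845_18 : List Job := [
  ⟨21, 0x580c26231990ca66339a0d26a359b0da6e37d008242219108a4623920924a259309a4e27c884721904080701, 0, 12, 0x0, []⟩]

theorem t9_845_18 : jobs 8 S9 b8_845 j9_845_18 = true := by decide +kernel

noncomputable def j9_845_19 : List Job := [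
  ⟨20, 0x540a25229950aa562b960b25a2d970ba5e2fd008242219108a4623920924a259309a4e27c88472010c080701, 0, 12, 0x0, []⟩]

theorem t9_845_19 : jobs 8 S9 b8_845 j9_845_19 = true := by decide +kernel

noncomputable def j9_845_20 : List Job := [
  ⟨19, 0x4884721904080701, 0, 13, 0x0, []⟩]

theorem t9_845_20 : jobs 8 S9 b8_845 j9_845_20 = true := by decide +kernel

noncomputable def j9_845_21 : List Job := [
  ⟨18, 0x5c0e272399d0ea763b9e0f27a3d9f0fa7e3fd80c26231990ca66339a0d26a359b0da6e37d40a25229950aa562b960b25a2d970ba5e2fd008242219108a4623920924a259309a4e27c884721904080701, 0, 15, 0x0, []⟩]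

theorem t9_845_21 : jobs 8 S9 b8_845 j9_845_21 = true := by decide +kernel

noncomputable def j9_845_22 : List Job := [
  ⟨5, 0x5c0e272399d0ea763b9e0f27a3d9f0fa7e3fd80c26231990ca66339a0d26a359b0da6e37d40a25229950aa562b960b25a2d970ba5e2fd008242219108a4623920924a259309a4e27cfe7d219047e3d01, 0, 13, 0x200000800001400, [(9, ⟨3115, 0x9c0069012001110009000401020001000001, 0x19d3788022090200802⟩), (3, ⟨3114, 0x8e006a013f0117000f010701030101010001, 0x18e390fc2e0f0380c02⟩), (0, ⟨3113, 0x8e016a003f0017000f000701030101010001, 0x18e390fc2e0f0380c02⟩)]⟩]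

theorem t9_845_22 : jobs 8 S9 b8_845 j9_845_22 = true := by decide +kernel

noncomputable def j9_845_23 : List Job := [
  ⟨4, 0x4904a26138b05a2e17c301a0e07c281709844100a0603c080701, 0, 8, 0xa12000c13000e12001013, []⟩]

theorem t9_845_23 : jobs 8 S9 b8_845 j9_845_23 = true := by decide +kernel

noncomputable def j9_845_24 : List Job := [
  ⟨0, 0x488462814c80422a15c301a0e07c281709844100a0603c080701, 0, 2, 0x0, []⟩]

theorem t9_845_24 : jobs 8 S9 b8_845 j9_845_24 = true := by decide +kernel

theorem d9_845 : Dn 8 S9 b8_845 := dn_of (Js := j9_845_0 ++ (j9_845_1 ++ (j9_845_2 ++ (j9_845_3 ++ (j9_845_4 ++ (j9_845_5 ++ (j9_845_6 ++ (j9_845_7 ++ (j9_845_8 ++ (j9_845_9 ++ (j9_845_10 ++ (j9_845_11 ++ (j9_845_12 ++ (j9_845_13 ++ (j9_845_14 ++ (j9_845_15 ++ (j9_845_16 ++ (j9_845_17 ++ (j9_845_18 ++ (j9_845_19 ++ (j9_845_20 ++ (j9_845_21 ++ (j9_845_22 ++ (j9_845_23 ++ (j9_845_24 ++ [])))))))))))))))))))))))))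
  (jobs_append t9_845_0 <| jobs_append t9_845_1 <| jobs_append t9_845_2 <| jobs_append t9_845_3 <| jobs_append t9_845_4 <| jobs_append t9_845_5 <| jobs_append t9_845_6 <| jobs_append t9_845_7 <| jobs_append t9_845_8 <| jobs_append t9_845_9 <| jobs_append t9_845_10 <| jobs_append t9_845_11 <| jobs_append t9_845_12 <| jobs_append t9_845_13 <| jobs_append t9_845_14 <| jobs_append t9_845_15 <| jobs_append t9_845_16 <| jobs_append t9_845_17 <| jobs_append t9_845_18 <| jobs_append t9_845_19 <| jobs_append t9_845_20 <| jobs_append t9_845_21 <| jobs_append t9_845_22 <| jobs_append t9_845_23 <| jobs_append t9_845_24 <| List.forall_mem_nil _) (by decide +kernel)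

noncomputable def j9_846_0 : List Job := [
  ⟨49, 0x5008242219108a4623920924a259309a4e27ce0723a1d8f07a3e1fcc06232198d06a361bc88472010c60321a0d8703a1e0fc402212098502a160bc080701, 0, 16, 0x200000600000a00000e00001200001401001600001801001a00001c01001e00002001, [(14, ⟨3147, 0xb5004b01200012000b000501020001010001, 0x1b625080240b0280802⟩), (12, ⟨3145, 0xb5004b00200012000b010501020001010001, 0x1b625080240b0280802⟩), (10, ⟨3146, 0xb5004b01200012000b000501020001010001, 0x1b625080240b0280802⟩), (8, ⟨3144, 0xb5004b00200012000b010501020001010001, 0x1b625080240b0280802⟩), (6, ⟨3141, 0xb5014b00200012010b000500020101000001, 0x1b625080240b0280802⟩), (4, ⟨3143, 0xb5014b01200012010b010500020101000001, 0x1b625080240b0280802⟩), (2, ⟨3140, 0xb5014b00200012010b000500020101000001, 0x1b625080240b0280802⟩), (0, ⟨3142, 0xb5014b01200012010b010500020101000001, 0x1b625080240b0280802⟩)]⟩]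

theorem t9_846_0 : jobs 8 S9 b8_846 j9_846_0 = true := by decide +kernel

noncomputable def j9_846_1 : List Job := [
  ⟨48, 0x4e0723a1d8f07a3e1fcc06232198d06a361bc88472190460321a0d8703a1e0fc402212098502a160bc080701, 0, 14, 0x240000601000801000a00000e01001001001200001400001601001800001a01001c01, [(11, ⟨3138, 0xb5014a01200012010a000500020101010001, 0x1b625080240a0280802⟩), (9, ⟨3137, 0xc301670020001a0108010401020001010001, 0x1e43308030080200802⟩), (8, ⟨3136, 0xb5014a00200012010a010500020101010001, 0x1b625080240a0280802⟩), (4, ⟨3139, 0xb5004a00200012000a000501020001010001, 0x1b625080240a0280802⟩)]⟩]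

theorem t9_846_1 : jobs 8 S9 b8_846 j9_846_1 = true := by decide +kernel

noncomputable def j9_846_2 : List Job := [
  ⟨47, 0x580c26231990ca66339a0d26a359b0da6e37d008242219108a4623920924a259309a4e27ce0723a1d8f07a3e1fcc06232198d06a361bc88472190460321a0d8703a1e0fc402212098502a160bc080701, 0, 18, 0x240000401000600000801000a40000c01000e00001201001600001a01001e40002201, [(10, ⟨3135, 0xb5014a01200012000a000501020101000001, 0x1b625080240a0280802⟩), (6, ⟨3134, 0xb5014a00200012000a010501020101000001, 0x1b625080240a0280802⟩), (2, ⟨3133, 0xb5014a01200012010a000500020101000001, 0x1b625080240a0280802⟩)]⟩]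

theorem t9_846_2 : jobs 8 S9 b8_846 j9_846_2 = true := by decide +kernel

noncomputable def j9_846_3 : List Job := [
  ⟨40, 0x580c264329a0d26e37d00824422920924e27cc06232198d06a361bc88472010c402212098502a160bc080701, 0, 12, 0x201000600000a01000c01000e00001001001201001600, [(10, ⟨3132, 0x820140002000110109000400020001000001, 0x1822008022090200802⟩), (6, ⟨3131, 0x820140002000110109000400020001000001, 0x1822008022090200802⟩), (2, ⟨3130, 0x820140002000110109000400020001000001, 0x1822008022090200802⟩)]⟩]

theorem t9_846_3 : jobs 8 S9 b8_846 j9_846_3 = true := by decide +kernel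

noncomputable def j9_846_4 : List Job := [
  ⟨39, 0x580c264329a0d26e37d00824422920924e27cc06232198d06a361bc884721904402212098502a160bc080701, 0, 12, 0x240000401000601000801000a00000e01001200001601, [(8, ⟨3128, 0x820140002000110009010400020001000001, 0x1822008022090200802⟩), (4, ⟨3129, 0x820140002000110009010400020001000001, 0x1822008022090200802⟩)]⟩]

theorem t9_846_4 : jobs 8 S9 b8_846 j9_846_4 = true := by decide +kernel

noncomputable def j9_846_5 : List Job := [
  ⟨32, 0x580c264329a0d26e37d00824422920924e27cc06232198d06a361bca0522a158b05a2e17c88472010c402212098502a160bc20120a058301a0e07c080701, 0, 24, 0x200000400000600000a01000e00001201001600001a01001e00002201002600002a01002e00, [(22, ⟨3127, 0x820140002101110109010500020001010001, 0x1822008422090280802⟩), (18, ⟨3126, 0x820140002101110109010500020001010001, 0x1822008422090280802⟩), (14, ⟨3125, 0x820140002101110109010500020001010001, 0x1822008422090280802⟩), (10, ⟨3123, 0x820140002000110109010500020001000001, 0x1822008022090280802⟩), (6, ⟨3122, 0x820140002000110109010500020001000001,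 0x1822008022090280802⟩), (2, ⟨3121, 0x820140002000110109010500020001000001, 0x1822008022090280802⟩), (1, ⟨3124, 0x820140002000110109010500020001000001, 0x1822008022090280802⟩), (0, ⟨3120, 0x820140002000110109010500020001000001, 0x1822008022090280802⟩)]⟩]

theorem t9_846_5 : jobs 8 S9 b8_846 j9_846_5 = true := by decide +kernel

noncomputable def j9_846_6 : List Job := [
  ⟨31, 0x580c264329a0d26e37d00824422920924e27cc06232198d06a361bca0522a158b05a2e17c884721904402212098502a160bc20120a058301a0e07c080701, 0, 24, 0x200000400000601000a00000e01001240001601001a40001e01002200002601002a40002e01, [(16, ⟨3119, 0x820140002000110009000500020001000001, 0x1822008022090280802⟩), (4, ⟨3117, 0x820140002000110009000500020001010001, 0x1822008022090280802⟩), (1, ⟨3118, 0x820140002000110009000500020001010001, 0x1822008022090280802⟩), (0, ⟨3116, 0x820140002000110009000500020001010001, 0x1822008022090280802⟩)]⟩]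

theorem t9_846_6 : jobs 8 S9 b8_846 j9_846_6 = true := by decide +kernel

noncomputable def j9_846_7 : List Job := [
  ⟨17, 0x540a25229950aa562b960b25a2d970ba5e2fd008242219108a4623920924a259309a4e27c844f201341e0d01, 0, 3, 0x401, []⟩]

theorem t9_846_7 : jobs 8 S9 b8_846 j9_846_7 = true := by decide +kernel

noncomputable def j9_846_8 : List Job := [
  ⟨11, 0x540a25229950aa562b960b25a2d970ba5e2fd008242219108a4623920924a259309a4e27c844d2013c1e0d01, 0, 12, 0x0, []⟩]

theorem t9_846_8 : jobs 8 S9 b8_846 j9_846_8 = true := by decide +kernel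

noncomputable def j9_846_9 : List Job := [
  ⟨3, 0x540a25229950aa562b960b25a2d970ba5e2fd008242219108a4623920924a259309a4e27c844f201341e0d01, 0, 3, 0x401, []⟩]

theorem t9_846_9 : jobs 8 S9 b8_846 j9_846_9 = true := by decide +kernel

theorem d9_846 : Dn 8 S9 b8_846 := dn_of (Js := j9_846_0 ++ (j9_846_1 ++ (j9_846_2 ++ (j9_846_3 ++ (j9_846_4 ++ (j9_846_5 ++ (j9_846_6 ++ (j9_846_7 ++ (j9_846_8 ++ (j9_846_9 ++ []))))))))))
  (jobs_append t9_846_0 <| jobs_append t9_846_1 <| jobs_append t9_846_2 <| jobs_append t9_846_3 <| jobs_append t9_846_4 <| jobs_append t9_846_5 <| jobs_append t9_846_6 <| jobs_append t9_846_7 <| jobs_append t9_846_8 <| jobs_append t9_846_9 <| List.forall_mem_nil _) (by decide +kernel)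

noncomputable def j9_847_0 : List Job := [
  ⟨61, 0x4562911884160901, 0, 3, 0x401, []⟩]

theorem t9_847_0 : jobs 8 S9 b8_847 j9_847_0 = true := by decide +kernel

noncomputable def j9_847_1 : List Job := [
  ⟨60, 0x4562911884160901, 0, 2, 0x401, []⟩]

theorem t9_847_1 : jobs 8 S9 b8_847 j9_847_1 = true := by decide +kernel

noncomputable def j9_847_2 : List Job := [
  ⟨59, 0x4562911884160901, 0, 8, 0x400000c00, [(5, ⟨3150, 0x5880490066004008601030208040408001, 0x1a1248d4200a0101402⟩), (1, ⟨3149, 0x5880480066004008600030208040408001, 0x1a1240d4200a0101402⟩)]⟩]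

theorem t9_847_2 : jobs 8 S9 b8_847 j9_847_2 = true := by decide +kernel

noncomputable def j9_847_3 : List Job := [
  ⟨58, 0x4562911884160901, 0, 2, 0x400, [(1, ⟨3148, 0x42004c026e044008601030208040408001, 0x182250dc200a0101402⟩)]⟩]

theorem t9_847_3 : jobs 8 S9 b8_847 j9_847_3 = true := by decide +kernel

noncomputable def j9_847_4 : List Job := [
  ⟨56, 0x42e15098440e0501, 0, 2, 0x201000401, []⟩]

theorem t9_847_4 : jobs 8 S9 b8_847 j9_847_4 = true := by decide +kernel

noncomputable def j9_847_5 : List Job := [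
  ⟨55, 0x42e15098440e0501, 0, 4, 0x401, []⟩]

theorem t9_847_5 : jobs 8 S9 b8_847 j9_847_5 = true := by decide +kernel

noncomputable def j9_847_6 : List Job := [
  ⟨54, 0x42e15098440e0501, 0, 2, 0x401, []⟩]

theorem t9_847_6 : jobs 8 S9 b8_847 j9_847_6 = true := by decide +kernel

noncomputable def j9_847_7 : List Job := [
  ⟨49, 0x42e15098440e0501, 0, 2, 0x201000401, []⟩]

theorem t9_847_7 : jobs 8 S9 b8_847 j9_847_7 = true := by decide +kernel

noncomputable def j9_847_8 : List Job := [
  ⟨48, 0x42e15098440e0501, 0, 7, 0x401000a01000c01000e01, []⟩]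

theorem t9_847_8 : jobs 8 S9 b8_847 j9_847_8 = true := by decide +kernel

noncomputable def j9_847_9 : List Job := [
  ⟨47, 0x42e15098440e0501, 0, 4, 0x401000601000801, []⟩]

theorem t9_847_9 : jobs 8 S9 b8_847 j9_847_9 = true := by decide +kernel

noncomputable def j9_847_10 : List Job := [
  ⟨42, 0x4361909844160901, 0, 2, 0x201000401, []⟩]

theorem t9_847_10 : jobs 8 S9 b8_847 j9_847_10 = true := by decide +kernel

noncomputable def j9_847_11 : List Job := [
  ⟨41, 0x4361909844160901, 0, 7, 0x401000601000c01000e01, []⟩]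

theorem t9_847_11 : jobs 8 S9 b8_847 j9_847_11 = true := by decide +kernel

noncomputable def j9_847_12 : List Job := [
  ⟨40, 0x4361909844160901, 0, 4, 0x401000601000801, []⟩]

theorem t9_847_12 : jobs 8 S9 b8_847 j9_847_12 = true := by decide +kernel

noncomputable def j9_847_13 : List Job := [
  ⟨22, 0x43e1d0d8642e15098441e0d058240e0501, 0, 12, 0x204000401000801000a04000c01001204001401, []⟩]

theorem t9_847_13 : jobs 8 S9 b8_847 j9_847_13 = true := by decide +kernel

noncomputable def j9_847_14 : List Job := [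
  ⟨21, 0x43e1d0d8642e15098441e0d058240e0501, 0, 25, 0x204000401000601001a00001c01001e01002201002401002601002a04, [(12, ⟨2464, 0x1c000770090000740002010e008200008020001, 0x1d23a8803a070100410⟩)]⟩]

theorem t9_847_14 : jobs 8 S9 b8_847 j9_847_14 = true := by decide +kernel

theorem d9_847 : Dn 8 S9 b8_847 := dn_of (Js := j9_847_0 ++ (j9_847_1 ++ (j9_847_2 ++ (j9_847_3 ++ (j9_847_4 ++ (j9_847_5 ++ (j9_847_6 ++ (j9_847_7 ++ (j9_847_8 ++ (j9_847_9 ++ (j9_847_10 ++ (j9_847_11 ++ (j9_847_12 ++ (j9_847_13 ++ (j9_847_14 ++ [])))))))))))))))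
  (jobs_append t9_847_0 <| jobs_append t9_847_1 <| jobs_append t9_847_2 <| jobs_append t9_847_3 <| jobs_append t9_847_4 <| jobs_append t9_847_5 <| jobs_append t9_847_6 <| jobs_append t9_847_7 <| jobs_append t9_847_8 <| jobs_append t9_847_9 <| jobs_append t9_847_10 <| jobs_append t9_847_11 <| jobs_append t9_847_12 <| jobs_append t9_847_13 <| jobs_append t9_847_14 <| List.forall_mem_nil _) (by decide +kernel)

noncomputable def j9_848_0 : List Job := [
  ⟨63, 0x4783f1a0dc582f1209c301b0804c160901, 0, 50, 0xe02001003001202001402001603001802002803002a02002c03002e01003001003201003803004201004401004601004e02005202005402005603005802005c01, []⟩]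

theorem t9_848_0 : jobs 8 S9 b8_848 j9_848_0 = true := by decide +kernel

noncomputable def j9_848_1 : List Job := [
  ⟨62, 0x4703b180cc562911884301b0804c160901, 0, 47, 0xc20000e01001020001220001423002002002201002421002601002a01003022003201003422003c20003e01004021004822004a01004c03004e22005001005221005601, []⟩]

theorem t9_848_1 : jobs 8 S9 b8_848 j9_848_1 = true := by decide +kernel

noncomputable def j9_848_2 : List Job := [
  ⟨61, 0x4703b180cc562911884301b0804c160901, 0, 47, 0xc20000e01001020001220001421002021002201002422002601002a01003020003201003420003c21003e01004020004820004a01004c21004e20005001005223005601, []⟩]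

theorem t9_848_2 : jobs 8 S9 b8_848 j9_848_2 = true := by decide +kernel

noncomputable def j9_848_3 : List Job := [
  ⟨60, 0x4783f1c0ec6837180cc180f0402c080701, 0, 51, 0x201000403000601000801000a01002201002601002801002a03002c01002e03004001004201004401004801005802005a01, []⟩]

theorem t9_848_3 : jobs 8 S9 b8_848 j9_848_3 = true := by decide +kernel

noncomputable def j9_848_4 : List Job := [
  ⟨59, 0x4582f140ac482711884180f0402c080701, 0, 59, 0x220000401000621000820000a03002201002a23002c01002e20003020003223004821004a01004c22005001005601005c01006201006620006801006a20, []⟩]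

theorem t9_848_4 : jobs 8 S9 b8_848 j9_848_4 = true := by decide +kernel

noncomputable def j9_848_5 : List Job := [
  ⟨58, 0x4381f0c06c281709844180f0402c080701, 0, 30, 0x201000401000601000801000a01001603001a03001c02001e03002402002603002802002c03003a01003c02, []⟩]

theorem t9_848_5 : jobs 8 S9 b8_848 j9_848_5 = true := by decide +kernel

noncomputable def j9_848_6 : List Job := [
  ⟨57, 0x4783f1c0ec6837198c4582f140ac482711884381f0c06c281709844180f0402c080701, 0, 58, 0x201000601000801000a01000c21001020001221001420001821001a20001c21002e00003001003200003401003601003801003a01003e01004020004201004400004601004801004a01004e01005801005c20006420006820006a01006e01, [(33, ⟨3157, 0x1b2004500b60044002120002000700404000001, 0x1df2718020090781002⟩), (24, ⟨3156, 0x130015800950004000100102000280404020001, 0x1982c0b020080181002⟩), (22, ⟨3155, 0x130005800150044000100002000280404020001, 0x1982c0b020080181002⟩)]⟩]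

theorem t9_848_6 : jobs 8 S9 b8_848 j9_848_6 = true := by decide +kernel

noncomputable def j9_848_7 : List Job := [
  ⟨56, 0x4783f1a0dc582f13894301b0804c100b01, 0, 30, 0x202000401000602000802000a02001603001a01001c03001e01002203002602002a02002e01003201003403003601003a01, []⟩]

theorem t9_848_7 : jobs 8 S9 b8_848 j9_848_7 = true := by decide +kernel

noncomputable def j9_848_8 : List Job := [
  ⟨55, 0x4703b180cc502b11884301b0804c100b01, 0, 30, 0x220000401000620000820000a21001420001601001820001a22001c01001e20002622002801002a03002e01003401, []⟩]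

theorem t9_848_8 : jobs 8 S9 b8_848 j9_848_8 = true := by decide +kernel

noncomputable def j9_848_9 : List Job := [
  ⟨54, 0x4783f1c0ec6837180cc1e0d058240e0501, 0, 28, 0xa02000c03002202002402002e02003402, []⟩]

theorem t9_848_9 : jobs 8 S9 b8_848 j9_848_9 = true := by decide +kernel

noncomputable def j9_848_10 : List Job := [
  ⟨53, 0x45e2d158a44e25118841e0d058240e0501, 0, 55, 0xc22000e01002020002201002420003820003a01004022004802004a01005001005201005401005601005801005a01005c01005e01006001006201006401006601006801006a01006c01006e01, []⟩]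

theorem t9_848_10 : jobs 8 S9 b8_848 j9_848_10 = true := by decide +kernel

noncomputable def j9_848_11 : List Job := [
  ⟨52, 0x45e2d158a44e25118841e0d058240e0501, 0, 44, 0x1220001401001a01001c01003020003201003420003c01003e01004001004220004401004a01004c01004e20, []⟩]

theorem t9_848_11 : jobs 8 S9 b8_848 j9_848_11 = true := by decide +kernel

noncomputable def j9_848_12 : List Job := [
  ⟨51, 0x45e2d158a44e25118841e0d058240e0501, 0, 42, 0x1020001201001801001a01002c20002e01003020003801003a01003c01003e20004001004601004801004a22, []⟩]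

theorem t9_848_12 : jobs 8 S9 b8_848 j9_848_12 = true := by decide +kernel

noncomputable def j9_848_13 : List Job := [
  ⟨42, 0x42e15098440e0501, 0, 8, 0x401000c01, []⟩]

theorem t9_848_13 : jobs 8 S9 b8_848 j9_848_13 = true := by decide +kernel

noncomputable def j9_848_14 : List Job := [
  ⟨41, 0x42e15098440e0501, 0, 7, 0x401000601000c01000e01, []⟩]

theorem t9_848_14 : jobs 8 S9 b8_848 j9_848_14 = true := by decide +kernel

noncomputable def j9_848_15 : List Job := [
  ⟨39, 0x4a8572814c88472010c2e15098440e0501, 0, 12, 0x204000401000604000a04000c01000e04001401, []⟩]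

theorem t9_848_15 : jobs 8 S9 b8_848 j9_848_15 = true := by decide +kernel

noncomputable def j9_848_16 : List Job := [
  ⟨38, 0x4a8572814c88472010c2e15098440e0501, 0, 16, 0x204000a04001204001a04, []⟩]

theorem t9_848_16 : jobs 8 S9 b8_848 j9_848_16 = true := by decide +kernel

noncomputable def j9_848_17 : List Job := [
  ⟨37, 0x4ae55299448e45219042e15098440e0501, 0, 28, 0x204000401000804001c04001e01002404002601002a04003204, []⟩]

theorem t9_848_17 : jobs 8 S9 b8_848 j9_848_17 = true := by decide +kernel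

noncomputable def j9_848_18 : List Job := [
  ⟨33, 0x4964921904160901, 0, 2, 0x201000401, []⟩]

theorem t9_848_18 : jobs 8 S9 b8_848 j9_848_18 = true := by decide +kernel

noncomputable def j9_848_19 : List Job := [
  ⟨29, 0x41e0d058240e0501, 0, 7, 0x401000601000c01000e01, []⟩]

theorem t9_848_19 : jobs 8 S9 b8_848 j9_848_19 = true := by decide +kernel

noncomputable def j9_848_20 : List Job := [
  ⟨27, 0x4984f2412c88472010c1e0d058240e0501, 0, 12, 0x204000a04001204, []⟩]

theorem t9_848_20 : jobs 8 S9 b8_848 j9_848_20 = true := by decide +kernel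

noncomputable def j9_848_21 : List Job := [
  ⟨26, 0x49e4d259248e45219041e0d058240e0501, 0, 15, 0x204000a04, []⟩]

theorem t9_848_21 : jobs 8 S9 b8_848 j9_848_21 = true := by decide +kernel

noncomputable def j9_848_22 : List Job := [
  ⟨19, 0x4663111884261101, 0, 2, 0x201000401, []⟩]

theorem t9_848_22 : jobs 8 S9 b8_848 j9_848_22 = true := by decide +kernel

noncomputable def j9_848_23 : List Job := [
  ⟨18, 0x4663111884261101, 0, 7, 0x401000c01, []⟩]

theorem t9_848_23 : jobs 8 S9 b8_848 j9_848_23 = true := by decide +kernel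

noncomputable def j9_848_24 : List Job := [
  ⟨17, 0x4663111884261101, 0, 2, 0x401, []⟩]

theorem t9_848_24 : jobs 8 S9 b8_848 j9_848_24 = true := by decide +kernel

noncomputable def j9_848_25 : List Job := [
  ⟨12, 0x44e25118840e0501, 0, 2, 0x0, []⟩]

theorem t9_848_25 : jobs 8 S9 b8_848 j9_848_25 = true := by decide +kernel

noncomputable def j9_848_26 : List Job := [
  ⟨11, 0x44e25118840e0501, 0, 2, 0x0, []⟩]

theorem t9_848_26 : jobs 8 S9 b8_848 j9_848_26 = true := by decide +kernel

noncomputable def j9_848_27 : List Job := [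
  ⟨10, 0x44e25118840e0501, 0, 6, 0x0, []⟩]

theorem t9_848_27 : jobs 8 S9 b8_848 j9_848_27 = true := by decide +kernel

noncomputable def j9_848_28 : List Job := [
  ⟨9, 0x44e25118840e0501, 0, 2, 0x0, []⟩]

theorem t9_848_28 : jobs 8 S9 b8_848 j9_848_28 = true := by decide +kernel

noncomputable def j9_848_29 : List Job := [
  ⟨5, 0x44e25118840e0501, 0, 3, 0x601, []⟩]

theorem t9_848_29 : jobs 8 S9 b8_848 j9_848_29 = true := by decide +kernel

noncomputable def j9_848_30 : List Job := [
  ⟨4, 0x44e25118840e0501, 0, 2, 0x400, [(1, ⟨3153, 0x43015b0248044000501050004040408001, 0x1862d890200a0280802⟩)]⟩]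

theorem t9_848_30 : jobs 8 S9 b8_848 j9_848_30 = true := by decide +kernel

noncomputable def j9_848_31 : List Job := [
  ⟨3, 0x44e25118840e0501, 0, 7, 0xe00, [(6, ⟨3152, 0x4281400040044000400040004000400001, 0x1842008020080200802⟩)]⟩]

theorem t9_848_31 : jobs 8 S9 b8_848 j9_848_31 = true := by decide +kernel

noncomputable def j9_848_32 : List Job := [
  ⟨2, 0x44e25118840e0501, 0, 2, 0x400, [(1, ⟨3151, 0x4b805b0260044000501040204040400001, 0x1962d8c0200a0200802⟩)]⟩]

theorem t9_848_32 : jobs 8 S9 b8_848 j9_848_32 = true := by decide +kernel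

theorem d9_848 : Dn 8 S9 b8_848 := dn_of (Js := j9_848_0 ++ (j9_848_1 ++ (j9_848_2 ++ (j9_848_3 ++ (j9_848_4 ++ (j9_848_5 ++ (j9_848_6 ++ (j9_848_7 ++ (j9_848_8 ++ (j9_848_9 ++ (j9_848_10 ++ (j9_848_11 ++ (j9_848_12 ++ (j9_848_13 ++ (j9_848_14 ++ (j9_848_15 ++ (j9_848_16 ++ (j9_848_17 ++ (j9_848_18 ++ (j9_848_19 ++ (j9_848_20 ++ (j9_848_21 ++ (j9_848_22 ++ (j9_848_23 ++ (j9_848_24 ++ (j9_848_25 ++ (j9_848_26 ++ (j9_848_27 ++ (j9_848_28 ++ (j9_848_29 ++ (j9_848_30 ++ (j9_848_31 ++ (j9_848_32 ++ [])))))))))))))))))))))))))))))))))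
  (jobs_append t9_848_0 <| jobs_append t9_848_1 <| jobs_append t9_848_2 <| jobs_append t9_848_3 <| jobs_append t9_848_4 <| jobs_append t9_848_5 <| jobs_append t9_848_6 <| jobs_append t9_848_7 <| jobs_append t9_848_8 <| jobs_append t9_848_9 <| jobs_append t9_848_10 <| jobs_append t9_848_11 <| jobs_append t9_848_12 <| jobs_append t9_848_13 <| jobs_append t9_848_14 <| jobs_append t9_848_15 <| jobs_append t9_848_16 <| jobs_append t9_848_17 <| jobs_append t9_848_18 <| jobs_append t9_848_19 <| jobs_append t9_848_20 <| jobs_append t9_848_21 <| jobs_append t9_848_22 <| jobs_append t9_848_23 <| jobs_append t9_848_24 <| jobs_append t9_848_25 <| jobs_append t9_848_26 <| jobs_append t9_848_27 <| jobs_append t9_848_28 <| jobs_append t9_848_29 <| jobs_append t9_848_30 <| jobs_append t9_848_31 <| jobs_append t9_848_32 <| List.forall_mem_nil _) (by decide +kernel)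

noncomputable def j9_849_0 : List Job := [
  ⟨63, 0x4281709844080701, 0, 13, 0x0, []⟩]

theorem t9_849_0 : jobs 8 S9 b8_849 j9_849_0 = true := by decide +kernel

noncomputable def j9_849_1 : List Job := [
  ⟨62, 0x4b05a2e17ca0522a15c904a2613c80422211c281709844080701, 0, 16, 0x210000810, []⟩]

theorem t9_849_1 : jobs 8 S9 b8_849 j9_849_1 = true := by decide +kernel

noncomputable def j9_849_2 : List Job := [
  ⟨61, 0x4a0522a15c80422211c381f0c06c281709844180f0402c080701, 0, 36, 0x210000e10001210001401001810001a01001e10002001002410002601002c01003201003610003a10003c10004010004210004410004610004810, []⟩]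

theorem t9_849_2 : jobs 8 S9 b8_849 j9_849_2 = true := by decide +kernel

noncomputable def j9_849_3 : List Job := [
  ⟨60, 0x43e1d098441e0d01, 0, 13, 0x1610001a10, []⟩]

theorem t9_849_3 : jobs 8 S9 b8_849 j9_849_3 = true := by decide +kernel

noncomputable def j9_849_4 : List Job := [
  ⟨59, 0x43e1d098441e0d01, 0, 13, 0x1610001a10, []⟩]

theorem t9_849_4 : jobs 8 S9 b8_849 j9_849_4 = true := by decide +kernel

noncomputable def j9_849_5 : List Job := [
  ⟨58, 0x4b05a2e17ca0522a15c904a2613c80422211c3e1d098441e0d01, 0, 26, 0x1610001a10001e00002401002610002800002c10003010003200, [(24, ⟨3168, 0x8d0146012500100104010200080001000001, 0x18a260a020020401002⟩), (19, ⟨3167, 0x8d0146012500100104010201080001000001, 0x18a260a020020401002⟩), (14, ⟨3166, 0x9b0046012300180104000201080101000001, 0x1962609024020401002⟩)]⟩]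

theorem t9_849_5 : jobs 8 S9 b8_849 j9_849_5 = true := by decide +kernel

noncomputable def j9_849_6 : List Job := [
  ⟨57, 0x4b05a2e17ca0522a15c904a2613c80422211c3e1d098441e0d01, 0, 23, 0x1610001a10001e01002010002201002800002a10002c00, [(21, ⟨3165, 0x8c0046012501100004010200080001000001, 0x18b260a020020401002⟩), (19, ⟨3164, 0x90014e002001180004010200080101000001, 0x1902708024020401002⟩)]⟩]

theorem t9_849_6 : jobs 8 S9 b8_849 j9_849_6 = true := by decide +kernel

noncomputable def j9_849_7 : List Job := [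
  ⟨56, 0x4a0522a15c80422211c301b09844100b01, 0, 20, 0x213000e13001801, []⟩]

theorem t9_849_7 : jobs 8 S9 b8_849 j9_849_7 = true := by decide +kernel

noncomputable def j9_849_8 : List Job := [
  ⟨55, 0x4a0522a15c80422211c301b09844100b01, 0, 20, 0x213000e13001801, []⟩]

theorem t9_849_8 : jobs 8 S9 b8_849 j9_849_8 = true := by decide +kernel

noncomputable def j9_849_9 : List Job := [
  ⟨54, 0x4a0522a15c80422211c2e15098440e0501, 0, 13, 0x1610, []⟩]

theorem t9_849_9 : jobs 8 S9 b8_849 j9_849_9 = true := by decide +kernel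

noncomputable def j9_849_10 : List Job := [
  ⟨53, 0x4a457281548447201142e15098440e0501, 0, 17, 0x401000a12001012001601001a10002201, []⟩]

theorem t9_849_10 : jobs 8 S9 b8_849 j9_849_10 = true := by decide +kernel

noncomputable def j9_849_11 : List Job := [
  ⟨52, 0x4a457281548447201142e15098440e0501, 0, 15, 0x401000812000e12001401001610001e01, []⟩]

theorem t9_849_11 : jobs 8 S9 b8_849 j9_849_11 = true := by decide +kernel

noncomputable def j9_849_12 : List Job := [
  ⟨51, 0x4783f1c0ec6837180cc180f05824080701, 0, 22, 0x403000e02001003001202001403, []⟩]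

theorem t9_849_12 : jobs 8 S9 b8_849 j9_849_12 = true := by decide +kernel

noncomputable def j9_849_13 : List Job := [
  ⟨50, 0x4582f158a4482711884180f05824080701, 0, 30, 0x22b00062b00162a001c01002a01002e01003001003401, []⟩]

theorem t9_849_13 : jobs 8 S9 b8_849 j9_849_13 = true := by decide +kernel

noncomputable def j9_849_14 : List Job := [
  ⟨49, 0x46837180cc5e2d140ac381f0c06c080701, 0, 35, 0xe01001201001602001a01002001002801002c03003001003401003803, []⟩]

theorem t9_849_14 : jobs 8 S9 b8_849 j9_849_14 = true := by decide +kernel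

noncomputable def j9_849_15 : List Job := [
  ⟨48, 0x4381f0c06c28170804c180f05824080701, 0, 22, 0x802000e02001002001202001403001801001a02, []⟩]

theorem t9_849_15 : jobs 8 S9 b8_849 j9_849_15 = true := by decide +kernel

noncomputable def j9_849_16 : List Job := [
  ⟨47, 0x4783f1c0ec48271008c381f0c06c080701, 0, 35, 0xe01001602001801001c01003603004603, []⟩]

theorem t9_849_16 : jobs 8 S9 b8_849 j9_849_16 = true := by decide +kernel

noncomputable def j9_849_17 : List Job := [
  ⟨46, 0x4783f1c0ec6837180cc582f158a4482711884381f0c06c28170804c180f05824080701, 0, 48, 0x229000629000800000a01000c00000e20001001001200001601001a28001e28002028002428002628002a28002c28003001003201003401003601003801003a01003c01003e01004001004201004401004801004c01004e01005001005201005401005601005801005a01005c01005e01006001, [(8, ⟨3163, 0x106014c00958044402100002008280404020001, 0x185258b422080181002⟩), (5, ⟨3162, 0x110015f00130044000120002000200404020001, 0x1892f09820090101002⟩), (3, ⟨3161, 0x112005f00930004000120002000200004020001, 0x1882f09820090101002⟩)]⟩]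

theorem t9_849_17 : jobs 8 S9 b8_849 j9_849_17 = true := by decide +kernel

noncomputable def j9_849_18 : List Job := [
  ⟨45, 0x4783f180cc502b1209c301b0a05c1e0d01, 0, 21, 0x1401001802001c01002603002a01, []⟩]

theorem t9_849_18 : jobs 8 S9 b8_849 j9_849_18 = true := by decide +kernel

noncomputable def j9_849_19 : List Job := [
  ⟨44, 0x4703b1a0dc5e2d11884301b0a05c1e0d01, 0, 20, 0xa01000e01001201001602001e03002203002801, []⟩]

theorem t9_849_19 : jobs 8 S9 b8_849 j9_849_19 = true := by decide +kernel

noncomputable def j9_849_20 : List Job := [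
  ⟨43, 0x4703b1a0dc5e2d11884301b0a05c1e0d01, 0, 20, 0xa01000e01001201001602001e03002203002801, []⟩]

theorem t9_849_20 : jobs 8 S9 b8_849 j9_849_20 = true := by decide +kernel

noncomputable def j9_849_21 : List Job := [
  ⟨42, 0x47639180cc582f1209c381f0a05c100b01, 0, 35, 0x202000403000602000801000a01000e03001201001802001a01001c01001e03002001002201003401003601003801003c01003e01004401, []⟩]

theorem t9_849_21 : jobs 8 S9 b8_849 j9_849_21 = true := by decide +kernel

noncomputable def j9_849_22 : List Job := [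
  ⟨41, 0x4703b1a0dc502b1209c3e1d098441e0d01, 0, 21, 0xa02000c01001401001802001a03001c02001e01002001002203002801002a01, []⟩]

theorem t9_849_22 : jobs 8 S9 b8_849 j9_849_22 = true := by decide +kernel

noncomputable def j9_849_23 : List Job := [
  ⟨40, 0x4783f1a0dc56291008c381f0a05c100b01, 0, 39, 0x200000401000628000828000a00000c29000e01001029001203001401001603001a01002001002601002a01002e01003201003601003a01003e01004401004a01004e01, [(4, ⟨3159, 0xb0016d012a0110000e000300040000010100, 0x2b8320a8200e0101201⟩), (0, ⟨3158, 0xa2006e00330010000e010200050000010100, 0x2b2bf4d0200e0141001⟩)]⟩]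

theorem t9_849_23 : jobs 8 S9 b8_849 j9_849_23 = true := by decide +kernel

noncomputable def j9_849_24 : List Job := [
  ⟨39, 0x47e3d198c45e2d118843e1d098441e0d01, 0, 42, 0xa01000e01001201001602002001002601002a01002c01002e01003001003201003401003601003801003a01003e01004201004801004a03004e03005401, []⟩]

theorem t9_849_24 : jobs 8 S9 b8_849 j9_849_24 = true := by decide +kernel

noncomputable def j9_849_25 : List Job := [
  ⟨38, 0x47e3d198c45e2d118843e1d098441e0d01, 0, 36, 0xa01000e01001201001602001e03002203002801002a01002e01003201003401003601003801003c01004001004201004401004601004801, []⟩]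

theorem t9_849_25 : jobs 8 S9 b8_849 j9_849_25 = true := by decide +kernel

noncomputable def j9_849_26 : List Job := [
  ⟨37, 0x4703b1a0dc502b1209c381f0804c180f01, 0, 35, 0xa01001002001801001c01002401002802002c01003001003401003802003c01004202, []⟩]

theorem t9_849_26 : jobs 8 S9 b8_849 j9_849_26 = true := by decide +kernel

noncomputable def j9_849_27 : List Job := [
  ⟨36, 0x4703b180cc582f1209c3e1d0b854160901, 0, 34, 0xe02001003001202001403001602001803001a02001c03001e02002003002601002803002a02002e02003001003401003601003801004202004401, []⟩]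

theorem t9_849_27 : jobs 8 S9 b8_849 j9_849_27 = true := by decide +kernel

noncomputable def j9_849_28 : List Job := [
  ⟨35, 0x4783f180cc582f1008c381f0804c180f01, 0, 37, 0xa01001a01001e02002202002c02003201003a01003e01004001004401004602004801004a02, []⟩]

theorem t9_849_28 : jobs 8 S9 b8_849 j9_849_28 = true := by decide +kernel

noncomputable def j9_849_29 : List Job := [
  ⟨34, 0x47e3d1b8d45629118843e1d0b854160901, 0, 67, 0xe28001401001801001c01002201003a01003e01004201004601004a01004e01005201005601005802005c0100602a006402006a01006e01007201007601007801007c01008001008401, []⟩]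

theorem t9_849_29 : jobs 8 S9 b8_849 j9_849_29 = true := by decide +kernel

noncomputable def j9_849_30 : List Job := [
  ⟨33, 0x47e3d1b8d45629118843e1d0b854160901, 0, 66, 0xe2a002801002c01003001003401003801003c01004001004401004801004c01005001005401005801005c01006001006401006602006a01006e2a007202007601007a01007e01008201, []⟩]

theorem t9_849_30 : jobs 8 S9 b8_849 j9_849_30 = true := by decide +kernel

noncomputable def j9_849_31 : List Job := [
  ⟨32, 0x4783f180cc502b1209c301b0a05c180f01, 0, 35, 0x1c01002402002802002c01003001003401003801003c01004202, []⟩]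

theorem t9_849_31 : jobs 8 S9 b8_849 j9_849_31 = true := by decide +kernel

noncomputable def j9_849_32 : List Job := [
  ⟨31, 0x4783f1a0dc582f1209c301b0804c160901, 0, 35, 0xc03001402001603001a03001c02001e03002002002203002601002c01002e01003001003201003601004601, []⟩]

theorem t9_849_32 : jobs 8 S9 b8_849 j9_849_32 = true := by decide +kernel

noncomputable def j9_849_33 : List Job := [
  ⟨30, 0x4703b1a0dc582f1008c301b0a05c180f01, 0, 37, 0x1e02002202002c02003a01003e01004001004401004602004a02, []⟩]

theorem t9_849_33 : jobs 8 S9 b8_849 j9_849_33 = true := by decide +kernel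

noncomputable def j9_849_34 : List Job := [
  ⟨29, 0x4703b180cc562911884301b0804c160901, 0, 41, 0xc28000e0100102800182a001a01001e0100202a00220100242a002801002e01003601004001004401004601004a01004c01005001, []⟩]

theorem t9_849_34 : jobs 8 S9 b8_849 j9_849_34 = true := by decide +kernel

noncomputable def j9_849_35 : List Job := [
  ⟨28, 0x4381f0c06c28170804c180f0402c080701, 0, 35, 0x401000801000a01000c02000e03001001001201001401001601001801001a02002001002601002a01004401, []⟩]

theorem t9_849_35 : jobs 8 S9 b8_849 j9_849_35 = true := by decide +kernel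

noncomputable def j9_849_36 : List Job := [
  ⟨27, 0x46837180cc582f140ac381f0c06c080701, 0, 35, 0xa01000c01001001001201001401001c01002001002801002c02003001003401003801003a01003c01003e01004001, []⟩]

theorem t9_849_36 : jobs 8 S9 b8_849 j9_849_36 = true := by decide +kernel

noncomputable def j9_849_37 : List Job := [
  ⟨26, 0x4783f1c0ec6837180cc582f158a448271008c381f0c06c28170804c180f0402c080701, 0, 37, 0x201000601000c28001028001201001601001e01002201002401002801002c01003001003801004801004a01, []⟩]

theorem t9_849_37 : jobs 8 S9 b8_849 j9_849_37 = true := by decide +kernel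

noncomputable def j9_849_38 : List Job := [
  ⟨25, 0x4783f1c0ec482711884381f0c06c080701, 0, 37, 0x1401001e01002202002401002c01003002003401003801003c01004001004401, []⟩]

theorem t9_849_38 : jobs 8 S9 b8_849 j9_849_38 = true := by decide +kernel

noncomputable def j9_849_39 : List Job := [
  ⟨24, 0x4783f1d8e46837180cc180f0402c080701, 0, 35, 0x201000403000601000a01000e01001001001201001401001801001c02001e01002203, []⟩]

theorem t9_849_39 : jobs 8 S9 b8_849 j9_849_39 = true := by decide +kernel

noncomputable def j9_849_40 : List Job := [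
  ⟨23, 0x4783f1c0ec582f140ac281709844080701, 0, 35, 0xa03000c03001201001401001602001801002001002201002801002c02002e01003001003402003603003801003a01003c01003e03004001004402004601, []⟩]

theorem t9_849_40 : jobs 8 S9 b8_849 j9_849_40 = true := by decide +kernel

noncomputable def j9_849_41 : List Job := [
  ⟨22, 0x4582f158a448271008c180f0402c080701, 0, 37, 0x203000401000603000a01000e28001001001228001429001601001a01002001002601002a01002e01003001003201003401003601003801003a01003e01004201004601004a01, []⟩]

theorem t9_849_41 : jobs 8 S9 b8_849 j9_849_41 = true := by decide +kernel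

noncomputable def j9_849_42 : List Job := [
  ⟨21, 0x46837198c4482711884281709844080701, 0, 37, 0x2202002c01003002003401003801003c01004001004401004802, []⟩]

theorem t9_849_42 : jobs 8 S9 b8_849 j9_849_42 = true := by decide +kernel

noncomputable def j9_849_43 : List Job := [
  ⟨20, 0x4783f180cc502b13894301b0a05c180f01, 0, 22, 0x1202001e01002202002601002a01, []⟩]

theorem t9_849_43 : jobs 8 S9 b8_849 j9_849_43 = true := by decide +kernel

noncomputable def j9_849_44 : List Job := [
  ⟨19, 0x4703b1a0dc582f11884301b0a05c180f01, 0, 22, 0x1202001602001802001c02002202002c01, []⟩]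

theorem t9_849_44 : jobs 8 S9 b8_849 j9_849_44 = true := by decide +kernel

noncomputable def j9_849_45 : List Job := [
  ⟨18, 0x4703b180cc5e2d1209c381f0a05c100b01, 0, 35, 0x202000401000602000a01000e01001202001401001602001c01001e03002001002203002601002a03002e01003a01003e01004001004402, []⟩]

theorem t9_849_45 : jobs 8 S9 b8_849 j9_849_45 = true := by decide +kernel

noncomputable def j9_849_46 : List Job := [
  ⟨17, 0x4703b1a0dc502b13894381f0804c180f01, 0, 22, 0xa01000e01001202001e01002202002601002a01, []⟩]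

theorem t9_849_46 : jobs 8 S9 b8_849 j9_849_46 = true := by decide +kernel

noncomputable def j9_849_47 : List Job := [
  ⟨16, 0x4783f1a0dc56291008c381f0a05c100b01, 0, 35, 0x202000401000628000a01001001001229001401001602001801001a02001e01002201002601002a01002e01003401003a01003e01004201004601, []⟩]

theorem t9_849_47 : jobs 8 S9 b8_849 j9_849_47 = true := by decide +kernel

noncomputable def j9_849_48 : List Job := [
  ⟨15, 0x4783f180cc582f11884381f0804c180f01, 0, 22, 0xa01001001001202001401001602001802001c02002202002c01, []⟩]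

theorem t9_849_48 : jobs 8 S9 b8_849 j9_849_48 = true := by decide +kernel

noncomputable def j9_849_49 : List Job := [
  ⟨14, 0x4783f1c0ec6837180cc1e0d058240e0501, 0, 21, 0x802000c02000e03001002001202, []⟩]

theorem t9_849_49 : jobs 8 S9 b8_849 j9_849_49 = true := by decide +kernel

noncomputable def j9_849_50 : List Job := [
  ⟨13, 0x45e2d158a44e25118841e0d058240e0501, 0, 42, 0x82a000c03000e01001028001201001428001628001801003601003801003a01003c01003e01004001004201004401004601004801004a01004c01004e01005001005201005401, []⟩]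

theorem t9_849_50 : jobs 8 S9 b8_849 j9_849_50 = true := by decide +kernel

noncomputable def j9_849_51 : List Job := [
  ⟨12, 0x45e2d158a44e25118841e0d058240e0501, 0, 54, 0x122a001e01002001002801002a01002c01003201003401003601003801003a02003c01003e01004001004201004400004601004800004a01004c01004e01005001, [(35, ⟨3159, 0x11c005700988004002100002008200404000001, 0x18f2b8c420080101002⟩), (33, ⟨3158, 0x15c0179001380440021e0102000200404020001, 0x1ad3d09c200f0101002⟩)]⟩]

theorem t9_849_51 : jobs 8 S9 b8_849 j9_849_51 = true := by decide +kernel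

noncomputable def j9_849_52 : List Job := [
  ⟨11, 0x46837180cc582f140ac381f0c06c0e0501, 0, 35, 0x1801001c02002401002802002c01002e01003001003201003401003601003801003a01003c01003e01004001004402, []⟩]

theorem t9_849_52 : jobs 8 S9 b8_849 j9_849_52 = true := by decide +kernel

noncomputable def j9_849_53 : List Job := [
  ⟨10, 0x4783f1c0ec48271008c381f0c06c0e0501, 0, 39, 0x2001002402003002003601004c02004e01, []⟩]

theorem t9_849_53 : jobs 8 S9 b8_849 j9_849_53 = true := by decide +kernel

noncomputable def j9_849_54 : List Job := [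
  ⟨9, 0x4783f180cc502b1209c301b0b854180f01, 0, 29, 0xe02001201003403003602, []⟩]

theorem t9_849_54 : jobs 8 S9 b8_849 j9_849_54 = true := by decide +kernel

noncomputable def j9_849_55 : List Job := [
  ⟨8, 0x4703b1b8d4582f11884301b0b854180f01, 0, 27, 0xc20003221003620, []⟩]

theorem t9_849_55 : jobs 8 S9 b8_849 j9_849_55 = true := by decide +kernel

noncomputable def j9_849_56 : List Job := [
  ⟨7, 0x4703b1b8d4582f11884301b0b854180f01, 0, 27, 0xc02003221003602, []⟩]

theorem t9_849_56 : jobs 8 S9 b8_849 j9_849_56 = true := by decide +kernel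

noncomputable def j9_849_57 : List Job := [
  ⟨6, 0x4783f180cc502b13894301b0a05c180f01, 0, 13, 0xc03001202001803, []⟩]

theorem t9_849_57 : jobs 8 S9 b8_849 j9_849_57 = true := by decide +kernel

noncomputable def j9_849_58 : List Job := [
  ⟨5, 0x4703b1a0dc582f11884301b0a05c180f01, 0, 13, 0x1623001a03, []⟩]

theorem t9_849_58 : jobs 8 S9 b8_849 j9_849_58 = true := by decide +kernel

noncomputable def j9_849_59 : List Job := [
  ⟨4, 0x4783f1c0ec6837180cc180f05824080701, 0, 30, 0x403001603002c02002e03003003, []⟩]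

theorem t9_849_59 : jobs 8 S9 b8_849 j9_849_59 = true := by decide +kernel

noncomputable def j9_849_60 : List Job := [
  ⟨3, 0x4582f158a4482711884180f05824080701, 0, 40, 0x223000623000822001420001823004201004801004e01, []⟩]

theorem t9_849_60 : jobs 8 S9 b8_849 j9_849_60 = true := by decide +kernel

noncomputable def j9_849_61 : List Job := [
  ⟨2, 0x4703b180cc582f1209c3e1d0b854160901, 0, 29, 0x1802001a03001c02001e03002002002a02002c03002e02003002003203003402, []⟩]

theorem t9_849_61 : jobs 8 S9 b8_849 j9_849_61 = true := by decide +kernel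

noncomputable def j9_849_62 : List Job := [
  ⟨1, 0x47e3d1b8d45629118843e1d0b854160901, 0, 50, 0xa20002c20003020003a01004001004401004801004c01005201005801005c01006001006401, []⟩]

theorem t9_849_62 : jobs 8 S9 b8_849 j9_849_62 = true := by decide +kernel

noncomputable def j9_849_63 : List Job := [
  ⟨0, 0x47e3d1b8d45629118843e1d0b854160901, 0, 43, 0x1420002623002a23, []⟩]

theorem t9_849_63 : jobs 8 S9 b8_849 j9_849_63 = true := by decide +kernel

theorem d9_849 : Dn 8 S9 b8_849 := dn_of (Js := j9_849_0 ++ (j9_849_1 ++ (j9_849_2 ++ (j9_849_3 ++ (j9_849_4 ++ (j9_849_5 ++ (j9_849_6 ++ (j9_849_7 ++ (j9_849_8 ++ (j9_849_9 ++ (j9_849_10 ++ (j9_849_11 ++ (j9_849_12 ++ (j9_849_13 ++ (j9_849_14 ++ (j9_849_15 ++ (j9_849_16 ++ (j9_849_17 ++ (j9_849_18 ++ (j9_849_19 ++ (j9_849_20 ++ (j9_849_21 ++ (j9_849_22 ++ (j9_849_23 ++ (j9_849_24 ++ (j9_849_25 ++ (j9_849_26 ++ (j9_849_27 ++ (j9_849_28 ++ (j9_849_29 ++ (j9_849_30 ++ (j9_849_31 ++ (j9_849_32 ++ (j9_849_33 ++ (j9_849_34 ++ (j9_849_35 ++ (j9_849_36 ++ (j9_849_37 ++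 (j9_849_38 ++ (j9_849_39 ++ (j9_849_40 ++ (j9_849_41 ++ (j9_849_42 ++ (j9_849_43 ++ (j9_849_44 ++ (j9_849_45 ++ (j9_849_46 ++ (j9_849_47 ++ (j9_849_48 ++ (j9_849_49 ++ (j9_849_50 ++ (j9_849_51 ++ (j9_849_52 ++ (j9_849_53 ++ (j9_849_54 ++ (j9_849_55 ++ (j9_849_56 ++ (j9_849_57 ++ (j9_849_58 ++ (j9_849_59 ++ (j9_849_60 ++ (j9_849_61 ++ (j9_849_62 ++ (j9_849_63 ++ []))))))))))))))))))))))))))))))))))))))))))))))))))))))))))))))))
  (jobs_append t9_849_0 <| jobs_append t9_849_1 <| jobs_append t9_849_2 <| jobs_append t9_849_3 <| jobs_append t9_849_4 <| jobs_append t9_849_5 <| jobs_append t9_849_6 <| jobs_append t9_849_7 <| jobs_append t9_849_8 <| jobs_append t9_849_9 <| jobs_append t9_849_10 <| jobs_append t9_849_11 <| jobs_append t9_849_12 <| jobs_append t9_849_13 <| jobs_append t9_849_14 <| jobs_append t9_849_15 <| jobs_append t9_849_16 <| jobs_append t9_849_17 <| jobs_append t9_849_18 <| jobs_append t9_849_19 <| jobs_append t9_849_20 <| jobs_append t9_849_21 <| jobs_append t9_849_22 <| jobs_append t9_849_23 <|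 jobs_append t9_849_24 <| jobs_append t9_849_25 <| jobs_append t9_849_26 <| jobs_append t9_849_27 <| jobs_append t9_849_28 <| jobs_append t9_849_29 <| jobs_append t9_849_30 <| jobs_append t9_849_31 <| jobs_append t9_849_32 <| jobs_append t9_849_33 <| jobs_append t9_849_34 <| jobs_append t9_849_35 <| jobs_append t9_849_36 <| jobs_append t9_849_37 <| jobs_append t9_849_38 <| jobs_append t9_849_39 <| jobs_append t9_849_40 <| jobs_append t9_849_41 <| jobs_append t9_849_42 <| jobs_append t9_849_43 <| jobs_append t9_849_44 <| jobs_append t9_849_45 <| jobs_append t9_849_46 <| jobs_append t9_849_47 <| jobs_append t9_849_48 <| jobs_append t9_849_49 <| jobs_append t9_849_50 <| jobs_append t9_849_51 <| jobs_append t9_849_52 <| jobs_append t9_849_53 <| jobs_append t9_849_54 <| jobs_append t9_849_55 <| jobs_append t9_849_56 <| jobs_append t9_849_57 <| jobs_append t9_849_58 <| jobs_append t9_849_59 <| jobs_append t9_849_60 <| jobs_append t9_849_61 <| jobs_append t9_849_62 <| jobs_append t9_849_63 <| List.forall_mem_nil _)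 (by decide +kernel)

noncomputable def j9_850_0 : List Job := [
  ⟨57, 0x4c06232198d06a361bc804222118904a2613c703a1e0fc60321a0dc482711884301a0e07c20120a05c080701, 0, 9, 0x200000400000601000800000a00000c01001000, [(7, ⟨3187, 0xac016e00360011000c010501030101010001, 0x1bd3f0d8220c0280c02⟩), (4, ⟨3186, 0xac016e00360011000c000501030101010001, 0x1bd3f0d8220c0280c02⟩), (3, ⟨3185, 0x81005401230010010a000400030001010001, 0x1812a888200b0200c02⟩), (1, ⟨3184, 0x9b004e00360110000a000500020001000001, 0x199268d8200a0280802⟩), (0, ⟨3183, 0x81015401220010010a010400030001000001, 0x1812a88c200b0200c02⟩)]⟩]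

theorem t9_850_0 : jobs 8 S9 b8_850 j9_850_0 = true := by decide +kernel

noncomputable def j9_850_1 : List Job := [
  ⟨56, 0x4c06232198d06a361bc804222118904a2613c703a1e0fc60321a0dc482711884301a0e07c20120a05c080701, 0, 9, 0x220000401000620000820000e20001001001220, []⟩]

theorem t9_850_1 : jobs 8 S9 b8_850 j9_850_1 = true := by decide +kernel

noncomputable def j9_850_2 : List Job := [
  ⟨47, 0x4e0723a1d8f07a3e1fcc06232198d06a361bca0522a158b05a2e17c804222118904a2613c7e3d118843e1d01, 0, 13, 0x401000820000a01000e20001221001401001a01, []⟩]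

theorem t9_850_2 : jobs 8 S9 b8_850 j9_850_2 = true := by decide +kernel

noncomputable def j9_850_3 : List Job := [
  ⟨46, 0x4e0723a1d8f07a3e1fcc06232198d06a361bca0522a158b05a2e17c804222118904a2613c7e3d118843e1d01, 0, 10, 0x201000600000c00001201, [(5, ⟨3182, 0x99005800380110010a010601030001000001, 0x1982c8e4200a0300c02⟩), (2, ⟨3181, 0x99004400340110010a010600030101000001, 0x198228d4200a0300c02⟩)]⟩]

theorem t9_850_3 : jobs 8 S9 b8_850 j9_850_3 = true := by decide +kernel

noncomputable def j9_850_4 : List Job := [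
  ⟨25, 0x4c46b301a4844b20124562911884160901, 0, 9, 0x0, []⟩]

theorem t9_850_4 : jobs 8 S9 b8_850 j9_850_4 = true := by decide +kernel

noncomputable def j9_850_5 : List Job := [
  ⟨24, 0x4c46b301a4844b20124562911884160901, 0, 7, 0x0, []⟩]

theorem t9_850_5 : jobs 8 S9 b8_850 j9_850_5 = true := by decide +kernel

noncomputable def j9_850_6 : List Job := [
  ⟨16, 0x4180f05824080701, 0, 10, 0x0, []⟩]

theorem t9_850_6 : jobs 8 S9 b8_850 j9_850_6 = true := by decide +kernel

noncomputable def j9_850_7 : List Job := [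
  ⟨15, 0x4a0522a158b05a2e17c804222118904a2613c180f05824080701, 0, 12, 0x0, []⟩]

theorem t9_850_7 : jobs 8 S9 b8_850 j9_850_7 = true := by decide +kernel

noncomputable def j9_850_8 : List Job := [
  ⟨14, 0x4804222118904a2613c381f0c06c28170804c180f05824080701, 0, 26, 0xe08001009001608001809002608002809002a08002c09002e08003009003208003409, []⟩]

theorem t9_850_8 : jobs 8 S9 b8_850 j9_850_8 = true := by decide +kernel

noncomputable def j9_850_9 : List Job := [
  ⟨13, 0x43e1d0b854160901, 0, 10, 0x1208001409, []⟩]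

theorem t9_850_9 : jobs 8 S9 b8_850 j9_850_9 = true := by decide +kernel

noncomputable def j9_850_10 : List Job := [
  ⟨12, 0x43e1d0b854160901, 0, 10, 0x1208001409, []⟩]

theorem t9_850_10 : jobs 8 S9 b8_850 j9_850_10 = true := by decide +kernel

noncomputable def j9_850_11 : List Job := [
  ⟨11, 0x4a0522a158b05a2e17c804222118904a2613c3e1d0b854160901, 0, 19, 0x1208001409, []⟩]

theorem t9_850_11 : jobs 8 S9 b8_850 j9_850_11 = true := by decide +kernel

noncomputable def j9_850_12 : List Job := [
  ⟨10, 0x4a0522a158b05a2e17c804222118904a2613c3e1d0b854160901, 0, 16, 0x1208001409, []⟩]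

theorem t9_850_12 : jobs 8 S9 b8_850 j9_850_12 = true := by decide +kernel

noncomputable def j9_850_13 : List Job := [
  ⟨9, 0x4804222118904a2613c301b0804c160901, 0, 16, 0x0, []⟩]

theorem t9_850_13 : jobs 8 S9 b8_850 j9_850_13 = true := by decide +kernel

noncomputable def j9_850_14 : List Job := [
  ⟨8, 0x4804222118904a2613c301b0804c160901, 0, 16, 0x0, []⟩]

theorem t9_850_14 : jobs 8 S9 b8_850 j9_850_14 = true := by decide +kernel

noncomputable def j9_850_15 : List Job := [
  ⟨7, 0x484462413480442513c1e0d058240e0501, 0, 14, 0x1208001601001801001a01001c01, []⟩]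

theorem t9_850_15 : jobs 8 S9 b8_850 j9_850_15 = true := by decide +kernel

noncomputable def j9_850_16 : List Job := [
  ⟨6, 0x484462513c8044241341e0d058240e0501, 0, 12, 0x1408, []⟩]

theorem t9_850_16 : jobs 8 S9 b8_850 j9_850_16 = true := by decide +kernel

noncomputable def j9_850_17 : List Job := [
  ⟨5, 0x484462513c8044241341e0d058240e0501, 0, 10, 0x1008, []⟩]

theorem t9_850_17 : jobs 8 S9 b8_850 j9_850_17 = true := by decide +kernel

noncomputable def j9_850_18 : List Job := [
  ⟨4, 0x4904a2613c80422211c381f0c06c080701, 0, 11, 0x403, []⟩]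

theorem t9_850_18 : jobs 8 S9 b8_850 j9_850_18 = true := by decide +kernel

noncomputable def j9_850_19 : List Job := [
  ⟨3, 0x4b05a2e17c80422211c180f0402c080701, 0, 11, 0x403000c02001602, []⟩]

theorem t9_850_19 : jobs 8 S9 b8_850 j9_850_19 = true := by decide +kernel

noncomputable def j9_850_20 : List Job := [
  ⟨2, 0x4904a2613c80422211c301b0a05c1e0d01, 0, 20, 0x2202002602, []⟩]

theorem t9_850_20 : jobs 8 S9 b8_850 j9_850_20 = true := by decide +kernel

noncomputable def j9_850_21 : List Job := [
  ⟨1, 0x4b05a2e17c80422211c381f0a05c100b01, 0, 18, 0x403000c03, []⟩]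

theorem t9_850_21 : jobs 8 S9 b8_850 j9_850_21 = true := by decide +kernel

noncomputable def j9_850_22 : List Job := [
  ⟨0, 0x4b05a2e17c844720114381f0c06c0e0501, 0, 12, 0x202000a02001202001403, []⟩]

theorem t9_850_22 : jobs 8 S9 b8_850 j9_850_22 = true := by decide +kernel

theorem d9_850 : Dn 8 S9 b8_850 := dn_of (Js := j9_850_0 ++ (j9_850_1 ++ (j9_850_2 ++ (j9_850_3 ++ (j9_850_4 ++ (j9_850_5 ++ (j9_850_6 ++ (j9_850_7 ++ (j9_850_8 ++ (j9_850_9 ++ (j9_850_10 ++ (j9_850_11 ++ (j9_850_12 ++ (j9_850_13 ++ (j9_850_14 ++ (j9_850_15 ++ (j9_850_16 ++ (j9_850_17 ++ (j9_850_18 ++ (j9_850_19 ++ (j9_850_20 ++ (j9_850_21 ++ (j9_850_22 ++ [])))))))))))))))))))))))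
  (jobs_append t9_850_0 <| jobs_append t9_850_1 <| jobs_append t9_850_2 <| jobs_append t9_850_3 <| jobs_append t9_850_4 <| jobs_append t9_850_5 <| jobs_append t9_850_6 <| jobs_append t9_850_7 <| jobs_append t9_850_8 <| jobs_append t9_850_9 <| jobs_append t9_850_10 <| jobs_append t9_850_11 <| jobs_append t9_850_12 <| jobs_append t9_850_13 <| jobs_append t9_850_14 <| jobs_append t9_850_15 <| jobs_append t9_850_16 <| jobs_append t9_850_17 <| jobs_append t9_850_18 <| jobs_append t9_850_19 <| jobs_append t9_850_20 <| jobs_append t9_850_21 <| jobs_append t9_850_22 <| List.forall_mem_nil _) (by decide +kernel)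

noncomputable def j9_851_0 : List Job := [
  ⟨63, 0x4381f09844180f01, 0, 8, 0x0, []⟩]

theorem t9_851_0 : jobs 8 S9 b8_851 j9_851_0 = true := by decide +kernel

noncomputable def j9_851_1 : List Job := [
  ⟨62, 0x4361909844160901, 0, 9, 0xc01001201, []⟩]

theorem t9_851_1 : jobs 8 S9 b8_851 j9_851_1 = true := by decide +kernel

noncomputable def j9_851_2 : List Job := [
  ⟨61, 0x4361909844160901, 0, 13, 0xc00001200001800, [(11, ⟨3190, 0x4600460044004008201030010000408001, 0x18a2609020020401402⟩), (8, ⟨3189, 0x4601650048044008201020010000400001, 0x18a320a020020401002⟩), (5, ⟨3188, 0x4681650048044000201020010000400001, 0x18b320a020020401002⟩)]⟩]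

theorem t9_851_2 : jobs 8 S9 b8_851 j9_851_2 = true := by decide +kernel

noncomputable def j9_851_3 : List Job := [
  ⟨60, 0x4361909844160901, 0, 4, 0x0, []⟩]

theorem t9_851_3 : jobs 8 S9 b8_851 j9_851_3 = true := by decide +kernel

noncomputable def j9_851_4 : List Job := [
  ⟨59, 0x4361909844160901, 0, 4, 0x0, []⟩]

theorem t9_851_4 : jobs 8 S9 b8_851 j9_851_4 = true := by decide +kernel

noncomputable def j9_851_5 : List Job := [
  ⟨58, 0x42e15098440e0501, 0, 6, 0x401000a01, []⟩]

theorem t9_851_5 : jobs 8 S9 b8_851 j9_851_5 = true := by decide +kernel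

noncomputable def j9_851_6 : List Job := [
  ⟨57, 0x42e15098440e0501, 0, 13, 0x401000a01001001001601001801001a01, []⟩]

theorem t9_851_6 : jobs 8 S9 b8_851 j9_851_6 = true := by decide +kernel

noncomputable def j9_851_7 : List Job := [
  ⟨56, 0x42e15098440e0501, 0, 12, 0x401000a01001001001401001601001801, []⟩]

theorem t9_851_7 : jobs 8 S9 b8_851 j9_851_7 = true := by decide +kernel

noncomputable def j9_851_8 : List Job := [
  ⟨51, 0x45e2d118841e0d01, 0, 7, 0x0, []⟩]

theorem t9_851_8 : jobs 8 S9 b8_851 j9_851_8 = true := by decide +kernel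

noncomputable def j9_851_9 : List Job := [
  ⟨50, 0x45e2d118841e0d01, 0, 1, 0x201, []⟩]

theorem t9_851_9 : jobs 8 S9 b8_851 j9_851_9 = true := by decide +kernel

noncomputable def j9_851_10 : List Job := [
  ⟨47, 0x4381f0804c180f01, 0, 8, 0x202000402000602000802, []⟩]

theorem t9_851_10 : jobs 8 S9 b8_851 j9_851_10 = true := by decide +kernel

noncomputable def j9_851_11 : List Job := [
  ⟨46, 0x41e0d058240e0501, 0, 3, 0x401000601, []⟩]

theorem t9_851_11 : jobs 8 S9 b8_851 j9_851_11 = true := by decide +kernel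

noncomputable def j9_851_12 : List Job := [
  ⟨45, 0x41e0d058240e0501, 0, 7, 0x801000a01000c01000e01, []⟩]

theorem t9_851_12 : jobs 8 S9 b8_851 j9_851_12 = true := by decide +kernel

noncomputable def j9_851_13 : List Job := [
  ⟨44, 0x41e0d058240e0501, 0, 11, 0x1401001601, []⟩]

theorem t9_851_13 : jobs 8 S9 b8_851 j9_851_13 = true := by decide +kernel

noncomputable def j9_851_14 : List Job := [
  ⟨43, 0x4381f0c06c0e0501, 0, 7, 0x0, []⟩]

theorem t9_851_14 : jobs 8 S9 b8_851 j9_851_14 = true := by decide +kernel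

noncomputable def j9_851_15 : List Job := [
  ⟨42, 0x4381f0c06c0e0501, 0, 5, 0x0, []⟩]

theorem t9_851_15 : jobs 8 S9 b8_851 j9_851_15 = true := by decide +kernel

noncomputable def j9_851_16 : List Job := [
  ⟨41, 0x4381f0c06c0e0501, 0, 2, 0x201000401, []⟩]

theorem t9_851_16 : jobs 8 S9 b8_851 j9_851_16 = true := by decide +kernel

noncomputable def j9_851_17 : List Job := [
  ⟨40, 0x4381f0c06c0e0501, 0, 2, 0x201000401, []⟩]

theorem t9_851_17 : jobs 8 S9 b8_851 j9_851_17 = true := by decide +kernel

noncomputable def j9_851_18 : List Job := [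
  ⟨39, 0x436190a05c180f01, 0, 5, 0x201000401000601000801000a01, []⟩]

theorem t9_851_18 : jobs 8 S9 b8_851 j9_851_18 = true := by decide +kernel

noncomputable def j9_851_19 : List Job := [
  ⟨38, 0x436190a05c180f01, 0, 5, 0x201000401000601000801000a01, []⟩]

theorem t9_851_19 : jobs 8 S9 b8_851 j9_851_19 = true := by decide +kernel

noncomputable def j9_851_20 : List Job := [
  ⟨37, 0x42e15098440e0501, 0, 2, 0x401, []⟩]

theorem t9_851_20 : jobs 8 S9 b8_851 j9_851_20 = true := by decide +kernel

noncomputable def j9_851_21 : List Job := [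
  ⟨36, 0x42e15098440e0501, 0, 9, 0x401000a01000c01000e01001001001201, []⟩]

theorem t9_851_21 : jobs 8 S9 b8_851 j9_851_21 = true := by decide +kernel

noncomputable def j9_851_22 : List Job := [
  ⟨35, 0x42e15098440e0501, 0, 15, 0x401000a01000e01001401001801001e01, []⟩]

theorem t9_851_22 : jobs 8 S9 b8_851 j9_851_22 = true := by decide +kernel

noncomputable def j9_851_23 : List Job := [
  ⟨34, 0x4381f09844180f01, 0, 5, 0x401000a01, []⟩]

theorem t9_851_23 : jobs 8 S9 b8_851 j9_851_23 = true := by decide +kernel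

noncomputable def j9_851_24 : List Job := [
  ⟨33, 0x4381f09844180f01, 0, 7, 0x401000a01, []⟩]

theorem t9_851_24 : jobs 8 S9 b8_851 j9_851_24 = true := by decide +kernel

noncomputable def j9_851_25 : List Job := [
  ⟨32, 0x44e25118840e0501, 0, 1, 0x0, []⟩]

theorem t9_851_25 : jobs 8 S9 b8_851 j9_851_25 = true := by decide +kernel

noncomputable def j9_851_26 : List Job := [
  ⟨30, 0x44e25118840e0501, 0, 6, 0x0, []⟩]

theorem t9_851_26 : jobs 8 S9 b8_851 j9_851_26 = true := by decide +kernel

noncomputable def j9_851_27 : List Job := [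
  ⟨26, 0x4562911884160901, 0, 1, 0x201, []⟩]

theorem t9_851_27 : jobs 8 S9 b8_851 j9_851_27 = true := by decide +kernel

noncomputable def j9_851_28 : List Job := [
  ⟨25, 0x4562911884160901, 0, 6, 0x0, []⟩]

theorem t9_851_28 : jobs 8 S9 b8_851 j9_851_28 = true := by decide +kernel

noncomputable def j9_851_29 : List Job := [
  ⟨24, 0x4562911884160901, 0, 2, 0x0, []⟩]

theorem t9_851_29 : jobs 8 S9 b8_851 j9_851_29 = true := by decide +kernel

noncomputable def j9_851_30 : List Job := [
  ⟨23, 0x44e25118840e0501, 0, 2, 0x0, []⟩]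

theorem t9_851_30 : jobs 8 S9 b8_851 j9_851_30 = true := by decide +kernel

noncomputable def j9_851_31 : List Job := [
  ⟨20, 0x4301b0804c100b01, 0, 6, 0x202000402000602000802000a02000c02, []⟩]

theorem t9_851_31 : jobs 8 S9 b8_851 j9_851_31 = true := by decide +kernel

noncomputable def j9_851_32 : List Job := [
  ⟨19, 0x41e0d058240e0501, 0, 6, 0xa01000c01, []⟩]

theorem t9_851_32 : jobs 8 S9 b8_851 j9_851_32 = true := by decide +kernel

noncomputable def j9_851_33 : List Job := [
  ⟨18, 0x41e0d058240e0501, 0, 9, 0xc01000e01001001001201, []⟩]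

theorem t9_851_33 : jobs 8 S9 b8_851 j9_851_33 = true := by decide +kernel

noncomputable def j9_851_34 : List Job := [
  ⟨17, 0x41e0d058240e0501, 0, 10, 0x1201001401, []⟩]

theorem t9_851_34 : jobs 8 S9 b8_851 j9_851_34 = true := by decide +kernel

noncomputable def j9_851_35 : List Job := [
  ⟨16, 0x41e0d058240e0501, 0, 9, 0x1001001201, []⟩]

theorem t9_851_35 : jobs 8 S9 b8_851 j9_851_35 = true := by decide +kernel

noncomputable def j9_851_36 : List Job := [
  ⟨15, 0x4381f0c06c0e0501, 0, 5, 0x201000401000601000801000a01, []⟩]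

theorem t9_851_36 : jobs 8 S9 b8_851 j9_851_36 = true := by decide +kernel

noncomputable def j9_851_37 : List Job := [
  ⟨14, 0x4381f0c06c0e0501, 0, 5, 0x201000401000601000801000a01, []⟩]

theorem t9_851_37 : jobs 8 S9 b8_851 j9_851_37 = true := by decide +kernel

noncomputable def j9_851_38 : List Job := [
  ⟨13, 0x42e15098440e0501, 0, 5, 0x401, []⟩]

theorem t9_851_38 : jobs 8 S9 b8_851 j9_851_38 = true := by decide +kernel

noncomputable def j9_851_39 : List Job := [
  ⟨12, 0x42e15098440e0501, 0, 11, 0x401000a01001001001201001401001601, []⟩]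

theorem t9_851_39 : jobs 8 S9 b8_851 j9_851_39 = true := by decide +kernel

noncomputable def j9_851_40 : List Job := [
  ⟨11, 0x42e15098440e0501, 0, 12, 0x401000a01001001001601, []⟩]

theorem t9_851_40 : jobs 8 S9 b8_851 j9_851_40 = true := by decide +kernel

noncomputable def j9_851_41 : List Job := [
  ⟨10, 0x42e15098440e0501, 0, 11, 0x401000a01001001001601, []⟩]

theorem t9_851_41 : jobs 8 S9 b8_851 j9_851_41 = true := by decide +kernel

noncomputable def j9_851_42 : List Job := [
  ⟨4, 0x4c466351b4c064341bc84462513480442413c60321a0dc502a160bc48271188420120a05c100a0603c080701, 0, 12, 0x220000401000620000821000a01000c21000e20001001001220001601, []⟩]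

theorem t9_851_42 : jobs 8 S9 b8_851 j9_851_42 = true := by decide +kernel

theorem d9_851 : Dn 8 S9 b8_851 := dn_of (Js := j9_851_0 ++ (j9_851_1 ++ (j9_851_2 ++ (j9_851_3 ++ (j9_851_4 ++ (j9_851_5 ++ (j9_851_6 ++ (j9_851_7 ++ (j9_851_8 ++ (j9_851_9 ++ (j9_851_10 ++ (j9_851_11 ++ (j9_851_12 ++ (j9_851_13 ++ (j9_851_14 ++ (j9_851_15 ++ (j9_851_16 ++ (j9_851_17 ++ (j9_851_18 ++ (j9_851_19 ++ (j9_851_20 ++ (j9_851_21 ++ (j9_851_22 ++ (j9_851_23 ++ (j9_851_24 ++ (j9_851_25 ++ (j9_851_26 ++ (j9_851_27 ++ (j9_851_28 ++ (j9_851_29 ++ (j9_851_30 ++ (j9_851_31 ++ (j9_851_32 ++ (j9_851_33 ++ (j9_851_34 ++ (j9_851_35 ++ (j9_851_36 ++ (j9_851_37 ++ (j9_851_38 ++ (j9_851_39 ++ (j9_851_40 ++ (j9_851_41 ++ (j9_851_42 ++ [])))))))))))))))))))))))))))))))))))))))))))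
  (jobs_append t9_851_0 <| jobs_append t9_851_1 <| jobs_append t9_851_2 <| jobs_append t9_851_3 <| jobs_append t9_851_4 <| jobs_append t9_851_5 <| jobs_append t9_851_6 <| jobs_append t9_851_7 <| jobs_append t9_851_8 <| jobs_append t9_851_9 <| jobs_append t9_851_10 <| jobs_append t9_851_11 <| jobs_append t9_851_12 <| jobs_append t9_851_13 <| jobs_append t9_851_14 <| jobs_append t9_851_15 <| jobs_append t9_851_16 <| jobs_append t9_851_17 <| jobs_append t9_851_18 <| jobs_append t9_851_19 <| jobs_append t9_851_20 <| jobs_append t9_851_21 <| jobs_append t9_851_22 <| jobs_append t9_851_23 <| jobs_append t9_851_24 <| jobs_append t9_851_25 <| jobs_append t9_851_26 <| jobs_append t9_851_27 <| jobs_append t9_851_28 <| jobs_append t9_851_29 <| jobs_append t9_851_30 <| jobs_append t9_851_31 <| jobs_append t9_851_32 <| jobs_append t9_851_33 <| jobs_append t9_851_34 <| jobs_append t9_851_35 <| jobs_append t9_851_36 <| jobs_append t9_851_37 <| jobs_append t9_851_38 <| jobs_append t9_851_39 <| jobs_append t9_851_40 <| jobs_append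 t9_851_41 <| jobs_append t9_851_42 <| List.forall_mem_nil _) (by decide +kernel)

noncomputable def j9_852_0 : List Job := [
  ⟨61, 0x48447201140e0501, 0, 5, 0x0, []⟩]

theorem t9_852_0 : jobs 8 S9 b8_852 j9_852_0 = true := by decide +kernel

noncomputable def j9_852_1 : List Job := [
  ⟨60, 0x48447201140e0501, 0, 4, 0x0, []⟩]

theorem t9_852_1 : jobs 8 S9 b8_852 j9_852_1 = true := by decide +kernel

noncomputable def j9_852_2 : List Job := [
  ⟨58, 0x484452011c0e0501, 0, 2, 0x200000400, [(1, ⟨3199, 0x2ec0400080119041000a040400204001, 0x1b4200802c050400404⟩), (0, ⟨3198, 0x348146008c019001410a040410204001, 0x1d12488c2c050500404⟩)]⟩]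

theorem t9_852_2 : jobs 8 S9 b8_852 j9_852_2 = true := by decide +kernel

noncomputable def j9_852_3 : List Job := [
  ⟨57, 0x48447201140e0501, 0, 4, 0x0, []⟩]

theorem t9_852_3 : jobs 8 S9 b8_852 j9_852_3 = true := by decide +kernel

noncomputable def j9_852_4 : List Job := [
  ⟨56, 0x48447201140e0501, 0, 3, 0x0, []⟩]

theorem t9_852_4 : jobs 8 S9 b8_852 j9_852_4 = true := by decide +kernel

noncomputable def j9_852_5 : List Job := [
  ⟨51, 0x4964921904160901, 0, 6, 0x400000a00, [(4, ⟨3197, 0x6f0061024a0470001000c0202001008001, 0x1f63088c2a050082004⟩), (1, ⟨3196, 0x4780620240005008180080202041000001, 0x18e3408022040082804⟩)]⟩]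

theorem t9_852_5 : jobs 8 S9 b8_852 j9_852_5 = true := by decide +kernel

noncomputable def j9_852_6 : List Job := [
  ⟨50, 0x4964921904160901, 0, 5, 0x400000a00, [(4, ⟨3195, 0x630061024a004400100080202001000001, 0x1e23088c24040082004⟩), (1, ⟨3194, 0x6c804702400074081800c0002041008001, 0x1d5258802e050082804⟩)]⟩]

theorem t9_852_6 : jobs 8 S9 b8_852 j9_852_6 = true := by decide +kernel

noncomputable def j9_852_7 : List Job := [
  ⟨49, 0x41e0d058240e0501, 0, 6, 0x401000a01, []⟩]

theorem t9_852_7 : jobs 8 S9 b8_852 j9_852_7 = true := by decide +kernel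

noncomputable def j9_852_8 : List Job := [
  ⟨44, 0x4a65121904261101, 0, 6, 0x401000a01, []⟩]

theorem t9_852_8 : jobs 8 S9 b8_852 j9_852_8 = true := by decide +kernel

noncomputable def j9_852_9 : List Job := [
  ⟨43, 0x4a65121904261101, 0, 5, 0x401000a01, []⟩]

theorem t9_852_9 : jobs 8 S9 b8_852 j9_852_9 = true := by decide +kernel

noncomputable def j9_852_10 : List Job := [
  ⟨38, 0x4a65121904261101, 0, 2, 0x201000401, []⟩]

theorem t9_852_10 : jobs 8 S9 b8_852 j9_852_10 = true := by decide +kernel

noncomputable def j9_852_11 : List Job := [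
  ⟨30, 0x4663111884261101, 0, 2, 0x0, []⟩]

theorem t9_852_11 : jobs 8 S9 b8_852 j9_852_11 = true := by decide +kernel

noncomputable def j9_852_12 : List Job := [
  ⟨29, 0x4663111884261101, 0, 9, 0x401000a01001001, []⟩]

theorem t9_852_12 : jobs 8 S9 b8_852 j9_852_12 = true := by decide +kernel

noncomputable def j9_852_13 : List Job := [
  ⟨21, 0x4562911884160901, 0, 7, 0xa01000c01000e01, []⟩]

theorem t9_852_13 : jobs 8 S9 b8_852 j9_852_13 = true := by decide +kernel

noncomputable def j9_852_14 : List Job := [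
  ⟨20, 0x4562911884160901, 0, 6, 0x801000a01000c01, []⟩]

theorem t9_852_14 : jobs 8 S9 b8_852 j9_852_14 = true := by decide +kernel

noncomputable def j9_852_15 : List Job := [
  ⟨13, 0x4381f0c06c0e0501, 0, 6, 0x0, []⟩]

theorem t9_852_15 : jobs 8 S9 b8_852 j9_852_15 = true := by decide +kernel

noncomputable def j9_852_16 : List Job := [
  ⟨12, 0x4381f0c06c0e0501, 0, 6, 0x0, []⟩]

theorem t9_852_16 : jobs 8 S9 b8_852 j9_852_16 = true := by decide +kernel

noncomputable def j9_852_17 : List Job := [
  ⟨11, 0x42e15098440e0501, 0, 5, 0x0, []⟩]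

theorem t9_852_17 : jobs 8 S9 b8_852 j9_852_17 = true := by decide +kernel

noncomputable def j9_852_18 : List Job := [
  ⟨10, 0x42e15098440e0501, 0, 9, 0x0, []⟩]

theorem t9_852_18 : jobs 8 S9 b8_852 j9_852_18 = true := by decide +kernel

noncomputable def j9_852_19 : List Job := [
  ⟨9, 0x42e15098440e0501, 0, 5, 0x800000a00, [(4, ⟨3193, 0x22c14d04a81100020004040800100001, 0x18b260a820080200802⟩), (3, ⟨3192, 0x20814700a80100420004000800100001, 0x182230a820080200802⟩)]⟩]

theorem t9_852_19 : jobs 8 S9 b8_852 j9_852_19 = true := by decide +kernel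

noncomputable def j9_852_20 : List Job := [
  ⟨8, 0x42e15098440e0501, 0, 5, 0x801000a00, [(4, ⟨3191, 0x25017b04a8113042c004040800100001, 0x1943a8a4260b0200802⟩)]⟩]

theorem t9_852_20 : jobs 8 S9 b8_852 j9_852_20 = true := by decide +kernel

noncomputable def j9_852_21 : List Job := [
  ⟨7, 0x41e0d058240e0501, 0, 6, 0xa01000c01, []⟩]

theorem t9_852_21 : jobs 8 S9 b8_852 j9_852_21 = true := by decide +kernel

noncomputable def j9_852_22 : List Job := [
  ⟨6, 0x41e0d058240e0501, 0, 9, 0x1001001201, []⟩]

theorem t9_852_22 : jobs 8 S9 b8_852 j9_852_22 = true := by decide +kernel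

noncomputable def j9_852_23 : List Job := [
  ⟨5, 0x41e0d058240e0501, 0, 8, 0xe01001001, []⟩]

theorem t9_852_23 : jobs 8 S9 b8_852 j9_852_23 = true := by decide +kernel

noncomputable def j9_852_24 : List Job := [
  ⟨4, 0x4301b0a05c180f01, 0, 10, 0x201000601000a02000e02001201001402, []⟩]

theorem t9_852_24 : jobs 8 S9 b8_852 j9_852_24 = true := by decide +kernel

noncomputable def j9_852_25 : List Job := [
  ⟨3, 0x4381f0a05c160901, 0, 5, 0x202000602000a02, []⟩]

theorem t9_852_25 : jobs 8 S9 b8_852 j9_852_25 = true := by decide +kernel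

noncomputable def j9_852_26 : List Job := [
  ⟨2, 0x4381f0a05c160901, 0, 5, 0x201000601000a01, []⟩]

theorem t9_852_26 : jobs 8 S9 b8_852 j9_852_26 = true := by decide +kernel

noncomputable def j9_852_27 : List Job := [
  ⟨1, 0x4381f0c06c0e0501, 0, 8, 0x0, []⟩]

theorem t9_852_27 : jobs 8 S9 b8_852 j9_852_27 = true := by decide +kernel

noncomputable def j9_852_28 : List Job := [
  ⟨0, 0x4381f09844180f01, 0, 8, 0x0, []⟩]

theorem t9_852_28 : jobs 8 S9 b8_852 j9_852_28 = true := by decide +kernel

theorem d9_852 : Dn 8 S9 b8_852 := dn_of (Js := j9_852_0 ++ (j9_852_1 ++ (j9_852_2 ++ (j9_852_3 ++ (j9_852_4 ++ (j9_852_5 ++ (j9_852_6 ++ (j9_852_7 ++ (j9_852_8 ++ (j9_852_9 ++ (j9_852_10 ++ (j9_852_11 ++ (j9_852_12 ++ (j9_852_13 ++ (j9_852_14 ++ (j9_852_15 ++ (j9_852_16 ++ (j9_852_17 ++ (j9_852_18 ++ (j9_852_19 ++ (j9_852_20 ++ (j9_852_21 ++ (j9_852_22 ++ (j9_852_23 ++ (j9_852_24 ++ (j9_852_25 ++ (j9_852_26 ++ (j9_852_27 ++ (j9_852_28 ++ [])))))))))))))))))))))))))))))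
  (jobs_append t9_852_0 <| jobs_append t9_852_1 <| jobs_append t9_852_2 <| jobs_append t9_852_3 <| jobs_append t9_852_4 <| jobs_append t9_852_5 <| jobs_append t9_852_6 <| jobs_append t9_852_7 <| jobs_append t9_852_8 <| jobs_append t9_852_9 <| jobs_append t9_852_10 <| jobs_append t9_852_11 <| jobs_append t9_852_12 <| jobs_append t9_852_13 <| jobs_append t9_852_14 <| jobs_append t9_852_15 <| jobs_append t9_852_16 <| jobs_append t9_852_17 <| jobs_append t9_852_18 <| jobs_append t9_852_19 <| jobs_append t9_852_20 <| jobs_append t9_852_21 <| jobs_append t9_852_22 <| jobs_append t9_852_23 <| jobs_append t9_852_24 <| jobs_append t9_852_25 <| jobs_append t9_852_26 <| jobs_append t9_852_27 <| jobs_append t9_852_28 <| List.forall_mem_nil _) (by decide +kernel)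

noncomputable def j9_853_0 : List Job := [
  ⟨63, 0x4804222118904a2613c381f0c06c080701, 0, 12, 0x0, []⟩]

theorem t9_853_0 : jobs 8 S9 b8_853 j9_853_0 = true := by decide +kernel

noncomputable def j9_853_1 : List Job := [
  ⟨62, 0x4804222118904a2613c381f0a05c160901, 0, 8, 0x0, []⟩]

theorem t9_853_1 : jobs 8 S9 b8_853 j9_853_1 = true := by decide +kernel

noncomputable def j9_853_2 : List Job := [
  ⟨61, 0x4804222118904a2613c301b0a05c1e0d01, 0, 6, 0x0, []⟩]

theorem t9_853_2 : jobs 8 S9 b8_853 j9_853_2 = true := by decide +kernel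

noncomputable def j9_853_3 : List Job := [
  ⟨60, 0x4804222118904a2613c301b0a05c1e0d01, 0, 6, 0x0, []⟩]

theorem t9_853_3 : jobs 8 S9 b8_853 j9_853_3 = true := by decide +kernel

noncomputable def j9_853_4 : List Job := [
  ⟨59, 0x4281709844080701, 0, 10, 0x0, []⟩]

theorem t9_853_4 : jobs 8 S9 b8_853 j9_853_4 = true := by decide +kernel

noncomputable def j9_853_5 : List Job := [
  ⟨58, 0x4a0522a158b05a2e17c804222118904a2613c281709844080701, 0, 10, 0x0, []⟩]

theorem t9_853_5 : jobs 8 S9 b8_853 j9_853_5 = true := by decide +kernel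

noncomputable def j9_853_6 : List Job := [
  ⟨57, 0x4361909844160901, 0, 6, 0x0, []⟩]

theorem t9_853_6 : jobs 8 S9 b8_853 j9_853_6 = true := by decide +kernel

noncomputable def j9_853_7 : List Job := [
  ⟨56, 0x4361909844160901, 0, 6, 0x0, []⟩]

theorem t9_853_7 : jobs 8 S9 b8_853 j9_853_7 = true := by decide +kernel

noncomputable def j9_853_8 : List Job := [
  ⟨55, 0x4a0522a158b05a2e17c804222118904a2613c361909844160901, 0, 12, 0x1001001601, []⟩]

theorem t9_853_8 : jobs 8 S9 b8_853 j9_853_8 = true := by decide +kernel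

noncomputable def j9_853_9 : List Job := [
  ⟨54, 0x4a0522a158b05a2e17c804222118904a2613c361909844160901, 0, 14, 0x400000e00, [(6, ⟨3207, 0x4a0047024c006008200020210040400001, 0x198260b424020401002⟩), (1, ⟨3208, 0x4a0047004c046000200020210040400001, 0x198260b424020401002⟩)]⟩]

theorem t9_853_9 : jobs 8 S9 b8_853 j9_853_9 = true := by decide +kernel

noncomputable def j9_853_10 : List Job := [
  ⟨53, 0x43e1d098441e0d01, 0, 5, 0x0, []⟩]

theorem t9_853_10 : jobs 8 S9 b8_853 j9_853_10 = true := by decide +kernel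

noncomputable def j9_853_11 : List Job := [
  ⟨52, 0x43e1d098441e0d01, 0, 5, 0x0, []⟩]

theorem t9_853_11 : jobs 8 S9 b8_853 j9_853_11 = true := by decide +kernel

noncomputable def j9_853_12 : List Job := [
  ⟨51, 0x4a0522a158b05a2e17c804222118904a2613c3e1d098441e0d01, 0, 11, 0xc01001200, [(8, ⟨3206, 0x4981490044046408201020202002008001, 0x1962189826010401004⟩)]⟩]

theorem t9_853_12 : jobs 8 S9 b8_853 j9_853_12 = true := by decide +kernel

noncomputable def j9_853_13 : List Job := [
  ⟨50, 0x4a0522a158b05a2e17c804222118904a2613c3e1d098441e0d01, 0, 14, 0xc00001200001800, [(11, ⟨3203, 0x4601450242044408280030002002008001, 0x1892508824010501804⟩), (8, ⟨3202, 0x4601450242044408280030002002008001, 0x1892508824010501804⟩), (5, ⟨3201, 0x4601450242044408280030002002008001, 0x1892508824010501804⟩)]⟩]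

theorem t9_853_13 : jobs 8 S9 b8_853 j9_853_13 = true := by decide +kernel

noncomputable def j9_853_14 : List Job := [
  ⟨49, 0x4783f1a0dc582f1209c301b0804c100b01, 0, 33, 0x403000801000e01001601001a01001e01002001002201003a01004001, []⟩]

theorem t9_853_14 : jobs 8 S9 b8_853 j9_853_14 = true := by decide +kernel

noncomputable def j9_853_15 : List Job := [
  ⟨48, 0x4783f198c4502b1209c301b0a05c180f01, 0, 11, 0xe03, []⟩]

theorem t9_853_15 : jobs 8 S9 b8_853 j9_853_15 = true := by decide +kernel

noncomputable def j9_853_16 : List Job := [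
  ⟨47, 0x4703b1a0dc502b1209c381f0804c180f01, 0, 33, 0x401000801000a01000c01001001001401001803002001002401002801, []⟩]

theorem t9_853_16 : jobs 8 S9 b8_853 j9_853_16 = true := by decide +kernel

noncomputable def j9_853_17 : List Job := [
  ⟨46, 0x4703b180cc502b1008c301b0804c100b01, 0, 35, 0x203000401000603000801000a01000c01000e01001001001201001601001a01001c01002001002801004001, []⟩]

theorem t9_853_17 : jobs 8 S9 b8_853 j9_853_17 = true := by decide +kernel

noncomputable def j9_853_18 : List Job := [
  ⟨45, 0x4703b1a0dc582f1008c301b0a05c180f01, 0, 11, 0x201000401000601000801, []⟩]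

theorem t9_853_18 : jobs 8 S9 b8_853 j9_853_18 = true := by decide +kernel

noncomputable def j9_853_19 : List Job := [
  ⟨44, 0x4783f180cc582f1008c381f0804c180f01, 0, 35, 0x201000401000601000801000e01001201001401001603001801001a03002001002201002801003401, []⟩]

theorem t9_853_19 : jobs 8 S9 b8_853 j9_853_19 = true := by decide +kernel

noncomputable def j9_853_20 : List Job := [
  ⟨43, 0x47639198c45e2d138943e1d0b854160901, 0, 64, 0x801000c01001203001601001801001a01001c01001e01002001002201002401002601002a01002e01003401003801003a01003e01004201004601005201005401005601005801005c01006001006401006803006a01006c01006e01007001007201007602007c01008001, []⟩]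

theorem t9_853_20 : jobs 8 S9 b8_853 j9_853_20 = true := by decide +kernel

noncomputable def j9_853_21 : List Job := [
  ⟨42, 0x47639198c45e2d138943e1d0b854160901, 0, 65, 0xa01001001001401001801001c01001e01002001002201002401002601002801002a01002c02003001003601003a01003e01004201004401004801005401005601005801005a01005c01006002006601006a01006c01006e01007001007201007401007802007c01008001, []⟩]

theorem t9_853_21 : jobs 8 S9 b8_853 j9_853_21 = true := by decide +kernel

noncomputable def j9_853_22 : List Job := [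
  ⟨41, 0x4783f1a0dc5e2d1209c301b0804c100b01, 0, 33, 0x403000801000e01002a02003003003201003601, []⟩]

theorem t9_853_22 : jobs 8 S9 b8_853 j9_853_22 = true := by decide +kernel

noncomputable def j9_853_23 : List Job := [
  ⟨40, 0x47e3d180cc502b1209c301b0a05c180f01, 0, 33, 0x1803002c02004203, []⟩]

theorem t9_853_23 : jobs 8 S9 b8_853 j9_853_23 = true := by decide +kernel

noncomputable def j9_853_24 : List Job := [
  ⟨39, 0x4783f1a0dc502b1008c3e1d0b854160901, 0, 32, 0x202000602000801001203001401001a01001c01001e03002002002203002401002603002801002a01002e03003001003201003401003a02003c01003e02004003, []⟩]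

theorem t9_853_24 : jobs 8 S9 b8_853 j9_853_24 = true := by decide +kernel

noncomputable def j9_853_25 : List Job := [
  ⟨38, 0x4703b180cc502b1008c301b0804c100b01, 0, 33, 0x203000401000603000801000a01000c01000e01001001001201001601002601003201003401003801, []⟩]

theorem t9_853_25 : jobs 8 S9 b8_853 j9_853_25 = true := by decide +kernel

noncomputable def j9_853_26 : List Job := [
  ⟨37, 0x4703b1a0dc582f11884301b0a05c180f01, 0, 33, 0x801000a01000c01000e01001001001203001a02001e01002603002a03003002003201003402003801003a01003c01, []⟩]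

theorem t9_853_26 : jobs 8 S9 b8_853 j9_853_26 = true := by decide +kernel

noncomputable def j9_853_27 : List Job := [
  ⟨36, 0x4381f0c06c28170804c180f0402c080701, 0, 33, 0x401000803000e01001401001801002001, []⟩]

theorem t9_853_27 : jobs 8 S9 b8_853 j9_853_27 = true := by decide +kernel

noncomputable def j9_853_28 : List Job := [
  ⟨35, 0x4783f1c0ec582f140ac281709844080701, 0, 33, 0x403000603000c01000e01001001001201001401001801001c01001e03002001002c02002e02003002003203003402003601003801004001, []⟩]

theorem t9_853_28 : jobs 8 S9 b8_853 j9_853_28 = true := by decide +kernel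

noncomputable def j9_853_29 : List Job := [
  ⟨34, 0x4783f1c0ec6e35180cc582f140ac48271008c381f0c06c28170804c180f0402c080701, 0, 35, 0x201000601000801000a01000c01001001001201001601001a01001e01002001002201002e01003201003401004001, []⟩]

theorem t9_853_29 : jobs 8 S9 b8_853 j9_853_29 = true := by decide +kernel

noncomputable def j9_853_30 : List Job := [
  ⟨33, 0x46837198c4482711884281709844080701, 0, 35, 0xc01001201001801001c01002001002403003002003401003801003c03004001004401, []⟩]

theorem t9_853_30 : jobs 8 S9 b8_853 j9_853_30 = true := by decide +kernel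

noncomputable def j9_853_31 : List Job := [
  ⟨32, 0x4783f1c0ec6837180cc180f0402c080701, 0, 33, 0x401000801000a01000c01000e01001201001601001e01002803002a02, []⟩]

theorem t9_853_31 : jobs 8 S9 b8_853 j9_853_31 = true := by decide +kernel

noncomputable def j9_853_32 : List Job := [
  ⟨31, 0x4783f1c0ec582f140ac28170804c0e0501, 0, 33, 0x401000a01000c01001001001201001601002003002601002a02002e01003001003201003a03004001, []⟩]

theorem t9_853_32 : jobs 8 S9 b8_853 j9_853_32 = true := by decide +kernel

noncomputable def j9_853_33 : List Job := [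
  ⟨30, 0x46837180cc582f158a4381f0c06c080701, 0, 33, 0x801001601001801001a01002001002203002801002a00002c02003201003a03, [(20, ⟨3200, 0x98015301340110010d010300040101010001, 0x19a2a8c8200a0101402⟩)]⟩]

theorem t9_853_33 : jobs 8 S9 b8_853 j9_853_33 = true := by decide +kernel

noncomputable def j9_853_34 : List Job := [
  ⟨29, 0x45e2d140ac48271008c180f0402c080701, 0, 33, 0x201000401000601000801000e03001a01002603002a02003a01, []⟩]

theorem t9_853_34 : jobs 8 S9 b8_853 j9_853_34 = true := by decide +kernel

noncomputable def j9_853_35 : List Job := [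
  ⟨28, 0x46837180cc48271008c28170804c0e0501, 0, 35, 0x201000401000601000801001e03002601002a02002c01003001003a03, []⟩]

theorem t9_853_35 : jobs 8 S9 b8_853 j9_853_35 = true := by decide +kernel

noncomputable def j9_853_36 : List Job := [
  ⟨27, 0x4783f1d8e448271008c381f0c06c080701, 0, 33, 0x202000602000801001201001401001803001c03002602002801002a01002c02003001003403003e01004201, []⟩]

theorem t9_853_36 : jobs 8 S9 b8_853 j9_853_36 = true := by decide +kernel

noncomputable def j9_853_37 : List Job := [
  ⟨22, 0x4c66121904462101, 0, 6, 0x0, []⟩]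

theorem t9_853_37 : jobs 8 S9 b8_853 j9_853_37 = true := by decide +kernel

noncomputable def j9_853_38 : List Job := [
  ⟨21, 0x4c66121904462101, 0, 2, 0x0, []⟩]

theorem t9_853_38 : jobs 8 S9 b8_853 j9_853_38 = true := by decide +kernel

noncomputable def j9_853_39 : List Job := [
  ⟨15, 0x4844b20124160901, 0, 5, 0x0, []⟩]

theorem t9_853_39 : jobs 8 S9 b8_853 j9_853_39 = true := by decide +kernel

noncomputable def j9_853_40 : List Job := [
  ⟨14, 0x4844b20124160901, 0, 4, 0x0, []⟩]

theorem t9_853_40 : jobs 8 S9 b8_853 j9_853_40 = true := by decide +kernel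

noncomputable def j9_853_41 : List Job := [
  ⟨12, 0x484492012c160901, 0, 2, 0x201000401, []⟩]

theorem t9_853_41 : jobs 8 S9 b8_853 j9_853_41 = true := by decide +kernel

noncomputable def j9_853_42 : List Job := [
  ⟨6, 0x484492012c160901, 0, 2, 0x201000401, []⟩]

theorem t9_853_42 : jobs 8 S9 b8_853 j9_853_42 = true := by decide +kernel

noncomputable def j9_853_43 : List Job := [
  ⟨5, 0x4844b20124160901, 0, 4, 0x0, []⟩]

theorem t9_853_43 : jobs 8 S9 b8_853 j9_853_43 = true := by decide +kernel

noncomputable def j9_853_44 : List Job := [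
  ⟨4, 0x4844b20124160901, 0, 3, 0x0, []⟩]

theorem t9_853_44 : jobs 8 S9 b8_853 j9_853_44 = true := by decide +kernel

theorem d9_853 : Dn 8 S9 b8_853 := dn_of (Js := j9_853_0 ++ (j9_853_1 ++ (j9_853_2 ++ (j9_853_3 ++ (j9_853_4 ++ (j9_853_5 ++ (j9_853_6 ++ (j9_853_7 ++ (j9_853_8 ++ (j9_853_9 ++ (j9_853_10 ++ (j9_853_11 ++ (j9_853_12 ++ (j9_853_13 ++ (j9_853_14 ++ (j9_853_15 ++ (j9_853_16 ++ (j9_853_17 ++ (j9_853_18 ++ (j9_853_19 ++ (j9_853_20 ++ (j9_853_21 ++ (j9_853_22 ++ (j9_853_23 ++ (j9_853_24 ++ (j9_853_25 ++ (j9_853_26 ++ (j9_853_27 ++ (j9_853_28 ++ (j9_853_29 ++ (j9_853_30 ++ (j9_853_31 ++ (j9_853_32 ++ (j9_853_33 ++ (j9_853_34 ++ (j9_853_35 ++ (j9_853_36 ++ (j9_853_37 ++ (j9_853_38 ++ (j9_853_39 ++ (j9_853_40 ++ (j9_853_41 ++ (j9_853_42 ++ (j9_853_43 ++ (j9_853_44 ++ [])))))))))))))))))))))))))))))))))))))))))))))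
  (jobs_append t9_853_0 <| jobs_append t9_853_1 <| jobs_append t9_853_2 <| jobs_append t9_853_3 <| jobs_append t9_853_4 <| jobs_append t9_853_5 <| jobs_append t9_853_6 <| jobs_append t9_853_7 <| jobs_append t9_853_8 <| jobs_append t9_853_9 <| jobs_append t9_853_10 <| jobs_append t9_853_11 <| jobs_append t9_853_12 <| jobs_append t9_853_13 <| jobs_append t9_853_14 <| jobs_append t9_853_15 <| jobs_append t9_853_16 <| jobs_append t9_853_17 <| jobs_append t9_853_18 <| jobs_append t9_853_19 <| jobs_append t9_853_20 <| jobs_append t9_853_21 <| jobs_append t9_853_22 <| jobs_append t9_853_23 <| jobs_append t9_853_24 <| jobs_append t9_853_25 <| jobs_append t9_853_26 <| jobs_append t9_853_27 <| jobs_append t9_853_28 <| jobs_append t9_853_29 <| jobs_append t9_853_30 <| jobs_append t9_853_31 <| jobs_append t9_853_32 <| jobs_append t9_853_33 <| jobs_append t9_853_34 <| jobs_append t9_853_35 <| jobs_append t9_853_36 <| jobs_append t9_853_37 <| jobs_append t9_853_38 <| jobs_append t9_853_39 <| jobs_append t9_853_40 <| jobs_append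 t9_853_41 <| jobs_append t9_853_42 <| jobs_append t9_853_43 <| jobs_append t9_853_44 <| List.forall_mem_nil _) (by decide +kernel)

noncomputable def j9_854_0 : List Job := [
  ⟨60, 0x4381f0804c180f01, 0, 4, 0x0, []⟩]

theorem t9_854_0 : jobs 8 S9 b8_854 j9_854_0 = true := by decide +kernel

noncomputable def j9_854_1 : List Job := [
  ⟨59, 0x42e15098440e0501, 0, 4, 0x600, [(2, ⟨3216, 0x22014100b41100424005000800104001, 0x189208b020090280802⟩)]⟩]

theorem t9_854_1 : jobs 8 S9 b8_854 j9_854_1 = true := by decide +kernel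

noncomputable def j9_854_2 : List Job := [
  ⟨58, 0x42e15098440e0501, 0, 6, 0xc01, []⟩]

theorem t9_854_2 : jobs 8 S9 b8_854 j9_854_2 = true := by decide +kernel

noncomputable def j9_854_3 : List Job := [
  ⟨57, 0x42e15098440e0501, 0, 3, 0x600, [(2, ⟨3215, 0x26014100b40120024005040810104001, 0x199208b024090280802⟩)]⟩]

theorem t9_854_3 : jobs 8 S9 b8_854 j9_854_3 = true := by decide +kernel

noncomputable def j9_854_4 : List Job := [
  ⟨56, 0x42e15098440e0501, 0, 3, 0x400, [(1, ⟨3214, 0x22c14e04981100020105040800104001, 0x18b2709820080280802⟩)]⟩]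

theorem t9_854_4 : jobs 8 S9 b8_854 j9_854_4 = true := by decide +kernel

noncomputable def j9_854_5 : List Job := [
  ⟨55, 0x4301b0804c160901, 0, 4, 0x0, []⟩]

theorem t9_854_5 : jobs 8 S9 b8_854 j9_854_5 = true := by decide +kernel

noncomputable def j9_854_6 : List Job := [
  ⟨53, 0x4361909844160901, 0, 3, 0x401, []⟩]

theorem t9_854_6 : jobs 8 S9 b8_854 j9_854_6 = true := by decide +kernel

noncomputable def j9_854_7 : List Job := [
  ⟨52, 0x4361909844160901, 0, 5, 0x400, [(1, ⟨3213, 0x27014304900180410002002010100001, 0x19a220a024020401002⟩)]⟩]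

theorem t9_854_7 : jobs 8 S9 b8_854 j9_854_7 = true := by decide +kernel

noncomputable def j9_854_8 : List Job := [
  ⟨51, 0x4361909844160901, 0, 2, 0x401, []⟩]

theorem t9_854_8 : jobs 8 S9 b8_854 j9_854_8 = true := by decide +kernel

noncomputable def j9_854_9 : List Job := [
  ⟨50, 0x4361909844160901, 0, 2, 0x400, [(1, ⟨3212, 0x24004304801180010102002010100001, 0x1902208024020401002⟩)]⟩]

theorem t9_854_9 : jobs 8 S9 b8_854 j9_854_9 = true := by decide +kernel

noncomputable def j9_854_10 : List Job := [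
  ⟨49, 0x4180f0402c0e0501, 0, 2, 0x0, []⟩]

theorem t9_854_10 : jobs 8 S9 b8_854 j9_854_10 = true := by decide +kernel

noncomputable def j9_854_11 : List Job := [
  ⟨48, 0x4381f0d864080701, 0, 4, 0x201000401000601000801, []⟩]

theorem t9_854_11 : jobs 8 S9 b8_854 j9_854_11 = true := by decide +kernel

noncomputable def j9_854_12 : List Job := [
  ⟨47, 0x4381f0d864080701, 0, 4, 0x201000401000601000801, []⟩]

theorem t9_854_12 : jobs 8 S9 b8_854 j9_854_12 = true := by decide +kernel

noncomputable def j9_854_13 : List Job := [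
  ⟨46, 0x4281709844080701, 0, 4, 0x401000801, []⟩]

theorem t9_854_13 : jobs 8 S9 b8_854 j9_854_13 = true := by decide +kernel

noncomputable def j9_854_14 : List Job := [
  ⟨45, 0x4281709844080701, 0, 5, 0x401000a01, []⟩]

theorem t9_854_14 : jobs 8 S9 b8_854 j9_854_14 = true := by decide +kernel

noncomputable def j9_854_15 : List Job := [
  ⟨33, 0x4c06232198d06a361b8e0723a1d8f07a3e1fc804222118904a26138a0522a158b05a2e17c663111884261101, 0, 6, 0x201000401000801, []⟩]

theorem t9_854_15 : jobs 8 S9 b8_854 j9_854_15 = true := by decide +kernel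

noncomputable def j9_854_16 : List Job := [
  ⟨32, 0x4c06232198d06a361b8e0723a1d8f07a3e1fc804222118904a26138a0522a158b05a2e17c663111884261101, 0, 8, 0x401000c01000e01, []⟩]

theorem t9_854_16 : jobs 8 S9 b8_854 j9_854_16 = true := by decide +kernel

noncomputable def j9_854_17 : List Job := [
  ⟨15, 0x4c06232198d06a361b8e0723a1d8f07a3e1fc804222118904a26138a0522a158b05a2e17c6e35178b43e1d01, 0, 6, 0x401000801, []⟩]

theorem t9_854_17 : jobs 8 S9 b8_854 j9_854_17 = true := by decide +kernel

noncomputable def j9_854_18 : List Job := [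
  ⟨14, 0x4c06232198d06a361b8e0723a1d8f07a3e1fc804222118904a26138a0522a158b05a2e17c6e35178b43e1d01, 0, 9, 0x401000a01000e01, []⟩]

theorem t9_854_18 : jobs 8 S9 b8_854 j9_854_18 = true := by decide +kernel

noncomputable def j9_854_19 : List Job := [
  ⟨13, 0x4804222118a0522a15c381f0804c180f01, 0, 10, 0x0, []⟩]

theorem t9_854_19 : jobs 8 S9 b8_854 j9_854_19 = true := by decide +kernel

noncomputable def j9_854_20 : List Job := [
  ⟨12, 0x4180f05824080701, 0, 10, 0x0, []⟩]

theorem t9_854_20 : jobs 8 S9 b8_854 j9_854_20 = true := by decide +kernel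

noncomputable def j9_854_21 : List Job := [
  ⟨11, 0x4904a26138b05a2e17c804222118a0522a15c180f05824080701, 0, 10, 0x0, []⟩]

theorem t9_854_21 : jobs 8 S9 b8_854 j9_854_21 = true := by decide +kernel

noncomputable def j9_854_22 : List Job := [
  ⟨10, 0x4804222118a0522a15c381f0c06c080701, 0, 10, 0x0, []⟩]

theorem t9_854_22 : jobs 8 S9 b8_854 j9_854_22 = true := by decide +kernel

noncomputable def j9_854_23 : List Job := [
  ⟨9, 0x4361909844160901, 0, 6, 0x0, []⟩]

theorem t9_854_23 : jobs 8 S9 b8_854 j9_854_23 = true := by decide +kernel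

noncomputable def j9_854_24 : List Job := [
  ⟨8, 0x4361909844160901, 0, 6, 0x0, []⟩]

theorem t9_854_24 : jobs 8 S9 b8_854 j9_854_24 = true := by decide +kernel

noncomputable def j9_854_25 : List Job := [
  ⟨7, 0x4904a26138b05a2e17c804222118a0522a15c361909844160901, 0, 12, 0x1200001401, [(8, ⟨3211, 0x4a804b0246045000400020008040400001, 0x1932609024080101002⟩)]⟩]

theorem t9_854_25 : jobs 8 S9 b8_854 j9_854_25 = true := by decide +kernel

noncomputable def j9_854_26 : List Job := [
  ⟨6, 0x4904a26138b05a2e17c804222118a0522a15c361909844160901, 0, 14, 0x1600001c00, [(13, ⟨3210, 0x4200470056044008401020008000400001, 0x182230b020080101002⟩), (10, ⟨3209, 0x4600420042004008401030208000408001, 0x18a2208420080101402⟩)]⟩]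

theorem t9_854_26 : jobs 8 S9 b8_854 j9_854_26 = true := by decide +kernel

noncomputable def j9_854_27 : List Job := [
  ⟨5, 0x4804222118a0522a15c28170804c0e0501, 0, 10, 0x0, []⟩]

theorem t9_854_27 : jobs 8 S9 b8_854 j9_854_27 = true := by decide +kernel

noncomputable def j9_854_28 : List Job := [
  ⟨4, 0x43e1d0b854160901, 0, 6, 0x0, []⟩]

theorem t9_854_28 : jobs 8 S9 b8_854 j9_854_28 = true := by decide +kernel

noncomputable def j9_854_29 : List Job := [
  ⟨3, 0x43e1d0b854160901, 0, 6, 0x0, []⟩]

theorem t9_854_29 : jobs 8 S9 b8_854 j9_854_29 = true := by decide +kernel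

noncomputable def j9_854_30 : List Job := [
  ⟨2, 0x4904a26138b05a2e17c804222118a0522a15c3e1d0b854160901, 0, 14, 0xa01000c01, []⟩]

theorem t9_854_30 : jobs 8 S9 b8_854 j9_854_30 = true := by decide +kernel

noncomputable def j9_854_31 : List Job := [
  ⟨1, 0x4904a26138b05a2e17c804222118a0522a15c3e1d0b854160901, 0, 12, 0xa00000c00, [(5, ⟨3205, 0x4e014e0054005400401020002001008001, 0x199268b026080081004⟩), (4, ⟨3204, 0x4181420244004400480030002041008001, 0x18622090240a0081804⟩)]⟩]

theorem t9_854_31 : jobs 8 S9 b8_854 j9_854_31 = true := by decide +kernel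

noncomputable def j9_854_32 : List Job := [
  ⟨0, 0x4804222118a0522a15c301b0a05c180f01, 0, 10, 0x0, []⟩]

theorem t9_854_32 : jobs 8 S9 b8_854 j9_854_32 = true := by decide +kernel

theorem d9_854 : Dn 8 S9 b8_854 := dn_of (Js := j9_854_0 ++ (j9_854_1 ++ (j9_854_2 ++ (j9_854_3 ++ (j9_854_4 ++ (j9_854_5 ++ (j9_854_6 ++ (j9_854_7 ++ (j9_854_8 ++ (j9_854_9 ++ (j9_854_10 ++ (j9_854_11 ++ (j9_854_12 ++ (j9_854_13 ++ (j9_854_14 ++ (j9_854_15 ++ (j9_854_16 ++ (j9_854_17 ++ (j9_854_18 ++ (j9_854_19 ++ (j9_854_20 ++ (j9_854_21 ++ (j9_854_22 ++ (j9_854_23 ++ (j9_854_24 ++ (j9_854_25 ++ (j9_854_26 ++ (j9_854_27 ++ (j9_854_28 ++ (j9_854_29 ++ (j9_854_30 ++ (j9_854_31 ++ (j9_854_32 ++ [])))))))))))))))))))))))))))))))))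
  (jobs_append t9_854_0 <| jobs_append t9_854_1 <| jobs_append t9_854_2 <| jobs_append t9_854_3 <| jobs_append t9_854_4 <| jobs_append t9_854_5 <| jobs_append t9_854_6 <| jobs_append t9_854_7 <| jobs_append t9_854_8 <| jobs_append t9_854_9 <| jobs_append t9_854_10 <| jobs_append t9_854_11 <| jobs_append t9_854_12 <| jobs_append t9_854_13 <| jobs_append t9_854_14 <| jobs_append t9_854_15 <| jobs_append t9_854_16 <| jobs_append t9_854_17 <| jobs_append t9_854_18 <| jobs_append t9_854_19 <| jobs_append t9_854_20 <| jobs_append t9_854_21 <| jobs_append t9_854_22 <| jobs_append t9_854_23 <| jobs_append t9_854_24 <| jobs_append t9_854_25 <| jobs_append t9_854_26 <| jobs_append t9_854_27 <| jobs_append t9_854_28 <| jobs_append t9_854_29 <| jobs_append t9_854_30 <| jobs_append t9_854_31 <| jobs_append t9_854_32 <| List.forall_mem_nil _) (by decide +kernel)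

noncomputable def j9_855_0 : List Job := [
  ⟨58, 0x5008242219108a4623920924a259309a4e27c804222118904a26138a0522a158b05a2e17c261101, 0, 3, 0x0, []⟩]

theorem t9_855_0 : jobs 8 S9 b8_855 j9_855_0 = true := by decide +kernel

noncomputable def j9_855_1 : List Job := [
  ⟨57, 0x5008242219108a4623920924a259309a4e27c804222118904a26138a0522a158b05a2e17c261101, 0, 6, 0x0, []⟩]

theorem t9_855_1 : jobs 8 S9 b8_855 j9_855_1 = true := by decide +kernel

noncomputable def j9_855_2 : List Job := [
  ⟨53, 0x5008242219108a4623920924a259309a4e27ca0522a158b05a2e17c804222118904a2613c261101, 0, 2, 0x0, []⟩]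

theorem t9_855_2 : jobs 8 S9 b8_855 j9_855_2 = true := by decide +kernel

noncomputable def j9_855_3 : List Job := [
  ⟨46, 0x5008242219108a4623920924a259309a4e27ca0522a158b05a2e17c804222118904a2613c261101, 0, 4, 0x210000610, []⟩]

theorem t9_855_3 : jobs 8 S9 b8_855 j9_855_3 = true := by decide +kernel

noncomputable def j9_855_4 : List Job := [
  ⟨45, 0x5008242219108a4623920924a259309a4e27ca0522a158b05a2e17c804222118904a2613c261101, 0, 8, 0x210000411000a10000c11, []⟩]

theorem t9_855_4 : jobs 8 S9 b8_855 j9_855_4 = true := by decide +kernel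

noncomputable def j9_855_5 : List Job := [
  ⟨40, 0x5008242219108a4623c804222118904a2613c160901, 0, 3, 0x0, []⟩]

theorem t9_855_5 : jobs 8 S9 b8_855 j9_855_5 = true := by decide +kernel

noncomputable def j9_855_6 : List Job := [
  ⟨39, 0x5008242219108a4623c804222118904a2613c160901, 0, 6, 0x0, []⟩]

theorem t9_855_6 : jobs 8 S9 b8_855 j9_855_6 = true := by decide +kernel

noncomputable def j9_855_7 : List Job := [
  ⟨32, 0x5008242219108a4623c904a2613c80422211c160901, 0, 4, 0x208000608, []⟩]

theorem t9_855_7 : jobs 8 S9 b8_855 j9_855_7 = true := by decide +kernel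

noncomputable def j9_855_8 : List Job := [
  ⟨31, 0x5008242219108a4623c904a2613c80422211c160901, 0, 8, 0x208000409000a08000c09, []⟩]

theorem t9_855_8 : jobs 8 S9 b8_855 j9_855_8 = true := by decide +kernel

noncomputable def j9_855_9 : List Job := [
  ⟨24, 0x5108a4623d00824221c904a2613c80422211c160901, 0, 4, 0x208000401000608, []⟩]

theorem t9_855_9 : jobs 8 S9 b8_855 j9_855_9 = true := by decide +kernel

noncomputable def j9_855_10 : List Job := [
  ⟨23, 0x5108a4623d00824221c904a2613c80422211c160901, 0, 8, 0x208000400000608000808000a00000c08, [(4, ⟨3221, 0x4280430044044000101080002001000001, 0x183240a820040082004⟩), (1, ⟨3220, 0x4600230080045008101080202001000001, 0x1841012022040082004⟩)]⟩]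

theorem t9_855_10 : jobs 8 S9 b8_855 j9_855_10 = true := by decide +kernel

noncomputable def j9_855_11 : List Job := [
  ⟨19, 0x520924a259309a4e27d008242219108a4623ca0522a158b05a2e17c804222118904a2613c261101, 0, 2, 0x200, [(0, ⟨3222, 0x418145004c004408281080206040400001, 0x183250a022040480c02⟩)]⟩]

theorem t9_855_11 : jobs 8 S9 b8_855 j9_855_11 = true := by decide +kernel

noncomputable def j9_855_12 : List Job := [
  ⟨12, 0x520924a259309a4e27d008242219108a4623ca0522a158b05a2e17c804222118904a2613c261101, 0, 4, 0x200000401000611, [(0, ⟨3219, 0x4501220094044408380080206000408001, 0x1861310822040580c02⟩)]⟩]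

theorem t9_855_12 : jobs 8 S9 b8_855 j9_855_12 = true := by decide +kernel

noncomputable def j9_855_13 : List Job := [
  ⟨11, 0x520924a259309a4e27d008242219108a4623ca0522a158b05a2e17c804222118904a2613c261101, 0, 8, 0x210000400000610000810000a00000c10, [(4, ⟨3218, 0x4001270080004000281080004040400001, 0x1801012420040480802⟩), (1, ⟨3217, 0x4001270080004000281080004040400001, 0x1801012420040480802⟩)]⟩]

theorem t9_855_13 : jobs 8 S9 b8_855 j9_855_13 = true := by decide +kernel

noncomputable def j9_855_14 : List Job := [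
  ⟨8, 0x41e0d058240e0501, 0, 4, 0x201000401000601000801, []⟩]

theorem t9_855_14 : jobs 8 S9 b8_855 j9_855_14 = true := by decide +kernel

noncomputable def j9_855_15 : List Job := [
  ⟨4, 0x4663111884261101, 0, 2, 0x201, []⟩]

theorem t9_855_15 : jobs 8 S9 b8_855 j9_855_15 = true := by decide +kernel

noncomputable def j9_855_16 : List Job := [
  ⟨3, 0x4663111884261101, 0, 5, 0x401, []⟩]

theorem t9_855_16 : jobs 8 S9 b8_855 j9_855_16 = true := by decide +kernel

noncomputable def j9_855_17 : List Job := [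
  ⟨2, 0x4663111884261101, 0, 2, 0x401, []⟩]

theorem t9_855_17 : jobs 8 S9 b8_855 j9_855_17 = true := by decide +kernel

noncomputable def j9_855_18 : List Job := [
  ⟨1, 0x4663111884261101, 0, 2, 0x201, []⟩]

theorem t9_855_18 : jobs 8 S9 b8_855 j9_855_18 = true := by decide +kernel

theorem d9_855 : Dn 8 S9 b8_855 := dn_of (Js := j9_855_0 ++ (j9_855_1 ++ (j9_855_2 ++ (j9_855_3 ++ (j9_855_4 ++ (j9_855_5 ++ (j9_855_6 ++ (j9_855_7 ++ (j9_855_8 ++ (j9_855_9 ++ (j9_855_10 ++ (j9_855_11 ++ (j9_855_12 ++ (j9_855_13 ++ (j9_855_14 ++ (j9_855_15 ++ (j9_855_16 ++ (j9_855_17 ++ (j9_855_18 ++ [])))))))))))))))))))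
  (jobs_append t9_855_0 <| jobs_append t9_855_1 <| jobs_append t9_855_2 <| jobs_append t9_855_3 <| jobs_append t9_855_4 <| jobs_append t9_855_5 <| jobs_append t9_855_6 <| jobs_append t9_855_7 <| jobs_append t9_855_8 <| jobs_append t9_855_9 <| jobs_append t9_855_10 <| jobs_append t9_855_11 <| jobs_append t9_855_12 <| jobs_append t9_855_13 <| jobs_append t9_855_14 <| jobs_append t9_855_15 <| jobs_append t9_855_16 <| jobs_append t9_855_17 <| jobs_append t9_855_18 <| List.forall_mem_nil _) (by decide +kernel)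

noncomputable def j9_856_0 : List Job := [
  ⟨63, 0x4703a1e0fc0e0501, 0, 12, 0x0, []⟩]

theorem t9_856_0 : jobs 8 S9 b8_856 j9_856_0 = true := by decide +kernel

noncomputable def j9_856_1 : List Job := [
  ⟨62, 0x601028241a21128a45a41229249a61329a4dd008242219108a4623940a25229950aa562bc804222118904a26138a0522a158b05a2e17c703a1e0fc0e0501, 0, 16, 0x0, []⟩]

theorem t9_856_1 : jobs 8 S9 b8_856 j9_856_1 = true := by decide +kernel

noncomputable def j9_856_2 : List Job := [
  ⟨61, 0x4703a1e0fc60321a0dc502a160bc48271008c301a0e07c241708054140d0403c0e0501, 0, 12, 0x0, []⟩]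

theorem t9_856_2 : jobs 8 S9 b8_856 j9_856_2 = true := by decide +kernel

noncomputable def j9_856_3 : List Job := [
  ⟨54, 0x60504894524524984de01068845a4126994d508864623948a6542ad00824422940a2562bc844625138a4562c174804424130a0542d17c703a1e0fc60321a0dc502a160bc442710094301a0e07c28170804c140d0403c0e0501, 0, 52, 0xe00001000002600002a00004a00005200005600006400, [(49, ⟨3263, 0x2400040004a800100042800050000c00010040001, 0x190200a0200b0280c02⟩), (42, ⟨3261, 0x8801800011400080001000130040801030000001, 0x14015a080a100400806⟩), (40, ⟨3262, 0x8801800051401080041000130040801030000001, 0x14015a080a100400806⟩), (36, ⟨3260, 0x8801800011401080001000130040801030000001, 0x14015a080a100400806⟩), (20, ⟨3259, 0x2400040000a801100002800050040c00010000001, 0x190200a0200b0280c02⟩), (18, ⟨3258, 0x2400040000a801100002800050040c00010000001, 0x190200a0200b0280c02⟩), (7, ⟨3257, 0x15c008800498001200418000b0000401030040001, 0x1454c8a026050580c04⟩), (6, ⟨3256, 0x2400040000a801100002801050040c00010000001, 0x190200a0200b0280c02⟩)]⟩]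

theorem t9_856_3 : jobs 8 S9 b8_856 j9_856_3 = true := by decide +kernel

noncomputable def j9_856_4 : List Job := [
  ⟨44, 0x520924c26960b25e2fd00824422940a2562bc844625130a4562d174804424138a0542c17c703a1e0fc502a160bc301a0e07c281709844100a0603c080701, 0, 24, 0x200000401000801000e01001400001601001a00001e00002000002400002601002801002c01, [(17, ⟨3254, 0x132015000138004002100007000100404020001, 0x1982889020080380802⟩), (15, ⟨3253, 0x132004400178044802100005000100004020001, 0x19a228b824080280802⟩), (14, ⟨3252, 0x132015000938004002100007008100404020001, 0x1982889020080380802⟩), (12, ⟨3251, 0x132004400978004802100005000100004020001, 0x19a228b824080280802⟩), (9, ⟨3255, 0x132014400178004800100005000100004020001, 0x19a228b824080280802⟩), (0, ⟨3250, 0x132004400178004800100005000100004020001, 0x19a228b824080280802⟩)]⟩]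

theorem t9_856_4 : jobs 8 S9 b8_856 j9_856_4 = true := by decide +kernel

noncomputable def j9_856_5 : List Job := [
  ⟨43, 0x601028241a21128a45a41229249a61329a4dd20924c26960b25e2fd00824422940a2562bc844625130a4562d174804424138a0542c17c703a1e0fc502a160bc301a0e07c281709844100a0603c080701, 0, 48, 0x200000600000a01001e00002601002801002a00002e01003200003600003e00004200004a01004c01004e00005201005a00, [(44, ⟨3248, 0x106015e00940004800100107008180004000001, 0x1822f0a026080300c02⟩), (38, ⟨3244, 0x106015e00940004800100107000180004000001, 0x1822f0a026080300c02⟩), (32, ⟨3247, 0x106015e00940004802100007000180004020001, 0x1822f0a026080300c02⟩), (30, ⟨3246, 0x106015e00940004802100007000180004020001, 0x1822f0a026080300c02⟩), (26, ⟨3243, 0x106015e00940004802100007008180004020001, 0x1822f0a026080300c02⟩), (24, ⟨3242, 0x106015e00940004802100007008180004020001, 0x1822f0a026080300c02⟩), (20, ⟨3249, 0x106015e00940004802100107008180004000001, 0x1822f0a026080300c02⟩), (14, ⟨3245, 0x106015e00940004802100107000180004000001, 0x1822f0a026080300c02⟩),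 (2, ⟨3241, 0x106015e00940004800100007008180004020001, 0x1822f0a026080300c02⟩), (0, ⟨3240, 0x106015e00940004800100007008180004020001, 0x1822f0a026080300c02⟩)]⟩]

theorem t9_856_5 : jobs 8 S9 b8_856 j9_856_5 = true := by decide +kernel

noncomputable def j9_856_6 : List Job := [
  ⟨40, 0x60504894524526994de01068845a4124984d520924c26960b25e2fd00824422940a2562bc844625130a4562d174804424138a0542c17c60321a0dc40221209c301a0e07c281709844100a0603c080701, 0, 18, 0x200000600000800001001001600002201, [(10, ⟨3239, 0x44014500400001402100112000100004020001, 0x120282080c080880802⟩), (3, ⟨3237, 0x44004500400001402100012000100404000001, 0x120282080c080880802⟩), (2, ⟨3238, 0x44014500c00001402100012000100004020001, 0x120282080c080880802⟩), (0, ⟨3236, 0x44004500c00001402100012000100404000001, 0x120282080c080880802⟩)]⟩]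

theorem t9_856_6 : jobs 8 S9 b8_856 j9_856_6 = true := by decide +kernel

noncomputable def j9_856_7 : List Job := [
  ⟨19, 0x6110a8643a311a8e47a512a964ba713a9e4fe01028241a21128a45a41229249a61329a4dd20924a259309a4e27960b25a2d970ba5e2fd008242219108a4623940a25229950aa562bc844a2916c804828164361909844160901, 0, 21, 0x0, []⟩]

theorem t9_856_7 : jobs 8 S9 b8_856 j9_856_7 = true := by decide +kernel

noncomputable def j9_856_8 : List Job := [
  ⟨15, 0x508874020c88472010c0e0501, 0, 8, 0x204000401000604000804000a01000c04, []⟩]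

theorem t9_856_8 : jobs 8 S9 b8_856 j9_856_8 = true := by decide +kernel

noncomputable def j9_856_9 : List Job := [
  ⟨13, 0x48e45219040e0501, 0, 6, 0x401000a01, []⟩]

theorem t9_856_9 : jobs 8 S9 b8_856 j9_856_9 = true := by decide +kernel

noncomputable def j9_856_10 : List Job := [
  ⟨12, 0x588c76030d08874020c8e45219040e0501, 0, 16, 0x204000804001204001804, []⟩]

theorem t9_856_10 : jobs 8 S9 b8_856 j9_856_10 = true := by decide +kernel

noncomputable def j9_856_11 : List Job := [
  ⟨3, 0x540a25229950aa562b960b25a2d970ba5e2fd008242219108a4623920924a259309a4e27cc06232198d06a361b8e0723a1d8f07a3e1fc804222118904a26138a0522a158b05a2e17c462101, 0, 2, 0x200, [(0, ⟨3224, 0x40014a006c044000781070006000408001, 0x180250d8200f0380c02⟩)]⟩]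

theorem t9_856_11 : jobs 8 S9 b8_856 j9_856_11 = true := by decide +kernel

noncomputable def j9_856_12 : List Job := [
  ⟨2, 0x540a25229950aa562b960b25a2d970ba5e2fd008242219108a4623920924a259309a4e27cc06232198d06a361b8e0723a1d8f07a3e1fc804222118904a26138a0522a158b05a2e17c462101, 0, 8, 0x220000401000620000800000a01000c20, [(3, ⟨3223, 0x48002a029e044000680060206000408001, 0x19016120200c0300c02⟩)]⟩]

theorem t9_856_12 : jobs 8 S9 b8_856 j9_856_12 = true := by decide +kernel

theorem d9_856 : Dn 8 S9 b8_856 := dn_of (Js := j9_856_0 ++ (j9_856_1 ++ (j9_856_2 ++ (j9_856_3 ++ (j9_856_4 ++ (j9_856_5 ++ (j9_856_6 ++ (j9_856_7 ++ (j9_856_8 ++ (j9_856_9 ++ (j9_856_10 ++ (j9_856_11 ++ (j9_856_12 ++ [])))))))))))))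
  (jobs_append t9_856_0 <| jobs_append t9_856_1 <| jobs_append t9_856_2 <| jobs_append t9_856_3 <| jobs_append t9_856_4 <| jobs_append t9_856_5 <| jobs_append t9_856_6 <| jobs_append t9_856_7 <| jobs_append t9_856_8 <| jobs_append t9_856_9 <| jobs_append t9_856_10 <| jobs_append t9_856_11 <| jobs_append t9_856_12 <| List.forall_mem_nil _) (by decide +kernel)

noncomputable def j9_857_0 : List Job := [
  ⟨61, 0x4844625130c466351b4804424138c064341bc703a1e0fc502a160bc482711884301a0e07c100a0603c080701, 0, 8, 0x200000400000601000801000a01000c01001000, [(7, ⟨3290, 0x800140012001080004001000030001000001, 0x1802008008100400c02⟩), (1, ⟨3288, 0x800040012001080004001000030001000001, 0x1802008008100400c02⟩), (0, ⟨3289, 0x800040012001080004001000030001000001, 0x1802008008100400c02⟩)]⟩]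

theorem t9_857_0 : jobs 8 S9 b8_857 j9_857_0 = true := by decide +kernel

noncomputable def j9_857_1 : List Job := [
  ⟨60, 0x500824221920924a25940a25229960b25a2dc844625130c466351b4804424138c064341bc703a1e0fc502a160bc482711884301a0e07c100a0603c080701, 0, 16, 0x220000420000620000820000a01000c01001601001801001e20002020, []⟩]

theorem t9_857_1 : jobs 8 S9 b8_857 j9_857_1 = true := by decide +kernel

noncomputable def j9_857_2 : List Job := [
  ⟨50, 0x504844925944a4592dd00864825140a6582d4844625130c466351b4804424138c064341bc60321a0dc502a160bc48271188420120a05c100a0603c080701, 0, 9, 0x220000420000620000820, []⟩]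

theorem t9_857_2 : jobs 8 S9 b8_857 j9_857_2 = true := by decide +kernel

noncomputable def j9_857_3 : List Job := [
  ⟨25, 0x5108a46239309a4e27950aa562b970ba5e2fd00824221920924a25940a25229960b25a2dc844a301a48048311ac562911884160901, 0, 12, 0x0, []⟩]

theorem t9_857_3 : jobs 8 S9 b8_857 j9_857_3 = true := by decide +kernel

noncomputable def j9_857_4 : List Job := [
  ⟨24, 0x5108a46239309a4e27950aa562b970ba5e2fd00824221920924a25940a25229960b25a2dc844a311ac8048301a4562911884160901, 0, 15, 0x0, []⟩]

theorem t9_857_4 : jobs 8 S9 b8_857 j9_857_4 = true := by decide +kernel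

noncomputable def j9_857_5 : List Job := [
  ⟨22, 0x47e3d1d8e40e0501, 0, 6, 0x202000402, []⟩]

theorem t9_857_5 : jobs 8 S9 b8_857 j9_857_5 = true := by decide +kernel

noncomputable def j9_857_6 : List Job := [
  ⟨21, 0x47e3d1d8e40e0501, 0, 7, 0x202000402, []⟩]

theorem t9_857_6 : jobs 8 S9 b8_857 j9_857_6 = true := by decide +kernel

noncomputable def j9_857_7 : List Job := [
  ⟨20, 0x6110a8643a311a8e47a512a964ba713a9e4fe01028241a21128a45a41229249a61329a4dd20924a259309a4e27960b25a2d970ba5e2fd008242219108a4623940a25229950aa562bcc06232198d06a361b8e0723a1d8f07a3e1fc804222118904a26138a0522a158b05a2e17c7e3d1d8e40e0501, 0, 24, 0x204, []⟩]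

theorem t9_857_7 : jobs 8 S9 b8_857 j9_857_7 = true := by decide +kernel

noncomputable def j9_857_8 : List Job := [
  ⟨9, 0x6110a8643a311a8e47a512a964ba713a9e4fe01028241a21128a45a41229249a61329a4dd20924a259309a4e27960b25a2d970ba5e2fd008242219108a4623940a25229950aa562bcc06232198d06a361b8e0723a1d8f07a3e1fc804222118904a26138a0522a158b05a2e17c7e3d1b8d4160901, 0, 18, 0x1601, []⟩]

theorem t9_857_8 : jobs 8 S9 b8_857 j9_857_8 = true := by decide +kernel

noncomputable def j9_857_9 : List Job := [
  ⟨1, 0x4703a1e0fc0e0501, 0, 20, 0x0, []⟩]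

theorem t9_857_9 : jobs 8 S9 b8_857 j9_857_9 = true := by decide +kernel

noncomputable def j9_857_10 : List Job := [
  ⟨0, 0x601028241a21128a45a41229249a61329a4dd008242219108a4623940a25229950aa562bc804222118904a26138a0522a158b05a2e17c703a1e0fc0e0501, 0, 20, 0x0, []⟩]

theorem t9_857_10 : jobs 8 S9 b8_857 j9_857_10 = true := by decide +kernel

theorem d9_857 : Dn 8 S9 b8_857 := dn_of (Js := j9_857_0 ++ (j9_857_1 ++ (j9_857_2 ++ (j9_857_3 ++ (j9_857_4 ++ (j9_857_5 ++ (j9_857_6 ++ (j9_857_7 ++ (j9_857_8 ++ (j9_857_9 ++ (j9_857_10 ++ [])))))))))))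
  (jobs_append t9_857_0 <| jobs_append t9_857_1 <| jobs_append t9_857_2 <| jobs_append t9_857_3 <| jobs_append t9_857_4 <| jobs_append t9_857_5 <| jobs_append t9_857_6 <| jobs_append t9_857_7 <| jobs_append t9_857_8 <| jobs_append t9_857_9 <| jobs_append t9_857_10 <| List.forall_mem_nil _) (by decide +kernel)

noncomputable def j9_858_0 : List Job := [
  ⟨61, 0x460321a0dc502a160bc48271188420120a05c100a0603c080701, 0, 3, 0x201000401, []⟩]

theorem t9_858_0 : jobs 8 S9 b8_858 j9_858_0 = true := by decide +kernel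

noncomputable def j9_858_1 : List Job := [
  ⟨59, 0x460321a0dc502a160bc48271188420120a05c100a0603c080701, 0, 6, 0x220000420000620000820, []⟩]

theorem t9_858_1 : jobs 8 S9 b8_858 j9_858_1 = true := by decide +kernel

noncomputable def j9_858_2 : List Job := [
  ⟨50, 0x4562911884160901, 0, 4, 0x0, []⟩]

theorem t9_858_2 : jobs 8 S9 b8_858 j9_858_2 = true := by decide +kernel

noncomputable def j9_858_3 : List Job := [
  ⟨49, 0x4562911884160901, 0, 6, 0x0, []⟩]

theorem t9_858_3 : jobs 8 S9 b8_858 j9_858_3 = true := by decide +kernel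

noncomputable def j9_858_4 : List Job := [
  ⟨48, 0x641229249a512a964ba61329a4da713a9e4fe01028241a110a8643a21128a45a311a8e47c4e25118840e0501, 0, 6, 0xa02000c02, []⟩]

theorem t9_858_4 : jobs 8 S9 b8_858 j9_858_4 = true := by decide +kernel

noncomputable def j9_858_5 : List Job := [
  ⟨47, 0x641229249a512a964ba61329a4da713a9e4fe01028241a110a8643a21128a45a311a8e47c4e25118840e0501, 0, 6, 0x0, []⟩]

theorem t9_858_5 : jobs 8 S9 b8_858 j9_858_5 = true := by decide +kernel

noncomputable def j9_858_6 : List Job := [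
  ⟨44, 0x64926964ba69369c4ee01028442a21128e47c703a1e0fc502a160bc4e251008c301a0e07c100a0603c080701, 0, 9, 0x200000600000a00, [(4, ⟨3309, 0x8400520173000b000c011101020101010001, 0x19a239900a130d00802⟩), (2, ⟨3308, 0x920040002300080005011101020001010001, 0x1872008c0a100480802⟩), (0, ⟨3307, 0x92014201710109000f001101020101000001, 0x1872118c0a110d80802⟩)]⟩]

theorem t9_858_6 : jobs 8 S9 b8_858 j9_858_6 = true := by decide +kernel

noncomputable def j9_858_7 : List Job := [
  ⟨42, 0x64926964ba69369c4ee01028442a21128e47c703a1e0fc502a160bc4e251008c301a0e07c100a0603c080701, 0, 9, 0x401000601000a00000e01001201, [(4, ⟨3306, 0x8f01500122010a0107001000020101000001, 0x19a2208808120580802⟩)]⟩]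

theorem t9_858_7 : jobs 8 S9 b8_858 j9_858_7 = true := by decide +kernel

noncomputable def j9_858_8 : List Job := [
  ⟨31, 0x641229249a512a964ba61329a4da713a9e4fe01028241a110a8643a21128a45a311a8e47c562911884160901, 0, 12, 0x0, []⟩]

theorem t9_858_8 : jobs 8 S9 b8_858 j9_858_8 = true := by decide +kernel

noncomputable def j9_858_9 : List Job := [
  ⟨24, 0x5108a46239309a4e27950aa562b970ba5e2fd00824221920924a25940a25229960b25a2dca0522a158b05a2e178e0723a1d8f07a3e1fc804222118904a26138c06232198d06a361bc7e3d118843e1d01, 0, 12, 0xe01, []⟩]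

theorem t9_858_9 : jobs 8 S9 b8_858 j9_858_9 = true := by decide +kernel

noncomputable def j9_858_10 : List Job := [
  ⟨9, 0x5108a46239309a4e27950aa562b970ba5e2fd00824221920924a25940a25229960b25a2dca0522a158b05a2e178e0723a1d8f07a3e1fc804222118904a26138c06232198d06a361bc6e35178b43e1d01, 0, 12, 0x801000a01000e01001801, []⟩]

theorem t9_858_10 : jobs 8 S9 b8_858 j9_858_10 = true := by decide +kernel

theorem d9_858 : Dn 8 S9 b8_858 := dn_of (Js := j9_858_0 ++ (j9_858_1 ++ (j9_858_2 ++ (j9_858_3 ++ (j9_858_4 ++ (j9_858_5 ++ (j9_858_6 ++ (j9_858_7 ++ (j9_858_8 ++ (j9_858_9 ++ (j9_858_10 ++ [])))))))))))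
  (jobs_append t9_858_0 <| jobs_append t9_858_1 <| jobs_append t9_858_2 <| jobs_append t9_858_3 <| jobs_append t9_858_4 <| jobs_append t9_858_5 <| jobs_append t9_858_6 <| jobs_append t9_858_7 <| jobs_append t9_858_8 <| jobs_append t9_858_9 <| jobs_append t9_858_10 <| List.forall_mem_nil _) (by decide +kernel)

noncomputable def j9_859_0 : List Job := [
  ⟨63, 0x601028241a21128a45a41229249a713a9e4fc28160e07c20120c06c180f0402c0e0501, 0, 16, 0x0, []⟩]

theorem t9_859_0 : jobs 8 S9 b8_859 j9_859_0 = true := by decide +kernel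

noncomputable def j9_859_1 : List Job := [
  ⟨62, 0x601028241a21128a45a41229249a713a9e4fda4d46c379c0e6743bda0d66d371c4e4753b5008242219108a4623940a25229950aa562bc28160e07c20120c06c180f0402c0e0501, 0, 32, 0x2200002400003201003401003a01, [(17, ⟨3328, 0x800040002000100008000200040001000001, 0x1802008020080101002⟩), (16, ⟨3327, 0x800040002000100008000200040001000001, 0x1802008020080101002⟩)]⟩]

theorem t9_859_1 : jobs 8 S9 b8_859 j9_859_1 = true := by decide +kernel

noncomputable def j9_859_2 : List Job := [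
  ⟨61, 0x601028241a21128a45a41229249a713a9e4fda0d26a359b0da6e379c0e272399d0ea763bc28160e07c20120c06c180f0402c0e0501, 0, 16, 0x0, []⟩]

theorem t9_859_2 : jobs 8 S9 b8_859 j9_859_2 = true := by decide +kernel

noncomputable def j9_859_3 : List Job := [
  ⟨60, 0x601028241a21128a45a41229249a713a9e4fd04864523944a6542b500844423140a4552bc28160e07c20120c06c180f0402c0e0501, 0, 16, 0x0, []⟩]

theorem t9_859_3 : jobs 8 S9 b8_859 j9_859_3 = true := by decide +kernel

noncomputable def j9_859_4 : List Job := [
  ⟨59, 0x5008242219108a4623940a25229950aa562bc241b08064160901, 0, 16, 0x202000402000602000802000a02000c02000e02001002, []⟩]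

theorem t9_859_4 : jobs 8 S9 b8_859 j9_859_4 = true := by decide +kernel

noncomputable def j9_859_5 : List Job := [
  ⟨58, 0x6110a8643a311a8e47a512a964ba61329a4de01028241a21128a45a41229249a713a9e4fd008242219108a4623940a25229950aa562bc241b08064160901, 0, 16, 0x202000402000602000802000a02000c02000e02001002, []⟩]

theorem t9_859_5 : jobs 8 S9 b8_859 j9_859_5 = true := by decide +kernel

noncomputable def j9_859_6 : List Job := [
  ⟨57, 0x4241b08064160901, 0, 10, 0x202000402000602000802000a01000c01000e02001002001201001403, []⟩]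

theorem t9_859_6 : jobs 8 S9 b8_859 j9_859_6 = true := by decide +kernel

noncomputable def j9_859_7 : List Job := [
  ⟨56, 0x6110a8643a311a8e47a512a964ba61329a4de01028241a21128a45a41229249a713a9e4fc241b08064160901, 0, 10, 0x202000402000602000802000a01000c01000e02001002001201001403, []⟩]

theorem t9_859_7 : jobs 8 S9 b8_859 j9_859_7 = true := by decide +kernel

noncomputable def j9_859_8 : List Job := [
  ⟨55, 0x5a0d26a359b0da6e379c0e272399d0ea763bd008242219108a4623940a25229950aa562bc241b08064160901, 0, 10, 0x202000402000602000802000a01000c02000e02001002, []⟩]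

theorem t9_859_8 : jobs 8 S9 b8_859 j9_859_8 = true := by decide +kernel

noncomputable def j9_859_9 : List Job := [
  ⟨54, 0x6110a8643a311a8e47a512a964ba61329a4de01028241a21128a45a41229249a713a9e4fda0d26a359b0da6e379c0e272399d0ea763bd008242219108a4623940a25229950aa562bc241b08064160901, 0, 28, 0x202000402000602000802000a01000c02000e02001002002e01003401, []⟩]

theorem t9_859_9 : jobs 8 S9 b8_859 j9_859_9 = true := by decide +kernel

noncomputable def j9_859_10 : List Job := [
  ⟨45, 0x580c26231990ca66339e0f27a3d9f0fa7e3fd008242219108a4623940a25229950aa562bc844829164804a2816c24190806c160901, 0, 6, 0x0, []⟩]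

theorem t9_859_10 : jobs 8 S9 b8_859 j9_859_10 = true := by decide +kernel

noncomputable def j9_859_11 : List Job := [
  ⟨44, 0x580c26231990ca66339e0f27a3d9f0fa7e3fd008242219108a4623940a25229950aa562bc844a2916c804828164241b08064160901, 0, 10, 0x0, []⟩]

theorem t9_859_11 : jobs 8 S9 b8_859 j9_859_11 = true := by decide +kernel

noncomputable def j9_859_12 : List Job := [
  ⟨43, 0x601028442a21128c46a4122944aa69369e4fd008242219108a4623940a25229950aa562bc804222118a0522a15c301a0e07c080701, 0, 32, 0x0, []⟩]

theorem t9_859_12 : jobs 8 S9 b8_859 j9_859_12 = true := by decide +kernel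

noncomputable def j9_859_13 : List Job := [
  ⟨42, 0x601028442a21128c46a4122944aa69369e4fc804222118a0522a15c301a0e07c080701, 0, 24, 0x602000801001202001401, []⟩]

theorem t9_859_13 : jobs 8 S9 b8_859 j9_859_13 = true := by decide +kernel

noncomputable def j9_859_14 : List Job := [
  ⟨41, 0x601028442a21128c46a4122944aa69369e4fd80c26231990ca66339e0f27a3d9f0fa7e3fd008242219108a4623940a25229950aa562bc804222118a0522a15c301a0e07c080701, 0, 24, 0x602000801001202001401, []⟩]

theorem t9_859_14 : jobs 8 S9 b8_859 j9_859_14 = true := by decide +kernel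

noncomputable def j9_859_15 : List Job := [
  ⟨40, 0x601028442a21128c46a4122944aa69369e4fc180f05824080701, 0, 12, 0x0, []⟩]

theorem t9_859_15 : jobs 8 S9 b8_859 j9_859_15 = true := by decide +kernel

noncomputable def j9_859_16 : List Job := [
  ⟨39, 0x601028442a21128c46a4122944aa69369e4fd80c26231990ca66339e0f27a3d9f0fa7e3fd008242219108a4623940a25229950aa562bc180f05824080701, 0, 12, 0x0, []⟩]

theorem t9_859_16 : jobs 8 S9 b8_859 j9_859_16 = true := by decide +kernel

noncomputable def j9_859_17 : List Job := [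
  ⟨38, 0x601028442a21128c46a4122944aa69369e4fd04844523144a6552bd00864423940a4542b4180f05824080701, 0, 16, 0x0, []⟩]

theorem t9_859_17 : jobs 8 S9 b8_859 j9_859_17 = true := by decide +kernel

noncomputable def j9_859_18 : List Job := [
  ⟨37, 0x601028442a21128c46a4122944aa69369e4fd008242219108a4623940a25229950aa562bc904a26138b05a2e17c804222118a0522a15c180f05824080701, 0, 16, 0x0, []⟩]

theorem t9_859_18 : jobs 8 S9 b8_859 j9_859_18 = true := by decide +kernel

noncomputable def j9_859_19 : List Job := [
  ⟨36, 0x601028442a21128c46a4122944aa69369e4fc904a26138b05a2e17c804222118a0522a15c180f05824080701, 0, 12, 0x0, []⟩]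

theorem t9_859_19 : jobs 8 S9 b8_859 j9_859_19 = true := by decide +kernel

noncomputable def j9_859_20 : List Job := [
  ⟨35, 0x601028442a21128c46a4122944aa69369e4fd84c665339e0f67c3fd80c464331e4f47d3f504844523144a6552bd00864423940a4542b4904a26138b05a2e17c804222118a0522a15c180f05824080701, 0, 24, 0x2a00002e01, [(20, ⟨3326, 0x94014001200114010b000401030101010001, 0x19420080280a0200c02⟩)]⟩]

theorem t9_859_20 : jobs 8 S9 b8_859 j9_859_20 = true := by decide +kernel

noncomputable def j9_859_21 : List Job := [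
  ⟨34, 0x5008242219108a4623940a25229950aa562bc804222118a0522a15c301a0e07c0e0501, 0, 16, 0x202000602000a02000e02, []⟩]

theorem t9_859_21 : jobs 8 S9 b8_859 j9_859_21 = true := by decide +kernel

noncomputable def j9_859_22 : List Job := [
  ⟨33, 0x609068643a29168e47a4926964ba61329c4ee01028442a21128c46a4122944aa69369e4fd008242219108a4623940a25229950aa562bc804222118a0522a15c301a0e07c0e0501, 0, 16, 0x202000602000a02000e02, []⟩]

theorem t9_859_22 : jobs 8 S9 b8_859 j9_859_22 = true := by decide +kernel

noncomputable def j9_859_23 : List Job := [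
  ⟨32, 0x4804222118a0522a15c301a0e07c0e0501, 0, 12, 0x403000802000c03, []⟩]

theorem t9_859_23 : jobs 8 S9 b8_859 j9_859_23 = true := by decide +kernel

noncomputable def j9_859_24 : List Job := [
  ⟨31, 0x609068643a29168e47a4926964ba61329c4ee01028442a21128c46a4122944aa69369e4fc804222118a0522a15c301a0e07c0e0501, 0, 12, 0x402000802000c03, []⟩]

theorem t9_859_24 : jobs 8 S9 b8_859 j9_859_24 = true := by decide +kernel

noncomputable def j9_859_25 : List Job := [
  ⟨30, 0x580c26231990ca66339e0f27a3d9f0fa7e3fd008242219108a4623940a25229950aa562bc804222118a0522a15c301a0e07c0e0501, 0, 12, 0x802, []⟩]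

theorem t9_859_25 : jobs 8 S9 b8_859 j9_859_25 = true := by decide +kernel

noncomputable def j9_859_26 : List Job := [
  ⟨29, 0x609068643a29168e47a4926964ba61329c4ee01028442a21128c46a4122944aa69369e4fd80c26231990ca66339e0f27a3d9f0fa7e3fd008242219108a4623940a25229950aa562bc804222118a0522a15c301a0e07c0e0501, 0, 12, 0x802, []⟩]

theorem t9_859_26 : jobs 8 S9 b8_859 j9_859_26 = true := by decide +kernel

noncomputable def j9_859_27 : List Job := [
  ⟨28, 0x601028442a21128c46a4122944aa69369e4fd008242219108a4623940a25229950aa562bc804222118a0522a15c20120a05c080701, 0, 32, 0x203000401000603000a03000e03001203001401001603001a03001e03, []⟩]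

theorem t9_859_27 : jobs 8 S9 b8_859 j9_859_27 = true := by decide +kernel

noncomputable def j9_859_28 : List Job := [
  ⟨27, 0x601028442a21128c46a4122944aa69369e4fc84462915480442815c20120a05c080701, 0, 24, 0x203000603000a03000e03001203001603, []⟩]

theorem t9_859_28 : jobs 8 S9 b8_859 j9_859_28 = true := by decide +kernel

noncomputable def j9_859_29 : List Job := [
  ⟨26, 0x601028442a21128c46a4122944aa69369e4fd80c26231990ca66339e0f27a3d9f0fa7e3fd008242219108a4623940a25229950aa562bc84462915480442815c20120a05c080701, 0, 24, 0x203000603000a03000e03001203001603, []⟩]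

theorem t9_859_29 : jobs 8 S9 b8_859 j9_859_29 = true := by decide +kernel

noncomputable def j9_859_30 : List Job := [
  ⟨25, 0x601028442a21128c46a4122944aa69369e4fc301a0e07c20120a05c180f05824080701, 0, 12, 0x1201001801, []⟩]

theorem t9_859_30 : jobs 8 S9 b8_859 j9_859_30 = true := by decide +kernel

noncomputable def j9_859_31 : List Job := [
  ⟨24, 0x601028442a21128c46a4122944aa69369e4fd80c26231990ca66339e0f27a3d9f0fa7e3fd008242219108a4623940a25229950aa562bc301a0e07c20120a05c180f05824080701, 0, 12, 0xe01001401, []⟩]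

theorem t9_859_31 : jobs 8 S9 b8_859 j9_859_31 = true := by decide +kernel

noncomputable def j9_859_32 : List Job := [
  ⟨23, 0x601028442a21128c46a4122944aa69369e4fd04844523144a6552bd00864423940a4542b4301a0e07c20120a05c180f05824080701, 0, 16, 0x401000c01, []⟩]

theorem t9_859_32 : jobs 8 S9 b8_859 j9_859_32 = true := by decide +kernel

noncomputable def j9_859_33 : List Job := [
  ⟨22, 0x601028442a21128c46a4122944aa69369e4fd008242219108a4623940a25229950aa562bc904a26138b05a2e17c804222118a0522a15c301a0e07c20120a05c180f05824080701, 0, 16, 0x1401001c01, []⟩]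

theorem t9_859_33 : jobs 8 S9 b8_859 j9_859_33 = true := by decide +kernel

noncomputable def j9_859_34 : List Job := [
  ⟨21, 0x601028442a21128c46a4122944aa69369e4fc944e2d174904c2c17c84462915480442815c301a0e07c20120a05c180f05824080701, 0, 12, 0x601000c01, []⟩]

theorem t9_859_34 : jobs 8 S9 b8_859 j9_859_34 = true := by decide +kernel

noncomputable def j9_859_35 : List Job := [
  ⟨20, 0x601028442a21128c46a4122944aa69369e4fd84c464339e4f67c3f580c665331e0f47d3fd04844523144a6552bd00864423940a4542b4944e2d174904c2c17c84462915480442815c301a0e07c20120a05c180f05824080701, 0, 40, 0x201000801001a00002201002a01003200003400004201004a01, [(25, ⟨3322, 0x100004500900004000100004000180004000001, 0x1802288020080200c02⟩), (24, ⟨3321, 0x100004500900004000100004000180004000001, 0x1802288020080200c02⟩), (12, ⟨3323, 0x12a007a00140046402140105008100004020001, 0x19a3f0a8360a0280802⟩)]⟩]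

theorem t9_859_35 : jobs 8 S9 b8_859 j9_859_35 = true := by decide +kernel

noncomputable def j9_859_36 : List Job := [
  ⟨19, 0x5008242219108a4623940a25229950aa562bc804222118a0522a15c2417080540e0501, 0, 16, 0x202000403000602000802000a02000c01000e02001001, []⟩]

theorem t9_859_36 : jobs 8 S9 b8_859 j9_859_36 = true := by decide +kernel

noncomputable def j9_859_37 : List Job := [
  ⟨18, 0x609068643a29168e47a4926964ba61329c4ee01028442a21128c46a4122944aa69369e4fd008242219108a4623940a25229950aa562bc804222118a0522a15c2417080540e0501, 0, 16, 0x202000401000602000801000a02000e02, []⟩]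

theorem t9_859_37 : jobs 8 S9 b8_859 j9_859_37 = true := by decide +kernel

noncomputable def j9_859_38 : List Job := [
  ⟨17, 0x484462915c8044281542417080540e0501, 0, 12, 0x202000401000602000801000a02000c01, []⟩]

theorem t9_859_38 : jobs 8 S9 b8_859 j9_859_38 = true := by decide +kernel

noncomputable def j9_859_39 : List Job := [
  ⟨16, 0x609068643a29168e47a4926964ba61329c4ee01028442a21128c46a4122944aa69369e4fc84462915c8044281542417080540e0501, 0, 12, 0x202000602000a02, []⟩]

theorem t9_859_39 : jobs 8 S9 b8_859 j9_859_39 = true := by decide +kernel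

noncomputable def j9_859_40 : List Job := [
  ⟨15, 0x580c26231990ca66339e0f27a3d9f0fa7e3fd008242219108a4623940a25229950aa562bc84462915c8044281542417080540e0501, 0, 12, 0x202000401000602000801000a02000c01, []⟩]

theorem t9_859_40 : jobs 8 S9 b8_859 j9_859_40 = true := by decide +kernel

noncomputable def j9_859_41 : List Job := [
  ⟨14, 0x609068643a29168e47a4926964ba61329c4ee01028442a21128c46a4122944aa69369e4fd80c26231990ca66339e0f27a3d9f0fa7e3fd008242219108a4623940a25229950aa562bc84462915c8044281542417080540e0501, 0, 30, 0x202000602000a02, []⟩]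

theorem t9_859_41 : jobs 8 S9 b8_859 j9_859_41 = true := by decide +kernel

noncomputable def j9_859_42 : List Job := [
  ⟨2, 0x601028241a110a8643a21128a45a311a8e47a41229249a512a964ba61329a4da713a9e4fda0d26a359b0da6e379c0e272399d0ea763bd80c26231990ca66339e0f27a3d9f0fa7e3fd20924a259309a4e27960b25a2d970ba5e2fd008242219108a4623940a25229950aa562bc845320144261101, 0, 12, 0x200000800, [(3, ⟨3313, 0x87014f012000100008000400020001000001, 0x1842608020080200802⟩), (0, ⟨3312, 0x87014f012000100008000400020001000001, 0x1842608020080200802⟩)]⟩]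

theorem t9_859_42 : jobs 8 S9 b8_859 j9_859_42 = true := by decide +kernel

noncomputable def j9_859_43 : List Job := [
  ⟨1, 0x44e25118840e0501, 0, 2, 0x0, []⟩]

theorem t9_859_43 : jobs 8 S9 b8_859 j9_859_43 = true := by decide +kernel

noncomputable def j9_859_44 : List Job := [
  ⟨0, 0x44e25118840e0501, 0, 4, 0x0, []⟩]

theorem t9_859_44 : jobs 8 S9 b8_859 j9_859_44 = true := by decide +kernel

theorem d9_859 : Dn 8 S9 b8_859 := dn_of (Js := j9_859_0 ++ (j9_859_1 ++ (j9_859_2 ++ (j9_859_3 ++ (j9_859_4 ++ (j9_859_5 ++ (j9_859_6 ++ (j9_859_7 ++ (j9_859_8 ++ (j9_859_9 ++ (j9_859_10 ++ (j9_859_11 ++ (j9_859_12 ++ (j9_859_13 ++ (j9_859_14 ++ (j9_859_15 ++ (j9_859_16 ++ (j9_859_17 ++ (j9_859_18 ++ (j9_859_19 ++ (j9_859_20 ++ (j9_859_21 ++ (j9_859_22 ++ (j9_859_23 ++ (j9_859_24 ++ (j9_859_25 ++ (j9_859_26 ++ (j9_859_27 ++ (j9_859_28 ++ (j9_859_29 ++ (j9_859_30 ++ (j9_859_31 ++ (j9_859_32 ++ (j9_859_33 ++ (j9_859_34 ++ (j9_859_35 ++ (j9_859_36 ++ (j9_859_37 ++ (j9_859_38 ++ (j9_859_39 ++ (j9_859_40 ++ (j9_859_41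 ++ (j9_859_42 ++ (j9_859_43 ++ (j9_859_44 ++ [])))))))))))))))))))))))))))))))))))))))))))))
  (jobs_append t9_859_0 <| jobs_append t9_859_1 <| jobs_append t9_859_2 <| jobs_append t9_859_3 <| jobs_append t9_859_4 <| jobs_append t9_859_5 <| jobs_append t9_859_6 <| jobs_append t9_859_7 <| jobs_append t9_859_8 <| jobs_append t9_859_9 <| jobs_append t9_859_10 <| jobs_append t9_859_11 <| jobs_append t9_859_12 <| jobs_append t9_859_13 <| jobs_append t9_859_14 <| jobs_append t9_859_15 <| jobs_append t9_859_16 <| jobs_append t9_859_17 <| jobs_append t9_859_18 <| jobs_append t9_859_19 <| jobs_append t9_859_20 <| jobs_append t9_859_21 <| jobs_append t9_859_22 <| jobs_append t9_859_23 <| jobs_append t9_859_24 <| jobs_append t9_859_25 <| jobs_append t9_859_26 <| jobs_append t9_859_27 <| jobs_append t9_859_28 <| jobs_append t9_859_29 <| jobs_append t9_859_30 <| jobs_append t9_859_31 <| jobs_append t9_859_32 <| jobs_append t9_859_33 <| jobs_append t9_859_34 <| jobs_append t9_859_35 <| jobs_append t9_859_36 <| jobs_append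 t9_859_37 <| jobs_append t9_859_38 <| jobs_append t9_859_39 <| jobs_append t9_859_40 <| jobs_append t9_859_41 <| jobs_append t9_859_42 <| jobs_append t9_859_43 <| jobs_append t9_859_44 <| List.forall_mem_nil _) (by decide +kernel)

noncomputable def j9_860_0 : List Job := [
  ⟨58, 0x601028241a110a8643a21128a45a311a8e47a41229249a512a964ba61329a4da713a9e4fd20924a259309a4e27960b25a2d970ba5e2fc844a2916c804828164160901, 0, 12, 0x0, []⟩]

theorem t9_860_0 : jobs 8 S9 b8_860 j9_860_0 = true := by decide +kernel

noncomputable def j9_860_1 : List Job := [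
  ⟨47, 0x5a0d26a359b0da6e379c0e272399d0ea763bd80c26231990ca66339e0f27a3d9f0fa7e3fd108a4623950aa562bd00824221940a25229c844829164804a2816c160901, 0, 4, 0x601000801, []⟩]

theorem t9_860_1 : jobs 8 S9 b8_860 j9_860_1 = true := by decide +kernel

noncomputable def j9_860_2 : List Job := [
  ⟨46, 0x5a0d26a359b0da6e379c0e272399d0ea763bd80c26231990ca66339e0f27a3d9f0fa7e3fd108a4623950aa562bd00824221940a25229c844a2916c804828164160901, 0, 12, 0x200000a00, [(4, ⟨3319, 0x4d81460250044808400030002041000001, 0x19d228a428080081804⟩), (0, ⟨3318, 0x4d81460250044808400030002041000001, 0x19d228a428080081804⟩)]⟩]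

theorem t9_860_2 : jobs 8 S9 b8_860 j9_860_2 = true := by decide +kernel

noncomputable def j9_860_3 : List Job := [
  ⟨45, 0x580c26231990ca66339e0f27a3d9f0fa7e3fd00824422940a2542ac804222118a0522a15c180f01, 0, 16, 0x0, []⟩]

theorem t9_860_3 : jobs 8 S9 b8_860 j9_860_3 = true := by decide +kernel

noncomputable def j9_860_4 : List Job := [
  ⟨44, 0x601028241a110a8643a21128a45a311a8e47a41229249a512a964ba61329a4da713a9e4fd80c26231990ca66339e0f27a3d9f0fa7e3fd00824422940a2542ac804222118a0522a15c180f01, 0, 16, 0x0, []⟩]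

theorem t9_860_4 : jobs 8 S9 b8_860 j9_860_4 = true := by decide +kernel

noncomputable def j9_860_5 : List Job := [
  ⟨43, 0x508864623948a6562bc804222118a0522a15c180f01, 0, 12, 0x802000a03, []⟩]

theorem t9_860_5 : jobs 8 S9 b8_860 j9_860_5 = true := by decide +kernel

noncomputable def j9_860_6 : List Job := [
  ⟨42, 0x601028241a110a8643a21128a45a311a8e47a41229249a512a964ba61329a4da713a9e4fd08864623948a6562bc804222118a0522a15c180f01, 0, 14, 0x602000e02, []⟩]

theorem t9_860_6 : jobs 8 S9 b8_860 j9_860_6 = true := by decide +kernel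

noncomputable def j9_860_7 : List Job := [
  ⟨41, 0x5a0d26a359b0da6e379c0e272399d0ea763bd80c26231990ca66339e0f27a3d9f0fa7e3fd00824422940a2542ac804222118a0522a15c180f01, 0, 12, 0x200, [(0, ⟨3317, 0x4d81410056005000400050202040800080, 0x598a04a028080300401⟩)]⟩]

theorem t9_860_7 : jobs 8 S9 b8_860 j9_860_7 = true := by decide +kernel

noncomputable def j9_860_8 : List Job := [
  ⟨40, 0x601028241a110a8643a21128a45a311a8e47a41229249a512a964ba61329a4da713a9e4fda0d26a359b0da6e379c0e272399d0ea763bd80c26231990ca66339e0f27a3d9f0fa7e3fd00824422940a2542ac804222118a0522a15c180f01, 0, 18, 0x200000e00, [(6, ⟨3320, 0x4d81410056005000400050202040800080, 0x598a04a028080300401⟩), (0, ⟨3316, 0x4d81410056005000400050202040800080, 0x598a04a028080300401⟩)]⟩]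

theorem t9_860_8 : jobs 8 S9 b8_860 j9_860_8 = true := by decide +kernel

noncomputable def j9_860_9 : List Job := [
  ⟨39, 0x5a0d26a359b0da6e379c0e272399d0ea763bc804222118a0522a15c0e0501, 0, 16, 0x0, []⟩]

theorem t9_860_9 : jobs 8 S9 b8_860 j9_860_9 = true := by decide +kernel

noncomputable def j9_860_10 : List Job := [
  ⟨38, 0x601028241a110a8643a21128a45a311a8e47a41229249a512a964ba61329a4da713a9e4fda0d26a359b0da6e379c0e272399d0ea763bc804222118a0522a15c0e0501, 0, 16, 0x0, []⟩]

theorem t9_860_10 : jobs 8 S9 b8_860 j9_860_10 = true := by decide +kernel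

noncomputable def j9_860_11 : List Job := [
  ⟨37, 0x580c26231990ca66339e0f27a3d9f0fa7e3fd08864623948a6562bd00824422940a2542ac804222118a0522a15c0e0501, 0, 16, 0x0, []⟩]

theorem t9_860_11 : jobs 8 S9 b8_860 j9_860_11 = true := by decide +kernel

noncomputable def j9_860_12 : List Job := [
  ⟨36, 0x601028241a110a8643a21128a45a311a8e47a41229249a512a964ba61329a4da713a9e4fd80c26231990ca66339e0f27a3d9f0fa7e3fd08864623948a6562bd00824422940a2542ac804222118a0522a15c0e0501, 0, 16, 0x0, []⟩]

theorem t9_860_12 : jobs 8 S9 b8_860 j9_860_12 = true := by decide +kernel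

noncomputable def j9_860_13 : List Job := [
  ⟨35, 0x5a0d26a359b0da6e379c0e272399d0ea763bd80c26231990ca66339e0f27a3d9f0fa7e3fc804222118a0522a15c0e0501, 0, 12, 0x0, []⟩]

theorem t9_860_13 : jobs 8 S9 b8_860 j9_860_13 = true := by decide +kernel

noncomputable def j9_860_14 : List Job := [
  ⟨34, 0x601028241a110a8643a21128a45a311a8e47a41229249a512a964ba61329a4da713a9e4fda0d26a359b0da6e379c0e272399d0ea763bd80c26231990ca66339e0f27a3d9f0fa7e3fc804222118a0522a15c0e0501, 0, 12, 0x0, []⟩]

theorem t9_860_14 : jobs 8 S9 b8_860 j9_860_14 = true := by decide +kernel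

noncomputable def j9_860_15 : List Job := [
  ⟨33, 0x508864623948a6562bd00824422940a2542ac804222118a0522a15c0e0501, 0, 12, 0x0, []⟩]

theorem t9_860_15 : jobs 8 S9 b8_860 j9_860_15 = true := by decide +kernel

noncomputable def j9_860_16 : List Job := [
  ⟨32, 0x601028241a110a8643a21128a45a311a8e47a41229249a512a964ba61329a4da713a9e4fd08864623948a6562bd00824422940a2542ac804222118a0522a15c0e0501, 0, 12, 0x0, []⟩]

theorem t9_860_16 : jobs 8 S9 b8_860 j9_860_16 = true := by decide +kernel

noncomputable def j9_860_17 : List Job := [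
  ⟨31, 0x484462915c8044281540e0501, 0, 12, 0x202000603000a02000e02001203001602, []⟩]

theorem t9_860_17 : jobs 8 S9 b8_860 j9_860_17 = true := by decide +kernel

noncomputable def j9_860_18 : List Job := [
  ⟨30, 0x601028241a110a8643a21128a45a311a8e47a41229249a512a964ba61329a4da713a9e4fc84462915c8044281540e0501, 0, 12, 0x202000602000a02000e02001203001603, []⟩]

theorem t9_860_18 : jobs 8 S9 b8_860 j9_860_18 = true := by decide +kernel

noncomputable def j9_860_19 : List Job := [
  ⟨29, 0x5a0d26a359b0da6e379c0e272399d0ea763bd80c26231990ca66339e0f27a3d9f0fa7e3fd08864623948a6562bd00824422940a2542ac84462915c8044281540e0501, 0, 12, 0x200000a00, [(4, ⟨3320, 0x4400400246004000501040002000808001, 0x1882008c20090200404⟩), (0, ⟨3317, 0x48002b0280002800a00020200041400080, 0x48890152121400c1001⟩)]⟩]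

theorem t9_860_19 : jobs 8 S9 b8_860 j9_860_19 = true := by decide +kernel

noncomputable def j9_860_20 : List Job := [
  ⟨28, 0x601028241a110a8643a21128a45a311a8e47a41229249a512a964ba61329a4da713a9e4fda0d26a359b0da6e379c0e272399d0ea763bd80c26231990ca66339e0f27a3d9f0fa7e3fd08864623948a6562bd00824422940a2542ac84462915c8044281540e0501, 0, 30, 0x200000a00001a00002200003201, [(16, ⟨3315, 0x88005200200115010a000501010102000001, 0x188288802c090300404⟩), (12, ⟨3314, 0x88005200200115010a000501010102000001, 0x188288802c090300404⟩), (4, ⟨3317, 0x980144012901150008000500010002000001, 0x199220ac2c080300404⟩), (0, ⟨3316, 0x980144012901150008000500010002000001, 0x199220ac2c080300404⟩)]⟩]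

theorem t9_860_20 : jobs 8 S9 b8_860 j9_860_20 = true := by decide +kernel

noncomputable def j9_860_21 : List Job := [
  ⟨19, 0x5a0d26a359b0da6e379c0e272399d0ea763bd008242219108a4623940a25229950aa562bc24190806c160901, 0, 6, 0x401000a01, []⟩]

theorem t9_860_21 : jobs 8 S9 b8_860 j9_860_21 = true := by decide +kernel

noncomputable def j9_860_22 : List Job := [
  ⟨18, 0x5a0d26a359b0da6e379c0e272399d0ea763bd008242219108a4623940a25229950aa562bc241b08064160901, 0, 10, 0x0, []⟩]

theorem t9_860_22 : jobs 8 S9 b8_860 j9_860_22 = true := by decide +kernel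

noncomputable def j9_860_23 : List Job := [
  ⟨17, 0x601028241a21128a45a41229249a713a9e4fc28160e07c100b01, 0, 20, 0x0, []⟩]

theorem t9_860_23 : jobs 8 S9 b8_860 j9_860_23 = true := by decide +kernel

noncomputable def j9_860_24 : List Job := [
  ⟨16, 0x601028241a21128a45a41229249a713a9e4fda0d26a359b0da6e379c0e272399d0ea763bd008242219108a4623940a25229950aa562bc28160e07c100b01, 0, 20, 0x0, []⟩]

theorem t9_860_24 : jobs 8 S9 b8_860 j9_860_24 = true := by decide +kernel

noncomputable def j9_860_25 : List Job := [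
  ⟨15, 0x601028241a21128a45a41229249a713a9e4fd008242219108a4623940a25229950aa562bc28160e07c100b01, 0, 32, 0x2201002802002a01003002003201003802003a01004002, []⟩]

theorem t9_860_25 : jobs 8 S9 b8_860 j9_860_25 = true := by decide +kernel

noncomputable def j9_860_26 : List Job := [
  ⟨14, 0x601028241a21128a45a41229249a713a9e4fd008242219108a4623940a25229950aa562bc180f0402c0e0501, 0, 16, 0x201000601000a01000e01, []⟩]

theorem t9_860_26 : jobs 8 S9 b8_860 j9_860_26 = true := by decide +kernel

noncomputable def j9_860_27 : List Job := [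
  ⟨13, 0x601028241a21128a45a41229249a713a9e4fc180f0402c0e0501, 0, 12, 0x1001001601, []⟩]

theorem t9_860_27 : jobs 8 S9 b8_860 j9_860_27 = true := by decide +kernel

noncomputable def j9_860_28 : List Job := [
  ⟨12, 0x601028241a21128a45a41229249a713a9e4fda4d66c371c4e6753bda0d46d379c0e4743b504864423144a6552bd00844523940a4542b4180f0402c0e0501, 0, 22, 0x1c01002201, []⟩]

theorem t9_860_28 : jobs 8 S9 b8_860 j9_860_28 = true := by decide +kernel

noncomputable def j9_860_29 : List Job := [
  ⟨11, 0x601028241a21128a45a41229249a713a9e4fc180f0402c0e0501, 0, 12, 0x1001001601, []⟩]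

theorem t9_860_29 : jobs 8 S9 b8_860 j9_860_29 = true := by decide +kernel

noncomputable def j9_860_30 : List Job := [
  ⟨10, 0x601028241a21128a45a41229249a713a9e4fda0d26a359b0da6e379c0e272399d0ea763bd008242219108a4623940a25229950aa562bc180f0402c0e0501, 0, 12, 0x1001001601, []⟩]

theorem t9_860_30 : jobs 8 S9 b8_860 j9_860_30 = true := by decide +kernel

noncomputable def j9_860_31 : List Job := [
  ⟨9, 0x601028241a21128a45a41229249a713a9e4fd04864523944a6542b500844423140a4552bc180f0402c0e0501, 0, 16, 0x201000601000a01000e01, []⟩]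

theorem t9_860_31 : jobs 8 S9 b8_860 j9_860_31 = true := by decide +kernel

noncomputable def j9_860_32 : List Job := [
  ⟨8, 0x5008242219108a4623940a25229950aa562bc28160e07c160901, 0, 16, 0x1201001401001602001802001a01001c01001e02002002, []⟩]

theorem t9_860_32 : jobs 8 S9 b8_860 j9_860_32 = true := by decide +kernel

noncomputable def j9_860_33 : List Job := [
  ⟨7, 0x6110a8643a311a8e47a512a964ba61329a4de01028241a21128a45a41229249a713a9e4fd008242219108a4623940a25229950aa562bc28160e07c160901, 0, 16, 0x1201001401001602001802001a01001c01001e02002002, []⟩]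

theorem t9_860_33 : jobs 8 S9 b8_860 j9_860_33 = true := by decide +kernel

noncomputable def j9_860_34 : List Job := [
  ⟨6, 0x428160e07c160901, 0, 10, 0x0, []⟩]

theorem t9_860_34 : jobs 8 S9 b8_860 j9_860_34 = true := by decide +kernel

noncomputable def j9_860_35 : List Job := [
  ⟨5, 0x6110a8643a311a8e47a512a964ba61329a4de01028241a21128a45a41229249a713a9e4fc28160e07c160901, 0, 10, 0x0, []⟩]

theorem t9_860_35 : jobs 8 S9 b8_860 j9_860_35 = true := by decide +kernel

noncomputable def j9_860_36 : List Job := [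
  ⟨4, 0x5a0d26a359b0da6e379c0e272399d0ea763bd008242219108a4623940a25229950aa562bc28160e07c160901, 0, 10, 0x0, []⟩]

theorem t9_860_36 : jobs 8 S9 b8_860 j9_860_36 = true := by decide +kernel

noncomputable def j9_860_37 : List Job := [
  ⟨3, 0x6110a8643a311a8e47a512a964ba61329a4de01028241a21128a45a41229249a713a9e4fda0d26a359b0da6e379c0e272399d0ea763bd008242219108a4623940a25229950aa562bc28160e07c160901, 0, 10, 0x0, []⟩]

theorem t9_860_37 : jobs 8 S9 b8_860 j9_860_37 = true := by decide +kernel

noncomputable def j9_860_38 : List Job := [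
  ⟨2, 0x601028241a21128a45a41229249a713a9e4fc20120c06c100b01, 0, 20, 0x203000403000603000803000a03000c03000e03001003001403001601002003002201, []⟩]

theorem t9_860_38 : jobs 8 S9 b8_860 j9_860_38 = true := by decide +kernel

noncomputable def j9_860_39 : List Job := [
  ⟨1, 0x601028241a21128a45a41229249a713a9e4fda0d26a359b0da6e379c0e272399d0ea763bd008242219108a4623940a25229950aa562bc20120c06c100b01, 0, 20, 0x203000403000603000803000a03000c03000e03001003001403001601002003002201, []⟩]

theorem t9_860_39 : jobs 8 S9 b8_860 j9_860_39 = true := by decide +kernel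

noncomputable def j9_860_40 : List Job := [
  ⟨0, 0x601028241a21128a45a41229249a713a9e4fd008242219108a4623940a25229950aa562bc20120c06c100b01, 0, 32, 0x203000403000603000803000a03000c03000e03001003001203001403001603001803001a03001c03001e03002003, []⟩]

theorem t9_860_40 : jobs 8 S9 b8_860 j9_860_40 = true := by decide +kernel

theorem d9_860 : Dn 8 S9 b8_860 := dn_of (Js := j9_860_0 ++ (j9_860_1 ++ (j9_860_2 ++ (j9_860_3 ++ (j9_860_4 ++ (j9_860_5 ++ (j9_860_6 ++ (j9_860_7 ++ (j9_860_8 ++ (j9_860_9 ++ (j9_860_10 ++ (j9_860_11 ++ (j9_860_12 ++ (j9_860_13 ++ (j9_860_14 ++ (j9_860_15 ++ (j9_860_16 ++ (j9_860_17 ++ (j9_860_18 ++ (j9_860_19 ++ (j9_860_20 ++ (j9_860_21 ++ (j9_860_22 ++ (j9_860_23 ++ (j9_860_24 ++ (j9_860_25 ++ (j9_860_26 ++ (j9_860_27 ++ (j9_860_28 ++ (j9_860_29 ++ (j9_860_30 ++ (j9_860_31 ++ (j9_860_32 ++ (j9_860_33 ++ (j9_860_34 ++ (j9_860_35 ++ (j9_860_36 ++ (j9_860_37 ++ (j9_860_38 ++ (j9_860_39 ++ (j9_860_40 ++ [])))))))))))))))))))))))))))))))))))))))))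
  (jobs_append t9_860_0 <| jobs_append t9_860_1 <| jobs_append t9_860_2 <| jobs_append t9_860_3 <| jobs_append t9_860_4 <| jobs_append t9_860_5 <| jobs_append t9_860_6 <| jobs_append t9_860_7 <| jobs_append t9_860_8 <| jobs_append t9_860_9 <| jobs_append t9_860_10 <| jobs_append t9_860_11 <| jobs_append t9_860_12 <| jobs_append t9_860_13 <| jobs_append t9_860_14 <| jobs_append t9_860_15 <| jobs_append t9_860_16 <| jobs_append t9_860_17 <| jobs_append t9_860_18 <| jobs_append t9_860_19 <| jobs_append t9_860_20 <| jobs_append t9_860_21 <| jobs_append t9_860_22 <| jobs_append t9_860_23 <| jobs_append t9_860_24 <| jobs_append t9_860_25 <| jobs_append t9_860_26 <| jobs_append t9_860_27 <| jobs_append t9_860_28 <| jobs_append t9_860_29 <| jobs_append t9_860_30 <| jobs_append t9_860_31 <| jobs_append t9_860_32 <| jobs_append t9_860_33 <| jobs_append t9_860_34 <| jobs_append t9_860_35 <| jobs_append t9_860_36 <| jobs_append t9_860_37 <| jobs_append t9_860_38 <| jobs_append t9_860_39 <| jobs_append t9_860_40 <| List.forall_mem_nil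 _) (by decide +kernel)

noncomputable def j9_861_0 : List Job := [
  ⟨54, 0x5a0d26a359b0da6e379c0e272399d0ea763bd80c26231990ca66339e0f27a3d9f0fa7e3fd20924a259309a4e27960b25a2d970ba5e2fc160901, 0, 12, 0x0, []⟩]

theorem t9_861_0 : jobs 8 S9 b8_861 j9_861_0 = true := by decide +kernel

noncomputable def j9_861_1 : List Job := [
  ⟨42, 0x601028241a110a8643a21128a45a311a8e47a41229249a512a964ba61329a4da713a9e4fda0d26a359b0da6e379c0e272399d0ea763bd80c26231990ca66339e0f27a3d9f0fa7e3fd20924a259309a4e27960b25a2d970ba5e2fc160901, 0, 12, 0x0, []⟩]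

theorem t9_861_1 : jobs 8 S9 b8_861 j9_861_1 = true := by decide +kernel

noncomputable def j9_861_2 : List Job := [
  ⟨30, 0x5108a4623950aa562bd00824221940a25229c160901, 0, 12, 0x208000409000a08000c08001209001608, []⟩]

theorem t9_861_2 : jobs 8 S9 b8_861 j9_861_2 = true := by decide +kernel

noncomputable def j9_861_3 : List Job := [
  ⟨18, 0x601028241a110a8643a21128a45a311a8e47a41229249a512a964ba61329a4da713a9e4fd108a4623950aa562bd00824221940a25229c160901, 0, 12, 0x208000408000a08000c08001208001608, []⟩]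

theorem t9_861_3 : jobs 8 S9 b8_861 j9_861_3 = true := by decide +kernel

noncomputable def j9_861_4 : List Job := [
  ⟨6, 0x520924a259309a4e27960b25a2d970ba5e2fc844a2916c804828164160901, 0, 12, 0x0, []⟩]

theorem t9_861_4 : jobs 8 S9 b8_861 j9_861_4 = true := by decide +kernel

theorem d9_861 : Dn 8 S9 b8_861 := dn_of (Js := j9_861_0 ++ (j9_861_1 ++ (j9_861_2 ++ (j9_861_3 ++ (j9_861_4 ++ [])))))
  (jobs_append t9_861_0 <| jobs_append t9_861_1 <| jobs_append t9_861_2 <| jobs_append t9_861_3 <| jobs_append t9_861_4 <| List.forall_mem_nil _) (by decide +kernel)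

noncomputable def j9_862_0 : List Job := [
  ⟨63, 0x4904a26138b05a2e17c804222118a0522a15c301a0e07c20120a05c180f05824080701, 0, 3, 0x0, []⟩]

theorem t9_862_0 : jobs 8 S9 b8_862 j9_862_0 = true := by decide +kernel

noncomputable def j9_862_1 : List Job := [
  ⟨62, 0x4944e2d174904c2c17c84462915480442815c301a0e07c20120a05c180f05824080701, 0, 8, 0x208000408000609000809000a08000c09000e08001009, []⟩]

theorem t9_862_1 : jobs 8 S9 b8_862 j9_862_1 = true := by decide +kernel

noncomputable def j9_862_2 : List Job := [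
  ⟨60, 0x601028442a21128c46a4122944aa69369e4fc180f05824080701, 0, 4, 0x0, []⟩]

theorem t9_862_2 : jobs 8 S9 b8_862 j9_862_2 = true := by decide +kernel

noncomputable def j9_862_3 : List Job := [
  ⟨59, 0x601028442a21128c46a4122944aa69369e4fc180f05824080701, 0, 6, 0x0, []⟩]

theorem t9_862_3 : jobs 8 S9 b8_862 j9_862_3 = true := by decide +kernel

noncomputable def j9_862_4 : List Job := [
  ⟨55, 0x601028442a21128c46a4122944aa69369e4fc301a0e07c20120a05c180f05824080701, 0, 8, 0x200000400, [(1, ⟨3340, 0x4000400040004000400050004000400001, 0x1802008020080280802⟩), (0, ⟨3339, 0x4000400040004000400050004000400001, 0x1802008020080280802⟩)]⟩]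

theorem t9_862_4 : jobs 8 S9 b8_862 j9_862_4 = true := by decide +kernel

noncomputable def j9_862_5 : List Job := [
  ⟨47, 0x601028442a21128c46a4122944aa69369e4fc904a26138b05a2e17c804222118a0522a15c180f05824080701, 0, 4, 0x201000600, [(2, ⟨3338, 0x4f817b0250006800500050006000400001, 0x1903e0a8320b0280c02⟩)]⟩]

theorem t9_862_5 : jobs 8 S9 b8_862 j9_862_5 = true := by decide +kernel

noncomputable def j9_862_6 : List Job := [
  ⟨46, 0x601028442a21128c46a4122944aa69369e4fc904a26138b05a2e17c804222118a0522a15c180f05824080701, 0, 8, 0x208000608000a08000e08, []⟩]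

theorem t9_862_6 : jobs 8 S9 b8_862 j9_862_6 = true := by decide +kernel

noncomputable def j9_862_7 : List Job := [
  ⟨42, 0x601028442a21128c46a4122944aa69369e4fc904a26138b05a2e17c804222118a0522a15c301a0e07c20120a05c180f05824080701, 0, 8, 0x201000a01, []⟩]

theorem t9_862_7 : jobs 8 S9 b8_862 j9_862_7 = true := by decide +kernel

noncomputable def j9_862_8 : List Job := [
  ⟨41, 0x601028442a21128c46a4122944aa69369e4fc904a26138b05a2e17c804222118a0522a15c301a0e07c20120a05c180f05824080701, 0, 4, 0x200, [(0, ⟨3334, 0x4a017d0250046000500050004040408001, 0x19a3c8a8340a0280802⟩)]⟩]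

theorem t9_862_8 : jobs 8 S9 b8_862 j9_862_8 = true := by decide +kernel

noncomputable def j9_862_9 : List Job := [
  ⟨40, 0x601028442a21128c46a4122944aa69369e4fc944e2d174904c2c17c84462915480442815c301a0e07c20120a05c180f05824080701, 0, 8, 0x200000400, [(1, ⟨3333, 0x4000510054005000481040004040400001, 0x180288ac28090200802⟩), (0, ⟨3332, 0x4000500056005000481040004040400001, 0x180280a828090200802⟩)]⟩]

theorem t9_862_9 : jobs 8 S9 b8_862 j9_862_9 = true := by decide +kernel

noncomputable def j9_862_10 : List Job := [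
  ⟨27, 0x5a4d46d371c4e6753bda0d66c379c0e4743b504844523144a6552bd00864423940a4542b4180f05824080701, 0, 6, 0x201000401000601000801000a08000c08, []⟩]

theorem t9_862_10 : jobs 8 S9 b8_862 j9_862_10 = true := by decide +kernel

noncomputable def j9_862_11 : List Job := [
  ⟨22, 0x5a4d46c379c0e4753bda0d66d371c4e6743b5008242219108a4623940a25229950aa562bc301a0e07c20120a05c180f05824080701, 0, 8, 0x20b00060b000a0b000c0b000e0a00100a, []⟩]

theorem t9_862_11 : jobs 8 S9 b8_862 j9_862_11 = true := by decide +kernel

noncomputable def j9_862_12 : List Job := [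
  ⟨8, 0x584c665339e0f67c3fd80c464331e4f47d3f504844523144a6552bd00864423940a4542b4904a26138b05a2e17c804222118a0522a15c180f05824080701, 0, 6, 0x201000601000a08, []⟩]

theorem t9_862_12 : jobs 8 S9 b8_862 j9_862_12 = true := by decide +kernel

noncomputable def j9_862_13 : List Job := [
  ⟨2, 0x584c464339e4f67c3f580c665331e0f47d3fd04844523144a6552bd00864423940a4542b4944e2d174904c2c17c84462915480442815c301a0e07c20120a05c180f05824080701, 0, 11, 0x808000a08000c09000e09001008001408, []⟩]

theorem t9_862_13 : jobs 8 S9 b8_862 j9_862_13 = true := by decide +kernel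

theorem d9_862 : Dn 8 S9 b8_862 := dn_of (Js := j9_862_0 ++ (j9_862_1 ++ (j9_862_2 ++ (j9_862_3 ++ (j9_862_4 ++ (j9_862_5 ++ (j9_862_6 ++ (j9_862_7 ++ (j9_862_8 ++ (j9_862_9 ++ (j9_862_10 ++ (j9_862_11 ++ (j9_862_12 ++ (j9_862_13 ++ []))))))))))))))
  (jobs_append t9_862_0 <| jobs_append t9_862_1 <| jobs_append t9_862_2 <| jobs_append t9_862_3 <| jobs_append t9_862_4 <| jobs_append t9_862_5 <| jobs_append t9_862_6 <| jobs_append t9_862_7 <| jobs_append t9_862_8 <| jobs_append t9_862_9 <| jobs_append t9_862_10 <| jobs_append t9_862_11 <| jobs_append t9_862_12 <| jobs_append t9_862_13 <| List.forall_mem_nil _) (by decide +kernel)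

noncomputable def j9_863_0 : List Job := [
  ⟨60, 0x504844523144a6552bd00864423940a4542b4804222118904a26138a0522a158b05a2e17c180f05824080701, 0, 8, 0x201000601000a08000e09, []⟩]

theorem t9_863_0 : jobs 8 S9 b8_863 j9_863_0 = true := by decide +kernel

noncomputable def j9_863_1 : List Job := [
  ⟨56, 0x504844523144a6552bd00864423940a4542b4301a0e07c20120a05c180f05824080701, 0, 4, 0x200000400000601000801, [(1, ⟨3357, 0x4a8147004a045408580040006000408001, 0x194230942a0a0200c02⟩), (0, ⟨3356, 0x4a8147004a045408580040006000408001, 0x194230942a0a0200c02⟩)]⟩]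

theorem t9_863_1 : jobs 8 S9 b8_863 j9_863_1 = true := by decide +kernel

noncomputable def j9_863_2 : List Job := [
  ⟨54, 0x5008242219108a4623940a25229950aa562bc844624130a4542c17c804425138a0562d174301a0e07c20120a05c180f05824080701, 0, 8, 0x20a00040a00060b00080b000a0a000e0a, []⟩]

theorem t9_863_2 : jobs 8 S9 b8_863 j9_863_2 = true := by decide +kernel

noncomputable def j9_863_3 : List Job := [
  ⟨52, 0x504844523144a6552bd00864423940a4542b4844625138a4542d174804424130a0562c17c301a0e07c20120a05c180f05824080701, 0, 8, 0x208000408000609000809000a08000c09000e09001008, []⟩]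

theorem t9_863_3 : jobs 8 S9 b8_863 j9_863_3 = true := by decide +kernel

noncomputable def j9_863_4 : List Job := [
  ⟨48, 0x601028241a21128a45a41229249a713a9e4fd04864423144a6552bd00844523940a4542b4180f0402c0e0501, 0, 8, 0x0, []⟩]

theorem t9_863_4 : jobs 8 S9 b8_863 j9_863_4 = true := by decide +kernel

noncomputable def j9_863_5 : List Job := [
  ⟨44, 0x601028241a21128a45a41229249a713a9e4fd04864523944a6542b500844423140a4552bc180f0402c0e0501, 0, 4, 0x0, []⟩]

theorem t9_863_5 : jobs 8 S9 b8_863 j9_863_5 = true := by decide +kernel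

noncomputable def j9_863_6 : List Job := [
  ⟨40, 0x601028241a21128a45a41229249a713a9e4fd04864423144a6552bd00844523940a4542b428160e07c20120c06c180f0402c0e0501, 0, 8, 0x200000400, [(1, ⟨3355, 0x4481550050005800481020008000408001, 0x188288a42c090101002⟩), (0, ⟨3354, 0x448142004000500048102000a040408001, 0x1882208026090181002⟩)]⟩]

theorem t9_863_6 : jobs 8 S9 b8_863 j9_863_6 = true := by decide +kernel

noncomputable def j9_863_7 : List Job := [
  ⟨38, 0x601028241a21128a45a41229249a713a9e4fd008242219108a4623940a25229950aa562bc28160e07c20120c06c180f0402c0e0501, 0, 8, 0x201000401000601000a01000e01, []⟩]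

theorem t9_863_7 : jobs 8 S9 b8_863 j9_863_7 = true := by decide +kernel

noncomputable def j9_863_8 : List Job := [
  ⟨36, 0x601028241a21128a45a41229249a713a9e4fd04864523944a6542b500844423140a4552bc28160e07c20120c06c180f0402c0e0501, 0, 8, 0x200000400000607000a06000e06, [(1, ⟨3353, 0x4481420240005408481020208000408001, 0x1882208026090101002⟩), (0, ⟨3352, 0x4481420240005408481020208000408001, 0x1882208026090101002⟩)]⟩]

theorem t9_863_8 : jobs 8 S9 b8_863 j9_863_8 = true := by decide +kernel

noncomputable def j9_863_9 : List Job := [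
  ⟨32, 0x601028442a21128c46a4122944aa69369e4fd04844523144a6552bd00864423940a4542b4180f05824080701, 0, 4, 0x201000400000601000801, [(1, ⟨3351, 0x4400470242004c00480040006040400001, 0x1882308424090200c02⟩)]⟩]

theorem t9_863_9 : jobs 8 S9 b8_863 j9_863_9 = true := by decide +kernel

noncomputable def j9_863_10 : List Job := [
  ⟨28, 0x601028442a21128c46a4122944aa69369e4fd04844523144a6552bd00864423940a4542b4804222118904a26138a0522a158b05a2e17c180f05824080701, 0, 8, 0x0, []⟩]

theorem t9_863_10 : jobs 8 S9 b8_863 j9_863_10 = true := by decide +kernel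

noncomputable def j9_863_11 : List Job := [
  ⟨24, 0x601028442a21128c46a4122944aa69369e4fd04844523144a6552bd00864423940a4542b4301a0e07c20120a05c180f05824080701, 0, 4, 0x200000400, [(1, ⟨3350, 0x4400470240004c08400040206000400001, 0x1882308024080200c02⟩), (0, ⟨3349, 0x4400470240004c08400040206000400001, 0x1882308024080200c02⟩)]⟩]

theorem t9_863_11 : jobs 8 S9 b8_863 j9_863_11 = true := by decide +kernel

noncomputable def j9_863_12 : List Job := [
  ⟨22, 0x601028442a21128c46a4122944aa69369e4fd008242219108a4623940a25229950aa562bc844624130a4542c17c804425138a0562d174301a0e07c20120a05c180f05824080701, 0, 8, 0x200000400, [(1, ⟨3348, 0x4400460040004c00400040206040408001, 0x1882388024080200c02⟩), (0, ⟨3347, 0x4400460040004c00400040206040408001, 0x1882388024080200c02⟩)]⟩]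

theorem t9_863_12 : jobs 8 S9 b8_863 j9_863_12 = true := by decide +kernel

noncomputable def j9_863_13 : List Job := [
  ⟨20, 0x601028442a21128c46a4122944aa69369e4fd04844523144a6552bd00864423940a4542b4844625138a4542d174804424130a0562c17c301a0e07c20120a05c180f05824080701, 0, 24, 0x200000400001200001600001a00001e00002201002a01, [(14, ⟨3346, 0x880047002000130108010401030101010001, 0x1882308024080200c02⟩), (12, ⟨3345, 0x880047002000130108010401030101010001, 0x1882308024080200c02⟩), (10, ⟨3342, 0x880047002000130108000401030101010001, 0x1882308024080200c02⟩), (8, ⟨3341, 0x880047002000130108000401030101010001, 0x1882308024080200c02⟩), (1, ⟨3344, 0x880046012101130108000400030101010001, 0x1882388424080200c02⟩), (0, ⟨3343, 0x880047002000130108000400030101010001, 0x1882308024080200c02⟩)]⟩]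

theorem t9_863_13 : jobs 8 S9 b8_863 j9_863_13 = true := by decide +kernel

noncomputable def j9_863_14 : List Job := [
  ⟨17, 0x4180f05824080701, 0, 6, 0x201000401000601000801000a08000c08, []⟩]

theorem t9_863_14 : jobs 8 S9 b8_863 j9_863_14 = true := by decide +kernel

noncomputable def j9_863_15 : List Job := [
  ⟨13, 0x4301a0e07c20120a05c180f05824080701, 0, 8, 0x20a00040b00060b00080a000a0b000c0b000e0a00100a, []⟩]

theorem t9_863_15 : jobs 8 S9 b8_863 j9_863_15 = true := by decide +kernel

noncomputable def j9_863_16 : List Job := [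
  ⟨4, 0x4904a26138b05a2e17c804222118a0522a15c180f05824080701, 0, 6, 0x209000609000a08, []⟩]

theorem t9_863_16 : jobs 8 S9 b8_863 j9_863_16 = true := by decide +kernel

theorem d9_863 : Dn 8 S9 b8_863 := dn_of (Js := j9_863_0 ++ (j9_863_1 ++ (j9_863_2 ++ (j9_863_3 ++ (j9_863_4 ++ (j9_863_5 ++ (j9_863_6 ++ (j9_863_7 ++ (j9_863_8 ++ (j9_863_9 ++ (j9_863_10 ++ (j9_863_11 ++ (j9_863_12 ++ (j9_863_13 ++ (j9_863_14 ++ (j9_863_15 ++ (j9_863_16 ++ [])))))))))))))))))
  (jobs_append t9_863_0 <| jobs_append t9_863_1 <| jobs_append t9_863_2 <| jobs_append t9_863_3 <| jobs_append t9_863_4 <| jobs_append t9_863_5 <| jobs_append t9_863_6 <| jobs_append t9_863_7 <| jobs_append t9_863_8 <| jobs_append t9_863_9 <| jobs_append t9_863_10 <| jobs_append t9_863_11 <| jobs_append t9_863_12 <| jobs_append t9_863_13 <| jobs_append t9_863_14 <| jobs_append t9_863_15 <| jobs_append t9_863_16 <| List.forall_mem_nil _) (by decide +kernel)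

noncomputable def j9_864_0 : List Job := [
  ⟨61, 0x47e3d178b4261101, 0, 2, 0x201000401, []⟩]

theorem t9_864_0 : jobs 8 S9 b8_864 j9_864_0 = true := by decide +kernel

noncomputable def j9_864_1 : List Job := [
  ⟨60, 0x47e3d178b4261101, 0, 5, 0x0, []⟩]

theorem t9_864_1 : jobs 8 S9 b8_864 j9_864_1 = true := by decide +kernel

noncomputable def j9_864_2 : List Job := [
  ⟨59, 0x47e3d178b4261101, 0, 2, 0x0, []⟩]

theorem t9_864_2 : jobs 8 S9 b8_864 j9_864_2 = true := by decide +kernel

noncomputable def j9_864_3 : List Job := [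
  ⟨46, 0x4904a26138b05a2e178d06a361b8f07a3e1fc804222118a0522a158c06232198e0723a1dc7e3d1b8d4160901, 0, 3, 0x201000401, []⟩]

theorem t9_864_3 : jobs 8 S9 b8_864 j9_864_3 = true := by decide +kernel

noncomputable def j9_864_4 : List Job := [
  ⟨45, 0x4904a26138b05a2e178d06a361b8f07a3e1fc804222118a0522a158c06232198e0723a1dc7e3d1b8d4160901, 0, 9, 0xa01001001001201, []⟩]

theorem t9_864_4 : jobs 8 S9 b8_864 j9_864_4 = true := by decide +kernel

noncomputable def j9_864_5 : List Job := [
  ⟨34, 0x48450301cc8052311c4663111884261101, 0, 3, 0x0, []⟩]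

theorem t9_864_5 : jobs 8 S9 b8_864 j9_864_5 = true := by decide +kernel

noncomputable def j9_864_6 : List Job := [
  ⟨33, 0x48452301c48050311cc663111884261101, 0, 4, 0x0, []⟩]

theorem t9_864_6 : jobs 8 S9 b8_864 j9_864_6 = true := by decide +kernel

noncomputable def j9_864_7 : List Job := [
  ⟨32, 0x48452311cc8050301c4663111884261101, 0, 6, 0x0, []⟩]

theorem t9_864_7 : jobs 8 S9 b8_864 j9_864_7 = true := by decide +kernel

noncomputable def j9_864_8 : List Job := [
  ⟨22, 0x605048945a45269c4fe01068845241249d4f508864422948a6562bc804224128a0522e17c402212098502a160bc20120a058301a0e07c080701, 0, 16, 0x200000401000600000800000a01000e01001200001400001600001800002001, [(11, ⟨3367, 0x9e012d0153010e0016010701030101010001, 0x19c1714818140300c02⟩), (10, ⟨3366, 0x9e012d0153010e0016010701030101010001, 0x19c1714818140300c02⟩), (9, ⟨3369, 0x9e012d0153010e0016010701030101010001, 0x19c1714818140300c02⟩), (8, ⟨3368, 0x9e012d0153010e0016010701030101010001, 0x19c1714818140300c02⟩), (3, ⟨3370, 0x830051002f0111010b000400030001000001,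 0x182280b0220a0200c02⟩), (2, ⟨3372, 0x830051002f0111010b000400030001000001, 0x182280b0220a0200c02⟩), (0, ⟨3371, 0x830051002f0111010b000400030001000001, 0x182280b0220a0200c02⟩)]⟩]

theorem t9_864_8 : jobs 8 S9 b8_864 j9_864_8 = true := by decide +kernel

noncomputable def j9_864_9 : List Job := [
  ⟨20, 0x605048945a45269c4fe01068845241249d4f580c26231990ca66339e0f27a3d9f0fa7e3fd00824623940a2542ac804224128a0522e17c402212098502a160bc20120a058301a0e07c080701, 0, 20, 0x200000400000600000800000e00001000001200001400, [(9, ⟨3365, 0x9e012e0150000e0016000701030101010001, 0x19c1614018140300c02⟩), (8, ⟨3364, 0x9e012e0150000e0016000701030101010001, 0x19c1614018140300c02⟩), (7, ⟨3363, 0x9e012e0150000e0016000701030101010001, 0x19c1614018140300c02⟩), (6, ⟨3362, 0x9e012e0150000e0016000701030101010001, 0x19c1614018140300c02⟩), (3, ⟨3361, 0x9e002e0050000e0016000701030101010001, 0x19c1614018140300c02⟩), (2, ⟨3360, 0x9e002e0050000e0016000701030101010001, 0x19c1614018140300c02⟩), (1, ⟨3359, 0x9e002e0050000e0016000701030101010001,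 0x19c1614018140300c02⟩), (0, ⟨3358, 0x9e002e0050000e0016000701030101010001, 0x19c1614018140300c02⟩)]⟩]

theorem t9_864_9 : jobs 8 S9 b8_864 j9_864_9 = true := by decide +kernel

noncomputable def j9_864_10 : List Job := [
  ⟨16, 0x504844523144a6552bd00864423940a4542b4180f05824080701, 0, 8, 0x201000401000601000801000a09000c08000e09001008, []⟩]

theorem t9_864_10 : jobs 8 S9 b8_864 j9_864_10 = true := by decide +kernel

noncomputable def j9_864_11 : List Job := [
  ⟨8, 0x504844523144a6552bd00864423940a4542b4301a0e07c20120a05c180f05824080701, 0, 8, 0x208000408000609000809000a09000c08000e08001009, []⟩]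

theorem t9_864_11 : jobs 8 S9 b8_864 j9_864_11 = true := by decide +kernel

noncomputable def j9_864_12 : List Job := [
  ⟨4, 0x504864523944a4552b500844423140a6542bc301a0e07c20120a05c180f05824080701, 0, 8, 0x20b00060b000a0b000c0b000e0a00100a, []⟩]

theorem t9_864_12 : jobs 8 S9 b8_864 j9_864_12 = true := by decide +kernel

theorem d9_864 : Dn 8 S9 b8_864 := dn_of (Js := j9_864_0 ++ (j9_864_1 ++ (j9_864_2 ++ (j9_864_3 ++ (j9_864_4 ++ (j9_864_5 ++ (j9_864_6 ++ (j9_864_7 ++ (j9_864_8 ++ (j9_864_9 ++ (j9_864_10 ++ (j9_864_11 ++ (j9_864_12 ++ [])))))))))))))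
  (jobs_append t9_864_0 <| jobs_append t9_864_1 <| jobs_append t9_864_2 <| jobs_append t9_864_3 <| jobs_append t9_864_4 <| jobs_append t9_864_5 <| jobs_append t9_864_6 <| jobs_append t9_864_7 <| jobs_append t9_864_8 <| jobs_append t9_864_9 <| jobs_append t9_864_10 <| jobs_append t9_864_11 <| jobs_append t9_864_12 <| List.forall_mem_nil _) (by decide +kernel)

noncomputable def j9_865_0 : List Job := [
  ⟨61, 0x601028241a110a8643a21128a45a311a8e47a41229249a512a964ba61329a4da713a9e4fd008242219108a4623920924a259309a4e27940a25229950aa562b960b25a2d970ba5e2fc845320144261101, 0, 9, 0x0, []⟩]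

theorem t9_865_0 : jobs 8 S9 b8_865 j9_865_0 = true := by decide +kernel

noncomputable def j9_865_1 : List Job := [
  ⟨49, 0x5108a46239309a4e27940a25229960b25a2dd00824221920924a25950aa562b970ba5e2fc7e3d1b8d4160901, 0, 4, 0x201000401, []⟩]

theorem t9_865_1 : jobs 8 S9 b8_865 j9_865_1 = true := by decide +kernel

noncomputable def j9_865_2 : List Job := [
  ⟨47, 0x5108a46239309a4e27940a25229960b25a2dd00824221920924a25950aa562b970ba5e2fc7e3d1b8d4160901, 0, 10, 0xe01001201, []⟩]

theorem t9_865_2 : jobs 8 S9 b8_865 j9_865_2 = true := by decide +kernel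

noncomputable def j9_865_3 : List Job := [
  ⟨46, 0x5108a46239309a4e27940a25229960b25a2dd00824221920924a25950aa562b970ba5e2fc301a0e07c0e0501, 0, 4, 0x0, []⟩]

theorem t9_865_3 : jobs 8 S9 b8_865 j9_865_3 = true := by decide +kernel

noncomputable def j9_865_4 : List Job := [
  ⟨45, 0x5108a46239309a4e27940a25229960b25a2dd00824221920924a25950aa562b970ba5e2fc301a0e07c0e0501, 0, 4, 0x0, []⟩]

theorem t9_865_4 : jobs 8 S9 b8_865 j9_865_4 = true := by decide +kernel

noncomputable def j9_865_5 : List Job := [
  ⟨39, 0x601028241a110a8643a21128a45a311a8e47a41229249a512a964ba61329a4da713a9e4fc84612018c462101, 0, 2, 0x0, []⟩]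

theorem t9_865_5 : jobs 8 S9 b8_865 j9_865_5 = true := by decide +kernel

noncomputable def j9_865_6 : List Job := [
  ⟨37, 0x601028241a110a8643a21128a45a311a8e47a41229249a512a964ba61329a4da713a9e4fc846320184462101, 0, 6, 0x0, []⟩]

theorem t9_865_6 : jobs 8 S9 b8_865 j9_865_6 = true := by decide +kernel

noncomputable def j9_865_7 : List Job := [
  ⟨31, 0x4663111884261101, 0, 2, 0x401, []⟩]

theorem t9_865_7 : jobs 8 S9 b8_865 j9_865_7 = true := by decide +kernel

noncomputable def j9_865_8 : List Job := [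
  ⟨30, 0x4663111884261101, 0, 3, 0x401000601, []⟩]

theorem t9_865_8 : jobs 8 S9 b8_865 j9_865_8 = true := by decide +kernel

noncomputable def j9_865_9 : List Job := [
  ⟨29, 0x4663111884261101, 0, 4, 0x801, []⟩]

theorem t9_865_9 : jobs 8 S9 b8_865 j9_865_9 = true := by decide +kernel

noncomputable def j9_865_10 : List Job := [
  ⟨27, 0x621128a45a311a8e47a41229249a512a964be01028241a110a8643a61329a4da713a9e4fc4e25118840e0501, 0, 4, 0x0, []⟩]

theorem t9_865_10 : jobs 8 S9 b8_865 j9_865_10 = true := by decide +kernel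

noncomputable def j9_865_11 : List Job := [
  ⟨23, 0x621128a45a311a8e47a41229249a512a964be01028241a110a8643a61329a4da713a9e4fc4e25118840e0501, 0, 5, 0x0, []⟩]

theorem t9_865_11 : jobs 8 S9 b8_865 j9_865_11 = true := by decide +kernel

noncomputable def j9_865_12 : List Job := [
  ⟨18, 0x621128a45a311a8e47a41229249a512a964be01028241a110a8643a61329a4da713a9e4fc4e25118840e0501, 0, 8, 0x0, []⟩]

theorem t9_865_12 : jobs 8 S9 b8_865 j9_865_12 = true := by decide +kernel

noncomputable def j9_865_13 : List Job := [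
  ⟨15, 0x621128a45a311a8e47a41229249a512a964be01028241a110a8643a61329a4da713a9e4fc663111884261101, 0, 3, 0x201000401, []⟩]

theorem t9_865_13 : jobs 8 S9 b8_865 j9_865_13 = true := by decide +kernel

noncomputable def j9_865_14 : List Job := [
  ⟨13, 0x621128a45a311a8e47a41229249a512a964be01028241a110a8643a61329a4da713a9e4fc663111884261101, 0, 4, 0x201000401, []⟩]

theorem t9_865_14 : jobs 8 S9 b8_865 j9_865_14 = true := by decide +kernel

noncomputable def j9_865_15 : List Job := [
  ⟨11, 0x621128a45a311a8e47a41229249a512a964be01028241a110a8643a61329a4da713a9e4fc663111884261101, 0, 7, 0xe01, []⟩]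

theorem t9_865_15 : jobs 8 S9 b8_865 j9_865_15 = true := by decide +kernel

noncomputable def j9_865_16 : List Job := [
  ⟨6, 0x4663111884261101, 0, 2, 0x401, []⟩]

theorem t9_865_16 : jobs 8 S9 b8_865 j9_865_16 = true := by decide +kernel

noncomputable def j9_865_17 : List Job := [
  ⟨5, 0x4663111884261101, 0, 2, 0x401, []⟩]

theorem t9_865_17 : jobs 8 S9 b8_865 j9_865_17 = true := by decide +kernel

noncomputable def j9_865_18 : List Job := [
  ⟨4, 0x4663111884261101, 0, 5, 0x801000a01, []⟩]

theorem t9_865_18 : jobs 8 S9 b8_865 j9_865_18 = true := by decide +kernel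

theorem d9_865 : Dn 8 S9 b8_865 := dn_of (Js := j9_865_0 ++ (j9_865_1 ++ (j9_865_2 ++ (j9_865_3 ++ (j9_865_4 ++ (j9_865_5 ++ (j9_865_6 ++ (j9_865_7 ++ (j9_865_8 ++ (j9_865_9 ++ (j9_865_10 ++ (j9_865_11 ++ (j9_865_12 ++ (j9_865_13 ++ (j9_865_14 ++ (j9_865_15 ++ (j9_865_16 ++ (j9_865_17 ++ (j9_865_18 ++ [])))))))))))))))))))
  (jobs_append t9_865_0 <| jobs_append t9_865_1 <| jobs_append t9_865_2 <| jobs_append t9_865_3 <| jobs_append t9_865_4 <| jobs_append t9_865_5 <| jobs_append t9_865_6 <| jobs_append t9_865_7 <| jobs_append t9_865_8 <| jobs_append t9_865_9 <| jobs_append t9_865_10 <| jobs_append t9_865_11 <| jobs_append t9_865_12 <| jobs_append t9_865_13 <| jobs_append t9_865_14 <| jobs_append t9_865_15 <| jobs_append t9_865_16 <| jobs_append t9_865_17 <| jobs_append t9_865_18 <| List.forall_mem_nil _) (by decide +kernel)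

noncomputable def j9_866_0 : List Job := [
  ⟨56, 0x5008242219108a4623920924a259309a4e27940a25229950aa562b960b25a2d970ba5e2fc904a26138b05a2e17c804222118a0522a15c160901, 0, 2, 0x0, []⟩]

theorem t9_866_0 : jobs 8 S9 b8_866 j9_866_0 = true := by decide +kernel

noncomputable def j9_866_1 : List Job := [
  ⟨55, 0x5008242219108a4623920924a259309a4e27940a25229950aa562b960b25a2d970ba5e2fc904a26138b05a2e17c804222118a0522a15c160901, 0, 8, 0x208000608000a08000e08, []⟩]

theorem t9_866_1 : jobs 8 S9 b8_866 j9_866_1 = true := by decide +kernel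

noncomputable def j9_866_2 : List Job := [
  ⟨49, 0x4160901, 0, 6, 0x0, []⟩]

theorem t9_866_2 : jobs 8 S9 b8_866 j9_866_2 = true := by decide +kernel

noncomputable def j9_866_3 : List Job := [
  ⟨41, 0x5008242219108a4623920924a259309a4e27940a25229950aa562b960b25a2d970ba5e2fc160901, 0, 8, 0x0, []⟩]

theorem t9_866_3 : jobs 8 S9 b8_866 j9_866_3 = true := by decide +kernel

noncomputable def j9_866_4 : List Job := [
  ⟨35, 0x601028241a110a8643a21128a45a311a8e47a41229249a512a964ba61329a4da713a9e4fd008242219108a4623920924a259309a4e27940a25229950aa562b960b25a2d970ba5e2fc160901, 0, 6, 0x0, []⟩]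

theorem t9_866_4 : jobs 8 S9 b8_866 j9_866_4 = true := by decide +kernel

noncomputable def j9_866_5 : List Job := [
  ⟨31, 0x4844829164804a2816c160901, 0, 2, 0x0, []⟩]

theorem t9_866_5 : jobs 8 S9 b8_866 j9_866_5 = true := by decide +kernel

noncomputable def j9_866_6 : List Job := [
  ⟨29, 0x4844a2916c804828164160901, 0, 6, 0x0, []⟩]

theorem t9_866_6 : jobs 8 S9 b8_866 j9_866_6 = true := by decide +kernel

noncomputable def j9_866_7 : List Job := [
  ⟨22, 0x5008242219108a4623920924a259309a4e27940a25229950aa562b960b25a2d970ba5e2fc844829164804a2816c160901, 0, 2, 0x0, []⟩]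

theorem t9_866_7 : jobs 8 S9 b8_866 j9_866_7 = true := by decide +kernel

noncomputable def j9_866_8 : List Job := [
  ⟨21, 0x5008242219108a4623920924a259309a4e27940a25229950aa562b960b25a2d970ba5e2fc844a2916c804828164160901, 0, 8, 0x0, []⟩]

theorem t9_866_8 : jobs 8 S9 b8_866 j9_866_8 = true := by decide +kernel

noncomputable def j9_866_9 : List Job := [
  ⟨20, 0x4804222118a0522a15c180f01, 0, 12, 0x203000a03001203, []⟩]

theorem t9_866_9 : jobs 8 S9 b8_866 j9_866_9 = true := by decide +kernel

noncomputable def j9_866_10 : List Job := [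
  ⟨19, 0x5008242219108a4623920924a259309a4e27940a25229950aa562b960b25a2d970ba5e2fc804222118a0522a15c180f01, 0, 16, 0x203000a03001203001a03, []⟩]

theorem t9_866_10 : jobs 8 S9 b8_866 j9_866_10 = true := by decide +kernel

noncomputable def j9_866_11 : List Job := [
  ⟨18, 0x601028241a110a8643a21128a45a311a8e47a41229249a512a964ba61329a4da713a9e4fd008242219108a4623920924a259309a4e27940a25229950aa562b960b25a2d970ba5e2fc804222118a0522a15c180f01, 0, 12, 0x203000a03001203, []⟩]

theorem t9_866_11 : jobs 8 S9 b8_866 j9_866_11 = true := by decide +kernel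

noncomputable def j9_866_12 : List Job := [
  ⟨17, 0x4160901, 0, 6, 0x0, []⟩]

theorem t9_866_12 : jobs 8 S9 b8_866 j9_866_12 = true := by decide +kernel

noncomputable def j9_866_13 : List Job := [
  ⟨16, 0x5008242219108a4623920924a259309a4e27940a25229950aa562b960b25a2d970ba5e2fc160901, 0, 8, 0x0, []⟩]

theorem t9_866_13 : jobs 8 S9 b8_866 j9_866_13 = true := by decide +kernel

noncomputable def j9_866_14 : List Job := [
  ⟨15, 0x601028241a110a8643a21128a45a311a8e47a41229249a512a964ba61329a4da713a9e4fd008242219108a4623920924a259309a4e27940a25229950aa562b960b25a2d970ba5e2fc160901, 0, 6, 0x0, []⟩]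

theorem t9_866_14 : jobs 8 S9 b8_866 j9_866_14 = true := by decide +kernel

noncomputable def j9_866_15 : List Job := [
  ⟨14, 0x4904a26138b05a2e17c804222118a0522a15c160901, 0, 6, 0x0, []⟩]

theorem t9_866_15 : jobs 8 S9 b8_866 j9_866_15 = true := by decide +kernel

noncomputable def j9_866_16 : List Job := [
  ⟨13, 0x5008242219108a4623920924a259309a4e27940a25229950aa562b960b25a2d970ba5e2fc904a26138b05a2e17c804222118a0522a15c160901, 0, 8, 0x0, []⟩]

theorem t9_866_16 : jobs 8 S9 b8_866 j9_866_16 = true := by decide +kernel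

noncomputable def j9_866_17 : List Job := [
  ⟨12, 0x601028241a110a8643a21128a45a311a8e47a41229249a512a964ba61329a4da713a9e4fd008242219108a4623920924a259309a4e27940a25229950aa562b960b25a2d970ba5e2fc904a26138b05a2e17c804222118a0522a15c160901, 0, 15, 0xe08001208001608001a00, [(12, ⟨3373, 0x47014a0044044008500040006000408001, 0x18f25888200a0200c02⟩)]⟩]

theorem t9_866_17 : jobs 8 S9 b8_866 j9_866_17 = true := by decide +kernel

noncomputable def j9_866_18 : List Job := [
  ⟨11, 0x4804222118a0522a15c0e0501, 0, 6, 0x0, []⟩]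

theorem t9_866_18 : jobs 8 S9 b8_866 j9_866_18 = true := by decide +kernel

noncomputable def j9_866_19 : List Job := [
  ⟨10, 0x5008242219108a4623920924a259309a4e27940a25229950aa562b960b25a2d970ba5e2fc804222118a0522a15c0e0501, 0, 8, 0x0, []⟩]

theorem t9_866_19 : jobs 8 S9 b8_866 j9_866_19 = true := by decide +kernel

noncomputable def j9_866_20 : List Job := [
  ⟨9, 0x601028241a110a8643a21128a45a311a8e47a41229249a512a964ba61329a4da713a9e4fd008242219108a4623920924a259309a4e27940a25229950aa562b960b25a2d970ba5e2fc804222118a0522a15c0e0501, 0, 6, 0x0, []⟩]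

theorem t9_866_20 : jobs 8 S9 b8_866 j9_866_20 = true := by decide +kernel

noncomputable def j9_866_21 : List Job := [
  ⟨8, 0x484462915c8044281540e0501, 0, 6, 0x202000602000a02, []⟩]

theorem t9_866_21 : jobs 8 S9 b8_866 j9_866_21 = true := by decide +kernel

noncomputable def j9_866_22 : List Job := [
  ⟨7, 0x5008242219108a4623920924a259309a4e27940a25229950aa562b960b25a2d970ba5e2fc84462915c8044281540e0501, 0, 8, 0x202000602000a02000e02, []⟩]

theorem t9_866_22 : jobs 8 S9 b8_866 j9_866_22 = true := by decide +kernel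

noncomputable def j9_866_23 : List Job := [
  ⟨6, 0x601028241a110a8643a21128a45a311a8e47a41229249a512a964ba61329a4da713a9e4fd008242219108a4623920924a259309a4e27940a25229950aa562b960b25a2d970ba5e2fc84462915c8044281540e0501, 0, 15, 0xe02001202001602001a01, []⟩]

theorem t9_866_23 : jobs 8 S9 b8_866 j9_866_23 = true := by decide +kernel

theorem d9_866 : Dn 8 S9 b8_866 := dn_of (Js := j9_866_0 ++ (j9_866_1 ++ (j9_866_2 ++ (j9_866_3 ++ (j9_866_4 ++ (j9_866_5 ++ (j9_866_6 ++ (j9_866_7 ++ (j9_866_8 ++ (j9_866_9 ++ (j9_866_10 ++ (j9_866_11 ++ (j9_866_12 ++ (j9_866_13 ++ (j9_866_14 ++ (j9_866_15 ++ (j9_866_16 ++ (j9_866_17 ++ (j9_866_18 ++ (j9_866_19 ++ (j9_866_20 ++ (j9_866_21 ++ (j9_866_22 ++ (j9_866_23 ++ []))))))))))))))))))))))))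
  (jobs_append t9_866_0 <| jobs_append t9_866_1 <| jobs_append t9_866_2 <| jobs_append t9_866_3 <| jobs_append t9_866_4 <| jobs_append t9_866_5 <| jobs_append t9_866_6 <| jobs_append t9_866_7 <| jobs_append t9_866_8 <| jobs_append t9_866_9 <| jobs_append t9_866_10 <| jobs_append t9_866_11 <| jobs_append t9_866_12 <| jobs_append t9_866_13 <| jobs_append t9_866_14 <| jobs_append t9_866_15 <| jobs_append t9_866_16 <| jobs_append t9_866_17 <| jobs_append t9_866_18 <| jobs_append t9_866_19 <| jobs_append t9_866_20 <| jobs_append t9_866_21 <| jobs_append t9_866_22 <| jobs_append t9_866_23 <| List.forall_mem_nil _) (by decide +kernel)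

noncomputable def j9_867_0 : List Job := [
  ⟨58, 0x68142a251a914aa653aa152aa55ab15aae57ac162b259ad16ab65bae172ba5daf17abe5fe01028241a110a8643a21128a45a311a8e47a41229249a512a964ba61329a4da713a9e4fd008242219108a4623920924a259309a4e27940a25229950aa562b960b25a2d970ba5e2fc160901, 0, 6, 0x0, []⟩]

theorem t9_867_0 : jobs 8 S9 b8_867 j9_867_0 = true := by decide +kernel

noncomputable def j9_867_1 : List Job := [
  ⟨52, 0x601028241a110a8643a21128a45a311a8e47a41229249a512a964ba61329a4da713a9e4fd008242219108a4623920924a259309a4e27940a25229950aa562b960b25a2d970ba5e2fc160901, 0, 6, 0x0, []⟩]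

theorem t9_867_1 : jobs 8 S9 b8_867 j9_867_1 = true := by decide +kernel

noncomputable def j9_867_2 : List Job := [
  ⟨46, 0x68142a251a914aa653aa152aa55ab15aae57ac162b259ad16ab65bae172ba5daf17abe5fe01028241a110a8643a21128a45a311a8e47a41229249a512a964ba61329a4da713a9e4fd80c26231990ca66339a0d26a359b0da6e379c0e272399d0ea763b9e0f27a3d9f0fa7e3fd008242219108a4623920924a259309a4e27940a25229950aa562b960b25a2d970ba5e2fc462101, 0, 6, 0x0, []⟩]

theorem t9_867_2 : jobs 8 S9 b8_867 j9_867_2 = true := by decide +kernel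

noncomputable def j9_867_3 : List Job := [
  ⟨39, 0x540a25229950aa562b960b25a2d970ba5e2fd008242219108a4623920924a259309a4e27c462101, 0, 2, 0x0, []⟩]

theorem t9_867_3 : jobs 8 S9 b8_867 j9_867_3 = true := by decide +kernel

noncomputable def j9_867_4 : List Job := [
  ⟨38, 0x540a25229950aa562b960b25a2d970ba5e2fd008242219108a4623920924a259309a4e27c462101, 0, 6, 0x220000421000621, []⟩]

theorem t9_867_4 : jobs 8 S9 b8_867 j9_867_4 = true := by decide +kernel

noncomputable def j9_867_5 : List Job := [
  ⟨29, 0x601028241a110a8643a21128a45a311a8e47a41229249a512a964ba61329a4da713a9e4fd008242219108a4623920924a259309a4e27940a25229950aa562b960b25a2d970ba5e2fcc06232198d06a361b8e0723a1d8f07a3e1fc804222118904a26138a0522a158b05a2e17c462101, 0, 9, 0x220000621000a20000e01, []⟩]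

theorem t9_867_5 : jobs 8 S9 b8_867 j9_867_5 = true := by decide +kernel

noncomputable def j9_867_6 : List Job := [
  ⟨23, 0x4804222118904a26138a0522a158b05a2e17c160901, 0, 6, 0x0, []⟩]

theorem t9_867_6 : jobs 8 S9 b8_867 j9_867_6 = true := by decide +kernel

noncomputable def j9_867_7 : List Job := [
  ⟨15, 0x5008242219108a4623920924a259309a4e27940a25229950aa562b960b25a2d970ba5e2fc804222118904a26138a0522a158b05a2e17c160901, 0, 8, 0x0, []⟩]

theorem t9_867_7 : jobs 8 S9 b8_867 j9_867_7 = true := by decide +kernel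

noncomputable def j9_867_8 : List Job := [
  ⟨9, 0x601028241a110a8643a21128a45a311a8e47a41229249a512a964ba61329a4da713a9e4fd008242219108a4623920924a259309a4e27940a25229950aa562b960b25a2d970ba5e2fc804222118904a26138a0522a158b05a2e17c160901, 0, 6, 0x0, []⟩]

theorem t9_867_8 : jobs 8 S9 b8_867 j9_867_8 = true := by decide +kernel

noncomputable def j9_867_9 : List Job := [
  ⟨3, 0x4904a26138b05a2e17c804222118a0522a15c160901, 0, 2, 0x0, []⟩]

theorem t9_867_9 : jobs 8 S9 b8_867 j9_867_9 = true := by decide +kernel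

noncomputable def j9_867_10 : List Job := [
  ⟨1, 0x4904a26138b05a2e17c804222118a0522a15c160901, 0, 6, 0x208000608000a08, []⟩]

theorem t9_867_10 : jobs 8 S9 b8_867 j9_867_10 = true := by decide +kernel

theorem d9_867 : Dn 8 S9 b8_867 := dn_of (Js := j9_867_0 ++ (j9_867_1 ++ (j9_867_2 ++ (j9_867_3 ++ (j9_867_4 ++ (j9_867_5 ++ (j9_867_6 ++ (j9_867_7 ++ (j9_867_8 ++ (j9_867_9 ++ (j9_867_10 ++ [])))))))))))
  (jobs_append t9_867_0 <| jobs_append t9_867_1 <| jobs_append t9_867_2 <| jobs_append t9_867_3 <| jobs_append t9_867_4 <| jobs_append t9_867_5 <| jobs_append t9_867_6 <| jobs_append t9_867_7 <| jobs_append t9_867_8 <| jobs_append t9_867_9 <| jobs_append t9_867_10 <| List.forall_mem_nil _) (by decide +kernel)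

noncomputable def j9_868_0 : List Job := [
  ⟨63, 0x4c866341ac80422613c4022160bc180f01, 0, 9, 0x0, []⟩]

theorem t9_868_0 : jobs 8 S9 b8_868 j9_868_0 = true := by decide +kernel

noncomputable def j9_868_1 : List Job := [
  ⟨62, 0x488462412c80422613c4826140ac4022160bc180f05824080701, 0, 12, 0xe0a00100b00140a00160b, []⟩]

theorem t9_868_1 : jobs 8 S9 b8_868 j9_868_1 = true := by decide +kernel

noncomputable def j9_868_2 : List Job := [
  ⟨58, 0x4c46f301b4844f20134442f100b41e0d01, 0, 9, 0x0, []⟩]

theorem t9_868_2 : jobs 8 S9 b8_868 j9_868_2 = true := by decide +kernel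

noncomputable def j9_868_3 : List Job := [
  ⟨51, 0x4442d100bc1e0d01, 0, 8, 0x0, []⟩]

theorem t9_868_3 : jobs 8 S9 b8_868 j9_868_3 = true := by decide +kernel

noncomputable def j9_868_4 : List Job := [
  ⟨50, 0x4442f100b41e0d01, 0, 2, 0x201000401, []⟩]

theorem t9_868_4 : jobs 8 S9 b8_868 j9_868_4 = true := by decide +kernel

noncomputable def j9_868_5 : List Job := [
  ⟨48, 0x488462412c80422613c180f05824080701, 0, 2, 0x200000400, [(1, ⟨3394, 0x10a04f090002c22800700184042001, 0x187280801c120300c02⟩), (0, ⟨3395, 0x10a04f090002c22810700184042001, 0x187280801c120300c02⟩)]⟩]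

theorem t9_868_5 : jobs 8 S9 b8_868 j9_868_5 = true := by decide +kernel

noncomputable def j9_868_6 : List Job := [
  ⟨47, 0x44c2d120bc442b100a4180f05824080701, 0, 8, 0x201000401000601000801000a01000c01000e01001001, []⟩]

theorem t9_868_6 : jobs 8 S9 b8_868 j9_868_6 = true := by decide +kernel

noncomputable def j9_868_7 : List Job := [
  ⟨46, 0x4c06232198d06a361bc88462412c80422613c4c2d120bc442b100a4180f05824080701, 0, 24, 0x200000401000600000a00000c01000e00001201001401001801001a01001c01002001002401002c01, [(6, ⟨3392, 0x2ec148048810c0450107040c10100001, 0x1be2808c1c160300c02⟩), (4, ⟨3391, 0x2ec148048800c0450107040c10100001, 0x1be2808c1c160300c02⟩), (2, ⟨3390, 0x2ec048008800c0050007040c10100001, 0x1be2808c1c160300c02⟩), (0, ⟨3389, 0x2ec048008810c0050007040c10100001, 0x1be2808c1c160300c02⟩)]⟩]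

theorem t9_868_7 : jobs 8 S9 b8_868 j9_868_7 = true := by decide +kernel

noncomputable def j9_868_8 : List Job := [
  ⟨45, 0x444251009c0e0501, 0, 6, 0x403000a01000c01, []⟩]

theorem t9_868_8 : jobs 8 S9 b8_868 j9_868_8 = true := by decide +kernel

noncomputable def j9_868_9 : List Job := [
  ⟨44, 0x44427100940e0501, 0, 4, 0x601000801, []⟩]

theorem t9_868_9 : jobs 8 S9 b8_868 j9_868_9 = true := by decide +kernel

noncomputable def j9_868_10 : List Job := [
  ⟨43, 0x42e15098440e0501, 0, 5, 0x800000a01, [(3, ⟨3382, 0x14007f094001423010200400040001, 0x1a03c88814020881002⟩)]⟩]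

theorem t9_868_10 : jobs 8 S9 b8_868 j9_868_10 = true := by decide +kernel

noncomputable def j9_868_11 : List Job := [
  ⟨42, 0x42e15098440e0501, 0, 11, 0x801000e01001001001201001401001601, []⟩]

theorem t9_868_11 : jobs 8 S9 b8_868 j9_868_11 = true := by decide +kernel

noncomputable def j9_868_12 : List Job := [
  ⟨41, 0x46435180dc44251009c2e15098440e0501, 0, 15, 0x210000401000805000e00001400001601001a00, [(12, ⟨3380, 0x2781470084105004c002042010104001, 0x19e280841a020881002⟩), (9, ⟨3381, 0x2a015c00a0005004c002002000100001, 0x1a22d0881a020881002⟩), (6, ⟨3379, 0x2781470484105004c002002010100001, 0x19e280841a020881002⟩)]⟩]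

theorem t9_868_12 : jobs 8 S9 b8_868 j9_868_12 = true := by decide +kernel

noncomputable def j9_868_13 : List Job := [
  ⟨40, 0x46437180d44427100942e15098440e0501, 0, 17, 0x200000401000801000a05000c01001001001201001401001601001801001a01001c01001e01002001002201, [(0, ⟨3378, 0x32815a04d00060040003002810100001, 0x1c0250e010070a81402⟩)]⟩]

theorem t9_868_13 : jobs 8 S9 b8_868 j9_868_13 = true := by decide +kernel

noncomputable def j9_868_14 : List Job := [
  ⟨39, 0x4703a1e0fc60321a0dc502a160bc40221209c301a0e07c20120a05c100a0603c0e0501, 0, 1, 0x0, []⟩]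

theorem t9_868_14 : jobs 8 S9 b8_868 j9_868_14 = true := by decide +kernel

noncomputable def j9_868_15 : List Job := [
  ⟨38, 0x4703a1e0fc60321a0dc502a160bc40221209c301a0e07c20120a05c100a0603c0e0501, 0, 3, 0x200, [(0, ⟨3377, 0x4c815c0244003c08980040002000800001, 0x19e2c08416170200404⟩)]⟩]

theorem t9_868_15 : jobs 8 S9 b8_868 j9_868_15 = true := by decide +kernel

noncomputable def j9_868_16 : List Job := [
  ⟨32, 0x68142a251a914aa653aa152aa55ab15aae57ac162b259ad16ab65bae172ba5daf17abe5fe01028241a110a8643a21128a45a311a8e47a41229249a512a964ba61329a4da713a9e4fd80c26231990ca66339a0d26a359b0da6e379c0e272399d0ea763b9e0f27a3d9f0fa7e3fd008242219108a4623920924a259309a4e27940a25229950aa562b960b25a2d970ba5e2fc864101, 0, 6, 0x200000600000800, [(3, ⟨3375, 0x3200800040047000700070006040408001, 0x140520803a0e0380c02⟩), (2, ⟨3376, 0x2481b10240044008400040004000400001, 0x17e4708020080200802⟩), (0, ⟨3374, 0x3200800040047000700070006040408001, 0x140520803a0e0380c02⟩)]⟩]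

theorem t9_868_16 : jobs 8 S9 b8_868 j9_868_16 = true := by decide +kernel

noncomputable def j9_868_17 : List Job := [
  ⟨28, 0x4462101, 0, 4, 0x0, []⟩]

theorem t9_868_17 : jobs 8 S9 b8_868 j9_868_17 = true := by decide +kernel

noncomputable def j9_868_18 : List Job := [
  ⟨22, 0x580c26231990ca66339a0d26a359b0da6e379c0e272399d0ea763b9e0f27a3d9f0fa7e3fd008242219108a4623920924a259309a4e27940a25229950aa562b960b25a2d970ba5e2fc462101, 0, 6, 0x0, []⟩]

theorem t9_868_18 : jobs 8 S9 b8_868 j9_868_18 = true := by decide +kernel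

noncomputable def j9_868_19 : List Job := [
  ⟨18, 0x4160901, 0, 4, 0x0, []⟩]

theorem t9_868_19 : jobs 8 S9 b8_868 j9_868_19 = true := by decide +kernel

noncomputable def j9_868_20 : List Job := [
  ⟨12, 0x580c26231990ca66339a0d26a359b0da6e379c0e272399d0ea763b9e0f27a3d9f0fa7e3fd008242219108a4623920924a259309a4e27940a25229950aa562b960b25a2d970ba5e2fc160901, 0, 6, 0x0, []⟩]

theorem t9_868_20 : jobs 8 S9 b8_868 j9_868_20 = true := by decide +kernel

noncomputable def j9_868_21 : List Job := [
  ⟨11, 0x601028241a110a8643a21128a45a311a8e47a41229249a512a964ba61329a4da713a9e4fd008242219108a4623920924a259309a4e27940a25229950aa562b960b25a2d970ba5e2fc160901, 0, 10, 0x0, []⟩]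

theorem t9_868_21 : jobs 8 S9 b8_868 j9_868_21 = true := by decide +kernel

noncomputable def j9_868_22 : List Job := [
  ⟨10, 0x601028241a110a8643a21128a45a311a8e47a41229249a512a964ba61329a4da713a9e4fc160901, 0, 8, 0x0, []⟩]

theorem t9_868_22 : jobs 8 S9 b8_868 j9_868_22 = true := by decide +kernel

noncomputable def j9_868_23 : List Job := [
  ⟨9, 0x601028241a110a8643a21128a45a311a8e47a41229249a512a964ba61329a4da713a9e4fd80c26231990ca66339a0d26a359b0da6e379c0e272399d0ea763b9e0f27a3d9f0fa7e3fd008242219108a4623920924a259309a4e27940a25229950aa562b960b25a2d970ba5e2fc160901, 0, 8, 0x0, []⟩]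

theorem t9_868_23 : jobs 8 S9 b8_868 j9_868_23 = true := by decide +kernel

noncomputable def j9_868_24 : List Job := [
  ⟨8, 0x4160901, 0, 4, 0x0, []⟩]

theorem t9_868_24 : jobs 8 S9 b8_868 j9_868_24 = true := by decide +kernel

noncomputable def j9_868_25 : List Job := [
  ⟨7, 0x580c26231990ca66339a0d26a359b0da6e379c0e272399d0ea763b9e0f27a3d9f0fa7e3fd008242219108a4623920924a259309a4e27940a25229950aa562b960b25a2d970ba5e2fc160901, 0, 7, 0x0, []⟩]

theorem t9_868_25 : jobs 8 S9 b8_868 j9_868_25 = true := by decide +kernel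

noncomputable def j9_868_26 : List Job := [
  ⟨6, 0x68142a251a914aa653aa152aa55ab15aae57ac162b259ad16ab65bae172ba5daf17abe5fe01028241a110a8643a21128a45a311a8e47a41229249a512a964ba61329a4da713a9e4fd80c26231990ca66339a0d26a359b0da6e379c0e272399d0ea763b9e0f27a3d9f0fa7e3fd008242219108a4623920924a259309a4e27940a25229950aa562b960b25a2d970ba5e2fc160901, 0, 12, 0x0, []⟩]

theorem t9_868_26 : jobs 8 S9 b8_868 j9_868_26 = true := by decide +kernel

noncomputable def j9_868_27 : List Job := [
  ⟨0, 0x5008242219108a4623920924a259309a4e27940a25229950aa562b960b25a2d970ba5e2fc160901, 0, 6, 0x0, []⟩]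

theorem t9_868_27 : jobs 8 S9 b8_868 j9_868_27 = true := by decide +kernel

theorem d9_868 : Dn 8 S9 b8_868 := dn_of (Js := j9_868_0 ++ (j9_868_1 ++ (j9_868_2 ++ (j9_868_3 ++ (j9_868_4 ++ (j9_868_5 ++ (j9_868_6 ++ (j9_868_7 ++ (j9_868_8 ++ (j9_868_9 ++ (j9_868_10 ++ (j9_868_11 ++ (j9_868_12 ++ (j9_868_13 ++ (j9_868_14 ++ (j9_868_15 ++ (j9_868_16 ++ (j9_868_17 ++ (j9_868_18 ++ (j9_868_19 ++ (j9_868_20 ++ (j9_868_21 ++ (j9_868_22 ++ (j9_868_23 ++ (j9_868_24 ++ (j9_868_25 ++ (j9_868_26 ++ (j9_868_27 ++ []))))))))))))))))))))))))))))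
  (jobs_append t9_868_0 <| jobs_append t9_868_1 <| jobs_append t9_868_2 <| jobs_append t9_868_3 <| jobs_append t9_868_4 <| jobs_append t9_868_5 <| jobs_append t9_868_6 <| jobs_append t9_868_7 <| jobs_append t9_868_8 <| jobs_append t9_868_9 <| jobs_append t9_868_10 <| jobs_append t9_868_11 <| jobs_append t9_868_12 <| jobs_append t9_868_13 <| jobs_append t9_868_14 <| jobs_append t9_868_15 <| jobs_append t9_868_16 <| jobs_append t9_868_17 <| jobs_append t9_868_18 <| jobs_append t9_868_19 <| jobs_append t9_868_20 <| jobs_append t9_868_21 <| jobs_append t9_868_22 <| jobs_append t9_868_23 <| jobs_append t9_868_24 <| jobs_append t9_868_25 <| jobs_append t9_868_26 <| jobs_append t9_868_27 <| List.forall_mem_nil _) (by decide +kernel)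

noncomputable def j9_869_0 : List Job := [
  ⟨63, 0x4562911884160901, 0, 18, 0x808001001001601001c01002201, []⟩]

theorem t9_869_0 : jobs 8 S9 b8_869 j9_869_0 = true := by decide +kernel

noncomputable def j9_869_1 : List Job := [
  ⟨62, 0x4582f140ac48271008c180f05824080701, 0, 12, 0x401000608000808000a01000e08, []⟩]

theorem t9_869_1 : jobs 8 S9 b8_869 j9_869_1 = true := by decide +kernel

noncomputable def j9_869_2 : List Job := [
  ⟨61, 0x4582f158a4482711884180f05824080701, 0, 18, 0x208000401000e08001408001601001a08001c01, []⟩]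

theorem t9_869_2 : jobs 8 S9 b8_869 j9_869_2 = true := by decide +kernel

noncomputable def j9_869_3 : List Job := [
  ⟨60, 0x4502b1008c160901, 0, 3, 0x401, []⟩]

theorem t9_869_3 : jobs 8 S9 b8_869 j9_869_3 = true := by decide +kernel

noncomputable def j9_869_4 : List Job := [
  ⟨59, 0x4502b1008c160901, 0, 6, 0x401000808000a01, []⟩]

theorem t9_869_4 : jobs 8 S9 b8_869 j9_869_4 = true := by decide +kernel

noncomputable def j9_869_5 : List Job := [
  ⟨53, 0x47639158a4261101, 0, 9, 0x401000a01001001, []⟩]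

theorem t9_869_5 : jobs 8 S9 b8_869 j9_869_5 = true := by decide +kernel

noncomputable def j9_869_6 : List Job := [
  ⟨50, 0x47e3d178b4261101, 0, 2, 0x201000401, []⟩]

theorem t9_869_6 : jobs 8 S9 b8_869 j9_869_6 = true := by decide +kernel

noncomputable def j9_869_7 : List Job := [
  ⟨49, 0x4381f0a05c160901, 0, 8, 0x0, []⟩]

theorem t9_869_7 : jobs 8 S9 b8_869 j9_869_7 = true := by decide +kernel

noncomputable def j9_869_8 : List Job := [
  ⟨48, 0x4180f05824080701, 0, 8, 0x0, []⟩]

theorem t9_869_8 : jobs 8 S9 b8_869 j9_869_8 = true := by decide +kernel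

noncomputable def j9_869_9 : List Job := [
  ⟨47, 0x4180f05824080701, 0, 6, 0x0, []⟩]

theorem t9_869_9 : jobs 8 S9 b8_869 j9_869_9 = true := by decide +kernel

noncomputable def j9_869_10 : List Job := [
  ⟨46, 0x4381f0a05c160901, 0, 4, 0x0, []⟩]

theorem t9_869_10 : jobs 8 S9 b8_869 j9_869_10 = true := by decide +kernel

noncomputable def j9_869_11 : List Job := [
  ⟨45, 0x43e1d0b854160901, 0, 9, 0x208000a01001008001201, []⟩]

theorem t9_869_11 : jobs 8 S9 b8_869 j9_869_11 = true := by decide +kernel

noncomputable def j9_869_12 : List Job := [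
  ⟨44, 0x4381f0d864281709844180f05824080701, 0, 12, 0xe08, []⟩]

theorem t9_869_12 : jobs 8 S9 b8_869 j9_869_12 = true := by decide +kernel

noncomputable def j9_869_13 : List Job := [
  ⟨43, 0x4361909844160901, 0, 14, 0xa00000e00001001001200001601001800001c01, [(11, ⟨3410, 0x29016004a01020460108000400400001, 0x1a13009018040084004⟩), (8, ⟨3411, 0x29016004a01020060008000410400001, 0x1a13009018040084004⟩), (6, ⟨3412, 0x38c04704e8003044410d000400404001, 0x1f2298f014070084804⟩), (4, ⟨3413, 0x29016004a01020060008000410400001, 0x1a13009018040084004⟩)]⟩]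

theorem t9_869_13 : jobs 8 S9 b8_869 j9_869_13 = true := by decide +kernel

noncomputable def j9_869_14 : List Job := [
  ⟨42, 0x4361909844160901, 0, 6, 0x801000a01000c01, []⟩]

theorem t9_869_14 : jobs 8 S9 b8_869 j9_869_14 = true := by decide +kernel

noncomputable def j9_869_15 : List Job := [
  ⟨37, 0x46e35118842e1501, 0, 4, 0x201000401000601000801, []⟩]

theorem t9_869_15 : jobs 8 S9 b8_869 j9_869_15 = true := by decide +kernel

noncomputable def j9_869_16 : List Job := [
  ⟨36, 0x46e35118842e1501, 0, 12, 0x401000a01001001001601, []⟩]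

theorem t9_869_16 : jobs 8 S9 b8_869 j9_869_16 = true := by decide +kernel

noncomputable def j9_869_17 : List Job := [
  ⟨26, 0x4703a1e0fc502a160bc301a0e07c281709844100a0603c080701, 0, 12, 0x210000610000810000c10001210001810, []⟩]

theorem t9_869_17 : jobs 8 S9 b8_869 j9_869_17 = true := by decide +kernel

noncomputable def j9_869_18 : List Job := [
  ⟨25, 0x4703a1e0fc60321a0dc502a160bc40221209c281709844080701, 0, 12, 0x211000401000811000a01001001001211001601001811, []⟩]

theorem t9_869_18 : jobs 8 S9 b8_869 j9_869_18 = true := by decide +kernel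

noncomputable def j9_869_19 : List Job := [
  ⟨24, 0x460321a0dc40221209c301a0e07c281709844100a0603c080701, 0, 12, 0x210000401000610000810000a01000c10001001001601, []⟩]

theorem t9_869_19 : jobs 8 S9 b8_869 j9_869_19 = true := by decide +kernel

noncomputable def j9_869_20 : List Job := [
  ⟨17, 0x46e35180cc4e251008c281709844080701, 0, 16, 0x201000401000601000801000a01000c01000e01001001001201001401001601001801001a01001c01001e01002001, []⟩]

theorem t9_869_20 : jobs 8 S9 b8_869 j9_869_20 = true := by decide +kernel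

noncomputable def j9_869_21 : List Job := [
  ⟨16, 0x4703a1e0fc6837198c4502a160bc482711884301a0e07c281709844100a0603c080701, 0, 32, 0x220000a00000c01001201001401002220002401002601002a00002c01002e01003401003601003c01003e01, [(20, ⟨3417, 0x5180530252001808801080004000408001, 0x1a22589410040900802⟩), (4, ⟨3418, 0x5181530252001808800080004000408001, 0x1a22589410040900802⟩)]⟩]

theorem t9_869_21 : jobs 8 S9 b8_869 j9_869_21 = true := by decide +kernel

noncomputable def j9_869_22 : List Job := [
  ⟨15, 0x4c866341ac180f01, 0, 3, 0x201000402000602, []⟩]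

theorem t9_869_22 : jobs 8 S9 b8_869 j9_869_22 = true := by decide +kernel

noncomputable def j9_869_23 : List Job := [
  ⟨14, 0x4c062361bc180f01, 0, 3, 0x201000402000602, []⟩]

theorem t9_869_23 : jobs 8 S9 b8_869 j9_869_23 = true := by decide +kernel

noncomputable def j9_869_24 : List Job := [
  ⟨13, 0x4e475381dc0e0501, 0, 4, 0x600000800, [(3, ⟨3407, 0xaa09608d801425000300480042001, 0x174580284c030881402⟩), (2, ⟨3406, 0xaa19600d801425010300480042001, 0x174580284c030881402⟩)]⟩]

theorem t9_869_24 : jobs 8 S9 b8_869 j9_869_24 = true := by decide +kernel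

noncomputable def j9_869_25 : List Job := [
  ⟨12, 0x4e0723a1dc0e0501, 0, 4, 0x0, []⟩]

theorem t9_869_25 : jobs 8 S9 b8_869 j9_869_25 = true := by decide +kernel

noncomputable def j9_869_26 : List Job := [
  ⟨11, 0x42e15098440e0501, 0, 8, 0x600000800000a01000c01000e01001001, [(3, ⟨3404, 0x1081b204400050088103040400804001, 0x16a4303840010901804⟩), (2, ⟨3405, 0x1081b204400050088003040400804001, 0x16a4303840010901804⟩)]⟩]

theorem t9_869_26 : jobs 8 S9 b8_869 j9_869_26 = true := by decide +kernel

noncomputable def j9_869_27 : List Job := [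
  ⟨10, 0x4e475381dcc4653019c2e15098440e0501, 0, 17, 0xc04001201001801001e01002201, []⟩]

theorem t9_869_27 : jobs 8 S9 b8_869 j9_869_27 = true := by decide +kernel

noncomputable def j9_869_28 : List Job := [
  ⟨9, 0x42e15098440e0501, 0, 9, 0xa00001000, [(7, ⟨3397, 0x10805a091841803200300084240001, 0x1902689012030b01804⟩), (4, ⟨3396, 0x10805a011801823200308084240001, 0x1902689012030b01804⟩)]⟩]

theorem t9_869_28 : jobs 8 S9 b8_869 j9_869_28 = true := by decide +kernel

noncomputable def j9_869_29 : List Job := [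
  ⟨8, 0x4e0723a1dcc0623219c2e15098440e0501, 0, 6, 0x210, []⟩]

theorem t9_869_29 : jobs 8 S9 b8_869 j9_869_29 = true := by decide +kernel

noncomputable def j9_869_30 : List Job := [
  ⟨7, 0x44022160bc180f01, 0, 4, 0x200000400000600000800, [(3, ⟨3402, 0x4319f11100e0200041030021010, 0x6744082041150200401⟩), (2, ⟨3388, 0xa504612210e1110061030021010, 0x6a52208811140300401⟩), (1, ⟨3401, 0x7f0ad11200c1251070021030010, 0x6595c83842150300801⟩), (0, ⟨3393, 0x5f0ad11700c1251070031030010, 0x7595803a481602c0601⟩)]⟩]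

theorem t9_869_30 : jobs 8 S9 b8_869 j9_869_30 = true := by decide +kernel

noncomputable def j9_869_31 : List Job := [
  ⟨6, 0x44022160bc180f01, 0, 4, 0x200000400000600000800, [(3, ⟨3402, 0x6519b11500e0200041020021010, 0x77446c2048150200801⟩), (2, ⟨3387, 0xa504612210f1110071020031010, 0x6a52248411140300801⟩), (1, ⟨3400, 0x470ae1110081251060021030010, 0x65d4243441100280801⟩), (0, ⟨3393, 0x470af1110081251070021030010, 0x65d4203841100300801⟩)]⟩]

theorem t9_869_31 : jobs 8 S9 b8_869 j9_869_31 = true := by decide +kernel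

noncomputable def j9_869_32 : List Job := [
  ⟨5, 0x4c866341ac88462412c4826140ac180f01, 0, 9, 0x0, []⟩]

theorem t9_869_32 : jobs 8 S9 b8_869 j9_869_32 = true := by decide +kernel

noncomputable def j9_869_33 : List Job := [
  ⟨1, 0x4c062361bc88462412c4022160bc180f01, 0, 12, 0x0, []⟩]

theorem t9_869_33 : jobs 8 S9 b8_869 j9_869_33 = true := by decide +kernel

noncomputable def j9_869_34 : List Job := [
  ⟨0, 0x4c866341acc062361bc4826140ac4022160bc180f05824080701, 0, 16, 0x208000609000808000a08000e09001008, []⟩]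

theorem t9_869_34 : jobs 8 S9 b8_869 j9_869_34 = true := by decide +kernel

theorem d9_869 : Dn 8 S9 b8_869 := dn_of (Js := j9_869_0 ++ (j9_869_1 ++ (j9_869_2 ++ (j9_869_3 ++ (j9_869_4 ++ (j9_869_5 ++ (j9_869_6 ++ (j9_869_7 ++ (j9_869_8 ++ (j9_869_9 ++ (j9_869_10 ++ (j9_869_11 ++ (j9_869_12 ++ (j9_869_13 ++ (j9_869_14 ++ (j9_869_15 ++ (j9_869_16 ++ (j9_869_17 ++ (j9_869_18 ++ (j9_869_19 ++ (j9_869_20 ++ (j9_869_21 ++ (j9_869_22 ++ (j9_869_23 ++ (j9_869_24 ++ (j9_869_25 ++ (j9_869_26 ++ (j9_869_27 ++ (j9_869_28 ++ (j9_869_29 ++ (j9_869_30 ++ (j9_869_31 ++ (j9_869_32 ++ (j9_869_33 ++ (j9_869_34 ++ [])))))))))))))))))))))))))))))))))))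
  (jobs_append t9_869_0 <| jobs_append t9_869_1 <| jobs_append t9_869_2 <| jobs_append t9_869_3 <| jobs_append t9_869_4 <| jobs_append t9_869_5 <| jobs_append t9_869_6 <| jobs_append t9_869_7 <| jobs_append t9_869_8 <| jobs_append t9_869_9 <| jobs_append t9_869_10 <| jobs_append t9_869_11 <| jobs_append t9_869_12 <| jobs_append t9_869_13 <| jobs_append t9_869_14 <| jobs_append t9_869_15 <| jobs_append t9_869_16 <| jobs_append t9_869_17 <| jobs_append t9_869_18 <| jobs_append t9_869_19 <| jobs_append t9_869_20 <| jobs_append t9_869_21 <| jobs_append t9_869_22 <| jobs_append t9_869_23 <| jobs_append t9_869_24 <| jobs_append t9_869_25 <| jobs_append t9_869_26 <| jobs_append t9_869_27 <| jobs_append t9_869_28 <| jobs_append t9_869_29 <| jobs_append t9_869_30 <| jobs_append t9_869_31 <| jobs_append t9_869_32 <| jobs_append t9_869_33 <| jobs_append t9_869_34 <| List.forall_mem_nil _) (by decide +kernel)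

noncomputable def j9_870_0 : List Job := [
  ⟨63, 0x464341c0f460361d0fc180f0402c080701, 0, 14, 0x1803001c02, []⟩]

theorem t9_870_0 : jobs 8 S9 b8_870 j9_870_0 = true := by decide +kernel

noncomputable def j9_870_1 : List Job := [
  ⟨62, 0x424160d07420140c07c180f0402c080701, 0, 6, 0x0, []⟩]

theorem t9_870_1 : jobs 8 S9 b8_870 j9_870_1 = true := by decide +kernel

noncomputable def j9_870_2 : List Job := [
  ⟨61, 0x4c06232198d06a361bca0522a158b05a2e17c20120a058301a0e07c180f0402c0e0501, 0, 14, 0x203001403, []⟩]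

theorem t9_870_2 : jobs 8 S9 b8_870 j9_870_2 = true := by decide +kernel

noncomputable def j9_870_3 : List Job := [
  ⟨60, 0x4a0522a158b05a2e17c502a160bc40221209c20120a058301a0e07c180f0402c080701, 0, 24, 0x2602, []⟩]

theorem t9_870_3 : jobs 8 S9 b8_870 j9_870_3 = true := by decide +kernel

noncomputable def j9_870_4 : List Job := [
  ⟨59, 0x4c466351b4c064341bca0522a158b05a2e17c88462613c80422412c60321a0d8703a1e0fc502a160bc40221209c180f0402c080701, 0, 14, 0x200001a00, [(12, ⟨3446, 0x2e405b00981080048005040800004040, 0x2bc2c09a14100240801⟩), (0, ⟨3442, 0x2e415b00981080048005040800104040, 0x3bc2c09a14100280801⟩)]⟩]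

theorem t9_870_4 : jobs 8 S9 b8_870 j9_870_4 = true := by decide +kernel

noncomputable def j9_870_5 : List Job := [
  ⟨58, 0x4a0522a158b05a2e17c60321a0d8703a1e0fc502a160bc40221209c180f05824080701, 0, 24, 0x603001202002602, []⟩]

theorem t9_870_5 : jobs 8 S9 b8_870 j9_870_5 = true := by decide +kernel

noncomputable def j9_870_6 : List Job := [
  ⟨57, 0x4e8763c1ece0723e1fc502a160bc40221209c20120a058301a0e07c180f05824080701, 0, 14, 0x603001402, []⟩]

theorem t9_870_6 : jobs 8 S9 b8_870 j9_870_6 = true := by decide +kernel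

noncomputable def j9_870_7 : List Job := [
  ⟨56, 0x4c06232198d06a361bca0522a158b05a2e17c64361c0fc60341d0f4502a160bc40221209c20120a058301a0e07c180f0402c080701, 0, 18, 0xe00001c00002400, [(17, ⟨3446, 0x21c06304801090454104000c00104001, 0x186318801a110200c02⟩), (13, ⟨3447, 0x21c06300801090454104000c00104001, 0x186318801a110200c02⟩), (6, ⟨3440, 0x3a007700e410b0454007000c00100041, 0x3d2bb4f01e120300c02⟩)]⟩]

theorem t9_870_7 : jobs 8 S9 b8_870 j9_870_7 = true := by decide +kernel

noncomputable def j9_870_8 : List Job := [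
  ⟨55, 0x4a0522a158b05a2e17c88462613c80422412c502a160bc40221209c180f0402c080701, 0, 28, 0x2a02003201003401003601003801, []⟩]

theorem t9_870_8 : jobs 8 S9 b8_870 j9_870_8 = true := by decide +kernel

noncomputable def j9_870_9 : List Job := [
  ⟨54, 0x4e8763c1ece0723e1fc88462613c80422412c64361c0fc60341d0f4502a160bc40221209c20120a058301a0e07c180f0402c080701, 0, 22, 0x400000800000e00002600002c01, [(18, ⟨3445, 0x700144007c003c00880070006000400001, 0x1f1230e012140300c02⟩), (6, ⟨3439, 0x4380620040042400a00040006000400081, 0x3863148018110200c02⟩), (3, ⟨3443, 0x4300e30040002409f8004000c000008081, 0x2826008075108201801⟩), (1, ⟨3441, 0x4300e30240002409f8104000c000400081, 0x3826008075108201802⟩)]⟩]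

theorem t9_870_9 : jobs 8 S9 b8_870 j9_870_9 = true := by decide +kernel

noncomputable def j9_870_10 : List Job := [
  ⟨53, 0x4c06232198d06a361bca0522a158b05a2e17c502a160bc40221209c180f0402c080701, 0, 14, 0x0, []⟩]

theorem t9_870_10 : jobs 8 S9 b8_870 j9_870_10 = true := by decide +kernel

noncomputable def j9_870_11 : List Job := [
  ⟨52, 0x4e8763c1ece0723e1fc88462613c80422412c502a160bc40221209c180f0402c080701, 0, 8, 0xe00001001, [(6, ⟨3444, 0x4a01fe0012000a013a000300060101010001, 0x1e9488f44a150381402⟩)]⟩]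

theorem t9_870_11 : jobs 8 S9 b8_870 j9_870_11 = true := by decide +kernel

noncomputable def j9_870_12 : List Job := [
  ⟨51, 0x4a0522a158b05a2e17c88462613c80422412c60321a0d8703a1e0fc502a160bc40221209c24160d07420140c07c180f0402c080701, 0, 14, 0x200000600, [(2, ⟨3440, 0x3b005d00e0108044c007040800004040, 0x2feae4ea15100340801⟩), (0, ⟨3439, 0x25c045008c1090444004000800004040, 0x28e2248a11108200801⟩)]⟩]

theorem t9_870_12 : jobs 8 S9 b8_870 j9_870_12 = true := by decide +kernel

noncomputable def j9_870_13 : List Job := [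
  ⟨50, 0x4542d140bc442710094180f0402c0e0501, 0, 14, 0x202000603000a02000e03001203001802001c02, []⟩]

theorem t9_870_13 : jobs 8 S9 b8_870 j9_870_13 = true := by decide +kernel

noncomputable def j9_870_14 : List Job := [
  ⟨49, 0x4e8763c1ece0723e1fcc06232198d06a361bca0522a158b05a2e17c88462613c80422412c542d140bc442710094180f0402c0e0501, 0, 24, 0x200000a00001e01002a01002c01, [(4, ⟨3443, 0x4380620242002408a00050004000408001, 0x186318841a110280802⟩), (0, ⟨3442, 0x2b80a9022004300128003020a000008080, 0x258d342840128141201⟩)]⟩]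

theorem t9_870_14 : jobs 8 S9 b8_870 j9_870_14 = true := by decide +kernel

noncomputable def j9_870_15 : List Job := [
  ⟨48, 0x4c06232198d06a361bc88462613c80422412c60321a0d8703a1e0fc542d140bc44271009420120a058301a0e07c180f0402c0e0501, 0, 40, 0x200000a00001200001600002202002603002a03002e02003201003401003801003c01004001004201004a01, [(10, ⟨3440, 0x4380620042042400a01040006000400001, 0x1863108418110200c02⟩), (8, ⟨3439, 0x4380620242042400a00040006000400001, 0x1863108418110200c02⟩), (4, ⟨3442, 0x4380620042002408a00040006000400001, 0x1863108418110200c02⟩), (0, ⟨3441, 0x4380620042002408a01040006000400001, 0x1863108418110200c02⟩)]⟩]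

theorem t9_870_15 : jobs 8 S9 b8_870 j9_870_15 = true := by decide +kernel

noncomputable def j9_870_16 : List Job := [
  ⟨45, 0x41e0d058240e0501, 0, 1, 0x201, []⟩]

theorem t9_870_16 : jobs 8 S9 b8_870 j9_870_16 = true := by decide +kernel

noncomputable def j9_870_17 : List Job := [
  ⟨40, 0x4442d100bc1e0d01, 0, 8, 0x0, []⟩]

theorem t9_870_17 : jobs 8 S9 b8_870 j9_870_17 = true := by decide +kernel

noncomputable def j9_870_18 : List Job := [
  ⟨38, 0x4442d100bc1e0d01, 0, 2, 0x201000401, []⟩]

theorem t9_870_18 : jobs 8 S9 b8_870 j9_870_18 = true := by decide +kernel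

noncomputable def j9_870_19 : List Job := [
  ⟨35, 0x4c06232198d06a361bc4826140ac4022160bc180f05824080701, 0, 8, 0x201000a08, []⟩]

theorem t9_870_19 : jobs 8 S9 b8_870 j9_870_19 = true := by decide +kernel

noncomputable def j9_870_20 : List Job := [
  ⟨34, 0x4904a2613c80422211c4826140ac4022160bc180f05824080701, 0, 8, 0x20a00080a000e01001001, []⟩]

theorem t9_870_20 : jobs 8 S9 b8_870 j9_870_20 = true := by decide +kernel

noncomputable def j9_870_21 : List Job := [
  ⟨33, 0x4c0623219c984f2412c502a160bc080701, 0, 8, 0x803001003, []⟩]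

theorem t9_870_21 : jobs 8 S9 b8_870 j9_870_21 = true := by decide +kernel

noncomputable def j9_870_22 : List Job := [
  ⟨32, 0x4d06a361bcc0623219c180f05824080701, 0, 8, 0x0, []⟩]

theorem t9_870_22 : jobs 8 S9 b8_870 j9_870_22 = true := by decide +kernel

noncomputable def j9_870_23 : List Job := [
  ⟨31, 0x4d06a361bc8e452010c502a160bc080701, 0, 8, 0x403000c47, []⟩]

theorem t9_870_23 : jobs 8 S9 b8_870 j9_870_23 = true := by decide +kernel

noncomputable def j9_870_24 : List Job := [
  ⟨30, 0x4984f25924884721904180f05824080701, 0, 24, 0x201000401000601000801000a01000c01000e01001001001201001401001600001800001a00001c00001e01002001, [(13, ⟨3438, 0x2a4070048010c0444104041c00104001, 0x1b13408012140201c02⟩), (12, ⟨3436, 0x2a4170048010c0444004041c00100001, 0x1b13408012140201c02⟩), (11, ⟨3437, 0x2a4070008010c0044104041c00104001, 0x1b13408012140201c02⟩), (10, ⟨3435, 0x2a4170008010c0044004041c00100001, 0x1b13408012140201c02⟩)]⟩]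

theorem t9_870_24 : jobs 8 S9 b8_870 j9_870_24 = true := by decide +kernel

noncomputable def j9_870_25 : List Job := [
  ⟨29, 0x4c46730194984f2412c502a160bc0e0501, 0, 4, 0x202, []⟩]

theorem t9_870_25 : jobs 8 S9 b8_870 j9_870_25 = true := by decide +kernel

noncomputable def j9_870_26 : List Job := [
  ⟨28, 0x4d06a361bc8e4521904502a160bc0e0501, 0, 4, 0x240, []⟩]

theorem t9_870_26 : jobs 8 S9 b8_870 j9_870_26 = true := by decide +kernel

noncomputable def j9_870_27 : List Job := [
  ⟨27, 0x4c0623219c984f2412c502a160bc0e0501, 0, 4, 0x202, []⟩]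

theorem t9_870_27 : jobs 8 S9 b8_870 j9_870_27 = true := by decide +kernel

noncomputable def j9_870_28 : List Job := [
  ⟨26, 0x4d46d341bc88472010c502a160bc0e0501, 0, 4, 0x202, []⟩]

theorem t9_870_28 : jobs 8 S9 b8_870 j9_870_28 = true := by decide +kernel

noncomputable def j9_870_29 : List Job := [
  ⟨25, 0x4d06a361bc984f2412c40221209c080701, 0, 8, 0x201000603000e03, []⟩]

theorem t9_870_29 : jobs 8 S9 b8_870 j9_870_29 = true := by decide +kernel

noncomputable def j9_870_30 : List Job := [
  ⟨24, 0x4502a160bc40221209c180f05824080701, 0, 8, 0x201000e01, []⟩]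

theorem t9_870_30 : jobs 8 S9 b8_870 j9_870_30 = true := by decide +kernel

noncomputable def j9_870_31 : List Job := [
  ⟨23, 0x4c0623219c8e452010c40221209c080701, 0, 8, 0x203000a03000e01, []⟩]

theorem t9_870_31 : jobs 8 S9 b8_870 j9_870_31 = true := by decide +kernel

noncomputable def j9_870_32 : List Job := [
  ⟨22, 0x4d06a361bcc0623219c984f25924884721904502a160bc40221209c180f05824080701, 0, 56, 0x200000601000a00000e01001201001401002201002401002601002801002a01002e01003001003200003601003801003a00003e01004001004200004a00004c01005201005401005601005a01005e01006201006401006601006a01006c01, [(36, ⟨3434, 0x540170004004300080104000e000400001, 0x1b03408010140201c02⟩), (32, ⟨3433, 0x540170004000300880004000e000400001, 0x1b03408010140201c02⟩), (28, ⟨3430, 0x540070004004300880104000e000400001, 0x1b03408010140201c02⟩), (24, ⟨3429, 0x540070004000300080004000e000400001, 0x1b03408010140201c02⟩), (4, ⟨3432, 0x540170004004300080104000e000400001, 0x1b03408010140201c02⟩), (0, ⟨3431, 0x540170004000300880004000e000400001,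 0x1b03408010140201c02⟩)]⟩]

theorem t9_870_32 : jobs 8 S9 b8_870 j9_870_32 = true := by decide +kernel

noncomputable def j9_870_33 : List Job := [
  ⟨21, 0x4d06a361bc984f2412c4427100940e0501, 0, 4, 0x202000601, []⟩]

theorem t9_870_33 : jobs 8 S9 b8_870 j9_870_33 = true := by decide +kernel

noncomputable def j9_870_34 : List Job := [
  ⟨20, 0x4c467301948e45219044427100940e0501, 0, 16, 0x202, []⟩]

theorem t9_870_34 : jobs 8 S9 b8_870 j9_870_34 = true := by decide +kernel

noncomputable def j9_870_35 : List Job := [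
  ⟨19, 0x4d46d341bc984f2412c4427100940e0501, 0, 4, 0x202, []⟩]

theorem t9_870_35 : jobs 8 S9 b8_870 j9_870_35 = true := by decide +kernel

noncomputable def j9_870_36 : List Job := [
  ⟨18, 0x4c0623219c88472010c4427100940e0501, 0, 4, 0x202000601, []⟩]

theorem t9_870_36 : jobs 8 S9 b8_870 j9_870_36 = true := by decide +kernel

noncomputable def j9_870_37 : List Job := [
  ⟨17, 0x4703a1e0fc0e0501, 0, 4, 0x0, []⟩]

theorem t9_870_37 : jobs 8 S9 b8_870 j9_870_37 = true := by decide +kernel

noncomputable def j9_870_38 : List Job := [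
  ⟨16, 0x4381f0c06c0e0501, 0, 4, 0x0, []⟩]

theorem t9_870_38 : jobs 8 S9 b8_870 j9_870_38 = true := by decide +kernel

noncomputable def j9_870_39 : List Job := [
  ⟨15, 0x4381f0c06c0e0501, 0, 4, 0x600000801, [(2, ⟨3428, 0x19815901a841822610b08084082001, 0x1d1268ec16070880404⟩)]⟩]

theorem t9_870_39 : jobs 8 S9 b8_870 j9_870_39 = true := by decide +kernel

noncomputable def j9_870_40 : List Job := [
  ⟨14, 0x4743f1c0f40e0501, 0, 8, 0x0, []⟩]

theorem t9_870_40 : jobs 8 S9 b8_870 j9_870_40 = true := by decide +kernel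

noncomputable def j9_870_41 : List Job := [
  ⟨13, 0x44427100940e0501, 0, 12, 0x405, []⟩]

theorem t9_870_41 : jobs 8 S9 b8_870 j9_870_41 = true := by decide +kernel

noncomputable def j9_870_42 : List Job := [
  ⟨12, 0x4703a1e0fc44251009c381f0c06c0e0501, 0, 8, 0xa04, []⟩]

theorem t9_870_42 : jobs 8 S9 b8_870 j9_870_42 = true := by decide +kernel

noncomputable def j9_870_43 : List Job := [
  ⟨11, 0x4743d1c0fc442710094381f0c06c0e0501, 0, 12, 0x204000a04000c05001204, []⟩]

theorem t9_870_43 : jobs 8 S9 b8_870 j9_870_43 = true := by decide +kernel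

noncomputable def j9_870_44 : List Job := [
  ⟨10, 0x444251009c0e0501, 0, 4, 0x601000801, []⟩]

theorem t9_870_44 : jobs 8 S9 b8_870 j9_870_44 = true := by decide +kernel

noncomputable def j9_870_45 : List Job := [
  ⟨9, 0x4582f11884180f01, 0, 8, 0xa02000c03, []⟩]

theorem t9_870_45 : jobs 8 S9 b8_870 j9_870_45 = true := by decide +kernel

noncomputable def j9_870_46 : List Job := [
  ⟨8, 0x448271008c080701, 0, 8, 0x403000c01, []⟩]

theorem t9_870_46 : jobs 8 S9 b8_870 j9_870_46 = true := by decide +kernel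

noncomputable def j9_870_47 : List Job := [
  ⟨7, 0x4482711884080701, 0, 4, 0x0, []⟩]

theorem t9_870_47 : jobs 8 S9 b8_870 j9_870_47 = true := by decide +kernel

noncomputable def j9_870_48 : List Job := [
  ⟨6, 0x45e2d1008c180f01, 0, 4, 0x202, []⟩]

theorem t9_870_48 : jobs 8 S9 b8_870 j9_870_48 = true := by decide +kernel

noncomputable def j9_870_49 : List Job := [
  ⟨5, 0x4582f1008c1e0d01, 0, 8, 0x202000a01000c03, []⟩]

theorem t9_870_49 : jobs 8 S9 b8_870 j9_870_49 = true := by decide +kernel

noncomputable def j9_870_50 : List Job := [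
  ⟨4, 0x4582f1209c160901, 0, 6, 0x802, []⟩]

theorem t9_870_50 : jobs 8 S9 b8_870 j9_870_50 = true := by decide +kernel

noncomputable def j9_870_51 : List Job := [
  ⟨3, 0x4180f05824080701, 0, 6, 0x0, []⟩]

theorem t9_870_51 : jobs 8 S9 b8_870 j9_870_51 = true := by decide +kernel

noncomputable def j9_870_52 : List Job := [
  ⟨2, 0x4180f05824080701, 0, 4, 0x0, []⟩]

theorem t9_870_52 : jobs 8 S9 b8_870 j9_870_52 = true := by decide +kernel

noncomputable def j9_870_53 : List Job := [
  ⟨1, 0x45e2d13894160901, 0, 12, 0x400000a00001000001803, [(7, ⟨3427, 0x32815a04d80020050108040410400001, 0x1c12e0e012040084004⟩), (4, ⟨3426, 0x32815a00d80020050008040410400001, 0x1c12e0e012040084004⟩), (1, ⟨3425, 0x2a415104b0003004410c040410404001, 0x1a62509414050084804⟩)]⟩]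

theorem t9_870_53 : jobs 8 S9 b8_870 j9_870_53 = true := by decide +kernel

noncomputable def j9_870_54 : List Job := [
  ⟨0, 0x4582f1209c160901, 0, 6, 0xc03, []⟩]

theorem t9_870_54 : jobs 8 S9 b8_870 j9_870_54 = true := by decide +kernel

theorem d9_870 : Dn 8 S9 b8_870 := dn_of (Js := j9_870_0 ++ (j9_870_1 ++ (j9_870_2 ++ (j9_870_3 ++ (j9_870_4 ++ (j9_870_5 ++ (j9_870_6 ++ (j9_870_7 ++ (j9_870_8 ++ (j9_870_9 ++ (j9_870_10 ++ (j9_870_11 ++ (j9_870_12 ++ (j9_870_13 ++ (j9_870_14 ++ (j9_870_15 ++ (j9_870_16 ++ (j9_870_17 ++ (j9_870_18 ++ (j9_870_19 ++ (j9_870_20 ++ (j9_870_21 ++ (j9_870_22 ++ (j9_870_23 ++ (j9_870_24 ++ (j9_870_25 ++ (j9_870_26 ++ (j9_870_27 ++ (j9_870_28 ++ (j9_870_29 ++ (j9_870_30 ++ (j9_870_31 ++ (j9_870_32 ++ (j9_870_33 ++ (j9_870_34 ++ (j9_870_35 ++ (j9_870_36 ++ (j9_870_37 ++ (j9_870_38 ++ (j9_870_39 ++ (j9_870_40 ++ (j9_870_41 ++ (j9_870_42 ++ (j9_870_43 ++ (j9_870_44 ++ (j9_870_45 ++ (j9_870_46 ++ (j9_870_47 ++ (j9_870_48 ++ (j9_870_49 ++ (j9_870_50 ++ (j9_870_51 ++ (j9_870_52 ++ (j9_870_53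 ++ (j9_870_54 ++ [])))))))))))))))))))))))))))))))))))))))))))))))))))))))
  (jobs_append t9_870_0 <| jobs_append t9_870_1 <| jobs_append t9_870_2 <| jobs_append t9_870_3 <| jobs_append t9_870_4 <| jobs_append t9_870_5 <| jobs_append t9_870_6 <| jobs_append t9_870_7 <| jobs_append t9_870_8 <| jobs_append t9_870_9 <| jobs_append t9_870_10 <| jobs_append t9_870_11 <| jobs_append t9_870_12 <| jobs_append t9_870_13 <| jobs_append t9_870_14 <| jobs_append t9_870_15 <| jobs_append t9_870_16 <| jobs_append t9_870_17 <| jobs_append t9_870_18 <| jobs_append t9_870_19 <| jobs_append t9_870_20 <| jobs_append t9_870_21 <| jobs_append t9_870_22 <| jobs_append t9_870_23 <| jobs_append t9_870_24 <| jobs_append t9_870_25 <| jobs_append t9_870_26 <| jobs_append t9_870_27 <| jobs_append t9_870_28 <| jobs_append t9_870_29 <| jobs_append t9_870_30 <| jobs_append t9_870_31 <| jobs_append t9_870_32 <| jobs_append t9_870_33 <| jobs_append t9_870_34 <| jobs_append t9_870_35 <| jobs_append t9_870_36 <| jobs_append t9_870_37 <| jobs_append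 t9_870_38 <| jobs_append t9_870_39 <| jobs_append t9_870_40 <| jobs_append t9_870_41 <| jobs_append t9_870_42 <| jobs_append t9_870_43 <| jobs_append t9_870_44 <| jobs_append t9_870_45 <| jobs_append t9_870_46 <| jobs_append t9_870_47 <| jobs_append t9_870_48 <| jobs_append t9_870_49 <| jobs_append t9_870_50 <| jobs_append t9_870_51 <| jobs_append t9_870_52 <| jobs_append t9_870_53 <| jobs_append t9_870_54 <| List.forall_mem_nil _) (by decide +kernel)

noncomputable def j9_871_0 : List Job := [
  ⟨60, 0x4643b180e4160901, 0, 6, 0x0, []⟩]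

theorem t9_871_0 : jobs 8 S9 b8_871 j9_871_0 = true := by decide +kernel

noncomputable def j9_871_1 : List Job := [
  ⟨59, 0x46439180ec160901, 0, 2, 0x201000401, []⟩]

theorem t9_871_1 : jobs 8 S9 b8_871 j9_871_1 = true := by decide +kernel

noncomputable def j9_871_2 : List Job := [
  ⟨57, 0x41e0d058240e0501, 0, 8, 0x801000a01000c01000e01001001, []⟩]

theorem t9_871_2 : jobs 8 S9 b8_871 j9_871_2 = true := by decide +kernel

noncomputable def j9_871_3 : List Job := [
  ⟨56, 0x4582f140ac080701, 0, 4, 0x0, []⟩]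

theorem t9_871_3 : jobs 8 S9 b8_871 j9_871_3 = true := by decide +kernel

noncomputable def j9_871_4 : List Job := [
  ⟨55, 0x4582f140ac080701, 0, 4, 0x0, []⟩]

theorem t9_871_4 : jobs 8 S9 b8_871 j9_871_4 = true := by decide +kernel

noncomputable def j9_871_5 : List Job := [
  ⟨54, 0x4582f1209c160901, 0, 8, 0x0, []⟩]

theorem t9_871_5 : jobs 8 S9 b8_871 j9_871_5 = true := by decide +kernel

noncomputable def j9_871_6 : List Job := [
  ⟨53, 0x4582f1209c160901, 0, 8, 0x0, []⟩]

theorem t9_871_6 : jobs 8 S9 b8_871 j9_871_6 = true := by decide +kernel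

noncomputable def j9_871_7 : List Job := [
  ⟨52, 0x4502b1209c1e0d01, 0, 8, 0x0, []⟩]

theorem t9_871_7 : jobs 8 S9 b8_871 j9_871_7 = true := by decide +kernel

noncomputable def j9_871_8 : List Job := [
  ⟨51, 0x4582f1209c160901, 0, 8, 0x0, []⟩]

theorem t9_871_8 : jobs 8 S9 b8_871 j9_871_8 = true := by decide +kernel

noncomputable def j9_871_9 : List Job := [
  ⟨50, 0x4582f140ac080701, 0, 8, 0x0, []⟩]

theorem t9_871_9 : jobs 8 S9 b8_871 j9_871_9 = true := by decide +kernel

noncomputable def j9_871_10 : List Job := [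
  ⟨49, 0x44e251008c080701, 0, 8, 0x0, []⟩]

theorem t9_871_10 : jobs 8 S9 b8_871 j9_871_10 = true := by decide +kernel

noncomputable def j9_871_11 : List Job := [
  ⟨48, 0x4582f1008c1e0d01, 0, 8, 0x0, []⟩]

theorem t9_871_11 : jobs 8 S9 b8_871 j9_871_11 = true := by decide +kernel

noncomputable def j9_871_12 : List Job := [
  ⟨47, 0x4502b1008c160901, 0, 8, 0x0, []⟩]

theorem t9_871_12 : jobs 8 S9 b8_871 j9_871_12 = true := by decide +kernel

noncomputable def j9_871_13 : List Job := [
  ⟨46, 0x4562911884160901, 0, 8, 0x0, []⟩]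

theorem t9_871_13 : jobs 8 S9 b8_871 j9_871_13 = true := by decide +kernel

noncomputable def j9_871_14 : List Job := [
  ⟨45, 0x4562911884160901, 0, 24, 0x1201001401001601001801001a01001c01001e01002001, []⟩]

theorem t9_871_14 : jobs 8 S9 b8_871 j9_871_14 = true := by decide +kernel

noncomputable def j9_871_15 : List Job := [
  ⟨44, 0x4482711884080701, 0, 6, 0x0, []⟩]

theorem t9_871_15 : jobs 8 S9 b8_871 j9_871_15 = true := by decide +kernel

noncomputable def j9_871_16 : List Job := [
  ⟨43, 0x4482711884080701, 0, 6, 0x0, []⟩]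

theorem t9_871_16 : jobs 8 S9 b8_871 j9_871_16 = true := by decide +kernel

noncomputable def j9_871_17 : List Job := [
  ⟨41, 0x4d06a361bcc0623219ca8562c16ca0522e17c180f05824080701, 0, 8, 0x408000609000a08000c09, []⟩]

theorem t9_871_17 : jobs 8 S9 b8_871 j9_871_17 = true := by decide +kernel

noncomputable def j9_871_18 : List Job := [
  ⟨40, 0x4d06a361bcc0623219c60321a0d8703a1e0fc180f05824080701, 0, 8, 0x208000809000a08001009, []⟩]

theorem t9_871_18 : jobs 8 S9 b8_871 j9_871_18 = true := by decide +kernel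

noncomputable def j9_871_19 : List Job := [
  ⟨39, 0x4180f05824080701, 0, 4, 0x0, []⟩]

theorem t9_871_19 : jobs 8 S9 b8_871 j9_871_19 = true := by decide +kernel

noncomputable def j9_871_20 : List Job := [
  ⟨38, 0x4a0522a158b05a2e17c20120a058301a0e07c180f05824080701, 0, 8, 0x208000409, []⟩]

theorem t9_871_20 : jobs 8 S9 b8_871 j9_871_20 = true := by decide +kernel

noncomputable def j9_871_21 : List Job := [
  ⟨37, 0x4a0522a158b05a2e17c904a2613c80422211c180f05824080701, 0, 8, 0x209000408000a09000c08, []⟩]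

theorem t9_871_21 : jobs 8 S9 b8_871 j9_871_21 = true := by decide +kernel

noncomputable def j9_871_22 : List Job := [
  ⟨36, 0x4904a2613c80422211c20120a058301a0e07c180f05824080701, 0, 8, 0x208000409000a08000c09, []⟩]

theorem t9_871_22 : jobs 8 S9 b8_871 j9_871_22 = true := by decide +kernel

noncomputable def j9_871_23 : List Job := [
  ⟨35, 0x4180f05824080701, 0, 4, 0x0, []⟩]

theorem t9_871_23 : jobs 8 S9 b8_871 j9_871_23 = true := by decide +kernel

noncomputable def j9_871_24 : List Job := [
  ⟨34, 0x4c06232198d06a361bca0522a158b05a2e17c180f05824080701, 0, 6, 0x609000c09, []⟩]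

theorem t9_871_24 : jobs 8 S9 b8_871 j9_871_24 = true := by decide +kernel

noncomputable def j9_871_25 : List Job := [
  ⟨33, 0x4c06232198d06a361bc68361c0ec60321e0fc180f05824080701, 0, 8, 0x208000608000a08000e08, []⟩]

theorem t9_871_25 : jobs 8 S9 b8_871 j9_871_25 = true := by decide +kernel

noncomputable def j9_871_26 : List Job := [
  ⟨32, 0x4c464341bcc066351b4a4562c174a0542d17c68361c0ec60321e0fc1e0d058240e0501, 0, 8, 0xc08, []⟩]

theorem t9_871_26 : jobs 8 S9 b8_871 j9_871_26 = true := by decide +kernel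

noncomputable def j9_871_27 : List Job := [
  ⟨28, 0x4e0723a1d8f07a3e1fcc06232198d06a361bca0522a158b05a2e17c804222118904a2613c5e2d140ac080701, 0, 6, 0x200000401000800000a01, [(3, ⟨3454, 0x25c05a008010d0048105040c10104001, 0x18c2f88016150280c02⟩), (0, ⟨3455, 0x35804204e40080440106040800100001, 0x1c6210e810100300802⟩)]⟩]

theorem t9_871_27 : jobs 8 S9 b8_871 j9_871_27 = true := by decide +kernel

noncomputable def j9_871_28 : List Job := [
  ⟨26, 0x4e0723a1d8f07a3e1fcc06232198d06a361bca0522a158b05a2e17c804222118904a2613c582f158a4080701, 0, 12, 0x22800040100082b000a01000e2b001001001428001601, []⟩]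

theorem t9_871_28 : jobs 8 S9 b8_871 j9_871_28 = true := by decide +kernel

noncomputable def j9_871_29 : List Job := [
  ⟨10, 0x4c06232198d06a361bc804222118904a2613c482711884080701, 0, 4, 0x221000401000801, []⟩]

theorem t9_871_29 : jobs 8 S9 b8_871 j9_871_29 = true := by decide +kernel

noncomputable def j9_871_30 : List Job := [
  ⟨8, 0x4c06232198d06a361bc804222118904a2613c48271008c080701, 0, 4, 0x201000400000601, [(1, ⟨3453, 0x220049049010d0044007000810104001, 0x1962b89812170380802⟩)]⟩]

theorem t9_871_30 : jobs 8 S9 b8_871 j9_871_30 = true := by decide +kernel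

noncomputable def j9_871_31 : List Job := [
  ⟨6, 0x4c06232198d06a361bc804222118904a2613c60321a0d8703a1e0fc48271008c20120a058301a0e07c080701, 0, 8, 0x201000400000a01000c00, [(5, ⟨3452, 0x2cc05f048000a0044107000810100001, 0x1aa2f88012120380802⟩), (1, ⟨3451, 0x2e0042049810f0044105000800100001, 0x1ba2109812170280802⟩)]⟩]

theorem t9_871_31 : jobs 8 S9 b8_871 j9_871_31 = true := by decide +kernel

noncomputable def j9_871_32 : List Job := [
  ⟨4, 0x4c06232198d06a361bc804222118904a2613c60321a0d8703a1e0fc48271188420120a058301a0e07c080701, 0, 8, 0x221000401000a23000c01, []⟩]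

theorem t9_871_32 : jobs 8 S9 b8_871 j9_871_32 = true := by decide +kernel

noncomputable def j9_871_33 : List Job := [
  ⟨1, 0x44c2f120b44429100ac180f05824080701, 0, 6, 0x201000401000601000801000a01000c01, []⟩]

theorem t9_871_33 : jobs 8 S9 b8_871 j9_871_33 = true := by decide +kernel

noncomputable def j9_871_34 : List Job := [
  ⟨0, 0x460321a0d8703a1e0fc4c2d120bc442b100a420120a058301a0e07c180f05824080701, 0, 14, 0x200000401000601000800000c00000e01001001001201001401001801001c01, [(5, ⟨3450, 0x2d015b048000d0450003041000100001, 0x1aa2e88014130101402⟩), (3, ⟨3449, 0x2d015b048010d0450003041000100001, 0x1aa2e88014130101402⟩), (0, ⟨3448, 0x2d015b048000d0450103041000100001, 0x1aa2e88014130101402⟩)]⟩]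

theorem t9_871_34 : jobs 8 S9 b8_871 j9_871_34 = true := by decide +kernel

theorem d9_871 : Dn 8 S9 b8_871 := dn_of (Js := j9_871_0 ++ (j9_871_1 ++ (j9_871_2 ++ (j9_871_3 ++ (j9_871_4 ++ (j9_871_5 ++ (j9_871_6 ++ (j9_871_7 ++ (j9_871_8 ++ (j9_871_9 ++ (j9_871_10 ++ (j9_871_11 ++ (j9_871_12 ++ (j9_871_13 ++ (j9_871_14 ++ (j9_871_15 ++ (j9_871_16 ++ (j9_871_17 ++ (j9_871_18 ++ (j9_871_19 ++ (j9_871_20 ++ (j9_871_21 ++ (j9_871_22 ++ (j9_871_23 ++ (j9_871_24 ++ (j9_871_25 ++ (j9_871_26 ++ (j9_871_27 ++ (j9_871_28 ++ (j9_871_29 ++ (j9_871_30 ++ (j9_871_31 ++ (j9_871_32 ++ (j9_871_33 ++ (j9_871_34 ++ [])))))))))))))))))))))))))))))))))))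
  (jobs_append t9_871_0 <| jobs_append t9_871_1 <| jobs_append t9_871_2 <| jobs_append t9_871_3 <| jobs_append t9_871_4 <| jobs_append t9_871_5 <| jobs_append t9_871_6 <| jobs_append t9_871_7 <| jobs_append t9_871_8 <| jobs_append t9_871_9 <| jobs_append t9_871_10 <| jobs_append t9_871_11 <| jobs_append t9_871_12 <| jobs_append t9_871_13 <| jobs_append t9_871_14 <| jobs_append t9_871_15 <| jobs_append t9_871_16 <| jobs_append t9_871_17 <| jobs_append t9_871_18 <| jobs_append t9_871_19 <| jobs_append t9_871_20 <| jobs_append t9_871_21 <| jobs_append t9_871_22 <| jobs_append t9_871_23 <| jobs_append t9_871_24 <| jobs_append t9_871_25 <| jobs_append t9_871_26 <| jobs_append t9_871_27 <| jobs_append t9_871_28 <| jobs_append t9_871_29 <| jobs_append t9_871_30 <| jobs_append t9_871_31 <| jobs_append t9_871_32 <| jobs_append t9_871_33 <| jobs_append t9_871_34 <| List.forall_mem_nil _) (by decide +kernel)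

noncomputable def j9_872_0 : List Job := [
  ⟨63, 0x45e2d140ac4e251008c180f05824080701, 0, 11, 0x20800082c000e01001401001601, []⟩]

theorem t9_872_0 : jobs 8 S9 b8_872 j9_872_0 = true := by decide +kernel

noncomputable def j9_872_1 : List Job := [
  ⟨62, 0x4582f1209c100b01, 0, 3, 0x403000603, []⟩]

theorem t9_872_1 : jobs 8 S9 b8_872 j9_872_1 = true := by decide +kernel

noncomputable def j9_872_2 : List Job := [
  ⟨61, 0x4582f1209c100b01, 0, 3, 0x403000603, []⟩]

theorem t9_872_2 : jobs 8 S9 b8_872 j9_872_2 = true := by decide +kernel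

noncomputable def j9_872_3 : List Job := [
  ⟨59, 0x5008242219108a4623920924a259309a4e27c160901, 0, 4, 0x0, []⟩]

theorem t9_872_3 : jobs 8 S9 b8_872 j9_872_3 = true := by decide +kernel

noncomputable def j9_872_4 : List Job := [
  ⟨57, 0x5008242219108a4623920924a259309a4e27c160901, 0, 2, 0x0, []⟩]

theorem t9_872_4 : jobs 8 S9 b8_872 j9_872_4 = true := by decide +kernel

noncomputable def j9_872_5 : List Job := [
  ⟨50, 0x540a25229950aa562b960b25a2d970ba5e2fd008242219108a4623920924a259309a4e27c5e2d01, 0, 3, 0x201000400, [(1, ⟨3462, 0x12a049090842020811008104040001, 0x18c2d08408100400802⟩)]⟩]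

theorem t9_872_5 : jobs 8 S9 b8_872 j9_872_5 = true := by decide +kernel

noncomputable def j9_872_6 : List Job := [
  ⟨48, 0x540a25229950aa562b960b25a2d970ba5e2fd008242219108a4623920924a259309a4e27c5e2d01, 0, 6, 0x22e00040100082f000a01, []⟩]

theorem t9_872_6 : jobs 8 S9 b8_872 j9_872_6 = true := by decide +kernel

noncomputable def j9_872_7 : List Job := [
  ⟨44, 0x520924a259309a4e27d008242219108a4623c261101, 0, 3, 0x200000412, [(0, ⟨3458, 0x140044018001800611800080200001, 0x1a1290900a010c02804⟩)]⟩]

theorem t9_872_7 : jobs 8 S9 b8_872 j9_872_7 = true := by decide +kernel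

noncomputable def j9_872_8 : List Job := [
  ⟨42, 0x520924a259309a4e27d008242219108a4623c261101, 0, 6, 0x200000412000800000a12, [(3, ⟨3457, 0x12a143015001c00601108080202001, 0x195250a40c010d02804⟩), (0, ⟨3456, 0x12a143015041c00601108080202001, 0x195250a40c010d02804⟩)]⟩]

theorem t9_872_8 : jobs 8 S9 b8_872 j9_872_8 = true := by decide +kernel

noncomputable def j9_872_9 : List Job := [
  ⟨41, 0x45e2d13894160901, 0, 7, 0x201000601000a25000e24, []⟩]

theorem t9_872_9 : jobs 8 S9 b8_872 j9_872_9 = true := by decide +kernel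

noncomputable def j9_872_10 : List Job := [
  ⟨40, 0x45e2d13894160901, 0, 9, 0x227000626000a01001001, []⟩]

theorem t9_872_10 : jobs 8 S9 b8_872 j9_872_10 = true := by decide +kernel

noncomputable def j9_872_11 : List Job := [
  ⟨39, 0x4180f0402c0e0501, 0, 4, 0x0, []⟩]

theorem t9_872_11 : jobs 8 S9 b8_872 j9_872_11 = true := by decide +kernel

noncomputable def j9_872_12 : List Job := [
  ⟨38, 0x4582f13894100b01, 0, 3, 0x225000624, []⟩]

theorem t9_872_12 : jobs 8 S9 b8_872 j9_872_12 = true := by decide +kernel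

noncomputable def j9_872_13 : List Job := [
  ⟨37, 0x4582f13894100b01, 0, 3, 0x227000626, []⟩]

theorem t9_872_13 : jobs 8 S9 b8_872 j9_872_13 = true := by decide +kernel

noncomputable def j9_872_14 : List Job := [
  ⟨36, 0x4502b1008c160901, 0, 4, 0x201000601, []⟩]

theorem t9_872_14 : jobs 8 S9 b8_872 j9_872_14 = true := by decide +kernel

noncomputable def j9_872_15 : List Job := [
  ⟨35, 0x4582f140ac4e2511884180f0402c0e0501, 0, 17, 0x201000801000a01000c01000e01001401001601001827001a01002001, []⟩]

theorem t9_872_15 : jobs 8 S9 b8_872 j9_872_15 = true := by decide +kernel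

noncomputable def j9_872_16 : List Job := [
  ⟨34, 0x4582f140ac4e2511884180f0402c0e0501, 0, 15, 0x220000401000601000801000a01000e01001201001400001601001c00001e01, [(13, ⟨3460, 0x2b805600d800d0408110041010104001, 0x1ba270b808130102002⟩), (9, ⟨3461, 0x2b805600d810d0008010001010100001, 0x1ba270b808130102002⟩)]⟩]

theorem t9_872_16 : jobs 8 S9 b8_872 j9_872_16 = true := by decide +kernel

noncomputable def j9_872_17 : List Job := [
  ⟨33, 0x4502b1008c100b01, 0, 4, 0x201000601, []⟩]

theorem t9_872_17 : jobs 8 S9 b8_872 j9_872_17 = true := by decide +kernel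

noncomputable def j9_872_18 : List Job := [
  ⟨32, 0x45e2d1209c100b01, 0, 6, 0xa02000c03, []⟩]

theorem t9_872_18 : jobs 8 S9 b8_872 j9_872_18 = true := by decide +kernel

noncomputable def j9_872_19 : List Job := [
  ⟨31, 0x540a25229950aa562b960b25a2d970ba5e2fd008242219108a4623920924a259309a4e27c5e2d1209c100b01, 0, 6, 0xa03, []⟩]

theorem t9_872_19 : jobs 8 S9 b8_872 j9_872_19 = true := by decide +kernel

noncomputable def j9_872_20 : List Job := [
  ⟨30, 0x504864523924944d27500844423120964c27c180f05824080701, 0, 8, 0xa03000c02, []⟩]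

theorem t9_872_20 : jobs 8 S9 b8_872 j9_872_20 = true := by decide +kernel

noncomputable def j9_872_21 : List Job := [
  ⟨29, 0x4582f13894100b01, 0, 7, 0x202000603, []⟩]

theorem t9_872_21 : jobs 8 S9 b8_872 j9_872_21 = true := by decide +kernel

noncomputable def j9_872_22 : List Job := [
  ⟨28, 0x540a25229950aa562b960b25a2d970ba5e2fd008242219108a4623920924a259309a4e27c582f13894100b01, 0, 9, 0x202, []⟩]

theorem t9_872_22 : jobs 8 S9 b8_872 j9_872_22 = true := by decide +kernel

noncomputable def j9_872_23 : List Job := [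
  ⟨27, 0x5008242219108a4623920924a259309a4e27c582f1008c180f01, 0, 12, 0x201000601000a03000e01001201001601, []⟩]

theorem t9_872_23 : jobs 8 S9 b8_872 j9_872_23 = true := by decide +kernel

noncomputable def j9_872_24 : List Job := [
  ⟨26, 0x4482711884080701, 0, 9, 0x603000802000e01, []⟩]

theorem t9_872_24 : jobs 8 S9 b8_872 j9_872_24 = true := by decide +kernel

noncomputable def j9_872_25 : List Job := [
  ⟨25, 0x540a25229950aa562b960b25a2d970ba5e2fd008242219108a4623920924a259309a4e27c482711884080701, 0, 9, 0x223000802000e01, []⟩]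

theorem t9_872_25 : jobs 8 S9 b8_872 j9_872_25 = true := by decide +kernel

noncomputable def j9_872_26 : List Job := [
  ⟨24, 0x5008242219108a4623920924a259309a4e27c502b1008c100b01, 0, 8, 0x201000402000601000802000a03000c01000e03, []⟩]

theorem t9_872_26 : jobs 8 S9 b8_872 j9_872_26 = true := by decide +kernel

noncomputable def j9_872_27 : List Job := [
  ⟨23, 0x4582f158a4482711884180f05824080701, 0, 12, 0x208000801000a01001001001201001401001601001801, []⟩]

theorem t9_872_27 : jobs 8 S9 b8_872 j9_872_27 = true := by decide +kernel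

noncomputable def j9_872_28 : List Job := [
  ⟨22, 0x544a6552b964b45d2f540a4542b160b65c2fd04864523924944d27500844423120964c27c582f158a4482711884180f05824080701, 0, 23, 0x208000820000e01001201001c00001e01002001002401002a01002c01, [(13, ⟨3459, 0x478059004604280820010020e000408001, 0x1912b0a8081b0402c02⟩)]⟩]

theorem t9_872_28 : jobs 8 S9 b8_872 j9_872_28 = true := by decide +kernel

noncomputable def j9_872_29 : List Job := [
  ⟨21, 0x5008242219108a4623920924a259309a4e27c582f1008c1e0d01, 0, 12, 0x202000601000a01000e01001201001601, []⟩]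

theorem t9_872_29 : jobs 8 S9 b8_872 j9_872_29 = true := by decide +kernel

noncomputable def j9_872_30 : List Job := [
  ⟨20, 0x44e25118840e0501, 0, 9, 0x202000603000801000e01, []⟩]

theorem t9_872_30 : jobs 8 S9 b8_872 j9_872_30 = true := by decide +kernel

noncomputable def j9_872_31 : List Job := [
  ⟨19, 0x540a25229950aa562b960b25a2d970ba5e2fd008242219108a4623920924a259309a4e27c4e25118840e0501, 0, 21, 0x222000a01001001001401001601001a01001c01002001002601, []⟩]

theorem t9_872_31 : jobs 8 S9 b8_872 j9_872_31 = true := by decide +kernel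

noncomputable def j9_872_32 : List Job := [
  ⟨18, 0x5008242219108a4623920924a259309a4e27c502b1008c100b01, 0, 8, 0x202000401000602000a01000c01000e01001001, []⟩]

theorem t9_872_32 : jobs 8 S9 b8_872 j9_872_32 = true := by decide +kernel

noncomputable def j9_872_33 : List Job := [
  ⟨12, 0x4fe7d2f974462101, 0, 10, 0x0, []⟩]

theorem t9_872_33 : jobs 8 S9 b8_872 j9_872_33 = true := by decide +kernel

noncomputable def j9_872_34 : List Job := [
  ⟨4, 0x4643b180e4160901, 0, 8, 0x0, []⟩]

theorem t9_872_34 : jobs 8 S9 b8_872 j9_872_34 = true := by decide +kernel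

noncomputable def j9_872_35 : List Job := [
  ⟨0, 0x46c3f1a0f4160901, 0, 2, 0x201000401, []⟩]

theorem t9_872_35 : jobs 8 S9 b8_872 j9_872_35 = true := by decide +kernel

theorem d9_872 : Dn 8 S9 b8_872 := dn_of (Js := j9_872_0 ++ (j9_872_1 ++ (j9_872_2 ++ (j9_872_3 ++ (j9_872_4 ++ (j9_872_5 ++ (j9_872_6 ++ (j9_872_7 ++ (j9_872_8 ++ (j9_872_9 ++ (j9_872_10 ++ (j9_872_11 ++ (j9_872_12 ++ (j9_872_13 ++ (j9_872_14 ++ (j9_872_15 ++ (j9_872_16 ++ (j9_872_17 ++ (j9_872_18 ++ (j9_872_19 ++ (j9_872_20 ++ (j9_872_21 ++ (j9_872_22 ++ (j9_872_23 ++ (j9_872_24 ++ (j9_872_25 ++ (j9_872_26 ++ (j9_872_27 ++ (j9_872_28 ++ (j9_872_29 ++ (j9_872_30 ++ (j9_872_31 ++ (j9_872_32 ++ (j9_872_33 ++ (j9_872_34 ++ (j9_872_35 ++ []))))))))))))))))))))))))))))))))))))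
  (jobs_append t9_872_0 <| jobs_append t9_872_1 <| jobs_append t9_872_2 <| jobs_append t9_872_3 <| jobs_append t9_872_4 <| jobs_append t9_872_5 <| jobs_append t9_872_6 <| jobs_append t9_872_7 <| jobs_append t9_872_8 <| jobs_append t9_872_9 <| jobs_append t9_872_10 <| jobs_append t9_872_11 <| jobs_append t9_872_12 <| jobs_append t9_872_13 <| jobs_append t9_872_14 <| jobs_append t9_872_15 <| jobs_append t9_872_16 <| jobs_append t9_872_17 <| jobs_append t9_872_18 <| jobs_append t9_872_19 <| jobs_append t9_872_20 <| jobs_append t9_872_21 <| jobs_append t9_872_22 <| jobs_append t9_872_23 <| jobs_append t9_872_24 <| jobs_append t9_872_25 <| jobs_append t9_872_26 <| jobs_append t9_872_27 <| jobs_append t9_872_28 <| jobs_append t9_872_29 <| jobs_append t9_872_30 <| jobs_append t9_872_31 <| jobs_append t9_872_32 <| jobs_append t9_872_33 <| jobs_append t9_872_34 <| jobs_append t9_872_35 <| List.forall_mem_nil _) (by decide +kernel)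

noncomputable def j9_873_0 : List Job := [
  ⟨63, 0x464361c0fc60341d0f4100a0603c080701, 0, 2, 0x203, []⟩]

theorem t9_873_0 : jobs 8 S9 b8_873 j9_873_0 = true := by decide +kernel

noncomputable def j9_873_1 : List Job := [
  ⟨62, 0x548a6562b968b65c2ed40a2542a960b25e2fd08864623928964c26d00824422920924e27c64361c0fc60341d0f4100a0603c080701, 0, 2, 0x0, []⟩]

theorem t9_873_1 : jobs 8 S9 b8_873 j9_873_1 = true := by decide +kernel

noncomputable def j9_873_2 : List Job := [
  ⟨61, 0x424160d07420140c07c100a0603c080701, 0, 2, 0x203, []⟩]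

theorem t9_873_2 : jobs 8 S9 b8_873 j9_873_2 = true := by decide +kernel

noncomputable def j9_873_3 : List Job := [
  ⟨60, 0x548a6562b968b65c2ed40a2542a960b25e2fd08864623928964c26d00824422920924e27c24160d07420140c07c100a0603c080701, 0, 2, 0x0, []⟩]

theorem t9_873_3 : jobs 8 S9 b8_873 j9_873_3 = true := by decide +kernel

noncomputable def j9_873_4 : List Job := [
  ⟨59, 0x548a6562b968b65c2ed00824422920924e27c60321a0d8703a1e0fc502a160bc080701, 0, 6, 0x0, []⟩]

theorem t9_873_4 : jobs 8 S9 b8_873 j9_873_4 = true := by decide +kernel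

noncomputable def j9_873_5 : List Job := [
  ⟨58, 0x548a6562b968b65c2ed00824422920924e27c502a160bc20120a058301a0e07c080701, 0, 6, 0x0, []⟩]

theorem t9_873_5 : jobs 8 S9 b8_873 j9_873_5 = true := by decide +kernel

noncomputable def j9_873_6 : List Job := [
  ⟨57, 0x508864623928964c26d00824422920924e27c502a160bc48271008c100a0603c080701, 0, 8, 0x200000401000601, [(0, ⟨3479, 0x270044049800a0444104040800100001, 0x19e2209812120200802⟩)]⟩]

theorem t9_873_6 : jobs 8 S9 b8_873 j9_873_6 = true := by decide +kernel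

noncomputable def j9_873_7 : List Job := [
  ⟨56, 0x508864623928964c26d00824422920924e27c60321a0d8703a1e0fc502a160bc48271008c24160d07420140c07c100a0603c080701, 0, 16, 0x200000400000a00001201001c00, [(13, ⟨3478, 0x274045009810b0444105040800100001, 0x19e2209c12130280802⟩), (4, ⟨3476, 0x274045009810b0444105000810100001, 0x19e2209c12130280802⟩), (1, ⟨3477, 0x274145009810b0044105000810100001, 0x19e2209c12130280802⟩), (0, ⟨3475, 0x274045009800b0044105000810100001, 0x19e2209c12130280802⟩)]⟩]

theorem t9_873_7 : jobs 8 S9 b8_873 j9_873_7 = true := by decide +kernel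

noncomputable def j9_873_8 : List Job := [
  ⟨55, 0x540a2542a960b25e2fd00824422920924e27c482711884080701, 0, 12, 0x202000803001001001220001601001800, [(11, ⟨3474, 0x274144009c10a0040105040c00100001, 0x19e2209810130280c02⟩)]⟩]

theorem t9_873_8 : jobs 8 S9 b8_873 j9_873_8 = true := by decide +kernel

noncomputable def j9_873_9 : List Job := [
  ⟨54, 0x540a2542a960b25e2fd00824422920924e27c60321a0d8703a1e0fc48271188420120a058301a0e07c080701, 0, 18, 0x202000e00001001001601001a00001c01001e01002201002401, [(12, ⟨3473, 0x270045049c00b0440104000c10104001, 0x19e2209c10120200c02⟩), (6, ⟨3472, 0x270145009c00b0040004040c10104001, 0x19e2209c10120200c02⟩)]⟩]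

theorem t9_873_9 : jobs 8 S9 b8_873 j9_873_9 = true := by decide +kernel

noncomputable def j9_873_10 : List Job := [
  ⟨53, 0x4180f05824080701, 0, 2, 0x20a000400, [(1, ⟨3471, 0xa904002101c10c10b1030010001, 0x1a42008432060780c02⟩)]⟩]

theorem t9_873_10 : jobs 8 S9 b8_873 j9_873_10 = true := by decide +kernel

noncomputable def j9_873_11 : List Job := [
  ⟨52, 0x4180f05824080701, 0, 4, 0x201000401000601000801, []⟩]

theorem t9_873_11 : jobs 8 S9 b8_873 j9_873_11 = true := by decide +kernel

noncomputable def j9_873_12 : List Job := [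
  ⟨49, 0x41e0d0402c080701, 0, 2, 0x0, []⟩]

theorem t9_873_12 : jobs 8 S9 b8_873 j9_873_12 = true := by decide +kernel

noncomputable def j9_873_13 : List Job := [
  ⟨48, 0x41e0d0402c080701, 0, 2, 0x0, []⟩]

theorem t9_873_13 : jobs 8 S9 b8_873 j9_873_13 = true := by decide +kernel

noncomputable def j9_873_14 : List Job := [
  ⟨47, 0x4944e29154904c2815c301a0e07c080701, 0, 4, 0x202000602, []⟩]

theorem t9_873_14 : jobs 8 S9 b8_873 j9_873_14 = true := by decide +kernel

noncomputable def j9_873_15 : List Job := [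
  ⟨46, 0x4904a26138a0522a15c804222118b05a2e17c1e0d0402c080701, 0, 8, 0x20d00060d000a01, []⟩]

theorem t9_873_15 : jobs 8 S9 b8_873 j9_873_15 = true := by decide +kernel

noncomputable def j9_873_16 : List Job := [
  ⟨45, 0x4904a26138a0522a15c804222118b05a2e17c1e0d0402c080701, 0, 8, 0x20c00060c000a01, []⟩]

theorem t9_873_16 : jobs 8 S9 b8_873 j9_873_16 = true := by decide +kernel

noncomputable def j9_873_17 : List Job := [
  ⟨44, 0x484462d17480442c17c301a0e07c080701, 0, 4, 0x0, []⟩]

theorem t9_873_17 : jobs 8 S9 b8_873 j9_873_17 = true := by decide +kernel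

noncomputable def j9_873_18 : List Job := [
  ⟨43, 0x4904a26138a0522a15c20120a05c080701, 0, 4, 0x202000602, []⟩]

theorem t9_873_18 : jobs 8 S9 b8_873 j9_873_18 = true := by decide +kernel

noncomputable def j9_873_19 : List Job := [
  ⟨42, 0x4804222118b05a2e17c20120a05c080701, 0, 4, 0x0, []⟩]

theorem t9_873_19 : jobs 8 S9 b8_873 j9_873_19 = true := by decide +kernel

noncomputable def j9_873_20 : List Job := [
  ⟨41, 0x4301a0e07c20120a05c180f0402c080701, 0, 2, 0x401, []⟩]

theorem t9_873_20 : jobs 8 S9 b8_873 j9_873_20 = true := by decide +kernel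

noncomputable def j9_873_21 : List Job := [
  ⟨40, 0x41e0d0402c080701, 0, 2, 0x202000402, []⟩]

theorem t9_873_21 : jobs 8 S9 b8_873 j9_873_21 = true := by decide +kernel

noncomputable def j9_873_22 : List Job := [
  ⟨39, 0x4904a26138a0522a15c84462d17480442c17c301a0e07c20120a05c180f0402c080701, 0, 8, 0xe01, []⟩]

theorem t9_873_22 : jobs 8 S9 b8_873 j9_873_22 = true := by decide +kernel

noncomputable def j9_873_23 : List Job := [
  ⟨38, 0x4904a26138a0522a15c804222118b05a2e17c1e0d0402c080701, 0, 8, 0x202000601000a01000e01, []⟩]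

theorem t9_873_23 : jobs 8 S9 b8_873 j9_873_23 = true := by decide +kernel

noncomputable def j9_873_24 : List Job := [
  ⟨37, 0x4180f05824080701, 0, 2, 0x0, []⟩]

theorem t9_873_24 : jobs 8 S9 b8_873 j9_873_24 = true := by decide +kernel

noncomputable def j9_873_25 : List Job := [
  ⟨36, 0x4904a26138a0522a15c804222118b05a2e17c180f05824080701, 0, 8, 0x209000609000a0a001001, []⟩]

theorem t9_873_25 : jobs 8 S9 b8_873 j9_873_25 = true := by decide +kernel

noncomputable def j9_873_26 : List Job := [
  ⟨34, 0x500824422920924c26940a2562b960b25e2fc281709844080701, 0, 8, 0x0, []⟩]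

theorem t9_873_26 : jobs 8 S9 b8_873 j9_873_26 = true := by decide +kernel

noncomputable def j9_873_27 : List Job := [
  ⟨32, 0x500824422920924c26940a2562b960b25e2fc281709844080701, 0, 4, 0x0, []⟩]

theorem t9_873_27 : jobs 8 S9 b8_873 j9_873_27 = true := by decide +kernel

noncomputable def j9_873_28 : List Job := [
  ⟨30, 0x4a0522a158b05a2e17c804222118904a2613c2e150804c080701, 0, 4, 0x201000600, [(2, ⟨3470, 0x112156010847800e10f08184040001, 0x18c28884280d0500c02⟩)]⟩]

theorem t9_873_28 : jobs 8 S9 b8_873 j9_873_28 = true := by decide +kernel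

noncomputable def j9_873_29 : List Job := [
  ⟨27, 0x500824422920924c26940a2562b960b25e2fca0522a158b05a2e17c301a0e07c080701, 0, 8, 0xa02000e02, []⟩]

theorem t9_873_29 : jobs 8 S9 b8_873 j9_873_29 = true := by decide +kernel

noncomputable def j9_873_30 : List Job := [
  ⟨26, 0x500824422920924c26940a2562b960b25e2fc281709844080701, 0, 8, 0x202000403, []⟩]

theorem t9_873_30 : jobs 8 S9 b8_873 j9_873_30 = true := by decide +kernel

noncomputable def j9_873_31 : List Job := [
  ⟨25, 0x500824422920924c26940a2562b960b25e2fc804222118904a2613c301a0e07c080701, 0, 8, 0x0, []⟩]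

theorem t9_873_31 : jobs 8 S9 b8_873 j9_873_31 = true := by decide +kernel

noncomputable def j9_873_32 : List Job := [
  ⟨24, 0x500824422920924c26940a2562b960b25e2fca0522a158b05a2e17c804222118904a2613c281709844080701, 0, 24, 0xa03001212001612001a01001c01001e01002001002200002400002601002801002a10002e10, [(17, ⟨3469, 0x29815f048811a041c10e000c10100001, 0x1aa2b08c3e0c0500c02⟩), (16, ⟨3468, 0x29815f048801a041c10e000c10100001, 0x1aa2b08c3e0c0500c02⟩)]⟩]

theorem t9_873_32 : jobs 8 S9 b8_873 j9_873_32 = true := by decide +kernel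

noncomputable def j9_873_33 : List Job := [
  ⟨23, 0x4a0522a158b05a2e17c301a0e07c080701, 0, 4, 0x803, []⟩]

theorem t9_873_33 : jobs 8 S9 b8_873 j9_873_33 = true := by decide +kernel

noncomputable def j9_873_34 : List Job := [
  ⟨22, 0x508864623928964e27948a6542a968b65c2ed00824422920924c26940a2562b960b25e2fca0522a158b05a2e17c301a0e07c080701, 0, 4, 0x803, []⟩]

theorem t9_873_34 : jobs 8 S9 b8_873 j9_873_34 = true := by decide +kernel

noncomputable def j9_873_35 : List Job := [
  ⟨21, 0x42e150804c080701, 0, 4, 0x202000403, []⟩]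

theorem t9_873_35 : jobs 8 S9 b8_873 j9_873_35 = true := by decide +kernel

noncomputable def j9_873_36 : List Job := [
  ⟨20, 0x508864623928964e27948a6542a968b65c2ed00824422920924c26940a2562b960b25e2fc2e150804c080701, 0, 4, 0x202000403, []⟩]

theorem t9_873_36 : jobs 8 S9 b8_873 j9_873_36 = true := by decide +kernel

noncomputable def j9_873_37 : List Job := [
  ⟨19, 0x4804222118904a2613c301a0e07c080701, 0, 4, 0x0, []⟩]

theorem t9_873_37 : jobs 8 S9 b8_873 j9_873_37 = true := by decide +kernel

noncomputable def j9_873_38 : List Job := [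
  ⟨18, 0x508864623928964e27948a6542a968b65c2ed00824422920924c26940a2562b960b25e2fc804222118904a2613c301a0e07c080701, 0, 4, 0x0, []⟩]

theorem t9_873_38 : jobs 8 S9 b8_873 j9_873_38 = true := by decide +kernel

noncomputable def j9_873_39 : List Job := [
  ⟨17, 0x4a0522a158b05a2e17c804222118904a2613c2e150804c080701, 0, 16, 0x203000a01000e01001214001415001614001815001a01001e00002001, [(14, ⟨3467, 0x29815c048c11b041c10e040800100001, 0x1aa2a08c3e0c0580802⟩)]⟩]

theorem t9_873_39 : jobs 8 S9 b8_873 j9_873_39 = true := by decide +kernel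

noncomputable def j9_873_40 : List Job := [
  ⟨16, 0x508864623928964e27948a6542a968b65c2ed00824422920924c26940a2562b960b25e2fca0522a158b05a2e17c804222118904a2613c2e150804c080701, 0, 16, 0x201000601000a14000e14001203001a01001e00, [(14, ⟨3466, 0x26015f0490017041800e040c10100001, 0x198288a8300d0580c02⟩)]⟩]

theorem t9_873_40 : jobs 8 S9 b8_873 j9_873_40 = true := by decide +kernel

noncomputable def j9_873_41 : List Job := [
  ⟨15, 0x500824422920924c26940a2562b960b25e2fca4562c17ca0542d174100a0603c080701, 0, 8, 0x202000602000c03001003, []⟩]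

theorem t9_873_41 : jobs 8 S9 b8_873 j9_873_41 = true := by decide +kernel

noncomputable def j9_873_42 : List Job := [
  ⟨14, 0x500824422920924c26940a2562b960b25e2fc301a0e07c28170804c100a0603c080701, 0, 8, 0xa01000c01001001, []⟩]

theorem t9_873_42 : jobs 8 S9 b8_873 j9_873_42 = true := by decide +kernel

noncomputable def j9_873_43 : List Job := [
  ⟨13, 0x500824422920924c26940a2562b960b25e2fc84462513480442413c100a0603c080701, 0, 8, 0x0, []⟩]

theorem t9_873_43 : jobs 8 S9 b8_873 j9_873_43 = true := by decide +kernel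

noncomputable def j9_873_44 : List Job := [
  ⟨12, 0x500824422920924c26940a2562b960b25e2fca0522a158b05a2e17c84462513480442413c301a0e07c28170804c100a0603c080701, 0, 24, 0x200000400000a01001a01001e01002201, [(1, ⟨3465, 0x29815e008c01a001810e000c10104001, 0x1aa2b0883e0c0580c02⟩), (0, ⟨3464, 0x29815e008c11a001810e000c10104001, 0x1aa2b0883e0c0580c02⟩)]⟩]

theorem t9_873_44 : jobs 8 S9 b8_873 j9_873_44 = true := by decide +kernel

noncomputable def j9_873_45 : List Job := [
  ⟨8, 0x5008242219108a4623920924a259309a4e27940a25229950aa562b960b25a2d970ba5e2fc844b20124160901, 0, 8, 0x0, []⟩]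

theorem t9_873_45 : jobs 8 S9 b8_873 j9_873_45 = true := by decide +kernel

noncomputable def j9_873_46 : List Job := [
  ⟨3, 0x4180f05824080701, 0, 2, 0x0, []⟩]

theorem t9_873_46 : jobs 8 S9 b8_873 j9_873_46 = true := by decide +kernel

noncomputable def j9_873_47 : List Job := [
  ⟨2, 0x4502b11884100b01, 0, 3, 0x203000603, []⟩]

theorem t9_873_47 : jobs 8 S9 b8_873 j9_873_47 = true := by decide +kernel

noncomputable def j9_873_48 : List Job := [
  ⟨1, 0x456291008c100b01, 0, 3, 0x203000603, []⟩]

theorem t9_873_48 : jobs 8 S9 b8_873 j9_873_48 = true := by decide +kernel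

noncomputable def j9_873_49 : List Job := [
  ⟨0, 0x45e2d140ac4e251008c180f05824080701, 0, 11, 0x201000401000600000801000a01000e01001001001201001409, [(2, ⟨3463, 0x29404f04dc00d0008117001c10104001, 0x1aa298900c1a0582002⟩)]⟩]

theorem t9_873_49 : jobs 8 S9 b8_873 j9_873_49 = true := by decide +kernel

theorem d9_873 : Dn 8 S9 b8_873 := dn_of (Js := j9_873_0 ++ (j9_873_1 ++ (j9_873_2 ++ (j9_873_3 ++ (j9_873_4 ++ (j9_873_5 ++ (j9_873_6 ++ (j9_873_7 ++ (j9_873_8 ++ (j9_873_9 ++ (j9_873_10 ++ (j9_873_11 ++ (j9_873_12 ++ (j9_873_13 ++ (j9_873_14 ++ (j9_873_15 ++ (j9_873_16 ++ (j9_873_17 ++ (j9_873_18 ++ (j9_873_19 ++ (j9_873_20 ++ (j9_873_21 ++ (j9_873_22 ++ (j9_873_23 ++ (j9_873_24 ++ (j9_873_25 ++ (j9_873_26 ++ (j9_873_27 ++ (j9_873_28 ++ (j9_873_29 ++ (j9_873_30 ++ (j9_873_31 ++ (j9_873_32 ++ (j9_873_33 ++ (j9_873_34 ++ (j9_873_35 ++ (j9_873_36 ++ (j9_873_37 ++ (j9_873_38 ++ (j9_873_39 ++ (j9_873_40 ++ (j9_873_41 ++ (j9_873_42 ++ (j9_873_43 ++ (j9_873_44 ++ (j9_873_45 ++ (j9_873_46 ++ (j9_873_47 ++ (j9_873_48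 ++ (j9_873_49 ++ []))))))))))))))))))))))))))))))))))))))))))))))))))
  (jobs_append t9_873_0 <| jobs_append t9_873_1 <| jobs_append t9_873_2 <| jobs_append t9_873_3 <| jobs_append t9_873_4 <| jobs_append t9_873_5 <| jobs_append t9_873_6 <| jobs_append t9_873_7 <| jobs_append t9_873_8 <| jobs_append t9_873_9 <| jobs_append t9_873_10 <| jobs_append t9_873_11 <| jobs_append t9_873_12 <| jobs_append t9_873_13 <| jobs_append t9_873_14 <| jobs_append t9_873_15 <| jobs_append t9_873_16 <| jobs_append t9_873_17 <| jobs_append t9_873_18 <| jobs_append t9_873_19 <| jobs_append t9_873_20 <| jobs_append t9_873_21 <| jobs_append t9_873_22 <| jobs_append t9_873_23 <| jobs_append t9_873_24 <| jobs_append t9_873_25 <| jobs_append t9_873_26 <| jobs_append t9_873_27 <| jobs_append t9_873_28 <| jobs_append t9_873_29 <| jobs_append t9_873_30 <| jobs_append t9_873_31 <| jobs_append t9_873_32 <| jobs_append t9_873_33 <| jobs_append t9_873_34 <| jobs_append t9_873_35 <| jobs_append t9_873_36 <| jobs_append t9_873_37 <| jobs_append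 t9_873_38 <| jobs_append t9_873_39 <| jobs_append t9_873_40 <| jobs_append t9_873_41 <| jobs_append t9_873_42 <| jobs_append t9_873_43 <| jobs_append t9_873_44 <| jobs_append t9_873_45 <| jobs_append t9_873_46 <| jobs_append t9_873_47 <| jobs_append t9_873_48 <| jobs_append t9_873_49 <| List.forall_mem_nil _) (by decide +kernel)

noncomputable def j9_874_0 : List Job := [
  ⟨63, 0x4261101, 0, 3, 0x0, []⟩]

theorem t9_874_0 : jobs 8 S9 b8_874 j9_874_0 = true := by decide +kernel

noncomputable def j9_874_1 : List Job := [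
  ⟨59, 0x580c26231990ca66339a0d26a359b0da6e379c0e272399d0ea763b9e0f27a3d9f0fa7e3fd008242219108a4623920924a259309a4e27940a25229950aa562b960b25a2d970ba5e2fc3e1d01, 0, 6, 0xa01, []⟩]

theorem t9_874_1 : jobs 8 S9 b8_874 j9_874_1 = true := by decide +kernel

noncomputable def j9_874_2 : List Job := [
  ⟨51, 0x580c26231990ca66339a0d26a359b0da6e379c0e272399d0ea763b9e0f27a3d9f0fa7e3fd008242219108a4623920924a259309a4e27940a25229950aa562b960b25a2d970ba5e2fcfe7d01, 0, 6, 0x200000a00, [(4, ⟨3483, 0x13c05a017847c21e10708184042001, 0x19e2d0bc3e0f0380c02⟩), (0, ⟨3482, 0x13c15a097807c01e10708184042001, 0x19e2d0bc3e0f0380c02⟩)]⟩]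

theorem t9_874_2 : jobs 8 S9 b8_874 j9_874_2 = true := by decide +kernel

noncomputable def j9_874_3 : List Job := [
  ⟨50, 0x500824221c080701, 0, 2, 0x0, []⟩]

theorem t9_874_3 : jobs 8 S9 b8_874 j9_874_3 = true := by decide +kernel

noncomputable def j9_874_4 : List Job := [
  ⟨49, 0x500824221c180f01, 0, 4, 0x0, []⟩]

theorem t9_874_4 : jobs 8 S9 b8_874 j9_874_4 = true := by decide +kernel

noncomputable def j9_874_5 : List Job := [
  ⟨48, 0x4180f05824080701, 0, 7, 0x401000608000801000a08, []⟩]

theorem t9_874_5 : jobs 8 S9 b8_874 j9_874_5 = true := by decide +kernel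

noncomputable def j9_874_6 : List Job := [
  ⟨47, 0x5108a4623d00824221c180f05824080701, 0, 9, 0x208, []⟩]

theorem t9_874_6 : jobs 8 S9 b8_874 j9_874_6 = true := by decide +kernel

noncomputable def j9_874_7 : List Job := [
  ⟨46, 0x4160901, 0, 3, 0x0, []⟩]

theorem t9_874_7 : jobs 8 S9 b8_874 j9_874_7 = true := by decide +kernel

noncomputable def j9_874_8 : List Job := [
  ⟨45, 0x5108a4623d00824221c160901, 0, 9, 0x808000a01000e08001001, []⟩]

theorem t9_874_8 : jobs 8 S9 b8_874 j9_874_8 = true := by decide +kernel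

noncomputable def j9_874_9 : List Job := [
  ⟨44, 0x460321a0d8703a1e0fc180f0402c0e0501, 0, 2, 0x0, []⟩]

theorem t9_874_9 : jobs 8 S9 b8_874 j9_874_9 = true := by decide +kernel

noncomputable def j9_874_10 : List Job := [
  ⟨43, 0x4180f0402c0e0501, 0, 5, 0x201000401000601000801000a01, []⟩]

theorem t9_874_10 : jobs 8 S9 b8_874 j9_874_10 = true := by decide +kernel

noncomputable def j9_874_11 : List Job := [
  ⟨42, 0x4180f0402c0e0501, 0, 2, 0x201000401, []⟩]

theorem t9_874_11 : jobs 8 S9 b8_874 j9_874_11 = true := by decide +kernel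

noncomputable def j9_874_12 : List Job := [
  ⟨39, 0x4301a0e07c281709844100a0603c080701, 0, 4, 0x210000401000801, []⟩]

theorem t9_874_12 : jobs 8 S9 b8_874 j9_874_12 = true := by decide +kernel

noncomputable def j9_874_13 : List Job := [
  ⟨38, 0x4281709844080701, 0, 5, 0x201000401000601000801000a01, []⟩]

theorem t9_874_13 : jobs 8 S9 b8_874 j9_874_13 = true := by decide +kernel

noncomputable def j9_874_14 : List Job := [
  ⟨37, 0x4281709844080701, 0, 4, 0x201000401000601000801, []⟩]

theorem t9_874_14 : jobs 8 S9 b8_874 j9_874_14 = true := by decide +kernel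

noncomputable def j9_874_15 : List Job := [
  ⟨34, 0x4482711884080701, 0, 3, 0x401, []⟩]

theorem t9_874_15 : jobs 8 S9 b8_874 j9_874_15 = true := by decide +kernel

noncomputable def j9_874_16 : List Job := [
  ⟨33, 0x460321a0d8703a1e0fc48271188420120a058301a0e07c080701, 0, 6, 0x201000401000601000a01, []⟩]

theorem t9_874_16 : jobs 8 S9 b8_874 j9_874_16 = true := by decide +kernel

noncomputable def j9_874_17 : List Job := [
  ⟨29, 0x4482711884080701, 0, 5, 0x220000401000621000821000a01, []⟩]

theorem t9_874_17 : jobs 8 S9 b8_874 j9_874_17 = true := by decide +kernel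

noncomputable def j9_874_18 : List Job := [
  ⟨28, 0x4482711884080701, 0, 5, 0x200000401000600000821000a01, [(2, ⟨3480, 0x1aa056017802c22010700104042001, 0x1c4260d010130380802⟩), (0, ⟨3481, 0x1aa156017842c22010700104042001, 0x1c4260d010130380802⟩)]⟩]

theorem t9_874_18 : jobs 8 S9 b8_874 j9_874_18 = true := by decide +kernel

noncomputable def j9_874_19 : List Job := [
  ⟨24, 0x4482711884080701, 0, 5, 0x201000401000601000801000a01, []⟩]

theorem t9_874_19 : jobs 8 S9 b8_874 j9_874_19 = true := by decide +kernel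

noncomputable def j9_874_20 : List Job := [
  ⟨23, 0x4180f05824080701, 0, 2, 0x0, []⟩]

theorem t9_874_20 : jobs 8 S9 b8_874 j9_874_20 = true := by decide +kernel

noncomputable def j9_874_21 : List Job := [
  ⟨22, 0x504864423124944c27d00844523920964d274180f05824080701, 0, 6, 0x208000409000a01000c01, []⟩]

theorem t9_874_21 : jobs 8 S9 b8_874 j9_874_21 = true := by decide +kernel

noncomputable def j9_874_22 : List Job := [
  ⟨21, 0x460321a0d8703a1e0fc180f05824080701, 0, 2, 0x409, []⟩]

theorem t9_874_22 : jobs 8 S9 b8_874 j9_874_22 = true := by decide +kernel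

noncomputable def j9_874_23 : List Job := [
  ⟨20, 0x504864523924944d27500844423120964c27c60321a0d8703a1e0fc180f05824080701, 0, 6, 0x209, []⟩]

theorem t9_874_23 : jobs 8 S9 b8_874 j9_874_23 = true := by decide +kernel

noncomputable def j9_874_24 : List Job := [
  ⟨17, 0x4281709844080701, 0, 4, 0x0, []⟩]

theorem t9_874_24 : jobs 8 S9 b8_874 j9_874_24 = true := by decide +kernel

noncomputable def j9_874_25 : List Job := [
  ⟨16, 0x520924a259309a4e27d008242219108a4623c281709844080701, 0, 6, 0x210000810, []⟩]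

theorem t9_874_25 : jobs 8 S9 b8_874 j9_874_25 = true := by decide +kernel

noncomputable def j9_874_26 : List Job := [
  ⟨15, 0x4301a0e07c281709844100a0603c080701, 0, 4, 0x401000610000801, []⟩]

theorem t9_874_26 : jobs 8 S9 b8_874 j9_874_26 = true := by decide +kernel

noncomputable def j9_874_27 : List Job := [
  ⟨14, 0x524964d27520944c27d04864523500844423c301a0e07c281709844100a0603c080701, 0, 10, 0x211, []⟩]

theorem t9_874_27 : jobs 8 S9 b8_874 j9_874_27 = true := by decide +kernel

noncomputable def j9_874_28 : List Job := [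
  ⟨7, 0x4482711884080701, 0, 2, 0x0, []⟩]

theorem t9_874_28 : jobs 8 S9 b8_874 j9_874_28 = true := by decide +kernel

noncomputable def j9_874_29 : List Job := [
  ⟨6, 0x540a25229950aa562b960b25a2d970ba5e2fd008242219108a4623920924a259309a4e27c482711884080701, 0, 3, 0x401, []⟩]

theorem t9_874_29 : jobs 8 S9 b8_874 j9_874_29 = true := by decide +kernel

noncomputable def j9_874_30 : List Job := [
  ⟨5, 0x4482711884080701, 0, 4, 0x0, []⟩]

theorem t9_874_30 : jobs 8 S9 b8_874 j9_874_30 = true := by decide +kernel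

noncomputable def j9_874_31 : List Job := [
  ⟨4, 0x540a25229950aa562b960b25a2d970ba5e2fd008242219108a4623920924a259309a4e27c482711884080701, 0, 6, 0x220000820, []⟩]

theorem t9_874_31 : jobs 8 S9 b8_874 j9_874_31 = true := by decide +kernel

noncomputable def j9_874_32 : List Job := [
  ⟨1, 0x464361d0f460341c0fc502a160bc48271008c20120a058301a0e07c100a0603c080701, 0, 6, 0x0, []⟩]

theorem t9_874_32 : jobs 8 S9 b8_874 j9_874_32 = true := by decide +kernel

noncomputable def j9_874_33 : List Job := [
  ⟨0, 0x4502a160bc48271008c100a0603c080701, 0, 4, 0x201000401000601000801, []⟩]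

theorem t9_874_33 : jobs 8 S9 b8_874 j9_874_33 = true := by decide +kernel

theorem d9_874 : Dn 8 S9 b8_874 := dn_of (Js := j9_874_0 ++ (j9_874_1 ++ (j9_874_2 ++ (j9_874_3 ++ (j9_874_4 ++ (j9_874_5 ++ (j9_874_6 ++ (j9_874_7 ++ (j9_874_8 ++ (j9_874_9 ++ (j9_874_10 ++ (j9_874_11 ++ (j9_874_12 ++ (j9_874_13 ++ (j9_874_14 ++ (j9_874_15 ++ (j9_874_16 ++ (j9_874_17 ++ (j9_874_18 ++ (j9_874_19 ++ (j9_874_20 ++ (j9_874_21 ++ (j9_874_22 ++ (j9_874_23 ++ (j9_874_24 ++ (j9_874_25 ++ (j9_874_26 ++ (j9_874_27 ++ (j9_874_28 ++ (j9_874_29 ++ (j9_874_30 ++ (j9_874_31 ++ (j9_874_32 ++ (j9_874_33 ++ []))))))))))))))))))))))))))))))))))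
  (jobs_append t9_874_0 <| jobs_append t9_874_1 <| jobs_append t9_874_2 <| jobs_append t9_874_3 <| jobs_append t9_874_4 <| jobs_append t9_874_5 <| jobs_append t9_874_6 <| jobs_append t9_874_7 <| jobs_append t9_874_8 <| jobs_append t9_874_9 <| jobs_append t9_874_10 <| jobs_append t9_874_11 <| jobs_append t9_874_12 <| jobs_append t9_874_13 <| jobs_append t9_874_14 <| jobs_append t9_874_15 <| jobs_append t9_874_16 <| jobs_append t9_874_17 <| jobs_append t9_874_18 <| jobs_append t9_874_19 <| jobs_append t9_874_20 <| jobs_append t9_874_21 <| jobs_append t9_874_22 <| jobs_append t9_874_23 <| jobs_append t9_874_24 <| jobs_append t9_874_25 <| jobs_append t9_874_26 <| jobs_append t9_874_27 <| jobs_append t9_874_28 <| jobs_append t9_874_29 <| jobs_append t9_874_30 <| jobs_append t9_874_31 <| jobs_append t9_874_32 <| jobs_append t9_874_33 <| List.forall_mem_nil _) (by decide +kernel)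

noncomputable def j9_875_0 : List Job := [
  ⟨58, 0x18040a09068442a190e8844a29168c46a391e9048a4926944aa592e984ca69369c4ea793ea050a8946a452a994ea854aa956ac56ab95eb058ac966b45aad96eb85cae976bc5eaf97f40209088644229188e4824928964c269389e5028948a6542a958ae582c968b65c2e978be6030988c66432998ce68349a8d66c369b8de70389c8e6743a9d8ee783c9e8f67c3e9f8ff01, 0, 3, 0x200000400, [(1, ⟨3492, 0x7508002a11500a1050021010001, 0x140500bc2e0b0280802⟩), (0, ⟨3491, 0x7508002a11500a1050021010001, 0x140500bc2e0b0280802⟩)]⟩]

theorem t9_875_0 : jobs 8 S9 b8_875 j9_875_0 = true := by decide +kernel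

noncomputable def j9_875_1 : List Job := [
  ⟨56, 0x40e0501, 0, 3, 0x401, []⟩]

theorem t9_875_1 : jobs 8 S9 b8_875 j9_875_1 = true := by decide +kernel

noncomputable def j9_875_2 : List Job := [
  ⟨55, 0x508874020c0e0501, 0, 6, 0x204000804, []⟩]

theorem t9_875_2 : jobs 8 S9 b8_875 j9_875_2 = true := by decide +kernel

noncomputable def j9_875_3 : List Job := [
  ⟨53, 0x4864101, 0, 3, 0x0, []⟩]

theorem t9_875_3 : jobs 8 S9 b8_875 j9_875_3 = true := by decide +kernel

noncomputable def j9_875_4 : List Job := [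
  ⟨52, 0x4864101, 0, 1, 0x0, []⟩]

theorem t9_875_4 : jobs 8 S9 b8_875 j9_875_4 = true := by decide +kernel

noncomputable def j9_875_5 : List Job := [
  ⟨49, 0x4160901, 0, 3, 0x400, [(1, ⟨3490, 0xf504203800301c00110c1041001, 0x1e8280a816030085008⟩)]⟩]

theorem t9_875_5 : jobs 8 S9 b8_875 j9_875_5 = true := by decide +kernel

noncomputable def j9_875_6 : List Job := [
  ⟨48, 0x4160901, 0, 2, 0x400, [(1, ⟨3487, 0xfe04403d10211c00100c1041001, 0x1ea208bc16030084008⟩)]⟩]

theorem t9_875_6 : jobs 8 S9 b8_875 j9_875_6 = true := by decide +kernel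

noncomputable def j9_875_7 : List Job := [
  ⟨46, 0x4261101, 0, 3, 0x400, [(1, ⟨3489, 0x941461280070101031011080001, 0x1992a08410010b01804⟩)]⟩]

theorem t9_875_7 : jobs 8 S9 b8_875 j9_875_7 = true := by decide +kernel

noncomputable def j9_875_8 : List Job := [
  ⟨45, 0x4261101, 0, 2, 0x400, [(1, ⟨3488, 0x941461281070101031011080001, 0x1992a08410010b01804⟩)]⟩]

theorem t9_875_8 : jobs 8 S9 b8_875 j9_875_8 = true := by decide +kernel

noncomputable def j9_875_9 : List Job := [
  ⟨43, 0x4462101, 0, 3, 0x401, []⟩]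

theorem t9_875_9 : jobs 8 S9 b8_875 j9_875_9 = true := by decide +kernel

noncomputable def j9_875_10 : List Job := [
  ⟨42, 0x4462101, 0, 2, 0x401, []⟩]

theorem t9_875_10 : jobs 8 S9 b8_875 j9_875_10 = true := by decide +kernel

noncomputable def j9_875_11 : List Job := [
  ⟨40, 0x4462101, 0, 1, 0x201, []⟩]

theorem t9_875_11 : jobs 8 S9 b8_875 j9_875_11 = true := by decide +kernel

noncomputable def j9_875_12 : List Job := [
  ⟨38, 0x4261101, 0, 2, 0x401, []⟩]

theorem t9_875_12 : jobs 8 S9 b8_875 j9_875_12 = true := by decide +kernel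

noncomputable def j9_875_13 : List Job := [
  ⟨33, 0x44e25118840e0501, 0, 12, 0x204000401000e04001001001404, []⟩]

theorem t9_875_13 : jobs 8 S9 b8_875 j9_875_13 = true := by decide +kernel

noncomputable def j9_875_14 : List Job := [
  ⟨32, 0x41e0d01, 0, 1, 0x201, []⟩]

theorem t9_875_14 : jobs 8 S9 b8_875 j9_875_14 = true := by decide +kernel

noncomputable def j9_875_15 : List Job := [
  ⟨31, 0x4160901, 0, 1, 0x0, []⟩]

theorem t9_875_15 : jobs 8 S9 b8_875 j9_875_15 = true := by decide +kernel

noncomputable def j9_875_16 : List Job := [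
  ⟨26, 0x41e0d058240e0501, 0, 12, 0x208001404, []⟩]

theorem t9_875_16 : jobs 8 S9 b8_875 j9_875_16 = true := by decide +kernel

noncomputable def j9_875_17 : List Job := [
  ⟨19, 0x4c06232198d06a361b8e0723a1d8f07a3e1fc804222118904a26138a0522a158b05a2e17c080701, 0, 3, 0x600, [(2, ⟨3486, 0x16c056097004801200408184042001, 0x1b9288b026090200c02⟩)]⟩]

theorem t9_875_17 : jobs 8 S9 b8_875 j9_875_17 = true := by decide +kernel

noncomputable def j9_875_18 : List Job := [
  ⟨18, 0x5008242219108a4623920924a259309a4e27940a25229950aa562b960b25a2d970ba5e2fcc06232198d06a361b8e0723a1d8f07a3e1fc804222118904a26138a0522a158b05a2e17c080701, 0, 6, 0x200, [(0, ⟨3485, 0x18004001a805401400500184040001, 0x1c0200d42a0b0280c02⟩)]⟩]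

theorem t9_875_18 : jobs 8 S9 b8_875 j9_875_18 = true := by decide +kernel

noncomputable def j9_875_19 : List Job := [
  ⟨4, 0x504864925944a45d2f500844825140a65c2fc804222118904a26138a0522a158b05a2e17c402212098502a160b860321a0d8703a1e0fc080701, 0, 4, 0x201, []⟩]

theorem t9_875_19 : jobs 8 S9 b8_875 j9_875_19 = true := by decide +kernel

noncomputable def j9_875_20 : List Job := [
  ⟨0, 0x4261101, 0, 2, 0x0, []⟩]

theorem t9_875_20 : jobs 8 S9 b8_875 j9_875_20 = true := by decide +kernel

theorem d9_875 : Dn 8 S9 b8_875 := dn_of (Js := j9_875_0 ++ (j9_875_1 ++ (j9_875_2 ++ (j9_875_3 ++ (j9_875_4 ++ (j9_875_5 ++ (j9_875_6 ++ (j9_875_7 ++ (j9_875_8 ++ (j9_875_9 ++ (j9_875_10 ++ (j9_875_11 ++ (j9_875_12 ++ (j9_875_13 ++ (j9_875_14 ++ (j9_875_15 ++ (j9_875_16 ++ (j9_875_17 ++ (j9_875_18 ++ (j9_875_19 ++ (j9_875_20 ++ [])))))))))))))))))))))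
  (jobs_append t9_875_0 <| jobs_append t9_875_1 <| jobs_append t9_875_2 <| jobs_append t9_875_3 <| jobs_append t9_875_4 <| jobs_append t9_875_5 <| jobs_append t9_875_6 <| jobs_append t9_875_7 <| jobs_append t9_875_8 <| jobs_append t9_875_9 <| jobs_append t9_875_10 <| jobs_append t9_875_11 <| jobs_append t9_875_12 <| jobs_append t9_875_13 <| jobs_append t9_875_14 <| jobs_append t9_875_15 <| jobs_append t9_875_16 <| jobs_append t9_875_17 <| jobs_append t9_875_18 <| jobs_append t9_875_19 <| jobs_append t9_875_20 <| List.forall_mem_nil _) (by decide +kernel)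

end Cfsg.Agent.FS.N.Sw
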